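import Mathlib
import Cfsg.Statements.S3799
import Cfsg.Agent.Lib.Helper18.ESConstruct

set_option autoImplicit false
open Cfsg

namespace Cfsg.Agent.S3799

open Subgroup
open scoped commutatorElement

/-- abstract Heisenberg group over `ZMod p` -/
structure Heis (p n : ℕ) where
  a : Fin n → ZMod p
  b : Fin n → ZMod p
  c : ZMod p

namespace Heis

variable {p n : ℕ}

theorem ext' {x y : Heis p n} (ha : x.a = y.a) (hb : x.b = y.b) (hc : x.c = y.c) : x = y := by
  cases x; cases y; simp_all

instance : Mul (Heis p n) := ⟨fun x y => ⟨x.a + y.a, x.b + y.b, x.c + y.c + x.a ⬝ᵥ y.b⟩⟩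
instance : One (Heis p n) := ⟨⟨0, 0, 0⟩⟩
instance : Inv (Heis p n) := ⟨fun x => ⟨-x.a, -x.b, -x.c + x.a ⬝ᵥ x.b⟩⟩

@[simp] theorem mul_a (x y : Heis p n) : (x * y).a = x.a + y.a := rfl
@[simp] theorem mul_b (x y : Heis p n) : (x * y).b = x.b + y.b := rfl
@[simp] theorem mul_c (x y : Heis p n) : (x * y).c = x.c + y.c + x.a ⬝ᵥ y.b := rfl
@[simp] theorem one_a : (1 : Heis p n).a = 0 := rfl
@[simp] theorem one_b : (1 : Heis p n).b = 0 := rfl
@[simp] theorem one_c : (1 : Heis p n).c = 0 := rfl
@[simp] theorem inv_a (x : Heis p n) : (x⁻¹).a = -x.a := rfl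
@[simp] theorem inv_b (x : Heis p n) : (x⁻¹).b = -x.b := rfl
@[simp] theorem inv_c (x : Heis p n) : (x⁻¹).c = -x.c + x.a ⬝ᵥ x.b := rfl

instance : Group (Heis p n) where
  mul_assoc x y z := by
    apply ext'
    · simp [add_assoc]
    · simp [add_assoc]
    · simp only [mul_c, mul_a, mul_b, add_dotProduct, dotProduct_add]; ring
  one_mul x := by
    apply ext' <;> simp
  mul_one x := by
    apply ext' <;> simp
  inv_mul_cancel x := by
    apply ext' <;> simp

theorem pow_a (x : Heis p n) (k : ℕ) : (x ^ k).a = k • x.a := by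
  induction k with
  | zero => simp
  | succ k ih => rw [pow_succ, mul_a, ih, succ_nsmul]

theorem pow_b (x : Heis p n) (k : ℕ) : (x ^ k).b = k • x.b := by
  induction k with
  | zero => simp
  | succ k ih => rw [pow_succ, mul_b, ih, succ_nsmul]

theorem pow_c (x : Heis p n) (k : ℕ) :
    (x ^ k).c = (k : ZMod p) * x.c + (k.choose 2 : ZMod p) * (x.a ⬝ᵥ x.b) := by
  induction k with
  | zero => simp
  | succ k ih =>
    rw [pow_succ, mul_c, ih, pow_a, smul_dotProduct]
    have h : (k + 1).choose 2 = k + k.choose 2 := by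
      rw [Nat.choose_succ_succ, Nat.choose_one_right]
    rw [h]
    push_cast
    rw [nsmul_eq_mul]
    ring

theorem pow_p [Fact p.Prime] (hp : p ≠ 2) (x : Heis p n) : x ^ p = 1 := by
  have hpp : p.Prime := Fact.out
  have h2 : 2 < p := lt_of_le_of_ne hpp.two_le (Ne.symm hp)
  apply ext'
  · rw [pow_a, one_a]
    ext i
    simp
  · rw [pow_b, one_b]
    ext i
    simp
  · rw [pow_c, one_c]
    have h1 : ((p.choose 2 : ℕ) : ZMod p) = 0 := by
      rw [ZMod.natCast_eq_zero_iff]
      exact hpp.dvd_choose_self (by norm_num) h2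
    rw [h1]
    simp

theorem mem_center_iff' [NeZero p] (x : Heis p n) : x ∈ center (Heis p n) ↔ x.a = 0 ∧ x.b = 0 := by
  rw [Subgroup.mem_center_iff]
  constructor
  · intro h
    constructor
    · ext i
      have := congrArg Heis.c (h ⟨0, Pi.single i 1, 0⟩)
      simp only [mul_c, dotProduct_single, zero_dotProduct, mul_one] at this
      simpa using this.symm
    · ext i
      have := congrArg Heis.c (h ⟨Pi.single i 1, 0, 0⟩)
      simp only [mul_c, single_dotProduct, dotProduct_zero, one_mul] at this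
      simpa using this
  · rintro ⟨ha, hb⟩ y
    apply ext'
    · simp [ha]
    · simp [hb]
    · simp [ha, hb, add_comm]

theorem comm_mem_center [NeZero p] (x y : Heis p n) : ⁅x, y⁆ ∈ center (Heis p n) := by
  rw [mem_center_iff', commutatorElement_def]
  constructor
  · simp
  · simp

def equivProd : Heis p n ≃ (Fin n → ZMod p) × (Fin n → ZMod p) × ZMod p where
  toFun x := (x.a, x.b, x.c)
  invFun t := ⟨t.1, t.2.1, t.2.2⟩
  left_inv x := by cases x; rfl
  right_inv t := rfl

theorem card_eq [NeZero p] : Nat.card (Heis p n) = p ^ (1 + 2 * n) := by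
  rw [Nat.card_congr equivProd, Nat.card_prod, Nat.card_prod, Nat.card_fun, Nat.card_zmod,
    Nat.card_fin]
  ring

instance [NeZero p] : Finite (Heis p n) := Finite.of_equiv _ equivProd.symm

def centerEquiv [NeZero p] : center (Heis p n) ≃ ZMod p where
  toFun x := x.1.c
  invFun c := ⟨⟨0, 0, c⟩, (mem_center_iff' _).2 ⟨rfl, rfl⟩⟩
  left_inv x := by
    obtain ⟨x, hx⟩ := x
    obtain ⟨ha, hb⟩ := (mem_center_iff' _).1 hx
    apply Subtype.ext
    apply ext'
    · exact ha.symm
    · exact hb.symm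
    · rfl
  right_inv c := rfl

theorem card_center [NeZero p] : Nat.card (center (Heis p n)) = p := by
  rw [Nat.card_congr centerEquiv, Nat.card_zmod]

theorem exists_not_comm [Fact p.Prime] (hn : 1 ≤ n) : ∃ x y : Heis p n, x * y ≠ y * x := by
  obtain ⟨m, rfl⟩ : ∃ m, n = m + 1 := ⟨n - 1, by omega⟩
  refine ⟨⟨Pi.single 0 1, 0, 0⟩, ⟨0, Pi.single 0 1, 0⟩, ?_⟩
  intro h
  have := congrArg Heis.c h
  simp at this

theorem isExtraspecial [Fact p.Prime] (hp : p ≠ 2) (hn : 1 ≤ n) :
    Cfsg.IsExtraspecial p (Heis p n) := by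
  haveI : NeZero p := ⟨(Fact.out : p.Prime).ne_zero⟩
  apply Cfsg.Agent.Lib.Helper18.ESConstruct.isExtraspecial_of_center
  · exact IsPGroup.of_card card_eq
  · exact card_center
  · exact comm_mem_center
  · intro a
    rw [pow_p hp]
    exact one_mem _
  · exact exists_not_comm hn

/-- index type for the matrices -/
abbrev J (n : ℕ) := Unit ⊕ (Fin n ⊕ Unit)

def Mh (x : Heis p n) : Matrix (J n) (J n) (ZMod p)
  | Sum.inl _, Sum.inl _ => 1
  | Sum.inl _, Sum.inr (Sum.inl j) => x.a j
  | Sum.inl _, Sum.inr (Sum.inr _) => x.c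
  | Sum.inr (Sum.inl _), Sum.inl _ => 0
  | Sum.inr (Sum.inl i), Sum.inr (Sum.inl j) => if i = j then 1 else 0
  | Sum.inr (Sum.inl i), Sum.inr (Sum.inr _) => x.b i
  | Sum.inr (Sum.inr _), Sum.inl _ => 0
  | Sum.inr (Sum.inr _), Sum.inr (Sum.inl _) => 0
  | Sum.inr (Sum.inr _), Sum.inr (Sum.inr _) => 1

theorem Mh_one : Mh (1 : Heis p n) = 1 := by
  ext i k
  rcases i with _ | i | _ <;> rcases k with _ | k | _ <;> simp [Mh, Matrix.one_apply]

theorem Mh_mul (x y : Heis p n) : Mh (x * y) = Mh x * Mh y := by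
  ext i k
  rcases i with _ | i | _ <;> rcases k with _ | k | _ <;>
    simp [Mh, Matrix.mul_apply, Fintype.sum_sum_type, dotProduct, add_comm, add_left_comm, add_assoc]

theorem Mh_injective : Function.Injective (Mh : Heis p n → _) := by
  intro x y h
  apply ext'
  · ext j
    exact congrFun (congrFun h (Sum.inl ())) (Sum.inr (Sum.inl j))
  · ext i
    exact congrFun (congrFun h (Sum.inr (Sum.inl i))) (Sum.inr (Sum.inr ()))
  · exact congrFun (congrFun h (Sum.inl ())) (Sum.inr (Sum.inr ()))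

def MhHom : Heis p n →* Matrix (J n) (J n) (ZMod p) where
  toFun := Mh
  map_one' := Mh_one
  map_mul' := Mh_mul

noncomputable def eJ (n : ℕ) : J n ≃ Fin (n + 2) :=
  Fintype.equivFinOfCardEq (by simp [J]; ring)

noncomputable def ψ : Heis p n →* Matrix (Fin (n + 2)) (Fin (n + 2)) (ZMod p) :=
  ((Matrix.reindexAlgEquiv (ZMod p) (ZMod p) (eJ n)).toAlgHom : _ →* _).comp MhHom

theorem ψ_injective : Function.Injective (ψ : Heis p n → _) := by
  intro x y h
  apply Mh_injective
  exact (Matrix.reindexAlgEquiv (ZMod p) (ZMod p) (eJ n)).injective h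

noncomputable def φ : Heis p n →* Matrix.GeneralLinearGroup (Fin (n + 2)) (ZMod p) :=
  ψ.toHomUnits

theorem φ_injective : Function.Injective (φ : Heis p n → _) := by
  intro x y h
  apply ψ_injective
  have := congrArg Units.val h
  simpa [φ] using this

end Heis

theorem isExtraspecial_of_mulEquiv {p : ℕ} [Fact p.Prime] {G H : Type*} [Group G] [Group H]
    [Finite G] [Finite H] (e : G ≃* H) (hG : Cfsg.IsExtraspecial p G)
    (hpow : ∀ a : G, a ^ p = 1) (hna : ∃ a b : G, a * b ≠ b * a) : Cfsg.IsExtraspecial p H := by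
  have hcen : ∀ x : G, x ∈ center G → e x ∈ center H := by
    intro x hx
    rw [Subgroup.mem_center_iff] at hx ⊢
    intro y
    obtain ⟨y, rfl⟩ := e.surjective y
    rw [← map_mul, ← map_mul, hx y]
  apply Cfsg.Agent.Lib.Helper18.ESConstruct.isExtraspecial_of_center
  · exact hG.1.1.of_equiv e
  · rw [← Nat.card_congr (Subgroup.centerCongr e).toEquiv]
    exact hG.2
  · intro a b
    obtain ⟨a, rfl⟩ := e.surjective a
    obtain ⟨b, rfl⟩ := e.surjective b
    rw [← map_commutatorElement]
    apply hcen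
    rw [← hG.1.2.2, _root_.commutator_def]
    exact Subgroup.commutator_mem_commutator (mem_top _) (mem_top _)
  · intro a
    obtain ⟨a, rfl⟩ := e.surjective a
    rw [← map_pow, hpow, map_one]
    exact one_mem _
  · obtain ⟨a, b, hab⟩ := hna
    refine ⟨e a, e b, ?_⟩
    rw [← map_mul, ← map_mul]
    exact fun h => hab (e.injective h)

/-- For every odd prime p and every n ≥ 1 there is an extraspecial p-group of order p^(1+2n) and exponent p; concretely, the general linear group of degree n + 2 over the field with p elements contains such a subgroup. -/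
theorem result (p : ℕ) [Fact p.Prime] (hp : p ≠ 2) (n : ℕ) (hn : 1 ≤ n) : ∃ E : Subgroup (Matrix.GeneralLinearGroup (Fin (n + 2)) (ZMod p)), Cfsg.IsExtraspecial p ↥E ∧ Nat.card E = p ^ (1 + 2 * n) ∧ ∀ x ∈ E, x ^ p = 1 := by
  haveI : NeZero p := ⟨(Fact.out : p.Prime).ne_zero⟩
  let e : Heis p n ≃* (Heis.φ (p := p) (n := n)).range := MonoidHom.ofInjective Heis.φ_injective
  refine ⟨(Heis.φ (p := p) (n := n)).range, ?_, ?_, ?_⟩
  · exact isExtraspecial_of_mulEquiv e (Heis.isExtraspecial hp hn) (Heis.pow_p hp)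
      (Heis.exists_not_comm hn)
  · rw [← Nat.card_congr e.toEquiv, Heis.card_eq]
  · rintro x ⟨h, rfl⟩
    rw [← map_pow, Heis.pow_p hp, map_one]

end Cfsg.Agent.S3799
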