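-- Statement S3800: normalizers and centralizers of p-subgroups modulo a normal p'-subgroup.
import Cfsg.Statements.S3800
import Mathlib

set_option autoImplicit false
open Cfsg

namespace Cfsg.Agent.S3800

open Pointwise

/-- A `p`-subgroup meets a subgroup of order prime to `p` trivially. -/
theorem eq_one_of_mem_pgroup_of_mem_coprime {G : Type*} [Group G] [Finite G] {p : ℕ} [Fact p.Prime]
    (N P : Subgroup G) (hN : (Nat.card N).Coprime p) (hP : IsPGroup p P) (z : G) (hzP : z ∈ P)
    (hzN : z ∈ N) : z = 1 := by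
  obtain ⟨k, hk⟩ := hP ⟨z, hzP⟩
  have h1 : z ^ p ^ k = 1 := by simpa using congrArg Subtype.val hk
  have h2 : z ^ Nat.card N = 1 := by
    have := pow_card_eq_one' (G := N) (x := ⟨z, hzN⟩)
    exact congrArg Subtype.val this
  have h3 := (pow_gcd_eq_one (a := z)).mpr ⟨h1, h2⟩
  have hg : Nat.gcd (p ^ k) (Nat.card N) = 1 := (Nat.Coprime.pow_left k hN.symm)
  rwa [hg, pow_one] at h3

/-- Every element of `G` normalizing `P N / N` is congruent modulo `N` to an element of `N_G(P)`. -/
theorem exists_mem_normalizer {G : Type*} [Group G] [Finite G] {p : ℕ} [Fact p.Prime]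
    (N : Subgroup G) [N.Normal] (hN : (Nat.card N).Coprime p) (P : Subgroup G) (hP : IsPGroup p P)
    (g : G) (hg : ∀ x ∈ P, g * x * g⁻¹ ∈ P ⊔ N) :
    ∃ n ∈ N, n * g ∈ Subgroup.normalizer (P : Set G) := by
  classical
  set K : Subgroup G := P ⊔ N with hK
  have hPK : P ≤ K := le_sup_left
  have hNK : N ≤ K := le_sup_right
  -- the index of `P` in `K` is prime to `p`
  have hidx : ¬ p ∣ (P.subgroupOf K).index := by
    have h1 : Nat.card K = Nat.card N * N.relIndex K := by
      have := Subgroup.card_mul_index (N.subgroupOf K)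
      rw [Nat.card_congr (Subgroup.subgroupOfEquivOfLe hNK).toEquiv] at this
      exact this.symm
    have h2 : Nat.card K = Nat.card P * P.relIndex K := by
      have := Subgroup.card_mul_index (P.subgroupOf K)
      rw [Nat.card_congr (Subgroup.subgroupOfEquivOfLe hPK).toEquiv] at this
      exact this.symm
    have h3 : N.relIndex K = N.relIndex P := Subgroup.relIndex_sup_right P N
    obtain ⟨s, hs⟩ : N.relIndex P ∣ Nat.card P := Subgroup.relIndex_dvd_card N P
    have hr0 : N.relIndex P ≠ 0 := by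
      intro h0
      have : Nat.card P = 0 := by rw [hs, h0, zero_mul]
      exact (Nat.card_pos (α := P)).ne' this
    have h4 : s * P.relIndex K = Nat.card N := by
      have : N.relIndex P * (s * P.relIndex K) = N.relIndex P * Nat.card N := by
        calc N.relIndex P * (s * P.relIndex K) = (N.relIndex P * s) * P.relIndex K := by ring
          _ = Nat.card P * P.relIndex K := by rw [← hs]
          _ = Nat.card K := h2.symm
          _ = Nat.card N * N.relIndex K := h1
          _ = N.relIndex P * Nat.card N := by rw [h3]; ring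
      exact Nat.eq_of_mul_eq_mul_left (Nat.pos_of_ne_zero hr0) this
    intro hdvd
    have : p ∣ Nat.card N := by
      rw [← h4]; exact Dvd.dvd.mul_left hdvd s
    have hp : p.Prime := Fact.out
    exact hp.one_lt.ne' (Nat.eq_one_of_dvd_coprimes hN.symm (dvd_refl p) this |>.symm ▸ rfl)
  have hPK' : IsPGroup p (P.subgroupOf K) :=
    hP.comap_of_injective K.subtype (Subgroup.subtype_injective K)
  set S : Sylow p K := hPK'.toSylow hidx with hS
  -- the conjugate `g P g⁻¹` inside `K`
  set Q : Subgroup G := P.map (MulAut.conj g).toMonoidHom with hQ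
  have hQK : Q ≤ K := by
    rintro _ ⟨x, hx, rfl⟩
    simpa using hg x hx
  have hQp : IsPGroup p Q := hP.map _
  have hQK' : IsPGroup p (Q.subgroupOf K) :=
    hQp.comap_of_injective K.subtype (Subgroup.subtype_injective K)
  obtain ⟨S', hS'⟩ := hQK'.exists_le_sylow
  obtain ⟨x, hx⟩ := MulAction.exists_smul_eq K S' S
  -- `x * g` normalizes `P`
  have hxg : (x : G) * g ∈ Subgroup.normalizer (P : Set G) := by
    apply Subgroup.mem_normalizer_fintype
    intro n hn
    have h1 : (⟨g * n * g⁻¹, hg n hn⟩ : K) ∈ (S' : Subgroup K) := by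
      apply hS'
      rw [Subgroup.mem_subgroupOf]
      exact ⟨n, hn, by simp⟩
    have h2 : x * ⟨g * n * g⁻¹, hg n hn⟩ * x⁻¹ ∈ ((x • S' : Sylow p K) : Subgroup K) := by
      rw [Sylow.smul_def, Sylow.pointwise_smul_def]
      exact Subgroup.smul_mem_pointwise_smul _ (MulAut.conj x) _ h1
    rw [hx] at h2
    have h3 : x * ⟨g * n * g⁻¹, hg n hn⟩ * x⁻¹ ∈ P.subgroupOf K := h2
    rw [Subgroup.mem_subgroupOf] at h3
    have e : (x : G) * g * n * ((x : G) * g)⁻¹ = ((x * ⟨g * n * g⁻¹, hg n hn⟩ * x⁻¹ : K) : G) := by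
      simp only [Subgroup.coe_mul, Subgroup.coe_inv]
      group
    rw [SetLike.mem_coe, e]
    exact h3
  -- write `x = y * n'` with `y ∈ P`, `n' ∈ N`
  have hxK : (x : G) ∈ P ⊔ N := x.2
  rw [← SetLike.mem_coe, Subgroup.mul_normal] at hxK
  obtain ⟨y, hy, n', hn', hyn⟩ := Set.mem_mul.mp hxK
  refine ⟨n', hn', ?_⟩
  have hy' : y⁻¹ ∈ Subgroup.normalizer (P : Set G) := Subgroup.le_normalizer (Subgroup.inv_mem _ hy)
  have := Subgroup.mul_mem _ hy' hxg
  have e : y⁻¹ * ((x : G) * g) = n' * g := by rw [← hyn]; group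
  rwa [e] at this

theorem result {G : Type*} [Group G] [Finite G] {p : ℕ} [Fact p.Prime] (N : Subgroup G) [N.Normal] (hN : (Nat.card N).Coprime p) (P : Subgroup G) (hP : IsPGroup p P) : Subgroup.normalizer ((P.map (QuotientGroup.mk' N)) : Set (G ⧸ N)) = (Subgroup.normalizer (P : Set G)).map (QuotientGroup.mk' N) ∧ Subgroup.centralizer ((P.map (QuotientGroup.mk' N)) : Set (G ⧸ N)) = (Subgroup.centralizer (P : Set G)).map (QuotientGroup.mk' N) := by
  classical
  -- membership in `P ⊔ N` through the quotient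
  have hmem : ∀ z : G, (QuotientGroup.mk' N z) ∈ P.map (QuotientGroup.mk' N) → z ∈ P ⊔ N := by
    rintro z ⟨w, hw, hwz⟩
    have : w⁻¹ * z ∈ N := by
      have := (QuotientGroup.eq (s := N) (a := w) (b := z)).mp hwz
      exact this
    have e : z = w * (w⁻¹ * z) := by group
    rw [e]
    exact Subgroup.mul_mem _ (Subgroup.mem_sup_left hw) (Subgroup.mem_sup_right this)
  -- the key lifting statement
  have hlift : ∀ q : G ⧸ N, q ∈ Subgroup.normalizer ((P.map (QuotientGroup.mk' N)) : Set (G ⧸ N)) →
      ∃ g' ∈ Subgroup.normalizer (P : Set G), QuotientGroup.mk' N g' = q := by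
    intro q hq
    obtain ⟨g, rfl⟩ := QuotientGroup.mk'_surjective N q
    have hg : ∀ x ∈ P, g * x * g⁻¹ ∈ P ⊔ N := by
      intro x hx
      apply hmem
      have := (Subgroup.mem_normalizer_iff.mp hq (QuotientGroup.mk' N x)).mp ⟨x, hx, rfl⟩
      simpa using this
    obtain ⟨n, hn, hng⟩ := exists_mem_normalizer N hN P hP g hg
    refine ⟨n * g, hng, ?_⟩
    rw [map_mul]
    have : QuotientGroup.mk' N n = 1 := (QuotientGroup.eq_one_iff n).mpr hn
    rw [this, one_mul]
  constructor
  · apply le_antisymm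
    · intro q hq
      obtain ⟨g', hg', rfl⟩ := hlift q hq
      exact ⟨g', hg', rfl⟩
    · exact Subgroup.le_normalizer_map _
  · apply le_antisymm
    · intro q hq
      have hqn : q ∈ Subgroup.normalizer ((P.map (QuotientGroup.mk' N)) : Set (G ⧸ N)) := by
        rw [Subgroup.mem_normalizer_iff]
        intro h
        have hcomm : ∀ h ∈ P.map (QuotientGroup.mk' N), q * h * q⁻¹ = h := by
          intro h hh
          have := Subgroup.mem_centralizer_iff.mp hq h hh
          rw [← this]; group
        constructor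
        · intro hh
          rw [hcomm h hh]; exact hh
        · intro hh
          have := hcomm _ hh
          have e : q * (q * h * q⁻¹) * q⁻¹ = q * h * q⁻¹ := this
          have : q * h * q⁻¹ = h := by
            have h2 : q⁻¹ * (q * (q * h * q⁻¹) * q⁻¹) * q = q⁻¹ * (q * h * q⁻¹) * q := by rw [e]
            have l : q⁻¹ * (q * (q * h * q⁻¹) * q⁻¹) * q = q * h * q⁻¹ := by group
            have r : q⁻¹ * (q * h * q⁻¹) * q = h := by group
            rw [l, r] at h2
            exact h2
          rw [← this]; exact hh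
      obtain ⟨g', hg', rfl⟩ := hlift q hqn
      refine ⟨g', ?_, rfl⟩
      rw [SetLike.mem_coe, Subgroup.mem_centralizer_iff]
      intro x hx
      -- `g' x g'⁻¹ x⁻¹ ∈ P ∩ N`
      have h1 : g' * x * g'⁻¹ ∈ P := (Subgroup.mem_normalizer_iff.mp hg' x).mp hx
      have h2 : g' * x * g'⁻¹ * x⁻¹ ∈ P := Subgroup.mul_mem _ h1 (Subgroup.inv_mem _ hx)
      have h3 : g' * x * g'⁻¹ * x⁻¹ ∈ N := by
        rw [← QuotientGroup.eq_one_iff]
        have := Subgroup.mem_centralizer_iff.mp hq (QuotientGroup.mk' N x) ⟨x, hx, rfl⟩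
        have hx' : (QuotientGroup.mk' N g') * (QuotientGroup.mk' N x) * (QuotientGroup.mk' N g')⁻¹ *
            (QuotientGroup.mk' N x)⁻¹ = 1 := by
          rw [← this]; group
        simpa using hx'
      have h4 := eq_one_of_mem_pgroup_of_mem_coprime N P hN hP _ h2 h3
      calc x * g' = (g' * x * g'⁻¹ * x⁻¹)⁻¹ * (g' * x) := by group
        _ = g' * x := by rw [h4, inv_one, one_mul]
    · have := Subgroup.map_centralizer_le_centralizer_image (P : Set G) (QuotientGroup.mk' N)
      intro q hq
      have hq' := this hq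
      rw [Subgroup.mem_centralizer_iff] at hq' ⊢
      intro h hh
      obtain ⟨x, hx, rfl⟩ := hh
      exact hq' _ ⟨x, hx, rfl⟩

end Cfsg.Agent.S3800
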