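import Cfsg.Statements.S3802
import Mathlib
import Cfsg.Agent.Lib.Helper20.Wielandt
-- import your own Cfsg.Agent.* helpers here

set_option autoImplicit false
open Cfsg

namespace Cfsg.Agent.S3802

open scoped Pointwise

/-- Let G be a finite group, M a maximal subgroup of G and N a subnormal subgroup of G contained in M. Then N is contained in every conjugate of M, that is, N lies in the core of M in G. -/
theorem result {G : Type*} [Group G] [Finite G] (M N : Subgroup G) (hM : IsCoatom M) (hN : N.IsSubnormal) (hNM : N ≤ M) :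
    N ≤ Subgroup.normalCore M := by
  classical
  let F : Set (Subgroup G) := {S | S.IsSubnormal ∧ S ≤ M ∧ N ≤ S}
  have hF : F.Nonempty := ⟨N, hN, hNM, le_rfl⟩
  obtain ⟨S, hSF, hSmax⟩ := WellFounded.has_min (wellFounded_gt (α := Subgroup G)) F hF
  obtain ⟨hSsub, hSM, hNS⟩ := hSF
  have hcard : ∀ g : G, Nat.card (MulAut.conj g • S : Subgroup G) = Nat.card S := fun g =>
    (Nat.card_congr (Subgroup.equivSMul (MulAut.conj g) S).toEquiv).symm
  have hbig : ∀ g : G, MulAut.conj g • S ≤ M → MulAut.conj g • S = S := by
    intro g hg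
    have h1 : (MulAut.conj g • S).IsSubnormal := hSsub.smul _
    have h3 : (S ⊔ MulAut.conj g • S) ∈ F :=
      ⟨Cfsg.Agent.Lib.Helper20.sup_isSubnormal _ _ hSsub h1, sup_le hSM hg, hNS.trans le_sup_left⟩
    have h4 : ¬ S < S ⊔ MulAut.conj g • S := hSmax _ h3
    have h5 : MulAut.conj g • S ≤ S := by
      by_contra h
      apply h4
      refine lt_of_le_of_ne le_sup_left (fun e => h ?_)
      exact le_sup_right.trans_eq e.symm
    exact Subgroup.eq_of_le_of_card_ge h5 (by rw [hcard g])
  have hSn : S.Normal := by
    rcases Cfsg.Agent.Lib.Helper20.exists_conj_ne_le_normalizer S hSsub with h | ⟨g, hg1, hg2⟩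
    · exact h
    · exfalso
      have hMnorm : M ≤ Subgroup.normalizer (S : Set G) := by
        intro m hm
        rw [Cfsg.Agent.Lib.Helper20.mem_normalizer_iff_conj_smul_eq]
        apply hbig
        intro x hx
        rw [Subgroup.mem_pointwise_smul_iff_inv_smul_mem] at hx
        have hx' : (MulAut.conj m)⁻¹ • x ∈ M := hSM hx
        have e : x = m * ((MulAut.conj m)⁻¹ • x) * m⁻¹ := by
          simp [MulAut.smul_def, mul_assoc]
        rw [e]
        exact M.mul_mem (M.mul_mem hm hx') (M.inv_mem hm)
      rcases hM.le_iff.mp hMnorm with htop | hNM'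
      · have : S.Normal := Subgroup.normalizer_eq_top_iff.mp htop
        exact hg1 (Subgroup.Normal.conj_smul_eq_self g S)
      · rw [hNM'] at hg2
        exact hg1 (hbig g hg2)
  exact hNS.trans (Subgroup.normal_le_normalCore.mpr hSM)

end Cfsg.Agent.S3802
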