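import Cfsg.Statements.S3803
import Cfsg.Agent.Lib.Helper24.OddFrattini
import Cfsg.Agent.Lib.Helper24.OmegaTwo

set_option autoImplicit false
open Cfsg
open Cfsg.Agent.Lib.Helper24

namespace Cfsg.Agent.S3803

/-- Let P be a 2-subgroup and A a subgroup of odd order of a finite group, with A normalizing P. Let D ≤ P with 1 < |D| < |P|. If every subgroup of P of order |D|, and also every subgroup of P of order 4 in case |D| = 2, is normalized by A, then A centralizes P. -/
theorem result {X : Type*} [Group X] [Finite X] (P A D : Subgroup X) (hP : IsPGroup 2 P) (hA : Odd (Nat.card A))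
    (hAP : A ≤ Subgroup.normalizer (P : Set X)) (hDP : D ≤ P) (hD1 : 1 < Nat.card D) (hD2 : Nat.card D < Nat.card P)
    (hinv : ∀ E : Subgroup X, E ≤ P → (Nat.card E = Nat.card D ∨ (Nat.card D = 2 ∧ Nat.card E = 4)) → A ≤ Subgroup.normalizer (E : Set X)) :
    A ≤ Subgroup.centralizer (P : Set X) := by
  haveI : Fact (Nat.Prime 2) := ⟨Nat.prime_two⟩
  have card_mul_relIndex_of_le : ∀ {M F : Subgroup X}, M ≤ F →
      Nat.card M * M.relIndex F = Nat.card F := by
    intro M F h
    have h1 := (M.subgroupOf F).card_mul_index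
    rw [Nat.card_congr (Subgroup.subgroupOfEquivOfLe h).toEquiv] at h1
    exact h1
  intro a haA
  have hodd : Odd (orderOf a) := by
    have hd : orderOf a ∣ Nat.card A := by
      have := orderOf_dvd_natCard (⟨a, haA⟩ : A)
      rwa [Subgroup.orderOf_mk] at this
    exact hA.of_dvd_nat hd
  have hnormP : ∀ x ∈ P, a * x * a⁻¹ ∈ P := fun x hx =>
    (Subgroup.mem_normalizer_iff.mp (hAP haA) x).mp hx
  have hnormE : ∀ E : Subgroup X, E ≤ P →
      (Nat.card E = Nat.card D ∨ (Nat.card D = 2 ∧ Nat.card E = 4)) →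
      ∀ x ∈ E, a * x * a⁻¹ ∈ E := fun E hE hc x hx =>
    (Subgroup.mem_normalizer_iff.mp (hinv E hE hc haA) x).mp hx
  obtain ⟨d, hd⟩ : ∃ d, Nat.card D = 2 ^ d := IsPGroup.iff_card.mp (hP.to_le hDP)
  obtain ⟨n, hn⟩ : ∃ n, Nat.card P = 2 ^ n := IsPGroup.iff_card.mp hP
  have hd1 : 1 ≤ d := by
    rcases Nat.eq_zero_or_pos d with h0 | h0
    · rw [hd, h0, pow_zero] at hD1; omega
    · exact h0
  have hdn : d < n := by
    rw [hd, hn] at hD2
    exact (Nat.pow_lt_pow_iff_right (by norm_num)).mp hD2
  suffices h : ∀ x ∈ P, a * x * a⁻¹ = x by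
    rw [Subgroup.mem_centralizer_iff]
    intro x hx
    have := h x hx
    rw [mul_inv_eq_iff_eq_mul] at this
    exact this.symm
  -- claim K
  have claimK : ∀ E : Subgroup X, E ≤ P → Nat.card E = 2 ^ d → ∀ x ∈ E, a * x * a⁻¹ = x := by
    intro E hEP hEc
    obtain ⟨K, hK, hKle⟩ := Sylow.exists_subgroup_card_pow_succ (G := P) (p := 2) (n := d)
      (by rw [hn]; exact pow_dvd_pow 2 hdn) (H := E.subgroupOf P)
      (by rw [Nat.card_congr (Subgroup.subgroupOfEquivOfLe hEP).toEquiv, hEc])
    obtain ⟨F, hFdef⟩ : ∃ F : Subgroup X, F = K.map P.subtype := ⟨_, rfl⟩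
    have hFP : F ≤ P := by rw [hFdef]; exact Subgroup.map_subtype_le _
    have hFc : Nat.card F = 2 ^ (d + 1) := by
      rw [hFdef, Subgroup.card_map_of_injective P.subtype_injective]; exact hK
    have hEF : E ≤ F := by
      intro x hx
      rw [hFdef]
      exact ⟨⟨x, hEP hx⟩, hKle (Subgroup.mem_subgroupOf.mpr hx), rfl⟩
    have hFp : IsPGroup 2 F := hP.to_le hFP
    have hcardM : ∀ M : Subgroup X, M ≤ F → M.relIndex F = 2 → Nat.card M = 2 ^ d := by
      intro M hMF hrel
      have := card_mul_relIndex_of_le hMF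
      rw [hrel, hFc, pow_succ] at this
      omega
    have hnormM : ∀ M : Subgroup X, M ≤ F → M.relIndex F = 2 → ∀ x ∈ M, a * x * a⁻¹ ∈ M :=
      fun M hMF hrel => hnormE M (hMF.trans hFP) (Or.inl (by rw [hcardM M hMF hrel, hd]))
    by_cases huniq : ∀ M : Subgroup X, M ≤ F → M.relIndex F = 2 → M = E
    · obtain ⟨y, hyF, hyE⟩ : ∃ y ∈ F, y ∉ E := by
        by_contra h
        push Not at h
        have hle : Nat.card F ≤ Nat.card E := Nat.le_of_dvd Nat.card_pos (Subgroup.card_dvd_of_le h)
        rw [hFc, hEc, pow_succ] at hle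
        have : 0 < 2 ^ d := pow_pos (by norm_num) d
        omega
      have hgen : Subgroup.zpowers y = F := by
        by_contra hne
        have hlt : (Subgroup.zpowers y).subgroupOf F ≠ ⊤ := by
          intro htop
          apply hne
          exact le_antisymm (Subgroup.zpowers_le.mpr hyF) (Subgroup.subgroupOf_eq_top.mp htop)
        obtain ⟨M', hM'co, hM'le⟩ := (eq_top_or_exists_le_coatom _).resolve_left hlt
        have hidx : M'.index = 2 :=
          Cfsg.Agent.Lib.Helper2.index_of_isCoatom_of_isPGroup hFp hM'co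
        have hrel : (M'.map F.subtype).relIndex F = 2 := by
          have h0 : (M'.map F.subtype).subgroupOf F = M' :=
            Subgroup.comap_map_eq_self_of_injective F.subtype_injective M'
          rw [Subgroup.relIndex, h0]; exact hidx
        have := huniq (M'.map F.subtype) (Subgroup.map_subtype_le _) hrel
        apply hyE
        rw [← this]
        exact ⟨⟨y, hyF⟩, hM'le (Subgroup.mem_subgroupOf.mpr (Subgroup.mem_zpowers y)), rfl⟩
      have hEcyc : IsCyclic E := by
        haveI : IsCyclic F := by rw [← hgen]; infer_instance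
        haveI : IsCyclic (E.subgroupOf F) := Subgroup.isCyclic _
        exact (MulEquiv.isCyclic (Subgroup.subgroupOfEquivOfLe hEF)).mp inferInstance
      exact odd_centralizes_cyclic_two_group hodd E (hP.to_le hEP) hEcyc
        (hnormE E hEP (Or.inl (by rw [hEc, hd])))
    · push Not at huniq
      obtain ⟨E', hE'F, hE'rel, hE'ne⟩ := huniq
      have hE'c : Nat.card E' = 2 ^ d := hcardM E' hE'F hE'rel
      have hsup : E ⊔ E' = F := by
        have hle : E ⊔ E' ≤ F := sup_le hEF hE'F
        apply Subgroup.eq_of_le_of_card_ge hle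
        have h1 : Nat.card E ∣ Nat.card (E ⊔ E' : Subgroup X) := Subgroup.card_dvd_of_le le_sup_left
        have h2 : Nat.card (E ⊔ E' : Subgroup X) ∣ Nat.card F := Subgroup.card_dvd_of_le hle
        rw [hFc] at h2 ⊢
        rw [hEc] at h1
        obtain ⟨i, hi, hm⟩ := (Nat.dvd_prime_pow Nat.prime_two).mp h2
        rw [hm] at h1 ⊢
        have hdi : d ≤ i := (Nat.pow_dvd_pow_iff_le_right (by norm_num)).mp h1
        have hne : i ≠ d := by
          intro hid
          rw [hid] at hm
          have hEeq : E = E ⊔ E' := Subgroup.eq_of_le_of_card_ge le_sup_left (by rw [hm, hEc])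
          have hE'E : E' ≤ E := by rw [hEeq]; exact le_sup_right
          exact hE'ne (Subgroup.eq_of_le_of_card_ge hE'E (by rw [hEc, hE'c]))
        have : i = d + 1 := by omega
        rw [this]
      have hnormF : ∀ x ∈ F, a * x * a⁻¹ ∈ F := by
        have hcl : Subgroup.closure ((E : Set X) ∪ (E' : Set X)) = F := by
          rw [Subgroup.closure_union, Subgroup.closure_eq, Subgroup.closure_eq, hsup]
        rw [← hcl]
        apply conj_mem_closure
        rintro t (ht | ht)
        · exact Or.inl (hnormE E hEP (Or.inl (by rw [hEc, hd])) t ht)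
        · exact Or.inr (hnormE E' (hE'F.trans hFP) (Or.inl (by rw [hE'c, hd])) t ht)
      have := odd_centralizes_of_normalizes_index_two hodd F hFp hnormF hnormM
      intro x hx
      exact this x (hEF hx)
  apply odd_centralizes_of_omega_two hodd _ P rfl hP hnormP
  intro x hx hx4
  have hCx : Subgroup.zpowers x ≤ P := Subgroup.zpowers_le.mpr hx
  have hord : orderOf x ∣ 4 := orderOf_dvd_of_pow_eq_one hx4
  have hcases : orderOf x = 1 ∨ orderOf x = 2 ∨ orderOf x = 4 := by
    have : orderOf x ∈ Nat.divisors 4 := Nat.mem_divisors.mpr ⟨hord, by norm_num⟩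
    have h4 : Nat.divisors 4 = {1, 2, 4} := by decide
    rw [h4] at this
    simpa using this
  by_cases hd2 : d = 1
  · rcases hcases with h1 | h2 | h4
    · rw [orderOf_eq_one_iff.mp h1]; group
    · have hc : Nat.card (Subgroup.zpowers x) = Nat.card D := by
        rw [Nat.card_zpowers, h2, hd, hd2, pow_one]
      exact odd_centralizes_cyclic_two_group hodd (Subgroup.zpowers x) (hP.to_le hCx)
        inferInstance (hnormE _ hCx (Or.inl hc)) x (Subgroup.mem_zpowers x)
    · have hc : Nat.card D = 2 ∧ Nat.card (Subgroup.zpowers x) = 4 :=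
        ⟨by rw [hd, hd2, pow_one], by rw [Nat.card_zpowers, h4]⟩
      exact odd_centralizes_cyclic_two_group hodd (Subgroup.zpowers x) (hP.to_le hCx)
        inferInstance (hnormE _ hCx (Or.inr hc)) x (Subgroup.mem_zpowers x)
  · have hd2' : 2 ≤ d := by omega
    obtain ⟨j, hj2, hj⟩ : ∃ j, j ≤ 2 ∧ Nat.card (Subgroup.zpowers x) = 2 ^ j := by
      rw [Nat.card_zpowers]
      rcases hcases with h1 | h2 | h4
      · exact ⟨0, by norm_num, by rw [h1, pow_zero]⟩
      · exact ⟨1, by norm_num, by rw [h2, pow_one]⟩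
      · exact ⟨2, le_refl _, by rw [h4]; norm_num⟩
    obtain ⟨K, hK, hKle⟩ := Sylow.exists_subgroup_card_pow_prime_le 2 (G := P) (n := j) (m := d)
      (by rw [hn]; exact pow_dvd_pow 2 hdn.le) ((Subgroup.zpowers x).subgroupOf P)
      (by rw [Nat.card_congr (Subgroup.subgroupOfEquivOfLe hCx).toEquiv, hj]) (by omega)
    have hEP : K.map P.subtype ≤ P := Subgroup.map_subtype_le _
    have hEcard : Nat.card (K.map P.subtype) = 2 ^ d := by
      rw [Subgroup.card_map_of_injective P.subtype_injective]; exact hK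
    have hxE : x ∈ K.map P.subtype :=
      ⟨⟨x, hx⟩, hKle (Subgroup.mem_subgroupOf.mpr (Subgroup.mem_zpowers x)), rfl⟩
    exact claimK _ hEP hEcard x hxE

end Cfsg.Agent.S3803
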