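import Cfsg.Statements.S3804
import Mathlib
import Cfsg.Agent.Lib.Helper15.ProdFormula
-- import your own Cfsg.Agent.* helpers here

set_option autoImplicit false
open Cfsg

namespace Cfsg.Agent.S3804

open scoped Pointwise

theorem eq_of_rpow_mul_eq {x y u v α : ℝ} (hα : 0 < α) (hy : 0 < y) (hv : 0 < v) (hxy : y ≤ x)
    (huv : v ≤ u) (h : x ^ α * u = y ^ α * v) : x = y ∧ u = v := by
  have h1 : y ^ α ≤ x ^ α := Real.rpow_le_rpow hy.le hxy hα.le
  have hyα : 0 < y ^ α := Real.rpow_pos_of_pos hy α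
  have hxα : 0 < x ^ α := lt_of_lt_of_le hyα h1
  constructor
  · by_contra hne
    have hlt : y < x := lt_of_le_of_ne hxy (Ne.symm hne)
    have h2 : y ^ α < x ^ α := Real.rpow_lt_rpow hy.le hlt hα
    have := mul_lt_mul h2 huv hv hxα.le
    linarith
  · by_contra hne
    have hlt : v < u := lt_of_le_of_ne huv (Ne.symm hne)
    have := mul_lt_mul' h1 hlt hv.le hxα
    linarith

theorem set_mul_eq_of_card {G : Type*} [Group G] [Finite G] (P Q K : Subgroup G)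
    (hsub : (P : Set G) * (Q : Set G) ⊆ (K : Set G))
    (hcard : Nat.card K * Nat.card ↥(P ⊓ Q) ≤ Nat.card P * Nat.card Q) :
    (P : Set G) * (Q : Set G) = (K : Set G) := by
  have hf := Cfsg.Agent.Lib.Helper15.card_mul_set_mul_card_inf P Q
  have hpos : 0 < Nat.card ↥(P ⊓ Q) := Nat.card_pos
  have h1 : Nat.card K ≤ Nat.card ↥((P : Set G) * (Q : Set G)) := by
    rw [← hf] at hcard
    exact Nat.le_of_mul_le_mul_right hcard hpos
  apply Set.eq_of_subset_of_ncard_le hsub _ (Set.toFinite _)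
  rw [← Nat.card_coe_set_eq, ← Nat.card_coe_set_eq]
  exact h1

theorem mul_le_of_sub {G : Type*} [Group G] [Finite G] (P Q K : Subgroup G)
    (hsub : (P : Set G) * (Q : Set G) ⊆ (K : Set G)) :
    Nat.card P * Nat.card Q ≤ Nat.card K * Nat.card ↥(P ⊓ Q) := by
  rw [← Cfsg.Agent.Lib.Helper15.card_mul_set_mul_card_inf P Q]
  apply Nat.mul_le_mul_right
  exact Nat.card_mono (Set.toFinite _) hsub

/-- Let G and H be subgroups of a finite group with G normalizing H, fix a real number α > 0, and for a subgroup A of G put m(A) = |A|^α · |C_H(A)|. Let A and B be nontrivial subgroups of G at which m attains its maximum over all nontrivial subgroups of G, and assume that A ∩ B ≠ 1 or that this maximum is at least |H|. Then AB = BA is a subgroup at which m is again maximal, C_H(A ∩ B) = C_H(A) C_H(B), and if A ∩ B ≠ 1 then m is maximal at A ∩ B as well. -/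
theorem result {X : Type*} [Group X] [Finite X] (G H : Subgroup X) (hGH : G ≤ Subgroup.normalizer (H : Set X)) (α : ℝ) (hα : 0 < α)
    (A B : Subgroup X) (hA : A ≤ G) (hB : B ≤ G) (hA1 : A ≠ ⊥) (hB1 : B ≠ ⊥)
    (hAmax : ∀ A' : Subgroup X, A' ≤ G → A' ≠ ⊥ → (fun A : Subgroup X => ((Nat.card A : ℝ) ^ α) * (Nat.card ↥(H ⊓ Subgroup.centralizer (A : Set X)) : ℝ)) A' ≤ (fun A : Subgroup X => ((Nat.card A : ℝ) ^ α) * (Nat.card ↥(H ⊓ Subgroup.centralizer (A : Set X)) : ℝ)) A)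
    (hBmax : ∀ A' : Subgroup X, A' ≤ G → A' ≠ ⊥ → (fun A : Subgroup X => ((Nat.card A : ℝ) ^ α) * (Nat.card ↥(H ⊓ Subgroup.centralizer (A : Set X)) : ℝ)) A' ≤ (fun A : Subgroup X => ((Nat.card A : ℝ) ^ α) * (Nat.card ↥(H ⊓ Subgroup.centralizer (A : Set X)) : ℝ)) B)
    (hcase : A ⊓ B ≠ ⊥ ∨ (Nat.card H : ℝ) ≤ (fun A : Subgroup X => ((Nat.card A : ℝ) ^ α) * (Nat.card ↥(H ⊓ Subgroup.centralizer (A : Set X)) : ℝ)) A) :
    (∀ a ∈ A, ∀ b ∈ B, ∃ b' ∈ B, ∃ a' ∈ A, a * b = b' * a') ∧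
    (∀ A' : Subgroup X, A' ≤ G → A' ≠ ⊥ → (fun A : Subgroup X => ((Nat.card A : ℝ) ^ α) * (Nat.card ↥(H ⊓ Subgroup.centralizer (A : Set X)) : ℝ)) A' ≤ (fun A : Subgroup X => ((Nat.card A : ℝ) ^ α) * (Nat.card ↥(H ⊓ Subgroup.centralizer (A : Set X)) : ℝ)) (A ⊔ B)) ∧
    (∀ h ∈ H ⊓ Subgroup.centralizer ((A ⊓ B : Subgroup X) : Set X), ∃ u ∈ H ⊓ Subgroup.centralizer (A : Set X), ∃ v ∈ H ⊓ Subgroup.centralizer (B : Set X), h = u * v) ∧
    (A ⊓ B ≠ ⊥ → ∀ A' : Subgroup X, A' ≤ G → A' ≠ ⊥ → (fun A : Subgroup X => ((Nat.card A : ℝ) ^ α) * (Nat.card ↥(H ⊓ Subgroup.centralizer (A : Set X)) : ℝ)) A' ≤ (fun A : Subgroup X => ((Nat.card A : ℝ) ^ α) * (Nat.card ↥(H ⊓ Subgroup.centralizer (A : Set X)) : ℝ)) (A ⊓ B)) := by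
  classical
  set m : Subgroup X → ℝ := fun A => ((Nat.card A : ℝ) ^ α) *
    (Nat.card ↥(H ⊓ Subgroup.centralizer (A : Set X)) : ℝ) with hm
  have hmpos : ∀ K : Subgroup X, 0 < m K := by
    intro K
    have h1 : 0 < Nat.card K := Nat.card_pos
    have h2 : 0 < Nat.card ↥(H ⊓ Subgroup.centralizer (K : Set X)) := Nat.card_pos
    exact mul_pos (Real.rpow_pos_of_pos (by exact_mod_cast h1) α) (by exact_mod_cast h2)
  have hAB : m A = m B := le_antisymm (hBmax A hA hA1) (hAmax B hB hB1)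
  have hJG : A ⊔ B ≤ G := sup_le hA hB
  have hJ1 : A ⊔ B ≠ ⊥ := by
    intro h
    apply hA1
    rw [eq_bot_iff, ← h]; exact le_sup_left
  have hJ : m (A ⊔ B) ≤ m A := hAmax _ hJG hJ1
  have hI : m (A ⊓ B) ≤ m A := by
    by_cases h : A ⊓ B = ⊥
    · have hH := hcase.resolve_left (not_not.mpr h)
      have e : m (A ⊓ B) = (Nat.card H : ℝ) := by
        simp only [hm]
        rw [h]
        have : Subgroup.centralizer (((⊥ : Subgroup X)) : Set X) = ⊤ := by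
          rw [Subgroup.centralizer_eq_top_iff_subset]
          intro x hx
          rw [Subgroup.coe_bot, Set.mem_singleton_iff] at hx
          rw [hx]; exact Subgroup.one_mem _
        rw [this, inf_top_eq, Subgroup.card_bot]
        simp
      rw [e]; exact hH
    · exact hAmax _ (inf_le_left.trans hA) h
  -- set inclusions
  have hsub1 : (A : Set X) * (B : Set X) ⊆ ((A ⊔ B : Subgroup X) : Set X) := by
    rintro _ ⟨a, ha, b, hb, rfl⟩
    exact Subgroup.mul_mem _ (Subgroup.mem_sup_left ha) (Subgroup.mem_sup_right hb)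
  have hsub2 : ((H ⊓ Subgroup.centralizer (A : Set X) : Subgroup X) : Set X) *
      ((H ⊓ Subgroup.centralizer (B : Set X) : Subgroup X) : Set X) ⊆
      ((H ⊓ Subgroup.centralizer ((A ⊓ B : Subgroup X) : Set X) : Subgroup X) : Set X) := by
    rintro _ ⟨u, hu, v, hv, rfl⟩
    have hu' : u ∈ H ⊓ Subgroup.centralizer ((A ⊓ B : Subgroup X) : Set X) :=
      ⟨hu.1, Subgroup.centralizer_le (show ((A ⊓ B : Subgroup X) : Set X) ⊆ A from
        fun x hx => hx.1) hu.2⟩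
    have hv' : v ∈ H ⊓ Subgroup.centralizer ((A ⊓ B : Subgroup X) : Set X) :=
      ⟨hv.1, Subgroup.centralizer_le (show ((A ⊓ B : Subgroup X) : Set X) ⊆ B from
        fun x hx => hx.2) hv.2⟩
    exact Subgroup.mul_mem _ hu' hv'
  have hCJ : (H ⊓ Subgroup.centralizer (A : Set X)) ⊓ (H ⊓ Subgroup.centralizer (B : Set X)) ≤
      H ⊓ Subgroup.centralizer ((A ⊔ B : Subgroup X) : Set X) := by
    intro x hx
    refine Subgroup.mem_inf.mpr ⟨hx.1.1, ?_⟩
    rw [← Subgroup.zpowers_le, Subgroup.le_centralizer_iff]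
    exact sup_le (Subgroup.le_centralizer_iff.mp (Subgroup.zpowers_le.mpr hx.1.2))
      (Subgroup.le_centralizer_iff.mp (Subgroup.zpowers_le.mpr hx.2.2))
  -- natural number inequalities
  have hn1 := mul_le_of_sub A B (A ⊔ B) hsub1
  have hn2' := mul_le_of_sub _ _ _ hsub2
  have hn2 : Nat.card ↥(H ⊓ Subgroup.centralizer (A : Set X)) *
      Nat.card ↥(H ⊓ Subgroup.centralizer (B : Set X)) ≤
      Nat.card ↥(H ⊓ Subgroup.centralizer ((A ⊔ B : Subgroup X) : Set X)) *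
      Nat.card ↥(H ⊓ Subgroup.centralizer ((A ⊓ B : Subgroup X) : Set X)) := by
    refine hn2'.trans ?_
    rw [mul_comm]
    exact Nat.mul_le_mul_right _ (Subgroup.card_le_of_le hCJ)
  -- abbreviations
  obtain ⟨a, ha⟩ : ∃ a, a = Nat.card A := ⟨_, rfl⟩
  obtain ⟨b, hb⟩ : ∃ b, b = Nat.card B := ⟨_, rfl⟩
  obtain ⟨i, hi⟩ : ∃ i, i = Nat.card ↥(A ⊓ B) := ⟨_, rfl⟩
  obtain ⟨j, hj⟩ : ∃ j, j = Nat.card ↥(A ⊔ B) := ⟨_, rfl⟩
  obtain ⟨cA, hcA⟩ : ∃ c, c = Nat.card ↥(H ⊓ Subgroup.centralizer (A : Set X)) := ⟨_, rfl⟩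
  obtain ⟨cB, hcB⟩ : ∃ c, c = Nat.card ↥(H ⊓ Subgroup.centralizer (B : Set X)) := ⟨_, rfl⟩
  obtain ⟨cI, hcI⟩ : ∃ c, c = Nat.card ↥(H ⊓ Subgroup.centralizer ((A ⊓ B : Subgroup X) : Set X)) :=
    ⟨_, rfl⟩
  obtain ⟨cJ, hcJ⟩ : ∃ c, c = Nat.card ↥(H ⊓ Subgroup.centralizer ((A ⊔ B : Subgroup X) : Set X)) :=
    ⟨_, rfl⟩
  have hmA : m A = (a : ℝ) ^ α * cA := by simp only [hm, ha, hcA]
  have hmB : m B = (b : ℝ) ^ α * cB := by simp only [hm, hb, hcB]
  have hmI : m (A ⊓ B) = (i : ℝ) ^ α * cI := by simp only [hm, hi, hcI]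
  have hmJ : m (A ⊔ B) = (j : ℝ) ^ α * cJ := by simp only [hm, hj, hcJ]
  rw [← ha, ← hb, ← hj, ← hi] at hn1
  rw [← hcA, ← hcB, ← hcJ, ← hcI] at hn2
  have hapos : 0 < a := by rw [ha]; exact Nat.card_pos
  have hbpos : 0 < b := by rw [hb]; exact Nat.card_pos
  have hipos : 0 < i := by rw [hi]; exact Nat.card_pos
  have hcApos : 0 < cA := by rw [hcA]; exact Nat.card_pos
  have hcBpos : 0 < cB := by rw [hcB]; exact Nat.card_pos
  have hcIpos : 0 < cI := by rw [hcI]; exact Nat.card_pos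
  have hcJpos : 0 < cJ := by rw [hcJ]; exact Nat.card_pos
  have hy : (0 : ℝ) < (a : ℝ) * b := by positivity
  have hv : (0 : ℝ) < (cA : ℝ) * cB := by positivity
  have hxy : (a : ℝ) * b ≤ (j : ℝ) * i := by exact_mod_cast hn1
  have huv : (cA : ℝ) * cB ≤ (cJ : ℝ) * cI := by exact_mod_cast hn2
  have hprodJI : m (A ⊔ B) * m (A ⊓ B) = ((j : ℝ) * i) ^ α * ((cJ : ℝ) * cI) := by
    rw [hmJ, hmI, Real.mul_rpow (Nat.cast_nonneg j) (Nat.cast_nonneg i)]; ring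
  have hprodAB : m A * m B = ((a : ℝ) * b) ^ α * ((cA : ℝ) * cB) := by
    rw [hmA, hmB, Real.mul_rpow (Nat.cast_nonneg a) (Nat.cast_nonneg b)]; ring
  have hge : m A * m B ≤ m (A ⊔ B) * m (A ⊓ B) := by
    rw [hprodJI, hprodAB]
    have h1 : ((a : ℝ) * b) ^ α ≤ ((j : ℝ) * i) ^ α := Real.rpow_le_rpow hy.le hxy hα.le
    exact mul_le_mul h1 huv hv.le (Real.rpow_nonneg (by positivity) α)
  have hle : m (A ⊔ B) * m (A ⊓ B) ≤ m A * m A :=
    mul_le_mul hJ hI (hmpos _).le (hmpos _).le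
  have hJeq : m (A ⊔ B) = m A := by
    by_contra hne
    have hlt : m (A ⊔ B) < m A := lt_of_le_of_ne hJ hne
    have : m (A ⊔ B) * m (A ⊓ B) < m A * m A := mul_lt_mul hlt hI (hmpos _) (hmpos _).le
    rw [← hAB] at hge
    linarith
  have hIeq : m (A ⊓ B) = m A := by
    by_contra hne
    have hlt : m (A ⊓ B) < m A := lt_of_le_of_ne hI hne
    have : m (A ⊔ B) * m (A ⊓ B) < m A * m A := mul_lt_mul' hJ hlt (hmpos _).le (hmpos _)
    rw [← hAB] at hge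
    linarith
  have hkey : ((j : ℝ) * i) ^ α * ((cJ : ℝ) * cI) = ((a : ℝ) * b) ^ α * ((cA : ℝ) * cB) := by
    rw [← hprodJI, ← hprodAB, hJeq, hIeq, ← hAB]
  obtain ⟨hE1, hE2⟩ := eq_of_rpow_mul_eq hα hy hv hxy huv hkey
  have hE1n : j * i = a * b := by exact_mod_cast hE1
  have hE2n : cJ * cI = cA * cB := by exact_mod_cast hE2
  -- set equalities
  have hset1 : (A : Set X) * (B : Set X) = ((A ⊔ B : Subgroup X) : Set X) := by
    apply set_mul_eq_of_card A B (A ⊔ B) hsub1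
    rw [← ha, ← hb, ← hj, ← hi, hE1n]
  have hset2 : ((H ⊓ Subgroup.centralizer (A : Set X) : Subgroup X) : Set X) *
      ((H ⊓ Subgroup.centralizer (B : Set X) : Subgroup X) : Set X) =
      ((H ⊓ Subgroup.centralizer ((A ⊓ B : Subgroup X) : Set X) : Subgroup X) : Set X) := by
    apply set_mul_eq_of_card _ _ _ hsub2
    rw [← hcA, ← hcB, ← hcI, ← hE2n, mul_comm cJ cI]
    exact Nat.mul_le_mul_left _ (hcJ ▸ Subgroup.card_le_of_le hCJ)
  refine ⟨?_, ?_, ?_, ?_⟩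
  · intro x hx y hy'
    have hmem : (x * y)⁻¹ ∈ ((A ⊔ B : Subgroup X) : Set X) :=
      Subgroup.inv_mem _ (hsub1 ⟨x, hx, y, hy', rfl⟩)
    rw [← hset1] at hmem
    obtain ⟨a₁, ha₁, b₁, hb₁, h⟩ := hmem
    refine ⟨b₁⁻¹, B.inv_mem hb₁, a₁⁻¹, A.inv_mem ha₁, ?_⟩
    have : x * y = (a₁ * b₁)⁻¹ := by
      have h' : a₁ * b₁ = (x * y)⁻¹ := h
      rw [h', inv_inv]
    rw [this, mul_inv_rev]
  · intro A' hA' hA'1
    rw [hJeq]; exact hAmax A' hA' hA'1
  · intro h hh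
    have hmem : h ∈ ((H ⊓ Subgroup.centralizer ((A ⊓ B : Subgroup X) : Set X) : Subgroup X) :
        Set X) := hh
    rw [← hset2] at hmem
    obtain ⟨u, hu, v, hv', huv'⟩ := hmem
    exact ⟨u, hu, v, hv', huv'.symm⟩
  · intro _ A' hA' hA'1
    rw [hIeq]; exact hAmax A' hA' hA'1

end Cfsg.Agent.S3804
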