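import Cfsg.Statements.S3807
import Mathlib
import Cfsg.Agent.Lib.Helper3.CentralComm
import Cfsg.Agent.Lib.Helper2.PGroupFrattini
import Cfsg.Agent.Lib.Lead.UniqueOrderP
-- import your own Cfsg.Agent.* helpers here

set_option autoImplicit false
open Cfsg

namespace Cfsg.Agent.S3807

open scoped commutatorElement

theorem comm_of_gen {T : Type*} [Group T] (A : Subgroup T) (s : T)
    (hAs : A ⊔ Subgroup.zpowers s = ⊤) (hA : ∀ a ∈ A, ∀ b ∈ A, a * b = b * a)
    (hs : ∀ a ∈ A, a * s = s * a) : ∀ x y : T, x * y = y * x := by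
  have hscen : s ∈ Subgroup.center T := by
    rw [Subgroup.mem_center_iff]
    intro g
    have hg : g ∈ A ⊔ Subgroup.zpowers s := by rw [hAs]; exact Subgroup.mem_top g
    have hle : A ⊔ Subgroup.zpowers s ≤ Subgroup.centralizer ({s} : Set T) := by
      apply sup_le
      · intro a ha
        rw [Subgroup.mem_centralizer_iff]
        intro h hh; rw [Set.mem_singleton_iff.mp hh]; exact (hs a ha).symm
      · rw [Subgroup.zpowers_le, Subgroup.mem_centralizer_iff]
        intro h hh; rw [Set.mem_singleton_iff.mp hh]
    exact (Subgroup.mem_centralizer_iff.mp (hle hg) s rfl).symm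
  have hAcen : A ≤ Subgroup.center T := by
    intro a ha
    rw [Subgroup.mem_center_iff]
    intro g
    have hg : g ∈ A ⊔ Subgroup.zpowers s := by rw [hAs]; exact Subgroup.mem_top g
    have hle : A ⊔ Subgroup.zpowers s ≤ Subgroup.centralizer ({a} : Set T) := by
      apply sup_le
      · intro b hb
        rw [Subgroup.mem_centralizer_iff]
        intro h hh; rw [Set.mem_singleton_iff.mp hh]; exact hA a ha b hb
      · rw [Subgroup.zpowers_le, Subgroup.mem_centralizer_iff]
        intro h hh; rw [Set.mem_singleton_iff.mp hh]; exact hs a ha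
    exact (Subgroup.mem_centralizer_iff.mp (hle hg) a rfl).symm
  have htop : Subgroup.center T = ⊤ := by
    rw [eq_top_iff, ← hAs]
    exact sup_le hAcen (Subgroup.zpowers_le.mpr hscen)
  intro x y
  have hy : y ∈ Subgroup.center T := by rw [htop]; exact Subgroup.mem_top y
  exact (Subgroup.mem_center_iff.mp hy x)

theorem sup_zpowers_eq_top {T : Type*} [Group T] (B : Subgroup T) (hB : IsCoatom B) (z : T)
    (hz : z ∉ B) : B ⊔ Subgroup.zpowers z = ⊤ := by
  have hlt : B < B ⊔ Subgroup.zpowers z := by
    apply lt_of_le_of_ne le_sup_left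
    intro h
    apply hz
    have : z ∈ B ⊔ Subgroup.zpowers z := Subgroup.mem_sup_right (Subgroup.mem_zpowers z)
    rwa [← h] at this
  exact hB.2 _ hlt

theorem center_le_of_abelian_coatom {T : Type*} [Group T] (hna : ¬ IsMulCommutative T)
    (B : Subgroup T) (hB : IsCoatom B) (hBc : ∀ a ∈ B, ∀ b ∈ B, a * b = b * a) :
    Subgroup.center T ≤ B := by
  intro z hz
  by_contra hzB
  apply hna
  have hsup := sup_zpowers_eq_top B hB z hzB
  have := comm_of_gen B z hsup hBc (fun a _ => (Subgroup.mem_center_iff.mp hz a))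
  exact ⟨⟨this⟩⟩

theorem arith_aux (p z : ℕ) (hp : 0 < p) : z * p ^ 2 - z = (p + 1) * (z * (p - 1)) := by
  obtain ⟨q, rfl⟩ : ∃ q, p = q + 1 := ⟨p - 1, by omega⟩
  rw [Nat.add_sub_cancel]
  apply Nat.sub_eq_of_eq_add
  ring

/-- Let S be a non-abelian finite p-group with an abelian subgroup A of index p. Then [S : Z(S)] = p·#[S,S], and either [S,S] has order p, S/Z(S) is elementary abelian of order p², and S has exactly p + 1 abelian subgroups of index p; or [S,S] has order at least p² and A is the only abelian subgroup of index p in S. -/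
theorem result {S : Type*} [Group S] [Finite S] (p : ℕ) [Fact p.Prime] (hS : IsPGroup p S) (hna : ¬ IsMulCommutative S)
    (A : Subgroup S) (hA : IsMulCommutative ↥A) (hAi : A.index = p) :
    (Subgroup.center S).index = p * Nat.card (commutator S) ∧
      ((Nat.card (commutator S) = p ∧ Cfsg.IsElementaryAbelian p (⊤ : Subgroup (S ⧸ Subgroup.center S)) ∧
          Nat.card (S ⧸ Subgroup.center S) = p ^ 2 ∧
          Nat.card {B : Subgroup S // IsMulCommutative ↥B ∧ B.index = p} = p + 1) ∨
        (p ^ 2 ≤ Nat.card (commutator S) ∧ ∀ B : Subgroup S, IsMulCommutative ↥B → B.index = p → B = A)) := by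
  classical
  have hp := (Fact.out : p.Prime)
  have hAco : IsCoatom A := Cfsg.Agent.Lib.Helper2.isCoatom_of_index_eq_prime hp hAi
  have hAn : A.Normal := Cfsg.Agent.Lib.Helper2.normal_of_isCoatom_of_isPGroup hS hAco
  have hAc : ∀ a ∈ A, ∀ b ∈ A, a * b = b * a := fun a ha b hb =>
    congrArg Subtype.val (hA.is_comm.comm ⟨a, ha⟩ ⟨b, hb⟩)
  obtain ⟨s, hs⟩ : ∃ s, s ∉ A := by
    by_contra h; push_neg at h
    exact hAco.1 (eq_top_iff.mpr fun x _ => h x)
  have hAs : A ⊔ Subgroup.zpowers s = ⊤ := sup_zpowers_eq_top A hAco s hs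
  have hZA : Subgroup.center S ≤ A := center_le_of_abelian_coatom hna A hAco hAc
  let φ : ↥A →* ↥A := MonoidHom.mk'
    (fun a => ⟨a * (s * (a : S)⁻¹ * s⁻¹), A.mul_mem a.2 (hAn.conj_mem _ (A.inv_mem a.2) s)⟩) (by
    intro a b
    apply Subtype.ext
    simp only [Subgroup.coe_mul]
    have hb' : s * (b : S)⁻¹ * s⁻¹ ∈ A := hAn.conj_mem _ (A.inv_mem b.2) s
    have ha' : s * (a : S)⁻¹ * s⁻¹ ∈ A := hAn.conj_mem _ (A.inv_mem a.2) s
    calc (a : S) * b * (s * ((a : S) * b)⁻¹ * s⁻¹)
        = a * ((b * (s * (b : S)⁻¹ * s⁻¹)) * (s * (a : S)⁻¹ * s⁻¹)) := by group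
      _ = a * ((s * (a : S)⁻¹ * s⁻¹) * (b * (s * (b : S)⁻¹ * s⁻¹))) := by
          rw [hAc _ (A.mul_mem b.2 hb') _ ha']
      _ = a * (s * (a : S)⁻¹ * s⁻¹) * (b * (s * (b : S)⁻¹ * s⁻¹)) := by group)
  have hφ : ∀ a : ↥A, ((φ a : ↥A) : S) = a * (s * (a : S)⁻¹ * s⁻¹) := fun a => rfl
  have hker : φ.ker.map A.subtype = Subgroup.center S := by
    ext x
    constructor
    · rintro ⟨a, ha, rfl⟩
      have h1 : (a : S) * (s * (a : S)⁻¹ * s⁻¹) = 1 := by
        have h0 := MonoidHom.mem_ker.mp ha
        have h00 := congrArg Subtype.val h0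
        rw [hφ] at h00
        exact h00
      have has : (a : S) * s = s * a := by
        calc (a : S) * s = ((a : S) * (s * (a : S)⁻¹ * s⁻¹)) * (s * a) := by group
          _ = s * a := by rw [h1, one_mul]
      show (a : S) ∈ Subgroup.center S
      rw [Subgroup.mem_center_iff]
      intro g
      have hg : g ∈ A ⊔ Subgroup.zpowers s := by rw [hAs]; exact Subgroup.mem_top g
      have hle : A ⊔ Subgroup.zpowers s ≤ Subgroup.centralizer ({(a : S)} : Set S) := by
        apply sup_le
        · intro b hb
          rw [Subgroup.mem_centralizer_iff]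
          intro h hh; rw [Set.mem_singleton_iff.mp hh]; exact hAc a a.2 b hb
        · rw [Subgroup.zpowers_le, Subgroup.mem_centralizer_iff]
          intro h hh; rw [Set.mem_singleton_iff.mp hh]; exact has
      exact (Subgroup.mem_centralizer_iff.mp (hle hg) a rfl).symm
    · intro hx
      refine ⟨⟨x, hZA hx⟩, ?_, rfl⟩
      rw [SetLike.mem_coe, MonoidHom.mem_ker]
      apply Subtype.ext
      rw [hφ]
      show x * (s * x⁻¹ * s⁻¹) = 1
      have := Subgroup.mem_center_iff.mp hx s
      calc x * (s * x⁻¹ * s⁻¹) = (x * s) * x⁻¹ * s⁻¹ := by group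
        _ = (s * x) * x⁻¹ * s⁻¹ := by rw [this]
        _ = 1 := by group
  -- the range
  have hNmem : ∀ n, n ∈ φ.range.map A.subtype ↔ ∃ a ∈ A, a * (s * a⁻¹ * s⁻¹) = n := by
    intro n
    constructor
    · rintro ⟨_, ⟨a, rfl⟩, rfl⟩
      exact ⟨a, a.2, rfl⟩
    · rintro ⟨a, ha, rfl⟩
      exact ⟨φ ⟨a, ha⟩, ⟨⟨a, ha⟩, rfl⟩, rfl⟩
  have hNA : φ.range.map A.subtype ≤ A := by rintro _ ⟨y, -, rfl⟩; exact y.2
  have hNle : φ.range.map A.subtype ≤ commutator S := by
    intro n hn
    obtain ⟨a, ha, rfl⟩ := (hNmem n).mp hn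
    have : a * (s * a⁻¹ * s⁻¹) = ⁅a, s⁆ := by rw [commutatorElement_def]; group
    rw [this, commutator_def]
    exact Subgroup.commutator_mem_commutator (Subgroup.mem_top _) (Subgroup.mem_top _)
  have hNn : (φ.range.map A.subtype).Normal := by
    have hN : A ⊔ Subgroup.zpowers s ≤
        Subgroup.normalizer ((φ.range.map A.subtype : Subgroup S) : Set S) := by
      apply sup_le
      · intro a ha
        rw [Subgroup.mem_normalizer_iff]
        intro n
        constructor
        · intro hn
          have : a * n * a⁻¹ = n := by rw [hAc a ha n (hNA hn)]; group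
          rw [this]; exact hn
        · intro hn
          have hnA : n ∈ A := by
            have h1 := hNA hn
            have : n = a⁻¹ * (a * n * a⁻¹) * a := by group
            rw [this]; exact A.mul_mem (A.mul_mem (A.inv_mem ha) h1) ha
          have : a * n * a⁻¹ = n := by rw [hAc a ha n hnA]; group
          rwa [this] at hn
      · rw [Subgroup.zpowers_le]
        apply Cfsg.Agent.Lib.Helper3.mem_normalizer_of_conj_le
        · intro n hn
          obtain ⟨a, ha, rfl⟩ := (hNmem n).mp hn
          rw [Subgroup.mem_comap]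
          show s * (a * (s * a⁻¹ * s⁻¹)) * s⁻¹ ∈ _
          rw [hNmem]
          exact ⟨s * a * s⁻¹, hAn.conj_mem a ha s, by group⟩
        · intro n hn
          obtain ⟨a, ha, rfl⟩ := (hNmem n).mp hn
          rw [Subgroup.mem_comap]
          show s⁻¹ * (a * (s * a⁻¹ * s⁻¹)) * s⁻¹⁻¹ ∈ _
          rw [hNmem]
          exact ⟨s⁻¹ * a * s, hAn.conj_mem' a ha s, by group⟩
    rw [hAs] at hN
    exact Subgroup.normalizer_eq_top_iff.mp (top_le_iff.mp hN)
  have hcomm_le : commutator S ≤ φ.range.map A.subtype := by
    rw [← Subgroup.Normal.quotient_commutative_iff_commutator_le]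
    have hπ : Function.Surjective (QuotientGroup.mk' (φ.range.map A.subtype)) :=
      QuotientGroup.mk'_surjective _
    have hAs' : A.map (QuotientGroup.mk' (φ.range.map A.subtype)) ⊔
        Subgroup.zpowers (QuotientGroup.mk' (φ.range.map A.subtype) s) = ⊤ := by
      rw [← MonoidHom.map_zpowers, ← Subgroup.map_sup, hAs]
      exact Subgroup.map_top_of_surjective _ hπ
    have hcomm := comm_of_gen _ _ hAs' (by
      rintro _ ⟨a, ha, rfl⟩ _ ⟨b, hb, rfl⟩
      rw [← map_mul, ← map_mul, hAc a ha b hb]) (by
      rintro _ ⟨a, ha, rfl⟩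
      rw [← map_mul, ← map_mul]
      show ((a * s : S) : S ⧸ (φ.range.map A.subtype)) = ((s * a : S) : S ⧸ _)
      rw [QuotientGroup.eq, hNmem]
      exact ⟨s⁻¹ * a⁻¹ * s, hAn.conj_mem' _ (A.inv_mem ha) s, by group⟩)
    exact ⟨⟨hcomm⟩⟩
  have hrange : φ.range.map A.subtype = commutator S := le_antisymm hNle hcomm_le
  have hcZ : Nat.card φ.ker = Nat.card (Subgroup.center S) := by
    rw [← hker, Subgroup.card_map_of_injective A.subtype_injective]
  have hcN : Nat.card φ.range = Nat.card (commutator S) := by
    rw [← hrange, Subgroup.card_map_of_injective A.subtype_injective]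
  have hA_card : Nat.card A = Nat.card (Subgroup.center S) * Nat.card (commutator S) := by
    rw [← hcZ, ← hcN, ← Subgroup.index_ker]; exact (Subgroup.card_mul_index φ.ker).symm
  have hS_card : Nat.card S = Nat.card A * p := by
    rw [← hAi]; exact (Subgroup.card_mul_index A).symm
  have hzpos : 0 < Nat.card (Subgroup.center S) := Nat.card_pos
  have hZ_idx : (Subgroup.center S).index = p * Nat.card (commutator S) := by
    have h1 := Subgroup.card_mul_index (Subgroup.center S)
    rw [hS_card, hA_card] at h1
    have : Nat.card (Subgroup.center S) * (Subgroup.center S).index =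
        Nat.card (Subgroup.center S) * (p * Nat.card (commutator S)) := by rw [h1]; ring
    exact Nat.eq_of_mul_eq_mul_left hzpos this
  refine ⟨hZ_idx, ?_⟩
  obtain ⟨k, hk⟩ := IsPGroup.iff_card.mp (hS.to_subgroup (commutator S))
  rcases k with _ | _ | k
  · exfalso; apply hna
    have hbot : commutator S = ⊥ := Subgroup.eq_bot_of_card_eq _ (by simpa using hk)
    refine ⟨⟨fun a b => ?_⟩⟩
    have : ⁅a, b⁆ ∈ commutator S := by
      rw [commutator_def]
      exact Subgroup.commutator_mem_commutator (Subgroup.mem_top _) (Subgroup.mem_top _)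
    rw [hbot, Subgroup.mem_bot] at this
    exact commutatorElement_eq_one_iff_mul_comm.mp this
  · left
    have hcp : Nat.card (commutator S) = p := by simpa using hk
    have hZi : (Subgroup.center S).index = p ^ 2 := by rw [hZ_idx, hcp]; ring
    have hQcard : Nat.card (S ⧸ Subgroup.center S) = p ^ 2 := by
      rw [← Subgroup.index_eq_card]; exact hZi
    refine ⟨hcp, ⟨?_, ?_⟩, hQcard, ?_⟩
    · have := IsPGroup.isMulCommutative_of_card_eq_prime_sq hQcard
      exact ⟨⟨fun a b => Subtype.ext (this.is_comm.comm a.1 b.1)⟩⟩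
    · intro x _
      by_contra hx
      have hdvd : orderOf x ∣ p ^ 2 := by rw [← hQcard]; exact orderOf_dvd_natCard x
      obtain ⟨j, hj, hjx⟩ := (Nat.dvd_prime_pow hp).mp hdvd
      have hj2 : j = 2 := by
        by_contra hne
        have hj1 : j ≤ 1 := by omega
        apply hx
        have : orderOf x ∣ p := by
          rw [hjx]
          calc p ^ j ∣ p ^ 1 := pow_dvd_pow p hj1
            _ = p := pow_one p
        exact orderOf_dvd_iff_pow_eq_one.mp this
      have hcyc : IsCyclic (S ⧸ Subgroup.center S) :=
        isCyclic_of_orderOf_eq_card x (by rw [hjx, hj2, hQcard])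
      apply hna
      exact ⟨⟨fun a b => commutative_of_cyclic_center_quotient
        (QuotientGroup.mk' (Subgroup.center S)) (by rw [QuotientGroup.ker_mk']) a b⟩⟩
    · have hZlt : ∀ B : Subgroup S, IsMulCommutative ↥B → B.index = p →
          Subgroup.center S ≤ B := by
        intro B hBc hBi
        exact center_le_of_abelian_coatom hna B
          (Cfsg.Agent.Lib.Helper2.isCoatom_of_index_eq_prime hp hBi)
          (fun a ha b hb => congrArg Subtype.val (hBc.is_comm.comm ⟨a, ha⟩ ⟨b, hb⟩))
      have hD : ∀ x : S, x ∉ Subgroup.center S →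
          IsMulCommutative ↥(Subgroup.center S ⊔ Subgroup.zpowers x) ∧
            (Subgroup.center S ⊔ Subgroup.zpowers x).index = p := by
        intro x hx
        have hDc : ∀ a ∈ Subgroup.center S ⊔ Subgroup.zpowers x,
            ∀ b ∈ Subgroup.center S ⊔ Subgroup.zpowers x, a * b = b * a := by
          have hcl : Subgroup.center S ⊔ Subgroup.zpowers x =
              Subgroup.closure ((Subgroup.center S : Set S) ∪ {x}) := by
            rw [Subgroup.closure_union, Subgroup.closure_eq, Subgroup.zpowers_eq_closure]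
          rw [hcl]
          apply Cfsg.Agent.Lib.Lead.UniqueOrderP.closure_comm_of_comm
          intro a ha b hb
          rcases ha with ha | ha
          · exact (Subgroup.mem_center_iff.mp ha b).symm
          · rcases hb with hb | hb
            · exact Subgroup.mem_center_iff.mp hb a
            · rw [Set.mem_singleton_iff.mp ha, Set.mem_singleton_iff.mp hb]
        have hDcomm : IsMulCommutative ↥(Subgroup.center S ⊔ Subgroup.zpowers x) :=
          ⟨⟨fun a b => Subtype.ext (hDc a.1 a.2 b.1 b.2)⟩⟩
        refine ⟨hDcomm, ?_⟩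
        have hdvd : (Subgroup.center S ⊔ Subgroup.zpowers x).index ∣ p ^ 2 := by
          rw [← hZi]; exact Subgroup.index_dvd_of_le le_sup_left
        obtain ⟨j, hj, hjx⟩ := (Nat.dvd_prime_pow hp).mp hdvd
        have hj0 : j ≠ 0 := by
          intro h0
          rw [h0, pow_zero, Subgroup.index_eq_one] at hjx
          apply hna
          exact ⟨⟨fun a b => hDc a (by rw [hjx]; exact Subgroup.mem_top a) b
            (by rw [hjx]; exact Subgroup.mem_top b)⟩⟩
        have hj2 : j ≠ 2 := by
          intro h2
          rw [h2] at hjx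
          have e1 := Subgroup.card_mul_index (Subgroup.center S ⊔ Subgroup.zpowers x)
          have e2 := Subgroup.card_mul_index (Subgroup.center S)
          rw [hjx] at e1; rw [hZi] at e2
          have e3 : Nat.card ↥(Subgroup.center S ⊔ Subgroup.zpowers x) =
              Nat.card (Subgroup.center S) := by
            have : Nat.card ↥(Subgroup.center S ⊔ Subgroup.zpowers x) * p ^ 2 =
                Nat.card (Subgroup.center S) * p ^ 2 := by rw [e1, e2]
            exact Nat.eq_of_mul_eq_mul_right (pow_pos hp.pos 2) this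
          have e4 : Subgroup.center S = Subgroup.center S ⊔ Subgroup.zpowers x :=
            Subgroup.eq_of_le_of_card_ge le_sup_left e3.le
          apply hx
          rw [e4]; exact Subgroup.mem_sup_right (Subgroup.mem_zpowers x)
        have hj1 : j = 1 := by omega
        rw [hjx, hj1, pow_one]
      have hDuniq : ∀ x : S, x ∉ Subgroup.center S → ∀ B : Subgroup S, IsMulCommutative ↥B →
          B.index = p → x ∈ B → B = Subgroup.center S ⊔ Subgroup.zpowers x := by
        intro x hx B hBc hBi hxB
        have hle : Subgroup.center S ⊔ Subgroup.zpowers x ≤ B :=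
          sup_le (hZlt B hBc hBi) (Subgroup.zpowers_le.mpr hxB)
        have hDco := Cfsg.Agent.Lib.Helper2.isCoatom_of_index_eq_prime hp (hD x hx).2
        have hBco := Cfsg.Agent.Lib.Helper2.isCoatom_of_index_eq_prime hp hBi
        rcases eq_or_lt_of_le hle with h | h
        · exact h.symm
        · exact absurd (hDco.2 B h) hBco.1
      haveI : Fintype S := Fintype.ofFinite S
      haveI : Fintype (Subgroup S) := Fintype.ofFinite _
      obtain ⟨z, hz⟩ : ∃ z, z = Nat.card (Subgroup.center S) := ⟨_, rfl⟩
      have hScard : Nat.card S = z * p ^ 2 := by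
        rw [hz, ← hZi]; exact (Subgroup.card_mul_index _).symm
      let sF : Finset S := Finset.univ.filter (fun x : S => x ∉ Subgroup.center S)
      let tF : Finset (Subgroup S) :=
        Finset.univ.filter (fun B : Subgroup S => IsMulCommutative ↥B ∧ B.index = p)
      have hm : ∀ x ∈ sF,
          (tF.bipartiteAbove (fun (x : S) (B : Subgroup S) => x ∈ B) x).card = 1 := by
        intro x hx
        have hxZ : x ∉ Subgroup.center S := (Finset.mem_filter.mp hx).2
        rw [Finset.card_eq_one]
        refine ⟨Subgroup.center S ⊔ Subgroup.zpowers x, ?_⟩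
        ext B
        simp only [Finset.bipartiteAbove, Finset.mem_filter, Finset.mem_singleton, tF,
          Finset.mem_univ, true_and]
        constructor
        · rintro ⟨⟨hBc, hBi⟩, hxB⟩
          exact hDuniq x hxZ B hBc hBi hxB
        · rintro rfl
          exact ⟨hD x hxZ, Subgroup.mem_sup_right (Subgroup.mem_zpowers x)⟩
      have hn : ∀ B ∈ tF,
          (sF.bipartiteBelow (fun (x : S) (B : Subgroup S) => x ∈ B) B).card = z * (p - 1) := by
        intro B hB
        obtain ⟨hBc, hBi⟩ := (Finset.mem_filter.mp hB).2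
        have hZB := hZlt B hBc hBi
        have hBcard : Nat.card B = z * p := by
          have e := Subgroup.card_mul_index B
          rw [hBi, hScard] at e
          have : Nat.card B * p = (z * p) * p := by rw [e]; ring
          exact Nat.eq_of_mul_eq_mul_right hp.pos this
        rw [← Set.ncard_coe_finset]
        have hset : ((sF.bipartiteBelow (fun (x : S) (B : Subgroup S) => x ∈ B) B : Finset S) :
            Set S) = (B : Set S) \ (Subgroup.center S : Set S) := by
          ext x
          simp only [Finset.bipartiteBelow, Finset.coe_filter, Finset.mem_filter, sF,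
            Finset.mem_univ, true_and, Set.mem_setOf_eq, Set.mem_diff, SetLike.mem_coe]
          tauto
        rw [hset, Set.ncard_sdiff (by exact_mod_cast hZB) (Set.toFinite _)]
        rw [← Nat.card_coe_set_eq, ← Nat.card_coe_set_eq]
        show Nat.card B - Nat.card (Subgroup.center S) = _
        rw [hBcard, ← hz, Nat.mul_sub z p 1, mul_one]
      have hdc := Finset.card_mul_eq_card_mul (fun (x : S) (B : Subgroup S) => x ∈ B) hm hn
      have hsF : sF.card = z * p ^ 2 - z := by
        rw [← Set.ncard_coe_finset]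
        have hset : ((sF : Finset S) : Set S) = (Subgroup.center S : Set S)ᶜ := by
          ext x; simp [sF]
        rw [hset, Set.ncard_compl, ← hScard, ← Nat.card_coe_set_eq, hz]
        rfl
      have htF : Nat.card {B : Subgroup S // IsMulCommutative ↥B ∧ B.index = p} = tF.card := by
        rw [← Set.ncard_coe_finset]
        have hset : ((tF : Finset (Subgroup S)) : Set (Subgroup S)) =
            {B : Subgroup S | IsMulCommutative ↥B ∧ B.index = p} := by
          ext B; simp [tF]
        rw [hset]; rfl
      rw [htF]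
      rw [hsF, mul_one, arith_aux p z hp.pos] at hdc
      have hq : 0 < p - 1 := by have := hp.one_lt; omega
      have hpos : 0 < z * (p - 1) := Nat.mul_pos (hz ▸ hzpos) hq
      exact (Nat.eq_of_mul_eq_mul_right hpos hdc).symm
  · right
    have hcge : p ^ 2 ≤ Nat.card (commutator S) := by
      rw [hk]; exact Nat.pow_le_pow_right hp.pos (by omega)
    refine ⟨hcge, ?_⟩
    intro B hBc hBi
    by_contra hne
    have hBco : IsCoatom B := Cfsg.Agent.Lib.Helper2.isCoatom_of_index_eq_prime hp hBi
    have hBc' : ∀ a ∈ B, ∀ b ∈ B, a * b = b * a := fun a ha b hb =>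
      congrArg Subtype.val (hBc.is_comm.comm ⟨a, ha⟩ ⟨b, hb⟩)
    have hsup : A ⊔ B = ⊤ := by
      apply hAco.2
      apply lt_of_le_of_ne le_sup_left
      intro h
      have hBA : B ≤ A := by rw [h]; exact le_sup_right
      rcases eq_or_lt_of_le hBA with h' | h'
      · exact hne h'
      · exact hAco.1 (hBco.2 A h')
    have hinfZ : A ⊓ B ≤ Subgroup.center S := by
      intro x hx
      rw [Subgroup.mem_center_iff]
      intro g
      have hg : g ∈ A ⊔ B := by rw [hsup]; exact Subgroup.mem_top g
      have hle : A ⊔ B ≤ Subgroup.centralizer ({x} : Set S) := by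
        apply sup_le
        · intro a ha
          rw [Subgroup.mem_centralizer_iff]
          intro h hh; rw [Set.mem_singleton_iff.mp hh]; exact hAc x hx.1 a ha
        · intro b hb
          rw [Subgroup.mem_centralizer_iff]
          intro h hh; rw [Set.mem_singleton_iff.mp hh]; exact hBc' x hx.2 b hb
      exact (Subgroup.mem_centralizer_iff.mp (hle hg) x rfl).symm
    have h1 : (Subgroup.center S).index ∣ (A ⊓ B).index := Subgroup.index_dvd_of_le hinfZ
    have h2 : (A ⊓ B).index ≤ p * p := by
      have := Subgroup.index_inf_le (H := A) (K := B); rwa [hAi, hBi] at this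
    have h3 : (A ⊓ B).index ≠ 0 := Subgroup.index_ne_zero_of_finite
    have h4 : (Subgroup.center S).index ≤ p * p :=
      (Nat.le_of_dvd (Nat.pos_of_ne_zero h3) h1).trans h2
    rw [hZ_idx] at h4
    have h5 : Nat.card (commutator S) ≤ p := Nat.le_of_mul_le_mul_left h4 hp.pos
    have h6 : p < p ^ 2 := by rw [sq]; exact lt_mul_of_one_lt_left hp.pos hp.one_lt
    omega

end Cfsg.Agent.S3807
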