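import Cfsg.Statements.S3808
import Cfsg.Agent.Lib.Helper17.ClassTwoP
import Cfsg.Agent.Lib.Helper11.PGroupFrattini
import Cfsg.Agent.Lib.Helper2.NilpotentBasic
open Cfsg.Agent.Lib.Helper17

set_option autoImplicit false
open Cfsg

namespace Cfsg.Agent.S3808

/-- Let S be a finite p-group with an extraspecial subgroup Q of index p. Then either Z(S) = Z(Q), or S = Q·Z(S) and Z(S) has order p². -/
theorem result {S : Type*} [Group S] [Finite S] (p : ℕ) [Fact p.Prime] (hS : IsPGroup p S) (Q : Subgroup S) (hQ : Cfsg.IsExtraspecial p ↥Q) (hQi : Q.index = p) :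
    Subgroup.center S = (Subgroup.center ↥Q).map Q.subtype ∨
      (Q ⊔ Subgroup.center S = ⊤ ∧ Nat.card (Subgroup.center S) = p ^ 2) := by
  classical
  have hp : p.Prime := Fact.out
  obtain ⟨⟨hP, hfr, hco⟩, hZ⟩ := hQ
  -- Q is maximal and normal
  have hcoatom : IsCoatom Q := isCoatom_of_index_prime' hp hQi
  haveI hQn : Q.Normal := Cfsg.Agent.Lib.Helper11.coatom_normal_of_isPGroup hS Q hcoatom
  -- Z(Q) inside S
  have hZQn : ((Subgroup.center ↥Q).map Q.subtype).Normal := inferInstance
  have hZQcard : Nat.card ((Subgroup.center ↥Q).map Q.subtype) = p := by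
    rw [Subgroup.card_map_of_injective Q.subtype_injective, hZ]
  have hZQne : (Subgroup.center ↥Q).map Q.subtype ≠ ⊥ := by
    intro h
    rw [h, Subgroup.card_bot] at hZQcard
    exact hp.one_lt.ne hZQcard
  haveI : Group.IsNilpotent S := hS.isNilpotent
  have hmeet := Cfsg.Agent.Lib.Helper2.normal_inf_center_ne_bot
    ((Subgroup.center ↥Q).map Q.subtype) hZQne
  have hZQle : (Subgroup.center ↥Q).map Q.subtype ≤ Subgroup.center S := by
    have h1 : Nat.card ↥((Subgroup.center ↥Q).map Q.subtype ⊓ Subgroup.center S) ∣ p := by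
      rw [← hZQcard]
      exact Subgroup.card_dvd_of_le inf_le_left
    rcases (Nat.dvd_prime hp).mp h1 with h | h
    · exfalso
      exact hmeet (Subgroup.card_eq_one.mp h)
    · have h2 : (Subgroup.center ↥Q).map Q.subtype ⊓ Subgroup.center S =
          (Subgroup.center ↥Q).map Q.subtype :=
        Subgroup.eq_of_le_of_card_ge inf_le_left (by rw [h, hZQcard])
      rw [← h2]
      exact inf_le_right
  have hinf : Q ⊓ Subgroup.center S = (Subgroup.center ↥Q).map Q.subtype := by
    apply le_antisymm
    · rintro z ⟨hzQ, hzZ⟩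
      refine ⟨⟨z, hzQ⟩, ?_, rfl⟩
      rw [SetLike.mem_coe, Subgroup.mem_center_iff]
      intro g
      apply Subtype.ext
      exact Subgroup.mem_center_iff.mp hzZ g
    · refine le_inf ?_ hZQle
      rintro _ ⟨z, -, rfl⟩
      exact z.2
  by_cases hle : Subgroup.center S ≤ Q
  · left
    rw [← hinf, inf_eq_right.mpr hle]
  · right
    have htop : Q ⊔ Subgroup.center S = ⊤ := by
      by_contra hne
      have hlt : Q < Q ⊔ Subgroup.center S := by
        refine lt_of_le_of_ne le_sup_left ?_
        intro heq
        apply hle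
        rw [heq]
        exact le_sup_right
      exact hne (hcoatom.2 _ hlt)
    refine ⟨htop, ?_⟩
    have h1 : Q.relIndex (Subgroup.center S ⊔ Q) = Q.relIndex (Subgroup.center S) :=
      Subgroup.relIndex_sup_right _ _
    rw [sup_comm, htop, Subgroup.relIndex_top_right, hQi] at h1
    have h2 : Nat.card ↥(Q.subgroupOf (Subgroup.center S)) *
        (Q.subgroupOf (Subgroup.center S)).index = Nat.card (Subgroup.center S) :=
      Subgroup.card_mul_index _
    have h3 : Nat.card ↥(Q.subgroupOf (Subgroup.center S)) = p := by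
      rw [← hZQcard, ← hinf, inf_comm, ← Subgroup.inf_subgroupOf_left Q (Subgroup.center S)]
      exact Nat.card_congr (Subgroup.subgroupOfEquivOfLe
        (inf_le_left : Subgroup.center S ⊓ Q ≤ Subgroup.center S)).toEquiv
    have h4 : (Q.subgroupOf (Subgroup.center S)).index = p := h1.symm
    rw [h3, h4] at h2
    rw [← h2, sq]

end Cfsg.Agent.S3808
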