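import Cfsg.Statements.S3809
import Cfsg.Agent.Lib.Helper17.ClassTwoP
import Cfsg.Agent.Lib.Helper11.PGroupFrattini
import Cfsg.Agent.Lib.Helper2.NilpotentBasic
import Cfsg.Agent.Lib.Helper24.Extraspecial
open Cfsg.Agent.Lib.Helper17
open scoped commutatorElement

set_option autoImplicit false
open Cfsg

namespace Cfsg.Agent.S3809

/-- Let S be a finite p-group with an extraspecial subgroup of index p. Then S has order p^(2+2n) for some n ≥ 1, derived length at most 3, and exponent dividing p³. -/
theorem result {S : Type*} [Group S] [Finite S] (p : ℕ) [Fact p.Prime] (hS : IsPGroup p S) (Q : Subgroup S) (hQ : Cfsg.IsExtraspecial p ↥Q) (hQi : Q.index = p) :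
    (∃ n : ℕ, 1 ≤ n ∧ Nat.card S = p ^ (2 + 2 * n)) ∧ derivedSeries S 3 = ⊥ ∧ ∀ x : S, x ^ (p ^ 3) = 1 := by
  classical
  have hp : p.Prime := Fact.out
  obtain ⟨⟨hP, hfr, hco⟩, hZ⟩ := hQ
  have hcoatom : IsCoatom Q := isCoatom_of_index_prime' hp hQi
  haveI hQn : Q.Normal := Cfsg.Agent.Lib.Helper11.coatom_normal_of_isPGroup hS Q hcoatom
  have hcommE : ∀ a b : Q, a * b * a⁻¹ * b⁻¹ ∈ Subgroup.center Q := by
    intro a b
    rw [← hco, commutator_def]
    exact Subgroup.commutator_mem_commutator (Subgroup.mem_top a) (Subgroup.mem_top b)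
  -- order
  have hcard : ∃ n : ℕ, 1 ≤ n ∧ Nat.card Q = p ^ (2 * n + 1) := by
    obtain ⟨n, hn⟩ := Cfsg.Agent.Lib.Helper24.card_eq_prime_pow_odd p (Nat.card Q) Q rfl hZ hcommE
    refine ⟨n, ?_, hn⟩
    by_contra hn0
    have hn0' : n = 0 := by omega
    rw [hn0', Nat.mul_zero, Nat.zero_add, pow_one] at hn
    -- then center Q = ⊤, so Q is abelian and its commutator is trivial
    have htop : Subgroup.center Q = ⊤ :=
      Subgroup.eq_top_of_card_eq _ (by rw [hZ, hn])
    have hbot : commutator Q = ⊥ := by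
      rw [commutator_def, Subgroup.commutator_eq_bot_iff_le_centralizer]
      intro a _
      rw [Subgroup.mem_centralizer_iff]
      intro b _
      have : a ∈ Subgroup.center Q := htop ▸ Subgroup.mem_top a
      exact Subgroup.mem_center_iff.mp this b
    rw [hbot] at hco
    rw [← hco, Subgroup.card_bot] at hZ
    exact hp.one_lt.ne hZ
  -- Z(Q) ≤ Z(S)
  have hZQn : ((Subgroup.center ↥Q).map Q.subtype).Normal := inferInstance
  have hZQcard : Nat.card ((Subgroup.center ↥Q).map Q.subtype) = p := by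
    rw [Subgroup.card_map_of_injective Q.subtype_injective, hZ]
  have hZQne : (Subgroup.center ↥Q).map Q.subtype ≠ ⊥ := by
    intro h
    rw [h, Subgroup.card_bot] at hZQcard
    exact hp.one_lt.ne hZQcard
  haveI : Group.IsNilpotent S := hS.isNilpotent
  have hmeet := Cfsg.Agent.Lib.Helper2.normal_inf_center_ne_bot
    ((Subgroup.center ↥Q).map Q.subtype) hZQne
  have hZQle : (Subgroup.center ↥Q).map Q.subtype ≤ Subgroup.center S := by
    have h1 : Nat.card ↥((Subgroup.center ↥Q).map Q.subtype ⊓ Subgroup.center S) ∣ p := by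
      rw [← hZQcard]
      exact Subgroup.card_dvd_of_le inf_le_left
    rcases (Nat.dvd_prime hp).mp h1 with h | h
    · exfalso
      exact hmeet (Subgroup.card_eq_one.mp h)
    · have h2 : (Subgroup.center ↥Q).map Q.subtype ⊓ Subgroup.center S =
          (Subgroup.center ↥Q).map Q.subtype :=
        Subgroup.eq_of_le_of_card_ge inf_le_left (by rw [h, hZQcard])
      rw [← h2]
      exact inf_le_right
  refine ⟨?_, ?_, ?_⟩
  · obtain ⟨n, hn1, hn⟩ := hcard
    refine ⟨n, hn1, ?_⟩
    rw [← Subgroup.card_mul_index Q, hQi, hn]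
    ring
  · -- derived length
    have hquot : Nat.card (S ⧸ Q) = p := by rw [← Subgroup.index_eq_card, hQi]
    have h1 : derivedSeries S 1 ≤ Q := by
      rw [derivedSeries_one, commutator_eq_closure, Subgroup.closure_le]
      rintro x ⟨a, b, rfl⟩
      rw [SetLike.mem_coe, ← QuotientGroup.eq_one_iff]
      change QuotientGroup.mk' Q ⁅a, b⁆ = 1
      rw [map_commutatorElement]
      haveI := isCyclic_of_prime_card hquot
      rw [commutatorElement_eq_one_iff_mul_comm]
      obtain ⟨g, hg⟩ := IsCyclic.exists_generator (α := S ⧸ Q)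
      obtain ⟨i, hi⟩ := Subgroup.mem_zpowers_iff.mp (hg (QuotientGroup.mk' Q a))
      obtain ⟨j, hj⟩ := Subgroup.mem_zpowers_iff.mp (hg (QuotientGroup.mk' Q b))
      rw [← hi, ← hj, ← zpow_add, ← zpow_add, add_comm]
    have h2 : derivedSeries S 2 ≤ (Subgroup.center ↥Q).map Q.subtype := by
      rw [derivedSeries_succ, ← hco, Subgroup.map_subtype_commutator]
      exact Subgroup.commutator_mono h1 h1
    rw [derivedSeries_succ, Subgroup.commutator_eq_bot_iff_le_centralizer]
    refine le_trans h2 (le_trans hZQle ?_)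
    rw [← Subgroup.centralizer_univ]
    exact Subgroup.centralizer_le (Set.subset_univ _)
  · intro x
    have h1 : x ^ p ∈ Q := by
      have := Q.pow_index_mem x
      rwa [hQi] at this
    have h2 : (⟨x ^ p, h1⟩ : Q) ^ p ∈ Subgroup.center Q := by
      rw [← hfr]
      exact Cfsg.Agent.Lib.Helper11.pow_mem_frattini_of_isPGroup hP _
    have h3 : ((⟨_, h2⟩ : Subgroup.center Q)) ^ Nat.card (Subgroup.center Q) = 1 :=
      pow_card_eq_one'
    rw [hZ] at h3
    have h4 := congrArg (fun z : Subgroup.center Q => ((z : Q) : S)) h3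
    simp only [Subgroup.coe_pow, Subgroup.coe_one] at h4
    rw [pow_succ, pow_succ, pow_one, pow_mul, pow_mul]
    exact h4

end Cfsg.Agent.S3809
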