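import Cfsg.Statements.S3810
import Cfsg.Agent.Lib.Helper17.ExtraspecialIndexP
open Cfsg.Agent.Lib.Helper17

set_option autoImplicit false
open Cfsg

namespace Cfsg.Agent.S3810

/-- Let S be a finite p-group with an extraspecial subgroup of index p. Then S has an abelian subgroup of index p if and only if S has order p⁴. -/
theorem result {S : Type*} [Group S] [Finite S] (p : ℕ) [Fact p.Prime] (hS : IsPGroup p S) (Q : Subgroup S) (hQ : Cfsg.IsExtraspecial p ↥Q) (hQi : Q.index = p) :
    (∃ A : Subgroup S, IsMulCommutative ↥A ∧ A.index = p) ↔ Nat.card S = p ^ 4 := by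
  constructor
  · rintro ⟨A, hAc, hAi⟩
    exact card_eq_of_abelian_index_p hS Q hQ hQi A hAc hAi
  · intro hcard
    exact exists_abelian_index_p_of_card hS Q hQ hQi hcard

end Cfsg.Agent.S3810
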