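import Cfsg.Statements.S3820
-- import your own Cfsg.Agent.* helpers here

set_option autoImplicit false
open Cfsg

namespace Cfsg.Agent.S3820

/-- Call a subgroup H of G pronormal if H and gHg⁻¹ are conjugate inside ⟨H, gHg⁻¹⟩ for every g ∈ G. Let S ≤ H ≤ G be subgroups of a finite group with S pronormal in G (for instance S a Sylow subgroup). Then H is pronormal in G if and only if H and gHg⁻¹ are conjugate inside ⟨H, gHg⁻¹⟩ for every g ∈ N_G(S). In particular H is pronormal whenever N_G(S) ≤ H. -/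
theorem result {G : Type*} [Group G] [Finite G] (S H : Subgroup G) (hSH : S ≤ H)
    (hS : Cfsg.IsPronormal S) :
    Cfsg.IsPronormal H ↔
      ∀ g ∈ Subgroup.normalizer (S : Set G), ∃ w ∈ H ⊔ H.map (MulAut.conj g).toMonoidHom,
        H.map (MulAut.conj g).toMonoidHom = H.map (MulAut.conj w).toMonoidHom := by
  constructor
  · intro hH g _
    exact hH g
  · intro hN g
    obtain ⟨x, hxJ, hx⟩ := hS g
    -- J = H ⊔ H^g
    set J := H ⊔ H.map (MulAut.conj g).toMonoidHom with hJ
    have hSJ : S ⊔ S.map (MulAut.conj g).toMonoidHom ≤ J :=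
      sup_le_sup hSH (Subgroup.map_mono hSH)
    have hxJ' : x ∈ J := hSJ hxJ
    -- n = x⁻¹ g normalizes S
    have hn : x⁻¹ * g ∈ Subgroup.normalizer (S : Set G) := by
      rw [Subgroup.mem_normalizer_iff_map_conj_eq]
      have : (MulAut.conj (x⁻¹ * g)).toMonoidHom = (MulAut.conj x⁻¹).toMonoidHom.comp (MulAut.conj g).toMonoidHom := by
        ext y; simp [MulAut.conj_apply, mul_assoc]
      show S.map (MulAut.conj (x⁻¹ * g)).toMonoidHom = S
      rw [this, ← Subgroup.map_map, hx, Subgroup.map_map]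
      have : (MulAut.conj x⁻¹).toMonoidHom.comp (MulAut.conj x).toMonoidHom = MonoidHom.id G := by
        ext y; simp [MulAut.conj_apply, mul_assoc]
      rw [this, Subgroup.map_id]
    obtain ⟨w, hw, hwH⟩ := hN _ hn
    refine ⟨x * w, ?_, ?_⟩
    · refine J.mul_mem hxJ' ?_
      -- w ∈ H ⊔ H^(x⁻¹ g) ≤ J
      have hle : H ⊔ H.map (MulAut.conj (x⁻¹ * g)).toMonoidHom ≤ J := by
        refine sup_le le_sup_left ?_
        rintro _ ⟨h, hh, rfl⟩
        have h1 : g * h * g⁻¹ ∈ J := by
          apply (le_sup_right : H.map (MulAut.conj g).toMonoidHom ≤ J)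
          exact ⟨h, hh, by simp [MulAut.conj_apply]⟩
        have : (MulAut.conj (x⁻¹ * g)).toMonoidHom h = x⁻¹ * (g * h * g⁻¹) * x := by
          simp [MulAut.conj_apply, mul_assoc]
        rw [this]
        exact J.mul_mem (J.mul_mem (J.inv_mem hxJ') h1) hxJ'
      exact hle hw
    · have e1 : (MulAut.conj g).toMonoidHom = (MulAut.conj x).toMonoidHom.comp (MulAut.conj (x⁻¹ * g)).toMonoidHom := by
        ext y; simp [MulAut.conj_apply, mul_assoc]
      have e2 : (MulAut.conj (x * w)).toMonoidHom = (MulAut.conj x).toMonoidHom.comp (MulAut.conj w).toMonoidHom := by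
        ext y; simp [MulAut.conj_apply, mul_assoc]
      rw [e1, e2, ← Subgroup.map_map, ← Subgroup.map_map, hwH]

end Cfsg.Agent.S3820
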