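import Cfsg.Statements.S3821
-- import your own Cfsg.Agent.* helpers here

set_option autoImplicit false
open Cfsg

namespace Cfsg.Agent.S3821

/-- Let A be a normal subgroup of the finite group G and H a subgroup of A. Then H is pronormal in G (H and gHg⁻¹ conjugate inside ⟨H, gHg⁻¹⟩ for every g ∈ G) if and only if H is pronormal in A and G = A · N_G(H). -/
theorem result {G : Type*} [Group G] [Finite G] (A H : Subgroup G) [A.Normal] (hHA : H ≤ A) :
    Cfsg.IsPronormal H ↔ (Cfsg.IsPronormal (H.subgroupOf A) ∧ A ⊔ Subgroup.normalizer (H : Set G) = ⊤) := by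
  have hsub : (H.subgroupOf A).map A.subtype = H := Subgroup.map_subgroupOf_eq_of_le hHA
  have hmapconj : ∀ (L : Subgroup A) (a : A), (L.map (MulAut.conj a).toMonoidHom).map A.subtype
      = (L.map A.subtype).map (MulAut.conj (a : G)).toMonoidHom := by
    intro L a
    rw [Subgroup.map_map, Subgroup.map_map]
    congr 1
  have hconjA : ∀ a : G, a ∈ A → H.map (MulAut.conj a).toMonoidHom ≤ A := by
    intro a ha
    rintro _ ⟨h, hh, rfl⟩
    show a * h * a⁻¹ ∈ A
    exact A.mul_mem (A.mul_mem ha (hHA hh)) (A.inv_mem ha)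
  have hconjG : ∀ g : G, H.map (MulAut.conj g).toMonoidHom ≤ A := by
    intro g
    rintro _ ⟨h, hh, rfl⟩
    show g * h * g⁻¹ ∈ A
    exact (inferInstance : A.Normal).conj_mem h (hHA hh) g
  have hinj : Function.Injective (Subgroup.map A.subtype) :=
    Subgroup.map_injective A.subtype_injective
  constructor
  · intro hH
    refine ⟨?_, ?_⟩
    · intro a
      obtain ⟨x, hx, hxe⟩ := hH (a : G)
      have hxA : x ∈ A := (sup_le hHA (hconjG a)) hx
      refine ⟨⟨x, hxA⟩, ?_, ?_⟩
      · rw [← Subgroup.mem_map_iff_mem A.subtype_injective, Subgroup.map_sup, hmapconj, hsub]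
        exact hx
      · apply hinj
        rw [hmapconj, hmapconj, hsub]
        exact hxe
    · rw [eq_top_iff]
      intro g _
      obtain ⟨x, hx, hxe⟩ := hH g
      have hxA : x ∈ A := (sup_le hHA (hconjG g)) hx
      have hn : x⁻¹ * g ∈ Subgroup.normalizer (H : Set G) := by
        rw [Subgroup.mem_normalizer_iff_map_conj_eq]
        have : (MulAut.conj (x⁻¹ * g)).toMonoidHom = (MulAut.conj x⁻¹).toMonoidHom.comp (MulAut.conj g).toMonoidHom := by
          ext y; simp [MulAut.conj_apply, mul_assoc]
        show H.map (MulAut.conj (x⁻¹ * g)).toMonoidHom = H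
        rw [this, ← Subgroup.map_map, hxe, Subgroup.map_map]
        have : (MulAut.conj x⁻¹).toMonoidHom.comp (MulAut.conj x).toMonoidHom = MonoidHom.id G := by
          ext y; simp [MulAut.conj_apply, mul_assoc]
        rw [this, Subgroup.map_id]
      have : g = x * (x⁻¹ * g) := by group
      rw [this]
      exact Subgroup.mul_mem_sup hxA hn
  · rintro ⟨hHA', htop⟩ g
    have hg : g ∈ A ⊔ Subgroup.normalizer (H : Set G) := by rw [htop]; trivial
    obtain ⟨a, ha, n, hn, rfl⟩ := Subgroup.mem_sup_of_normal_left.mp hg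
    have hn' : H.map (MulAut.conj n).toMonoidHom = H := Subgroup.mem_normalizer_iff_map_conj_eq.mp hn
    have e1 : H.map (MulAut.conj (a * n)).toMonoidHom = H.map (MulAut.conj a).toMonoidHom := by
      have : (MulAut.conj (a * n)).toMonoidHom = (MulAut.conj a).toMonoidHom.comp (MulAut.conj n).toMonoidHom := by
        ext y; simp [MulAut.conj_apply, mul_assoc]
      rw [this, ← Subgroup.map_map, hn']
    obtain ⟨x, hx, hxe⟩ := hHA' ⟨a, ha⟩
    refine ⟨(x : G), ?_, ?_⟩
    · rw [e1]
      rw [← Subgroup.mem_map_iff_mem A.subtype_injective, Subgroup.map_sup, hmapconj, hsub] at hx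
      exact hx
    · rw [e1]
      have := congrArg (Subgroup.map A.subtype) hxe
      rw [hmapconj, hmapconj, hsub] at this
      exact this

end Cfsg.Agent.S3821
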