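import Cfsg.Statements.S3825
import Mathlib
import Cfsg.Agent.Lib.Helper3.ElemAb2
-- import your own Cfsg.Agent.* helpers here

set_option autoImplicit false
open Cfsg

namespace Cfsg.Agent.S3825

/-- Let U be a subgroup of a finite group H and w an involution of H normalizing U and commuting with exactly two elements of U, the identity and y. If V is a non-cyclic elementary abelian 2-subgroup of U containing y which is normal in U and invariant under w, then V is a Sylow 2-subgroup of U, V has order 4, and U/V is abelian. -/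
theorem result {H : Type*} [Group H] [Finite H] (U : Subgroup H) (w : H) (hw : orderOf w = 2)
    (hwU : w ∈ Subgroup.normalizer (U : Set H)) (y : H) (hy : y ≠ 1) (hyU : y ∈ U)
    (hfix : ∀ u ∈ U, w * u * w⁻¹ = u ↔ (u = 1 ∨ u = y))
    (V : Subgroup H) (hVU : V ≤ U) (hVn : (V.subgroupOf U).Normal) (hVw : ∀ v ∈ V, w * v * w⁻¹ ∈ V)
    (hVe : Cfsg.IsElementaryAbelian 2 V) (hVc : ¬ IsCyclic ↥V) (hyV : y ∈ V) :
    ¬ 2 ∣ V.relIndex U ∧ Nat.card ↥V = 4 ∧ ⁅U, U⁆ ≤ V := by
  classical
  haveI := hVn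
  have hV2 := (Cfsg.Agent.Lib.Helper3.ea2_iff V).mp hVe
  have hw2 : w ^ 2 = 1 := by rw [← hw]; exact pow_orderOf_eq_one w
  have hww : w * w = 1 := by rw [← sq]; exact hw2
  have hwinv : w⁻¹ = w := inv_eq_of_mul_eq_one_right hww
  have hCV : ∀ v ∈ V, w * v * w⁻¹ = v → v = 1 ∨ v = y := fun v hv h => (hfix v (hVU hv)).mp h
  have hy2 : y ^ 2 = 1 := hV2.2 y hyV
  have hKle : V ⊓ Subgroup.centralizer ({w} : Set H) ≤ Subgroup.zpowers y := by
    intro v hv
    have hv1 : v ∈ V := hv.1
    have hv2 := Subgroup.mem_centralizer_iff.mp hv.2 w rfl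
    have : w * v * w⁻¹ = v := by rw [hv2]; group
    rcases hCV v hv1 this with h | h
    · rw [h]; exact Subgroup.one_mem _
    · rw [h]; exact Subgroup.mem_zpowers y
  have hcardC : Nat.card ↥(V ⊓ Subgroup.centralizer ({w} : Set H)) ≤ 2 := by
    have h2 : Nat.card (Subgroup.zpowers y) ≤ 2 := by
      rw [Nat.card_zpowers]
      exact Nat.le_of_dvd (by norm_num) (orderOf_dvd_of_pow_eq_one hy2)
    exact (Subgroup.card_le_of_le hKle).trans h2
  have hle4 : Nat.card V ≤ 4 := by
    have := Cfsg.Agent.Lib.Helper3.card_le_sq_fixed V hV2 w hw2 hVw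
    calc Nat.card V ≤ _ ^ 2 := this
      _ ≤ 2 ^ 2 := Nat.pow_le_pow_left hcardC 2
      _ = 4 := by norm_num
  have hge4 : 4 ≤ Nat.card V := by
    obtain ⟨k, hk⟩ := (IsPGroup.iff_card).mp hV2.isPGroup
    rcases k with _ | _ | k
    · exfalso; apply hVc
      have : Subsingleton ↥V := (Nat.card_eq_one_iff_unique.mp (by simpa using hk)).1
      exact isCyclic_of_subsingleton
    · exfalso; apply hVc
      haveI : Fact (Nat.Prime 2) := ⟨Nat.prime_two⟩
      exact isCyclic_of_prime_card (p := 2) (by simpa using hk)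
    · rw [hk]
      calc 4 = 2 ^ 2 := by norm_num
        _ ≤ 2 ^ (k + 1 + 1) := Nat.pow_le_pow_right (by norm_num) (by omega)
  have hUw : ∀ u ∈ U, w * u * w⁻¹ ∈ U := fun u hu =>
    (Subgroup.mem_normalizer_iff.mp hwU u).mp hu
  let f : ↥U →* ↥U := MonoidHom.mk' (fun u => ⟨w * u * w⁻¹, hUw u u.2⟩) (by
    intro a b; apply Subtype.ext; simp only [Subgroup.coe_mul]; group)
  have hf_apply : ∀ u : ↥U, ((f u : ↥U) : H) = w * u * w⁻¹ := fun u => rfl
  have hfV : V.subgroupOf U ≤ (V.subgroupOf U).comap f := by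
    intro u hu
    rw [Subgroup.mem_comap, Subgroup.mem_subgroupOf]
    exact hVw _ (Subgroup.mem_subgroupOf.mp hu)
  let φ : (↥U ⧸ V.subgroupOf U) →* (↥U ⧸ V.subgroupOf U) := QuotientGroup.map _ _ f hfV
  have hφmk : ∀ u : ↥U, φ (QuotientGroup.mk u) = QuotientGroup.mk (f u) := fun u => rfl
  have hinv : Function.Involutive φ := by
    intro q
    induction q using QuotientGroup.induction_on with | _ u => ?_
    rw [hφmk, hφmk]
    congr 1
    apply Subtype.ext
    rw [hf_apply, hf_apply, hwinv]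
    calc w * (w * ↑u * w) * w = (w * w) * u * (w * w) := by group
      _ = u := by rw [hww]; group
  obtain ⟨v, hvV, hv⟩ : ∃ v ∈ V, w * v * w⁻¹ * v⁻¹ = y := by
    have hex : ∃ v ∈ V, v ≠ 1 ∧ v ≠ y := by
      by_contra hne
      push_neg at hne
      apply hVc
      refine ⟨⟨⟨y, hyV⟩, fun v => ?_⟩⟩
      by_cases h1 : (v : H) = 1
      · refine ⟨0, ?_⟩; apply Subtype.ext; simp [h1]
      · refine ⟨1, ?_⟩; apply Subtype.ext; simp [hne v v.2 h1]
    obtain ⟨v, hvV, hv1, hvy⟩ := hex
    refine ⟨v, hvV, ?_⟩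
    have haV := hVw v hvV
    have hdV : w * v * w⁻¹ * v⁻¹ ∈ V := V.mul_mem haV (V.inv_mem hvV)
    have hd1 : w * v * w⁻¹ * v⁻¹ ≠ 1 := by
      intro h
      have : w * v * w⁻¹ = v := by rwa [mul_inv_eq_one] at h
      rcases hCV v hvV this with h' | h'
      · exact hv1 h'
      · exact hvy h'
    have hdw : w * (w * v * w⁻¹ * v⁻¹) * w⁻¹ = w * v * w⁻¹ * v⁻¹ := by
      have ha2 : (w * v * w⁻¹)⁻¹ = w * v * w⁻¹ :=
        inv_eq_of_mul_eq_one_right (by rw [← sq]; exact hV2.2 _ haV)
      have hv2' : v⁻¹ = v := inv_eq_of_mul_eq_one_right (by rw [← sq]; exact hV2.2 _ hvV)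
      have hcomm := hV2.1 v hvV _ haV
      calc w * (w * v * w⁻¹ * v⁻¹) * w⁻¹
          = (w * w) * v * (w * w)⁻¹ * (w * v * w⁻¹)⁻¹ := by group
        _ = v * (w * v * w⁻¹) := by rw [hww, ha2]; group
        _ = (w * v * w⁻¹) * v := hcomm
        _ = w * v * w⁻¹ * v⁻¹ := by rw [hv2']
    rcases hCV _ hdV hdw with h' | h'
    · exact absurd h' hd1
    · exact h'
  have hfpf : MonoidHom.FixedPointFree φ := by
    intro q hq
    induction q using QuotientGroup.induction_on with | _ u => ?_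
    rw [hφmk, QuotientGroup.eq] at hq
    rw [QuotientGroup.eq_one_iff]
    rw [Subgroup.mem_subgroupOf] at hq ⊢
    have hc : (w * (u : H) * w⁻¹)⁻¹ * (u : H) ∈ V := hq
    obtain ⟨c, hc_eq⟩ : ∃ c, c = (w * (u : H) * w⁻¹)⁻¹ * (u : H) := ⟨_, rfl⟩
    rw [← hc_eq] at hc
    have hcw : w * c * w⁻¹ = c := by
      have h1 : w * c * w⁻¹ = c⁻¹ := by
        rw [hc_eq]
        have hww' : ∀ a : H, w * (w * a) = a := fun a => by rw [← mul_assoc, hww, one_mul]
        simp only [mul_inv_rev, inv_inv, hwinv, mul_assoc, hww']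
      have h2 : c⁻¹ = c := inv_eq_of_mul_eq_one_right (by rw [← sq]; exact hV2.2 c hc)
      rw [h1, h2]
    rcases hCV c hc hcw with h | h
    · have h3 : w * u * w⁻¹ = u := by
        have : (w * (u : H) * w⁻¹)⁻¹ * u = 1 := by rw [← hc_eq]; exact h
        exact inv_mul_eq_one.mp this
      rcases (hfix u u.2).mp h3 with h' | h'
      · rw [h']; exact V.one_mem
      · rw [h']; exact hyV
    · have hfixuv : w * (u * v) * w⁻¹ = u * v := by
        have e1 : w * u * w⁻¹ = u * y⁻¹ := by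
          have : (w * (u : H) * w⁻¹)⁻¹ * u = y := by rw [← hc_eq]; exact h
          rw [← this]; group
        have e2 : w * v * w⁻¹ = y * v := by rw [← hv]; group
        calc w * (u * v) * w⁻¹ = (w * u * w⁻¹) * (w * v * w⁻¹) := by group
          _ = u * y⁻¹ * (y * v) := by rw [e1, e2]
          _ = u * v := by group
      have huvU : (u : H) * v ∈ U := U.mul_mem u.2 (hVU hvV)
      have huvV : (u : H) * v ∈ V := by
        rcases (hfix _ huvU).mp hfixuv with h' | h'
        · rw [h']; exact V.one_mem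
        · rw [h']; exact hyV
      have : (u : H) = (u * v) * v⁻¹ := by group
      rw [this]; exact V.mul_mem huvV (V.inv_mem hvV)
  refine ⟨?_, le_antisymm hle4 hge4, ?_⟩
  · have hodd := hfpf.odd_card_of_involutive hinv
    rw [← Subgroup.index_eq_card] at hodd
    intro h2
    have : Even (V.relIndex U) := even_iff_two_dvd.mpr h2
    exact (Nat.not_even_iff_odd.mpr hodd) this
  · have hcomm : commutator ↥U ≤ V.subgroupOf U := by
      rw [← Subgroup.Normal.quotient_commutative_iff_commutator_le]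
      exact ⟨⟨fun a b => hfpf.commute_all_of_involutive hinv a b⟩⟩
    rw [← Subgroup.map_subtype_commutator]
    calc (commutator ↥U).map U.subtype ≤ (V.subgroupOf U).map U.subtype :=
          Subgroup.map_mono hcomm
      _ ≤ V := by rw [Subgroup.subgroupOf_map_subtype]; exact inf_le_left

end Cfsg.Agent.S3825
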