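import Mathlib
import Cfsg.Statements.S3835
import Cfsg.Agent.S2231

set_option autoImplicit false
open Cfsg Equiv

namespace Cfsg.Agent.S3835

/-- A `p`-power dividing `p!` is at most `p`. -/
theorem pow_dvd_factorial_le {p m k : ℕ} (hp : p.Prime) (hk : k ≤ p) (h : p ^ m ∣ k.factorial) :
    m ≤ 1 := by
  by_contra hm
  have hm2 : 2 ≤ m := by omega
  have h1 : p ^ 2 ∣ p.factorial :=
    (pow_dvd_pow p hm2).trans (h.trans (Nat.factorial_dvd_factorial hk))
  have hp1 : 1 ≤ p := hp.one_lt.le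
  obtain ⟨r, hr⟩ : ∃ r, p = r + 1 := ⟨p - 1, by omega⟩
  rw [hr, Nat.factorial_succ, pow_two] at h1
  have h2 : (r + 1) ∣ r.factorial := Nat.dvd_of_mul_dvd_mul_left (by omega) h1
  have h3 : p ≤ r := (hp.dvd_factorial).mp (hr ▸ h2)
  omega

/-- `p`-subgroups of `Perm α` with `|α| < p²` are commutative. -/
theorem pSubgroup_perm_comm {p : ℕ} [Fact p.Prime] {α : Type*} [Fintype α] [DecidableEq α]
    (P : Subgroup (Perm α)) (hP : IsPGroup p P) (hn : Fintype.card α < p ^ 2)
    (x y : Perm α) (hx : x ∈ P) (hy : y ∈ P) : x * y = y * x := by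
  classical
  have hpp : p.Prime := Fact.out
  ext a
  -- the action on the orbit of `a`
  let O := MulAction.orbit P a
  let f : P →* Perm O := MulAction.toPermHom P O
  have hcardO : Fintype.card O ≤ p := by
    obtain ⟨j, hj⟩ := hP.card_orbit a
    have hle : Nat.card O ≤ Nat.card α :=
      Nat.card_le_card_of_injective Subtype.val Subtype.val_injective
    rw [Nat.card_eq_fintype_card (α := α)] at hle
    have hj' : Nat.card O = p ^ j := hj
    have hj1 : j ≤ 1 := by
      by_contra hj2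
      have : p ^ 2 ≤ p ^ j := Nat.pow_le_pow_right hpp.pos (by omega)
      omega
    rw [← Nat.card_eq_fintype_card, hj']
    calc p ^ j ≤ p ^ 1 := Nat.pow_le_pow_right hpp.pos hj1
      _ = p := pow_one p
  -- the image is a p-group of order dividing `|O|!`
  have hI : IsPGroup p f.range := hP.of_surjective f.rangeRestrict f.rangeRestrict_surjective
  obtain ⟨m, hm⟩ := hI.exists_card_eq
  have hdvd : p ^ m ∣ (Fintype.card O).factorial := by
    rw [← hm, ← Fintype.card_perm, ← Nat.card_eq_fintype_card]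
    exact Subgroup.card_subgroup_dvd_card _
  have hm1 : m ≤ 1 := pow_dvd_factorial_le hpp hcardO hdvd
  have hcyc : IsCyclic f.range := by
    interval_cases m
    · rw [pow_zero] at hm
      have : Subsingleton f.range := (Nat.card_eq_one_iff_unique.mp hm).1
      infer_instance
    · rw [pow_one] at hm
      exact isCyclic_of_prime_card hm
  have hcomm : f ⟨x, hx⟩ * f ⟨y, hy⟩ = f ⟨y, hy⟩ * f ⟨x, hx⟩ := by
    have h1 := hcyc.isMulCommutative.is_comm.comm
      (⟨f ⟨x, hx⟩, ⟨_, rfl⟩⟩ : f.range) ⟨f ⟨y, hy⟩, ⟨_, rfl⟩⟩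
    exact congrArg Subtype.val h1
  have h2 := congrArg (fun σ : Perm O => ((σ ⟨a, MulAction.mem_orbit_self a⟩ : O) : α)) hcomm
  exact h2


/-- `Qd(p)` is not involved in `A_n` for `n < p²`. -/
theorem not_involves {p : ℕ} [Fact p.Prime] (hp : p ≠ 2) (n : ℕ) (hn : n < p ^ 2) :
    ¬ Cfsg.Involves ↥(Cfsg.qd p) ↥(alternatingGroup (Fin n)) := by
  classical
  rintro ⟨L, R, hnorm, ⟨φ⟩⟩
  obtain ⟨T, hT, hTnc⟩ := Cfsg.Agent.S2231.qd_noncomm_pSubgroup p hp
  let f : ↥L →* ↥(Cfsg.qd p) := φ.toMonoidHom.comp (QuotientGroup.mk' (R.subgroupOf L))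
  have hf : Function.Surjective f := φ.surjective.comp (QuotientGroup.mk'_surjective _)
  obtain ⟨R', -, hR', hmap⟩ := Cfsg.Agent.S3305.exists_pgroup_lift p f hf T hT ⊥
    IsPGroup.of_bot (by simp)
  apply hTnc
  -- the embedding of `L` into `Perm (Fin n)`
  let ι : ↥L →* Perm (Fin n) := (alternatingGroup (Fin n)).subtype.comp L.subtype
  have hι : Function.Injective ι :=
    (Subgroup.subtype_injective _).comp (Subgroup.subtype_injective _)
  have hR'c : IsMulCommutative ↥R' := by
    refine ⟨⟨fun a b => ?_⟩⟩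
    have ha : ι (a : ↥L) ∈ R'.map ι := Subgroup.mem_map_of_mem _ a.2
    have hb : ι (b : ↥L) ∈ R'.map ι := Subgroup.mem_map_of_mem _ b.2
    have h1 := pSubgroup_perm_comm (R'.map ι) (hR'.map ι) (by simpa using hn) _ _ ha hb
    apply Subtype.ext
    apply hι
    simpa using h1
  rw [← hmap]
  infer_instance


/-- The affine subgroup of `SL₃(p)`: last row `(0,0,1)`. -/
def aff (p : ℕ) : Subgroup (Matrix.SpecialLinearGroup (Fin 3) (ZMod p)) where
  carrier := {M | M.1 2 0 = 0 ∧ M.1 2 1 = 0 ∧ M.1 2 2 = 1}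
  mul_mem' := by
    rintro a b ⟨a1, a2, a3⟩ ⟨b1, b2, b3⟩
    simp only [Set.mem_ofPred_eq, Matrix.SpecialLinearGroup.coe_mul, Matrix.mul_apply,
      Fin.sum_univ_three]
    simp [a1, a2, a3, b1, b2, b3]
  one_mem' := by
    simp
  inv_mem' := by
    rintro a ⟨a1, a2, a3⟩
    have hdet := a.2
    rw [Matrix.det_fin_three] at hdet
    simp only [a1, a2, a3] at hdet
    simp only [Set.mem_ofPred_eq, Matrix.SpecialLinearGroup.coe_inv, Matrix.adjugate_fin_three]
    simp [a1, a2, a3]
    linear_combination hdet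

/-- elementary matrices in `SL₃(p)`. -/
def tv (p : ℕ) (i j : Fin 3) (h : i ≠ j) (c : ZMod p) :
    Matrix.SpecialLinearGroup (Fin 3) (ZMod p) :=
  ⟨Matrix.transvection i j c, Matrix.det_transvection_of_ne i j h c⟩

theorem tv_coe (p : ℕ) (i j : Fin 3) (h : i ≠ j) (c : ZMod p) :
    (tv p i j h c).1 = Matrix.transvection i j c := rfl

theorem tv_mul_tv (p : ℕ) (i j : Fin 3) (h : i ≠ j) (c d : ZMod p) :
    tv p i j h c * tv p i j h d = tv p i j h (c + d) := by
  apply Subtype.ext
  simp only [Matrix.SpecialLinearGroup.coe_mul, tv_coe]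
  exact Matrix.transvection_mul_transvection_same i j h c d

theorem tv_zero (p : ℕ) (i j : Fin 3) (h : i ≠ j) : tv p i j h 0 = 1 := by
  apply Subtype.ext
  simp [tv]

theorem tv_pow (p : ℕ) (i j : Fin 3) (h : i ≠ j) (c : ZMod p) (k : ℕ) :
    tv p i j h c ^ k = tv p i j h (k * c) := by
  induction k with
  | zero => simp [tv_zero]
  | succ k ih =>
    rw [pow_succ, ih, tv_mul_tv]
    congr 1
    push_cast
    ring

theorem tv_pow_p (p : ℕ) (i j : Fin 3) (h : i ≠ j) (c : ZMod p) : tv p i j h c ^ p = 1 := by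
  rw [tv_pow]
  simp [tv_zero]

theorem tv_mem_aff (p : ℕ) (i j : Fin 3) (h : i ≠ j) (hi : i ≠ 2) (c : ZMod p) :
    tv p i j h c ∈ aff p := by
  show (Matrix.transvection i j c) 2 0 = 0 ∧ (Matrix.transvection i j c) 2 1 = 0 ∧
    (Matrix.transvection i j c) 2 2 = 1
  simp only [Matrix.transvection, Matrix.add_apply, Matrix.single_apply]
  fin_cases i <;> simp_all

theorem factor_of_ne {p : ℕ} [Fact p.Prime] (M : Matrix.SpecialLinearGroup (Fin 3) (ZMod p))
    (hM : M ∈ aff p) (hc : M.1 1 0 ≠ 0) :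
    M = tv p 0 2 (by decide) (M.1 0 2) * tv p 1 2 (by decide) (M.1 1 2) *
      (tv p 0 1 (by decide) ((M.1 0 0 - 1) / M.1 1 0) * tv p 1 0 (by decide) (M.1 1 0) *
        tv p 0 1 (by decide) ((M.1 1 1 - 1) / M.1 1 0)) := by
  obtain ⟨h1, h2, h3⟩ := hM
  have hdet := M.2
  rw [Matrix.det_fin_three] at hdet
  simp only [h1, h2, h3] at hdet
  apply Subtype.ext
  simp only [Matrix.SpecialLinearGroup.coe_mul, tv_coe]
  ext i j
  fin_cases i <;> fin_cases j <;>
    simp [Matrix.transvection, Matrix.mul_apply, Fin.sum_univ_three, Matrix.single_apply,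
      h1, h2, h3]
  · field_simp
    ring
  · field_simp
    linear_combination (-1 : ZMod p) * hdet
  · field_simp
    ring


/-- The elements of `aff p` of order dividing `p`. -/
def oddGens (p : ℕ) : Set (Matrix.SpecialLinearGroup (Fin 3) (ZMod p)) :=
  {g | g ∈ aff p ∧ g ^ p = 1}

theorem tv_mem_oddGens (p : ℕ) (i j : Fin 3) (h : i ≠ j) (hi : i ≠ 2) (c : ZMod p) :
    tv p i j h c ∈ Subgroup.closure (oddGens p) :=
  Subgroup.subset_closure ⟨tv_mem_aff p i j h hi c, tv_pow_p p i j h c⟩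

theorem mem_closure_of_ne {p : ℕ} [Fact p.Prime] (M : Matrix.SpecialLinearGroup (Fin 3) (ZMod p))
    (hM : M ∈ aff p) (hc : M.1 1 0 ≠ 0) : M ∈ Subgroup.closure (oddGens p) := by
  rw [factor_of_ne M hM hc]
  refine Subgroup.mul_mem _ (Subgroup.mul_mem _ ?_ ?_)
    (Subgroup.mul_mem _ (Subgroup.mul_mem _ ?_ ?_) ?_) <;>
  exact tv_mem_oddGens p _ _ _ (by decide) _

theorem aff_le_closure {p : ℕ} [Fact p.Prime] : aff p ≤ Subgroup.closure (oddGens p) := by
  intro M hM
  by_cases hc : M.1 1 0 = 0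
  · -- premultiply by `tv 1 0 1`
    obtain ⟨h1, h2, h3⟩ := hM
    have hdet := M.2
    rw [Matrix.det_fin_three] at hdet
    simp only [h1, h2, h3, hc] at hdet
    have ha : M.1 0 0 ≠ 0 := by
      intro h0
      rw [h0] at hdet
      simp at hdet
    have hM' : tv p 1 0 (by decide) 1 * M ∈ aff p :=
      (aff p).mul_mem (tv_mem_aff p 1 0 (by decide) (by decide) 1) ⟨h1, h2, h3⟩
    have hc' : (tv p 1 0 (by decide) 1 * M).1 1 0 ≠ 0 := by
      rw [Matrix.SpecialLinearGroup.coe_mul, tv_coe]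
      simp [Matrix.transvection, Matrix.mul_apply, Fin.sum_univ_three, Matrix.single_apply, hc, ha]
    have h4 := mem_closure_of_ne _ hM' hc'
    have h5 : M = tv p 1 0 (by decide) (-1) * (tv p 1 0 (by decide) 1 * M) := by
      rw [← mul_assoc, tv_mul_tv]
      simp [tv_zero]
    rw [h5]
    exact Subgroup.mul_mem _ (tv_mem_oddGens p 1 0 (by decide) (by decide) (-1)) h4
  · exact mem_closure_of_ne M hM hc

/-- Any homomorphism from `aff p` (`p` odd) to `ℤˣ` is trivial. -/
theorem hom_units_trivial {p : ℕ} [Fact p.Prime] (hp : p ≠ 2) (χ : ↥(aff p) →* ℤˣ)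
    (g : ↥(aff p)) : χ g = 1 := by
  have hodd : Odd p := (Fact.out : p.Prime).odd_of_ne_two hp
  have key : ∀ x ∈ Subgroup.closure (oddGens p), ∀ hx : x ∈ aff p, χ ⟨x, hx⟩ = 1 := by
    intro x hx
    induction hx using Subgroup.closure_induction with
    | mem y hy =>
      intro hy'
      have h1 : (⟨y, hy'⟩ : ↥(aff p)) ^ p = 1 := Subtype.ext (by simpa using hy.2)
      have h2 : χ ⟨y, hy'⟩ ^ p = 1 := by rw [← map_pow, h1, map_one]
      rcases Int.units_eq_one_or (χ ⟨y, hy'⟩) with h | h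
      · exact h
      · rw [h, hodd.neg_one_pow] at h2
        exact absurd h2 (by decide)
    | one => intro _; exact map_one χ
    | mul y z hy hz ihy ihz =>
      intro hyz
      have hy' : y ∈ aff p := (Subgroup.closure_le _).mpr (fun g hg => hg.1) hy
      have hz' : z ∈ aff p := (Subgroup.closure_le _).mpr (fun g hg => hg.1) hz
      have : (⟨y * z, hyz⟩ : ↥(aff p)) = ⟨y, hy'⟩ * ⟨z, hz'⟩ := rfl
      rw [this, map_mul, ihy hy', ihz hz', one_mul]
    | inv y hy ihy =>
      intro hyi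
      have hy' : y ∈ aff p := (Subgroup.closure_le _).mpr (fun g hg => hg.1) hy
      have : (⟨y⁻¹, hyi⟩ : ↥(aff p)) = (⟨y, hy'⟩ : ↥(aff p))⁻¹ := rfl
      rw [this, map_inv, ihy hy', inv_one]
  exact key g.1 (aff_le_closure g.2) g.2


theorem qd_eq_aff (p : ℕ) : Cfsg.qd p = aff p := by
  apply le_antisymm
  · rw [Cfsg.qd, Subgroup.closure_le]
    intro M hM
    exact hM
  · intro M hM
    exact Subgroup.subset_closure hM

/-- The affine plane `{v | v 2 = 1}`. -/
abbrev Plane (p : ℕ) : Type := {v : Fin 3 → ZMod p // v 2 = 1}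

/-- The action of `aff p` on the affine plane. -/
def planeMap (p : ℕ) (g : ↥(aff p)) (v : Plane p) : Plane p :=
  ⟨g.1.1.mulVec v.1, by
    obtain ⟨h1, h2, h3⟩ := g.2
    simp [Matrix.mulVec, dotProduct, Fin.sum_univ_three, h1, h2, h3, v.2]⟩

theorem planeMap_one (p : ℕ) (v : Plane p) : planeMap p 1 v = v := by
  apply Subtype.ext
  simp [planeMap]

theorem planeMap_mul (p : ℕ) (g h : ↥(aff p)) (v : Plane p) :
    planeMap p (g * h) v = planeMap p g (planeMap p h v) := by
  apply Subtype.ext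
  simp [planeMap, Matrix.mulVec_mulVec]

/-- The permutation representation of `aff p` on the affine plane. -/
def planeHom (p : ℕ) : ↥(aff p) →* Perm (Plane p) where
  toFun g := ⟨planeMap p g, planeMap p g⁻¹,
    fun v => by rw [← planeMap_mul, inv_mul_cancel, planeMap_one],
    fun v => by rw [← planeMap_mul, mul_inv_cancel, planeMap_one]⟩
  map_one' := by
    ext v : 1
    exact planeMap_one p v
  map_mul' g h := by
    ext v : 1
    exact planeMap_mul p g h v

theorem planeHom_apply (p : ℕ) (g : ↥(aff p)) (v : Plane p) :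
    planeHom p g v = planeMap p g v := rfl

theorem planeHom_injective (p : ℕ) : Function.Injective (planeHom p) := by
  rw [injective_iff_map_eq_one]
  intro g hg
  have h : ∀ v : Plane p, g.1.1.mulVec v.1 = v.1 := fun v => by
    have := DFunLike.congr_fun hg v
    rw [planeHom_apply] at this
    exact congrArg Subtype.val this
  have e2 := h ⟨![0, 0, 1], by simp⟩
  have e0 := h ⟨![1, 0, 1], by simp⟩
  have e1 := h ⟨![0, 1, 1], by simp⟩
  apply Subtype.ext
  apply Subtype.ext
  ext i j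
  have a2 := congrFun e2 i
  have a0 := congrFun e0 i
  have a1 := congrFun e1 i
  simp only [Matrix.mulVec, dotProduct, Fin.sum_univ_three] at a0 a1 a2
  fin_cases i <;> fin_cases j <;> simp_all

theorem card_plane_le (p : ℕ) [Fact p.Prime] : Fintype.card (Plane p) ≤ p ^ 2 := by
  have hinj : Function.Injective (fun v : Plane p => (fun i : Fin 2 => v.1 (Fin.castSucc i))) := by
    intro v w hvw
    apply Subtype.ext
    funext i
    have h0 := congrFun hvw 0
    have h1 := congrFun hvw 1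
    fin_cases i
    · exact h0
    · exact h1
    · exact v.2.trans w.2.symm
  have := Fintype.card_le_of_injective _ hinj
  simpa [ZMod.card] using this

theorem exists_subgroup {p : ℕ} [Fact p.Prime] (hp : p ≠ 2) (n : ℕ) (hn : p ^ 2 ≤ n) :
    ∃ H : Subgroup (alternatingGroup (Fin n)), Nonempty (↥H ≃* ↥(Cfsg.qd p)) := by
  classical
  have hcard : Fintype.card (Plane p) ≤ Fintype.card (Fin n) := by
    rw [Fintype.card_fin]
    exact (card_plane_le p).trans hn
  obtain ⟨ι⟩ := Function.Embedding.nonempty_of_card_le hcard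
  let Φ : ↥(aff p) →* Perm (Fin n) := (Perm.viaEmbeddingHom ι).comp (planeHom p)
  have hΦ : Function.Injective Φ :=
    (Perm.viaEmbeddingHom_injective ι).comp (planeHom_injective p)
  have heven : ∀ g, Φ g ∈ alternatingGroup (Fin n) := by
    intro g
    rw [Perm.mem_alternatingGroup]
    exact hom_units_trivial hp (Perm.sign.comp Φ) g
  let Ψ : ↥(aff p) →* ↥(alternatingGroup (Fin n)) := Φ.codRestrict _ heven
  have hΨ : Function.Injective Ψ := by
    intro a b hab
    apply hΦ
    exact congrArg Subtype.val hab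
  exact ⟨Ψ.range, ⟨(MonoidHom.ofInjective hΨ).symm.trans
    (MulEquiv.subgroupCongr (qd_eq_aff p).symm)⟩⟩


/-- Let p be an odd prime and n a natural number. The alternating group of degree n has a subgroup isomorphic to Qd(p) (the natural semidirect product of an elementary abelian group of order p² by SL₂(p)) if and only if n ≥ p²; and if n < p² then Qd(p) is not even involved in it. -/
theorem result {p : ℕ} [Fact p.Prime] (hp : p ≠ 2) (n : ℕ) : ((∃ H : Subgroup (alternatingGroup (Fin n)), Nonempty (↥H ≃* ↥(Cfsg.qd p))) ↔ p ^ 2 ≤ n) ∧ (n < p ^ 2 → ¬ Cfsg.Involves ↥(Cfsg.qd p) ↥(alternatingGroup (Fin n))) := by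
  refine ⟨⟨?_, exists_subgroup hp n⟩, not_involves hp n⟩
  rintro ⟨H, ⟨e⟩⟩
  by_contra hlt
  rw [not_le] at hlt
  apply not_involves hp n hlt
  have hbot : (⊥ : Subgroup ↥(alternatingGroup (Fin n))).subgroupOf H = ⊥ :=
    Subgroup.bot_subgroupOf H
  haveI hN : ((⊥ : Subgroup ↥(alternatingGroup (Fin n))).subgroupOf H).Normal := by
    rw [hbot]; infer_instance
  exact ⟨H, ⊥, hN, ⟨(QuotientGroup.quotientMulEquivOfEq hbot).trans
    (QuotientGroup.quotientBot.trans e)⟩⟩

end Cfsg.Agent.S3835
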