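import Mathlib
import Cfsg.Statements.S3838
import Cfsg.Agent.Lib.Helper13.Coprime

set_option autoImplicit false
open Cfsg
open scoped commutatorElement Pointwise

namespace Cfsg.Agent.S3838

/-- Lemma B: Burnside transfer in a quotient `X ⧸ Q`, where `Q ≤ P` and `P/Q` is central in the
image of `N_X(P)`. -/
theorem burnside_quotient {X : Type*} [Group X] [Finite X] {p : ℕ} [Fact p.Prime] (P : Sylow p X)
    (Q : Subgroup X) [Q.Normal] (hQP : Q ≤ (P : Subgroup X))
    (hcent : ∀ x ∈ Subgroup.normalizer ((P : Subgroup X) : Set X), ∀ y ∈ (P : Subgroup X),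
      x * y * x⁻¹ * y⁻¹ ∈ Q) :
    Cfsg.HasNormalPComplement p (X ⧸ Q) := by
  classical
  have hsurj : Function.Surjective (QuotientGroup.mk' Q) := QuotientGroup.mk'_surjective Q
  let Pbar : Sylow p (X ⧸ Q) := P.mapSurjective hsurj
  have hPbar : (Pbar : Subgroup (X ⧸ Q)) = (P : Subgroup X).map (QuotientGroup.mk' Q) :=
    Sylow.coe_mapSurjective _ _
  -- preimages of elements normalizing `Pbar` normalize `P`
  have hpre : ∀ x : X, QuotientGroup.mk' Q x ∈ Subgroup.normalizer ((Pbar : Subgroup (X ⧸ Q)) : Set (X ⧸ Q)) →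
      ∀ z ∈ (P : Subgroup X), x * z * x⁻¹ ∈ (P : Subgroup X) := by
    intro x hx z hz
    have h1 : QuotientGroup.mk' Q (x * z * x⁻¹) ∈ (Pbar : Subgroup (X ⧸ Q)) := by
      rw [map_mul, map_mul, map_inv]
      exact (Subgroup.mem_normalizer_iff.mp hx _).mp (by rw [hPbar]; exact ⟨z, hz, rfl⟩)
    rw [hPbar] at h1
    obtain ⟨w, hw, hwe⟩ := h1
    have h2 : w⁻¹ * (x * z * x⁻¹) ∈ Q := by
      rw [← QuotientGroup.eq_one_iff, QuotientGroup.mk_mul, QuotientGroup.mk_inv]
      have : (QuotientGroup.mk' Q) w = (QuotientGroup.mk' Q) (x * z * x⁻¹) := hwe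
      simp only [QuotientGroup.mk'_apply] at this
      rw [this, inv_mul_cancel]
    have h3 := (P : Subgroup X).mul_mem hw (hQP h2)
    simpa using h3
  have hN : Subgroup.normalizer ((Pbar : Subgroup (X ⧸ Q)) : Set (X ⧸ Q)) ≤
      Subgroup.centralizer ((Pbar : Subgroup (X ⧸ Q)) : Set (X ⧸ Q)) := by
    intro xbar hxbar
    obtain ⟨x, rfl⟩ := hsurj xbar
    have hxinv : (QuotientGroup.mk' Q) x⁻¹ ∈
        Subgroup.normalizer ((Pbar : Subgroup (X ⧸ Q)) : Set (X ⧸ Q)) := by
      rw [map_inv]; exact Subgroup.inv_mem _ hxbar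
    have hxN : x ∈ Subgroup.normalizer ((P : Subgroup X) : Set X) := by
      rw [Subgroup.mem_normalizer_iff]
      intro z
      constructor
      · exact hpre x hxbar z
      · intro hz
        have := hpre x⁻¹ hxinv _ hz
        simpa [mul_assoc] using this
    rw [Subgroup.mem_centralizer_iff]
    intro ybar hybar
    have hybar' : ybar ∈ (Pbar : Subgroup (X ⧸ Q)) := hybar
    rw [hPbar] at hybar'
    obtain ⟨y, hy, rfl⟩ := hybar'
    have h1 := hcent x hxN y hy
    have h2 : (QuotientGroup.mk' Q) (x * y * x⁻¹ * y⁻¹) = 1 := by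
      rw [QuotientGroup.mk'_apply, QuotientGroup.eq_one_iff]; exact h1
    rw [map_mul, map_mul, map_mul, map_inv, map_inv] at h2
    -- x̄ ȳ x̄⁻¹ ȳ⁻¹ = 1 → ȳ x̄ = x̄ ȳ
    have h3 := mul_inv_eq_one.mp h2
    have h4 := mul_inv_eq_iff_eq_mul.mp h3
    exact h4.symm
  exact ⟨Pbar, (MonoidHom.transferSylow Pbar hN).ker, inferInstance,
    MonoidHom.ker_transferSylow_isComplement' Pbar hN⟩

/-- Lemma A: if `N_G(P)` has a normal `p`-complement, then `[N_G(P), P] ≤ P'`. -/
theorem normalizer_comm_mem {G : Type*} [Group G] [Finite G] {p : ℕ} [Fact p.Prime] (P : Sylow p G)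
    (hN : Cfsg.HasNormalPComplement p ↥(Subgroup.normalizer ((P : Subgroup G) : Set G)))
    (x : G) (hx : x ∈ Subgroup.normalizer ((P : Subgroup G) : Set G))
    (y : G) (hy : y ∈ (P : Subgroup G)) :
    x * y * x⁻¹ * y⁻¹ ∈ (commutator ↥(P : Subgroup G)).map (P : Subgroup G).subtype := by
  classical
  obtain ⟨P₀, K₀, hK₀n, hcomp⟩ := hN
  -- `P` as a normal Sylow subgroup of its normalizer
  let P₁ : Sylow p ↥(Subgroup.normalizer ((P : Subgroup G) : Set G)) :=
    P.subtype Subgroup.le_normalizer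
  have hP₁coe : (P₁ : Subgroup ↥(Subgroup.normalizer ((P : Subgroup G) : Set G))) =
      (P : Subgroup G).subgroupOf (Subgroup.normalizer ((P : Subgroup G) : Set G)) := rfl
  have hP₁n : (P₁ : Subgroup ↥(Subgroup.normalizer ((P : Subgroup G) : Set G))).Normal := by
    rw [hP₁coe]; exact Subgroup.normal_in_normalizer
  have := Sylow.unique_of_normal P₁ hP₁n
  have hP₀ : P₀ = P₁ := Subsingleton.elim _ _
  subst hP₀
  -- decomposition of `x`
  have hdisj : Disjoint K₀ (P₁ : Subgroup _) := hcomp.disjoint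
  obtain ⟨⟨k, u⟩, hku, -⟩ := hcomp.existsUnique (⟨x, hx⟩ : ↥(Subgroup.normalizer ((P : Subgroup G) : Set G)))
  have hku' : (k : ↥(Subgroup.normalizer ((P : Subgroup G) : Set G))) * (u : _) = ⟨x, hx⟩ := hku
  -- `k` commutes with `y`
  have hy' : (⟨y, Subgroup.le_normalizer hy⟩ : ↥(Subgroup.normalizer ((P : Subgroup G) : Set G))) ∈
      (P₁ : Subgroup _) := by
    rw [hP₁coe, Subgroup.mem_subgroupOf]; exact hy
  have hu : ((u : ↥(Subgroup.normalizer ((P : Subgroup G) : Set G))) : G) ∈ (P : Subgroup G) := by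
    exact Subgroup.mem_subgroupOf.mp u.2
  have hcomm : ∀ z : G, z ∈ (P : Subgroup G) →
      ((k : ↥(Subgroup.normalizer ((P : Subgroup G) : Set G))) : G) * z =
        z * ((k : ↥(Subgroup.normalizer ((P : Subgroup G) : Set G))) : G) := by
    intro z hz
    have hz' : (⟨z, Subgroup.le_normalizer hz⟩ :
        ↥(Subgroup.normalizer ((P : Subgroup G) : Set G))) ∈ (P₁ : Subgroup _) := by
      rw [hP₁coe, Subgroup.mem_subgroupOf]; exact hz
    have := Subgroup.commute_of_normal_of_disjoint K₀ (P₁ : Subgroup _) hK₀n hP₁n hdisj _ _ k.2 hz'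
    exact congrArg Subtype.val this.eq
  have hxe : x = ((k : ↥(Subgroup.normalizer ((P : Subgroup G) : Set G))) : G) *
      ((u : ↥(Subgroup.normalizer ((P : Subgroup G) : Set G))) : G) := by
    have := congrArg Subtype.val hku'
    simpa using this.symm
  set k' : G := ((k : ↥(Subgroup.normalizer ((P : Subgroup G) : Set G))) : G) with hk'
  set u' : G := ((u : ↥(Subgroup.normalizer ((P : Subgroup G) : Set G))) : G) with hu'
  -- compute the commutator
  have huy : u' * y * u'⁻¹ ∈ (P : Subgroup G) :=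
    (P : Subgroup G).mul_mem ((P : Subgroup G).mul_mem hu hy) ((P : Subgroup G).inv_mem hu)
  have e : x * y * x⁻¹ * y⁻¹ = u' * y * u'⁻¹ * y⁻¹ := by
    rw [hxe]
    have h1 := hcomm _ huy
    calc k' * u' * y * (k' * u')⁻¹ * y⁻¹ = k' * (u' * y * u'⁻¹) * k'⁻¹ * y⁻¹ := by group
      _ = (u' * y * u'⁻¹) * k' * k'⁻¹ * y⁻¹ := by rw [h1]
      _ = u' * y * u'⁻¹ * y⁻¹ := by group
  rw [e]
  refine ⟨⁅(⟨u', hu⟩ : ↥(P : Subgroup G)), ⟨y, hy⟩⁆, ?_, ?_⟩
  · exact Subgroup.commutator_mem_commutator (Subgroup.mem_top _) (Subgroup.mem_top _)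
  · simp [commutatorElement_def]

universe u

/-- Lemma X: a normal `p`-complement of `X ⧸ Q`, with `Q ≤ P` consisting of non-generators of `P`,
lifts to a normal `p`-complement of `X`. -/
theorem pcomplement_of_quotient {X : Type u} [Group X] [Finite X] {p : ℕ} [Fact p.Prime]
    (P : Sylow p X) (Q : Subgroup X) [Q.Normal] (hQP : Q ≤ (P : Subgroup X))
    (hnongen : ∀ P₁ : Subgroup X, P₁ ≤ (P : Subgroup X) → (P : Subgroup X) ≤ Q ⊔ P₁ →
      P₁ = (P : Subgroup X))
    (hquot : Cfsg.HasNormalPComplement p (X ⧸ Q)) :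
    Cfsg.HasNormalPComplement p X := by
  classical
  have hpp : p.Prime := Fact.out
  obtain ⟨Pbar, Mbar, hMn, hcomp⟩ := hquot
  have hsurj : Function.Surjective (QuotientGroup.mk' Q) := QuotientGroup.mk'_surjective Q
  -- the preimage `M` of the normal `p`-complement
  set M : Subgroup X := Mbar.comap (QuotientGroup.mk' Q) with hM
  have hMnorm : M.Normal := hMn.comap _
  have hQM : Q ≤ M := by
    intro q hq
    show QuotientGroup.mk' Q q ∈ Mbar
    rw [QuotientGroup.mk'_apply, (QuotientGroup.eq_one_iff q).mpr hq]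
    exact Mbar.one_mem
  -- cardinalities
  obtain ⟨a, ha⟩ : ∃ a, Nat.card (Pbar : Subgroup (X ⧸ Q)) = p ^ a := Pbar.2.exists_card_eq
  have hQp : IsPGroup p Q := P.2.to_le hQP
  obtain ⟨b, hb⟩ : ∃ b, Nat.card Q = p ^ b := hQp.exists_card_eq
  set m := Nat.card Mbar with hm
  have hmcop : ¬ p ∣ m := by
    have := Pbar.not_dvd_index
    rwa [hcomp.index_eq_card] at this
  have hm0 : m ≠ 0 := fun h => hmcop (h ▸ dvd_zero p)
  have hpm : Nat.Coprime p m := (Nat.Prime.coprime_iff_not_dvd hpp).mpr hmcop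
  have hXQ : Nat.card (X ⧸ Q) = m * p ^ a := by rw [← hcomp.card_mul_card, ha]
  have hX : Nat.card X = m * p ^ a * p ^ b := by
    rw [Subgroup.card_eq_card_quotient_mul_card_subgroup Q, hXQ, hb]
  have hMidx : M.index = p ^ a := by
    rw [hM, Subgroup.index_comap_of_surjective _ hsurj, hcomp.symm.index_eq_card, ha]
  have hMcard : Nat.card M = m * p ^ b := by
    have h1 := Subgroup.card_mul_index M
    rw [hMidx, hX] at h1
    have h2 : Nat.card M * p ^ a = (m * p ^ b) * p ^ a := by rw [h1]; ring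
    exact Nat.eq_of_mul_eq_mul_right (pow_pos hpp.pos a) h2
  -- Schur–Zassenhaus in `M`
  have hQMcard : Nat.card (Q.subgroupOf M) = p ^ b := by
    rw [Nat.card_congr (Subgroup.subgroupOfEquivOfLe hQM).toEquiv, hb]
  have hQMidx : (Q.subgroupOf M).index = m := by
    have h1 := Subgroup.card_mul_index (Q.subgroupOf M)
    rw [hQMcard, hMcard] at h1
    have h2 : p ^ b * (Q.subgroupOf M).index = p ^ b * m := by rw [h1]; ring
    exact Nat.eq_of_mul_eq_mul_left (pow_pos hpp.pos b) h2
  obtain ⟨L₀, hL₀⟩ := Subgroup.exists_right_complement'_of_coprime (N := Q.subgroupOf M)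
    (by rw [hQMcard, hQMidx]; exact Nat.Coprime.pow_left b hpm)
  set L : Subgroup X := L₀.map M.subtype with hL
  have hLM : L ≤ M := Subgroup.map_subtype_le L₀
  have hLcard : Nat.card L = m := by
    rw [hL, Subgroup.card_map_of_injective (Subgroup.subtype_injective M),
      ← hL₀.symm.index_eq_card, hQMidx]
  have hQL : Q ⊔ L = M := by
    have h1 := hL₀.sup_eq_top
    have h2 := congrArg (Subgroup.map M.subtype) h1
    rw [Subgroup.map_sup, Subgroup.subgroupOf_map_subtype, inf_eq_left.mpr hQM,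
      ← MonoidHom.range_eq_map, Subgroup.range_subtype] at h2
    exact h2
  have hcopQL : (Nat.card Q).Coprime (Nat.card L) := by
    rw [hb, hLcard]; exact Nat.Coprime.pow_left b hpm
  -- Frattini argument
  have hfrat : ∀ n : X, ∃ q ∈ Q, q⁻¹ * n ∈ Subgroup.normalizer (L : Set X) := by
    intro n
    have hsolv : Group.IsSolvable Q := by
      haveI := hQp.isNilpotent
      infer_instance
    obtain ⟨q, hq, hqe⟩ := Cfsg.Agent.Lib.Helper13.rel_sz_conj Q L (MulAut.conj n • L)
      (by rw [Subgroup.normalizer_eq_top_iff.mpr inferInstance]; exact le_top)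
      (by
        rw [hQL]
        intro x hx
        rw [Cfsg.Agent.Lib.Helper13.mem_cj] at hx
        have := hMnorm.conj_mem _ (hLM hx) n
        simpa [mul_assoc] using this)
      (Cfsg.Agent.Lib.Helper13.card_cj n L) hcopQL (Or.inl hsolv)
    refine ⟨q, hq, ?_⟩
    rw [Subgroup.mem_normalizer_iff]
    intro h
    constructor
    · intro hh
      have h1 : n * h * n⁻¹ ∈ MulAut.conj n • L := by
        rw [Cfsg.Agent.Lib.Helper13.mem_cj]; simpa [mul_assoc] using hh
      rw [← hqe, Cfsg.Agent.Lib.Helper13.mem_cj] at h1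
      simpa [mul_assoc] using h1
    · intro hh
      have h1 : n * h * n⁻¹ ∈ MulAut.conj q • L := by
        rw [Cfsg.Agent.Lib.Helper13.mem_cj]; simpa [mul_assoc] using hh
      rw [hqe, Cfsg.Agent.Lib.Helper13.mem_cj] at h1
      simpa [mul_assoc] using h1
  -- `P` normalizes `L`
  have hPL : (P : Subgroup X) ≤ Subgroup.normalizer (L : Set X) := by
    have h1 := hnongen ((P : Subgroup X) ⊓ Subgroup.normalizer (L : Set X)) inf_le_left (by
      intro y hy
      obtain ⟨q, hq, hqy⟩ := hfrat y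
      have : y = q * (q⁻¹ * y) := by group
      rw [this]
      exact Subgroup.mul_mem_sup hq ⟨(P : Subgroup X).mul_mem ((P : Subgroup X).inv_mem (hQP hq)) hy, hqy⟩)
    exact inf_eq_left.mp h1
  have hLnorm : L.Normal := by
    rw [← Subgroup.normalizer_eq_top_iff, eq_top_iff]
    intro n _
    obtain ⟨q, hq, hqn⟩ := hfrat n
    have : n = q * (q⁻¹ * n) := by group
    rw [this]
    exact Subgroup.mul_mem _ (hPL (hQP hq)) hqn
  -- `L` is a complement of `P`
  have hPcard : Nat.card (P : Subgroup X) = p ^ (a + b) := by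
    rw [Sylow.card_eq_multiplicity, hX]
    have : m * p ^ a * p ^ b = p ^ (a + b) * m := by ring
    rw [this, Nat.factorization_mul (pow_ne_zero _ hpp.ne_zero) hm0]
    simp [hpp.factorization_pow, Nat.factorization_eq_zero_of_not_dvd hmcop]
  refine ⟨P, L, hLnorm, Subgroup.isComplement'_of_coprime ?_ ?_⟩
  · rw [hLcard, hPcard, hX]; ring
  · rw [hLcard, hPcard]; exact (Nat.Coprime.pow_left _ hpm).symm


/-- Let G be a finite group with Sylow p-subgroup P such that N_G(P) has a normal p-complement. Then N_G(Q) has a normal p-complement for every subgroup Q with [P, P] ≤ Q ≤ Φ(P). -/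
theorem result {G : Type*} [Group G] [Finite G] {p : ℕ} [Fact p.Prime] (P : Sylow p G) (hN : Cfsg.HasNormalPComplement p ↥(Subgroup.normalizer ((P : Subgroup G) : Set G))) (Q : Subgroup G) (h1 : (commutator ↥(P : Subgroup G)).map (P : Subgroup G).subtype ≤ Q) (h2 : Q ≤ (frattini ↥(P : Subgroup G)).map (P : Subgroup G).subtype) : Cfsg.HasNormalPComplement p ↥(Subgroup.normalizer (Q : Set G)) := by
  classical
  have hQP : Q ≤ (P : Subgroup G) := h2.trans (Subgroup.map_subtype_le _)
  -- commutators of `P` lie in `Q`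
  have hcommQ : ∀ a ∈ (P : Subgroup G), ∀ b ∈ (P : Subgroup G), a * b * a⁻¹ * b⁻¹ ∈ Q := by
    intro a ha b hb
    apply h1
    exact ⟨⁅(⟨a, ha⟩ : ↥(P : Subgroup G)), ⟨b, hb⟩⁆,
      Subgroup.commutator_mem_commutator (Subgroup.mem_top _) (Subgroup.mem_top _),
      by simp [commutatorElement_def]⟩
  -- `P ≤ N_G(Q)`
  have hPN : (P : Subgroup G) ≤ Subgroup.normalizer (Q : Set G) := by
    intro y hy
    rw [Subgroup.mem_normalizer_iff]
    intro h
    constructor
    · intro hh
      have := Q.mul_mem (hcommQ y hy h (hQP hh)) hh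
      simpa [mul_assoc] using this
    · intro hh
      have h' := hQP hh
      have := Q.mul_mem (hcommQ y⁻¹ (inv_mem hy) _ h') hh
      simpa [mul_assoc] using this
  set N := Subgroup.normalizer (Q : Set G) with hNdef
  let P' : Sylow p ↥N := P.subtype hPN
  have hP'coe : (P' : Subgroup ↥N) = (P : Subgroup G).subgroupOf N := rfl
  let Q' : Subgroup ↥N := Q.subgroupOf N
  haveI hQ'n : Q'.Normal := Subgroup.normal_in_normalizer
  have hQ'P' : Q' ≤ (P' : Subgroup ↥N) := by
    intro x hx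
    rw [hP'coe, Subgroup.mem_subgroupOf]
    exact hQP (Subgroup.mem_subgroupOf.mp hx)
  -- hypothesis of Lemma B
  have hcent : ∀ x ∈ Subgroup.normalizer ((P' : Subgroup ↥N) : Set ↥N),
      ∀ y ∈ (P' : Subgroup ↥N), x * y * x⁻¹ * y⁻¹ ∈ Q' := by
    intro x hx y hy
    have hyP : (y : G) ∈ (P : Subgroup G) := Subgroup.mem_subgroupOf.mp hy
    have hxN : (x : G) ∈ Subgroup.normalizer ((P : Subgroup G) : Set G) := by
      rw [Subgroup.mem_normalizer_iff]
      intro h
      constructor
      · intro hh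
        have := (Subgroup.mem_normalizer_iff.mp hx ⟨h, hPN hh⟩).mp
          (Subgroup.mem_subgroupOf.mpr hh)
        exact Subgroup.mem_subgroupOf.mp this
      · intro hh
        have hhN : h ∈ N := by
          have := N.mul_mem (N.mul_mem (N.inv_mem x.2) (hPN hh)) x.2
          simpa [mul_assoc] using this
        have := (Subgroup.mem_normalizer_iff.mp hx ⟨h, hhN⟩).mpr
          (Subgroup.mem_subgroupOf.mpr hh)
        exact Subgroup.mem_subgroupOf.mp this
    have := normalizer_comm_mem P hN (x : G) hxN (y : G) hyP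
    exact Subgroup.mem_subgroupOf.mpr (h1 this)
  have hquot := burnside_quotient P' Q' hQ'P' hcent
  -- `Q'` consists of non-generators of `P'`
  have hnongen : ∀ P₁ : Subgroup ↥N, P₁ ≤ (P' : Subgroup ↥N) →
      (P' : Subgroup ↥N) ≤ Q' ⊔ P₁ → P₁ = (P' : Subgroup ↥N) := by
    intro P₁ hP₁ hsup
    let K : Subgroup ↥(P : Subgroup G) := (P₁.map N.subtype).subgroupOf (P : Subgroup G)
    have hK : K = ⊤ := by
      apply frattini_nongenerating
      rw [eq_top_iff]
      intro y _
      have hy' : (⟨(y : G), hPN y.2⟩ : ↥N) ∈ (P' : Subgroup ↥N) :=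
        Subgroup.mem_subgroupOf.mpr y.2
      have hmem := hsup hy'
      rw [← SetLike.mem_coe, Subgroup.normal_mul] at hmem
      obtain ⟨q, hq, r, hr, hqr⟩ := hmem
      have hqQ : (q : G) ∈ Q := Subgroup.mem_subgroupOf.mp hq
      obtain ⟨f, hf, hfq⟩ := h2 hqQ
      have hrP : (r : G) ∈ (P : Subgroup G) := Subgroup.mem_subgroupOf.mp (hP₁ hr)
      have hrK : (⟨(r : G), hrP⟩ : ↥(P : Subgroup G)) ∈ K :=
        Subgroup.mem_subgroupOf.mpr ⟨r, hr, rfl⟩
      have hy : y = f * ⟨(r : G), hrP⟩ := by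
        apply Subtype.ext
        have := congrArg (fun z : ↥N => (z : G)) hqr
        simp only [Subgroup.coe_mul] at this
        rw [Subgroup.coe_mul, ← this]
        congr 1
        exact hfq.symm
      rw [hy]
      exact Subgroup.mul_mem _ (Subgroup.mem_sup_right hf) (Subgroup.mem_sup_left hrK)
    apply le_antisymm hP₁
    intro z hz
    have hzP : (z : G) ∈ (P : Subgroup G) := Subgroup.mem_subgroupOf.mp hz
    have : (⟨(z : G), hzP⟩ : ↥(P : Subgroup G)) ∈ K := by rw [hK]; trivial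
    obtain ⟨w, hw, hwz⟩ := Subgroup.mem_subgroupOf.mp this
    have : w = z := Subtype.ext hwz
    rw [← this]; exact hw
  exact pcomplement_of_quotient P' Q' hQ'P' hnongen hquot

end Cfsg.Agent.S3838
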