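import Cfsg.Statements.S3857
import Mathlib
import Cfsg.Agent.S1476
import Cfsg.Agent.S3215
import Cfsg.Agent.Lib.Helper6.FrobTools
import Cfsg.Agent.Lib.Helper6.FittingHall
import Cfsg.Agent.Lib.Helper6.CoprimeHall
import Cfsg.Agent.Lib.Helper2.Cores
import Cfsg.Agent.Lib.Helper20.Bender
import Cfsg.Agent.Lib.Helper29.SylowSub

set_option autoImplicit false
open Cfsg
open Cfsg.Agent.Lib.Helper6.FrobTools

universe u

namespace Cfsg.Agent.S3857

/-- no element of order `a * b` with primes `a ∈ A`, `b ∉ A` -/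
def NoMixed (A : Set ℕ) (G : Type*) [Group G] : Prop :=
  ∀ a ∈ A, ∀ b ∉ A, a.Prime → b.Prime → ∀ g : G, orderOf g ≠ a * b

theorem NoMixed.of_surjective {A : Set ℕ} {G Q : Type*} [Group G] [Finite G] [Group Q]
    (h : NoMixed A G) (f : G →* Q) (hf : Function.Surjective f) : NoMixed A Q := by
  intro a ha b hb hap hbp q hq
  obtain ⟨g, hg⟩ := exists_orderOf_eq_of_surjective f hf q
  exact h a ha b hb hap hbp g (hg.trans hq)

theorem NoMixed.of_injective {A : Set ℕ} {G K : Type*} [Group G] [Group K]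
    (h : NoMixed A G) (f : K →* G) (hf : Function.Injective f) : NoMixed A K := by
  intro a ha b hb hap hbp k hk
  exact h a ha b hb hap hbp (f k) ((orderOf_injective f hf k).trans hk)

theorem NoMixed.compl {A : Set ℕ} {G : Type*} [Group G] (h : NoMixed A G) : NoMixed Aᶜ G := by
  intro a ha b hb hap hbp g hg
  have hbA : b ∈ A := by
    by_contra hcon
    exact hb hcon
  exact h b hbA a ha hbp hap g (by rw [hg, mul_comm])

theorem commute_mixed {A : Set ℕ} {G : Type*} [Group G] [Finite G] (h : NoMixed A G) (x y : G)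
    (hc : Commute x y) (hx : ∀ t : ℕ, t.Prime → t ∣ orderOf x → t ∈ A)
    (hy : ∀ t : ℕ, t.Prime → t ∣ orderOf y → t ∉ A) : x = 1 ∨ y = 1 := by
  by_contra hcon
  push Not at hcon
  obtain ⟨hx1, hy1⟩ := hcon
  have hox : orderOf x ≠ 1 := fun h => hx1 (orderOf_eq_one_iff.mp h)
  have hoy : orderOf y ≠ 1 := fun h => hy1 (orderOf_eq_one_iff.mp h)
  obtain ⟨u, hu, hux⟩ := Nat.exists_prime_and_dvd hox
  obtain ⟨v, hv, hvy⟩ := Nat.exists_prime_and_dvd hoy
  obtain ⟨k, hk⟩ := exists_pow_prime_order x u hux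
  obtain ⟨l, hl⟩ := exists_pow_prime_order y v hvy
  have huA := hx u hu hux
  have hvA := hy v hv hvy
  have huv : u ≠ v := by rintro rfl; exact hvA huA
  exact h u huA v hvA hu hv (x ^ k * y ^ l)
    (orderOf_mul_of_primes hu hv huv hk hl (hc.pow_pow k l))

/-- fixed-point-freeness from arithmetic of the orders -/
theorem fpf_of_cards {A : Set ℕ} {X : Type*} [Group X] [Finite X] (h : NoMixed A X)
    (K E : Subgroup X) (hK : ∀ t : ℕ, t.Prime → t ∣ Nat.card K → t ∈ A)
    (hE : ∀ t : ℕ, t.Prime → t ∣ Nat.card E → t ∉ A) :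
    ∀ e ∈ E, e ≠ 1 → ∀ x ∈ K, e * x = x * e → x = 1 := by
  intro e he he1 x hx hex
  rcases commute_mixed h x e (show Commute x e from hex.symm)
    (fun t ht htd => hK t ht (htd.trans (Subgroup.orderOf_dvd_natCard K hx)))
    (fun t ht htd => hE t ht (htd.trans (Subgroup.orderOf_dvd_natCard E he))) with h1 | h1
  · exact h1
  · exact absurd h1 he1

/-- the same with the roles of `A` and its complement exchanged -/
theorem fpf_of_cards' {A : Set ℕ} {X : Type*} [Group X] [Finite X] (h : NoMixed A X)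
    (K E : Subgroup X) (hK : ∀ t : ℕ, t.Prime → t ∣ Nat.card K → t ∉ A)
    (hE : ∀ t : ℕ, t.Prime → t ∣ Nat.card E → t ∈ A) :
    ∀ e ∈ E, e ≠ 1 → ∀ x ∈ K, e * x = x * e → x = 1 := by
  intro e he he1 x hx hex
  rcases commute_mixed h e x (show Commute e x from hex)
    (fun t ht htd => hE t ht (htd.trans (Subgroup.orderOf_dvd_natCard E he)))
    (fun t ht htd => hK t ht (htd.trans (Subgroup.orderOf_dvd_natCard K hx))) with h1 | h1
  · exact absurd h1 he1
  · exact h1

theorem coprime_of_sets {A : Set ℕ} {m n : ℕ} (hm : ∀ t : ℕ, t.Prime → t ∣ m → t ∈ A)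
    (hn : ∀ t : ℕ, t.Prime → t ∣ n → t ∉ A) : m.Coprime n :=
  Nat.coprime_of_dvd fun k hk hkm hkn => hn k hk hkn (hm k hk hkm)

/-- a finite nontrivial solvable group has nontrivial Fitting subgroup -/
theorem fitting_ne_bot {Q : Type*} [Group Q] [Finite Q] [Group.IsSolvable Q]
    (hQ : Nat.card Q ≠ 1) : fittingSubgroup Q ≠ ⊥ := by
  haveI : (fittingSubgroup Q).Normal := Cfsg.Agent.Lib.Helper2.fittingSubgroup_normal
  have hCF : Subgroup.centralizer (fittingSubgroup Q : Set Q) ≤ fittingSubgroup Q :=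
    Cfsg.Agent.Lib.Helper20.subnormal_solvable_le_fitting_of_le_centralizer _
      (Subgroup.Normal.isSubnormal inferInstance) inferInstance le_rfl
  intro h
  apply hQ
  rw [h, Subgroup.coe_bot, Subgroup.centralizer_eq_top_iff_subset.mpr
    (by simp [Subgroup.center]), top_le_iff] at hCF
  rw [← Subgroup.card_top (G := Q), ← hCF, Subgroup.card_bot]

theorem step1 {G : Type u} [Group G] [Finite G] (A : Set ℕ) (hNM : NoMixed A G)
    (F : Subgroup G) [hFn : F.Normal] (hFd : F = fittingSubgroup G)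
    (hFA : ∀ t : ℕ, t.Prime → t ∣ Nat.card F → t ∈ A)
    (b : G) (b0 : ℕ) (hb0p : b0.Prime) (hb0A : b0 ∉ A) (hb : orderOf b = b0)
    (t : ℕ) (ht : t.Prime) (htA : t ∈ A) : pCore t (G ⧸ F) = ⊥ := by
  haveI : Fact t.Prime := ⟨ht⟩
  haveI hRn : (pCore t (G ⧸ F)).Normal := Cfsg.Agent.Lib.Helper2.pCore_normal t
  obtain ⟨R, hRd⟩ : ∃ R : Subgroup G, R = (pCore t (G ⧸ F)).comap (QuotientGroup.mk' F) := ⟨_, rfl⟩
  haveI : R.Normal := by rw [hRd]; infer_instance
  have hRcard : Nat.card R = Nat.card F * Nat.card (pCore t (G ⧸ F)) := by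
    rw [hRd]; exact Cfsg.Agent.Lib.Helper6.card_comap_mk' F _
  have hRA : ∀ u : ℕ, u.Prime → u ∣ Nat.card R → u ∈ A := by
    intro u hu hud
    rw [hRcard] at hud
    rcases (Nat.Prime.dvd_mul hu).mp hud with h | h
    · exact hFA u hu h
    · obtain ⟨k, hk⟩ := (IsPGroup.iff_card.mp (Cfsg.Agent.Lib.Helper2.pCore_isPGroup (G := G ⧸ F) t))
      rw [hk] at h
      have := (Nat.prime_dvd_prime_iff_eq hu ht).mp (hu.dvd_of_dvd_pow h)
      rw [this]; exact htA
  have hfpf : ∀ x ∈ R, b * x = x * b → x = 1 := by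
    intro x hx hbx
    have hA1 : ∀ u : ℕ, u.Prime → u ∣ orderOf x → u ∈ A := by
      intro u hu hud
      exact hRA u hu (hud.trans (Subgroup.orderOf_dvd_natCard R hx))
    have hA2 : ∀ u : ℕ, u.Prime → u ∣ orderOf b → u ∉ A := by
      intro u hu hud
      rw [hb] at hud
      rw [(Nat.prime_dvd_prime_iff_eq hu hb0p).mp hud]; exact hb0A
    rcases commute_mixed hNM x b (show Commute x b from hbx.symm) hA1 hA2 with h | h
    · exact h
    · exfalso; rw [h, orderOf_one] at hb; exact hb0p.one_lt.ne hb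
  have hRnil := fk_nilpotent R b b0 hb0p hb hfpf
  have hRF : R ≤ F := by
    rw [hFd]; exact Cfsg.Agent.Lib.Helper2.le_fittingSubgroup inferInstance hRnil
  rw [eq_bot_iff, ← Subgroup.map_comap_eq_self_of_surjective (QuotientGroup.mk'_surjective F)
    (pCore t (G ⧸ F)), ← hRd, ← QuotientGroup.map_mk'_self F]
  exact Subgroup.map_mono hRF

/-- a complement `C'` of `F' = F ⊓ L` in `L = π⁻¹(L̄)` is isomorphic to `L̄` -/
theorem complEquiv {G : Type u} [Group G] [Finite G] (F : Subgroup G) [hFn : F.Normal]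
    (Lb : Subgroup (G ⧸ F)) (C' : Subgroup ↥(Lb.comap (QuotientGroup.mk' F)))
    (hc : Subgroup.IsComplement' (F.subgroupOf (Lb.comap (QuotientGroup.mk' F))) C') :
    ∃ e : ↥C' ≃* ↥Lb, ∀ c : ↥C', ((e c : ↥Lb) : G ⧸ F) = QuotientGroup.mk' F ((c : ↥(Lb.comap (QuotientGroup.mk' F))) : G) := by
  obtain ⟨L, hLd⟩ : ∃ L : Subgroup G, L = Lb.comap (QuotientGroup.mk' F) := ⟨_, rfl⟩
  subst hLd
  have hFL : F ≤ Lb.comap (QuotientGroup.mk' F) := by
    intro x hx
    rw [Subgroup.mem_comap]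
    have : QuotientGroup.mk' F x = 1 := (QuotientGroup.eq_one_iff x).mpr hx
    rw [this]; exact Lb.one_mem
  have hLcard : Nat.card ↥(Lb.comap (QuotientGroup.mk' F)) = Nat.card F * Nat.card Lb :=
    Cfsg.Agent.Lib.Helper6.card_comap_mk' F _
  have hF'card : Nat.card (F.subgroupOf (Lb.comap (QuotientGroup.mk' F))) = Nat.card F :=
    Cfsg.Agent.Lib.Helper29.card_subgroupOf_of_le hFL
  have hCcard : Nat.card C' = Nat.card Lb := by
    have := hc.card_mul_card
    rw [hLcard, hF'card] at this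
    exact Nat.eq_of_mul_eq_mul_left Nat.card_pos this
  obtain ⟨ψ, hψd⟩ : ∃ ψ : ↥C' →* ↥Lb, ∀ c : ↥C', ((ψ c : ↥Lb) : G ⧸ F) =
      QuotientGroup.mk' F ((c : ↥(Lb.comap (QuotientGroup.mk' F))) : G) := by
    refine ⟨(((QuotientGroup.mk' F).comp ((Lb.comap (QuotientGroup.mk' F)).subtype)).comp
      C'.subtype).codRestrict Lb ?_, ?_⟩
    · intro c
      exact (c : ↥(Lb.comap (QuotientGroup.mk' F))).2
    · intro c; rfl
  have hinj : Function.Injective ψ := by
    rw [injective_iff_map_eq_one]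
    intro c hc1
    have h1 : QuotientGroup.mk' F ((c : ↥(Lb.comap (QuotientGroup.mk' F))) : G) = 1 := by
      rw [← hψd, hc1]; rfl
    have h2 : ((c : ↥(Lb.comap (QuotientGroup.mk' F))) : G) ∈ F := (QuotientGroup.eq_one_iff _).mp h1
    have h3 : (c : ↥(Lb.comap (QuotientGroup.mk' F))) ∈
        F.subgroupOf (Lb.comap (QuotientGroup.mk' F)) ⊓ C' :=
      Subgroup.mem_inf.mpr ⟨Subgroup.mem_subgroupOf.mpr h2, c.2⟩
    rw [hc.disjoint.eq_bot, Subgroup.mem_bot] at h3
    exact Subtype.ext h3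
  have hbij : Function.Bijective ψ :=
    (Nat.bijective_iff_injective_and_card ψ).mpr ⟨hinj, hCcard⟩
  exact ⟨MulEquiv.ofBijective ψ hbij, hψd⟩

theorem complEquiv' {G : Type u} [Group G] [Finite G] (F : Subgroup G) [hFn : F.Normal]
    (Lb : Subgroup (G ⧸ F)) (L : Subgroup G) (hL : L = Lb.comap (QuotientGroup.mk' F))
    (C' : Subgroup ↥L) (hc : Subgroup.IsComplement' (F.subgroupOf L) C') :
    ∃ e : ↥C' ≃* ↥Lb, ∀ c : ↥C', ((e c : ↥Lb) : G ⧸ F) = QuotientGroup.mk' F ((c : ↥L) : G) := by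
  subst hL
  exact complEquiv F Lb C' hc

theorem main {G : Type u} [Group G] [Finite G] (hsol : Group.IsSolvable G) (A : Set ℕ)
    (hNM : NoMixed A G) (b0 : ℕ) (hb0A : b0 ∉ A) (hb0p : b0.Prime) (hb0d : b0 ∣ Nat.card G)
    (hFA : ∀ t : ℕ, t.Prime → t ∣ Nat.card (fittingSubgroup G) → t ∈ A) :
    (∃ C : Subgroup G, Cfsg.IsFrobeniusComplement C) ∨
    (∃ (H K : Subgroup G) (_ : H.Normal), K.Normal ∧ H < K ∧
      (∃ C : Subgroup ↥K, Cfsg.IsFrobeniusComplement C ∧ Cfsg.frobeniusKernel C = (H.subgroupOf K : Set ↥K)) ∧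
      (∃ C : Subgroup (G ⧸ H), Cfsg.IsFrobeniusComplement C ∧ Cfsg.frobeniusKernel C = (K.map (QuotientGroup.mk' H) : Set (G ⧸ H)))) := by
  classical
  obtain ⟨F, hFd⟩ : ∃ F : Subgroup G, F = fittingSubgroup G := ⟨_, rfl⟩
  rw [← hFd] at hFA
  haveI hFn : F.Normal := by rw [hFd]; exact Cfsg.Agent.Lib.Helper2.fittingSubgroup_normal
  have hFnil : Group.IsNilpotent F := by
    rw [hFd]; exact Cfsg.Agent.Lib.Helper2.fittingSubgroup_isNilpotent
  have hG1 : Nat.card G ≠ 1 := by
    intro h; rw [h] at hb0d; exact hb0p.one_lt.ne' (Nat.dvd_one.mp hb0d)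
  have hF1 : F ≠ ⊥ := by rw [hFd]; exact fitting_ne_bot hG1
  haveI : Fact b0.Prime := ⟨hb0p⟩
  obtain ⟨b, hb⟩ := exists_prime_orderOf_dvd_card' b0 hb0d
  have hNMQ : NoMixed A (G ⧸ F) :=
    hNM.of_surjective (QuotientGroup.mk' F) (QuotientGroup.mk'_surjective F)
  obtain ⟨Lb, hLbd⟩ : ∃ Lb : Subgroup (G ⧸ F), Lb = fittingSubgroup (G ⧸ F) := ⟨_, rfl⟩
  haveI hLbn : Lb.Normal := by rw [hLbd]; exact Cfsg.Agent.Lib.Helper2.fittingSubgroup_normal
  have hLbnil : Group.IsNilpotent Lb := by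
    rw [hLbd]; exact Cfsg.Agent.Lib.Helper2.fittingSubgroup_isNilpotent
  have hCFQ : Subgroup.centralizer (Lb : Set (G ⧸ F)) ≤ Lb := by
    rw [hLbd]
    haveI : (fittingSubgroup (G ⧸ F)).Normal := Cfsg.Agent.Lib.Helper2.fittingSubgroup_normal
    exact Cfsg.Agent.Lib.Helper20.subnormal_solvable_le_fitting_of_le_centralizer _
      (Subgroup.Normal.isSubnormal inferInstance) inferInstance le_rfl
  have hcardG : Nat.card G = Nat.card F * Nat.card (G ⧸ F) :=
    (Subgroup.card_eq_card_quotient_mul_card_subgroup F).trans (mul_comm _ _)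
  have hb0F : ¬ b0 ∣ Nat.card F := fun h => hb0A (hFA b0 hb0p h)
  have hb0Q : b0 ∣ Nat.card (G ⧸ F) := by
    rw [hcardG] at hb0d
    exact ((Nat.Prime.dvd_mul hb0p).mp hb0d).resolve_left hb0F
  have hQ1 : Nat.card (G ⧸ F) ≠ 1 := by
    intro h; rw [h] at hb0Q; exact hb0p.one_lt.ne' (Nat.dvd_one.mp hb0Q)
  have hLb1 : Lb ≠ ⊥ := by rw [hLbd]; exact fitting_ne_bot hQ1
  -- Step 2
  have hLA : ∀ t : ℕ, t.Prime → t ∣ Nat.card Lb → t ∉ A := by
    intro t ht htd htA
    haveI : Fact t.Prime := ⟨ht⟩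
    have h1 := step1 A hNM F hFd hFA b b0 hb0p hb0A hb t ht htA
    have h2 := Cfsg.Agent.S1476.coprime_card_of_pCore_eq_bot t h1 Lb hLbnil
    exact ht.one_lt.ne' (Nat.Coprime.eq_one_of_dvd h2.symm htd)
  -- L
  obtain ⟨L, hLd⟩ : ∃ L : Subgroup G, L = Lb.comap (QuotientGroup.mk' F) := ⟨_, rfl⟩
  haveI hLn : L.Normal := by rw [hLd]; infer_instance
  have hFL : F ≤ L := by
    rw [hLd]; intro x hx
    rw [Subgroup.mem_comap]
    have : QuotientGroup.mk' F x = 1 := (QuotientGroup.eq_one_iff x).mpr hx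
    rw [this]
    exact Lb.one_mem
  have hLcard : Nat.card L = Nat.card F * Nat.card Lb := by
    rw [hLd]; exact Cfsg.Agent.Lib.Helper6.card_comap_mk' F _
  have hmapL : L.map (QuotientGroup.mk' F) = Lb := by
    rw [hLd]
    exact Subgroup.map_comap_eq_self_of_surjective (QuotientGroup.mk'_surjective F) Lb
  have hFltL : F < L := by
    refine lt_of_le_of_ne hFL ?_
    intro h
    apply hLb1
    rw [← hmapL, ← h, QuotientGroup.map_mk'_self]
  have hF'card : Nat.card (F.subgroupOf L) = Nat.card F :=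
    Cfsg.Agent.Lib.Helper29.card_subgroupOf_of_le hFL
  have hF'idx : (F.subgroupOf L).index = Nat.card Lb := by
    have := Subgroup.card_mul_index (F.subgroupOf L)
    rw [hF'card, hLcard] at this
    exact Nat.eq_of_mul_eq_mul_left Nat.card_pos this
  have hcopFL : (Nat.card F).Coprime (Nat.card Lb) := coprime_of_sets hFA hLA
  obtain ⟨C', hc'⟩ := Subgroup.exists_right_complement'_of_coprime (N := F.subgroupOf L)
    (by rw [hF'card, hF'idx]; exact hcopFL)
  obtain ⟨e, he⟩ := complEquiv' F Lb L hLd C' hc'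
  have hC'card : Nat.card C' = Nat.card Lb := Nat.card_congr e.toEquiv
  have hNML : NoMixed A ↥L := hNM.of_injective L.subtype L.subtype_injective
  have hfpfL : ∀ h ∈ C', h ≠ 1 → ∀ x ∈ F.subgroupOf L, h * x = x * h → x = 1 :=
    fpf_of_cards hNML (F.subgroupOf L) C' (by rw [hF'card]; exact hFA)
      (by rw [hC'card]; exact hLA)
  have hF'1 : F.subgroupOf L ≠ ⊥ := by
    intro h; apply hF1
    have := hF'card; rw [h, Subgroup.card_bot] at this
    exact Subgroup.card_eq_one.mp this.symm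
  have hC'1 : C' ≠ ⊥ := by
    intro h; apply hLb1
    have := hC'card; rw [h, Subgroup.card_bot] at this
    exact Subgroup.card_eq_one.mp this.symm
  have hKpart := frobTop (F.subgroupOf L) C' hc' hF'1 hC'1 hfpfL
  by_cases hcase : ∀ t : ℕ, t.Prime → t ∣ Nat.card (G ⧸ F) → t ∉ A
  · left
    have hcop : (Nat.card F).Coprime F.index := by
      rw [Subgroup.index_eq_card]; exact coprime_of_sets hFA hcase
    obtain ⟨B, hB⟩ := Subgroup.exists_right_complement'_of_coprime hcop
    have hBcard : Nat.card B = Nat.card (G ⧸ F) := by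
      have := hB.card_mul_card
      rw [hcardG] at this
      exact Nat.eq_of_mul_eq_mul_left Nat.card_pos this
    have hB1 : B ≠ ⊥ := by
      intro h; apply hQ1; rw [← hBcard, h, Subgroup.card_bot]
    have hfpf := fpf_of_cards hNM F B hFA (by rw [hBcard]; exact hcase)
    exact ⟨B, (frobTop F B hB hF1 hB1 hfpf).1⟩
  · push Not at hcase
    obtain ⟨r, hr, hrQ, hrA⟩ := hcase
    right
    haveI : Fact r.Prime := ⟨hr⟩
    obtain ⟨xb, hxb⟩ := exists_prime_orderOf_dvd_card' r hrQ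
    have hxb1 : xb ≠ 1 := by
      rintro rfl; rw [orderOf_one] at hxb; exact hr.one_lt.ne hxb
    have hxbA : ∀ t : ℕ, t.Prime → t ∣ orderOf xb → t ∈ A := by
      intro t ht htd
      rw [hxb] at htd
      rw [(Nat.prime_dvd_prime_iff_eq ht hr).mp htd]; exact hrA
    -- (i) |Lb| is odd
    have hodd : Odd (Nat.card Lb) := by
      by_contra hne
      rw [Nat.not_odd_iff_even, even_iff_two_dvd] at hne
      have h2A : (2 : ℕ) ∉ A := hLA 2 Nat.prime_two hne
      haveI : Fact (Nat.Prime 2) := ⟨Nat.prime_two⟩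
      obtain ⟨z', hz'⟩ := exists_prime_orderOf_dvd_card' 2 hne
      have hz : orderOf (z' : G ⧸ F) = 2 := by rw [Subgroup.orderOf_coe]; exact hz'
      have hcentral : ∀ g : G ⧸ F, g * (z' : G ⧸ F) * g⁻¹ = z' := by
        intro g
        have hw : g * (z' : G ⧸ F) * g⁻¹ ∈ Lb := hLbn.conj_mem _ z'.2 g
        have hwo : orderOf (⟨_, hw⟩ : ↥Lb) = 2 := by
          rw [← Subgroup.orderOf_coe]
          show orderOf (g * (z' : G ⧸ F) * g⁻¹) = 2
          rw [← hz]
          exact orderOf_injective (MulAut.conj g).toMonoidHom (MulAut.conj g).injective _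
        have ho1 : orderOf ((e.symm z' : ↥C') : ↥L) = 2 := by
          rw [Subgroup.orderOf_coe, MulEquiv.orderOf_eq]; exact hz'
        have ho2 : orderOf ((e.symm ⟨_, hw⟩ : ↥C') : ↥L) = 2 := by
          rw [Subgroup.orderOf_coe, MulEquiv.orderOf_eq]; exact hwo
        have heq := unique_invol_of_fpf (F.subgroupOf L) C' hF'1 hfpfL _ _
          (e.symm z').2 (e.symm ⟨_, hw⟩).2 ho1 ho2
        have heq2 : e.symm z' = e.symm ⟨_, hw⟩ := Subtype.ext heq
        have heq3 := e.symm.injective heq2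
        exact (congrArg Subtype.val heq3).symm
      have hcomm : Commute xb (z' : G ⧸ F) := by
        have := hcentral xb
        show xb * (z' : G ⧸ F) = z' * xb
        calc xb * (z' : G ⧸ F) = xb * z' * xb⁻¹ * xb := by group
          _ = z' * xb := by rw [this]
      have hr2 : r ≠ 2 := by rintro rfl; exact h2A hrA
      exact hNMQ r hrA 2 h2A hr Nat.prime_two (xb * z')
        (orderOf_mul_of_primes hr Nat.prime_two hr2 hxb hz hcomm)
    -- (ii) Lb is cyclic
    have hfpf'' : ∀ a ∈ C', a ≠ 1 → (F.subgroupOf L) ⊓ Subgroup.centralizer {a} = ⊥ := by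
      intro a ha ha1
      rw [eq_bot_iff]; intro x hx; rw [Subgroup.mem_bot]
      obtain ⟨hxK, hxC⟩ := Subgroup.mem_inf.mp hx
      exact hfpfL a ha ha1 x hxK (Subgroup.mem_centralizer_iff.mp hxC a rfl)
    have hC'nil : Group.IsNilpotent C' := by
      haveI := hLbnil
      exact Group.nilpotent_of_mulEquiv e.symm
    have hC'odd : Odd (Nat.card C') := by rw [hC'card]; exact hodd
    have hC'cyc : IsCyclic C' := Cfsg.Agent.S3215.cyclic_of_fpf_nilpotent_odd (G := ↥L) C'
      (F.subgroupOf L) hF'1 (by rw [Subgroup.normalizer_eq_top]; exact le_top) hfpf'' hC'nil hC'odd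
    haveI hLbcyc : IsCyclic Lb := isCyclic_of_surjective e e.surjective
    -- (iii) commutators lie in Lb
    have hcommQ : ∀ g h : G ⧸ F, g * h * g⁻¹ * h⁻¹ ∈ Lb := by
      intro g h
      apply hCFQ
      rw [Subgroup.mem_centralizer_iff]
      intro y hy
      have hcomm : (MulAut.conjNormal g : MulAut Lb) * MulAut.conjNormal h =
          MulAut.conjNormal h * MulAut.conjNormal g := by
        apply (IsCyclic.mulAutMulEquiv ↥Lb).injective
        rw [map_mul, map_mul, mul_comm]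
      have h1 : (MulAut.conjNormal (g * h * g⁻¹ * h⁻¹) : MulAut Lb) = 1 := by
        rw [map_mul, map_mul, map_mul, map_inv, map_inv, hcomm]; group
      have h2 : (((MulAut.conjNormal (g * h * g⁻¹ * h⁻¹) : MulAut Lb) ⟨y, hy⟩ : Lb) : G ⧸ F) = y := by
        rw [h1]; rfl
      rw [MulAut.conjNormal_apply] at h2
      simp only at h2
      calc y * (g * h * g⁻¹ * h⁻¹) = (g * h * g⁻¹ * h⁻¹) * y * (g * h * g⁻¹ * h⁻¹)⁻¹ * (g * h * g⁻¹ * h⁻¹) := by rw [h2]
        _ = (g * h * g⁻¹ * h⁻¹) * y := by group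
    -- (iv)
    have hiv : ∀ y : G ⧸ F, (∀ t : ℕ, t.Prime → t ∣ orderOf y → t ∉ A) → y ∈ Lb := by
      intro y hy
      obtain ⟨M, hMd⟩ : ∃ M : Subgroup (G ⧸ F), M = Subgroup.zpowers y ⊔ Lb := ⟨_, rfl⟩
      have hLM : Lb ≤ M := by rw [hMd]; exact le_sup_right
      haveI hMn : M.Normal := by
        constructor
        intro m hm g
        have : g * m * g⁻¹ = (g * m * g⁻¹ * m⁻¹) * m := by group
        rw [this]
        exact M.mul_mem (hLM (hcommQ g m)) hm
      have hMcard : ∀ t : ℕ, t.Prime → t ∣ Nat.card M → t ∉ A := by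
        intro t ht htd
        have h1 : Nat.card M ∣ Nat.card (Subgroup.zpowers y) * Nat.card Lb := by
          rw [hMd]; exact Cfsg.Agent.Lib.Helper6.card_sup_dvd_mul'' _ _
        rcases (Nat.Prime.dvd_mul ht).mp (htd.trans h1) with h | h
        · rw [Nat.card_zpowers] at h; exact hy t ht h
        · exact hLA t ht h
      have hfpfM : ∀ x ∈ M, xb * x = x * xb → x = 1 := by
        intro x hx hxx
        rcases commute_mixed hNMQ xb x hxx hxbA
          (fun t ht htd => hMcard t ht (htd.trans (Subgroup.orderOf_dvd_natCard M hx))) with h | h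
        · exact absurd h hxb1
        · exact h
      have hMnil := fk_nilpotent M xb r hr hxb hfpfM
      have hML : M ≤ Lb := by
        rw [hLbd]; exact Cfsg.Agent.Lib.Helper2.le_fittingSubgroup inferInstance hMnil
      exact hML (by rw [hMd]; exact (le_sup_left : Subgroup.zpowers y ≤ _) (Subgroup.mem_zpowers y))
    -- (v)
    have hidxA : ∀ t : ℕ, t.Prime → t ∣ Lb.index → t ∈ A := by
      intro t ht htd
      by_contra htA
      haveI : Fact t.Prime := ⟨ht⟩
      obtain S : Sylow t (G ⧸ F) := default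
      have hSL : (S : Subgroup (G ⧸ F)) ≤ Lb := by
        intro y hy
        apply hiv y
        intro u hu hud
        obtain ⟨k, hk⟩ := (S.2 ⟨y, hy⟩)
        have hk' : y ^ t ^ k = 1 := by
          have := congrArg Subtype.val hk
          simpa using this
        have h1 : orderOf y ∣ t ^ k := orderOf_dvd_of_pow_eq_one hk'
        have := (Nat.prime_dvd_prime_iff_eq hu ht).mp (hu.dvd_of_dvd_pow (hud.trans h1))
        rw [this]; exact htA
      have := Subgroup.index_dvd_of_le hSL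
      exact S.not_dvd_index (htd.trans this)
    have hcopL : (Nat.card Lb).Coprime Lb.index := (coprime_of_sets hidxA hLA).symm
    obtain ⟨Ab, hAb⟩ := Subgroup.exists_right_complement'_of_coprime hcopL
    have hAbcard : Nat.card Ab = Lb.index := by
      have h1 := hAb.card_mul_card
      have h2 := Subgroup.card_mul_index Lb
      rw [← h2] at h1
      exact Nat.eq_of_mul_eq_mul_left Nat.card_pos h1
    have hAb1 : Ab ≠ ⊥ := by
      intro h
      have h2 := Subgroup.card_mul_index Lb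
      rw [← hAbcard, h, Subgroup.card_bot, mul_one] at h2
      rw [← h2] at hrQ
      exact hLA r hr hrQ hrA
    have hfpfQ := fpf_of_cards' hNMQ Lb Ab hLA (by rw [hAbcard]; exact hidxA)
    have hQpart := frobTop Lb Ab hAb hLb1 hAb1 hfpfQ
    refine ⟨F, L, hFn, hLn, hFltL, ⟨C', hKpart⟩, ⟨Ab, hQpart.1, ?_⟩⟩
    rw [hQpart.2, hmapL]

end Cfsg.Agent.S3857

namespace Cfsg.Agent.S3857

/-- A finite solvable group whose prime graph (prime divisors of the order, two distinct primes joined when there is an element of order their product) is disconnected is a Frobenius group or a 2-Frobenius group (it has normal subgroups H < K with K a Frobenius group with kernel H and G/H a Frobenius group with kernel K/H). -/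
theorem result {G : Type*} [Group G] [Finite G] (hsol : Group.IsSolvable G)
    (hdisc : (∃ A : Set ℕ, (∃ a ∈ A, a.Prime ∧ a ∣ Nat.card G) ∧ (∃ b ∉ A, b.Prime ∧ b ∣ Nat.card G) ∧
      ∀ a ∈ A, ∀ b ∉ A, a.Prime → b.Prime → a ∣ Nat.card G → b ∣ Nat.card G → ¬ ∃ g : G, orderOf g = a * b)) :
    (∃ C : Subgroup G, Cfsg.IsFrobeniusComplement C) ∨
    (∃ (H K : Subgroup G) (_ : H.Normal), K.Normal ∧ H < K ∧
      (∃ C : Subgroup ↥K, Cfsg.IsFrobeniusComplement C ∧ Cfsg.frobeniusKernel C = (H.subgroupOf K : Set ↥K)) ∧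
      (∃ C : Subgroup (G ⧸ H), Cfsg.IsFrobeniusComplement C ∧ Cfsg.frobeniusKernel C = (K.map (QuotientGroup.mk' H) : Set (G ⧸ H)))) := by
  obtain ⟨A, ⟨a0, ha0A, ha0p, ha0d⟩, ⟨b0, hb0A, hb0p, hb0d⟩, hno⟩ := hdisc
  have hNM : NoMixed A G := by
    intro a ha b hb hap hbp g hg
    apply hno a ha b hb hap hbp ?_ ?_ ⟨g, hg⟩
    · exact (Dvd.intro _ hg.symm).trans (orderOf_dvd_natCard g)
    · exact (Dvd.intro_left _ hg.symm).trans (orderOf_dvd_natCard g)
  by_cases hFA : ∀ t : ℕ, t.Prime → t ∣ Nat.card (fittingSubgroup G) → t ∈ A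
  · exact main hsol A hNM b0 hb0A hb0p hb0d hFA
  · push Not at hFA
    obtain ⟨t0, ht0, ht0d, ht0A⟩ := hFA
    have hFnil : Group.IsNilpotent (fittingSubgroup G) :=
      Cfsg.Agent.Lib.Helper2.fittingSubgroup_isNilpotent
    apply main hsol Aᶜ hNM.compl a0 (by simpa using ha0A) ha0p ha0d
    intro t ht htd
    show t ∉ A
    intro htA
    have htt0 : t ≠ t0 := by rintro rfl; exact ht0A htA
    obtain ⟨g, hg⟩ := exists_mixed_of_nilpotent (N := ↥(fittingSubgroup G)) t t0 ht ht0 htt0 htd ht0d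
    exact hNM t htA t0 ht0A ht ht0 (g : G) (by rw [Subgroup.orderOf_coe]; exact hg)

end Cfsg.Agent.S3857
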