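import Cfsg.Statements.S3858
import Cfsg.Agent.Lib.Helper5.RankOne

set_option autoImplicit false
open Cfsg

namespace Cfsg.Agent.S3858

open Cfsg.Agent.Lib.Helper5

variable {G : Type*} [Group G]

theorem coatom_conjBy {M : Subgroup G} (hM : IsCoatom M) (g : G) : IsCoatom (Cfsg.conjBy M g) := by
  have := (OrderIso.isCoatom_iff (MulEquiv.mapSubgroup (MulAut.conj g)) M).2 hM
  exact this

theorem index_conjBy (M : Subgroup G) (g : G) : (Cfsg.conjBy M g).index = M.index :=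
  Subgroup.index_map_equiv M (MulAut.conj g)

/-- an `r`-subgroup has a conjugate inside any subgroup of index prime to `r` -/
theorem exists_conjBy_le [Finite G] {r : ℕ} [Fact r.Prime] {P H : Subgroup G} (hP : IsPGroup r P)
    (hH : ¬ r ∣ H.index) : ∃ g : G, Cfsg.conjBy P g ≤ H := by
  have hcard : ¬ r ∣ Nat.card (G ⧸ H) := by rwa [← Subgroup.index_eq_card]
  obtain ⟨q, hq⟩ := hP.nonempty_fixed_point_of_prime_not_dvd_card (G ⧸ H) hcard
  obtain ⟨g, rfl⟩ := QuotientGroup.mk_surjective q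
  refine ⟨g⁻¹, ?_⟩
  intro x hx
  rw [mem_conjBy_iff, inv_inv] at hx
  have h1 := hq ⟨g * x * g⁻¹, hx⟩
  have h2 : ((g * x * g⁻¹ * g : G) : G ⧸ H) = (g : G ⧸ H) := h1
  rw [QuotientGroup.eq] at h2
  have h3 : (g * x * g⁻¹ * g)⁻¹ * g = x⁻¹ := by group
  rw [h3] at h2
  simpa using H.inv_mem h2

theorem normalizer_sylow_ne_top [Finite G] (T : Subgroup G) [T.Normal] (hT : IsSimpleGroup T)
    (hna : ¬ IsMulCommutative T) {r : ℕ} [Fact r.Prime] (R : Sylow r G)
    (hR0 : (R : Subgroup G) ⊓ T ≠ ⊥) :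
    Subgroup.normalizer ((R : Subgroup G) : Set G) ≠ ⊤ := by
  intro hN
  have hTnot : ¬ IsPGroup r T := by
    intro hp
    have hnil : Group.IsNilpotent T := hp.isNilpotent
    have hsol : Group.IsSolvable T := inferInstance
    exact hna ⟨⟨IsSimpleGroup.comm_iff_isSolvable.mpr hsol⟩⟩
  have hRn : (R : Subgroup G).Normal := Subgroup.normalizer_eq_top_iff.1 hN
  have hnorm : ((R : Subgroup G) ⊓ T).Normal := inferInstance
  have hQn : (((R : Subgroup G) ⊓ T).subgroupOf T).Normal := hnorm.subgroupOf T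
  rcases hQn.eq_bot_or_eq_top with hb | ht
  · rw [Subgroup.subgroupOf_eq_bot] at hb
    apply hR0
    have : (R : Subgroup G) ⊓ T ⊓ T = ⊥ := disjoint_iff.1 hb
    rwa [inf_assoc, inf_idem] at this
  · rw [Subgroup.subgroupOf_eq_top] at ht
    have hTR : T ≤ (R : Subgroup G) := fun x hx => (ht hx).1
    exact hTnot (R.isPGroup'.to_le hTR)

/-- Let G be a finite group with a normal non-abelian simple subgroup T whose centralizer is trivial (G almost simple with socle T), r a prime and R a Sylow r-subgroup of G meeting T nontrivially. Then R lies in exactly one maximal subgroup of G if and only if G has exactly one conjugacy class of maximal subgroups whose index is prime to r. -/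
theorem result {G : Type*} [Group G] [Finite G] (T : Subgroup G) [T.Normal] (hT : IsSimpleGroup T) (hna : ¬ IsMulCommutative T)
    (hC : Subgroup.centralizer (T : Set G) = ⊥) {r : ℕ} [Fact r.Prime] (R : Sylow r G) (hR0 : (R : Subgroup G) ⊓ T ≠ ⊥) :
    (∃! M : Subgroup G, IsCoatom M ∧ (R : Subgroup G) ≤ M) ↔
      ((∃ M : Subgroup G, IsCoatom M ∧ ¬ r ∣ M.index) ∧
        ∀ M₁ M₂ : Subgroup G, IsCoatom M₁ → ¬ r ∣ M₁.index → IsCoatom M₂ → ¬ r ∣ M₂.index → ∃ g : G, M₂ = M₁.map (MulAut.conj g).toMonoidHom) := by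
  have hidx : ∀ M : Subgroup G, (R : Subgroup G) ≤ M → ¬ r ∣ M.index := fun M hRM hdvd =>
    R.not_dvd_index (dvd_trans hdvd (Subgroup.index_dvd_of_le hRM))
  constructor
  · rintro ⟨M, ⟨hMmax, hRM⟩, hMuniq⟩
    refine ⟨⟨M, hMmax, hidx M hRM⟩, ?_⟩
    have key : ∀ M₁ : Subgroup G, IsCoatom M₁ → ¬ r ∣ M₁.index → ∃ g : G, M₁ = Cfsg.conjBy M g := by
      intro M₁ hM₁ hr₁
      obtain ⟨g, hg⟩ := exists_conjBy_le R.isPGroup' hr₁
      have h1 : (R : Subgroup G) ≤ Cfsg.conjBy M₁ g⁻¹ := by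
        have := conjBy_mono hg g⁻¹
        rwa [conjBy_conjBy, inv_mul_cancel, conjBy_one] at this
      have h2 := hMuniq _ ⟨coatom_conjBy hM₁ g⁻¹, h1⟩
      refine ⟨g, ?_⟩
      rw [← h2, conjBy_conjBy, mul_inv_cancel, conjBy_one]
    intro M₁ M₂ hM₁ hr₁ hM₂ hr₂
    obtain ⟨g₁, rfl⟩ := key M₁ hM₁ hr₁
    obtain ⟨g₂, rfl⟩ := key M₂ hM₂ hr₂
    refine ⟨g₂ * g₁⁻¹, ?_⟩
    change Cfsg.conjBy M g₂ = Cfsg.conjBy (Cfsg.conjBy M g₁) (g₂ * g₁⁻¹)
    rw [conjBy_conjBy]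
    congr 1
    group
  · rintro ⟨_, hconj⟩
    have hNne := normalizer_sylow_ne_top T hT hna R hR0
    obtain ⟨M₀, hM₀max, hNM₀⟩ := (IsCoatomic.eq_top_or_exists_le_coatom _).resolve_left hNne
    have hRM₀ : (R : Subgroup G) ≤ M₀ := Subgroup.le_normalizer.trans hNM₀
    refine ⟨M₀, ⟨hM₀max, hRM₀⟩, ?_⟩
    rintro M₁ ⟨hM₁max, hRM₁⟩
    obtain ⟨g, hg⟩ := hconj M₀ M₁ hM₀max (hidx M₀ hRM₀) hM₁max (hidx M₁ hRM₁)
    change M₁ = Cfsg.conjBy M₀ g at hg
    -- g⁻¹ R g ≤ M₀ and R ≤ M₀ : conjugate inside M₀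
    have h1 : Cfsg.conjBy (R : Subgroup G) g⁻¹ ≤ M₀ := by
      have := conjBy_mono hRM₁ g⁻¹
      rwa [hg, conjBy_conjBy, inv_mul_cancel, conjBy_one] at this
    -- as Sylow subgroups
    have h1' : ((g⁻¹ • R : Sylow r G) : Subgroup G) ≤ M₀ := by
      rw [Sylow.coe_subgroup_smul]
      intro x hx
      rw [Subgroup.mem_pointwise_smul_iff_inv_smul_mem] at hx
      apply h1
      rw [mem_conjBy_iff]
      simpa [MulAut.smul_def, mul_assoc] using hx
    obtain ⟨m, hm⟩ := MulAction.exists_smul_eq M₀ ((g⁻¹ • R).subtype h1') (R.subtype hRM₀)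
    rw [Sylow.smul_subtype] at hm
    have hm' := Sylow.subtype_injective hm
    -- (m * g⁻¹) • R = R
    have hmem : (m : G) * g⁻¹ ∈ Subgroup.normalizer ((R : Subgroup G) : Set G) := by
      apply Sylow.smul_eq_iff_mem_normalizer.1
      rw [mul_smul]
      exact hm'
    have hgM₀ : g ∈ M₀ := by
      have h3 := hNM₀ hmem
      have h4 := M₀.mul_mem (M₀.inv_mem h3) m.2
      simpa [mul_assoc] using h4
    rw [hg, conjBy_of_mem hgM₀]

end Cfsg.Agent.S3858
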