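import Cfsg.Statements.S4244

set_option autoImplicit false
open Cfsg

namespace Cfsg.Agent.S4244

theorem relIndex_dvd_index_of_normal_right {G : Type*} [Group G] [Finite G] (H K : Subgroup G)
    [hH : H.Normal] : K.relIndex H ∣ K.index := by
  have e1 : K.relIndex H * Nat.card (H ⊓ K : Subgroup G) = Nat.card H := by
    rw [← Subgroup.inf_relIndex_left]
    have := Subgroup.relIndex_mul_relIndex (⊥ : Subgroup G) (H ⊓ K) H bot_le inf_le_left
    rw [Subgroup.relIndex_bot_left, Subgroup.relIndex_bot_left] at this
    rw [mul_comm]; exact this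
  have e2 : H.relIndex K * Nat.card (H ⊓ K : Subgroup G) = Nat.card K := by
    rw [← Subgroup.inf_relIndex_right]
    have := Subgroup.relIndex_mul_relIndex (⊥ : Subgroup G) (H ⊓ K) K bot_le inf_le_right
    rw [Subgroup.relIndex_bot_left, Subgroup.relIndex_bot_left] at this
    rw [mul_comm]; exact this
  have e3 : H.relIndex K * (K ⊔ H).index = H.index := by
    rw [← Subgroup.relIndex_sup_right K H]
    exact Subgroup.relIndex_mul_index le_sup_right
  have e4 : K.index * Nat.card K = Nat.card G := Subgroup.index_mul_card K
  have e5 : Nat.card H * H.index = Nat.card G := Subgroup.card_mul_index H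
  have hpos : 0 < Nat.card K := Nat.card_pos
  refine ⟨(K ⊔ H).index, ?_⟩
  apply Nat.eq_of_mul_eq_mul_right hpos
  rw [e4, ← e5, ← e1, ← e3, ← e2]
  ring

/-- Let `H` be a subnormal subgroup of a finite group `G`. Then for every subgroup `K` of `G` the index of `H ∩ K` in `H` divides the index of `K` in `G`. -/
theorem result {G : Type*} [Group G] [Finite G] (H : Subgroup G) (hH : H.IsSubnormal) (K : Subgroup G) :
    (H ⊓ K).relIndex H ∣ K.index := by
  induction hH with
  | top => simp
  | step H L hHL hL hN ih =>
    rw [Subgroup.inf_relIndex_left] at ih ⊢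
    refine dvd_trans ?_ ih
    -- K.relIndex H ∣ K.relIndex L, with H normal in L
    have h1 : K.relIndex H = (K.subgroupOf L).relIndex (H.subgroupOf L) := by
      rw [Subgroup.relIndex_subgroupOf hHL]
    have h2 : K.relIndex L = (K.subgroupOf L).index := rfl
    rw [h1, h2]
    exact relIndex_dvd_index_of_normal_right _ _
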