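import Cfsg.Statements.S3859
import Cfsg.Agent.S4244

set_option autoImplicit false
open Cfsg

namespace Cfsg.Agent.S3859

/-- Let G be a finite group with a normal non-abelian simple subgroup T whose centralizer is trivial (G almost simple with socle T), r a prime and R a Sylow r-subgroup of G meeting T nontrivially. If R lies in exactly one maximal subgroup of G, then G/T is an r-group. -/
theorem result {G : Type*} [Group G] [Finite G] (T : Subgroup G) [T.Normal] (hT : IsSimpleGroup T) (hna : ¬ IsMulCommutative T)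
    (hC : Subgroup.centralizer (T : Set G) = ⊥) {r : ℕ} [Fact r.Prime] (R : Sylow r G) (hR0 : (R : Subgroup G) ⊓ T ≠ ⊥)
    (huniq : ∃! M : Subgroup G, IsCoatom M ∧ (R : Subgroup G) ≤ M) : IsPGroup r (G ⧸ T) := by
  obtain ⟨M, ⟨hMmax, hRM⟩, hMuniq⟩ := huniq
  -- T is not an r-group
  have hTnot : ¬ IsPGroup r T := by
    intro hp
    have hnil : Group.IsNilpotent T := hp.isNilpotent
    have hsol : Group.IsSolvable T := inferInstance
    exact hna ⟨⟨IsSimpleGroup.comm_iff_isSolvable.mpr hsol⟩⟩
  have key : (R : Subgroup G) ⊔ T = ⊤ := by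
    by_contra hne
    obtain ⟨M', hM'max, hle⟩ := (IsCoatomic.eq_top_or_exists_le_coatom ((R : Subgroup G) ⊔ T)).resolve_left hne
    have hM'M : M' = M := hMuniq M' ⟨hM'max, le_sup_left.trans hle⟩
    have hTM : T ≤ M := hM'M ▸ (le_sup_right.trans hle)
    -- the Sylow r-subgroup R ∩ T of T
    have hQp : IsPGroup r ((R : Subgroup G).subgroupOf T) := R.isPGroup'.comap_subtype
    have hQidx : ¬ r ∣ ((R : Subgroup G).subgroupOf T).index := by
      intro hdvd
      have h1 : (R : Subgroup G).relIndex T ∣ (R : Subgroup G).index :=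
        Cfsg.Agent.S4244.relIndex_dvd_index_of_normal_right T (R : Subgroup G)
      exact R.not_dvd_index (dvd_trans hdvd h1)
    let R₀ : Sylow r T := hQp.toSylow hQidx
    have hfr := Sylow.normalizer_sup_eq_top R₀
    have hR₀map : (R₀ : Subgroup T).map T.subtype = (R : Subgroup G) ⊓ T := by
      change ((R : Subgroup G).subgroupOf T).map T.subtype = _
      rw [Subgroup.subgroupOf_map_subtype]
    rw [hR₀map] at hfr
    -- R normalizes R ⊓ T
    have hRN : (R : Subgroup G) ≤ Subgroup.normalizer (((R : Subgroup G) ⊓ T : Subgroup G) : Set G) := by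
      intro x hx
      rw [Subgroup.mem_normalizer_iff]
      intro y
      constructor
      · rintro ⟨hy1, hy2⟩
        exact Subgroup.mem_inf.2 ⟨(R : Subgroup G).mul_mem ((R : Subgroup G).mul_mem hx hy1)
          ((R : Subgroup G).inv_mem hx), ‹T.Normal›.conj_mem y hy2 x⟩
      · rintro ⟨hy1, hy2⟩
        refine Subgroup.mem_inf.2 ⟨?_, ?_⟩
        · have := (R : Subgroup G).mul_mem ((R : Subgroup G).mul_mem ((R : Subgroup G).inv_mem hx) hy1) hx
          simpa [mul_assoc] using this
        · have := ‹T.Normal›.conj_mem _ hy2 x⁻¹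
          simpa [mul_assoc] using this
    have hNne : Subgroup.normalizer (((R : Subgroup G) ⊓ T : Subgroup G) : Set G) ≠ ⊤ := by
      intro hN
      have hnorm : ((R : Subgroup G) ⊓ T).Normal := Subgroup.normalizer_eq_top_iff.1 hN
      have hQn : (((R : Subgroup G) ⊓ T).subgroupOf T).Normal := hnorm.subgroupOf T
      rcases hQn.eq_bot_or_eq_top with hb | ht
      · rw [Subgroup.subgroupOf_eq_bot] at hb
        apply hR0
        have : (R : Subgroup G) ⊓ T ⊓ T = ⊥ := disjoint_iff.1 hb
        rwa [inf_assoc, inf_idem] at this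
      · rw [Subgroup.subgroupOf_eq_top] at ht
        have hTR : T ≤ (R : Subgroup G) := fun x hx => (ht hx).1
        exact hTnot (R.isPGroup'.to_le hTR)
    obtain ⟨M₁, hM₁max, hle₁⟩ := (IsCoatomic.eq_top_or_exists_le_coatom _).resolve_left hNne
    have hM₁M : M₁ = M := hMuniq M₁ ⟨hM₁max, hRN.trans hle₁⟩
    have : (⊤ : Subgroup G) ≤ M := by
      rw [← hfr]
      exact sup_le (hM₁M ▸ hle₁) hTM
    exact hMmax.1 (top_le_iff.1 this)
  -- G / T is an r-group
  intro q
  obtain ⟨x, rfl⟩ := QuotientGroup.mk_surjective q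
  have hx : x ∈ (((R : Subgroup G) ⊔ T : Subgroup G) : Set G) := by rw [key]; trivial
  rw [Subgroup.mul_normal] at hx
  obtain ⟨ρ, hρ, t, ht, rfl⟩ := hx
  obtain ⟨k, hk⟩ := R.isPGroup' ⟨ρ, hρ⟩
  refine ⟨k, ?_⟩
  have hρk : ρ ^ r ^ k = 1 := by
    have := congrArg Subtype.val hk
    simpa using this
  have e1 : ((ρ * t : G) : G ⧸ T) = (ρ : G ⧸ T) := by
    rw [QuotientGroup.mk_mul, (QuotientGroup.eq_one_iff t).2 ht, mul_one]
  rw [e1, ← QuotientGroup.mk_pow, hρk]
  rfl

end Cfsg.Agent.S3859
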