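import Cfsg.Statements.S3861
import Cfsg.Agent.Lib.Lead.TwoClosed

set_option autoImplicit false
open Cfsg

namespace Cfsg.Agent.S3861

open Subgroup

/-- in a group all of whose elements have odd order, no element inverts a nontrivial element -/
theorem noInv_of_all_odd {Q : Type*} [Group Q] (hQ : ∀ q : Q, Odd (orderOf q)) (g h : Q)
    (hinv : g * h * g⁻¹ = h⁻¹) : h = 1 := by
  -- g^2 commutes with h
  have hc1 : g ^ 2 * h * (g ^ 2)⁻¹ = h := by
    have : g ^ 2 * h * (g ^ 2)⁻¹ = g * (g * h * g⁻¹) * g⁻¹ := by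
      rw [pow_two, mul_inv_rev]; simp only [mul_assoc]
    rw [this, hinv]
    have : g * h⁻¹ * g⁻¹ = (g * h * g⁻¹)⁻¹ := by group
    rw [this, hinv, inv_inv]
  have hc2 : Commute (g ^ 2) h := by
    have : g ^ 2 * h = h * g ^ 2 := by
      calc g ^ 2 * h = (g ^ 2 * h * (g ^ 2)⁻¹) * g ^ 2 := by group
        _ = h * g ^ 2 := by rw [hc1]
    exact this
  -- g is a power of g^2
  obtain ⟨k, hk⟩ := hQ g
  have hg : g = (g ^ 2) ^ (k + 1) := by
    rw [← pow_mul]
    have : 2 * (k + 1) = orderOf g + 1 := by omega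
    rw [this, pow_succ, pow_orderOf_eq_one, one_mul]
  have hc3 : Commute g h := by
    rw [hg]; exact hc2.pow_left _
  have hh : h = h⁻¹ := by
    rw [← hinv, hc3.eq]; group
  have h2 : h ^ 2 = 1 := by
    rw [pow_two]; nth_rewrite 2 [hh]; exact mul_inv_cancel h
  have hd : orderOf h ∣ 2 := orderOf_dvd_of_pow_eq_one h2
  have hc : (orderOf h).Coprime 2 := Nat.coprime_two_right.mpr (hQ h)
  have : orderOf h = 1 := Nat.eq_one_of_dvd_coprimes hc (dvd_refl _) hd
  exact orderOf_eq_one_iff.mp this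

/-- A finite group G has no non-identity element of odd order that is conjugate to its inverse if and only if the Sylow 2-subgroups of G are normal. -/
theorem result {G : Type*} [Group G] [Finite G] (P : Sylow 2 G) : (∀ x : G, x ≠ 1 → Odd (orderOf x) → ¬ IsConj x x⁻¹) ↔ (P : Subgroup G).Normal := by
  have : Fact (Nat.Prime 2) := ⟨Nat.prime_two⟩
  constructor
  · intro hx
    apply Cfsg.Agent.Lib.Lead.sylow_two_normal_of_noInvOdd
    intro g h hodd hinv
    by_contra hne
    exact hx h hne hodd (isConj_iff.mpr ⟨g, hinv⟩)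
  · intro hPn x hx1 hodd hconj
    obtain ⟨g, hg⟩ := isConj_iff.mp hconj
    -- every element of G ⧸ P has odd order
    have hQ : ∀ q : G ⧸ (P : Subgroup G), Odd (orderOf q) := by
      intro q
      have h1 : orderOf q ∣ Nat.card (G ⧸ (P : Subgroup G)) := orderOf_dvd_natCard q
      have h2 : ¬ 2 ∣ Nat.card (G ⧸ (P : Subgroup G)) := by
        rw [← Subgroup.index_eq_card]
        exact P.not_dvd_index
      rw [← Nat.not_even_iff_odd, even_iff_two_dvd]
      intro h3
      exact h2 (dvd_trans h3 h1)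
    have hbar := noInv_of_all_odd hQ (QuotientGroup.mk' (P : Subgroup G) g) (QuotientGroup.mk' (P : Subgroup G) x)
      (by rw [← map_inv, ← map_mul, ← map_inv, ← map_mul, hg])
    rw [QuotientGroup.mk'_apply, QuotientGroup.eq_one_iff] at hbar
    exact hx1 (Cfsg.Agent.Lib.Lead.eq_one_of_odd_of_mem_two_group (P : Subgroup G) P.2 x hbar hodd)

end Cfsg.Agent.S3861
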