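import Cfsg.Statements.S3862
import Cfsg.Agent.Lib.Helper24.OddAct
import Cfsg.Agent.Lib.Helper11.FrobeniusLocal

set_option autoImplicit false
open Cfsg

namespace Cfsg.Agent.S3862

/-- If every 2-element of the finite group G that is conjugate to its inverse lies in the centre of G, then G has a normal 2-complement. -/
theorem result {G : Type*} [Group G] [Finite G] (h : ∀ x : G, (∃ j : ℕ, orderOf x = 2 ^ j) → IsConj x x⁻¹ → x ∈ Subgroup.center G) : Cfsg.HasNormalPComplement 2 G := by
  haveI : Fact (Nat.Prime 2) := ⟨Nat.prime_two⟩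
  have hloc : Cfsg.Agent.Lib.Helper11.LocalPNilpotent 2 G := by
    intro D hD g hg hcop
    have hodd : Odd (orderOf g) := Nat.coprime_two_right.1 hcop
    have hnorm : ∀ x ∈ D, g * x * g⁻¹ ∈ D := fun x hx => (Subgroup.mem_normalizer_iff.1 hg x).1 hx
    -- every element of `D` has 2-power order
    have hord : ∀ x ∈ D, ∃ j : ℕ, orderOf x = 2 ^ j := by
      intro x hx
      obtain ⟨j, hj⟩ := (IsPGroup.iff_orderOf.1 hD) ⟨x, hx⟩
      exact ⟨j, by rw [← hj]; exact (Subgroup.orderOf_mk x hx).symm⟩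
    have key : ∀ j : ℕ, ∀ x ∈ D, x ^ (2 ^ j) = 1 → g * x * g⁻¹ = x := by
      intro j
      induction j with
      | zero =>
        intro x _ hx
        simp only [pow_zero, pow_one] at hx
        rw [hx]; group
      | succ j ih =>
        intro x hxD hx
        have hx2 : (x ^ 2) ^ (2 ^ j) = 1 := by rw [← pow_mul, ← pow_succ']; exact hx
        have h2 : g * x ^ 2 * g⁻¹ = x ^ 2 := ih _ (D.pow_mem hxD 2) hx2
        obtain ⟨x', hx'⟩ : ∃ x', x' = g * x * g⁻¹ := ⟨_, rfl⟩
        have hx'D : x' ∈ D := by rw [hx']; exact hnorm x hxD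
        have hx'2 : x' * x' = x * x := by
          have : x' ^ 2 = x ^ 2 := by rw [hx', conj_pow, h2]
          rwa [pow_two, pow_two] at this
        obtain ⟨u, hu⟩ : ∃ u, u = x⁻¹ * x' := ⟨_, rfl⟩
        have huD : u ∈ D := by rw [hu]; exact D.mul_mem (D.inv_mem hxD) hx'D
        -- `x` inverts `u`
        have hinv : x * u * x⁻¹ = u⁻¹ := by
          rw [hu]
          have e1 : x * (x⁻¹ * x') * x⁻¹ = x' * x⁻¹ := by group
          have e2 : (x⁻¹ * x')⁻¹ = x'⁻¹ * x := by group
          rw [e1, e2]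
          calc x' * x⁻¹ = x'⁻¹ * (x' * x') * x⁻¹ := by group
            _ = x'⁻¹ * (x * x) * x⁻¹ := by rw [hx'2]
            _ = x'⁻¹ * x := by group
        have huZ : u ∈ Subgroup.center G :=
          h u (hord u huD) (isConj_iff.2 ⟨x, hinv⟩)
        have hgu : g * u * g⁻¹ = u := by
          have := Subgroup.mem_center_iff.1 huZ g
          rw [this]; group
        have hxu : g * x * g⁻¹ = x * u := by rw [hu, ← hx']; group
        have hu2 : ∃ i : ℕ, u ^ (2 ^ i) = 1 := by
          obtain ⟨i, hi⟩ := hord u huD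
          exact ⟨i, by rw [← hi]; exact pow_orderOf_eq_one u⟩
        have hu1 : u = 1 := Cfsg.Agent.Lib.Helper24.eq_one_of_odd_stab hodd hxu hgu hu2
        rw [hxu, hu1, mul_one]
    rw [Subgroup.mem_centralizer_iff]
    intro x hx
    obtain ⟨j, hj⟩ := hord x hx
    have hxj : x ^ (2 ^ j) = 1 := by rw [← hj]; exact pow_orderOf_eq_one x
    have := key j x hx hxj
    calc x * g = (g * x * g⁻¹) * g := by rw [this]
      _ = g * x := by group
  obtain ⟨P⟩ : Nonempty (Sylow 2 G) := inferInstance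
  obtain ⟨K, hKn, hK⟩ := Cfsg.Agent.Lib.Helper11.exists_normal_complement_of_local hloc P
  exact ⟨P, K, hKn, hK⟩

end Cfsg.Agent.S3862
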