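import Cfsg.Statements.S3863
import Mathlib

set_option autoImplicit false
open Cfsg

namespace Cfsg.Agent.S3863

variable {G : Type*} [Group G]

/-- if `g` inverts `x` then so does every odd power of `g`. -/
theorem conj_pow_odd {g x : G} (h : g * x * g⁻¹ = x⁻¹) {m : ℕ} (hm : Odd m) :
    g ^ m * x * (g ^ m)⁻¹ = x⁻¹ := by
  have h2 : g ^ 2 * x * (g ^ 2)⁻¹ = x := by
    have : g ^ 2 * x * (g ^ 2)⁻¹ = g * (g * x * g⁻¹) * g⁻¹ := by
      rw [pow_two]; group
    rw [this, h]
    have : g * x⁻¹ * g⁻¹ = (g * x * g⁻¹)⁻¹ := by group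
    rw [this, h, inv_inv]
  have h2j : ∀ j : ℕ, (g ^ 2) ^ j * x * ((g ^ 2) ^ j)⁻¹ = x := by
    intro j
    induction j with
    | zero => simp
    | succ j ih =>
      have : (g ^ 2) ^ (j + 1) * x * ((g ^ 2) ^ (j + 1))⁻¹ =
          (g ^ 2) ^ j * (g ^ 2 * x * (g ^ 2)⁻¹) * ((g ^ 2) ^ j)⁻¹ := by
        rw [pow_succ]; group
      rw [this, h2, ih]
  obtain ⟨j, rfl⟩ := hm
  have : g ^ (2 * j + 1) * x * (g ^ (2 * j + 1))⁻¹ =
      (g ^ 2) ^ j * (g * x * g⁻¹) * ((g ^ 2) ^ j)⁻¹ := by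
    rw [pow_succ, pow_mul]; group
  rw [this, h]
  have : (g ^ 2) ^ j * x⁻¹ * ((g ^ 2) ^ j)⁻¹ = ((g ^ 2) ^ j * x * ((g ^ 2) ^ j)⁻¹)⁻¹ := by group
  rw [this, h2j]

/-- in a finite group of odd order, an element of 2-power order is trivial. -/
theorem eq_one_of_odd_card {Q : Type*} [Group Q] [Finite Q] (hQ : Odd (Nat.card Q)) {y : Q} {j : ℕ}
    (hy : y ^ 2 ^ j = 1) : y = 1 := by
  have h1 : orderOf y ∣ 2 ^ j := orderOf_dvd_of_pow_eq_one hy
  have h2 : orderOf y ∣ Nat.card Q := orderOf_dvd_natCard y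
  have hcop : Nat.Coprime (2 ^ j) (Nat.card Q) :=
    Nat.Coprime.pow_left j (Nat.coprime_two_left.2 hQ)
  have : orderOf y = 1 := Nat.eq_one_of_dvd_coprimes hcop h1 h2
  exact orderOf_eq_one_iff.1 this

/-- the extended centralizer -/
def cstar (x : G) : Subgroup G where
  carrier := {g | g * x * g⁻¹ = x ∨ g * x * g⁻¹ = x⁻¹}
  one_mem' := by left; simp
  mul_mem' := by
    rintro a b ha hb
    have key : a * b * x * (a * b)⁻¹ = a * (b * x * b⁻¹) * a⁻¹ := by group
    have inv_key : a * x⁻¹ * a⁻¹ = (a * x * a⁻¹)⁻¹ := by group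
    rcases ha with ha | ha <;> rcases hb with hb | hb
    · left; rw [key, hb, ha]
    · right; rw [key, hb, inv_key, ha]
    · right; rw [key, hb, ha]
    · left; rw [key, hb, inv_key, ha, inv_inv]
  inv_mem' := by
    rintro a ha
    rcases ha with ha | ha
    · left
      show a⁻¹ * x * a⁻¹⁻¹ = x
      conv_lhs => rw [← ha]
      group
    · right
      show a⁻¹ * x * a⁻¹⁻¹ = x⁻¹
      have h3 : a⁻¹ * x⁻¹ * a = x := by
        rw [← ha]; group
      have h4 : a⁻¹ * x * a⁻¹⁻¹ = (a⁻¹ * x⁻¹ * a)⁻¹ := by group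
      rw [h4, h3]

theorem mem_centralizer_iff' (x g : G) :
    g ∈ Subgroup.centralizer ({x} : Set G) ↔ g * x * g⁻¹ = x := by
  rw [Subgroup.mem_centralizer_iff]
  constructor
  · intro h
    have := h x rfl
    rw [← this]; group
  · rintro h y rfl
    have := congrArg (fun t => t * g) h
    simpa [mul_assoc] using this.symm

/-- Let x be an element of the finite group G that is conjugate to its inverse. Then some 2-element conjugates x to its inverse; if the conjugacy class of x has odd size then x ^ 2 = 1; and x lies in, and is conjugate to its inverse inside, every normal subgroup of odd index. -/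
theorem result {G : Type*} [Group G] [Finite G] (x : G) (hx : IsConj x x⁻¹) : (∃ t : G, (∃ j : ℕ, orderOf t = 2 ^ j) ∧ t * x * t⁻¹ = x⁻¹) ∧ (Odd (Subgroup.centralizer ({x} : Set G)).index → x ^ 2 = 1) ∧ ∀ (N : Subgroup G) [N.Normal], Odd N.index → ∃ hxN : x ∈ N, IsConj (⟨x, hxN⟩ : N) (⟨x, hxN⟩ : N)⁻¹ := by
  obtain ⟨g, hg⟩ := isConj_iff.1 hx
  -- the 2-element
  have h2elt : ∃ t : G, (∃ j : ℕ, orderOf t = 2 ^ j) ∧ t * x * t⁻¹ = x⁻¹ := by
    obtain ⟨k, m, hm, hkm⟩ := Nat.exists_eq_two_pow_mul_odd (orderOf_pos g).ne'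
    refine ⟨g ^ m, ⟨k, ?_⟩, conj_pow_odd hg hm⟩
    have hm0 : m ≠ 0 := by
      rintro rfl
      exact absurd hm (by decide)
    rw [orderOf_pow_of_dvd hm0 ⟨2 ^ k, by rw [hkm, mul_comm]⟩, hkm,
      Nat.mul_div_cancel _ (Nat.pos_of_ne_zero hm0)]
  obtain ⟨t, ⟨j, hj⟩, ht⟩ := h2elt
  refine ⟨⟨t, ⟨j, hj⟩, ht⟩, ?_, ?_⟩
  · intro hodd
    by_contra hx2
    have hxne : x ≠ x⁻¹ := by
      intro h
      apply hx2
      rw [pow_two]
      nth_rewrite 2 [h]
      exact mul_inv_cancel x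
    have hle : Subgroup.centralizer ({x} : Set G) ≤ cstar x := by
      intro g hg
      exact Or.inl ((mem_centralizer_iff' x g).1 hg)
    have hrel : (Subgroup.centralizer ({x} : Set G)).relIndex (cstar x) = 2 := by
      rw [Subgroup.relIndex_eq_two_iff]
      refine ⟨t, Or.inr ht, ?_⟩
      intro b hb
      have key : b * t * x * (b * t)⁻¹ = b * (t * x * t⁻¹) * b⁻¹ := by
        rw [mul_inv_rev]; simp only [mul_assoc]
      have inv_key : b * x⁻¹ * b⁻¹ = (b * x * b⁻¹)⁻¹ := by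
        rw [mul_inv_rev, mul_inv_rev, inv_inv, mul_assoc]
      rw [mem_centralizer_iff', mem_centralizer_iff', key, ht, inv_key]
      rcases hb with hb | hb
      · right
        refine ⟨hb, ?_⟩
        rw [hb]
        exact fun h => hxne h.symm
      · left
        refine ⟨by rw [hb, inv_inv], ?_⟩
        rw [hb]
        exact fun h => hxne h.symm
    have := Subgroup.relIndex_mul_index hle
    rw [hrel] at this
    rw [← this] at hodd
    exact (Nat.not_even_iff_odd.2 hodd) (even_two_mul _)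
  · intro N hN hodd
    have hQ : Odd (Nat.card (G ⧸ N)) := by rwa [← Subgroup.index_eq_card]
    -- the image of g has odd order k, and g^k inverts x
    have hxN : x ∈ N := by
      rw [← QuotientGroup.eq_one_iff]
      set k := orderOf (g : G ⧸ N) with hk
      have hkodd : Odd k := hQ.of_dvd_nat (orderOf_dvd_natCard _)
      have h1 : g ^ k * x * (g ^ k)⁻¹ = x⁻¹ := conj_pow_odd hg hkodd
      have h2 : ((g ^ k : G) : G ⧸ N) = 1 := by
        rw [QuotientGroup.mk_pow, hk]; exact pow_orderOf_eq_one _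
      have h3 := congrArg (fun y : G => (y : G ⧸ N)) h1
      simp only [QuotientGroup.mk_mul, QuotientGroup.mk_inv, h2, one_mul, inv_one, mul_one] at h3
      apply eq_one_of_odd_card hQ (j := 1)
      rw [pow_one, pow_two]
      nth_rewrite 2 [h3]
      exact mul_inv_cancel _
    have htN : t ∈ N := by
      rw [← QuotientGroup.eq_one_iff]
      apply eq_one_of_odd_card hQ (j := j)
      rw [← QuotientGroup.mk_pow, ← hj, pow_orderOf_eq_one]
      rfl
    refine ⟨hxN, ?_⟩
    rw [isConj_iff]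
    refine ⟨⟨t, htN⟩, ?_⟩
    apply Subtype.ext
    simp only [Subgroup.coe_mul, Subgroup.coe_inv]
    exact ht

end Cfsg.Agent.S3863
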