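import Cfsg.Statements.S3864
import Cfsg.Agent.Lib.Helper11.DihGen
import Cfsg.Agent.Lib.Helper11.FrobeniusLocal
import Cfsg.Agent.Lib.Helper24.KleinClasses
import Cfsg.Agent.S0111
import Cfsg.Agent.S0514

set_option autoImplicit false
open Cfsg

namespace Cfsg.Agent.S3864

open Subgroup Cfsg.Agent.Lib.Helper11

universe u

section

variable {G : Type u} [Group G] [Finite G] (P : Sylow 2 G) {r s : G} {m : ℕ}

/-- the set of classes of involutions -/
def invClasses (G : Type*) [Group G] : Set (ConjClasses G) :=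
  {C | ∃ g : G, ConjClasses.mk g = C ∧ orderOf g = 2}

theorem card_eq_ncard :
    Nat.card {C : ConjClasses G // ∃ g : G, ConjClasses.mk g = C ∧ orderOf g = 2} =
      (invClasses G).ncard :=
  Nat.card_coe_set_eq (invClasses G)

theorem orderOf_s (h : DihGen (P : Subgroup G) r s m) : orderOf s = 2 := by
  apply orderOf_eq_prime
  · rw [pow_two]; exact h.ss
  · intro h1
    exact h.hsr (h1 ▸ one_mem _)

theorem mk_eq_of_conj {x y g : G} (hg : g * x * g⁻¹ = y) : ConjClasses.mk x = ConjClasses.mk y := by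
  rw [ConjClasses.mk_eq_mk_iff_isConj, isConj_iff]
  exact ⟨g, hg⟩

theorem invClasses_eq (h : DihGen (P : Subgroup G) r s m) (hm : 2 ∣ m) (hm0 : 0 < m) :
    invClasses G =
      {ConjClasses.mk (r ^ (m / 2)), ConjClasses.mk s, ConjClasses.mk (s * r)} := by
  ext C
  simp only [invClasses, Set.mem_setOf_eq, Set.mem_insert_iff, Set.mem_singleton_iff]
  constructor
  · rintro ⟨g, rfl, hg⟩
    obtain ⟨x, hx⟩ := Cfsg.Agent.Lib.Helper24.exists_conj_mem_sylow_of_involution P g hg
    have hgg : g * g = 1 := by rw [← pow_two, ← hg, pow_orderOf_eq_one]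
    have hg1 : g ≠ 1 := by
      intro h1
      rw [h1, orderOf_one] at hg
      omega
    have h1 : (x⁻¹ * g * x) * (x⁻¹ * g * x) = 1 := by
      calc (x⁻¹ * g * x) * (x⁻¹ * g * x) = x⁻¹ * (g * g) * x := by group
        _ = 1 := by rw [hgg]; group
    have h2 : x⁻¹ * g * x ≠ 1 := by
      intro h0
      apply hg1
      have : g = x * (x⁻¹ * g * x) * x⁻¹ := by group
      rw [this, h0]; group
    have hmk : ConjClasses.mk g = ConjClasses.mk (x⁻¹ * g * x) :=
      mk_eq_of_conj (g := x⁻¹) (by rw [inv_inv])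
    rcases h.inv_cases hm hx h1 h2 with h3 | ⟨p, -, h3 | h3⟩
    · left; rw [hmk, h3]
    · right; left; rw [hmk]; exact mk_eq_of_conj h3
    · right; right; rw [hmk]; exact mk_eq_of_conj h3
  · rintro (rfl | rfl | rfl)
    · exact ⟨_, rfl, h.orderOf_z hm hm0⟩
    · exact ⟨_, rfl, orderOf_s P h⟩
    · exact ⟨_, rfl, orderOf_s P h.swap⟩

/-- Case A: all involutions conjugate. -/
theorem caseA (h : DihGen (P : Subgroup G) r s m) (hm : 4 ∣ m) (hm0 : 0 < m)
    (ha : IsConj s (r ^ (m / 2))) (hb : IsConj (s * r) (r ^ (m / 2))) :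
    Nat.card {C : ConjClasses G // ∃ g : G, ConjClasses.mk g = C ∧ orderOf g = 2} = 1 ∧
      ∀ N : Subgroup G, N.Normal → N.index ≠ 2 := by
  have hm2 : 2 ∣ m := dvd_trans (by norm_num) hm
  constructor
  · rw [card_eq_ncard, invClasses_eq P h hm2 hm0,
      ConjClasses.mk_eq_mk_iff_isConj.2 ha, ConjClasses.mk_eq_mk_iff_isConj.2 hb]
    simp
  · intro N hN hidx
    obtain ⟨w, -, hw⟩ := h.z_eq_sq hm
    have hz : r ^ (m / 2) ∈ N := by rw [hw]; exact mul_self_mem_of_index_two hidx w
    have hmem : ∀ x : G, IsConj x (r ^ (m / 2)) → x ∈ N := by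
      intro x hx
      obtain ⟨c, hc⟩ := isConj_iff.1 hx
      have : x = c⁻¹ * (r ^ (m / 2)) * c⁻¹⁻¹ := by rw [← hc]; group
      rw [this]
      exact hN.conj_mem _ hz _
    have hPN : (P : Subgroup G) ≤ N := h.le_of_mem (hmem _ ha) (hmem _ hb)
    have h1 : N.index ∣ (P : Subgroup G).index := Subgroup.index_dvd_of_le hPN
    rw [hidx] at h1
    exact P.not_dvd_index h1

/-- Case B: `s` is fused to `z`, but `s * r` is not. -/
theorem caseB (h : DihGen (P : Subgroup G) r s m) (hm : 4 ∣ m) (hm0 : 0 < m)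
    (ha : IsConj s (r ^ (m / 2))) (hb : ¬ IsConj (s * r) (r ^ (m / 2))) :
    Nat.card {C : ConjClasses G // ∃ g : G, ConjClasses.mk g = C ∧ orderOf g = 2} = 2 ∧
      (∃ N : Subgroup G, N.Normal ∧ N.index = 2) ∧
      ∀ N : Subgroup G, N.Normal → N.index ≠ 4 := by
  have hm2 : 2 ∣ m := dvd_trans (by norm_num) hm
  refine ⟨?_, ?_, ?_⟩
  · rw [card_eq_ncard, invClasses_eq P h hm2 hm0, ConjClasses.mk_eq_mk_iff_isConj.2 ha]
    have hne : ConjClasses.mk (r ^ (m / 2)) ≠ ConjClasses.mk (s * r) := by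
      intro hc
      exact hb (ConjClasses.mk_eq_mk_iff_isConj.1 hc.symm)
    rw [Set.insert_eq_of_mem (Set.mem_insert _ _)]
    exact Set.ncard_pair hne
  · have hsr2 : orderOf (s * r) = 2 := orderOf_s P h.swap
    rcases Cfsg.Agent.S0111.result P (zpowers r) h.zpowers_le h.relIndex (s * r) hsr2
      (mul_mem h.hs h.hr) h.swap.hsr with ⟨M, hMn, hMi, -⟩ | ⟨g, hg⟩
    · exact ⟨M, hMn, hMi⟩
    · exfalso
      apply hb
      have hsq : (s * r) * (s * r) = 1 := h.refl_sq (mem_zpowers r)
      have h1 : (g * (s * r) * g⁻¹) * (g * (s * r) * g⁻¹) = 1 := by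
        calc (g * (s * r) * g⁻¹) * (g * (s * r) * g⁻¹) = g * ((s * r) * (s * r)) * g⁻¹ := by group
          _ = 1 := by rw [hsq]; group
      have h2 : g * (s * r) * g⁻¹ ≠ 1 := by
        intro h0
        have : s * r = g⁻¹ * (g * (s * r) * g⁻¹) * g := by group
        rw [h0] at this
        have h3 : s * r = 1 := by rw [this]; group
        exact h.swap.hsr (h3 ▸ one_mem _)
      rw [isConj_iff]
      exact ⟨g, h.eq_z_of_rot hm2 hg h1 h2⟩
  · intro N hN hidx
    have hcard : Nat.card (G ⧸ N) = 2 ^ 2 := by rw [← Subgroup.index_eq_card, hidx]; norm_num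
    have hcomm := IsPGroup.commutative_of_card_eq_prime_sq hcard
    -- `π(r)^2 = 1`
    have hr2 : r * r ∈ N := by
      have h1 : (QuotientGroup.mk s : G ⧸ N) * QuotientGroup.mk r * (QuotientGroup.mk s)⁻¹ =
          (QuotientGroup.mk r)⁻¹ := by
        rw [← QuotientGroup.mk_inv, ← QuotientGroup.mk_mul, ← QuotientGroup.mk_mul, h.srs,
          QuotientGroup.mk_inv]
      rw [hcomm (QuotientGroup.mk s) (QuotientGroup.mk r), mul_assoc, mul_inv_cancel,
        mul_one] at h1
      have h2 : (QuotientGroup.mk (r * r) : G ⧸ N) = 1 := by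
        rw [QuotientGroup.mk_mul]
        nth_rewrite 2 [h1]
        rw [mul_inv_cancel]
      exact (QuotientGroup.eq_one_iff _).1 h2
    have hz : r ^ (m / 2) ∈ N := by
      obtain ⟨q, hq⟩ := hm
      have : r ^ (m / 2) = (r * r) ^ q := by
        rw [← pow_two, ← pow_mul]
        congr 1
        omega
      rw [this]
      exact pow_mem hr2 q
    have hsN : s ∈ N := by
      obtain ⟨c, hc⟩ := isConj_iff.1 ha
      have : s = c⁻¹ * (r ^ (m / 2)) * c⁻¹⁻¹ := by rw [← hc]; group
      rw [this]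
      exact hN.conj_mem _ hz _
    -- `P N = G`
    have htop : (P : Subgroup G) ⊔ N = ⊤ := by
      rw [← Subgroup.index_eq_one]
      have h1 : ((P : Subgroup G) ⊔ N).index ∣ (P : Subgroup G).index :=
        Subgroup.index_dvd_of_le le_sup_left
      have h2 : ((P : Subgroup G) ⊔ N).index ∣ N.index := Subgroup.index_dvd_of_le le_sup_right
      rw [hidx] at h2
      have h3 : Nat.Coprime (P : Subgroup G).index 4 := by
        have : Nat.Coprime (P : Subgroup G).index (2 ^ 2) :=
          Nat.Coprime.pow_right 2 ((Nat.Prime.coprime_iff_not_dvd Nat.prime_two).2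
            P.not_dvd_index).symm
        exact this
      exact Nat.eq_one_of_dvd_coprimes h3 h1 h2
    have hall : ∀ q : G ⧸ N, q = 1 ∨ q = QuotientGroup.mk r := by
      intro q
      obtain ⟨g, rfl⟩ := QuotientGroup.mk_surjective q
      have hg : g ∈ ((P : Subgroup G) ⊔ N : Subgroup G) := by rw [htop]; trivial
      have hg' : g ∈ ((↑((P : Subgroup G) ⊔ N) : Set G)) := hg
      rw [Subgroup.mul_normal] at hg'
      obtain ⟨p, hp, n, hn, rfl⟩ := Set.mem_mul.1 hg'
      have hpn : (QuotientGroup.mk (p * n) : G ⧸ N) = QuotientGroup.mk p := by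
        rw [QuotientGroup.mk_mul, (QuotientGroup.eq_one_iff n).2 hn, mul_one]
      rw [hpn]
      have hrk : ∀ k : ℤ, (QuotientGroup.mk (r ^ k) : G ⧸ N) = 1 ∨
          (QuotientGroup.mk (r ^ k) : G ⧸ N) = QuotientGroup.mk r := by
        intro k
        obtain ⟨j, hj | hj⟩ := Int.even_or_odd' k
        · left
          rw [(QuotientGroup.eq_one_iff _)]
          rw [hj, zpow_mul, zpow_two]
          exact zpow_mem hr2 j
        · right
          rw [hj, zpow_add, zpow_one, QuotientGroup.mk_mul]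
          have : (QuotientGroup.mk (r ^ (2 * j)) : G ⧸ N) = 1 := by
            rw [(QuotientGroup.eq_one_iff _)]
            rw [zpow_mul, zpow_two]
            exact zpow_mem hr2 j
          rw [this, one_mul]
      rcases h.cases p hp with h1 | ⟨y, hy, rfl⟩
      · obtain ⟨k, rfl⟩ := mem_zpowers_iff.1 h1
        exact hrk k
      · obtain ⟨k, rfl⟩ := mem_zpowers_iff.1 hy
        rw [QuotientGroup.mk_mul, (QuotientGroup.eq_one_iff s).2 hsN, one_mul]
        exact hrk k
    have hle : Nat.card (G ⧸ N) ≤ 2 := by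
      have h1 : (Set.univ : Set (G ⧸ N)) ⊆ {1, QuotientGroup.mk r} := by
        intro q _
        rcases hall q with h1 | h1 <;> simp [h1]
      have h2 := Set.ncard_le_ncard h1 (Set.toFinite _)
      rw [Set.ncard_univ] at h2
      have h3 : ({1, QuotientGroup.mk r} : Set (G ⧸ N)).ncard ≤ 2 := by
        have := Set.ncard_insert_le (1 : G ⧸ N) {QuotientGroup.mk r}
        rw [Set.ncard_singleton] at this
        exact this
      omega
    rw [hcard] at hle
    omega

/-- In case C the local hypothesis of Frobenius' theorem holds. -/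
theorem local_of_caseC (h : DihGen (P : Subgroup G) r s m) (hm : 2 ∣ m) (hm0 : 0 < m)
    (ha : ¬ IsConj s (r ^ (m / 2))) (hb : ¬ IsConj (s * r) (r ^ (m / 2))) :
    LocalPNilpotent 2 G := by
  apply localPNilpotent_of_sylow P
  intro Q hQ g hg hodd
  rcases centralizes_of_dihData h.toDihData P.2 Q hQ g hg hodd with h1 | ⟨hQ4, hQsq⟩
  · exact h1
  set z := r ^ (m / 2) with hz
  -- `z ∈ Q`
  have hzQ : z ∈ Q := by
    -- an element outside the rotations
    have hex : ∃ a ∈ Q, a ∉ zpowers r := by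
      by_contra hcon
      push_neg at hcon
      have hsub : (Q : Set G) ⊆ {1, z} := by
        intro x hx
        by_cases hx1 : x = 1
        · simp [hx1]
        · have := h.eq_z_of_rot hm (hcon x hx) (hQsq x hx) hx1
          simp [this, hz]
      have h1 := Set.ncard_le_ncard hsub (Set.toFinite _)
      have h2 : ({1, z} : Set G).ncard ≤ 2 := by
        have := Set.ncard_insert_le 1 ({z} : Set G)
        rw [Set.ncard_singleton] at this
        exact this
      have h3 : (Q : Set G).ncard = Nat.card Q := (Nat.card_coe_set_eq _).symm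
      rw [h3, hQ4] at h1
      omega
    obtain ⟨a, haQ, haC⟩ := hex
    have hex2 : ∃ b ∈ Q, b ≠ 1 ∧ b ≠ a := by
      by_contra hcon
      push_neg at hcon
      have hsub : (Q : Set G) ⊆ {1, a} := by
        intro x hx
        by_cases hx1 : x = 1
        · simp [hx1]
        · simp [hcon x hx hx1]
      have h1 := Set.ncard_le_ncard hsub (Set.toFinite _)
      have h2 : ({1, a} : Set G).ncard ≤ 2 := by
        have := Set.ncard_insert_le 1 ({a} : Set G)
        rw [Set.ncard_singleton] at this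
        exact this
      have h3 : (Q : Set G).ncard = Nat.card Q := (Nat.card_coe_set_eq _).symm
      rw [h3, hQ4] at h1
      omega
    obtain ⟨b, hbQ, hb1, hba⟩ := hex2
    by_cases hbC : b ∈ zpowers r
    · have := h.eq_z_of_rot hm hbC (hQsq b hbQ) hb1
      rw [hz, ← this]; exact hbQ
    · have habC : a * b ∈ zpowers r := h.toDihData.mul a (hQ haQ) b (hQ hbQ) haC hbC
      have hab1 : a * b ≠ 1 := by
        intro h0
        apply hba
        have : b = a⁻¹ := (inv_eq_of_mul_eq_one_right h0).symm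
        rw [this]
        exact inv_eq_of_mul_eq_one_right (hQsq a haQ)
      have := h.eq_z_of_rot hm habC (hQsq _ (mul_mem haQ hbQ)) hab1
      rw [hz, ← this]; exact mul_mem haQ hbQ
  by_cases hgz : g * z * g⁻¹ = z
  · exact Cfsg.Agent.S0514.four_group_centralizes Q hQ4 z hzQ (h.orderOf_z hm hm0) g hg hgz hodd
  · exfalso
    set w := g * z * g⁻¹ with hw
    have hwQ : w ∈ Q := (mem_normalizer_iff.1 hg z).1 hzQ
    have hw1 : w ≠ 1 := by
      intro h0
      apply h.z_ne_one hm hm0
      have : z = g⁻¹ * w * g := by rw [hw]; group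
      rw [← hz, this, h0]; group
    have hwC : w ∉ zpowers r := by
      intro hc
      exact hgz (h.eq_z_of_rot hm hc (hQsq w hwQ) hw1)
    obtain ⟨p, -, hp | hp⟩ := h.refl_conj (hQ hwQ) hwC
    · apply ha
      rw [isConj_comm, isConj_iff]
      refine ⟨p * g, ?_⟩
      rw [← hp, hw]; group
    · apply hb
      rw [isConj_comm, isConj_iff]
      refine ⟨p * g, ?_⟩
      rw [← hp, hw]; group

/-- Case C: no fusion at all. -/
theorem caseC (h : DihGen (P : Subgroup G) r s m) (hm : 2 ∣ m) (hm0 : 0 < m)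
    (ha : ¬ IsConj s (r ^ (m / 2))) (hb : ¬ IsConj (s * r) (r ^ (m / 2))) :
    Nat.card {C : ConjClasses G // ∃ g : G, ConjClasses.mk g = C ∧ orderOf g = 2} = 3 ∧
      Cfsg.HasNormalPComplement 2 G := by
  obtain ⟨K, hKn, hK⟩ := exists_normal_complement_of_local (local_of_caseC P h hm hm0 ha hb) P
  refine ⟨?_, ⟨P, K, hKn, hK⟩⟩
  have hfus : ControlsOwnFusion (P : Subgroup G) :=
    controlsOwnFusion_of_normal_complement (P : Subgroup G) K hK
  rw [card_eq_ncard, invClasses_eq P h hm hm0, Set.ncard_eq_three]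
  refine ⟨_, _, _, ?_, ?_, ?_, rfl⟩
  · intro hc
    exact ha (ConjClasses.mk_eq_mk_iff_isConj.1 hc.symm)
  · intro hc
    exact hb (ConjClasses.mk_eq_mk_iff_isConj.1 hc.symm)
  · intro hc
    obtain ⟨g, hg⟩ := isConj_iff.1 (ConjClasses.mk_eq_mk_iff_isConj.1 hc)
    obtain ⟨u, hu, hu2⟩ := hfus s h.hs g (hg ▸ mul_mem h.hs h.hr)
    rw [hg] at hu2
    exact h.not_conj_s_sr hm hu hu2.symm

end

theorem result {G : Type*} [Group G] [Finite G] (P : Sylow 2 G) (n : ℕ) (hn : 3 ≤ n) (hdih : Nonempty (↥(P : Subgroup G) ≃* DihedralGroup (2 ^ (n - 1)))) : (Nat.card {C : ConjClasses G // ∃ g : G, ConjClasses.mk g = C ∧ orderOf g = 2} = 1 ∧ ∀ N : Subgroup G, N.Normal → N.index ≠ 2) ∨ (Nat.card {C : ConjClasses G // ∃ g : G, ConjClasses.mk g = C ∧ orderOf g = 2} = 2 ∧ (∃ N : Subgroup G, N.Normal ∧ N.index = 2) ∧ ∀ N : Subgroup G, N.Normal → N.index ≠ 4) ∨ (Nat.card {C : ConjClasses G // ∃ g : G, ConjClasses.mk g = C ∧ orderOf g = 2} = 3 ∧ Cfsg.HasNormalPComplement 2 G) := by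
  obtain ⟨e⟩ := hdih
  have h := dihGen_of_equiv (P : Subgroup G) (2 ^ (n - 1)) e
  set r : G := ((e.symm (DihedralGroup.r 1) : (P : Subgroup G)) : G) with hr
  set s : G := ((e.symm (DihedralGroup.sr 0) : (P : Subgroup G)) : G) with hs
  set m := 2 ^ (n - 1) with hm
  have hm4 : 4 ∣ m := by
    obtain ⟨k, hk⟩ : ∃ k, n - 1 = 2 + k := ⟨n - 3, by omega⟩
    rw [hm, hk, pow_add]
    exact Dvd.intro _ rfl
  have hm2 : 2 ∣ m := dvd_trans (by norm_num) hm4
  have hm0 : 0 < m := by rw [hm]; positivity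
  by_cases ha : IsConj s (r ^ (m / 2))
  · by_cases hb : IsConj (s * r) (r ^ (m / 2))
    · exact Or.inl (caseA P h hm4 hm0 ha hb)
    · exact Or.inr (Or.inl (caseB P h hm4 hm0 ha hb))
  · by_cases hb : IsConj (s * r) (r ^ (m / 2))
    · refine Or.inr (Or.inl (caseB P h.swap hm4 hm0 hb ?_))
      intro hc
      apply ha
      have h1 : IsConj (s * r * r) s := by
        rw [isConj_iff]
        exact ⟨r, h.conj_srr⟩
      exact h1.symm.trans hc
    · exact Or.inr (Or.inr (caseC P h hm2 hm0 ha hb))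

end Cfsg.Agent.S3864
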