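import Cfsg.Statements.S3866
import Mathlib

set_option autoImplicit false
open Cfsg
open scoped commutatorElement

namespace Cfsg.Agent.S3866

variable {G : Type*} [Group G]

theorem comm_map_mul (A : Subgroup G) [hAn : A.Normal] (hA : IsMulCommutative A) (x : G) {a b : G}
    (ha : a ∈ A) (hb : b ∈ A) :
    x * (a * b) * x⁻¹ * (a * b)⁻¹ = (x * a * x⁻¹ * a⁻¹) * (x * b * x⁻¹ * b⁻¹) := by
  have hc : x * b * x⁻¹ * b⁻¹ ∈ A := A.mul_mem (hAn.conj_mem b hb x) (A.inv_mem hb)
  have hcomm : (x * b * x⁻¹ * b⁻¹) * a⁻¹ = a⁻¹ * (x * b * x⁻¹ * b⁻¹) := by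
    have := hA.is_comm.comm ⟨_, hc⟩ ⟨a⁻¹, A.inv_mem ha⟩
    exact congrArg Subtype.val this
  calc x * (a * b) * x⁻¹ * (a * b)⁻¹ = x * a * x⁻¹ * ((x * b * x⁻¹ * b⁻¹) * a⁻¹) := by group
  _ = x * a * x⁻¹ * (a⁻¹ * (x * b * x⁻¹ * b⁻¹)) := by rw [hcomm]
  _ = _ := by group

/-- the commutator map `a ↦ [x,a]` on the abelian normal subgroup `A`. -/
def phi (A : Subgroup G) [A.Normal] (hA : IsMulCommutative A) (x : G) : A →* G where
  toFun a := x * a * x⁻¹ * (a : G)⁻¹
  map_one' := by simp
  map_mul' a b := by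
    simpa using comm_map_mul A hA x a.2 b.2

theorem phi_apply (A : Subgroup G) [A.Normal] (hA : IsMulCommutative A) (x : G) (a : A) :
    phi A hA x a = x * a * x⁻¹ * (a : G)⁻¹ := rfl

theorem phi_range_le (A : Subgroup G) [hAn : A.Normal] (hA : IsMulCommutative A) (x : G) :
    (phi A hA x).range ≤ A := by
  rintro _ ⟨a, rfl⟩
  exact A.mul_mem (hAn.conj_mem a a.2 x) (A.inv_mem a.2)

theorem phi_range_normal (A : Subgroup G) [hAn : A.Normal] (hA : IsMulCommutative A) (x : G)
    (hgen : A ⊔ Subgroup.zpowers x = ⊤) : (phi A hA x).range.Normal := by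
  rw [← Subgroup.normalizer_eq_top_iff, eq_top_iff, ← hgen, sup_le_iff]
  constructor
  · intro a ha
    rw [Subgroup.mem_normalizer_iff]
    intro h
    have key : ∀ d ∈ A, a * d * a⁻¹ = d := by
      intro d hd
      have := hA.is_comm.comm ⟨a, ha⟩ ⟨d, hd⟩
      have h2 : a * d = d * a := congrArg Subtype.val this
      rw [h2]; group
    constructor
    · intro hh
      rw [key h (phi_range_le A hA x hh)]; exact hh
    · intro hh
      have h1 : a * h * a⁻¹ ∈ A := phi_range_le A hA x hh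
      have h2 : h ∈ A := by
        have := A.mul_mem (A.mul_mem (A.inv_mem ha) h1) ha
        simpa [mul_assoc] using this
      rwa [key h h2] at hh
  · rw [Subgroup.zpowers_le, Subgroup.mem_normalizer_iff]
    intro h
    constructor
    · rintro ⟨a, rfl⟩
      refine ⟨⟨x * a * x⁻¹, hAn.conj_mem a a.2 x⟩, ?_⟩
      simp only [phi_apply]; group
    · rintro ⟨a, ha⟩
      refine ⟨⟨x⁻¹ * a * x, by simpa using hAn.conj_mem a a.2 x⁻¹⟩, ?_⟩
      have : h = x⁻¹ * (x * h * x⁻¹) * x := by group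
      rw [this, ← ha]; simp only [phi_apply]; group

theorem commutator_le_phi_range (A : Subgroup G) [hAn : A.Normal] (hA : IsMulCommutative A) (x : G)
    (hgen : A ⊔ Subgroup.zpowers x = ⊤) : commutator G ≤ (phi A hA x).range := by
  have := phi_range_normal A hA x hgen
  rw [← Subgroup.Normal.quotient_commutative_iff_commutator_le]
  set D := (phi A hA x).range with hD
  let π := QuotientGroup.mk' D
  have hxa : ∀ a ∈ A, π x * π a = π a * π x := by
    intro a ha
    have : π (x * a * x⁻¹ * a⁻¹) = 1 := by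
      rw [QuotientGroup.mk'_apply, QuotientGroup.eq_one_iff]; exact ⟨⟨a, ha⟩, rfl⟩
    simp only [map_mul, map_inv] at this
    rw [mul_inv_eq_one, mul_inv_eq_iff_eq_mul] at this
    exact this
  have hk : ∀ u ∈ (π '' ((A : Set G) ∪ {x})), ∀ v ∈ (π '' ((A : Set G) ∪ {x})), u * v = v * u := by
    rintro _ ⟨u, hu, rfl⟩ _ ⟨v, hv, rfl⟩
    rcases hu with hu | hu <;> rcases hv with hv | hv
    · rw [← map_mul, ← map_mul]
      congr 1
      exact congrArg Subtype.val (hA.is_comm.comm ⟨u, hu⟩ ⟨v, hv⟩)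
    · rw [Set.mem_singleton_iff] at hv; subst hv; exact (hxa u hu).symm
    · rw [Set.mem_singleton_iff] at hu; subst hu; exact hxa v hv
    · rw [Set.mem_singleton_iff] at hu hv; subst hu; subst hv; rfl
  have hcl : Subgroup.closure (π '' ((A : Set G) ∪ {x})) = ⊤ := by
    rw [← MonoidHom.map_closure, Subgroup.closure_union, Subgroup.closure_eq,
      ← Subgroup.zpowers_eq_closure, hgen, ← MonoidHom.range_eq_map, MonoidHom.range_eq_top]
    exact QuotientGroup.mk'_surjective D
  have hcomm := Subgroup.isMulCommutative_closure hk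
  refine ⟨⟨fun u v => ?_⟩⟩
  have hu : u ∈ Subgroup.closure (π '' ((A : Set G) ∪ {x})) := by rw [hcl]; trivial
  have hv : v ∈ Subgroup.closure (π '' ((A : Set G) ∪ {x})) := by rw [hcl]; trivial
  exact setLike_mul_comm hu hv

/-- Let A be a commutative normal subgroup of the finite group G with G generated by A and an element x. Then a ↦ x a x⁻¹ a⁻¹ is a surjective homomorphism from A onto the commutator subgroup of G whose kernel is the centralizer of x in A; in particular the commutator subgroup has order equal to the index in A of that centralizer. -/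
theorem result {G : Type*} [Group G] [Finite G] (A : Subgroup G) [A.Normal] (hA : IsMulCommutative A) (x : G) (hgen : A ⊔ Subgroup.zpowers x = ⊤) : (∀ a ∈ A, x * a * x⁻¹ * a⁻¹ ∈ commutator G) ∧ (∀ c ∈ commutator G, ∃ a ∈ A, x * a * x⁻¹ * a⁻¹ = c) ∧ (∀ a ∈ A, ∀ b ∈ A, x * (a * b) * x⁻¹ * (a * b)⁻¹ = (x * a * x⁻¹ * a⁻¹) * (x * b * x⁻¹ * b⁻¹)) ∧ Nat.card (commutator G) * Nat.card ↥(A ⊓ Subgroup.centralizer ({x} : Set G)) = Nat.card A := by
  have h1 : ∀ a ∈ A, x * a * x⁻¹ * a⁻¹ ∈ commutator G := by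
    intro a _
    have : x * a * x⁻¹ * a⁻¹ = ⁅x, a⁆ := rfl
    rw [this, commutator_def]
    exact Subgroup.commutator_mem_commutator (Subgroup.mem_top x) (Subgroup.mem_top a)
  have hle := commutator_le_phi_range A hA x hgen
  have hrange : commutator G = (phi A hA x).range := by
    apply le_antisymm hle
    rintro _ ⟨a, rfl⟩
    exact h1 a a.2
  refine ⟨h1, ?_, fun a ha b hb => comm_map_mul A hA x ha hb, ?_⟩
  · intro c hc
    obtain ⟨a, rfl⟩ := hle hc
    exact ⟨a, a.2, rfl⟩
  · have hker : (phi A hA x).ker.map A.subtype = A ⊓ Subgroup.centralizer ({x} : Set G) := by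
      ext g
      simp only [Subgroup.mem_map, MonoidHom.mem_ker, Subgroup.subtype_apply, Subgroup.mem_inf,
        Subgroup.mem_centralizer_iff, Set.mem_singleton_iff, forall_eq]
      constructor
      · rintro ⟨a, ha, rfl⟩
        refine ⟨a.2, ?_⟩
        rw [phi_apply, mul_inv_eq_one, mul_inv_eq_iff_eq_mul] at ha
        exact ha
      · rintro ⟨hg, hc⟩
        refine ⟨⟨g, hg⟩, ?_, rfl⟩
        rw [phi_apply, mul_inv_eq_one, mul_inv_eq_iff_eq_mul]
        exact hc
    rw [← hker, Subgroup.card_map_of_injective A.subtype_injective, hrange, ← Subgroup.index_ker,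
      mul_comm]
    exact Subgroup.card_mul_index _

end Cfsg.Agent.S3866
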