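import Cfsg.Statements.S3867
import Cfsg.Agent.Lib.Helper15.ProdFormula
import Mathlib

set_option autoImplicit false
open Cfsg
open scoped Pointwise

namespace Cfsg.Agent.S3867

variable {G : Type*} [Group G]

/-- the normalizer of `H` normalizes `H ⊔ L` for normal `L`. -/
theorem normalizer_le_normalizer_sup (H L : Subgroup G) [hL : L.Normal] :
    Subgroup.normalizer (H : Set G) ≤ Subgroup.normalizer ((H ⊔ L : Subgroup G) : Set G) := by
  intro g hg
  rw [Subgroup.mem_normalizer_iff_map_conj_eq] at hg ⊢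
  rw [Subgroup.map_sup, hg]
  congr 1
  ext x
  constructor
  · rintro ⟨y, hy, rfl⟩
    exact hL.conj_mem y hy g
  · intro hx
    refine ⟨g⁻¹ * x * g, by simpa using hL.conj_mem x hx g⁻¹, ?_⟩
    simp [MulAut.conj_apply, mul_assoc]

theorem normalizer_inf_le (H K : Subgroup G) :
    Subgroup.normalizer (H : Set G) ⊓ Subgroup.normalizer (K : Set G) ≤
      Subgroup.normalizer ((H ⊓ K : Subgroup G) : Set G) := by
  rintro g ⟨hH, hK⟩
  have hH : g ∈ Subgroup.normalizer (H : Set G) := hH
  have hK : g ∈ Subgroup.normalizer (K : Set G) := hK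
  rw [Subgroup.mem_normalizer_iff] at hH hK ⊢
  intro x
  rw [Subgroup.mem_inf, Subgroup.mem_inf, hH x, hK x]

/-- the number of Sylow subgroups of a quotient. -/
theorem card_sylow_quotient [Finite G] {p : ℕ} [Fact p.Prime] (P : Sylow p G) (L : Subgroup G)
    [L.Normal] :
    Nat.card (Sylow p (G ⧸ L)) =
      (Subgroup.normalizer (((P : Subgroup G) ⊔ L : Subgroup G) : Set G)).index := by
  have hs := QuotientGroup.mk'_surjective L
  rw [Sylow.card_eq_index_normalizer (P.mapSurjective hs),
    ← Subgroup.index_comap_of_surjective _ hs]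
  congr 1
  have : Subgroup.normalizer ((P.mapSurjective hs : Sylow p (G ⧸ L)) : Set (G ⧸ L)) =
      Subgroup.normalizer
        (((P : Subgroup G).map (QuotientGroup.mk' L) : Subgroup (G ⧸ L)) : Set (G ⧸ L)) := rfl
  rw [this, Subgroup.comap_normalizer_eq_of_surjective _ hs, Subgroup.comap_map_eq,
    QuotientGroup.ker_mk']

/-- elements of `P ⊔ L` have `p`-power order modulo `L`. -/
theorem exists_pow_mem [Finite G] {p : ℕ} [Fact p.Prime] (P : Sylow p G) (L : Subgroup G)
    [L.Normal] {h : G} (hh : h ∈ (P : Subgroup G) ⊔ L) : ∃ a : ℕ, h ^ p ^ a ∈ L := by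
  have h1 : QuotientGroup.mk' L h ∈ (P : Subgroup G).map (QuotientGroup.mk' L) := by
    have : ((P : Subgroup G) ⊔ L).map (QuotientGroup.mk' L) =
        (P : Subgroup G).map (QuotientGroup.mk' L) := by
      rw [Subgroup.map_sup]
      have : L.map (QuotientGroup.mk' L) = ⊥ := by
        rw [Subgroup.map_eq_bot_iff, QuotientGroup.ker_mk']
      rw [this, sup_bot_eq]
    rw [← this]
    exact Subgroup.mem_map_of_mem _ hh
  obtain ⟨y, hy, hyh⟩ := h1
  obtain ⟨a, ha⟩ := P.isPGroup' ⟨y, hy⟩
  refine ⟨a, ?_⟩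
  have hya : y ^ p ^ a = 1 := by simpa using congrArg Subtype.val ha
  rw [← QuotientGroup.eq_one_iff, QuotientGroup.mk_pow]
  rw [QuotientGroup.mk'_apply, QuotientGroup.mk'_apply] at hyh
  rw [← hyh, ← QuotientGroup.mk_pow, hya]
  rfl

theorem sup_inf_sup_eq [Finite G] {p : ℕ} [Fact p.Prime] (P : Sylow p G) (M N : Subgroup G)
    [M.Normal] [N.Normal] (hMN : M ⊓ N = ⊥) :
    ((P : Subgroup G) ⊔ M) ⊓ ((P : Subgroup G) ⊔ N) = P := by
  have hp : IsPGroup p ↥(((P : Subgroup G) ⊔ M) ⊓ ((P : Subgroup G) ⊔ N)) := by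
    rintro ⟨h, hh⟩
    obtain ⟨a, ha⟩ := exists_pow_mem P M hh.1
    obtain ⟨b, hb⟩ := exists_pow_mem P N hh.2
    refine ⟨a + b, ?_⟩
    apply Subtype.ext
    rw [Subgroup.coe_pow, Subgroup.coe_one]
    have h1 : h ^ p ^ (a + b) ∈ M := by
      rw [pow_add, pow_mul]; exact Subgroup.pow_mem _ ha _
    have h2 : h ^ p ^ (a + b) ∈ N := by
      rw [pow_add, mul_comm, pow_mul]; exact Subgroup.pow_mem _ hb _
    have : h ^ p ^ (a + b) ∈ M ⊓ N := ⟨h1, h2⟩
    rwa [hMN, Subgroup.mem_bot] at this
  exact P.is_maximal' hp (le_inf le_sup_left le_sup_left)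

/-- Let M and N be nontrivial normal subgroups of the finite group G with M ⊓ N trivial, and let p be a prime. Writing n(X) for the number of Sylow p-subgroups of a group X, one has n(G) · n(G/MN) = n(G/M) · n(G/N). -/
theorem result {G : Type*} [Group G] [Finite G] (p : ℕ) [Fact p.Prime] (M N : Subgroup G) [M.Normal] [N.Normal] (hM : M ≠ ⊥) (hN : N ≠ ⊥) (hMN : M ⊓ N = ⊥) : Nat.card (Sylow p G) * Nat.card (Sylow p (G ⧸ (M ⊔ N))) = Nat.card (Sylow p (G ⧸ M)) * Nat.card (Sylow p (G ⧸ N)) := by
  obtain ⟨P⟩ : Nonempty (Sylow p G) := inferInstance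
  rw [card_sylow_quotient P M, card_sylow_quotient P N, card_sylow_quotient P (M ⊔ N),
    Sylow.card_eq_index_normalizer P]
  set A := Subgroup.normalizer (((P : Subgroup G) ⊔ M : Subgroup G) : Set G) with hA
  set B := Subgroup.normalizer (((P : Subgroup G) ⊔ N : Subgroup G) : Set G) with hB
  set C := Subgroup.normalizer (((P : Subgroup G) ⊔ (M ⊔ N) : Subgroup G) : Set G) with hC
  set D := Subgroup.normalizer ((P : Subgroup G) : Set G) with hD
  have hDA : D ≤ A := normalizer_le_normalizer_sup _ M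
  have hDB : D ≤ B := normalizer_le_normalizer_sup _ N
  have hAC : A ≤ C := by
    have := normalizer_le_normalizer_sup ((P : Subgroup G) ⊔ M) N
    rwa [sup_assoc] at this
  have hBC : B ≤ C := by
    have := normalizer_le_normalizer_sup ((P : Subgroup G) ⊔ N) M
    rwa [sup_assoc, sup_comm N M] at this
  -- (i)
  have hinf : A ⊓ B = D := by
    apply le_antisymm
    · have := normalizer_inf_le ((P : Subgroup G) ⊔ M) ((P : Subgroup G) ⊔ N)
      rwa [sup_inf_sup_eq P M N hMN] at this
    · exact le_inf hDA hDB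
  -- (ii)
  have hmul : (A : Set G) * (B : Set G) = C := by
    apply Set.Subset.antisymm
    · rintro _ ⟨a, ha, b, hb, rfl⟩
      exact C.mul_mem (hAC ha) (hBC hb)
    · intro g hg
      -- g • P ≤ T
      set T := (P : Subgroup G) ⊔ (M ⊔ N) with hT
      have hPT : (P : Subgroup G) ≤ T := le_sup_left
      have hgPT : ((g • P : Sylow p G) : Subgroup G) ≤ T := by
        intro x hx
        rw [Sylow.smul_def, Sylow.pointwise_smul_def,
          Subgroup.mem_pointwise_smul_iff_inv_smul_mem] at hx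
        have h1 : g⁻¹ * x * g ∈ T := hPT (by simpa [MulAut.smul_def] using hx)
        have h2 := (Subgroup.mem_normalizer_iff.1 hg (g⁻¹ * x * g)).1 h1
        simpa [mul_assoc] using h2
      obtain ⟨t, ht⟩ := MulAction.exists_smul_eq T ((g • P).subtype hgPT) (P.subtype hPT)
      rw [Sylow.smul_subtype] at ht
      have ht' := Sylow.subtype_injective ht
      have hmem : (t : G) * g ∈ D := by
        apply Sylow.smul_eq_iff_mem_normalizer.1
        rw [mul_smul]
        exact ht'
      -- t⁻¹ ∈ T = (P ⊔ M) * N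
      have htT : ((t : G))⁻¹ ∈ (((P : Subgroup G) ⊔ M) ⊔ N : Subgroup G) := by
        rw [sup_assoc]; exact T.inv_mem t.2
      rw [← SetLike.mem_coe, Subgroup.mul_normal] at htT
      obtain ⟨y, hy, n, hn, hyn⟩ := htT
      refine ⟨y, Subgroup.le_normalizer hy, n * ((t : G) * g), ?_, ?_⟩
      · exact B.mul_mem (Subgroup.le_normalizer (le_sup_right (a := (P : Subgroup G)) hn))
          (hDB hmem)
      · show y * (n * ((t : G) * g)) = g
        have hyn' : y * n = ((t : G))⁻¹ := hyn
        rw [← mul_assoc, hyn']; group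
  -- counting
  have hprod := Cfsg.Agent.Lib.Helper15.card_mul_set_mul_card_inf A B
  rw [hmul, hinf] at hprod
  have hcC : Nat.card (C : Set G) = Nat.card C := rfl
  rw [hcC] at hprod
  have h1 := Subgroup.card_mul_index A
  have h2 := Subgroup.card_mul_index B
  have h3 := Subgroup.card_mul_index C
  have h4 := Subgroup.card_mul_index D
  have hpos : 0 < Nat.card C * Nat.card D := Nat.mul_pos Nat.card_pos Nat.card_pos
  apply Nat.eq_of_mul_eq_mul_left hpos
  calc Nat.card C * Nat.card D * (D.index * C.index)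
      = (Nat.card C * C.index) * (Nat.card D * D.index) := by ring
  _ = (Nat.card A * A.index) * (Nat.card B * B.index) := by rw [h1, h2, h3, h4]
  _ = Nat.card A * Nat.card B * (A.index * B.index) := by ring
  _ = Nat.card C * Nat.card D * (A.index * B.index) := by rw [hprod]

end Cfsg.Agent.S3867
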