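import Cfsg.Statements.S3868
import Mathlib
import Cfsg.Agent.Lib.Helper3.MinNonClosed
import Cfsg.Agent.S3870
import Cfsg.Agent.S0586
-- import your own Cfsg.Agent.* helpers here

set_option autoImplicit false
open Cfsg

namespace Cfsg.Agent.S3868

open Cfsg.Agent.Lib.Helper3

/-- If `G/N` is `p`-closed then `P N` is normal for a Sylow `p`-subgroup `P`. -/
theorem sup_normal_of_quot_closed {G : Type*} [Group G] [Finite G] {p : ℕ} [Fact p.Prime]
    (N : Subgroup G) [N.Normal] (hq : Cfsg.IsPClosed p (G ⧸ N)) (P : Sylow p G) :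
    ((P : Subgroup G) ⊔ N).Normal := by
  have h1 : ((P.mapSurjective (QuotientGroup.mk'_surjective N) : Sylow p (G ⧸ N)) :
      Subgroup (G ⧸ N)).Normal := hq _
  rw [Sylow.coe_mapSurjective] at h1
  have h2 : (((P : Subgroup G).map (QuotientGroup.mk' N)).comap (QuotientGroup.mk' N)).Normal :=
    Subgroup.Normal.comap h1 _
  rwa [Subgroup.comap_map_eq, QuotientGroup.ker_mk'] at h2

/-- A Sylow subgroup inside a normal `p`-closed subgroup is normal. -/
theorem sylow_normal_of_le_normal_closed {G : Type*} [Group G] [Finite G] {p : ℕ} [Fact p.Prime]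
    (H : Subgroup G) [hH : H.Normal] (hc : Cfsg.IsPClosed p ↥H) (P : Sylow p G)
    (hPH : (P : Subgroup G) ≤ H) : (P : Subgroup G).Normal := by
  obtain ⟨T, hT⟩ := Cfsg.Agent.S3870.exists_sylow_of_isPClosed H hc
  have hPT : P = T := Cfsg.Agent.S3870.sylow_eq_of_le (hT _ hPH P.isPGroup')
  constructor
  intro z hz g
  have h1 : (P : Subgroup G).map (MulAut.conj g).toMonoidHom ≤ H := by
    rintro _ ⟨w, hw, rfl⟩
    exact hH.conj_mem w (hPH hw) g
  have h2 := hT _ h1 (P.isPGroup'.map _)
  rw [← hPT] at h2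
  exact h2 ⟨z, hz, rfl⟩

/-- Structure of the non-simple minimal non-p-closed groups. Call a finite group p-closed when its Sylow p-subgroups are normal, and minimal non-p-closed when it is not p-closed but every proper subgroup and every proper quotient is. If such a group G is not simple, then there is a prime q ≠ p such that G has order p · q^e, where e is the multiplicative order of q modulo p, and G has a normal subgroup A of order q^e that is elementary abelian and is a minimal normal subgroup of G (so G is the semidirect product of A by a group of order p acting irreducibly). -/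
theorem result {G : Type*} [Group G] [Finite G] {p : ℕ} [Fact p.Prime]
    (hnc : ¬ Cfsg.IsPClosed p G) (hsub : ∀ H : Subgroup G, H ≠ ⊤ → Cfsg.IsPClosed p ↥H)
    (hquo : ∀ (N : Subgroup G) [N.Normal], N ≠ ⊥ → Cfsg.IsPClosed p (G ⧸ N)) (hns : ¬ IsSimpleGroup G) :
    ∃ q : ℕ, q.Prime ∧ q ≠ p ∧ Nat.card G = p * q ^ orderOf (q : ZMod p) ∧
      ∃ A : Subgroup G, A.Normal ∧ Nat.card ↥A = q ^ orderOf (q : ZMod p) ∧ Cfsg.IsElementaryAbelian q A ∧
        ∀ B : Subgroup G, B.Normal → B ≤ A → B = ⊥ ∨ B = A := by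
  classical
  have hp : p.Prime := Fact.out
  -- no Sylow p-subgroup is normal
  have hall : ∀ P : Sylow p G, ¬ (P : Subgroup G).Normal := by
    intro P hPn
    apply hnc
    intro P'
    haveI := Sylow.unique_of_normal P hPn
    rwa [Subsingleton.elim P' P]
  obtain ⟨P⟩ : Nonempty (Sylow p G) := inferInstance
  -- G nontrivial, proper nontrivial normal subgroup
  have hnt : Nontrivial G := by
    by_contra hnt
    rw [not_nontrivial_iff_subsingleton] at hnt
    apply hall P
    constructor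
    intro z hz g
    rw [Subsingleton.elim (g * z * g⁻¹) 1]; exact Subgroup.one_mem _
  obtain ⟨N, hNn, hNb, hNt⟩ : ∃ N : Subgroup G, N.Normal ∧ N ≠ ⊥ ∧ N ≠ ⊤ := by
    by_contra hcon
    push_neg at hcon
    apply hns
    exact ⟨fun H hH => by
      by_cases h : H = ⊥
      · exact Or.inl h
      · exact Or.inr (hcon H hH h)⟩
  obtain ⟨K, hKn, hKne, hKN, hmin⟩ := Cfsg.Agent.S0586.exists_minimal_normal_le N hNn hNb
  haveI := hKn
  have hKt : K ≠ ⊤ := by
    rintro rfl
    exact hNt (top_le_iff.mp hKN)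
  -- (1)
  have h1 : ∀ P : Sylow p G, K ⊔ (P : Subgroup G) = ⊤ := by
    intro P
    by_contra hne
    have hn : ((P : Subgroup G) ⊔ K).Normal := sup_normal_of_quot_closed K (hquo K hKne) P
    rw [sup_comm] at hn
    exact hall P (sylow_normal_of_le_normal_closed _ (hsub _ hne) P le_sup_right)
  -- (2)
  have hKcop : (Nat.card K).Coprime p := by
    obtain ⟨T, hT⟩ := Cfsg.Agent.S3870.exists_sylow_of_isPClosed K (hsub K hKt)
    have hRn : ((T : Subgroup G) ⊓ K).Normal := by
      constructor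
      intro z hz g
      have hz' := Subgroup.mem_inf.mp hz
      refine Subgroup.mem_inf.mpr ⟨?_, hKn.conj_mem z hz'.2 g⟩
      have h2 : ((T : Subgroup G) ⊓ K).map (MulAut.conj g).toMonoidHom ≤ K := by
        rintro _ ⟨w, hw, rfl⟩
        exact hKn.conj_mem w (Subgroup.mem_inf.mp hw).2 g
      have h3 : IsPGroup p (((T : Subgroup G) ⊓ K).map (MulAut.conj g).toMonoidHom) :=
        (T.isPGroup'.to_le inf_le_left).map _
      exact hT _ h2 h3 ⟨z, hz, rfl⟩
    rcases hmin _ hRn inf_le_right with h | h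
    · apply Nat.Coprime.symm
      rw [Nat.Prime.coprime_iff_not_dvd hp]
      intro hdvd
      obtain ⟨x, hx⟩ := exists_prime_orderOf_dvd_card' p hdvd
      have hxT : (x : G) ∈ (T : Subgroup G) := by
        have hzp : IsPGroup p (Subgroup.zpowers (x : G)) := by
          apply IsPGroup.of_card (n := 1)
          rw [Nat.card_zpowers, pow_one, Subgroup.orderOf_coe, hx]
        exact hT _ (Subgroup.zpowers_le.mpr x.2) hzp (Subgroup.mem_zpowers _)
      have hxR : (x : G) ∈ (T : Subgroup G) ⊓ K := Subgroup.mem_inf.mpr ⟨hxT, x.2⟩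
      rw [h, Subgroup.mem_bot] at hxR
      have hx1 : x = 1 := Subtype.ext hxR
      rw [hx1, orderOf_one] at hx
      exact hp.one_lt.ne hx
    · exfalso
      have hKT : K ≤ T := by rw [← h]; exact inf_le_left
      have h2 := h1 T
      rw [sup_eq_right.mpr hKT] at h2
      apply hall T
      rw [h2]
      infer_instance
  have hTK : ∀ T : Sylow p G, ∀ a ∈ K, a ∈ (T : Subgroup G) → a = 1 := by
    intro T a ha haT
    have hcop : (Nat.card K).Coprime (Nat.card (T : Subgroup G)) := by
      obtain ⟨n, hn⟩ := IsPGroup.iff_card.mp T.isPGroup'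
      rw [hn]; exact Nat.Coprime.pow_right n hKcop
    have := Subgroup.inf_eq_bot_of_coprime hcop
    have h2 : a ∈ K ⊓ (T : Subgroup G) := Subgroup.mem_inf.mpr ⟨ha, haT⟩
    rwa [this, Subgroup.mem_bot] at h2
  have hres := minNonClosed_core (p := p) K (P : Subgroup G) P.isPGroup' hKcop (h1 P) hmin hKne
    ?_ ?_ ?_
  · obtain ⟨q, hq, hqp, hcG, hcK, hEA⟩ := hres
    exact ⟨q, hq, hqp, hcG, K, hKn, hcK, hEA, hmin⟩
  · -- hcent
    intro P' Q hP' hQ hinv hne x hx y hy
    obtain ⟨T, hT⟩ := Cfsg.Agent.S3870.exists_sylow_of_isPClosed _ (hsub _ hne)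
    have hP'p : IsPGroup p P' := P.isPGroup'.to_le hP'
    have hxT : x ∈ (T : Subgroup G) := hT P' le_sup_right hP'p hx
    have hyH : y ∈ Q ⊔ P' := (le_sup_left : Q ≤ Q ⊔ P') hy
    have h2 : P'.map (MulAut.conj y).toMonoidHom ≤ Q ⊔ P' := by
      rintro _ ⟨w, hw, rfl⟩
      exact Subgroup.mul_mem _ (Subgroup.mul_mem _ hyH ((le_sup_right : P' ≤ Q ⊔ P') hw))
        (Subgroup.inv_mem _ hyH)
    have h3 := hT _ h2 (hP'p.map _)
    have h4 : y * x⁻¹ * y⁻¹ ∈ (T : Subgroup G) := h3 ⟨x⁻¹, P'.inv_mem hx, rfl⟩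
    have h5 : x * y * x⁻¹ * y⁻¹ ∈ (T : Subgroup G) := by
      have : x * y * x⁻¹ * y⁻¹ = x * (y * x⁻¹ * y⁻¹) := by group
      rw [this]; exact Subgroup.mul_mem _ hxT h4
    have h6 : x * y * x⁻¹ * y⁻¹ ∈ K :=
      K.mul_mem (hQ (hinv x hx y hy)) (K.inv_mem (hQ hy))
    have h7 := hTK T _ h6 h5
    have h8 := mul_inv_eq_one.mp h7
    exact mul_inv_eq_iff_eq_mul.mp h8
  · -- hnc
    by_contra hcon
    push_neg at hcon
    apply hall P
    apply normal_of_sup_eq_top K (P : Subgroup G) _ (h1 P)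
    · intro k hk z hz
      have h2 := hcon z hz k hk
      have : k * z * k⁻¹ = z := by rw [← h2]; group
      rwa [this]
    · intro g hg z hz
      exact Subgroup.mul_mem _ (Subgroup.mul_mem _ hg hz) (Subgroup.inv_mem _ hg)
  · -- hcore
    intro P₀ hP₀ hP₀n
    by_contra hne
    haveI := hP₀n
    have hn := sup_normal_of_quot_closed P₀ (hquo P₀ hne) P
    rw [sup_eq_left.mpr hP₀] at hn
    exact hall P hn

end Cfsg.Agent.S3868
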