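import Cfsg.Statements.S3869
import Mathlib
import Cfsg.Agent.S0537
import Cfsg.Agent.Lib.Helper2.PGroupFrattini
import Cfsg.Agent.Lib.Helper15.IrredCyclic

set_option autoImplicit false
open Cfsg

namespace Cfsg.Agent.S3869

variable {G : Type*} [Group G]

/-- If `A` is an abelian coatom and `y ∉ A` centralizes `A`, then `G` is abelian. -/
theorem abelian_of_centralizes (A : Subgroup G) (hAc : ∀ a ∈ A, ∀ b ∈ A, a * b = b * a)
    (hco : IsCoatom A) (y : G) (hy : y ∉ A) (hcen : ∀ a ∈ A, y * a = a * y) :
    IsMulCommutative G := by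
  have hMx : A ⊔ Subgroup.zpowers y = ⊤ := by
    apply hco.2
    refine lt_of_le_of_ne le_sup_left ?_
    intro he
    apply hy
    rw [he]
    exact Subgroup.mem_sup_right (Subgroup.mem_zpowers y)
  have hC : Subgroup.centralizer (A : Set G) = ⊤ := by
    rw [eq_top_iff, ← hMx, sup_le_iff, Subgroup.zpowers_le]
    constructor
    · intro m hm
      rw [Subgroup.mem_centralizer_iff]
      intro m' hm'
      exact hAc m' hm' m hm
    · rw [Subgroup.mem_centralizer_iff]
      intro m hm
      exact (hcen m hm).symm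
  have hC' : Subgroup.centralizer ({y} : Set G) = ⊤ := by
    rw [eq_top_iff, ← hMx, sup_le_iff, Subgroup.zpowers_le]
    constructor
    · intro m hm
      rw [Subgroup.mem_centralizer_iff]
      intro z hz
      rw [Set.mem_singleton_iff] at hz
      rw [hz]; exact hcen m hm
    · rw [Subgroup.mem_centralizer_iff]
      intro z hz
      rw [Set.mem_singleton_iff] at hz
      rw [hz]
  have hZ : Subgroup.center G = ⊤ := by
    rw [eq_top_iff, ← hMx, sup_le_iff, Subgroup.zpowers_le]
    constructor
    · intro m hm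
      rw [Subgroup.mem_center_iff]
      intro g
      have : g ∈ Subgroup.centralizer (A : Set G) := by rw [hC]; trivial
      exact ((Subgroup.mem_centralizer_iff.mp this) m hm).symm
    · rw [Subgroup.mem_center_iff]
      intro g
      have : g ∈ Subgroup.centralizer ({y} : Set G) := by rw [hC']; trivial
      exact ((Subgroup.mem_centralizer_iff.mp this) y rfl).symm
  refine ⟨⟨fun a b => ?_⟩⟩
  have : b ∈ Subgroup.center G := by rw [hZ]; trivial
  exact (Subgroup.mem_center_iff.mp this a)

theorem isPClosed_of_isPGroup {p : ℕ} [Fact p.Prime] {H : Type*} [Group H] (h : IsPGroup p H) :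
    Cfsg.IsPClosed p H := by
  intro P
  have : (P : Subgroup H) = ⊤ := (P.3 (h.to_subgroup ⊤) le_top).symm
  rw [this]
  infer_instance

theorem isPClosed_of_not_dvd {p : ℕ} [Fact p.Prime] {H : Type*} [Group H] [Finite H]
    (h : ¬ p ∣ Nat.card H) : Cfsg.IsPClosed p H := by
  intro P
  have h1 : Nat.card (P : Subgroup H) = 1 := by
    rw [Sylow.card_eq_multiplicity, Nat.factorization_eq_zero_of_not_dvd h, pow_zero]
  have : (P : Subgroup H) = ⊥ := Subgroup.card_eq_one.mp h1
  rw [this]
  infer_instance

/-- A subgroup meeting the normal subgroup `A` trivially has order dividing the index of `A`. -/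
theorem card_dvd_index_of_inf_eq_bot [Finite G] (A H : Subgroup G) [A.Normal] (h : H ⊓ A = ⊥) :
    Nat.card H ∣ A.index := by
  have h1 : A.subgroupOf H = ⊥ := by
    rw [Subgroup.subgroupOf_eq_bot, disjoint_iff, inf_comm]; exact h
  have h2 := Subgroup.card_mul_index (A.subgroupOf H)
  have h3 : Nat.card (A.subgroupOf H) = 1 := by rw [h1, Subgroup.card_bot]
  rw [h3, one_mul] at h2
  rw [← h2]
  exact Subgroup.relIndex_dvd_index_of_normal A H

/-- Let p and q be distinct primes and G a finite non-abelian group with a normal elementary abelian q-subgroup A that is a minimal normal subgroup of G and has index p. Then A has order q^e with e the multiplicative order of q modulo p, and G is minimal non-p-closed: its Sylow p-subgroups are not normal, while in every proper subgroup and in every proper quotient of G the Sylow p-subgroups are normal. -/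
theorem result {G : Type*} [Group G] [Finite G] {p q : ℕ} [Fact p.Prime] (hq : q.Prime) (hpq : q ≠ p)
    (hna : ¬ IsMulCommutative G) (A : Subgroup G) [A.Normal] (hA : Cfsg.IsElementaryAbelian q A) (hidx : A.index = p)
    (hmin : ∀ B : Subgroup G, B.Normal → B ≤ A → B = ⊥ ∨ B = A) :
    Nat.card ↥A = q ^ orderOf (q : ZMod p) ∧ ¬ Cfsg.IsPClosed p G ∧ (∀ H : Subgroup G, H ≠ ⊤ → Cfsg.IsPClosed p ↥H) ∧
      ∀ (N : Subgroup G) [N.Normal], N ≠ ⊥ → Cfsg.IsPClosed p (G ⧸ N) := by
  haveI : Fact q.Prime := ⟨hq⟩
  have hAnorm : A.Normal := inferInstance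
  have hp : p.Prime := Fact.out
  have hAc : ∀ a ∈ A, ∀ b ∈ A, a * b = b * a := fun a ha b hb => by
    haveI := hA.1; exact setLike_mul_comm ha hb
  have hAq : ∀ a ∈ A, a ^ q = 1 := hA.2
  have hco : IsCoatom A := Cfsg.Agent.Lib.Helper2.isCoatom_of_index_eq_prime hp hidx
  have hAqg : IsPGroup q A := fun a => ⟨1, Subtype.ext (by simpa using hAq a a.2)⟩
  have hnc : ∀ y : G, y ∉ A → ∃ a ∈ A, y * a ≠ a * y := by
    intro y hy
    by_contra hall
    push Not at hall
    exact hna (abelian_of_centralizes A hAc hco y hy hall)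
  have hpG : p ∣ Nat.card G := by rw [← hidx]; exact Subgroup.index_dvd_card A
  obtain ⟨x, hx⟩ := exists_prime_orderOf_dvd_card' p hpG
  have hxp : x ^ p = 1 := by rw [← hx]; exact pow_orderOf_eq_one x
  have hx1 : x ≠ 1 := by
    intro h; rw [h, orderOf_one] at hx; exact hp.one_lt.ne hx
  have hpA : ∀ y : G, y ^ p = 1 → y ∈ A → y = 1 := by
    intro y hyp hyA
    have hyq := hAq y hyA
    have hcop : Nat.Coprime p q := (Nat.coprime_primes hp hq).mpr hpq.symm
    have := pow_gcd_eq_one.mpr ⟨hyp, hyq⟩
    rw [hcop.gcd_eq_one, pow_one] at this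
    exact this
  have hxA : x ∉ A := fun h => hx1 (hpA x hxp h)
  have htop : Subgroup.zpowers x ⊔ A = ⊤ := by
    rw [sup_comm]
    apply hco.2
    refine lt_of_le_of_ne le_sup_left ?_
    intro he
    apply hxA
    rw [he]
    exact Subgroup.mem_sup_right (Subgroup.mem_zpowers x)
  have h1 : Nat.card A = q ^ orderOf (q : ZMod p) := by
    apply Cfsg.Agent.Lib.Helper15.card_eq_pow_orderOf_of_conj hpq A hAc hAq x hxp (hnc x hxA)
    intro B hBA hBx
    have hBn : B.Normal := Cfsg.Agent.S0537.normal_of_stable x A B hAc hBA hBx htop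
    exact hmin B hBn hBA
  have h2 : ¬ Cfsg.IsPClosed p G := by
    intro hcl
    have hXp : IsPGroup p (Subgroup.zpowers x) := by
      apply IsPGroup.of_card (n := 1)
      rw [Nat.card_zpowers, hx, pow_one]
    obtain ⟨P, hP⟩ := hXp.exists_le_sylow
    have hPn := hcl P
    have hdis : Disjoint (P : Subgroup G) A :=
      IsPGroup.disjoint_of_ne p q hpq.symm _ _ P.2 hAqg
    obtain ⟨a, ha, hxa⟩ := hnc x hxA
    exact hxa (Subgroup.commute_of_normal_of_disjoint _ _ hPn hAnorm hdis x a
      (hP (Subgroup.mem_zpowers x)) ha).eq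
  have hpgrp : ∀ H : Subgroup G, H ⊓ A = ⊥ → IsPGroup p H := by
    intro H hH
    have hd := card_dvd_index_of_inf_eq_bot A H hH
    rw [hidx] at hd
    rcases (Nat.dvd_prime hp).mp hd with h | h
    · exact IsPGroup.of_card (n := 0) (by rw [h, pow_zero])
    · exact IsPGroup.of_card (n := 1) (by rw [h, pow_one])
  refine ⟨h1, h2, ?_, ?_⟩
  · intro H hH
    by_cases hHA : H ≤ A
    · apply isPClosed_of_not_dvd
      intro hd
      have hHq : IsPGroup q H := hAqg.to_le hHA
      obtain ⟨n, hn⟩ := hHq.exists_card_eq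
      rw [hn] at hd
      exact hpq ((Nat.prime_dvd_prime_iff_eq hp hq).mp (hp.dvd_of_dvd_pow hd)).symm
    · have hHAtop : A ⊔ H = ⊤ := by
        apply hco.2
        refine lt_of_le_of_ne le_sup_left ?_
        intro he
        apply hHA
        rw [he]
        exact le_sup_right
      have hBn : (H ⊓ A).Normal := by
        rw [← Subgroup.normalizer_eq_top_iff, eq_top_iff, ← hHAtop, sup_le_iff]
        constructor
        · intro a ha
          apply Cfsg.Agent.S0650.mem_normalizer_of_conj_mem
          intro y hy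
          have hyA := (Subgroup.mem_inf.mp hy).2
          rw [hAc a ha y hyA, mul_inv_cancel_right]
          exact hy
        · intro h hh
          apply Cfsg.Agent.S0650.mem_normalizer_of_conj_mem
          intro y hy
          obtain ⟨hyH, hyA⟩ := Subgroup.mem_inf.mp hy
          exact Subgroup.mem_inf.mpr ⟨H.mul_mem (H.mul_mem hh hyH) (H.inv_mem hh),
            hAnorm.conj_mem y hyA h⟩
      rcases hmin (H ⊓ A) hBn inf_le_right with h | h
      · exact isPClosed_of_isPGroup (hpgrp H h)
      · exfalso
        have hAH : A ≤ H := by rw [← h]; exact inf_le_left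
        rcases eq_or_lt_of_le hAH with he | hlt
        · exact hHA (he ▸ le_refl _)
        · exact hH (hco.2 H hlt)
  · intro N hNn hN
    have hNAn : (N ⊓ A).Normal := inferInstance
    rcases hmin (N ⊓ A) hNAn inf_le_right with h | h
    · exfalso
      obtain ⟨y, hy1⟩ := (Subgroup.ne_bot_iff_exists_ne_one.mp hN)
      have hyA : (y : G) ∉ A := fun hyA => hy1 (by
        have : (y : G) ∈ N ⊓ A := Subgroup.mem_inf.mpr ⟨y.2, hyA⟩
        rw [h, Subgroup.mem_bot] at this
        exact Subtype.ext this)
      obtain ⟨a, ha, hya⟩ := hnc y hyA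
      have hdis : Disjoint N A := disjoint_iff.mpr h
      exact hya (Subgroup.commute_of_normal_of_disjoint _ _ hNn hAnorm hdis y a y.2 ha).eq
    · have hAN : A ≤ N := by rw [← h]; exact inf_le_left
      apply isPClosed_of_isPGroup
      have hd : N.index ∣ p := by rw [← hidx]; exact Subgroup.index_dvd_of_le hAN
      have hc : Nat.card (G ⧸ N) = N.index := (Subgroup.index_eq_card N).symm
      rcases (Nat.dvd_prime hp).mp hd with h' | h'
      · exact IsPGroup.of_card (n := 0) (by rw [hc, h', pow_zero])
      · exact IsPGroup.of_card (n := 1) (by rw [hc, h', pow_one])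

end Cfsg.Agent.S3869
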