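import Cfsg.Statements.S3873
import Mathlib
import Cfsg.Agent.Lib.Helper3.MinNonClosed
import Cfsg.Agent.S0586
-- import your own Cfsg.Agent.* helpers here

set_option autoImplicit false
open Cfsg

namespace Cfsg.Agent.S3873

open Cfsg.Agent.Lib.Helper3

/-- Say that a finite group is p-exponent closed when its elements of order dividing p form a subgroup. Let G be a finite group that is not p-exponent closed, but all of whose proper subgroups and proper quotients are, and suppose G is neither simple nor a p-group. Then there is a prime q ≠ p such that G has order p · q^e, where e is the multiplicative order of q modulo p, and G has a normal elementary abelian subgroup of order q^e that is a minimal normal subgroup of G. -/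
theorem result {G : Type*} [Group G] [Finite G] {p : ℕ} [Fact p.Prime]
    (hnc : ¬ (∃ H : Subgroup G, (H : Set G) = {g : G | g ^ p = 1})) (hsub : ∀ K : Subgroup G, K ≠ ⊤ → (∃ H : Subgroup ↥K, (H : Set ↥K) = {g : ↥K | g ^ p = 1}))
    (hquo : ∀ (N : Subgroup G) [N.Normal], N ≠ ⊥ → (∃ H : Subgroup (G ⧸ N), (H : Set (G ⧸ N)) = {g : (G ⧸ N) | g ^ p = 1}))
    (hns : ¬ IsSimpleGroup G) (hnp : ¬ IsPGroup p G) :
    ∃ q : ℕ, q.Prime ∧ q ≠ p ∧ Nat.card G = p * q ^ orderOf (q : ZMod p) ∧
      ∃ A : Subgroup G, A.Normal ∧ Nat.card ↥A = q ^ orderOf (q : ZMod p) ∧ Cfsg.IsElementaryAbelian q A ∧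
        ∀ B : Subgroup G, B.Normal → B ≤ A → B = ⊥ ∨ B = A := by
  classical
  have hp : p.Prime := Fact.out
  -- (a)
  obtain ⟨x, y, hx, hy, hxy⟩ : ∃ x y : G, x ^ p = 1 ∧ y ^ p = 1 ∧ (x * y) ^ p ≠ 1 := by
    by_contra hcon
    push_neg at hcon
    apply hnc
    exact ⟨{ carrier := {g | g ^ p = 1}
             one_mem' := one_pow p
             mul_mem' := fun {a b} ha hb => hcon a b ha hb
             inv_mem' := fun {a} ha => by
               simp only [Set.mem_setOf_eq] at ha ⊢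
               rw [inv_pow, ha, inv_one] }, rfl⟩
  -- (b)
  have hgen : Subgroup.closure {x, y} = ⊤ := by
    by_contra hne
    obtain ⟨H, hH⟩ := hsub _ hne
    have hxL : x ∈ Subgroup.closure {x, y} := Subgroup.subset_closure (by simp)
    have hyL : y ∈ Subgroup.closure {x, y} := Subgroup.subset_closure (by simp)
    have hxH : (⟨x, hxL⟩ : Subgroup.closure {x, y}) ∈ H := by
      rw [← SetLike.mem_coe, hH]; exact Subtype.ext (by simpa using hx)
    have hyH : (⟨y, hyL⟩ : Subgroup.closure {x, y}) ∈ H := by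
      rw [← SetLike.mem_coe, hH]; exact Subtype.ext (by simpa using hy)
    have h3 := H.mul_mem hxH hyH
    rw [← SetLike.mem_coe, hH] at h3
    apply hxy
    have h4 := congrArg Subtype.val h3
    simpa using h4
  -- (c)
  have hpow : ∀ N : Subgroup G, N.Normal → N ≠ ⊥ → ∀ g : G, g ^ p ∈ N := by
    intro N hNn hNb g
    haveI := hNn
    obtain ⟨H, hH⟩ := hquo N hNb
    have hxH : (QuotientGroup.mk' N x) ∈ H := by
      rw [← SetLike.mem_coe, hH]
      show _ ^ p = 1
      rw [← map_pow, hx, map_one]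
    have hyH : (QuotientGroup.mk' N y) ∈ H := by
      rw [← SetLike.mem_coe, hH]
      show _ ^ p = 1
      rw [← map_pow, hy, map_one]
    have htop : H = ⊤ := by
      rw [eq_top_iff]
      have h1 : (Subgroup.closure {x, y}).map (QuotientGroup.mk' N) ≤ H := by
        rw [Subgroup.map_le_iff_le_comap, Subgroup.closure_le]
        intro z hz
        rcases hz with rfl | hz
        · exact hxH
        · rw [Set.mem_singleton_iff] at hz
          subst hz
          exact hyH
      rw [hgen, ← MonoidHom.range_eq_map,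
        MonoidHom.range_eq_top.mpr (QuotientGroup.mk'_surjective N)] at h1
      exact h1
    have h2 : (QuotientGroup.mk' N g) ∈ H := by rw [htop]; trivial
    rw [← SetLike.mem_coe, hH] at h2
    have h3 : (QuotientGroup.mk' N g) ^ p = 1 := h2
    rw [← map_pow, QuotientGroup.mk'_apply, QuotientGroup.eq_one_iff] at h3
    exact h3
  -- (d)
  have hnt : Nontrivial G := by
    by_contra hnt
    rw [not_nontrivial_iff_subsingleton] at hnt
    apply hnp
    intro g
    exact ⟨0, Subsingleton.elim _ _⟩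
  obtain ⟨N, hNn, hNb, hNt⟩ : ∃ N : Subgroup G, N.Normal ∧ N ≠ ⊥ ∧ N ≠ ⊤ := by
    by_contra hcon
    push_neg at hcon
    apply hns
    exact ⟨fun H hH => by
      by_cases h : H = ⊥
      · exact Or.inl h
      · exact Or.inr (hcon H hH h)⟩
  obtain ⟨K, hKn, hKne, hKN, hmin⟩ := Cfsg.Agent.S0586.exists_minimal_normal_le N hNn hNb
  haveI := hKn
  have hKt : K ≠ ⊤ := by
    rintro rfl
    exact hNt (top_le_iff.mp hKN)
  -- (e)
  have hKnoP : ∀ a ∈ K, a ^ p = 1 → a = 1 := by
    obtain ⟨ΩK, hΩK⟩ := hsub K hKt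
    have hmemΩ : ∀ w : K, w ∈ ΩK ↔ w ^ p = 1 := fun w => by
      rw [← SetLike.mem_coe, hΩK]; rfl
    have hRn : (ΩK.map K.subtype).Normal := by
      constructor
      rintro _ ⟨w, hw, rfl⟩ g
      have hw' : w ^ p = 1 := (hmemΩ w).mp hw
      have hw'' : (w : G) ^ p = 1 := by
        have := congrArg Subtype.val hw'
        simpa using this
      refine ⟨⟨g * w * g⁻¹, hKn.conj_mem w w.2 g⟩, ?_, rfl⟩
      apply (hmemΩ _).mpr
      apply Subtype.ext
      simp only [Subgroup.coe_pow, Subgroup.coe_one]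
      rw [conj_pow, hw'']; simp
    rcases hmin _ hRn (Subgroup.map_subtype_le _) with h | h
    · intro a ha hap
      have h1 : a ∈ ΩK.map K.subtype :=
        ⟨⟨a, ha⟩, (hmemΩ _).mpr (Subtype.ext (by simpa using hap)), rfl⟩
      rwa [h, Subgroup.mem_bot] at h1
    · exfalso
      apply hnp
      intro g
      refine ⟨2, ?_⟩
      have h1 := hpow K hKn hKne g
      rw [← h] at h1
      obtain ⟨w, hw, hwg⟩ := h1
      have hw' : w ^ p = 1 := (hmemΩ w).mp hw
      have hw'' : (w : G) ^ p = 1 := by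
        have := congrArg Subtype.val hw'
        simpa using this
      have hwg' : (w : G) = g ^ p := hwg
      rw [pow_two, pow_mul, ← hwg']
      exact hw''
  have hKcop : (Nat.card K).Coprime p := by
    apply Nat.Coprime.symm
    rw [Nat.Prime.coprime_iff_not_dvd hp]
    intro hdvd
    obtain ⟨z, hz⟩ := exists_prime_orderOf_dvd_card' p hdvd
    have h1 : (z : G) ^ p = 1 := by
      have h0 : z ^ p = 1 := by rw [← hz]; exact pow_orderOf_eq_one z
      have := congrArg Subtype.val h0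
      simpa using this
    have h2 := hKnoP z z.2 h1
    have h3 : z = 1 := Subtype.ext h2
    rw [h3, orderOf_one] at hz
    exact hp.one_lt.ne hz
  -- (f)
  obtain ⟨P⟩ : Nonempty (Sylow p G) := inferInstance
  have hKP : K ⊔ (P : Subgroup G) = ⊤ := by
    have hQp : IsPGroup p (G ⧸ K) := by
      intro g
      refine ⟨1, ?_⟩
      induction g using QuotientGroup.induction_on with
      | H g =>
        rw [pow_one, ← QuotientGroup.mk_pow, QuotientGroup.eq_one_iff]
        exact hpow K hKn hKne g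
    have h1 : (⊤ : Subgroup (G ⧸ K)) = (P : Subgroup G).map (QuotientGroup.mk' K) :=
      (P.mapSurjective (QuotientGroup.mk'_surjective K)).is_maximal' (hQp.to_subgroup ⊤) le_top
    have h2 := congrArg (Subgroup.comap (QuotientGroup.mk' K)) h1
    rw [Subgroup.comap_top, Subgroup.comap_map_eq, QuotientGroup.ker_mk'] at h2
    rw [sup_comm]; exact h2.symm
  have hKPdisj : ∀ a ∈ K, a ∈ (P : Subgroup G) → a = 1 := by
    intro a ha haP
    have hcop : (Nat.card K).Coprime (Nat.card (P : Subgroup G)) := by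
      obtain ⟨n, hn⟩ := IsPGroup.iff_card.mp P.isPGroup'
      rw [hn]; exact Nat.Coprime.pow_right n hKcop
    have h1 := Subgroup.inf_eq_bot_of_coprime hcop
    have h2 : a ∈ K ⊓ (P : Subgroup G) := Subgroup.mem_inf.mpr ⟨ha, haP⟩
    rwa [h1, Subgroup.mem_bot] at h2
  have hPexp : ∀ z ∈ (P : Subgroup G), z ^ p = 1 := fun z hz =>
    hKPdisj _ (hpow K hKn hKne z) (Subgroup.pow_mem _ hz p)
  have hres := minNonClosed_core (p := p) K (P : Subgroup G) P.isPGroup' hKcop hKP hmin hKne
    ?_ ?_ ?_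
  · obtain ⟨q, hq, hqp, hcG, hcK, hEA⟩ := hres
    exact ⟨q, hq, hqp, hcG, K, hKn, hcK, hEA, hmin⟩
  · -- hcent
    intro P' Q hP' hQ hinv hne x hx y hy
    obtain ⟨Ω, hΩ⟩ := hsub _ hne
    have hxH : x ∈ Q ⊔ P' := (le_sup_right : P' ≤ Q ⊔ P') hx
    have hyH : y ∈ Q ⊔ P' := (le_sup_left : Q ≤ Q ⊔ P') hy
    have hxp : x ^ p = 1 := hPexp x (hP' hx)
    have hxp' : (⟨x, hxH⟩ : ↥(Q ⊔ P')) ^ p = 1 := Subtype.ext (by simpa using hxp)
    have h1 : (⟨x, hxH⟩ : ↥(Q ⊔ P')) ∈ Ω := by
      rw [← SetLike.mem_coe, hΩ]; exact hxp'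
    have h2 : ((⟨y, hyH⟩ : ↥(Q ⊔ P')) * (⟨x, hxH⟩ : ↥(Q ⊔ P'))⁻¹ * (⟨y, hyH⟩ : ↥(Q ⊔ P'))⁻¹) ∈ Ω := by
      rw [← SetLike.mem_coe, hΩ]
      show _ ^ p = 1
      rw [conj_pow, inv_pow, hxp']; simp
    have h3 := Ω.mul_mem h1 h2
    rw [← SetLike.mem_coe, hΩ] at h3
    have h4 : (x * (y * x⁻¹ * y⁻¹)) ^ p = 1 := by
      have h3' : ((⟨x, hxH⟩ : ↥(Q ⊔ P')) * ((⟨y, hyH⟩ : ↥(Q ⊔ P')) * (⟨x, hxH⟩ : ↥(Q ⊔ P'))⁻¹ * (⟨y, hyH⟩ : ↥(Q ⊔ P'))⁻¹)) ^ p = 1 := h3
      have := congrArg Subtype.val h3'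
      simpa using this
    have h5 : x * (y * x⁻¹ * y⁻¹) ∈ K := by
      have : x * (y * x⁻¹ * y⁻¹) = (x * y * x⁻¹) * y⁻¹ := by group
      rw [this]; exact K.mul_mem (hQ (hinv x hx y hy)) (K.inv_mem (hQ hy))
    have h6 := hKnoP _ h5 h4
    have h7 : x * (y * x⁻¹ * y⁻¹) * (y * x) = y * x := by rw [h6, one_mul]
    rw [← h7]; group
  · -- hnc
    by_contra hcon
    push_neg at hcon
    apply hnc
    refine ⟨(P : Subgroup G), ?_⟩
    ext g
    simp only [SetLike.mem_coe, Set.mem_setOf_eq]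
    constructor
    · exact hPexp g
    · intro hg
      have hgtop : g ∈ K ⊔ (P : Subgroup G) := by rw [hKP]; trivial
      obtain ⟨k, hk, z, hz, hkz⟩ := mem_sup_of_normalizes K (P : Subgroup G)
        (fun c _ b hb => hKn.conj_mem b hb c) hgtop
      have hcomm : Commute k z := (hcon z hz k hk).symm
      rw [← hkz, hcomm.mul_pow, hPexp z hz, mul_one] at hg
      have hk1 := hKnoP k hk hg
      rw [← hkz, hk1, one_mul]; exact hz
  · -- hcore
    intro P₀ hP₀ hP₀n
    by_contra hne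
    apply hKne
    rw [eq_bot_iff]
    intro k hk
    have h1 := hpow P₀ hP₀n hne k
    have h2 := hKPdisj (k ^ p) (K.pow_mem hk p) (hP₀ h1)
    rw [Subgroup.mem_bot]; exact hKnoP k hk h2

end Cfsg.Agent.S3873
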