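import Mathlib
import Cfsg.Statements.S3878

set_option autoImplicit false
open Cfsg

namespace Cfsg.Agent.S3878




/-- conjugating a `p`-element into a subgroup of index prime to `p` -/
theorem exists_conj_mem {G : Type*} [Group G] [Finite G] (H : Subgroup G) (p : ℕ) [Fact p.Prime]
    (hp : ¬ p ∣ H.index) (x : G) (hx : IsPGroup p (Subgroup.zpowers x)) :
    ∃ g : G, g * x * g⁻¹ ∈ H := by
  obtain ⟨P⟩ : Nonempty (Sylow p H) := inferInstance
  have hcardP : Nat.card P = p ^ (Nat.card H).factorization p := P.card_eq_multiplicity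
  have hfac : (Nat.card H).factorization p = (Nat.card G).factorization p := by
    have h1 : Nat.card H * H.index = Nat.card G := H.card_mul_index
    rw [← h1, Nat.factorization_mul (Nat.card_pos.ne') (Subgroup.index_ne_zero_of_finite)]
    simp [Nat.factorization_eq_zero_of_not_dvd hp]
  have hc : Nat.card ((P : Subgroup H).map H.subtype) = p ^ (Nat.card G).factorization p := by
    rw [Subgroup.card_map_of_injective H.subtype_injective, hcardP, hfac]
  let S : Sylow p G := Sylow.ofCard ((P : Subgroup H).map H.subtype) hc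
  have hS : (S : Subgroup G) = (P : Subgroup H).map H.subtype := rfl
  obtain ⟨Q, hQ⟩ := hx.exists_le_sylow
  obtain ⟨g, hg⟩ := MulAction.exists_smul_eq G Q S
  refine ⟨g, ?_⟩
  have hxQ : x ∈ (Q : Subgroup G) := hQ (Subgroup.mem_zpowers x)
  have h2 : g * x * g⁻¹ ∈ (S : Subgroup G) := by
    rw [← hg, Sylow.coe_subgroup_smul]
    have := Subgroup.smul_mem_pointwise_smul x (MulAut.conj g) (Q : Subgroup G) hxQ
    simpa using this
  rw [hS] at h2
  obtain ⟨y, -, hy⟩ := h2
  rw [← hy]
  exact y.2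



theorem no_small_index {α : Type*} [Fintype α] [DecidableEq α] (h5 : 5 ≤ Fintype.card α)
    (H : Subgroup (Equiv.Perm α)) (h2 : 2 < H.index) (hn : H.index < Fintype.card α) : False := by
  classical
  have hnt : Nontrivial α := by
    rw [← Fintype.one_lt_card_iff_nontrivial]; omega
  have hsimple : IsSimpleGroup (alternatingGroup α) :=
    alternatingGroup.isSimpleGroup (by rw [Nat.card_eq_fintype_card]; exact h5)
  let φ : alternatingGroup α →* Equiv.Perm (Equiv.Perm α ⧸ H) :=
    (MulAction.toPermHom (Equiv.Perm α) (Equiv.Perm α ⧸ H)).comp (alternatingGroup α).subtype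
  have hfin : Finite (Equiv.Perm α ⧸ H) := inferInstance
  rcases φ.normal_ker.eq_bot_or_eq_top with hk | hk
  · -- injective
    have hinj : Function.Injective φ := (MonoidHom.ker_eq_bot_iff φ).1 hk
    have hdvd : Nat.card (alternatingGroup α) ∣ Nat.card (Equiv.Perm (Equiv.Perm α ⧸ H)) :=
      Subgroup.card_dvd_of_injective φ hinj
    rw [Nat.card_perm] at hdvd
    have hidx : Nat.card (Equiv.Perm α ⧸ H) = H.index := (Subgroup.index_eq_card H).symm
    rw [hidx] at hdvd
    have h2c : 2 * Nat.card (alternatingGroup α) = (Fintype.card α).factorial := by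
      rw [two_mul_nat_card_alternatingGroup, Nat.card_perm, Nat.card_eq_fintype_card]
    have h3 : (Fintype.card α).factorial ∣ 2 * (H.index).factorial := by
      rw [← h2c]; exact Nat.mul_dvd_mul_left 2 hdvd
    have h4 : (H.index).factorial ∣ (Fintype.card α - 1).factorial :=
      Nat.factorial_dvd_factorial (by omega)
    have h5' : (Fintype.card α).factorial = Fintype.card α * (Fintype.card α - 1).factorial := by
      rw [Nat.mul_factorial_pred (by omega)]
    have h6 : Fintype.card α * (Fintype.card α - 1).factorial ∣ 2 * (Fintype.card α - 1).factorial := by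
      rw [← h5']; exact h3.trans (Nat.mul_dvd_mul_left 2 h4)
    have h7 : Fintype.card α ∣ 2 := by
      exact Nat.dvd_of_mul_dvd_mul_right (Nat.factorial_pos _) h6
    have := Nat.le_of_dvd (by norm_num) h7
    omega
  · -- trivial action
    have hle : alternatingGroup α ≤ H := by
      intro a ha
      have h1 : (⟨a, ha⟩ : alternatingGroup α) ∈ φ.ker := by rw [hk]; trivial
      rw [MonoidHom.mem_ker] at h1
      have h2' : φ ⟨a, ha⟩ ((1 : Equiv.Perm α) : Equiv.Perm α ⧸ H) = ((1 : Equiv.Perm α) : Equiv.Perm α ⧸ H) := by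
        rw [h1]; rfl
      have h3 : φ ⟨a, ha⟩ ((1 : Equiv.Perm α) : Equiv.Perm α ⧸ H) = ((a * 1 : Equiv.Perm α) : Equiv.Perm α ⧸ H) := rfl
      rw [h3, mul_one] at h2'
      have := QuotientGroup.eq.1 h2'
      simpa using this
    have hd : H.index ∣ (alternatingGroup α).index := Subgroup.index_dvd_of_le hle
    rw [alternatingGroup.index_eq_two] at hd
    have := Nat.le_of_dvd (by norm_num) hd
    omega



theorem sylow_isPiSubgroup {G : Type*} [Group G] [Finite G] (π : Set ℕ) (p : ℕ) [Fact p.Prime]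
    (hp : p ∈ π) (P : Sylow p G) : IsPiSubgroup π (P : Subgroup G) := by
  intro q hq hqd
  obtain ⟨n, hn⟩ := IsPGroup.iff_card.1 P.isPGroup'
  rw [hn] at hqd
  have := (Nat.prime_dvd_prime_iff_eq hq (Fact.out : p.Prime)).1 (hq.dvd_of_dvd_pow hqd)
  rw [this]; exact hp

theorem isEPi_of_isDPi {G : Type*} [Group G] [Finite G] (π : Set ℕ) (hD : IsDPiGroup π G) :
    IsEPiGroup π G := by
  have hbot : IsPiSubgroup π (⊥ : Subgroup G) := by
    intro p hp hd
    rw [Subgroup.card_bot] at hd
    exact absurd (Nat.le_of_dvd one_pos hd) (by have := hp.two_le; omega)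
  obtain ⟨H, -, hH⟩ := Finite.exists_le_maximal hbot
  refine ⟨H, hH.prop, ?_⟩
  intro p hp hpπ hdvd
  haveI : Fact p.Prime := ⟨hp⟩
  obtain ⟨P⟩ : Nonempty (Sylow p G) := inferInstance
  obtain ⟨K, hPK, hK⟩ := Finite.exists_le_maximal (sylow_isPiSubgroup π p hpπ P)
  obtain ⟨g, hg⟩ := hD H K hH hK
  have hcard : Nat.card K = Nat.card H := by
    rw [hg]
    exact Subgroup.card_map_of_injective (MulAut.conj g).injective
  have h1 : Nat.card (P : Subgroup G) ∣ Nat.card H := by
    rw [← hcard]; exact Subgroup.card_dvd_of_le hPK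
  rw [P.card_eq_multiplicity] at h1
  have h2 : Nat.card H * H.index = Nat.card G := H.card_mul_index
  have h3 : (Nat.card G).factorization p = (Nat.card H).factorization p + (H.index).factorization p := by
    rw [← h2, Nat.factorization_mul (Nat.card_pos.ne') (Subgroup.index_ne_zero_of_finite)]
    rfl
  have h4 : (Nat.card G).factorization p ≤ (Nat.card H).factorization p :=
    (hp.pow_dvd_iff_le_factorization (Nat.card_pos.ne')).1 h1
  have h5 : 1 ≤ (H.index).factorization p :=
    (hp.pow_dvd_iff_le_factorization (Subgroup.index_ne_zero_of_finite)).1 (by simpa using hdvd)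
  omega



theorem card_eq_one_of_no_prime {n : ℕ} (hn : n ≠ 0) (h : ∀ p : ℕ, p.Prime → ¬ p ∣ n) : n = 1 := by
  by_contra h1
  exact h _ (Nat.minFac_prime h1) (Nat.minFac_dvd n)

theorem isEPi_of_cond {G : Type*} [Group G] [Finite G] (π : Set ℕ)
    (hc : (∀ p q : ℕ, p.Prime → q.Prime → p ∈ π → q ∈ π → p = q) ∨ ∀ p : ℕ, p.Prime → p ∈ π) :
    IsEPiGroup π G := by
  rcases hc with hc | hc
  · by_cases hex : ∃ p : ℕ, p.Prime ∧ p ∈ π
    · obtain ⟨p, hp, hpπ⟩ := hex
      have : Fact p.Prime := ⟨hp⟩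
      obtain ⟨P⟩ : Nonempty (Sylow p G) := inferInstance
      refine ⟨(P : Subgroup G), ?_, ?_⟩
      · intro q hq hqd
        obtain ⟨n, hn⟩ := IsPGroup.iff_card.1 P.isPGroup'
        rw [hn] at hqd
        have := (Nat.prime_dvd_prime_iff_eq hq hp).1 (hq.dvd_of_dvd_pow hqd)
        rw [this]; exact hpπ
      · intro q hq hqπ
        rw [hc q p hq hp hqπ hpπ]
        exact P.not_dvd_index
    · refine ⟨⊥, ?_, ?_⟩
      · intro p hp hd
        rw [Subgroup.card_bot] at hd
        exact absurd (Nat.le_of_dvd one_pos hd) (by have := hp.two_le; omega)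
      · intro p hp hpπ
        exact absurd ⟨p, hp, hpπ⟩ hex
  · refine ⟨⊤, fun p hp _ => hc p hp, ?_⟩
    intro p hp _
    rw [Subgroup.index_top]
    intro hd
    exact absurd (Nat.le_of_dvd one_pos hd) (by have := hp.two_le; omega)

theorem isDPi_of_cond {G : Type*} [Group G] [Finite G] (π : Set ℕ)
    (hc : (∀ p q : ℕ, p.Prime → q.Prime → p ∈ π → q ∈ π → p = q) ∨ ∀ p : ℕ, p.Prime → p ∈ π) :
    IsDPiGroup π G := by
  rcases hc with hc | hc
  · by_cases hex : ∃ p : ℕ, p.Prime ∧ p ∈ π
    · obtain ⟨p, hp, hpπ⟩ := hex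
      have : Fact p.Prime := ⟨hp⟩
      -- π-subgroups are p-subgroups
      have key : ∀ K : Subgroup G, IsPiSubgroup π K ↔ IsPGroup p K := by
        intro K
        constructor
        · intro hK
          rw [IsPGroup.iff_card]
          refine ⟨_, Nat.eq_prime_pow_of_unique_prime_dvd (Nat.card_pos.ne') ?_⟩
          intro d hd hdd
          exact hc d p hd hp (hK d hd hdd) hpπ
        · intro hK q hq hqd
          obtain ⟨n, hn⟩ := IsPGroup.iff_card.1 hK
          rw [hn] at hqd
          have := (Nat.prime_dvd_prime_iff_eq hq hp).1 (hq.dvd_of_dvd_pow hqd)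
          rw [this]; exact hpπ
      have syl : ∀ H : Subgroup G, Maximal (IsPiSubgroup π) H → ∃ P : Sylow p G, (P : Subgroup G) = H := by
        intro H hH
        obtain ⟨Q, hQ⟩ := ((key H).1 hH.prop).exists_le_sylow
        exact ⟨Q, le_antisymm (hH.le_of_ge ((key _).2 Q.isPGroup') hQ) hQ⟩
      intro H K hH hK
      obtain ⟨P, rfl⟩ := syl H hH
      obtain ⟨Q, rfl⟩ := syl K hK
      obtain ⟨g, hg⟩ := MulAction.exists_smul_eq G P Q
      refine ⟨g, ?_⟩
      rw [← hg, Sylow.coe_subgroup_smul]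
      rfl
    · have key : ∀ K : Subgroup G, IsPiSubgroup π K → K = ⊥ := by
        intro K hK
        rw [← Subgroup.card_eq_one]
        apply card_eq_one_of_no_prime (Nat.card_pos.ne')
        intro p hp hd
        exact hex ⟨p, hp, hK p hp hd⟩
      intro H K hH hK
      refine ⟨1, ?_⟩
      rw [key H hH.prop, key K hK.prop]
      simp
  · have key : ∀ K : Subgroup G, Maximal (IsPiSubgroup π) K → K = ⊤ := by
      intro K hK
      have htop : IsPiSubgroup π (⊤ : Subgroup G) := fun p hp _ => hc p hp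
      exact top_le_iff.1 (hK.le_of_ge htop le_top)
    intro H K hH hK
    refine ⟨1, ?_⟩
    rw [key H hH, key K hK]
    simp


/-- a subgroup of `Perm (Fin q)` of order divisible by the prime `q` is primitive -/
theorem primitive_of_dvd {q : ℕ} (hq : q.Prime) (H : Subgroup (Equiv.Perm (Fin q)))
    (hd : q ∣ Nat.card H) : MulAction.IsPreprimitive H (Fin q) := by
  have : Fact q.Prime := ⟨hq⟩
  obtain ⟨σ, hσ⟩ := exists_prime_orderOf_dvd_card' q hd
  have hσ' : orderOf (σ : Equiv.Perm (Fin q)) = q := by rw [Subgroup.orderOf_coe, hσ]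
  have hcyc : (σ : Equiv.Perm (Fin q)).IsCycle := by
    apply Equiv.Perm.isCycle_of_prime_order' (by rw [hσ']; exact hq)
    rw [hσ', Fintype.card_fin]
    have := hq.pos
    omega
  have hsupp : (σ : Equiv.Perm (Fin q)).support = Finset.univ := by
    apply Finset.eq_univ_of_card
    rw [← hcyc.orderOf, hσ', Fintype.card_fin]
  have htrans : MulAction.IsPretransitive H (Fin q) := by
    constructor
    intro x y
    have hx : x ∈ (σ : Equiv.Perm (Fin q)).support := by rw [hsupp]; exact Finset.mem_univ _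
    have hy : y ∈ (σ : Equiv.Perm (Fin q)).support := by rw [hsupp]; exact Finset.mem_univ _
    obtain ⟨i, hi⟩ := hcyc.sameCycle (Equiv.Perm.mem_support.1 hx) (Equiv.Perm.mem_support.1 hy)
    refine ⟨σ ^ i, ?_⟩
    rw [← hi]
    rfl
  apply MulAction.IsPreprimitive.of_prime_card
  rw [Nat.card_eq_fintype_card, Fintype.card_fin]
  exact hq

/-- a subgroup of `Perm (Fin q)` of index prime to `p ≤ q` contains a `p`-cycle -/
theorem exists_cycle_mem {q p : ℕ} (hp : p.Prime) (hpq : p ≤ q)
    (H : Subgroup (Equiv.Perm (Fin q))) (hd : ¬ p ∣ H.index) :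
    ∃ c : Equiv.Perm (Fin q), c ∈ H ∧ c.IsCycle ∧ c.support.card = p := by
  have : Fact p.Prime := ⟨hp⟩
  obtain ⟨g, hg⟩ : ∃ g : Equiv.Perm (Fin q), g.cycleType = {p} := by
    rw [Equiv.Perm.exists_with_cycleType_iff]
    refine ⟨by simpa using hpq, ?_⟩
    intro a ha
    rw [Multiset.mem_singleton] at ha
    rw [ha]; exact hp.two_le
  have hcyc : g.IsCycle := by
    rw [← Equiv.Perm.card_cycleType_eq_one, hg]; rfl
  have hsupp : g.support.card = p := by
    rw [← Equiv.Perm.sum_cycleType, hg]; rfl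
  have hord : orderOf g = p := by
    rw [hcyc.orderOf, hsupp]
  have hpg : IsPGroup p (Subgroup.zpowers g) := by
    apply IsPGroup.of_card (n := 1)
    rw [Nat.card_zpowers, hord, pow_one]
  obtain ⟨x, hx⟩ := exists_conj_mem H p hd g hpg
  refine ⟨x * g * x⁻¹, hx, hcyc.conj, ?_⟩
  rw [Equiv.Perm.card_support_conj, hsupp]

/-- Hall subgroups: the order of the group divides when the prime is in `π` -/
theorem dvd_card_of_mem {G : Type*} [Group G] [Finite G] (π : Set ℕ) (H : Subgroup G)
    (hH : IsPiHall π H) {p : ℕ} (hp : p.Prime) (hpπ : p ∈ π) (hd : p ∣ Nat.card G) :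
    p ∣ Nat.card H := by
  rw [← H.card_mul_index] at hd
  exact (hp.dvd_mul.1 hd).resolve_right (hH.2 p hp hpπ)

theorem caseB (π : Set ℕ) (h2 : 2 ∈ π) (h3 : 3 ∉ π) {q : ℕ} (hq : q.Prime) (hqπ : q ∈ π)
    (hq5 : 5 ≤ q) : ¬ IsEPiGroup π (Equiv.Perm (Fin q)) := by
  rintro ⟨H, hH⟩
  have hcardG : Nat.card (Equiv.Perm (Fin q)) = q.factorial := by
    rw [Nat.card_perm, Nat.card_eq_fintype_card, Fintype.card_fin]
  have hqd : q ∣ Nat.card H := by
    apply dvd_card_of_mem π H hH hq hqπ
    rw [hcardG]; exact Nat.dvd_factorial hq.pos le_rfl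
  have hprim := primitive_of_dvd hq H hqd
  obtain ⟨c, hcH, hcyc, hcs⟩ := exists_cycle_mem Nat.prime_two (by omega) H (hH.2 2 Nat.prime_two h2)
  have hswap : c.IsSwap := Equiv.Perm.card_support_eq_two.1 hcs
  have htop : H = ⊤ := Equiv.Perm.subgroup_eq_top_of_isPreprimitive_of_isSwap_mem hprim c hswap hcH
  apply h3
  apply hH.1 3 Nat.prime_three
  rw [htop, Subgroup.card_top, hcardG]
  exact Nat.dvd_factorial (by norm_num) (by omega)

theorem caseC (π : Set ℕ) (h2 : 2 ∉ π) {p q : ℕ} (hp : p.Prime) (hq : q.Prime) (hpπ : p ∈ π)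
    (hqπ : q ∈ π) (hpq : p < q) : ¬ IsEPiGroup π (Equiv.Perm (Fin q)) := by
  rintro ⟨H, hH⟩
  have hcardG : Nat.card (Equiv.Perm (Fin q)) = q.factorial := by
    rw [Nat.card_perm, Nat.card_eq_fintype_card, Fintype.card_fin]
  have hqd : q ∣ Nat.card H := by
    apply dvd_card_of_mem π H hH hq hqπ
    rw [hcardG]; exact Nat.dvd_factorial hq.pos le_rfl
  have hprim := primitive_of_dvd hq H hqd
  obtain ⟨c, hcH, hcyc, hcs⟩ := exists_cycle_mem hp hpq.le H (hH.2 p hp hpπ)
  have htr := Equiv.Perm.isPretransitive_of_isCycle_mem hcyc hcH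
  have hncard : ((c.support : Set (Fin q))ᶜ).ncard = (q - p - 1) + 1 := by
    rw [Set.ncard_compl, Set.ncard_coe_finset, hcs, Nat.card_eq_fintype_card, Fintype.card_fin]
    omega
  have h2t : MulAction.IsMultiplyPretransitive H (Fin q) 2 := by
    apply hprim.is_two_pretransitive hncard _ htr
    rw [Nat.card_eq_fintype_card, Fintype.card_fin]
    have := hp.two_le
    omega
  obtain ⟨s, hs⟩ : ∃ s : Set (Fin q), s.ncard = 2 := by
    refine ⟨{⟨0, by have := hp.two_le; omega⟩, ⟨1, by have := hp.two_le; omega⟩}, ?_⟩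
    rw [Set.ncard_pair]
    simp [Fin.ext_iff]
  have hidx := h2t.index_of_fixingSubgroup_mul hs
  rw [Nat.card_eq_fintype_card, Fintype.card_fin] at hidx
  have hq2 : 2 ≤ q := hq.two_le
  have hfact : q.factorial = q * (q - 1) * (q - 2).factorial := by
    obtain ⟨m, rfl⟩ : ∃ m, q = m + 2 := ⟨q - 2, by omega⟩
    simp [Nat.factorial_succ]; ring
  have hidx' : (fixingSubgroup H s).index = q * (q - 1) := by
    rw [hfact] at hidx
    exact Nat.eq_of_mul_eq_mul_right (Nat.factorial_pos _) hidx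
  have hd : q * (q - 1) ∣ Nat.card H := by
    rw [← hidx']; exact Subgroup.index_dvd_card _
  apply h2
  apply hH.1 2 Nat.prime_two
  exact (even_iff_two_dvd.1 (Nat.even_mul_pred_self q)).trans hd


theorem caseA (π : Set ℕ) {r : ℕ} (hr : r.Prime) (hr5 : 5 ≤ r) (hrπ : r ∉ π)
    (hlt : ∀ m : ℕ, m.Prime → m < r → m ∈ π) : ¬ IsEPiGroup π (Equiv.Perm (Fin (r + 1))) := by
  rintro ⟨H, hH⟩
  have hcardG : Nat.card (Equiv.Perm (Fin (r + 1))) = (r + 1).factorial := by
    rw [Nat.card_perm, Nat.card_eq_fintype_card, Fintype.card_fin]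
  have hmul : Nat.card H * H.index = (r + 1).factorial := by
    rw [H.card_mul_index, hcardG]
  have hrH : ¬ r ∣ Nat.card H := fun h => hrπ (hH.1 r hr h)
  have hridx : r ∣ H.index := by
    have : r ∣ Nat.card H * H.index := by
      rw [hmul]; exact Nat.dvd_factorial hr.pos (by omega)
    exact (hr.dvd_mul.1 this).resolve_left hrH
  have hodd : ¬ (r + 1).Prime := by
    intro h
    rcases hr.eq_two_or_odd with h2 | h2
    · omega
    · rcases h.eq_two_or_odd with h3 | h3 <;> omega
  have huniq : ∀ {d : ℕ}, d.Prime → d ∣ H.index → d = r := by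
    intro d hd hdd
    have h1 : d ∉ π := fun h => hH.2 d hd h hdd
    have h2 : d ≤ r + 1 := by
      apply (hd.dvd_factorial).1
      rw [← hmul]; exact hdd.mul_left _
    have h3 : ¬ d < r := fun h => h1 (hlt d hd h)
    have h4 : d ≠ r + 1 := fun h => hodd (h ▸ hd)
    omega
  have hpow := Nat.eq_prime_pow_of_unique_prime_dvd (Subgroup.index_ne_zero_of_finite (H := H)) huniq
  set k := (H.index).primeFactorsList.length with hk
  have hk1 : k ≤ 1 := by
    by_contra hk2
    push Not at hk2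
    have h1 : r ^ 2 ∣ H.index := by
      rw [hpow]; exact pow_dvd_pow r hk2
    have h2 : r ^ 2 ∣ (r + 1).factorial := by
      rw [← hmul]; exact h1.mul_left _
    have h3 : (r + 1).factorial = r * ((r + 1) * (r - 1).factorial) := by
      obtain ⟨m, rfl⟩ : ∃ m, r = m + 1 := ⟨r - 1, by omega⟩
      simp [Nat.factorial_succ]; ring
    rw [h3, pow_two] at h2
    have h4 : r ∣ (r + 1) * (r - 1).factorial := Nat.dvd_of_mul_dvd_mul_left hr.pos h2
    rcases hr.dvd_mul.1 h4 with h5 | h5
    · have : r ∣ 1 := (Nat.dvd_add_right (dvd_refl r)).1 h5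
      have := Nat.le_of_dvd one_pos this
      omega
    · have := (hr.dvd_factorial).1 h5
      omega
  have hk0 : k ≠ 0 := by
    intro h0
    rw [hpow, h0, pow_zero] at hridx
    have := Nat.le_of_dvd one_pos hridx
    omega
  have hidx : H.index = r := by
    rw [hpow]
    have : k = 1 := by omega
    rw [this, pow_one]
  apply no_small_index (α := Fin (r + 1)) (by rw [Fintype.card_fin]; omega) H
  · rw [hidx]; omega
  · rw [hidx, Fintype.card_fin]; omega

def Cond (π : Set ℕ) : Prop :=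
  (∀ p q : ℕ, p.Prime → q.Prime → p ∈ π → q ∈ π → p = q) ∨ ∀ p : ℕ, p.Prime → p ∈ π

theorem exists_counterexample (π : Set ℕ) (hc : ¬ Cond π) :
    ∃ n : ℕ, ¬ IsEPiGroup π (Equiv.Perm (Fin n)) := by
  unfold Cond at hc
  push Not at hc
  obtain ⟨⟨p, q, hp, hq, hpπ, hqπ, hpq⟩, hex⟩ := hc
  classical
  have hex' : ∃ r : ℕ, r.Prime ∧ r ∉ π := hex
  obtain ⟨r, ⟨hr, hrπ⟩, hmin⟩ : ∃ r : ℕ, (r.Prime ∧ r ∉ π) ∧ ∀ m < r, ¬ (m.Prime ∧ m ∉ π) :=
    ⟨Nat.find hex', Nat.find_spec hex', fun m hm => Nat.find_min hex' hm⟩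
  have hlt : ∀ m : ℕ, m.Prime → m < r → m ∈ π := by
    intro m hm hmr
    by_contra hmπ
    exact hmin m hmr ⟨hm, hmπ⟩
  by_cases h2 : 2 ∈ π
  · by_cases h3 : 3 ∈ π
    · -- r ≥ 5
      have hr5 : 5 ≤ r := by
        have h1 : r ≠ 2 := fun h => hrπ (h ▸ h2)
        have h2' : r ≠ 3 := fun h => hrπ (h ▸ h3)
        have h4 : r ≠ 4 := fun h => by rw [h] at hr; norm_num at hr
        have := hr.two_le
        omega
      exact ⟨r + 1, caseA π hr hr5 hrπ hlt⟩
    · -- 3 ∉ π: some prime ≥ 5 in π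
      have : ∃ s : ℕ, s.Prime ∧ s ∈ π ∧ 5 ≤ s := by
        by_cases hp2 : p = 2
        · refine ⟨q, hq, hqπ, ?_⟩
          have h1 : q ≠ 2 := fun h => hpq (by rw [hp2, h])
          have h2' : q ≠ 3 := fun h => h3 (h ▸ hqπ)
          have h4 : q ≠ 4 := fun h => by rw [h] at hq; norm_num at hq
          have := hq.two_le
          omega
        · refine ⟨p, hp, hpπ, ?_⟩
          have h2' : p ≠ 3 := fun h => h3 (h ▸ hpπ)
          have h4 : p ≠ 4 := fun h => by rw [h] at hp; norm_num at hp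
          have := hp.two_le
          omega
      obtain ⟨s, hs, hsπ, hs5⟩ := this
      exact ⟨s, caseB π h2 h3 hs hsπ hs5⟩
  · rcases lt_or_gt_of_ne hpq with h | h
    · exact ⟨q, caseC π h2 hp hq hpπ hqπ h⟩
    · exact ⟨p, caseC π h2 hq hp hqπ hpπ h⟩


/-- For a set of primes π the following are equivalent: every finite group has a Hall π-subgroup; in every finite group the maximal π-subgroups are pairwise conjugate; π contains at most one prime or contains every prime. -/
theorem result (π : Set ℕ) :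
    ((∀ (G : Type) [Group G] [Finite G], Cfsg.IsEPiGroup π G) ↔
      ((∀ p q : ℕ, p.Prime → q.Prime → p ∈ π → q ∈ π → p = q) ∨ ∀ p : ℕ, p.Prime → p ∈ π)) ∧
    ((∀ (G : Type) [Group G] [Finite G], Cfsg.IsDPiGroup π G) ↔
      ((∀ p q : ℕ, p.Prime → q.Prime → p ∈ π → q ∈ π → p = q) ∨ ∀ p : ℕ, p.Prime → p ∈ π)) := by
  have hE : (∀ (G : Type) [Group G] [Finite G], Cfsg.IsEPiGroup π G) ↔ Cond π := by
    constructor
    · intro h
      by_contra hc
      obtain ⟨n, hn⟩ := exists_counterexample π hc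
      exact hn (h _)
    · intro hc G _ _
      exact isEPi_of_cond π hc
  have hD : (∀ (G : Type) [Group G] [Finite G], Cfsg.IsDPiGroup π G) ↔ Cond π := by
    constructor
    · intro h
      by_contra hc
      obtain ⟨n, hn⟩ := exists_counterexample π hc
      exact hn (isEPi_of_isDPi π (h _))
    · intro hc G _ _
      exact isDPi_of_cond π hc
  exact ⟨hE, hD⟩

end Cfsg.Agent.S3878
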