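import Cfsg.Statements.S3881
import Mathlib
import Cfsg.Agent.Lib.Helper14.CDMeasure

set_option autoImplicit false
open Cfsg

namespace Cfsg.Agent.S3881

/-- Let p be an odd prime and G a finite metacyclic p-group (G has a cyclic normal subgroup with cyclic quotient). Suppose G is non-abelian with |G'| = p^n. Then for 1 ≤ i ≤ n the number of elements of G whose conjugacy class has exactly p^i elements is |Z(G)| · (p^(2i) − p^(2i−2)). -/
theorem result {G : Type*} [Group G] [Finite G] {p : ℕ} [Fact p.Prime] (hp : p ≠ 2) (hG : IsPGroup p G) (hmc : Cfsg.IsMetacyclic G) (n : ℕ) (hn : n ≠ 0) (hGn : Nat.card ↥(commutator G) = p ^ n) (i : ℕ) (hi : 1 ≤ i) (hin : i ≤ n) :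
    Nat.card {g : G // (Subgroup.centralizer ({g} : Set G)).index = p ^ i} =
      Nat.card ↥(Subgroup.center G) * (p ^ (2 * i) - p ^ (2 * i - 2)) := by
  have hreg := Cfsg.Agent.Lib.Helper14.isRegularPGroup_of_isMetacyclic hp hG hmc
  have hp1 := (Fact.out : p.Prime).one_lt
  set A := Cfsg.Agent.Lib.Helper14.regAgemo hreg (n - i) with hA
  set B := Cfsg.Agent.Lib.Helper14.regAgemo hreg (n - i + 1) with hB
  have hBA : B ≤ A := by
    rintro _ ⟨y, rfl⟩
    exact ⟨y ^ p, by rw [← pow_mul, ← pow_succ']⟩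
  have hAiff := fun g => Cfsg.Agent.Lib.Helper14.mem_regAgemo_iff_index_centralizer_le hp hmc hreg hGn
    (n - i) (Nat.sub_le _ _) g
  have hBiff := fun g => Cfsg.Agent.Lib.Helper14.mem_regAgemo_iff_index_centralizer_le hp hmc hreg hGn
    (n - i + 1) (by omega) g
  have e1 : n - (n - i) = i := by omega
  have e2 : n - (n - i + 1) = i - 1 := by omega
  rw [e1] at hAiff
  rw [e2] at hBiff
  have key : ∀ g : G, (Subgroup.centralizer ({g} : Set G)).index = p ^ i ↔ g ∈ A ∧ g ∉ B := by
    intro g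
    rw [hAiff, hBiff]
    obtain ⟨m, hm⟩ := hG.exists_card_eq
    have h1 : (Subgroup.centralizer ({g} : Set G)).index ∣ p ^ m := hm ▸ Subgroup.index_dvd_card _
    obtain ⟨j, -, hj⟩ := (Nat.dvd_prime_pow Fact.out).mp h1
    rw [hj, Nat.pow_le_pow_iff_right hp1, Nat.pow_le_pow_iff_right hp1,
      (Nat.pow_right_injective (show 2 ≤ p from hp1)).eq_iff]
    omega
  have hcard : Nat.card {g : G // (Subgroup.centralizer ({g} : Set G)).index = p ^ i} =
      Nat.card A - Nat.card B := by
    have h1 : {g : G | (Subgroup.centralizer ({g} : Set G)).index = p ^ i} = (A : Set G) \ (B : Set G) := by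
      ext g
      rw [Set.mem_setOf_eq, key]
      rfl
    have h2 : Nat.card A = (A : Set G).ncard := Nat.card_coe_set_eq (A : Set G)
    have h3 : Nat.card B = (B : Set G).ncard := Nat.card_coe_set_eq (B : Set G)
    rw [h2, h3, ← Set.ncard_diff (by exact_mod_cast hBA), ← h1]
    exact Nat.card_coe_set_eq _
  rw [hcard, Cfsg.Agent.Lib.Helper14.metacyclic_card_regAgemo hreg hmc hGn (n - i) (Nat.sub_le _ _),
    Cfsg.Agent.Lib.Helper14.metacyclic_card_regAgemo hreg hmc hGn (n - i + 1) (by omega), e1, e2,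
    Nat.mul_sub]
  rw [Nat.mul_sub, mul_one]

end Cfsg.Agent.S3881
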