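import Cfsg.Statements.S3883
import Mathlib
import Cfsg.Agent.Lib.Helper14.CDMeasure

set_option autoImplicit false
open Cfsg

namespace Cfsg.Agent.S3883

open Cfsg.Agent.Lib.Helper14
open scoped commutatorElement

/-- the Frattini subgroup of a non-abelian metacyclic `p`-group (`p` odd) is `℧_1` -/
theorem frattini_eq_regAgemo {G : Type*} [Group G] [Finite G] {p : ℕ} [hp : Fact p.Prime]
    (hG : IsPGroup p G) (hmc : Cfsg.IsMetacyclic G) (hna : ¬ IsMulCommutative G)
    (hreg : IsRegularPGroup p G) {n : ℕ} (hn : Nat.card (commutator G) = p ^ n) (hn1 : 1 ≤ n) :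
    frattini G = regAgemo hreg 1 := by
  have hle : regAgemo hreg 1 ≤ frattini G := by
    rintro _ ⟨y, rfl⟩
    rw [pow_one]
    exact pow_mem_frattini_of_isPGroup' hG y
  have h1 : (frattini G).index ∣ (regAgemo hreg 1).index := Subgroup.index_dvd_of_le hle
  rw [index_regAgemo, metacyclic_card_regOmega hreg hmc hn 1 hn1, mul_one] at h1
  have h2 := sq_dvd_index_frattini hG hna
  have h3 : (frattini G).index = p ^ 2 := Nat.dvd_antisymm h1 h2
  have h4 : (regAgemo hreg 1).index = p ^ 2 := by
    rw [index_regAgemo, metacyclic_card_regOmega hreg hmc hn 1 hn1, mul_one]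
  symm
  apply Subgroup.eq_of_le_of_card_ge hle
  have e1 := Subgroup.card_mul_index (regAgemo hreg 1)
  have e2 := Subgroup.card_mul_index (frattini G)
  rw [h4] at e1
  rw [h3, ← e1] at e2
  exact (Nat.eq_of_mul_eq_mul_right (pow_pos hp.out.pos 2) e2).le

/-- Let p be an odd prime and G a finite metacyclic p-group (G has a cyclic normal subgroup with cyclic quotient). Suppose G is non-abelian. Then an element g of G lies outside the Frattini subgroup if and only if its centralizer C_G(g) is abelian. -/
theorem result {G : Type*} [Group G] [Finite G] {p : ℕ} [Fact p.Prime] (hp : p ≠ 2) (hG : IsPGroup p G) (hmc : Cfsg.IsMetacyclic G) (hna : ¬ IsMulCommutative G) (g : G) :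
    g ∉ frattini G ↔ IsMulCommutative ↥(Subgroup.centralizer ({g} : Set G)) := by
  have hreg := isRegularPGroup_of_isMetacyclic hp hG hmc
  have hc := isCyclic_commutator_of_isMetacyclic hmc
  have hp1 := (Fact.out : p.Prime).one_lt
  have hppos := (Fact.out : p.Prime).pos
  obtain ⟨n, hn⟩ := (hG.to_subgroup (commutator G)).exists_card_eq
  have hn1 : 1 ≤ n := by
    by_contra h0
    have h0' : n = 0 := by omega
    rw [h0', pow_zero, Subgroup.card_eq_one] at hn
    apply hna
    refine ⟨⟨fun a b => ?_⟩⟩
    rw [← commutatorElement_eq_one_iff_mul_comm, ← Subgroup.mem_bot, ← hn, commutator_def]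
    exact Subgroup.commutator_mem_commutator (Subgroup.mem_top a) (Subgroup.mem_top b)
  rw [frattini_eq_regAgemo hG hmc hna hreg hn hn1,
    mem_regAgemo_iff_index_centralizer_le hp hmc hreg hn 1 hn1 g]
  set C := Subgroup.centralizer ({g} : Set G) with hC
  have hZC : Subgroup.center G ≤ C := Subgroup.center_le_centralizer _
  have hgC : g ∈ C := by
    rw [hC, Subgroup.mem_centralizer_singleton_iff]
  have hCC : Subgroup.centralizer (C : Set G) ≤ C := by
    intro x hx
    rw [hC, Subgroup.mem_centralizer_singleton_iff]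
    exact (Subgroup.mem_centralizer_iff.mp hx g hgC).symm
  have hidx0 : C.index ≤ p ^ n := by
    have := index_centralizer_le_of_mem_regAgemo hreg hc hn 0 (Nat.zero_le _) (g := g) ⟨g, by simp⟩
    simpa using this
  have hcardG := Subgroup.card_mul_index C
  have hcardZ := Subgroup.card_mul_index (Subgroup.center G)
  rw [(metacyclic_center hreg hmc hn).1] at hcardZ
  have hCpos : 0 < Nat.card C := Nat.card_pos
  constructor
  · intro hidx
    push Not at hidx
    -- index = p ^ n
    obtain ⟨m, hm⟩ := hG.exists_card_eq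
    have h1 : C.index ∣ p ^ m := hm ▸ Subgroup.index_dvd_card _
    obtain ⟨j, -, hj⟩ := (Nat.dvd_prime_pow Fact.out).mp h1
    rw [hj, Nat.pow_lt_pow_iff_right hp1] at hidx
    rw [hj, Nat.pow_le_pow_iff_right hp1] at hidx0
    have hjn : j = n := by omega
    rw [hj, hjn] at hcardG
    have hcd := cd_measure_eq hreg hc C hZC
    -- card C = card Z * p ^ n
    have h2 : Nat.card C = Nat.card (Subgroup.center G) * p ^ n := by
      have : Nat.card C * p ^ n = Nat.card (Subgroup.center G) * p ^ n * p ^ n := by
        rw [hcardG, ← hcardZ, mul_assoc, ← pow_add, two_mul]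
      exact Nat.eq_of_mul_eq_mul_right (pow_pos hppos n) this
    have h3 : Nat.card (Subgroup.centralizer (C : Set G)) = Nat.card C := by
      have : Nat.card C * Nat.card (Subgroup.centralizer (C : Set G)) = Nat.card C * Nat.card C := by
        rw [hcd, ← hcardG]
        nth_rewrite 3 [h2]
        ring
      exact Nat.eq_of_mul_eq_mul_left hCpos this
    have h4 : Subgroup.centralizer (C : Set G) = C := Subgroup.eq_of_le_of_card_ge hCC h3.ge
    exact Subgroup.le_centralizer_iff_isMulCommutative.mp h4.ge
  · intro hab hidx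
    have h1 : C ≤ Subgroup.centralizer (C : Set G) := Subgroup.le_centralizer_iff_isMulCommutative.mpr hab
    have h2 : Nat.card C ≤ Nat.card (Subgroup.centralizer (C : Set G)) := Subgroup.card_le_of_le h1
    have h3 := cd_measure_le hreg hc _ C rfl
    have h4 : Nat.card C * Nat.card C ≤ Nat.card G * Nat.card (Subgroup.center G) :=
      (Nat.mul_le_mul_left _ h2).trans h3
    have h5 : Nat.card G ≤ Nat.card C * p ^ (n - 1) := by
      rw [← hcardG]; exact Nat.mul_le_mul_left _ hidx
    -- card G = card Z * p^(2n)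
    have h6 : Nat.card G * Nat.card G ≤ Nat.card G * Nat.card (Subgroup.center G) * (p ^ (n - 1) * p ^ (n - 1)) := by
      calc Nat.card G * Nat.card G ≤ (Nat.card C * p ^ (n - 1)) * (Nat.card C * p ^ (n - 1)) :=
            Nat.mul_le_mul h5 h5
        _ = (Nat.card C * Nat.card C) * (p ^ (n - 1) * p ^ (n - 1)) := by ring
        _ ≤ _ := Nat.mul_le_mul_right _ h4
    have hGpos : 0 < Nat.card G := Nat.card_pos
    have h7 : Nat.card G ≤ Nat.card (Subgroup.center G) * (p ^ (n - 1) * p ^ (n - 1)) := by
      rw [mul_assoc] at h6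
      exact Nat.le_of_mul_le_mul_left h6 hGpos
    rw [← hcardZ] at h7
    have hZpos : 0 < Nat.card (Subgroup.center G) := Nat.card_pos
    have h8 := Nat.le_of_mul_le_mul_left h7 hZpos
    rw [← pow_add, Nat.pow_le_pow_iff_right hp1] at h8
    omega

end Cfsg.Agent.S3883
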