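import Cfsg.Statements.S3884
import Mathlib
import Cfsg.Agent.Lib.Helper14.CDMeasure

set_option autoImplicit false
open Cfsg

namespace Cfsg.Agent.S3884

open Cfsg.Agent.Lib.Helper14
open scoped commutatorElement

section
variable {G : Type*} [Group G] [Finite G] {p : ℕ} [hp : Fact p.Prime]

/-- roots in a cyclic `p`-group -/
theorem exists_root {a : G} {k : ℕ} (ha : orderOf a = p ^ k) {z : G} (hz : z ∈ Subgroup.zpowers a) :
    ∃ (e : ℕ) (a' : G), Subgroup.zpowers a' = Subgroup.zpowers a ∧ a' ^ p ^ e = z := by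
  by_cases hz1 : z = 1
  · refine ⟨k, a, rfl, ?_⟩
    rw [hz1, ← ha, pow_orderOf_eq_one]
  · rw [← mem_powers_iff_mem_zpowers] at hz
    obtain ⟨j, rfl⟩ := (Submonoid.mem_powers_iff _ _).mp hz
    have hj : j ≠ 0 := by
      rintro rfl
      exact hz1 (pow_zero a)
    obtain ⟨e, w, hw, rfl⟩ := Nat.exists_eq_pow_mul_and_not_dvd hj p hp.out.ne_one
    refine ⟨e, a ^ w, ?_, ?_⟩
    · have hle : Subgroup.zpowers (a ^ w) ≤ Subgroup.zpowers a := by
        rw [Subgroup.zpowers_le]
        exact Subgroup.pow_mem _ (Subgroup.mem_zpowers a) w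
      apply Subgroup.eq_of_le_of_card_ge hle
      rw [Nat.card_zpowers, Nat.card_zpowers]
      have hcop : (orderOf a).Coprime w := by
        rw [ha]
        exact Nat.Coprime.pow_left _ ((Nat.Prime.coprime_iff_not_dvd hp.out).mpr hw)
      rw [hcop.orderOf_pow]
    · rw [← pow_mul, mul_comm]

/-- regular power computation when the commutator has small order -/
theorem mul_pow_of_comm_pow_eq_one (hreg : IsRegularPGroup p G) {N : Subgroup G} [hN : N.Normal]
    {a b : G} (hab : IsMetaPair N a b) (x y : G) (s : ℕ) (hxy : ⁅x, y⁆ ^ p ^ s = 1) :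
    (x * y) ^ p ^ s = x ^ p ^ s * y ^ p ^ s := by
  obtain ⟨c, hc, hmul⟩ := hreg.2 x y s
  set H := Subgroup.closure ({x, y} : Set G) with hH
  have hcN : ⁅x, y⁆ ∈ N := by
    have hQc : IsCyclic (G ⧸ N) := by
      refine ⟨⟨(b : G ⧸ N), fun q => ?_⟩⟩
      obtain ⟨g, rfl⟩ := QuotientGroup.mk_surjective q
      obtain ⟨k, n, hn, rfl⟩ := hab.hb g
      refine Subgroup.mem_zpowers_iff.mpr ⟨k, ?_⟩
      rw [QuotientGroup.mk_mul, (QuotientGroup.eq_one_iff n).mpr hn, mul_one, QuotientGroup.mk_zpow]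
    apply commutator_le_of_isCyclic_quotient N
    rw [commutator_def]
    exact Subgroup.commutator_mem_commutator (Subgroup.mem_top _) (Subgroup.mem_top _)
  set M := Subgroup.zpowers ⁅x, y⁆ with hM
  have hMn : M.Normal := hab.zpowers_normal hcN
  have hHH : ⁅H, H⁆ ≤ M := by
    have h1 : (⁅H, H⁆).map (QuotientGroup.mk' M) = ⊥ := by
      rw [Subgroup.map_commutator, Subgroup.commutator_eq_bot_iff_le_centralizer, hH,
        MonoidHom.map_closure, Subgroup.le_centralizer_iff_isMulCommutative]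
      apply Subgroup.isMulCommutative_closure
      have hcomm : QuotientGroup.mk' M x * QuotientGroup.mk' M y = QuotientGroup.mk' M y * QuotientGroup.mk' M x := by
        rw [← commutatorElement_eq_one_iff_mul_comm, ← map_commutatorElement, QuotientGroup.mk'_apply,
          QuotientGroup.eq_one_iff]
        exact Subgroup.mem_zpowers _
      rintro u ⟨u', hu', rfl⟩ v ⟨v', hv', rfl⟩
      rcases hu' with rfl | rfl <;> rcases hv' with rfl | rfl
      · rfl
      · exact hcomm
      · exact hcomm.symm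
      · rfl
    intro d hd
    have : QuotientGroup.mk' M d ∈ (⁅H, H⁆).map (QuotientGroup.mk' M) := Subgroup.mem_map_of_mem _ hd
    rw [h1, Subgroup.mem_bot, QuotientGroup.mk'_apply, QuotientGroup.eq_one_iff] at this
    exact this
  have hbot : powerClosure p s ⁅H, H⁆ = ⊥ := by
    apply powerClosure_eq_bot
    intro d hd
    obtain ⟨j, rfl⟩ := Subgroup.mem_zpowers_iff.mp (hHH hd)
    rw [← zpow_natCast, ← zpow_mul, mul_comm, zpow_mul, zpow_natCast, hxy, one_zpow]
  rw [hbot, Subgroup.mem_bot] at hc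
  rw [hmul, hc, mul_one]

/-- the easy case: a generator of the quotient with `b ^ p ^ m = 1` -/
theorem factor_of_pow_eq_one (N : Subgroup G) [hN : N.Normal] (hNc : IsCyclic N) (b' : G)
    (hgen : ∀ q : G ⧸ N, q ∈ Subgroup.zpowers (b' : G ⧸ N)) {m : ℕ} (hm : Nat.card (G ⧸ N) = p ^ m)
    (hb' : b' ^ p ^ m = 1) :
    ∃ A B : Subgroup G, IsCyclic ↥A ∧ IsCyclic ↥B ∧ A ⊓ B = ⊥ ∧ Nat.card ↥A * Nat.card ↥B = Nat.card G := by
  have ho : orderOf (b' : G ⧸ N) = p ^ m := by
    rw [orderOf_eq_card_of_forall_mem_zpowers hgen, hm]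
  have hob : orderOf b' = p ^ m := by
    apply Nat.dvd_antisymm (orderOf_dvd_of_pow_eq_one hb')
    rw [← ho]
    exact orderOf_map_dvd (QuotientGroup.mk' N) b'
  refine ⟨N, Subgroup.zpowers b', hNc, inferInstance, ?_, ?_⟩
  · rw [eq_bot_iff]
    rintro w ⟨hwN, hwB⟩
    obtain ⟨j, rfl⟩ := Subgroup.mem_zpowers_iff.mp hwB
    rw [Subgroup.mem_bot]
    have h1 : ((b' : G ⧸ N)) ^ j = 1 := by
      rw [← QuotientGroup.mk_zpow, QuotientGroup.eq_one_iff]; exact hwN
    rw [← orderOf_dvd_iff_zpow_eq_one, ho, ← hob, orderOf_dvd_iff_zpow_eq_one] at h1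
    exact h1
  · rw [Nat.card_zpowers, hob, ← hm, mul_comm]
    exact (Subgroup.card_eq_card_quotient_mul_card_subgroup N).symm

end

/-- Let p be an odd prime and G a finite metacyclic p-group (G has a cyclic normal subgroup with cyclic quotient). Then G is the product of two cyclic subgroups with trivial intersection: there are cyclic subgroups A and B with A ∩ B = 1 and |A| · |B| = |G|. -/
theorem result {G : Type*} [Group G] [Finite G] {p : ℕ} [Fact p.Prime] (hp : p ≠ 2) (hG : IsPGroup p G) (hmc : Cfsg.IsMetacyclic G) : ∃ A B : Subgroup G, IsCyclic ↥A ∧ IsCyclic ↥B ∧ A ⊓ B = ⊥ ∧ Nat.card ↥A * Nat.card ↥B = Nat.card G := by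
  have hpp : p.Prime := Fact.out
  have hp1 := hpp.one_lt
  have hreg := isRegularPGroup_of_isMetacyclic hp hG hmc
  obtain ⟨N, hN, hNc, hQc⟩ := id hmc
  obtain ⟨a, b, hab⟩ := exists_isMetaPair N
  have hgen : ∀ q : G ⧸ N, q ∈ Subgroup.zpowers (b : G ⧸ N) := by
    intro q
    obtain ⟨g, rfl⟩ := QuotientGroup.mk_surjective q
    obtain ⟨k, n, hn, rfl⟩ := hab.hb g
    refine Subgroup.mem_zpowers_iff.mpr ⟨k, ?_⟩
    rw [QuotientGroup.mk_mul, (QuotientGroup.eq_one_iff n).mpr hn, mul_one, QuotientGroup.mk_zpow]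
  obtain ⟨m, hm⟩ := (hG.to_quotient N).exists_card_eq
  obtain ⟨k, hk⟩ := (hG.to_subgroup N).exists_card_eq
  have ho : orderOf (b : G ⧸ N) = p ^ m := by
    rw [orderOf_eq_card_of_forall_mem_zpowers hgen, hm]
  have hoa : orderOf a = p ^ k := by
    rw [← Nat.card_zpowers, ← hab.hN, hk]
  set z := b ^ p ^ m with hz
  have hzN : z ∈ N := by
    rw [← QuotientGroup.eq_one_iff, hz, QuotientGroup.mk_pow, ← ho, pow_orderOf_eq_one]
  by_cases hz1 : z = 1
  · exact factor_of_pow_eq_one N hNc b hgen hm hz1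
  have hzN' := hzN
  rw [hab.hN] at hzN'
  obtain ⟨e, a', ha', haz⟩ := exists_root hoa hzN'
  have hab' : IsMetaPair N a' b := ⟨by rw [ha', hab.hN], hab.hb⟩
  have hoa' : orderOf a' = p ^ k := by
    rw [← Nat.card_zpowers, ha', Nat.card_zpowers, hoa]
  have ha'N : a' ∈ N := hab'.a_mem
  have hek : e < k := by
    by_contra hge
    push Not at hge
    apply hz1
    rw [← haz]
    obtain ⟨t, rfl⟩ := Nat.exists_eq_add_of_le hge
    rw [pow_add, pow_mul, ← hoa', pow_orderOf_eq_one, one_pow]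
  have hbz : Commute b z := by
    rw [hz]
    exact Commute.pow_right (Commute.refl b) _
  by_cases hme : m ≤ e
  · -- Case A
    set u := a' ^ p ^ (e - m) with hu
    have huN : u ∈ N := N.pow_mem ha'N _
    have hupow : u ^ p ^ m = z := by
      rw [hu, ← pow_mul, ← pow_add, Nat.sub_add_cancel hme, haz]
    have hcomm1 : ⁅b, u⁻¹⁆ ^ p ^ m = 1 := by
      rw [← hab'.commutatorElement_pow' (N.inv_mem huN) b, inv_pow, hupow,
        commutatorElement_eq_one_iff_commute]
      exact hbz.inv_right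
    have h1 := mul_pow_of_comm_pow_eq_one hreg hab' b u⁻¹ m hcomm1
    rw [inv_pow, hupow, ← hz, mul_inv_cancel] at h1
    have hgen' : ∀ q : G ⧸ N, q ∈ Subgroup.zpowers ((b * u⁻¹ : G) : G ⧸ N) := by
      have : ((b * u⁻¹ : G) : G ⧸ N) = (b : G ⧸ N) := by
        rw [QuotientGroup.mk_mul, (QuotientGroup.eq_one_iff _).mpr (N.inv_mem huN), mul_one]
      rw [this]; exact hgen
    exact factor_of_pow_eq_one N hNc (b * u⁻¹) hgen' hm h1
  · -- Case B
    push Not at hme
    set v := b ^ p ^ (m - e) with hv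
    have hvpow : v ^ p ^ e = z := by
      rw [hv, ← pow_mul, ← pow_add, Nat.sub_add_cancel hme.le]
    have hzv : Commute z v := by
      rw [hz, hv]
      exact Commute.pow_pow (Commute.refl b) _ _
    have hcomm1 : ⁅a', v⁻¹⁆ ^ p ^ e = 1 := by
      rw [← hab'.commutatorElement_pow ha'N, haz, commutatorElement_eq_one_iff_commute]
      exact hzv.inv_right
    have h1 := mul_pow_of_comm_pow_eq_one hreg hab' a' v⁻¹ e hcomm1
    rw [inv_pow, hvpow, haz, mul_inv_cancel] at h1
    set a'' := a' * v⁻¹ with ha''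
    -- orders
    have hoq : orderOf ((a'' : G) : G ⧸ N) = p ^ e := by
      have : ((a'' : G) : G ⧸ N) = ((b : G ⧸ N) ^ p ^ (m - e))⁻¹ := by
        rw [ha'', QuotientGroup.mk_mul, (QuotientGroup.eq_one_iff _).mpr ha'N, one_mul, hv,
          QuotientGroup.mk_inv, QuotientGroup.mk_pow]
      rw [this, orderOf_inv, orderOf_pow_prime_pow ho (m - e) (Nat.sub_le _ _)]
      congr 1; omega
    have hoa'' : orderOf a'' = p ^ e := by
      apply Nat.dvd_antisymm (orderOf_dvd_of_pow_eq_one h1)
      rw [← hoq]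
      exact orderOf_map_dvd (QuotientGroup.mk' N) a''
    obtain ⟨M, hM⟩ := IsPGroup.iff_orderOf.mp hG b
    have hmM : m ≤ M := by
      have := orderOf_map_dvd (QuotientGroup.mk' N) b
      rw [QuotientGroup.mk'_apply, ho, hM, Nat.pow_dvd_pow_iff_le_right hp1] at this
      exact this
    have hoz : orderOf z = p ^ (k - e) := by
      rw [← haz]; exact orderOf_pow_prime_pow hoa' e hek.le
    have hMeq : M = m + (k - e) := by
      have h2 : orderOf z = p ^ (M - m) := by
        rw [hz]; exact orderOf_pow_prime_pow hM m hmM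
      rw [hoz] at h2
      have := Nat.pow_right_injective (show 2 ≤ p from hp1) h2
      omega
    refine ⟨Subgroup.zpowers a'', Subgroup.zpowers b, inferInstance, inferInstance, ?_, ?_⟩
    · -- trivial intersection
      have hAN : ∀ w : G, w ∈ Subgroup.zpowers a'' → w ∈ N → w = 1 := by
        intro w hwA hwN
        obtain ⟨i, rfl⟩ := Subgroup.mem_zpowers_iff.mp hwA
        have h2 : ((a'' : G) : G ⧸ N) ^ i = 1 := by
          rw [← QuotientGroup.mk_zpow, QuotientGroup.eq_one_iff]; exact hwN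
        rw [← orderOf_dvd_iff_zpow_eq_one, hoq, ← hoa'', orderOf_dvd_iff_zpow_eq_one] at h2
        exact h2
      have hBN : ∀ w : G, w ∈ Subgroup.zpowers b → w ^ p = 1 → w ∈ N := by
        intro w hwB hwp
        obtain ⟨j, rfl⟩ := Subgroup.mem_zpowers_iff.mp hwB
        rw [← zpow_natCast, ← zpow_mul, ← orderOf_dvd_iff_zpow_eq_one, hM] at hwp
        have hM1 : 1 ≤ M := by omega
        have h3 : ((p ^ M : ℕ) : ℤ) = (p : ℤ) ^ (M - 1) * (p : ℤ) := by
          rw [← pow_succ]; push_cast; congr 1; omega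
        rw [h3] at hwp
        have h4 : ((p : ℕ) : ℤ) ≠ 0 := by exact_mod_cast hpp.ne_zero
        obtain ⟨j', hj'⟩ := Int.dvd_of_mul_dvd_mul_right h4 hwp
        rw [hj', zpow_mul]
        apply N.zpow_mem
        have h5 : b ^ ((p : ℤ) ^ (M - 1)) = z ^ p ^ (M - 1 - m) := by
          rw [hz, ← pow_mul, ← pow_add, ← zpow_natCast]
          congr 1
          push_cast
          congr 1
          omega
        rw [h5]
        exact N.pow_mem hzN _
      rw [eq_bot_iff]
      rintro w ⟨hwA, hwB⟩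
      rw [Subgroup.mem_bot]
      by_contra hw1
      obtain ⟨t, ht⟩ := IsPGroup.iff_orderOf.mp hG w
      have ht1 : 1 ≤ t := by
        by_contra h0
        have : t = 0 := by omega
        rw [this, pow_zero, orderOf_eq_one_iff] at ht
        exact hw1 ht
      set w' := w ^ p ^ (t - 1) with hw'
      have hw'p : w' ^ p = 1 := by
        rw [hw', ← pow_mul, ← pow_succ, Nat.sub_add_cancel ht1, ← ht, pow_orderOf_eq_one]
      have hw'1 : w' ≠ 1 := by
        intro h
        have := orderOf_dvd_of_pow_eq_one h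
        rw [ht, Nat.pow_dvd_pow_iff_le_right hp1] at this
        omega
      apply hw'1
      apply hAN w' (Subgroup.pow_mem _ hwA _)
      exact hBN w' (Subgroup.pow_mem _ hwB _) hw'p
    · rw [Nat.card_zpowers, Nat.card_zpowers, hoa'', hM, hMeq, ← pow_add,
        Subgroup.card_eq_card_quotient_mul_card_subgroup N, hm, hk, ← pow_add]
      congr 1
      omega

end Cfsg.Agent.S3884
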