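import Cfsg.Statements.S3885
import Mathlib
import Cfsg.Agent.Lib.Helper14.CDMeasure

set_option autoImplicit false
open Cfsg

namespace Cfsg.Agent.S3885

/-- Let p be an odd prime and G a finite metacyclic p-group (G has a cyclic normal subgroup with cyclic quotient). Then every abelian subgroup K of G containing the center of G is the center of its own centralizer: K = Z(C_G(K)). -/
theorem result {G : Type*} [Group G] [Finite G] {p : ℕ} [Fact p.Prime] (hp : p ≠ 2) (hG : IsPGroup p G) (hmc : Cfsg.IsMetacyclic G) (K : Subgroup G) (hK : IsMulCommutative ↥K) (hZ : Subgroup.center G ≤ K) :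
    K = Subgroup.centralizer (K : Set G) ⊓ Subgroup.centralizer (Subgroup.centralizer (K : Set G) : Set G) := by
  have hreg := Cfsg.Agent.Lib.Helper14.isRegularPGroup_of_isMetacyclic hp hG hmc
  have hc := Cfsg.Agent.Lib.Helper14.isCyclic_commutator_of_isMetacyclic hmc
  set C := Subgroup.centralizer (K : Set G) with hC
  set K₁ := C ⊓ Subgroup.centralizer (C : Set G) with hK₁
  have hKC : K ≤ C := Subgroup.le_centralizer_iff_isMulCommutative.mpr hK
  have hKCC : K ≤ Subgroup.centralizer (C : Set G) := Subgroup.le_centralizer_iff.mp le_rfl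
  have hKK₁ : K ≤ K₁ := le_inf hKC hKCC
  have hCK₁ : Subgroup.centralizer (K₁ : Set G) = C := by
    apply le_antisymm
    · exact Subgroup.centralizer_le (by exact_mod_cast hKK₁)
    · rw [Subgroup.le_centralizer_iff]
      exact inf_le_right
  have h1 := Cfsg.Agent.Lib.Helper14.cd_measure_eq hreg hc K hZ
  have h2 := Cfsg.Agent.Lib.Helper14.cd_measure_eq hreg hc K₁ (hZ.trans hKK₁)
  rw [hCK₁] at h2
  rw [← h2] at h1
  have hpos : 0 < Nat.card C := Nat.card_pos
  have h3 : Nat.card K = Nat.card K₁ := Nat.eq_of_mul_eq_mul_right hpos h1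
  exact Subgroup.eq_of_le_of_card_ge hKK₁ h3.ge

end Cfsg.Agent.S3885
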