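import Cfsg.Statements.S3886
import Mathlib
import Cfsg.Agent.Lib.Helper14.MetacyclicSub

set_option autoImplicit false
open Cfsg

namespace Cfsg.Agent.S3886

open Cfsg.Agent.Lib.Helper14

section
variable {G : Type*} [Group G] [Finite G] {p : ℕ} [hp : Fact p.Prime]

theorem f_nonab (hp2 : p ≠ 2) (hG : IsPGroup p G) (hmc : Cfsg.IsMetacyclic G) (R : Subgroup G)
    (hR : ¬ IsMulCommutative ↥R) :
    Nat.card ↥R * Nat.card ↥(Subgroup.center ↥R) = (commutator G).index ^ 2 := by
  have hGR : IsPGroup p ↥R := hG.to_subgroup R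
  have hmcR := isMetacyclic_subgroup hmc R
  have hregR := isRegularPGroup_of_isMetacyclic hp2 hGR hmcR
  obtain ⟨n', hn'⟩ := (hGR.to_subgroup (commutator ↥R)).exists_card_eq
  have h1 := (metacyclic_center hregR hmcR hn').1
  have h2 := Subgroup.card_mul_index (Subgroup.center ↥R)
  rw [h1] at h2
  have h3 := card_eq_index_mul_of_not_comm hp2 hG hmc R hR
  rw [hn'] at h3
  have hpos : 0 < p ^ (2 * n') := pow_pos hp.out.pos _
  have : Nat.card ↥R * Nat.card ↥(Subgroup.center ↥R) * p ^ (2 * n') =
      (commutator G).index ^ 2 * p ^ (2 * n') := by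
    rw [mul_assoc, h2, h3, two_mul, pow_add]; ring
  exact Nat.eq_of_mul_eq_mul_right hpos this

theorem f_ab (R : Subgroup G) (hR : IsMulCommutative ↥R) :
    Nat.card ↥R * Nat.card ↥(Subgroup.center ↥R) = Nat.card ↥R ^ 2 := by
  have : Subgroup.center ↥R = ⊤ := by
    rw [eq_top_iff]
    intro x _
    rw [Subgroup.mem_center_iff]
    intro y
    exact mul_comm' y x
  rw [this, Subgroup.card_top, sq]

end

/-- Let p be an odd prime and G a finite metacyclic p-group (G has a cyclic normal subgroup with cyclic quotient). Then the largest value of |R| · |Z(R)| over subgroups R of G is |G : G'|², and the subgroups attaining it (the centrally large subgroups) are exactly the non-abelian subgroups together with the maximal abelian subgroups of G. -/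
theorem result {G : Type*} [Group G] [Finite G] {p : ℕ} [Fact p.Prime] (hp : p ≠ 2) (hG : IsPGroup p G) (hmc : Cfsg.IsMetacyclic G) : Cfsg.maxCentralProduct G = (commutator G).index ^ 2 ∧
    ∀ R : Subgroup G, Cfsg.IsCentrallyLarge R ↔ (¬ IsMulCommutative ↥R ∨ Maximal (fun K : Subgroup G => IsMulCommutative ↥K) R) := by
  have hI : 0 < (commutator G).index := Nat.pos_of_ne_zero Subgroup.index_ne_zero_of_finite
  have hle : ∀ R : Subgroup G, Nat.card ↥R * Nat.card ↥(Subgroup.center ↥R) ≤ (commutator G).index ^ 2 := by
    intro R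
    by_cases hR : IsMulCommutative ↥R
    · rw [f_ab R hR]
      exact Nat.pow_le_pow_left ((isMulCommutative_iff_card_le hp hG hmc R).mp hR) 2
    · rw [f_nonab hp hG hmc R hR]
  have htop : Nat.card ↥(⊤ : Subgroup G) * Nat.card ↥(Subgroup.center ↥(⊤ : Subgroup G)) =
      (commutator G).index ^ 2 := by
    by_cases hR : IsMulCommutative ↥(⊤ : Subgroup G)
    · rw [f_ab _ hR, Subgroup.card_top]
      have hGab : IsMulCommutative G := by
        refine ⟨⟨fun a b => ?_⟩⟩
        have := mul_comm' (⟨a, Subgroup.mem_top a⟩ : ↥(⊤ : Subgroup G)) ⟨b, Subgroup.mem_top b⟩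
        exact congrArg Subtype.val this
      have hbot : commutator G = ⊥ := by
        rw [eq_bot_iff, ← Subgroup.Normal.quotient_commutative_iff_commutator_le]
        refine ⟨⟨fun a b => ?_⟩⟩
        induction a using QuotientGroup.induction_on with
        | H a =>
        induction b using QuotientGroup.induction_on with
        | H b =>
        rw [← QuotientGroup.mk_mul, ← QuotientGroup.mk_mul, mul_comm' a b]
      rw [hbot, Subgroup.index_bot]
    · exact f_nonab hp hG hmc _ hR
  have hmax : Cfsg.maxCentralProduct G = (commutator G).index ^ 2 := by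
    unfold Cfsg.maxCentralProduct
    apply le_antisymm
    · apply csSup_le
      · exact ⟨_, ⊤, rfl⟩
      · rintro k ⟨R, rfl⟩
        exact hle R
    · apply le_csSup
      · refine ⟨(commutator G).index ^ 2, ?_⟩
        rintro k ⟨R, rfl⟩
        exact hle R
      · exact ⟨⊤, htop⟩
  refine ⟨hmax, fun R => ?_⟩
  unfold Cfsg.IsCentrallyLarge
  rw [hmax]
  by_cases hR : IsMulCommutative ↥R
  · rw [f_ab R hR, maximal_isMulCommutative_iff_card_eq hp hG hmc R]
    constructor
    · intro h
      right
      exact Nat.pow_left_injective (n := 2) (by norm_num) h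
    · rintro (h | h)
      · exact absurd hR h
      · rw [h]
  · rw [f_nonab hp hG hmc R hR]
    exact ⟨fun _ => Or.inl hR, fun _ => rfl⟩

end Cfsg.Agent.S3886
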