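import Cfsg.Statements.S3889

set_option autoImplicit false
open Cfsg

namespace Cfsg.Agent.S3889

/-- A finite abelian group that is the union of a family of proper subgroups any two of which intersect trivially is elementary abelian: its exponent is a prime. -/
theorem result {G : Type*} [CommGroup G] [Finite G] (𝓑 : Set (Subgroup G)) (hprop : ∀ B ∈ 𝓑, B ≠ ⊤)
    (hcov : ∀ g : G, ∃ B ∈ 𝓑, g ∈ B) (hdisj : ∀ B ∈ 𝓑, ∀ C ∈ 𝓑, B ≠ C → B ⊓ C = ⊥) :
    (Monoid.exponent G).Prime := by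
  have key : ∀ A ∈ 𝓑, ∀ a ∈ A, ∀ b, b ∉ A → orderOf a ∣ orderOf b := by
    intro A hA a ha b hb
    obtain ⟨C, hC, hab⟩ := hcov (a * b)
    have hCA : C ≠ A := by
      rintro rfl
      apply hb
      have := C.mul_mem (C.inv_mem ha) hab
      simpa using this
    have h1 : (a * b) ^ orderOf b = a ^ orderOf b := by
      rw [mul_pow, pow_orderOf_eq_one, mul_one]
    have h2 : a ^ orderOf b ∈ A ⊓ C := ⟨A.pow_mem ha _, h1 ▸ C.pow_mem hab _⟩
    rw [hdisj A hA C hC hCA.symm] at h2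
    exact orderOf_dvd_of_pow_eq_one (Subgroup.mem_bot.mp h2)
  have key2 : ∀ x y : G, (∀ A ∈ 𝓑, x ∈ A → y ∉ A) → orderOf x = orderOf y := by
    intro x y hsep
    obtain ⟨A, hA, hxA⟩ := hcov x
    obtain ⟨B, hB, hyB⟩ := hcov y
    have hyA := hsep A hA hxA
    have hxB : x ∉ B := fun h => hsep B hB h hyB
    exact Nat.dvd_antisymm (key A hA x hxA y hyA) (key B hB y hyB x hxB)
  have hsepA : ∀ A ∈ 𝓑, ∀ x ∈ A, x ≠ 1 → ∀ z, z ∉ A → ∀ A' ∈ 𝓑, x ∈ A' → z ∉ A' := by
    intro A hA x hxA hx z hz A' hA' hxA'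
    by_cases hAA : A = A'
    · rw [← hAA]; exact hz
    · exfalso
      have : x ∈ A ⊓ A' := ⟨hxA, hxA'⟩
      rw [hdisj A hA A' hA' hAA] at this
      exact hx (Subgroup.mem_bot.mp this)
  have key3 : ∀ x y : G, x ≠ 1 → y ≠ 1 → orderOf x = orderOf y := by
    intro x y hx hy
    by_cases h : ∀ A ∈ 𝓑, x ∈ A → y ∉ A
    · exact key2 x y h
    · push Not at h
      obtain ⟨A, hA, hxA, hyA⟩ := h
      obtain ⟨z, hz⟩ : ∃ z, z ∉ A := by
        by_contra hcon
        push Not at hcon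
        exact hprop A hA (eq_top_iff.mpr fun g _ => hcon g)
      rw [key2 x z (hsepA A hA x hxA hx z hz), key2 y z (hsepA A hA y hyA hy z hz)]
  -- G is nontrivial
  obtain ⟨A₀, hA₀, -⟩ := hcov 1
  obtain ⟨g, hg⟩ : ∃ z, z ∉ A₀ := by
    by_contra hcon
    push Not at hcon
    exact hprop A₀ hA₀ (eq_top_iff.mpr fun g _ => hcon g)
  have hg1 : g ≠ 1 := fun h => hg (h ▸ A₀.one_mem)
  -- orderOf g is prime
  have hgpos : 0 < orderOf g := orderOf_pos g
  have hgne1 : orderOf g ≠ 1 := fun h => hg1 (orderOf_eq_one_iff.mp h)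
  have hprime : (orderOf g).Prime := by
    obtain ⟨p, hp, hpd⟩ := Nat.exists_prime_and_dvd hgne1
    obtain ⟨k, hk⟩ := hpd
    -- g^k has order p
    have hkpos : 0 < k := by
      rcases Nat.eq_zero_or_pos k with h | h
      · rw [h, mul_zero] at hk; omega
      · exact h
    have hord : orderOf (g ^ k) = p := by
      rw [orderOf_pow' g hkpos.ne', hk, Nat.gcd_eq_right (Dvd.intro_left p rfl), Nat.mul_div_cancel _ hkpos]
    have hgk1 : g ^ k ≠ 1 := by
      intro h
      rw [h, orderOf_one] at hord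
      exact hp.one_lt.ne hord
    rw [key3 g (g ^ k) hg1 hgk1, hord]
    exact hp
  have hexp : Monoid.exponent G = orderOf g := by
    apply Nat.dvd_antisymm
    · apply Monoid.exponent_dvd_of_forall_pow_eq_one
      intro x
      by_cases hx : x = 1
      · rw [hx, one_pow]
      · rw [key3 g x hg1 hx, pow_orderOf_eq_one]
    · exact Monoid.order_dvd_exponent g
  rw [hexp]
  exact hprime

end Cfsg.Agent.S3889
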