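import Cfsg.Statements.S3890
import Cfsg.Agent.Lib.Helper17.NilCover
open Cfsg.Agent.Lib.Helper17.NilCover

set_option autoImplicit false
open Cfsg

namespace Cfsg.Agent.S3890

/-- A cover of a group is a finite set of proper subgroups whose union is the whole group; it is minimal when no cover has fewer members, and nilpotent when all its members are nilpotent. Let G be a finite group with trivial center admitting a nilpotent minimal cover 𝓐, and let P be an abelian Sylow p-subgroup of G that is not normal. Then either P is elementary abelian of order greater than p, or P is a Sylow p-subgroup of some member A of 𝓐, the normalizer N of P is a maximal subgroup of G, N meets each of its conjugates by elements outside N in a subgroup of order prime to p, and the centralizer of P equals A. -/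
theorem result {G : Type*} [Group G] [Finite G] (hZ : Subgroup.center G = ⊥) (𝓐 : Finset (Subgroup G))
    (h𝓐 : ((∀ A ∈ 𝓐, A ≠ ⊤) ∧ (∀ g : G, ∃ A ∈ 𝓐, g ∈ A)) ∧ (∀ 𝓑 : Finset (Subgroup G), (∀ A ∈ 𝓑, A ≠ ⊤) ∧ (∀ g : G, ∃ A ∈ 𝓑, g ∈ A) → 𝓐.card ≤ 𝓑.card) ∧ (∀ A ∈ 𝓐, Group.IsNilpotent ↥A)) {p : ℕ} [Fact p.Prime] (P : Sylow p G) (hab : IsMulCommutative ↥(P : Subgroup G))
    (hnn : ¬ (P : Subgroup G).Normal) :
    (Cfsg.IsElementaryAbelian p (P : Subgroup G) ∧ p < Nat.card ↥(P : Subgroup G)) ∨
    (∃ A ∈ 𝓐, (P : Subgroup G) ≤ A ∧ ¬ p ∣ ((P : Subgroup G).subgroupOf A).index ∧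
      IsCoatom (Subgroup.normalizer ((P : Subgroup G) : Set G)) ∧
      (∀ g : G, g ∉ Subgroup.normalizer ((P : Subgroup G) : Set G) →
        ¬ p ∣ Nat.card ↥(Subgroup.normalizer ((P : Subgroup G) : Set G) ⊓
          (Subgroup.normalizer ((P : Subgroup G) : Set G)).map (MulAut.conj g).toMonoidHom)) ∧
      Subgroup.centralizer ((P : Subgroup G) : Set G) = A) := by
  classical
  have h : NMC 𝓐 := ⟨h𝓐.1.1, h𝓐.1.2, h𝓐.2.1, h𝓐.2.2⟩
  have hpp : p.Prime := Fact.out
  have hP1 : (P : Subgroup G) ≠ ⊥ := by
    intro hb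
    apply hnn
    rw [hb]
    exact Subgroup.normal_bot
  have hab' : ∀ a ∈ (P : Subgroup G), ∀ b ∈ (P : Subgroup G), a * b = b * a := by
    intro a ha b hb
    have := hab.is_comm.comm (⟨a, ha⟩ : ↥(P : Subgroup G)) ⟨b, hb⟩
    exact congrArg Subtype.val this
  by_cases hcase : (∀ a ∈ (P : Subgroup G), a ^ p = 1) ∧ p < Nat.card ↥(P : Subgroup G)
  · left
    exact ⟨⟨hab, hcase.1⟩, hcase.2⟩
  right
  have hS : Shape P := by
    by_cases hexp : ∀ a ∈ (P : Subgroup G), a ^ p = 1
    · left
      have hle : Nat.card ↥(P : Subgroup G) ≤ p := by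
        by_contra hlt
        exact hcase ⟨hexp, by omega⟩
      obtain ⟨n, hn⟩ := IsPGroup.iff_card.mp P.2
      have hn0 : n ≠ 0 := by
        intro h0
        rw [h0, pow_zero] at hn
        exact hP1 ((Subgroup.card_eq_one).mp hn)
      have hcard : Nat.card ↥(P : Subgroup G) = p := by
        apply le_antisymm hle
        rw [hn]
        calc p = p ^ 1 := (pow_one p).symm
          _ ≤ p ^ n := Nat.pow_le_pow_right hpp.pos (Nat.one_le_iff_ne_zero.mpr hn0)
      have hc : IsCyclic ↥(P : Subgroup G) := isCyclic_of_prime_card hcard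
      obtain ⟨⟨x, hx⟩, hgen⟩ := hc.exists_generator
      refine ⟨x, hx, fun y hy => ?_⟩
      have := hgen ⟨y, hy⟩
      obtain ⟨k, hk⟩ := Subgroup.mem_zpowers_iff.mp this
      refine Subgroup.mem_zpowers_iff.mpr ⟨k, ?_⟩
      have := congrArg Subtype.val hk
      simpa using this
    · right
      push Not at hexp
      exact hexp
  have hPle : (P : Subgroup G) ≤ Subgroup.centralizer ((P : Subgroup G) : Set G) := by
    intro a ha
    rw [Subgroup.mem_centralizer_iff]
    intro b hb
    exact hab' b hb a ha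
  refine ⟨Subgroup.centralizer ((P : Subgroup G) : Set G), centralizer_mem h hZ P hab' hS hP1, hPle, ?_,
    isCoatom_normalizer h hZ P hab' hS hP1 hnn, ?_, rfl⟩
  · intro hdvd
    have h1 : ((P : Subgroup G).subgroupOf (Subgroup.centralizer ((P : Subgroup G) : Set G))).index ∣
        (P : Subgroup G).index := by
      have := Subgroup.relIndex_mul_index hPle
      exact Dvd.intro _ this
    exact P.not_dvd_index (dvd_trans hdvd h1)
  · intro g hg
    exact not_dvd_card_inf h hZ P hab' hS hP1 g hg

end Cfsg.Agent.S3890
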