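import Cfsg.Statements.S3908
import Cfsg.Agent.Lib.Helper9.OrderPSq

set_option autoImplicit false
open Cfsg

namespace Cfsg.Agent.S3908

/-- Let G be a finite group in which any two abelian subgroups of the same order are conjugate. Then a Sylow 2-subgroup of G is cyclic, elementary abelian or generalized quaternion, and for an odd prime p a Sylow p-subgroup of G is cyclic or has exponent dividing p. -/
theorem result {G : Type*} [Group G] [Finite G] (hB : ∀ A B : Subgroup G, IsMulCommutative ↥A → IsMulCommutative ↥B → Nat.card ↥A = Nat.card ↥B → ∃ g : G, B = A.map (MulAut.conj g).toMonoidHom) :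
    (∀ P : Sylow 2 G, IsCyclic ↥(P : Subgroup G) ∨ Cfsg.IsElementaryAbelian 2 (P : Subgroup G) ∨ ∃ k : ℕ, Nonempty (↥(P : Subgroup G) ≃* QuaternionGroup (2 ^ k))) ∧
    ∀ (p : ℕ) [Fact p.Prime], p ≠ 2 → ∀ P : Sylow p G, IsCyclic ↥(P : Subgroup G) ∨ ∀ x ∈ (P : Subgroup G), x ^ p = 1 := by
  have hconj : ∀ (p : ℕ) [Fact p.Prime], ∀ A B : Subgroup G, Nat.card A = p ^ 2 → Nat.card B = p ^ 2 →
      ∃ g : G, B = A.map (MulAut.conj g).toMonoidHom := by
    intro p _ A B hA hB'
    have hAc : IsMulCommutative ↥A := ⟨⟨IsPGroup.commutative_of_card_eq_prime_sq hA⟩⟩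
    have hBc : IsMulCommutative ↥B := ⟨⟨IsPGroup.commutative_of_card_eq_prime_sq hB'⟩⟩
    exact hB A B hAc hBc (by rw [hA, hB'])
  constructor
  · intro P
    rcases Cfsg.Agent.Lib.Helper9.sylow_uniqueOrderP_or_exponent P (hconj 2) with h | h
    · rcases Cfsg.Agent.Lib.Lead.UniqueSubgroup.cyclic_or_quaternion P.2 h with h1 | ⟨_, n, hn⟩
      · exact Or.inl h1
      · exact Or.inr (Or.inr ⟨n, hn⟩)
    · right; left
      refine ⟨⟨⟨?_⟩⟩, h⟩
      intro a b
      have ha : (a : G) ^ 2 = 1 := h a a.2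
      have hb : (b : G) ^ 2 = 1 := h b b.2
      have hab : ((a : G) * b) ^ 2 = 1 := h _ ((P : Subgroup G).mul_mem a.2 b.2)
      apply Subtype.ext
      rw [Subgroup.coe_mul, Subgroup.coe_mul]
      have e1 : (a : G)⁻¹ = a := by rw [inv_eq_iff_mul_eq_one, ← sq, ha]
      have e2 : (b : G)⁻¹ = b := by rw [inv_eq_iff_mul_eq_one, ← sq, hb]
      have e3 : ((a : G) * b)⁻¹ = a * b := by rw [inv_eq_iff_mul_eq_one, ← sq, hab]
      rw [← e3, mul_inv_rev, e1, e2]
  · intro p _ hp2 P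
    rcases Cfsg.Agent.Lib.Helper9.sylow_uniqueOrderP_or_exponent P (hconj p) with h | h
    · rcases Cfsg.Agent.Lib.Lead.UniqueSubgroup.cyclic_or_quaternion P.2 h with h1 | ⟨h2, _⟩
      · exact Or.inl h1
      · exact absurd h2 hp2
    · exact Or.inr h

end Cfsg.Agent.S3908
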