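import Cfsg.Statements.S3909
import Mathlib
-- import your own Cfsg.Agent.* helpers here

set_option autoImplicit false
open Cfsg

namespace Cfsg.Agent.S3909

/-- Let G be a finite group in which any two abelian subgroups of the same order are conjugate. Let M be a normal subgroup of G. If M contains an element of the same order as a ∈ G, then a ∈ M; and if M is elementary abelian of order p^t with p prime and t ≥ 2, then M is the unique Sylow p-subgroup of G. -/
theorem result {G : Type*} [Group G] [Finite G] (hB : ∀ A B : Subgroup G, IsMulCommutative ↥A → IsMulCommutative ↥B → Nat.card ↥A = Nat.card ↥B → ∃ g : G, B = A.map (MulAut.conj g).toMonoidHom) (M : Subgroup G) [M.Normal] :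
    (∀ a : G, (∃ m ∈ M, orderOf m = orderOf a) → a ∈ M) ∧
    ∀ (p t : ℕ) [Fact p.Prime], 2 ≤ t → Nat.card ↥M = p ^ t → Cfsg.IsElementaryAbelian p M → ∀ P : Sylow p G, (P : Subgroup G) = M := by
  classical
  -- part (a)
  have hA : ∀ a : G, (∃ m ∈ M, orderOf m = orderOf a) → a ∈ M := by
    rintro a ⟨m, hm, hord⟩
    have hc1 : IsMulCommutative ↥(Subgroup.zpowers m) := inferInstance
    have hc2 : IsMulCommutative ↥(Subgroup.zpowers a) := inferInstance
    have hcard : Nat.card ↥(Subgroup.zpowers m) = Nat.card ↥(Subgroup.zpowers a) := by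
      rw [Nat.card_zpowers, Nat.card_zpowers, hord]
    obtain ⟨g, hg⟩ := hB _ _ hc1 hc2 hcard
    have ha : a ∈ Subgroup.zpowers a := Subgroup.mem_zpowers a
    rw [hg] at ha
    obtain ⟨x, hx, rfl⟩ := ha
    have hxM : x ∈ M := (Subgroup.zpowers_le.mpr hm) hx
    show g * x * g⁻¹ ∈ M
    exact (inferInstance : M.Normal).conj_mem x hxM g
  refine ⟨hA, ?_⟩
  intro p t _ ht hcard hel P
  have hp : p.Prime := Fact.out
  -- M has an element of order p
  have hpM : p ∣ Nat.card ↥M := by rw [hcard]; exact dvd_pow_self p (by omega)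
  obtain ⟨m₀, hm₀⟩ := exists_prime_orderOf_dvd_card' p hpM
  have hm₀' : orderOf (m₀ : G) = p := by rw [← hm₀]; exact Subgroup.orderOf_coe m₀
  -- M ≤ P
  have hMp : IsPGroup p ↥M := IsPGroup.of_card hcard
  have hMP : M ≤ (P : Subgroup G) := hMp.le_sylow_of_normal P
  -- a subgroup E ≤ M of order p^2
  have hp2 : p ^ 2 ∣ Nat.card ↥M := by rw [hcard]; exact pow_dvd_pow p ht
  obtain ⟨E', hE'⟩ := Sylow.exists_subgroup_card_pow_prime p hp2
  set E : Subgroup G := E'.map M.subtype with hE
  have hEcard : Nat.card ↥E = p ^ 2 := by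
    rw [hE, Subgroup.card_map_of_injective M.subtype_injective]; exact hE'
  have hEM : E ≤ M := by
    rw [hE]; exact Subgroup.map_subtype_le E'
  have hMc : IsMulCommutative ↥M := hel.1
  have hEc : IsMulCommutative ↥E :=
    ⟨⟨fun x y => Subtype.ext (by
      have := congrArg Subtype.val (hMc.is_comm.comm ⟨x.1, hEM x.2⟩ ⟨y.1, hEM y.2⟩)
      simpa using this)⟩⟩
  apply le_antisymm _ hMP
  intro x hx
  -- order of x is p^k
  obtain ⟨k, hk⟩ := (IsPGroup.iff_orderOf.mp P.2) ⟨x, hx⟩
  have hk' : orderOf x = p ^ k := by rw [← hk]; exact (Subgroup.orderOf_mk x hx).symm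
  rcases Nat.lt_or_ge k 2 with hk2 | hk2
  · interval_cases k
    · rw [pow_zero, orderOf_eq_one_iff] at hk'
      rw [hk']; exact M.one_mem
    · rw [pow_one] at hk'
      exact hA x ⟨m₀, m₀.2, by rw [hm₀', hk']⟩
  · exfalso
    -- y = x^(p^(k-2)) has order p^2
    set y := x ^ (p ^ (k - 2)) with hy
    have hyord : orderOf y = p ^ 2 := by
      rw [hy, orderOf_pow, hk', Nat.gcd_eq_right (pow_dvd_pow p (by omega))]
      rw [Nat.pow_div (by omega) hp.pos]
      congr 1; omega
    have hcy : IsMulCommutative ↥(Subgroup.zpowers y) := inferInstance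
    have hcardy : Nat.card ↥(Subgroup.zpowers y) = Nat.card ↥E := by
      rw [Nat.card_zpowers, hyord, hEcard]
    obtain ⟨g, hg⟩ := hB _ _ hcy hEc hcardy
    have : g * y * g⁻¹ ∈ E := by
      rw [hg]; exact ⟨y, Subgroup.mem_zpowers y, rfl⟩
    have h1 : (g * y * g⁻¹) ^ p = 1 := hel.2 _ (hEM this)
    rw [conj_pow] at h1
    have h2 : y ^ p = 1 := by
      have := congrArg (fun z => g⁻¹ * z * g) h1
      simpa [mul_assoc] using this
    have h3 : orderOf y ∣ p := orderOf_dvd_of_pow_eq_one h2
    rw [hyord] at h3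
    have h4 : p ^ 2 ≤ p := Nat.le_of_dvd hp.pos h3
    have h5 : p < p ^ 2 := by
      calc p = p ^ 1 := (pow_one p).symm
        _ < p ^ 2 := Nat.pow_lt_pow_right hp.one_lt (by norm_num)
    omega

end Cfsg.Agent.S3909
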