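import Cfsg.Statements.S3910
import Mathlib
import Cfsg.Agent.Lib.Helper3.QuatSylow
import Cfsg.Agent.Lib.Helper2.NilpotentCoprime
import Cfsg.Agent.Lib.Helper2.NilpotentBasic
import Cfsg.Agent.Lib.Lead.UniqueSubgroup
import Cfsg.Agent.Lib.Helper12.Generation
-- import your own Cfsg.Agent.* helpers here

set_option autoImplicit false
open Cfsg

namespace Cfsg.Agent.S3910

open Cfsg.Agent.Lib.Helper3 in
/-- In a quaternion group `Q_{2^(m+1)}` there are elements `u` (in the cyclic part) and `v = xa 0`
of order `4` with `quatSign u = 1`, `quatSign v = -1`. -/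
theorem quat_order_four (m : ℕ) :
    ∃ u v : QuaternionGroup (2 ^ (m + 1)), orderOf u = 4 ∧ orderOf v = 4 ∧
      quatSign _ u = 1 ∧ quatSign _ v = -1 := by
  have hne : NeZero (2 ^ (m + 1)) := ⟨by positivity⟩
  refine ⟨QuaternionGroup.a ((2 ^ m : ℕ) : ZMod (2 * 2 ^ (m + 1))), QuaternionGroup.xa 0, ?_,
    QuaternionGroup.orderOf_xa 0, rfl, rfl⟩
  have h4 : (4 : ℕ) = 2 ^ (1 + 1) := by norm_num
  rw [h4]
  apply orderOf_eq_prime_pow
  · rw [pow_one, sq, QuaternionGroup.a_mul_a, QuaternionGroup.one_def]
    intro h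
    have h1 := QuaternionGroup.a.inj h
    have h2 : ((2 ^ (m + 1) : ℕ) : ZMod (2 * 2 ^ (m + 1))) = 0 := by
      rw [← h1]; push_cast; ring
    rw [ZMod.natCast_eq_zero_iff] at h2
    have h3 := Nat.le_of_dvd (by positivity) h2
    have : 0 < 2 ^ (m + 1) := by positivity
    omega
  · have h5 : (2 : ℕ) ^ (1 + 1) = 2 * 2 := by norm_num
    rw [h5, pow_mul]
    simp only [sq, QuaternionGroup.a_mul_a]
    rw [QuaternionGroup.one_def]
    congr 1
    have h2 : ((2 * 2 ^ (m + 1) : ℕ) : ZMod (2 * 2 ^ (m + 1))) = 0 := ZMod.natCast_self _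
    rw [← h2]; push_cast; ring

/-- A finite commutative group with at most one subgroup of each prime order is cyclic. -/
theorem isCyclic_of_comm_of_unique {H : Type*} [CommGroup H] [Finite H]
    (huniq : ∀ p : ℕ, p.Prime → ∀ A B : Subgroup H, Nat.card A = p → Nat.card B = p → A = B) :
    IsCyclic H := by
  by_contra hnc
  obtain ⟨p, hp, x, y, hx, hy, hx1, hyx⟩ := Cfsg.Agent.Lib.Helper12.exists_rank_two hnc
  have : Fact p.Prime := ⟨hp⟩
  have hox : orderOf x = p := orderOf_eq_prime hx hx1
  have hy1 : y ≠ 1 := by rintro rfl; exact hyx (Subgroup.one_mem _)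
  have hoy : orderOf y = p := orderOf_eq_prime hy hy1
  have h1 : Nat.card (Subgroup.zpowers x) = p := by rw [Nat.card_zpowers, hox]
  have h2 : Nat.card (Subgroup.zpowers y) = p := by rw [Nat.card_zpowers, hoy]
  have := huniq p hp _ _ h1 h2
  apply hyx
  rw [this]
  exact Subgroup.mem_zpowers y

/-- A finite nilpotent group in which any two abelian subgroups of the same order are conjugate is cyclic. -/
theorem result {G : Type*} [Group G] [Finite G] (hB : ∀ A B : Subgroup G, IsMulCommutative ↥A → IsMulCommutative ↥B → Nat.card ↥A = Nat.card ↥B → ∃ g : G, B = A.map (MulAut.conj g).toMonoidHom) (hnil : Group.IsNilpotent G) : IsCyclic G := by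
  classical
  -- Step 1: at most one subgroup of each prime order
  have huniq : ∀ p : ℕ, p.Prime → ∀ H K : Subgroup G, Nat.card H = p → Nat.card K = p → H = K := by
    intro p hp H K hH hK
    have : Fact p.Prime := ⟨hp⟩
    obtain ⟨P⟩ : Nonempty (Sylow p G) := inferInstance
    have hPn : (P : Subgroup G).Normal := inferInstance
    have hPne : (P : Subgroup G) ≠ ⊥ := by
      have hdvd : p ∣ Nat.card G := hH ▸ Subgroup.card_subgroup_dvd_card H
      intro hbot
      have h1 := P.card_eq_multiplicity
      rw [hbot, Subgroup.card_bot] at h1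
      have hk : 0 < (Nat.card G).factorization p :=
        hp.factorization_pos_of_dvd Nat.card_pos.ne' hdvd
      have := Nat.one_lt_pow hk.ne' hp.one_lt
      omega
    have hZne := Cfsg.Agent.Lib.Helper2.normal_inf_center_ne_bot (P : Subgroup G) hPne
    have hpg : IsPGroup p ↥((P : Subgroup G) ⊓ Subgroup.center G) := P.isPGroup'.to_le inf_le_left
    have hnt : Nontrivial ↥((P : Subgroup G) ⊓ Subgroup.center G) :=
      (Subgroup.nontrivial_iff_ne_bot _).mpr hZne
    obtain ⟨k, hk0, hk⟩ := hpg.nontrivial_iff_card.mp hnt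
    obtain ⟨z, hz⟩ := exists_prime_orderOf_dvd_card'
      (G := ↥((P : Subgroup G) ⊓ Subgroup.center G)) p (by rw [hk]; exact dvd_pow_self p hk0.ne')
    have hZcard : Nat.card (Subgroup.zpowers (z : G)) = p := by
      rw [Nat.card_zpowers, Subgroup.orderOf_coe, hz]
    have hzc : (z : G) ∈ Subgroup.center G := z.2.2
    have hZconj : ∀ g : G, (Subgroup.zpowers (z : G)).map (MulAut.conj g).toMonoidHom =
        Subgroup.zpowers (z : G) := by
      intro g
      rw [MonoidHom.map_zpowers]
      congr 1
      rw [Subgroup.mem_center_iff] at hzc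
      show g * (z : G) * g⁻¹ = z
      rw [hzc g]; group
    have key : ∀ H : Subgroup G, Nat.card H = p → H = Subgroup.zpowers (z : G) := by
      intro H hH
      have hHc : IsCyclic H := isCyclic_of_prime_card hH
      obtain ⟨g, hg⟩ := hB (Subgroup.zpowers (z : G)) H inferInstance inferInstance
        (by rw [hZcard, hH])
      rw [hg, hZconj]
    rw [key H hH, key K hK]
  -- Step 2: every Sylow subgroup is cyclic
  have hsyl : ∀ (p : ℕ) [Fact p.Prime] (P : Sylow p G), IsCyclic (P : Subgroup G) := by
    intro p _ P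
    have hP : IsPGroup p ↥(P : Subgroup G) := P.isPGroup'
    have hu : Cfsg.Agent.Lib.Lead.UniqueOrderP.UniqueOrderP p ↥(P : Subgroup G) := by
      apply Cfsg.Agent.Lib.Lead.UniqueOrderP.UniqueOrderP.subgroup
      exact huniq p Fact.out
    rcases Cfsg.Agent.Lib.Lead.UniqueSubgroup.cyclic_or_quaternion hP hu with
      hc | ⟨rfl, n, ⟨e⟩⟩
    · exact hc
    · rcases Nat.eq_zero_or_pos n with rfl | hn
      · have h1 : IsCyclic (QuaternionGroup (2 ^ 0)) := by
          rw [pow_zero]; exact QuaternionGroup.quaternionGroup_one_isCyclic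
        exact isCyclic_of_surjective e.symm e.symm.surjective
      · exfalso
        obtain ⟨m, rfl⟩ : ∃ m, n = m + 1 := ⟨n - 1, by omega⟩
        obtain ⟨u, v, hu4, hv4, hsu, hsv⟩ := quat_order_four m
        have hPn : (P : Subgroup G).Normal := inferInstance
        -- the two subgroups of order 4
        have hU : orderOf ((e.symm u : ↥(P : Subgroup G)) : G) = 4 := by
          rw [Subgroup.orderOf_coe, e.symm.orderOf_eq, hu4]
        have hV : orderOf ((e.symm v : ↥(P : Subgroup G)) : G) = 4 := by
          rw [Subgroup.orderOf_coe, e.symm.orderOf_eq, hv4]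
        obtain ⟨g, hg⟩ := hB (Subgroup.zpowers ((e.symm u : ↥(P : Subgroup G)) : G))
          (Subgroup.zpowers ((e.symm v : ↥(P : Subgroup G)) : G)) inferInstance inferInstance
          (by rw [Nat.card_zpowers, Nat.card_zpowers, hU, hV])
        have hVmem : ((e.symm v : ↥(P : Subgroup G)) : G) ∈
            (Subgroup.zpowers ((e.symm u : ↥(P : Subgroup G)) : G)).map
              (MulAut.conj g).toMonoidHom := by
          rw [← hg]; exact Subgroup.mem_zpowers _
        obtain ⟨w, hw, hwV⟩ := hVmem
        obtain ⟨t, rfl⟩ := Subgroup.mem_zpowers_iff.mp hw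
        -- decompose g
        obtain ⟨a, b, ha, hb, hgab, ⟨k, hak⟩, hbcop⟩ :=
          Cfsg.Agent.Lib.Helper2.exists_p_decomp g 2 Nat.prime_two
        -- a ∈ P
        have haP : a ∈ (P : Subgroup G) := by
          have hap : IsPGroup 2 (Subgroup.zpowers a) := by
            obtain ⟨j, _, hj⟩ := (Nat.dvd_prime_pow Nat.prime_two).mp hak
            apply IsPGroup.of_card (n := j)
            rw [Nat.card_zpowers, hj]
          obtain ⟨Q, hQ⟩ := hap.exists_le_sylow
          have : Subsingleton (Sylow 2 G) := (Sylow.unique_of_normal P hPn).instSubsingleton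
          rw [Subsingleton.elim P Q]
          exact hQ (Subgroup.mem_zpowers a)
        -- b commutes with w
        have hwP : ((e.symm u : ↥(P : Subgroup G)) : G) ^ t ∈ (P : Subgroup G) :=
          (P : Subgroup G).zpow_mem (e.symm u).2 t
        have hbw : b * ((e.symm u : ↥(P : Subgroup G)) : G) ^ t =
            ((e.symm u : ↥(P : Subgroup G)) : G) ^ t * b := by
          apply Cfsg.Agent.Lib.Helper2.commute_of_coprime_orderOf
          have h1 : orderOf (((e.symm u : ↥(P : Subgroup G)) : G) ^ t) ∣ 2 ^ 2 := by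
            have : orderOf (((e.symm u : ↥(P : Subgroup G)) : G) ^ t) ∣
                orderOf ((e.symm u : ↥(P : Subgroup G)) : G) := by
              apply orderOf_dvd_of_pow_eq_one
              rw [← zpow_natCast, ← zpow_mul, mul_comm, zpow_mul, zpow_natCast,
                pow_orderOf_eq_one, one_zpow]
            rw [hU] at this
            exact this
          exact Nat.Coprime.coprime_dvd_right h1 (Nat.Coprime.pow_right 2 hbcop)
        -- so V = a * w * a⁻¹
        have hVa : ((e.symm v : ↥(P : Subgroup G)) : G) =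
            a * ((e.symm u : ↥(P : Subgroup G)) : G) ^ t * a⁻¹ := by
          rw [← hwV]
          show g * _ * g⁻¹ = _
          rw [hgab]
          calc a * b * ((e.symm u : ↥(P : Subgroup G)) : G) ^ t * (a * b)⁻¹
              = a * (b * ((e.symm u : ↥(P : Subgroup G)) : G) ^ t) * b⁻¹ * a⁻¹ := by group
            _ = a * (((e.symm u : ↥(P : Subgroup G)) : G) ^ t * b) * b⁻¹ * a⁻¹ := by rw [hbw]
            _ = a * ((e.symm u : ↥(P : Subgroup G)) : G) ^ t * a⁻¹ := by group
        have hVa' : e.symm v = ⟨a, haP⟩ * (e.symm u) ^ t * ⟨a, haP⟩⁻¹ := by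
          apply Subtype.ext
          rw [hVa]
          simp
        have h5 := congrArg (fun x => Cfsg.Agent.Lib.Helper3.quatSign _ (e x)) hVa'
        simp only [map_mul, map_inv, map_zpow, MulEquiv.apply_symm_apply, hsu, hsv, one_zpow,
          mul_one, mul_inv_cancel] at h5
        exact absurd h5 (by decide)
  -- Step 3: G is commutative, hence cyclic
  obtain ⟨eprod⟩ := ((Group.isNilpotent_of_finite_tfae (G := G)).out 0 4).mp hnil
  have hcomm : ∀ x y : G, x * y = y * x := by
    intro x y
    obtain ⟨u, rfl⟩ := eprod.surjective x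
    obtain ⟨v, rfl⟩ := eprod.surjective y
    rw [← map_mul, ← map_mul]
    congr 1
    funext p P
    have : Fact (p : ℕ).Prime := ⟨Nat.prime_of_mem_primeFactors p.2⟩
    have := hsyl p P
    show u p P * v p P = v p P * u p P
    exact mul_comm' _ _
  letI : CommGroup G := { ‹Group G› with mul_comm := hcomm }
  exact isCyclic_of_comm_of_unique huniq

end Cfsg.Agent.S3910
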