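import Cfsg.Statements.S3911
-- import your own Cfsg.Agent.* helpers here
import Mathlib
import Cfsg.Agent.S3908
import Cfsg.Agent.S3909
import Cfsg.Agent.Lib.Helper20.CyclicSylow

set_option autoImplicit false
open Cfsg

namespace Cfsg.Agent.S3911

theorem sylow_normal_of_min {H : Type*} [Group H] [Finite H] (K : Subgroup H)
    (hab : ∀ a b : H, a * b * a⁻¹ * b⁻¹ ∈ K)
    (hmin : ∀ X : Subgroup H, X ⊔ K = ⊤ → X = ⊤) {p : ℕ} [Fact p.Prime] (Q : Sylow p H) :
    (Q : Subgroup H).Normal := by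
  have hLn : ((Q : Subgroup H) ⊔ K).Normal := by
    constructor
    intro x hx g
    have : g * x * g⁻¹ = (g * x * g⁻¹ * x⁻¹) * x := by group
    rw [this]
    exact mul_mem ((le_sup_right : K ≤ (Q : Subgroup H) ⊔ K) (hab g x)) hx
  have h1 := Sylow.normalizer_sup_eq_top' Q (N := (Q : Subgroup H) ⊔ K) le_sup_left
  have h2 : Subgroup.normalizer ((Q : Subgroup H) : Set H) ⊔ K = ⊤ := by
    rw [eq_top_iff]
    calc (⊤ : Subgroup H) = _ := h1.symm
      _ ≤ _ := sup_le le_sup_left (sup_le (le_trans Subgroup.le_normalizer le_sup_left) le_sup_right)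
  exact Subgroup.normalizer_eq_top_iff.mp (hmin _ h2)

theorem sylow_eq_bot_of_le {H : Type*} [Group H] [Finite H] (K : Subgroup H)
    (hab : ∀ a b : H, a * b * a⁻¹ * b⁻¹ ∈ K)
    (hmin : ∀ X : Subgroup H, X ⊔ K = ⊤ → X = ⊤) {p : ℕ} [Fact p.Prime] (Q : Sylow p H)
    (hQK : (Q : Subgroup H) ≤ K) : (Q : Subgroup H) = ⊥ := by
  haveI := sylow_normal_of_min K hab hmin Q
  have hcop : Nat.Coprime (Nat.card (Q : Subgroup H)) (Q : Subgroup H).index := by
    obtain ⟨k, hk⟩ := IsPGroup.iff_card.mp Q.isPGroup'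
    rw [hk]
    exact Nat.Coprime.pow_left _ ((Nat.Prime.coprime_iff_not_dvd Fact.out).mpr Q.not_dvd_index)
  obtain ⟨X, hX⟩ := Subgroup.exists_right_complement'_of_coprime hcop
  have hsup : (Q : Subgroup H) ⊔ X = ⊤ := hX.sup_eq_top
  have hXK : X ⊔ K = ⊤ := by
    rw [eq_top_iff, ← hsup]; exact sup_le (hQK.trans le_sup_right) le_sup_left
  have hXtop := hmin X hXK
  have hc := hX.card_mul_card
  rw [hXtop, Subgroup.card_top] at hc
  have h1 : Nat.card (Q : Subgroup H) = 1 := by
    have hpos : 0 < Nat.card H := Nat.card_pos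
    exact Nat.eq_of_mul_eq_mul_right hpos (by rw [hc, one_mul])
  exact Subgroup.card_eq_one.mp h1


section
variable {G : Type*} [Group G] [Finite G]

theorem quot_comm (M : Subgroup G) [M.Normal] (Abar : Subgroup (G ⧸ M))
    (hA : IsMulCommutative ↥Abar)
    (N : Subgroup G) (hN : N.map (QuotientGroup.mk' M) = Abar) (a b : ↥N) :
    a * b * a⁻¹ * b⁻¹ ∈ M.subgroupOf N := by
  rw [Subgroup.mem_subgroupOf]
  have ha : (QuotientGroup.mk' M) a.1 ∈ Abar := hN ▸ Subgroup.mem_map_of_mem _ a.2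
  have hb : (QuotientGroup.mk' M) b.1 ∈ Abar := hN ▸ Subgroup.mem_map_of_mem _ b.2
  have hc := congrArg Subtype.val (hA.is_comm.comm ⟨_, ha⟩ ⟨_, hb⟩)
  have hc' : (a.1 : G ⧸ M) * (b.1 : G ⧸ M) = (b.1 : G ⧸ M) * (a.1 : G ⧸ M) := hc
  rw [← QuotientGroup.eq_one_iff]
  push_cast
  simp only [QuotientGroup.mk_mul, QuotientGroup.mk_inv]
  rw [hc']; group

theorem min_transfer (M : Subgroup G) [M.Normal] (Abar : Subgroup (G ⧸ M))
    (N : Subgroup G) (hN : N.map (QuotientGroup.mk' M) = Abar)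
    (hmin : ∀ N' : Subgroup G, N'.map (QuotientGroup.mk' M) = Abar → N' ≤ N → N ≤ N')
    (X : Subgroup ↥N) (hX : X ⊔ M.subgroupOf N = ⊤) : X = ⊤ := by
  have hle : X.map N.subtype ≤ N := by
    intro x hx; obtain ⟨y, _, rfl⟩ := hx; exact y.2
  have h1 : (X.map N.subtype).map (QuotientGroup.mk' M) = Abar := by
    rw [← hN]
    apply le_antisymm (Subgroup.map_mono hle)
    rintro _ ⟨n, hn, rfl⟩
    have hmem : (⟨n, hn⟩ : ↥N) ∈ ((X ⊔ M.subgroupOf N : Subgroup ↥N) : Set ↥N) := by
      rw [hX]; exact Set.mem_univ _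
    rw [Subgroup.mul_normal, Set.mem_mul] at hmem
    obtain ⟨x, hx, k, hk, hxk⟩ := hmem
    refine ⟨x.1, ⟨x, hx, rfl⟩, ?_⟩
    have hn' : n = x.1 * k.1 := by
      have := congrArg Subtype.val hxk
      simpa using this.symm
    have hk1 : ((k.1 : G) : G ⧸ M) = 1 :=
      (QuotientGroup.eq_one_iff k.1).mpr (Subgroup.mem_subgroupOf.mp hk)
    rw [hn']
    simp [hk1]
  have h2 := hmin _ h1 hle
  rw [eq_top_iff]; intro x _
  obtain ⟨y, hy, hyx⟩ := h2 x.2
  have : y = x := Subtype.ext hyx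
  exact this ▸ hy

theorem card_eq (M : Subgroup G) [M.Normal] (Abar : Subgroup (G ⧸ M))
    (N : Subgroup G) (hN : N.map (QuotientGroup.mk' M) = Abar) :
    Nat.card ↥N = Nat.card ↥(M.subgroupOf N) * Nat.card ↥Abar := by
  let φ : ↥N →* G ⧸ M := (QuotientGroup.mk' M).comp N.subtype
  have hker : φ.ker = M.subgroupOf N := by
    ext x
    rw [MonoidHom.mem_ker, Subgroup.mem_subgroupOf]
    exact QuotientGroup.eq_one_iff x.1
  have hrange : φ.range = Abar := by
    rw [← hN]
    ext y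
    constructor
    · rintro ⟨x, rfl⟩; exact ⟨x.1, x.2, rfl⟩
    · rintro ⟨x, hx, rfl⟩; exact ⟨⟨x, hx⟩, rfl⟩
  have h1 := Subgroup.card_mul_index φ.ker
  rw [Subgroup.index_ker, hker, hrange] at h1
  exact h1.symm

theorem card_K_dvd (M : Subgroup G) (N : Subgroup G) :
    Nat.card ↥(M.subgroupOf N) ∣ Nat.card ↥M := by
  let f : ↥(M.subgroupOf N) →* ↥M :=
    { toFun := fun x => ⟨x.1.1, Subgroup.mem_subgroupOf.mp x.2⟩
      map_one' := rfl
      map_mul' := fun _ _ => rfl }
  apply Subgroup.card_dvd_of_injective f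
  intro x y hxy
  have := congrArg Subtype.val hxy
  exact Subtype.ext (Subtype.ext this)


theorem eq_one_of_pow_coprime {H : Type*} [Group H] (c : H) (a b : ℕ) (hab : Nat.Coprime a b)
    (ha : c ^ a = 1) (hb : c ^ b = 1) : c = 1 := by
  have h3 : orderOf c ∣ Nat.gcd a b :=
    Nat.dvd_gcd (orderOf_dvd_of_pow_eq_one ha) (orderOf_dvd_of_pow_eq_one hb)
  rw [hab.gcd_eq_one, Nat.dvd_one] at h3
  exact orderOf_eq_one_iff.mp h3

/-- Order of `P ∩ M` for a Sylow `P` and normal `M`. -/
theorem card_sylow_inf_normal (M : Subgroup G) [M.Normal] (p : ℕ) [Fact p.Prime] (P : Sylow p G) :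
    Nat.card ↥(M.subgroupOf (P : Subgroup G)) = p ^ (Nat.card ↥M).factorization p := by
  have hp : p.Prime := Fact.out
  have h1 := card_eq M ((P : Subgroup G).map (QuotientGroup.mk' M)) (P : Subgroup G) rfl
  have hsurj : Function.Surjective (QuotientGroup.mk' M) := QuotientGroup.mk'_surjective M
  have h2 : Nat.card ↥((P : Subgroup G).map (QuotientGroup.mk' M)) =
      p ^ (Nat.card (G ⧸ M)).factorization p := by
    have := (P.mapSurjective hsurj).card_eq_multiplicity
    rwa [Sylow.coe_mapSurjective] at this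
  have h3 : Nat.card ↥(P : Subgroup G) = p ^ (Nat.card G).factorization p := P.card_eq_multiplicity
  have h4 : Nat.card G = Nat.card (G ⧸ M) * Nat.card ↥M :=
    Subgroup.card_eq_card_quotient_mul_card_subgroup M
  have h5 : (Nat.card G).factorization p =
      (Nat.card (G ⧸ M)).factorization p + (Nat.card ↥M).factorization p := by
    rw [h4, Nat.factorization_mul Nat.card_pos.ne' Nat.card_pos.ne']; rfl
  rw [h3, h2, h5, pow_add, mul_comm] at h1
  exact (Nat.eq_of_mul_eq_mul_right (pow_pos hp.pos _) h1).symm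

noncomputable def hfun (m p n : ℕ) : ℕ :=
  if p ∣ m then (if p ∣ n then m.factorization p + n.factorization p else 0)
  else n.factorization p

theorem sylow_facts
    (hB : ∀ A B : Subgroup G, IsMulCommutative ↥A → IsMulCommutative ↥B →
      Nat.card ↥A = Nat.card ↥B → ∃ g : G, B = A.map (MulAut.conj g).toMonoidHom)
    (M : Subgroup G) [M.Normal] (hM : Odd (Nat.card ↥M))
    (Abar : Subgroup (G ⧸ M)) (hA : IsMulCommutative ↥Abar)
    (N : Subgroup G) (hN : N.map (QuotientGroup.mk' M) = Abar)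
    (hmin : ∀ N' : Subgroup G, N'.map (QuotientGroup.mk' M) = Abar → N' ≤ N → N ≤ N')
    (p : ℕ) [Fact p.Prime] (Q : Sylow p ↥N) :
    IsMulCommutative ↥(Q : Subgroup ↥N) ∧
      (Nat.card ↥N).factorization p = hfun (Nat.card ↥M) p (Nat.card ↥Abar) := by
  have hp : p.Prime := Fact.out
  set K := M.subgroupOf N with hK
  have hab := quot_comm M Abar hA N hN
  have hmin' := min_transfer M Abar N hN hmin
  have hcard := card_eq M Abar N hN
  have hKM := card_K_dvd M N
  have hKpos : Nat.card ↥K ≠ 0 := Nat.card_pos.ne'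
  have hApos : Nat.card ↥Abar ≠ 0 := Nat.card_pos.ne'
  have hMpos : Nat.card ↥M ≠ 0 := Nat.card_pos.ne'
  have hfac : (Nat.card ↥N).factorization p =
      (Nat.card ↥K).factorization p + (Nat.card ↥Abar).factorization p := by
    rw [hcard, Nat.factorization_mul hKpos hApos]; rfl
  have hQcard : Nat.card ↥(Q : Subgroup ↥N) = p ^ (Nat.card ↥N).factorization p :=
    Q.card_eq_multiplicity
  have hbot : (Q : Subgroup ↥N) ≤ K → (Nat.card ↥N).factorization p = 0 := by
    intro hle
    have h0 := sylow_eq_bot_of_le K hab hmin' Q hle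
    rw [h0, Subgroup.card_bot] at hQcard
    by_contra h
    exact absurd hQcard.symm (Nat.one_lt_pow h hp.one_lt).ne'
  have hcommbot : (Q : Subgroup ↥N) ≤ K → IsMulCommutative ↥(Q : Subgroup ↥N) := by
    intro hle
    have h0 := sylow_eq_bot_of_le K hab hmin' Q hle
    refine ⟨⟨fun x y => ?_⟩⟩
    have hx : x = 1 := Subtype.ext ((Subgroup.mem_bot).mp (h0 ▸ x.2))
    have hy : y = 1 := Subtype.ext ((Subgroup.mem_bot).mp (h0 ▸ y.2))
    rw [hx, hy]
  have hQK_of : ¬ p ∣ Nat.card ↥Abar → (Q : Subgroup ↥N) ≤ K := by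
    intro hpA x hx
    rw [hK, Subgroup.mem_subgroupOf]
    have hxA : (QuotientGroup.mk' M) x.1 ∈ Abar := hN ▸ Subgroup.mem_map_of_mem _ x.2
    obtain ⟨k, hk⟩ := Q.isPGroup' ⟨x, hx⟩
    have hk' : x ^ p ^ k = 1 := by simpa using congrArg Subtype.val hk
    have h1 : ((QuotientGroup.mk' M) x.1) ^ p ^ k = 1 := by
      rw [← map_pow]
      have : (x.1) ^ p ^ k = 1 := by simpa using congrArg Subtype.val hk'
      rw [this, map_one]
    have h2 : ((QuotientGroup.mk' M) x.1) ^ Nat.card ↥Abar = 1 := by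
      have : (⟨_, hxA⟩ : ↥Abar) ^ Nat.card ↥Abar = 1 := pow_card_eq_one'
      simpa only [Subgroup.coe_pow, Subgroup.coe_one] using congrArg Subtype.val this
    have hcop : Nat.Coprime (p ^ k) (Nat.card ↥Abar) :=
      Nat.Coprime.pow_left _ ((Nat.Prime.coprime_iff_not_dvd hp).mpr hpA)
    have h4 := eq_one_of_pow_coprime _ _ _ hcop h1 h2
    exact (QuotientGroup.eq_one_iff x.1).mp h4
  by_cases hpM : p ∣ Nat.card ↥M
  · by_cases hpA : p ∣ Nat.card ↥Abar
    · have hQK : ¬ (Q : Subgroup ↥N) ≤ K := by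
        intro hle
        have h2 := hbot hle
        have h3 : p ∣ Nat.card ↥N := hcard ▸ Dvd.dvd.mul_left hpA _
        have : 0 < (Nat.card ↥N).factorization p :=
          hp.factorization_pos_of_dvd Nat.card_pos.ne' h3
        omega
      obtain ⟨P, hP⟩ := (Q.isPGroup'.map N.subtype).exists_le_sylow
      have hp2 : p ≠ 2 := by
        rintro rfl
        exact (Nat.not_even_iff_odd.mpr hM) (even_iff_two_dvd.mpr hpM)
      rcases (Cfsg.Agent.S3908.result hB).2 p hp2 P with hcyc | hexp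
      · have hmemP : ∀ q : ↥N, q ∈ (Q : Subgroup ↥N) → q.1 ∈ (P : Subgroup G) :=
          fun q hq => hP ⟨q, hq, rfl⟩
        constructor
        · haveI := hcyc
          have hPc : IsMulCommutative ↥(P : Subgroup G) := inferInstance
          refine ⟨⟨fun x y => ?_⟩⟩
          have := congrArg Subtype.val
            (hPc.is_comm.comm ⟨x.1.1, hmemP x.1 x.2⟩ ⟨y.1.1, hmemP y.1 y.2⟩)
          exact Subtype.ext (Subtype.ext this)
        · haveI := hcyc
          have hPp : IsPGroup p ↥(P : Subgroup G) := P.isPGroup'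
          have hBA : M.subgroupOf (P : Subgroup G) ≤
              (((Q : Subgroup ↥N).map N.subtype).subgroupOf (P : Subgroup G)) := by
            rcases Cfsg.Agent.Lib.Helper20.le_or_le_of_isCyclic_of_isPGroup hPp
              (((Q : Subgroup ↥N).map N.subtype).subgroupOf (P : Subgroup G))
              (M.subgroupOf (P : Subgroup G)) with h | h
            · exfalso; apply hQK
              intro q hq
              have h1 : (⟨q.1, hmemP q hq⟩ : ↥(P : Subgroup G)) ∈
                  (((Q : Subgroup ↥N).map N.subtype).subgroupOf (P : Subgroup G)) :=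
                Subgroup.mem_subgroupOf.mpr ⟨q, hq, rfl⟩
              have h2 := h h1
              rw [hK, Subgroup.mem_subgroupOf]
              exact Subgroup.mem_subgroupOf.mp h2
            · exact h
          have hmemN : ∀ x : ↥(M.subgroupOf (P : Subgroup G)), x.1.1 ∈ N := by
            intro x
            obtain ⟨q, _, hq⟩ := Subgroup.mem_subgroupOf.mp (hBA x.2)
            have : (q : G) = x.1.1 := hq
            rw [← this]; exact q.2
          let f : ↥(M.subgroupOf (P : Subgroup G)) →* ↥K :=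
            { toFun := fun x => ⟨⟨x.1.1, hmemN x⟩, Subgroup.mem_subgroupOf.mpr
                (Subgroup.mem_subgroupOf.mp x.2)⟩
              map_one' := rfl
              map_mul' := fun _ _ => rfl }
          have hfinj : Function.Injective f := by
            intro x y hxy
            have := congrArg (fun z : ↥K => (z.1.1 : G)) hxy
            exact Subtype.ext (Subtype.ext this)
          have hdvd := Subgroup.card_dvd_of_injective f hfinj
          rw [card_sylow_inf_normal M p P] at hdvd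
          have h1 : (Nat.card ↥M).factorization p ≤ (Nat.card ↥K).factorization p :=
            (Nat.Prime.pow_dvd_iff_le_factorization hp hKpos).mp hdvd
          have h2 : (Nat.card ↥K).factorization p ≤ (Nat.card ↥M).factorization p :=
            (Nat.factorization_le_iff_dvd hKpos hMpos).mpr hKM p
          rw [hfac, hfun, if_pos hpM, if_pos hpA]
          omega
      · exfalso; apply hQK
        obtain ⟨m, hm⟩ := exists_prime_orderOf_dvd_card' (G := ↥M) p hpM
        have hPM : (P : Subgroup G) ≤ M := by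
          intro x hx
          by_cases hx1 : x = 1
          · rw [hx1]; exact one_mem _
          apply (Cfsg.Agent.S3909.result hB M).1 x
          refine ⟨m.1, m.2, ?_⟩
          rw [Subgroup.orderOf_coe, hm]
          exact (orderOf_eq_prime (hexp x hx) hx1).symm
        intro q hq
        rw [hK, Subgroup.mem_subgroupOf]
        exact hPM (hP ⟨q, hq, rfl⟩)
    · have hle := hQK_of hpA
      refine ⟨hcommbot hle, ?_⟩
      rw [hbot hle, hfun, if_pos hpM, if_neg hpA]
  · have hpK : ¬ p ∣ Nat.card ↥K := fun h => hpM (h.trans hKM)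
    constructor
    · refine ⟨⟨fun x y => ?_⟩⟩
      have hc : x.1 * y.1 * x.1⁻¹ * y.1⁻¹ ∈ K := hab x.1 y.1
      have hcQ : x.1 * y.1 * x.1⁻¹ * y.1⁻¹ ∈ (Q : Subgroup ↥N) :=
        mul_mem (mul_mem (mul_mem x.2 y.2) (inv_mem x.2)) (inv_mem y.2)
      obtain ⟨k, hk⟩ := Q.isPGroup' ⟨_, hcQ⟩
      have hk' : (x.1 * y.1 * x.1⁻¹ * y.1⁻¹) ^ p ^ k = 1 := by
        simpa using congrArg Subtype.val hk
      have hk2 : (x.1 * y.1 * x.1⁻¹ * y.1⁻¹) ^ Nat.card ↥K = 1 := by
        have : (⟨_, hc⟩ : ↥K) ^ Nat.card ↥K = 1 := pow_card_eq_one'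
        simpa only [Subgroup.coe_pow, Subgroup.coe_one] using congrArg Subtype.val this
      have hcop : Nat.Coprime (p ^ k) (Nat.card ↥K) :=
        Nat.Coprime.pow_left _ ((Nat.Prime.coprime_iff_not_dvd hp).mpr hpK)
      have h1 := eq_one_of_pow_coprime _ _ _ hcop hk' hk2
      apply Subtype.ext
      have h2 : x.1 * y.1 = (x.1 * y.1 * x.1⁻¹ * y.1⁻¹) * (y.1 * x.1) := by group
      rw [h1, one_mul] at h2
      exact h2
    · rw [hfac, Nat.factorization_eq_zero_of_not_dvd hpK, zero_add, hfun, if_neg hpM]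

theorem abelian_of_min
    (hB : ∀ A B : Subgroup G, IsMulCommutative ↥A → IsMulCommutative ↥B →
      Nat.card ↥A = Nat.card ↥B → ∃ g : G, B = A.map (MulAut.conj g).toMonoidHom)
    (M : Subgroup G) [M.Normal] (hM : Odd (Nat.card ↥M))
    (Abar : Subgroup (G ⧸ M)) (hA : IsMulCommutative ↥Abar)
    (N : Subgroup G) (hN : N.map (QuotientGroup.mk' M) = Abar)
    (hmin : ∀ N' : Subgroup G, N'.map (QuotientGroup.mk' M) = Abar → N' ≤ N → N ≤ N') :
    IsMulCommutative ↥N := by
  have hab := quot_comm M Abar hA N hN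
  have hmin' := min_transfer M Abar N hN hmin
  have hn : ∀ {p : ℕ} [Fact p.Prime] (P : Sylow p ↥N), (P : Subgroup ↥N).Normal :=
    fun P => sylow_normal_of_min _ hab hmin' P
  let e := Sylow.directProductOfNormal hn
  refine ⟨⟨fun x y => ?_⟩⟩
  obtain ⟨a, rfl⟩ := e.surjective x
  obtain ⟨b, rfl⟩ := e.surjective y
  rw [← map_mul, ← map_mul]
  congr 1
  funext p P
  haveI : Fact (p.1).Prime := ⟨Nat.prime_of_mem_primeFactors p.2⟩
  have hc := (sylow_facts hB M hM Abar hA N hN hmin p.1 P).1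
  exact hc.is_comm.comm (a p P) (b p P)

theorem card_eq_of_min
    (hB : ∀ A B : Subgroup G, IsMulCommutative ↥A → IsMulCommutative ↥B →
      Nat.card ↥A = Nat.card ↥B → ∃ g : G, B = A.map (MulAut.conj g).toMonoidHom)
    (M : Subgroup G) [M.Normal] (hM : Odd (Nat.card ↥M))
    (Abar Bbar : Subgroup (G ⧸ M)) (hA : IsMulCommutative ↥Abar) (hB' : IsMulCommutative ↥Bbar)
    (hAB : Nat.card ↥Abar = Nat.card ↥Bbar)
    (N₁ : Subgroup G) (hN₁ : N₁.map (QuotientGroup.mk' M) = Abar)
    (hmin₁ : ∀ N' : Subgroup G, N'.map (QuotientGroup.mk' M) = Abar → N' ≤ N₁ → N₁ ≤ N')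
    (N₂ : Subgroup G) (hN₂ : N₂.map (QuotientGroup.mk' M) = Bbar)
    (hmin₂ : ∀ N' : Subgroup G, N'.map (QuotientGroup.mk' M) = Bbar → N' ≤ N₂ → N₂ ≤ N') :
    Nat.card ↥N₁ = Nat.card ↥N₂ := by
  apply Nat.eq_of_factorization_eq Nat.card_pos.ne' Nat.card_pos.ne'
  intro p
  by_cases hp : p.Prime
  · haveI := Fact.mk hp
    obtain ⟨Q₁⟩ := (inferInstance : Nonempty (Sylow p ↥N₁))
    obtain ⟨Q₂⟩ := (inferInstance : Nonempty (Sylow p ↥N₂))
    rw [(sylow_facts hB M hM Abar hA N₁ hN₁ hmin₁ p Q₁).2,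
      (sylow_facts hB M hM Bbar hB' N₂ hN₂ hmin₂ p Q₂).2, hAB]
  · rw [Nat.factorization_eq_zero_of_not_prime _ hp, Nat.factorization_eq_zero_of_not_prime _ hp]

theorem main
    (hB : ∀ A B : Subgroup G, IsMulCommutative ↥A → IsMulCommutative ↥B →
      Nat.card ↥A = Nat.card ↥B → ∃ g : G, B = A.map (MulAut.conj g).toMonoidHom)
    (M : Subgroup G) [M.Normal] (hM : Odd (Nat.card ↥M)) :
    ∀ A B : Subgroup (G ⧸ M), IsMulCommutative ↥A → IsMulCommutative ↥B →
      Nat.card ↥A = Nat.card ↥B → ∃ g : G ⧸ M, B = A.map (MulAut.conj g).toMonoidHom := by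
  intro A B hA hB' hAB
  have hex : ∀ (Abar : Subgroup (G ⧸ M)), ∃ N : Subgroup G,
      N.map (QuotientGroup.mk' M) = Abar ∧
      ∀ N' : Subgroup G, N'.map (QuotientGroup.mk' M) = Abar → N' ≤ N → N ≤ N' := by
    intro Abar
    have hne : {N : Subgroup G | N.map (QuotientGroup.mk' M) = Abar}.Nonempty :=
      ⟨Abar.comap (QuotientGroup.mk' M),
        Subgroup.map_comap_eq_self_of_surjective (QuotientGroup.mk'_surjective M) Abar⟩
    obtain ⟨N, hN⟩ := (Set.toFinite _).exists_minimal hne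
    exact ⟨N, hN.prop, fun N' h1 h2 => hN.le_of_le h1 h2⟩
  obtain ⟨N₁, hN₁, hmin₁⟩ := hex A
  obtain ⟨N₂, hN₂, hmin₂⟩ := hex B
  have hc₁ := abelian_of_min hB M hM A hA N₁ hN₁ hmin₁
  have hc₂ := abelian_of_min hB M hM B hB' N₂ hN₂ hmin₂
  have hcard := card_eq_of_min hB M hM A B hA hB' hAB N₁ hN₁ hmin₁ N₂ hN₂ hmin₂
  obtain ⟨g, hg⟩ := hB N₁ N₂ hc₁ hc₂ hcard
  refine ⟨(g : G ⧸ M), ?_⟩
  rw [← hN₂, hg, ← hN₁, Subgroup.map_map, Subgroup.map_map]
  congr 1

end


/-- Let G be a finite group in which any two abelian subgroups of the same order are conjugate. If M is a normal subgroup of G of odd order, then any two abelian subgroups of G/M of the same order are conjugate in G/M. -/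
theorem result {G : Type*} [Group G] [Finite G] (hB : ∀ A B : Subgroup G, IsMulCommutative ↥A → IsMulCommutative ↥B → Nat.card ↥A = Nat.card ↥B → ∃ g : G, B = A.map (MulAut.conj g).toMonoidHom) (M : Subgroup G) [M.Normal] (hM : Odd (Nat.card ↥M)) :
    ∀ A B : Subgroup (G ⧸ M), IsMulCommutative ↥A → IsMulCommutative ↥B → Nat.card ↥A = Nat.card ↥B →
      ∃ g : G ⧸ M, B = A.map (MulAut.conj g).toMonoidHom := by
  exact main hB M hM

end Cfsg.Agent.S3911
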