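import Cfsg.Statements.S3912
-- import your own Cfsg.Agent.* helpers here
import Mathlib
import Cfsg.Agent.S3908
import Cfsg.Agent.S3909
import Cfsg.Agent.Lib.Helper25.BGroupQuot
import Cfsg.Agent.Lib.Helper25.QuatDescent

set_option autoImplicit false
open Cfsg

namespace Cfsg.Agent.S3912

open Cfsg.Agent.Lib.Helper25.BGroupQuot

section
variable {G : Type*} [Group G] [Finite G]

theorem special (M : Subgroup G) [M.Normal]
    (h9 : ∀ a : G, (∃ m ∈ M, orderOf m = orderOf a) → a ∈ M)
    (Abar : Subgroup (G ⧸ M)) (N : Subgroup G) (hN : N.map (QuotientGroup.mk' M) = Abar)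
    (hvM : (Nat.card ↥M).factorization 2 = 1) (hvA : (Nat.card ↥Abar).factorization 2 = 1)
    [Fact (Nat.Prime 2)] (Q : Sylow 2 ↥N) (hQK : ¬ (Q : Subgroup ↥N) ≤ M.subgroupOf N) :
    IsMulCommutative ↥(Q : Subgroup ↥N) ∧
      (Nat.card ↥(M.subgroupOf N)).factorization 2 = (Nat.card ↥M).factorization 2 := by
  have hcard := card_eq M Abar N hN
  have hKM := card_K_dvd M N
  have hKpos : Nat.card ↥(M.subgroupOf N) ≠ 0 := Nat.card_pos.ne'
  have hApos : Nat.card ↥Abar ≠ 0 := Nat.card_pos.ne'
  have hMpos : Nat.card ↥M ≠ 0 := Nat.card_pos.ne'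
  have hle : (Nat.card ↥(M.subgroupOf N)).factorization 2 ≤ 1 := by
    rw [← hvM]
    exact (Nat.factorization_le_iff_dvd hKpos hMpos).mpr hKM 2
  have hQne : (Q : Subgroup ↥N) ≠ ⊥ := by
    intro h; apply hQK; rw [h]; exact bot_le
  have h2Q : 2 ∣ Nat.card ↥(Q : Subgroup ↥N) := by
    obtain ⟨j, hj⟩ := IsPGroup.iff_card.mp Q.isPGroup'
    rcases Nat.eq_zero_or_pos j with rfl | hjpos
    · exfalso; apply hQne
      rw [pow_zero] at hj
      exact Subgroup.card_eq_one.mp hj
    · rw [hj]; exact dvd_pow_self 2 hjpos.ne'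
  obtain ⟨t, ht⟩ := exists_prime_orderOf_dvd_card' (G := ↥(Q : Subgroup ↥N)) 2 h2Q
  have htG : orderOf ((t : ↥N) : G) = 2 := by
    rw [Subgroup.orderOf_coe, Subgroup.orderOf_coe]; exact ht
  have h2M : 2 ∣ Nat.card ↥M := by
    by_contra h
    rw [Nat.factorization_eq_zero_of_not_dvd h] at hvM; omega
  obtain ⟨m, hm⟩ := exists_prime_orderOf_dvd_card' (G := ↥M) 2 h2M
  have htM : ((t : ↥N) : G) ∈ M := by
    apply h9
    refine ⟨m.1, m.2, ?_⟩
    rw [Subgroup.orderOf_coe, hm, htG]
  have h2K : 2 ∣ Nat.card ↥(M.subgroupOf N) := by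
    have h1 : orderOf (⟨(t : ↥N), Subgroup.mem_subgroupOf.mpr htM⟩ : ↥(M.subgroupOf N)) = 2 := by
      rw [← Subgroup.orderOf_coe, ← Subgroup.orderOf_coe]; exact htG
    rw [← h1]; exact orderOf_dvd_natCard _
  have hge : 1 ≤ (Nat.card ↥(M.subgroupOf N)).factorization 2 :=
    (Nat.Prime.factorization_pos_of_dvd Nat.prime_two hKpos h2K)
  have hvK : (Nat.card ↥(M.subgroupOf N)).factorization 2 = 1 := le_antisymm hle hge
  refine ⟨?_, by rw [hvK, hvM]⟩
  have hvN : (Nat.card ↥N).factorization 2 = 2 := by
    rw [hcard, Nat.factorization_mul hKpos hApos]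
    show (Nat.card ↥(M.subgroupOf N)).factorization 2 + (Nat.card ↥Abar).factorization 2 = 2
    rw [hvK, hvA]
  have hQc : Nat.card ↥(Q : Subgroup ↥N) = 2 ^ 2 := by
    rw [Q.card_eq_multiplicity, hvN]
  exact IsPGroup.isMulCommutative_of_card_eq_prime_sq hQc

theorem main
    (hB : ∀ A B : Subgroup G, IsMulCommutative ↥A → IsMulCommutative ↥B →
      Nat.card ↥A = Nat.card ↥B → ∃ g : G, B = A.map (MulAut.conj g).toMonoidHom)
    (hsol : Group.IsSolvable G) (M : Subgroup G) [M.Normal] :
    ∀ A B : Subgroup (G ⧸ M), IsMulCommutative ↥A → IsMulCommutative ↥B →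
      Nat.card ↥A = Nat.card ↥B → ∃ g : G ⧸ M, B = A.map (MulAut.conj g).toMonoidHom := by
  intro A B hA hB' hAB
  haveI : Fact (Nat.Prime 2) := ⟨Nat.prime_two⟩
  have h8 := Cfsg.Agent.S3908.result hB
  have h9 := (Cfsg.Agent.S3909.result hB M).1
  have hgood_odd : ∀ (p : ℕ) [Fact p.Prime], p ≠ 2 → ∀ P : Sylow p G,
      IsCyclic ↥(P : Subgroup G) ∨ ∀ x ∈ (P : Subgroup G), x ^ p = 1 :=
    fun p _ hp P => h8.2 p hp P
  have hfinish : (∀ P : Sylow 2 G, IsCyclic ↥(P : Subgroup G) ∨
      ∀ x ∈ (P : Subgroup G), x ^ 2 = 1) →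
      ∃ g : G ⧸ M, B = A.map (MulAut.conj g).toMonoidHom := by
    intro h2
    apply conj_of_good hB M h9 A B hA hB' hAB
    intro p _ _ _ P
    by_cases hp : p = 2
    · subst hp; exact h2 P
    · exact hgood_odd p hp P
  obtain ⟨P₀⟩ := (inferInstance : Nonempty (Sylow 2 G))
  have htransfer_cyc : IsCyclic ↥(P₀ : Subgroup G) →
      ∀ P : Sylow 2 G, IsCyclic ↥(P : Subgroup G) := by
    intro h P
    haveI := h
    exact isCyclic_of_surjective (Sylow.equiv P₀ P) (Sylow.equiv P₀ P).surjective
  rcases h8.1 P₀ with hcyc | hel | ⟨k, ⟨e⟩⟩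
  · exact hfinish (fun P => Or.inl (htransfer_cyc hcyc P))
  · apply hfinish
    intro P
    right
    intro x hx
    obtain ⟨y, hy⟩ := (Sylow.equiv P₀ P).surjective ⟨x, hx⟩
    have h1 : (y : G) ^ 2 = 1 := hel.2 y y.2
    have h2 : y ^ 2 = 1 := Subtype.ext h1
    have h3 : (⟨x, hx⟩ : ↥(P : Subgroup G)) ^ 2 = 1 := by rw [← hy, ← map_pow, h2, map_one]
    exact congrArg Subtype.val h3
  · rcases Nat.lt_or_ge k 2 with hk | hk
    · interval_cases k
      · have hc : IsCyclic ↥(P₀ : Subgroup G) := by
          haveI : IsCyclic (QuaternionGroup (2 ^ 0)) := by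
            simpa using QuaternionGroup.quaternionGroup_one_isCyclic
          exact isCyclic_of_surjective e.symm e.symm.surjective
        exact hfinish (fun P => Or.inl (htransfer_cyc hc P))
      · -- order 8
        have hP₀card : Nat.card ↥(P₀ : Subgroup G) = 8 := by
          rw [Nat.card_congr e.toEquiv, Nat.card_eq_fintype_card, QuaternionGroup.card]; norm_num
        have hvG : (Nat.card G).factorization 2 = 3 := by
          have h1 := P₀.card_eq_multiplicity
          rw [hP₀card] at h1
          have h2 : 2 ^ 3 = 2 ^ (Nat.card G).factorization 2 := by rw [← h1]; norm_num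
          exact (Nat.pow_right_injective (le_refl 2) h2).symm
        have hGM : Nat.card G = Nat.card (G ⧸ M) * Nat.card ↥M :=
          Subgroup.card_eq_card_quotient_mul_card_subgroup M
        have hvsum : (Nat.card (G ⧸ M)).factorization 2 + (Nat.card ↥M).factorization 2 = 3 := by
          rw [← hvG, hGM, Nat.factorization_mul Nat.card_pos.ne' Nat.card_pos.ne']; rfl
        by_cases h2both : 2 ∣ Nat.card ↥M ∧ 2 ∣ Nat.card ↥A
        · obtain ⟨h2M, h2A⟩ := h2both
          have hvM1 : 1 ≤ (Nat.card ↥M).factorization 2 :=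
            Nat.Prime.factorization_pos_of_dvd Nat.prime_two Nat.card_pos.ne' h2M
          have hvA1 : 1 ≤ (Nat.card ↥A).factorization 2 :=
            Nat.Prime.factorization_pos_of_dvd Nat.prime_two Nat.card_pos.ne' h2A
          have hvAle : (Nat.card ↥A).factorization 2 ≤ (Nat.card (G ⧸ M)).factorization 2 :=
            (Nat.factorization_le_iff_dvd Nat.card_pos.ne' Nat.card_pos.ne').mpr
              (Subgroup.card_subgroup_dvd_card A) 2
          by_cases hsyl : (Nat.card ↥A).factorization 2 = (Nat.card (G ⧸ M)).factorization 2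
          · apply conj_of_sylow_two A B hA hB' hAB hsyl
            intro D₁ D₂ h1 h2 h3 h4
            apply conj_of_good hB M h9 D₁ D₂ h1 h2 h3
            intro p _ _ hpD P
            by_cases hp : p = 2
            · subst hp; exact absurd hpD h4
            · exact hgood_odd p hp P
          · have hvA : (Nat.card ↥A).factorization 2 = 1 := by omega
            have hvM : (Nat.card ↥M).factorization 2 = 1 := by omega
            have hvB : (Nat.card ↥B).factorization 2 = 1 := by rw [← hAB]; exact hvA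
            obtain ⟨N₁, hN₁, hmin₁⟩ := exists_min M A
            obtain ⟨N₂, hN₂, hmin₂⟩ := exists_min M B
            have hf₁ : ∀ (p : ℕ) [Fact p.Prime] (Q : Sylow p ↥N₁),
                IsMulCommutative ↥(Q : Subgroup ↥N₁) ∧
                (Nat.card ↥N₁).factorization p = hfun (Nat.card ↥M) p (Nat.card ↥A) := by
              intro p _ Q
              apply sylow_facts_gen M A hA N₁ hN₁ hmin₁ p Q
              intro hpM hpA hQK
              by_cases hp : p = 2
              · subst hp
                exact special M h9 A N₁ hN₁ hvM hvA Q hQK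
              · exact hmain_of_good M h9 N₁ p Q (hgood_odd p hp) hpM hQK
            have hf₂ : ∀ (p : ℕ) [Fact p.Prime] (Q : Sylow p ↥N₂),
                IsMulCommutative ↥(Q : Subgroup ↥N₂) ∧
                (Nat.card ↥N₂).factorization p = hfun (Nat.card ↥M) p (Nat.card ↥A) := by
              intro p _ Q
              rw [hAB]
              apply sylow_facts_gen M B hB' N₂ hN₂ hmin₂ p Q
              intro hpM hpA hQK
              by_cases hp : p = 2
              · subst hp
                exact special M h9 B N₂ hN₂ hvM hvB Q hQK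
              · exact hmain_of_good M h9 N₂ p Q (hgood_odd p hp) hpM hQK
            have hc₁ := abelian_of_facts M A hA N₁ hN₁ hmin₁ (fun p _ Q => (hf₁ p Q).1)
            have hc₂ := abelian_of_facts M B hB' N₂ hN₂ hmin₂ (fun p _ Q => (hf₂ p Q).1)
            have hcard := card_eq_of_facts (Nat.card ↥M) (Nat.card ↥A) N₁ N₂
              (fun p _ => by
                obtain ⟨Q⟩ := (inferInstance : Nonempty (Sylow p ↥N₁)); exact (hf₁ p Q).2)
              (fun p _ => by
                obtain ⟨Q⟩ := (inferInstance : Nonempty (Sylow p ↥N₂)); exact (hf₂ p Q).2)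
            exact conj_of_supplements hB M A B N₁ N₂ hN₁ hN₂ hc₁ hc₂ hcard
        · apply conj_of_good hB M h9 A B hA hB' hAB
          intro p _ hpM hpA P
          by_cases hp : p = 2
          · subst hp; exact absurd ⟨hpM, hpA⟩ h2both
          · exact hgood_odd p hp P
    · exfalso
      apply Cfsg.Agent.Lib.Helper25.QuatDescent.quat_false hsol P₀ k hk e
      intro x y hx hy
      have hc1 : IsMulCommutative ↥(Subgroup.zpowers x) := inferInstance
      have hc2 : IsMulCommutative ↥(Subgroup.zpowers y) := inferInstance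
      obtain ⟨g, hg⟩ := hB (Subgroup.zpowers x) (Subgroup.zpowers y) hc1 hc2
        (by rw [Nat.card_zpowers, Nat.card_zpowers, hx, hy])
      refine ⟨g, ?_⟩
      rw [hg]
      exact ⟨x, Subgroup.mem_zpowers x, rfl⟩

end


/-- Let G be a finite solvable group in which any two abelian subgroups of the same order are conjugate. Then every quotient of G has the same property: any two abelian subgroups of the quotient of the same order are conjugate. -/
theorem result {G : Type*} [Group G] [Finite G] (hB : ∀ A B : Subgroup G, IsMulCommutative ↥A → IsMulCommutative ↥B → Nat.card ↥A = Nat.card ↥B → ∃ g : G, B = A.map (MulAut.conj g).toMonoidHom) (hsol : Group.IsSolvable G) (M : Subgroup G) [M.Normal] :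
    ∀ A B : Subgroup (G ⧸ M), IsMulCommutative ↥A → IsMulCommutative ↥B → Nat.card ↥A = Nat.card ↥B →
      ∃ g : G ⧸ M, B = A.map (MulAut.conj g).toMonoidHom := by
  exact main hB hsol M

end Cfsg.Agent.S3912
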