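import Cfsg.Statements.S3917
import Mathlib
import Cfsg.Agent.Lib.Helper2.Cores
-- import your own Cfsg.Agent.* helpers here

set_option autoImplicit false
open Cfsg

namespace Cfsg.Agent.S3917

/-- Say that a group has self-centralizing non-cyclic subgroups when every non-cyclic subgroup H satisfies C_G(H) ≤ H. A finite abelian group with self-centralizing non-cyclic subgroups is cyclic or elementary abelian of order p² for a prime p. -/
theorem result {G : Type*} [CommGroup G] [Finite G] (hX : (∀ H : Subgroup G, ¬ IsCyclic ↥H → Subgroup.centralizer (H : Set G) ≤ H)) :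
    IsCyclic G ∨ ∃ p : ℕ, p.Prime ∧ Nat.card G = p ^ 2 ∧ Monoid.exponent G = p := by
  classical
  by_cases hc : IsCyclic G
  · exact Or.inl hc
  right
  -- every non-cyclic subgroup is everything
  have hX' : ∀ H : Subgroup G, ¬ IsCyclic ↥H → H = ⊤ := by
    intro H hH
    have h1 := hX H hH
    have h2 : Subgroup.centralizer (H : Set G) = ⊤ := by
      rw [Subgroup.centralizer_eq_top_iff_subset]
      intro x _
      show x ∈ Subgroup.center G
      rw [Subgroup.mem_center_iff]
      intro g; exact mul_comm g x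
    rw [h2] at h1
    exact top_le_iff.mp h1
  -- lemma: cyclic subgroup of exponent p has at most p elements
  have hL : ∀ (p : ℕ) (S : Subgroup G), 0 < p → (∀ s ∈ S, s ^ p = 1) → IsCyclic ↥S → Nat.card ↥S ≤ p := by
    intro p S hp hS hcyc
    obtain ⟨s₀, hs₀⟩ := hcyc.exists_generator
    have h1 : orderOf s₀ = Nat.card ↥S := orderOf_eq_card_of_forall_mem_zpowers hs₀
    rw [← h1]
    apply Nat.le_of_dvd hp
    apply orderOf_dvd_of_pow_eq_one
    apply Subtype.ext
    rw [Subgroup.coe_pow, Subgroup.coe_one]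
    exact hS _ s₀.2
  -- lemma: subgroup of exponent p containing an order-p cyclic subgroup C' and something outside is not cyclic
  have hL2 : ∀ (p : ℕ) (S : Subgroup G) (c x : G), 0 < p → (∀ s ∈ S, s ^ p = 1) → orderOf c = p → c ∈ S →
      x ∈ S → x ∉ Subgroup.zpowers c → ¬ IsCyclic ↥S := by
    intro p S c x hp hS hcord hcS hxS hxc hcyc
    have h1 := hL p S hp hS hcyc
    have h2 : Subgroup.zpowers c ≤ S := Subgroup.zpowers_le.mpr hcS
    have h3 : Nat.card ↥(Subgroup.zpowers c) = p := by rw [Nat.card_zpowers, hcord]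
    have h4 : Subgroup.zpowers c = S := Subgroup.eq_of_le_of_card_ge h2 (by rw [h3]; exact h1)
    rw [h4] at hxc
    exact hxc hxS
  set e := Monoid.exponent G with he
  have he0 : e ≠ 0 := Monoid.exponent_ne_zero_of_finite
  obtain ⟨g, hg⟩ := Monoid.exists_orderOf_eq_exponent (Monoid.ExponentExists.of_finite (G := G))
  rw [← he] at hg
  set C := Subgroup.zpowers g with hC
  have hCtop : C ≠ ⊤ := by
    intro h
    apply hc
    refine ⟨g, fun x => ?_⟩
    have : x ∈ (⊤ : Subgroup G) := Subgroup.mem_top x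
    rw [← h] at this
    exact this
  obtain ⟨y, hy⟩ : ∃ y : G, y ∉ C := by
    by_contra h
    push Not at h
    exact hCtop (eq_top_iff.mpr fun x _ => h x)
  -- minimal m > 0 with y^m ∈ C
  have hex : ∃ m : ℕ, 0 < m ∧ y ^ m ∈ C := ⟨orderOf y, orderOf_pos y, by rw [pow_orderOf_eq_one]; exact C.one_mem⟩
  set m := Nat.find hex with hm
  have hm1 : 0 < m ∧ y ^ m ∈ C := Nat.find_spec hex
  have hmmin : ∀ k : ℕ, k < m → ¬ (0 < k ∧ y ^ k ∈ C) := fun k hk => Nat.find_min hex hk
  have hmne1 : m ≠ 1 := by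
    intro h
    rw [h, pow_one] at hm1
    exact hy hm1.2
  obtain ⟨p, hp, hpm⟩ := Nat.exists_prime_and_dvd hmne1
  obtain ⟨r, hr⟩ := hpm
  have hrpos : 0 < r := by
    rcases Nat.eq_zero_or_pos r with h | h
    · rw [h, mul_zero] at hr; omega
    · exact h
  have hrlt : r < m := by
    rw [hr]
    calc r = 1 * r := (one_mul r).symm
      _ < p * r := Nat.mul_lt_mul_of_pos_right hp.one_lt hrpos
  set x := y ^ r with hx
  have hxC : x ∉ C := fun h => hmmin r hrlt ⟨hrpos, h⟩
  have hxp : x ^ p ∈ C := by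
    rw [hx, ← pow_mul, mul_comm, ← hr]; exact hm1.2
  have hxe : x ^ e = 1 := Monoid.pow_exponent_eq_one x
  -- p ∣ e
  have hpe : p ∣ e := by
    by_contra hnd
    have hcop : Nat.Coprime p e := (Nat.Prime.coprime_iff_not_dvd hp).mpr hnd
    apply hxC
    have hb := Nat.gcd_eq_gcd_ab p e
    rw [hcop] at hb
    have : x = (x ^ p) ^ (Nat.gcdA p e) * (x ^ e) ^ (Nat.gcdB p e) := by
      rw [← zpow_natCast x p, ← zpow_natCast x e, ← zpow_mul, ← zpow_mul, ← zpow_add, ← hb]
      simp
    rw [this, hxe, one_zpow, mul_one]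
    exact C.zpow_mem hxp _
  obtain ⟨f, hf⟩ := hpe
  have hfpos : 0 < f := by
    rcases Nat.eq_zero_or_pos f with h | h
    · rw [h, mul_zero] at hf; exact absurd hf he0
    · exact h
  -- x^p = g^k, p ∣ k
  obtain ⟨k, hk⟩ := Subgroup.mem_zpowers_iff.mp hxp
  have hpk : (p : ℤ) ∣ k := by
    have h1 : g ^ (k * f) = 1 := by
      rw [zpow_mul, hk, zpow_natCast, ← pow_mul, ← hf, hxe]
    have h2 : (orderOf g : ℤ) ∣ k * f := orderOf_dvd_iff_zpow_eq_one.mpr h1
    rw [hg, hf] at h2
    push_cast at h2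
    have hf0 : (f : ℤ) ≠ 0 := by exact_mod_cast hfpos.ne'
    exact (mul_dvd_mul_iff_right hf0).mp h2
  obtain ⟨j, hj⟩ := hpk
  set x' := x * g ^ (-j) with hx'
  have hx'p : x' ^ p = 1 := by
    rw [hx', mul_pow, ← hk, ← zpow_natCast (g ^ (-j)) p, ← zpow_mul, hj, ← zpow_add]
    have : p * j + -j * (p : ℤ) = 0 := by ring
    rw [this, zpow_zero]
  have hx'C : x' ∉ C := by
    intro h
    apply hxC
    have : x = x' * g ^ j := by rw [hx']; simp [mul_assoc, ← zpow_add]
    rw [this]
    exact C.mul_mem h (C.zpow_mem (Subgroup.mem_zpowers g) _)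
  -- g₁ = g^f has order p
  set g₁ := g ^ f with hg₁
  have hg₁ord : orderOf g₁ = p := by
    rw [hg₁, orderOf_pow, hg, hf, Nat.gcd_eq_right (Dvd.intro_left p rfl)]
    exact Nat.mul_div_cancel _ hfpos
  have hg₁C : Subgroup.zpowers g₁ ≤ C := Subgroup.zpowers_le.mpr (C.pow_mem (Subgroup.mem_zpowers g) _)
  have hx'g₁ : x' ∉ Subgroup.zpowers g₁ := fun h => hx'C (hg₁C h)
  have hg₁p : g₁ ^ p = 1 := by rw [← hg₁ord]; exact pow_orderOf_eq_one g₁
  -- K = {z | z^p = 1}
  let K : Subgroup G := (powMonoidHom p : G →* G).ker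
  have hKmem : ∀ z, z ∈ K ↔ z ^ p = 1 := fun z => by simp [K, MonoidHom.mem_ker]
  have hKnc : ¬ IsCyclic ↥K :=
    hL2 p K g₁ x' hp.pos (fun s hs => (hKmem s).mp hs) hg₁ord ((hKmem _).mpr hg₁p) ((hKmem _).mpr hx'p) hx'g₁
  have hKtop := hX' K hKnc
  have hall : ∀ z : G, z ^ p = 1 := fun z => (hKmem z).mp (by rw [hKtop]; exact Subgroup.mem_top z)
  have hep : e = p := by
    have h1 : e ∣ p := Monoid.exponent_dvd_iff_forall_pow_eq_one.mpr hall
    rcases (Nat.dvd_prime hp).mp h1 with h | h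
    · exfalso
      rw [h] at hf
      have : p ∣ 1 := ⟨f, hf⟩
      exact hp.one_lt.ne' (Nat.dvd_one.mp this)
    · exact h
  -- H = C' ⊔ ⟨x'⟩ is everything
  let H : Subgroup G := Subgroup.zpowers g₁ ⊔ Subgroup.zpowers x'
  have hHnc : ¬ IsCyclic ↥H :=
    hL2 p H g₁ x' hp.pos (fun s _ => hall s) hg₁ord
      ((le_sup_left : Subgroup.zpowers g₁ ≤ H) (Subgroup.mem_zpowers g₁))
      ((le_sup_right : Subgroup.zpowers x' ≤ H) (Subgroup.mem_zpowers x')) hx'g₁
  have hHtop := hX' H hHnc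
  have hx'ord : orderOf x' = p := by
    have h1 : orderOf x' ∣ p := orderOf_dvd_of_pow_eq_one hx'p
    rcases (Nat.dvd_prime hp).mp h1 with h | h
    · exfalso
      rw [orderOf_eq_one_iff] at h
      apply hx'C; rw [h]; exact C.one_mem
    · exact h
  have hdvd : Nat.card G ∣ p * p := by
    have h1 := Cfsg.Agent.Lib.Helper2.card_sup_dvd_of_normal (Subgroup.zpowers g₁) (Subgroup.zpowers x')
    rw [Nat.card_zpowers, Nat.card_zpowers, hg₁ord, hx'ord] at h1
    have h2 : Nat.card ↥H = Nat.card G := by rw [hHtop]; exact Subgroup.card_top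
    rw [← h2]; exact h1
  have hgt : p < Nat.card G := by
    -- zpowers g₁ has p elements and x' is outside
    by_contra hle
    push Not at hle
    have h3 : Nat.card ↥(Subgroup.zpowers g₁) = p := by rw [Nat.card_zpowers, hg₁ord]
    have h4 : Subgroup.zpowers g₁ = ⊤ := Subgroup.eq_top_of_le_card _ (by rw [h3]; exact hle)
    apply hx'g₁; rw [h4]; exact Subgroup.mem_top _
  refine ⟨p, hp, ?_, hep⟩
  rw [← pow_two] at hdvd
  obtain ⟨i, hi, hcard⟩ := (Nat.dvd_prime_pow hp).mp hdvd
  interval_cases i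
  · rw [pow_zero] at hcard; have := hp.one_lt; omega
  · rw [pow_one] at hcard; omega
  · exact hcard

end Cfsg.Agent.S3917
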