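import Cfsg.Statements.S3919
import Cfsg.Agent.Lib.Lead.MaxClassCentralizers

set_option autoImplicit false
open Cfsg

namespace Cfsg.Agent.S3919

/-- Say that a group has self-centralizing non-cyclic subgroups when every non-cyclic subgroup H satisfies C_G(H) ≤ H. A finite non-abelian 2-group G of order 2^n has self-centralizing non-cyclic subgroups if and only if G has nilpotency class n − 1 (that is, G is dihedral, semidihedral or generalized quaternion). -/
theorem result {G : Type*} [Group G] [Finite G] (hna : ¬ IsMulCommutative G) (n : ℕ) (hG : Nat.card G = 2 ^ n) :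
    (∀ H : Subgroup G, ¬ IsCyclic ↥H → Subgroup.centralizer (H : Set G) ≤ H) ↔ (⊤ : Subgroup G).lowerCentralSeries (n - 2) ≠ ⊥ := by
  haveI hp2 : Fact (Nat.Prime 2) := ⟨Nat.prime_two⟩
  have hna' : ∃ x y : G, x * y ≠ y * x := by
    by_contra hcon
    push_neg at hcon
    exact hna ⟨⟨hcon⟩⟩
  have hP : IsPGroup 2 G := IsPGroup.of_card hG
  haveI hnil : Group.IsNilpotent G := hP.isNilpotent
  have hn3 : 3 ≤ n := by
    by_contra hlt
    obtain ⟨x, y, hxy⟩ := hna'
    exact hxy (Cfsg.Agent.Lib.Lead.UniqueSubgroup.comm_of_card_le_sq (p := 2) (n := n) (by omega) hG x y)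
  have hle := Cfsg.Agent.Lib.Lead.MaxClass.nilpotencyClass_le n G hG (by omega)
  have hiff : (⊤ : Subgroup G).lowerCentralSeries (n - 2) ≠ ⊥ ↔ Group.nilpotencyClass G = n - 1 := by
    rw [Ne, Subgroup.lowerCentralSeries_eq_bot_iff_nilpotencyClass_le]
    omega
  rw [hiff]
  constructor
  · intro h
    obtain ⟨A, hA, hAC⟩ := Cfsg.Agent.Lib.Lead.MaxClassCentralizers.exists_self_centralizing_four hP hna' h
    exact Cfsg.Agent.Lib.Lead.SuzukiMaxClass.maxClass_of_self_centralizing n G hG A hA hAC
  · intro hc H hH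
    obtain ⟨m, rfl⟩ : ∃ m, n = m + 2 := ⟨n - 2, by omega⟩
    have h1 := Cfsg.Agent.Lib.Lead.MaxClass.maxClass_iff_index m G hG
    have hidx : (commutator G).index = 4 := h1.mp (by omega)
    exact Cfsg.Agent.Lib.Lead.MaxClassCentralizers.centralizer_le_of_index_four (m + 2) hn3 hG hidx H hH

end Cfsg.Agent.S3919
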