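import Cfsg.Statements.S3920
import Mathlib
-- import your own Cfsg.Agent.* helpers here

set_option autoImplicit false
open Cfsg

namespace Cfsg.Agent.S3920

open DihedralGroup

theorem zmod_two_mul_odd {n : ℕ} [NeZero n] (hn : Odd n) (a : ZMod n) (h : 2 * a = 0) : a = 0 := by
  have h1 : ((2 * a.val : ℕ) : ZMod n) = 0 := by
    rw [Nat.cast_mul, ZMod.natCast_zmod_val]; exact_mod_cast h
  rw [ZMod.natCast_eq_zero_iff] at h1
  have hcop : Nat.Coprime n 2 := Nat.Coprime.symm (Nat.coprime_two_left.mpr hn)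
  have h2 : n ∣ a.val := hcop.dvd_of_dvd_mul_left h1
  have h3 : a.val < n := ZMod.val_lt a
  have h4 : a.val = 0 := Nat.eq_zero_of_dvd_of_lt h2 h3
  rw [← ZMod.natCast_zmod_val a, h4, Nat.cast_zero]

theorem zmod_two_mul_even {h : ℕ} (hh : 0 < h) (a : ZMod (2 * h)) (ha : 2 * a = 0) :
    a = 0 ∨ a = ((h : ℕ) : ZMod (2 * h)) := by
  haveI : NeZero (2 * h) := ⟨by omega⟩
  have h1 : ((2 * a.val : ℕ) : ZMod (2 * h)) = 0 := by
    rw [Nat.cast_mul, ZMod.natCast_zmod_val]; exact_mod_cast ha
  rw [ZMod.natCast_eq_zero_iff] at h1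
  have h2 : h ∣ a.val := Nat.dvd_of_mul_dvd_mul_left (by norm_num) h1
  have h3 : a.val < 2 * h := ZMod.val_lt a
  obtain ⟨c, hc⟩ := h2
  have hc2 : c < 2 := by
    by_contra hge
    push_neg at hge
    have : 2 * h ≤ h * c := by rw [mul_comm]; exact Nat.mul_le_mul_left h hge
    omega
  interval_cases c
  · left
    rw [← ZMod.natCast_zmod_val a, hc, mul_zero, Nat.cast_zero]
  · right
    rw [← ZMod.natCast_zmod_val a, hc, mul_one]

theorem zmod_pow_two_mul {k : ℕ} (d : ZMod (2 ^ (k + 1))) (hd : d ≠ 0) :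
    ∃ m : ℕ, d * (m : ZMod (2 ^ (k + 1))) = ((2 ^ k : ℕ) : ZMod (2 ^ (k + 1))) := by
  haveI : NeZero (2 ^ (k + 1)) := ⟨by positivity⟩
  have hv : d.val ≠ 0 := by
    intro h; apply hd; rw [← ZMod.natCast_zmod_val d, h, Nat.cast_zero]
  obtain ⟨j, u, hu, hju⟩ := Nat.exists_eq_two_pow_mul_odd hv
  have hlt : d.val < 2 ^ (k + 1) := ZMod.val_lt d
  have hj : j ≤ k := by
    by_contra hjk
    push_neg at hjk
    have h1 : 2 ^ (k + 1) ≤ 2 ^ j := Nat.pow_le_pow_right (by norm_num) hjk
    have h2 : 2 ^ j ≤ d.val := by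
      rw [hju]; exact Nat.le_mul_of_pos_right _ hu.pos
    omega
  obtain ⟨w, hw⟩ := hu
  refine ⟨2 ^ (k - j), ?_⟩
  have h1 : d.val * 2 ^ (k - j) = 2 ^ k + 2 ^ (k + 1) * w := by
    rw [hju, hw]
    have : 2 ^ k = 2 ^ j * 2 ^ (k - j) := by rw [← pow_add]; congr 1; omega
    rw [pow_succ, this]; ring
  calc d * ((2 ^ (k - j) : ℕ) : ZMod (2 ^ (k + 1)))
      = ((d.val * 2 ^ (k - j) : ℕ) : ZMod (2 ^ (k + 1))) := by
        rw [Nat.cast_mul, ZMod.natCast_zmod_val]
    _ = ((2 ^ k + 2 ^ (k + 1) * w : ℕ) : ZMod (2 ^ (k + 1))) := by rw [h1]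
    _ = ((2 ^ k : ℕ) : ZMod (2 ^ (k + 1))) := by
        rw [Nat.cast_add, Nat.cast_mul, ZMod.natCast_self, zero_mul, add_zero]

/-- the key property (K) -/
def KeyProp (n : ℕ) : Prop :=
  ∀ H : Subgroup (DihedralGroup n), ∀ d : ZMod n, d ≠ 0 → r d ∈ H →
    ∀ a : ZMod n, 2 * a = 0 → r a ∈ H

theorem keyProp_odd {n : ℕ} [NeZero n] (hn : Odd n) : KeyProp n := by
  intro H d _ _ a ha
  rw [zmod_two_mul_odd hn a ha, r_zero]; exact H.one_mem

theorem keyProp_pow (k : ℕ) : KeyProp (2 ^ (k + 1)) := by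
  intro H d hd hdH a ha
  have hpos : 0 < 2 ^ k := by positivity
  have h2 : 2 ^ (k + 1) = 2 * 2 ^ k := by rw [pow_succ]; ring
  obtain ⟨m, hm⟩ := zmod_pow_two_mul d hd
  have h3 : r ((2 ^ k : ℕ) : ZMod (2 ^ (k + 1))) ∈ H := by
    rw [← hm, ← r_pow]; exact H.pow_mem hdH m
  have h4 : a = 0 ∨ a = ((2 ^ k : ℕ) : ZMod (2 ^ (k + 1))) := by
    revert a
    rw [h2]
    intro a ha
    exact zmod_two_mul_even hpos a ha
  rcases h4 with h | h
  · rw [h, r_zero]; exact H.one_mem
  · rw [h]; exact h3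

theorem main_of_keyProp {n : ℕ} [NeZero n] (hK : KeyProp n) (H : Subgroup (DihedralGroup n))
    (hH : ¬ IsCyclic ↥H) : Subgroup.centralizer (H : Set (DihedralGroup n)) ≤ H := by
  -- step 1: a reflection in H
  obtain ⟨i, hi⟩ : ∃ i : ZMod n, sr i ∈ H := by
    by_contra hne
    push_neg at hne
    apply hH
    have hle : H ≤ Subgroup.zpowers (r (1 : ZMod n)) := by
      intro x hx
      cases x with
      | r a =>
        rw [Subgroup.mem_zpowers_iff]
        refine ⟨(a.val : ℤ), ?_⟩
        rw [zpow_natCast, r_one_pow, ZMod.natCast_zmod_val]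
      | sr a => exact absurd hx (hne a)
    exact Subgroup.isCyclic_of_le hle
  -- step 2: a nontrivial rotation in H
  obtain ⟨d, hd, hdH⟩ : ∃ d : ZMod n, d ≠ 0 ∧ r d ∈ H := by
    by_contra hne
    push_neg at hne
    apply hH
    have hle : H ≤ Subgroup.zpowers (sr i) := by
      intro x hx
      cases x with
      | r a =>
        have ha : a = 0 := by
          by_contra h0
          exact hne a h0 hx
        rw [ha, r_zero]; exact Subgroup.one_mem _
      | sr j =>
        have h1 : sr i * sr j ∈ H := H.mul_mem hi hx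
        rw [sr_mul_sr] at h1
        have h2 : j - i = 0 := by
          by_contra h0
          exact hne _ h0 h1
        have h3 : j = i := sub_eq_zero.mp h2
        rw [h3]; exact Subgroup.mem_zpowers _
    exact Subgroup.isCyclic_of_le hle
  intro x hx
  rw [Subgroup.mem_centralizer_iff] at hx
  have hcomm := hx (sr i) hi
  cases x with
  | r a =>
    rw [sr_mul_r, r_mul_sr] at hcomm
    have h1 : i + a = i - a := by
      injection hcomm
    have h2 : 2 * a = 0 := by
      have : a = -a := by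
        have := congrArg (fun t => t - i) h1
        simpa using this
      calc 2 * a = a + a := two_mul a
        _ = a + -a := by rw [← this]
        _ = 0 := add_neg_cancel a
    exact hK H d hd hdH a h2
  | sr a =>
    rw [sr_mul_sr, sr_mul_sr] at hcomm
    have h1 : a - i = i - a := by
      injection hcomm
    have h2 : 2 * (a - i) = 0 := by
      calc 2 * (a - i) = (a - i) + (a - i) := two_mul _
        _ = (a - i) + (i - a) := by rw [← h1]
        _ = 0 := by ring
    have h3 := hK H d hd hdH (a - i) h2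
    have h4 : sr a = sr i * r (a - i) := by
      rw [sr_mul_r]; congr 1; ring
    rw [h4]; exact H.mul_mem hi h3

/-- Say that a group has self-centralizing non-cyclic subgroups when every non-cyclic subgroup H satisfies C_G(H) ≤ H. For n ≥ 3, the dihedral group of order 2n has self-centralizing non-cyclic subgroups if and only if n is odd or a power of 2. -/
theorem result (n : ℕ) (hn : 3 ≤ n) : (∀ H : Subgroup (DihedralGroup n), ¬ IsCyclic ↥H → Subgroup.centralizer (H : Set (DihedralGroup n)) ≤ H) ↔ (Odd n ∨ ∃ k : ℕ, n = 2 ^ k) := by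
  classical
  haveI : NeZero n := ⟨by omega⟩
  constructor
  · intro hall
    by_contra hnot
    push_neg at hnot
    obtain ⟨hodd, hpow⟩ := hnot
    have hn0 : n ≠ 0 := by omega
    obtain ⟨a, m, hm, hnam⟩ := Nat.exists_eq_two_pow_mul_odd hn0
    have ha : a ≠ 0 := by
      intro h0
      apply hodd
      rw [hnam, h0, pow_zero, one_mul]; exact hm
    have hm1 : m ≠ 1 := by
      intro h1
      exact hpow a (by rw [hnam, h1, mul_one])
    obtain ⟨a', rfl⟩ : ∃ a', a = a' + 1 := ⟨a - 1, by omega⟩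
    -- the subgroup
    let e : ZMod n := ((2 ^ (a' + 1) : ℕ) : ZMod n)
    let H : Subgroup (DihedralGroup n) :=
      { carrier := {x | (∃ j : ZMod n, x = r (e * j)) ∨ ∃ j : ZMod n, x = sr (e * j)}
        mul_mem' := by
          rintro x y (⟨j, rfl⟩ | ⟨j, rfl⟩) (⟨j', rfl⟩ | ⟨j', rfl⟩)
          · left; exact ⟨j + j', by rw [r_mul_r]; congr 1; ring⟩
          · right; exact ⟨j' - j, by rw [r_mul_sr]; congr 1; ring⟩
          · right; exact ⟨j + j', by rw [sr_mul_r]; congr 1; ring⟩
          · left; exact ⟨j' - j, by rw [sr_mul_sr]; congr 1; ring⟩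
        one_mem' := by
          left; exact ⟨0, by rw [mul_zero, r_zero]⟩
        inv_mem' := by
          rintro x (⟨j, rfl⟩ | ⟨j, rfl⟩)
          · left; exact ⟨-j, by rw [inv_r]; congr 1; ring⟩
          · right; exact ⟨j, by rw [inv_sr]⟩ }
    have hsr0 : (sr 0 : DihedralGroup n) ∈ H := Or.inr ⟨0, by rw [mul_zero]⟩
    have hre : (r e : DihedralGroup n) ∈ H := Or.inl ⟨1, by rw [mul_one]⟩
    have hHnc : ¬ IsCyclic ↥H := by
      intro hc
      have hcm : ∀ x y : ↥H, x * y = y * x := fun x y => by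
        haveI := hc
        exact (IsCyclic.isMulCommutative (α := ↥H)).is_comm.comm x y
      have h1 := congrArg Subtype.val (hcm ⟨sr 0, hsr0⟩ ⟨r e, hre⟩)
      have h2 : (sr 0 : DihedralGroup n) * r e = r e * sr 0 := h1
      rw [sr_mul_r, r_mul_sr] at h2
      have h3 : (0 : ZMod n) + e = 0 - e := by injection h2
      have h4 : ((2 ^ (a' + 1) * 2 : ℕ) : ZMod n) = 0 := by
        have : e + e = 0 := by
          have h5 : e = -e := by simpa using h3
          calc e + e = e + -e := by rw [← h5]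
            _ = 0 := add_neg_cancel e
        rw [Nat.cast_mul]; simpa [e, mul_two] using this
      rw [ZMod.natCast_eq_zero_iff, hnam] at h4
      have h5 : m ∣ 2 := Nat.dvd_of_mul_dvd_mul_left (by positivity) h4
      have h6 : m ≤ 2 := Nat.le_of_dvd (by norm_num) h5
      have hmpos : 0 < m := hm.pos
      interval_cases m
      · exact hm1 rfl
      · exact absurd hm (by decide)
    have hcent := hall H hHnc
    -- the central element
    have hn2 : n = 2 * (2 ^ a' * m) := by rw [hnam, pow_succ]; ring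
    let x : DihedralGroup n := r ((2 ^ a' * m : ℕ) : ZMod n)
    have h2h : (2 : ZMod n) * ((2 ^ a' * m : ℕ) : ZMod n) = 0 := by
      have : ((2 * (2 ^ a' * m) : ℕ) : ZMod n) = 0 := by
        rw [← hn2]; exact ZMod.natCast_self n
      rw [Nat.cast_mul] at this
      exact_mod_cast this
    have hxc : x ∈ Subgroup.centralizer (H : Set (DihedralGroup n)) := by
      rw [Subgroup.mem_centralizer_iff]
      intro y _
      cases y with
      | r b => show r b * r _ = r _ * r b; rw [r_mul_r, r_mul_r, add_comm]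
      | sr b =>
        show sr b * r _ = r _ * sr b
        rw [sr_mul_r, r_mul_sr]
        congr 1
        have : ((2 ^ a' * m : ℕ) : ZMod n) = -((2 ^ a' * m : ℕ) : ZMod n) := by
          rw [eq_neg_iff_add_eq_zero, ← two_mul]; exact h2h
        rw [sub_eq_add_neg, ← this]
    have hxH := hcent hxc
    rcases hxH with ⟨j, hj⟩ | ⟨j, hj⟩
    · have hj' : ((2 ^ a' * m : ℕ) : ZMod n) = e * j := by injection hj
      have hdvd : 2 ^ (a' + 1) ∣ n := ⟨m, hnam⟩
      have h1 := congrArg (ZMod.castHom hdvd (ZMod (2 ^ (a' + 1)))) hj'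
      rw [map_mul, map_natCast] at h1
      have h2 : (ZMod.castHom hdvd (ZMod (2 ^ (a' + 1)))) e = 0 := by
        show (ZMod.castHom hdvd (ZMod (2 ^ (a' + 1)))) ((2 ^ (a' + 1) : ℕ) : ZMod n) = 0
        rw [map_natCast]; exact ZMod.natCast_self _
      rw [h2, zero_mul, ZMod.natCast_eq_zero_iff, pow_succ] at h1
      have h3 : 2 ∣ m := by
        have : 2 ^ a' * 2 ∣ 2 ^ a' * m := h1
        exact Nat.dvd_of_mul_dvd_mul_left (by positivity) this
      exact (Nat.not_even_iff_odd.mpr hm) (even_iff_two_dvd.mpr h3)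
    · exact absurd hj (by simp [x])
  · rintro (hodd | ⟨k, rfl⟩)
    · intro H hH
      exact main_of_keyProp (keyProp_odd hodd) H hH
    · intro H hH
      obtain ⟨k', rfl⟩ : ∃ k', k = k' + 1 := ⟨k - 1, by
        rcases k with _ | k
        · simp at hn
        · simp⟩
      exact main_of_keyProp (keyProp_pow k') H hH

end Cfsg.Agent.S3920
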