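import Cfsg.Statements.S3937
import Mathlib
import Cfsg.Agent.Lib.Helper2.Cores

set_option autoImplicit false
open Cfsg

namespace Cfsg.Agent.S3937

open Cfsg.Agent.Lib.Helper2

universe u

section basics

variable {G : Type*} [Group G]

/-- the commutator map `y ↦ [y, g]` -/
def phi (g : G) (y : G) : G := y * g * y⁻¹ * g⁻¹

/-- left Engel element -/
def IsEngel (g : G) : Prop := ∀ x : G, ∃ n : ℕ, (phi g)^[n] x = 1

lemma foldl_eq_iterate (g : G) (n : ℕ) (x : G) :
    (List.replicate n g).foldl (fun a b => a * b * a⁻¹ * b⁻¹) x = (phi g)^[n] x := by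
  induction n generalizing x with
  | zero => rfl
  | succ n ih =>
    rw [List.replicate_succ, List.foldl_cons, ih, Function.iterate_succ_apply]
    try rfl

lemma iter_coe (H : Subgroup G) (y x : ↥H) (n : ℕ) :
    (((phi y)^[n] x : ↥H) : G) = (phi (y : G))^[n] (x : G) := by
  induction n with
  | zero => rfl
  | succ n ih =>
    rw [Function.iterate_succ_apply', Function.iterate_succ_apply', ← ih]
    rfl

lemma phi_conj (g z w : G) : phi (z * g * z⁻¹) (z * w * z⁻¹) = z * phi g w * z⁻¹ := by
  unfold phi; group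

lemma iter_conj (g z w : G) (n : ℕ) :
    (phi (z * g * z⁻¹))^[n] (z * w * z⁻¹) = z * (phi g)^[n] w * z⁻¹ := by
  induction n generalizing w with
  | zero => rfl
  | succ n ih => rw [Function.iterate_succ_apply, Function.iterate_succ_apply, phi_conj, ih]

lemma IsEngel.conj {g : G} (h : IsEngel g) (z : G) : IsEngel (z * g * z⁻¹) := by
  intro x
  obtain ⟨n, hn⟩ := h (z⁻¹ * x * z)
  refine ⟨n, ?_⟩
  have h1 := iter_conj g z (z⁻¹ * x * z) n
  rw [hn] at h1
  have hx : z * (z⁻¹ * x * z) * z⁻¹ = x := by group
  rw [hx] at h1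
  rw [h1]; group

lemma nil_of_le {S N : Subgroup G} (h : S ≤ N) (hN : Group.IsNilpotent ↥N) :
    Group.IsNilpotent ↥S := by
  obtain ⟨m, hm⟩ := (Subgroup.isNilpotent_iff_lowerCentralSeries N).mp hN
  refine (Subgroup.isNilpotent_iff_lowerCentralSeries S).mpr ⟨m, ?_⟩
  have := Subgroup.lowerCentralSeries_mono m h
  simp only at this
  rw [hm] at this
  exact le_bot_iff.mp this

lemma engel_of_mem_fitting [Finite G] (g : G) (hg : g ∈ fittingSubgroup G) : IsEngel g := by
  intro x
  have hFn : (fittingSubgroup G).Normal := fittingSubgroup_normal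
  have hnil : Group.IsNilpotent ↥(fittingSubgroup G) := fittingSubgroup_isNilpotent
  obtain ⟨n, hn⟩ := (Subgroup.isNilpotent_iff_lowerCentralSeries _).mp hnil
  have key : ∀ k : ℕ, (phi g)^[k+1] x ∈ (fittingSubgroup G).lowerCentralSeries k := by
    intro k
    induction k with
    | zero =>
      show phi g x ∈ fittingSubgroup G
      unfold phi
      exact (fittingSubgroup G).mul_mem (hFn.conj_mem g hg x) ((fittingSubgroup G).inv_mem hg)
    | succ k ih =>
      rw [Function.iterate_succ_apply', Subgroup.lowerCentralSeries_succ]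
      have := Subgroup.commutator_mem_commutator ih hg
      rw [commutatorElement_def] at this
      exact this
  refine ⟨n + 1, ?_⟩
  have h := key n
  rw [hn] at h
  exact Subgroup.mem_bot.mp h

/-- Lemma A -/
lemma exists_conj_le_normalizer (K N S : Subgroup G) (hSN : S ≤ N) (hNK : N ≤ K)
    (hKN : K ≤ Subgroup.normalizer (N : Set G)) (hnil : Group.IsNilpotent ↥N)
    (hS : ¬ K ≤ Subgroup.normalizer (S : Set G)) :
    ∃ x ∈ K, x ∉ Subgroup.normalizer (S : Set G) ∧
      ∀ s ∈ S, x * s * x⁻¹ ∈ Subgroup.normalizer (S : Set G) := by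
  by_cases h : N ≤ Subgroup.normalizer (S : Set G)
  · obtain ⟨x, hxK, hxS⟩ := SetLike.not_le_iff_exists.mp hS
    refine ⟨x, hxK, hxS, fun s hs => h ?_⟩
    exact (Subgroup.mem_normalizer_iff.mp (hKN hxK) s).mp (hSN hs)
  · have hTlt : (N ⊓ Subgroup.normalizer (S : Set G)).subgroupOf N < ⊤ := by
      rw [lt_top_iff_ne_top, Ne, Subgroup.subgroupOf_eq_top]
      intro hNT
      exact h (hNT.trans inf_le_right)
    have hnc := Group.normalizerCondition_of_isNilpotent (G := ↥N) _ hTlt
    obtain ⟨n, hn1, hn2⟩ := SetLike.exists_of_lt hnc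
    refine ⟨(n : G), hNK n.2, ?_, ?_⟩
    · intro hx
      apply hn2
      rw [Subgroup.mem_subgroupOf]
      exact ⟨n.2, hx⟩
    · intro s hs
      have hsT : (⟨s, hSN hs⟩ : ↥N) ∈ (N ⊓ Subgroup.normalizer (S : Set G)).subgroupOf N := by
        rw [Subgroup.mem_subgroupOf]
        exact ⟨hSN hs, Subgroup.le_normalizer hs⟩
      have h3 := (Subgroup.mem_normalizer_iff.mp hn1 _).mp hsT
      rw [Subgroup.mem_subgroupOf] at h3
      exact h3.2

lemma zipper [Finite G] (X : Set G) (hXc : ∀ z x, x ∈ X → z * x * z⁻¹ ∈ X)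
    (hXH : ∀ H : Subgroup G, H ≠ ⊤ → ∃ N : Subgroup G, (∀ x ∈ X, x ∈ H → x ∈ N) ∧ N ≤ H ∧
      H ≤ Subgroup.normalizer (N : Set G) ∧ Group.IsNilpotent ↥N) :
    ∀ (k : ℕ) (T : Set G), T ⊆ X → Nat.card G - Nat.card ↥(Subgroup.closure T) = k →
      ¬ Subgroup.closure T ≤ fittingSubgroup G →
      ∀ M K : Subgroup G, IsCoatom M → IsCoatom K → Subgroup.closure T ≤ M →
        Subgroup.closure T ≤ K → M = K := by
  intro k
  induction k using Nat.strong_induction_on with
  | _ k ih =>
    intro T hTX hk hTF
    have key : ∀ K : Subgroup G, IsCoatom K → Subgroup.closure T ≤ K →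
        ∀ M₀ : Subgroup G, IsCoatom M₀ →
        Subgroup.normalizer ((Subgroup.closure T : Subgroup G) : Set G) ≤ M₀ → K = M₀ := by
      intro K hK hSK M₀ hM₀ hNM₀
      by_cases hKn : K ≤ Subgroup.normalizer ((Subgroup.closure T : Subgroup G) : Set G)
      · exact (eq_or_lt_of_le (hKn.trans hNM₀)).resolve_right (fun hlt => hM₀.1 (hK.2 _ hlt))
      · obtain ⟨N, hN1, hN2, hN3, hN4⟩ := hXH K hK.1
        have hSN : Subgroup.closure T ≤ N := by
          rw [Subgroup.closure_le]
          intro t ht
          exact hN1 t (hTX ht) (hSK (Subgroup.subset_closure ht))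
        obtain ⟨x, hxK, hxS, hxn⟩ :=
          exists_conj_le_normalizer K N (Subgroup.closure T) hSN hN2 hN3 hN4 hKn
        have hT'X : T ∪ (fun t => x * t * x⁻¹) '' T ⊆ X := by
          rintro t (ht | ⟨t, ht, rfl⟩)
          · exact hTX ht
          · exact hXc x t (hTX ht)
        have hSS' : Subgroup.closure T ≤ Subgroup.closure (T ∪ (fun t => x * t * x⁻¹) '' T) :=
          Subgroup.closure_mono Set.subset_union_left
        have hS'n : Subgroup.closure (T ∪ (fun t => x * t * x⁻¹) '' T) ≤
            Subgroup.normalizer ((Subgroup.closure T : Subgroup G) : Set G) := by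
          rw [Subgroup.closure_le]
          rintro t (ht | ⟨t, ht, rfl⟩)
          · exact Subgroup.le_normalizer (Subgroup.subset_closure ht)
          · exact hxn t (Subgroup.subset_closure ht)
        have hS'K : Subgroup.closure (T ∪ (fun t => x * t * x⁻¹) '' T) ≤ K := by
          rw [Subgroup.closure_le]
          rintro t (ht | ⟨t, ht, rfl⟩)
          · exact hSK (Subgroup.subset_closure ht)
          · exact K.mul_mem (K.mul_mem hxK (hSK (Subgroup.subset_closure ht))) (K.inv_mem hxK)
        have hne : Subgroup.closure (T ∪ (fun t => x * t * x⁻¹) '' T) ≠ Subgroup.closure T := by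
          intro heq
          apply hxS
          have hmap : (Subgroup.closure T).map (MulAut.conj x).toMonoidHom ≤
              Subgroup.closure (T ∪ (fun t => x * t * x⁻¹) '' T) := by
            rw [MonoidHom.map_closure]
            apply Subgroup.closure_mono
            rintro _ ⟨t, ht, rfl⟩
            exact Or.inr ⟨t, ht, rfl⟩
          apply Subgroup.mem_normalizer_fintype
          intro n hn
          have h4 : x * n * x⁻¹ ∈ Subgroup.closure (T ∪ (fun t => x * t * x⁻¹) '' T) :=
            hmap ⟨n, hn, rfl⟩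
          rw [heq] at h4
          exact h4
        have hlt : Nat.card ↥(Subgroup.closure T) <
            Nat.card ↥(Subgroup.closure (T ∪ (fun t => x * t * x⁻¹) '' T)) :=
          lt_of_not_ge fun hge => hne (Subgroup.eq_of_le_of_card_ge hSS' hge).symm
        have hle : Nat.card ↥(Subgroup.closure (T ∪ (fun t => x * t * x⁻¹) '' T)) ≤ Nat.card G :=
          Subgroup.card_le_card_group _
        have hk' : Nat.card G - Nat.card ↥(Subgroup.closure (T ∪ (fun t => x * t * x⁻¹) '' T)) < k := by
          omega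
        exact (ih _ hk' _ hT'X rfl (fun h => hTF (hSS'.trans h)) M₀ K hM₀ hK
          (hS'n.trans hNM₀) hS'K).symm
    intro M K hM hK hSM hSK
    have hStop : Subgroup.closure T ≠ ⊤ := fun h => hM.1 (top_le_iff.mp (h ▸ hSM))
    have hnorm : Subgroup.normalizer ((Subgroup.closure T : Subgroup G) : Set G) ≠ ⊤ := by
      intro htop
      have hSn : (Subgroup.closure T).Normal := Subgroup.normalizer_eq_top_iff.mp htop
      obtain ⟨N, hN1, hN2, hN3, hN4⟩ := hXH _ hStop
      have hSN : Subgroup.closure T ≤ N := by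
        rw [Subgroup.closure_le]
        intro t ht
        exact hN1 t (hTX ht) (Subgroup.subset_closure ht)
      exact hTF (le_fittingSubgroup hSn (nil_of_le hSN hN4))
    obtain ⟨M₀, hM₀, hNM₀⟩ := (eq_top_or_exists_le_coatom _).resolve_left hnorm
    rw [key M hM hSM M₀ hM₀ hNM₀, key K hK hSK M₀ hM₀ hNM₀]

end basics

theorem engel_mem_fitting : ∀ (n : ℕ) (G : Type u) [Group G] [Finite G], Nat.card G = n →
    ∀ g : G, IsEngel g → g ∈ fittingSubgroup G := by
  intro n
  induction n using Nat.strong_induction_on with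
  | _ n ih =>
    intro G _ _ hn g hg
    by_contra hgF
    have hXc : ∀ z x : G, x ∈ {y : G | IsEngel y} → z * x * z⁻¹ ∈ {y : G | IsEngel y} :=
      fun z x hx => IsEngel.conj hx z
    have hXH : ∀ H : Subgroup G, H ≠ ⊤ → ∃ N : Subgroup G,
        (∀ x ∈ {y : G | IsEngel y}, x ∈ H → x ∈ N) ∧ N ≤ H ∧
        H ≤ Subgroup.normalizer (N : Set G) ∧ Group.IsNilpotent ↥N := by
      intro H hH
      have hcard : Nat.card ↥H < n := by
        rw [← hn]
        exact lt_of_le_of_ne (Subgroup.card_le_card_group H)
          (fun h => hH (Subgroup.eq_top_of_card_eq H h))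
      have hFn : (fittingSubgroup ↥H).Normal := fittingSubgroup_normal
      refine ⟨(fittingSubgroup ↥H).map H.subtype, ?_, Subgroup.map_subtype_le _, ?_, ?_⟩
      · intro x hx hxH
        have hE : IsEngel (⟨x, hxH⟩ : ↥H) := by
          intro w
          obtain ⟨m, hm⟩ := hx (w : G)
          refine ⟨m, Subtype.ext ?_⟩
          rw [iter_coe]; exact hm
        exact ⟨⟨x, hxH⟩, ih _ hcard ↥H rfl _ hE, rfl⟩
      · rw [Subgroup.le_normalizer_iff]
        rintro h hh _ ⟨f, hf, rfl⟩
        exact ⟨⟨h, hh⟩ * f * ⟨h, hh⟩⁻¹, hFn.conj_mem f hf _, rfl⟩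
      · have hnil : Group.IsNilpotent ↥(fittingSubgroup ↥H) := fittingSubgroup_isNilpotent
        obtain ⟨m, hm⟩ := (Subgroup.isNilpotent_iff_lowerCentralSeries _).mp hnil
        refine (Subgroup.isNilpotent_iff_lowerCentralSeries _).mpr ⟨m, ?_⟩
        rw [← Subgroup.map_lowerCentralSeries, hm, Subgroup.map_bot]
    have hSF : ¬ Subgroup.closure ({g} : Set G) ≤ fittingSubgroup G :=
      fun h => hgF (h (Subgroup.subset_closure rfl))
    have hTX : ({g} : Set G) ⊆ {y : G | IsEngel y} := by
      rintro _ rfl; exact hg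
    have hStop : Subgroup.closure ({g} : Set G) ≠ ⊤ := by
      intro htop
      apply hSF
      have hn' : (Subgroup.closure ({g} : Set G)).Normal := by rw [htop]; infer_instance
      refine le_fittingSubgroup hn' ?_
      refine (Subgroup.isNilpotent_iff_lowerCentralSeries _).mpr ⟨1, ?_⟩
      rw [Subgroup.lowerCentralSeries_succ, Subgroup.lowerCentralSeries_zero,
        Subgroup.commutator_eq_bot_iff_le_centralizer, Subgroup.closure_le]
      rintro _ rfl
      rw [SetLike.mem_coe, Subgroup.mem_centralizer_iff]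
      intro h hh
      obtain ⟨m, rfl⟩ := Subgroup.mem_closure_singleton.mp hh
      exact Commute.zpow_self _ m
    obtain ⟨M, hM, hSM⟩ := (eq_top_or_exists_le_coatom _).resolve_left hStop
    have huniq : ∀ K : Subgroup G, IsCoatom K → g ∈ K → K = M := by
      intro K hK hgK
      refine zipper {y : G | IsEngel y} hXc hXH _ {g} hTX rfl hSF K M hK hM ?_ hSM
      rw [Subgroup.closure_le]
      rintro _ rfl
      exact hgK
    have hgM : g ∈ M := hSM (Subgroup.subset_closure rfl)
    have hnormM : ∀ y : G, y * g * y⁻¹ ∈ M → y ∈ Subgroup.normalizer (M : Set G) := by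
      intro y hy
      have hK : IsCoatom (M.map (MulAut.conj y⁻¹).toMonoidHom) :=
        ((MulEquiv.mapSubgroup (MulAut.conj y⁻¹)).isCoatom_iff M).mpr hM
      have hgK : g ∈ M.map (MulAut.conj y⁻¹).toMonoidHom := by
        refine ⟨y * g * y⁻¹, hy, ?_⟩
        show y⁻¹ * (y * g * y⁻¹) * y⁻¹⁻¹ = g
        group
      have h5 := huniq _ hK hgK
      have h1 : y⁻¹ ∈ Subgroup.normalizer (M : Set G) :=
        Subgroup.mem_normalizer_iff_map_conj_eq.mpr h5
      have h2 := (Subgroup.normalizer (M : Set G)).inv_mem h1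
      rwa [inv_inv] at h2
    have hMle : M ≤ Subgroup.normalizer (M : Set G) := Subgroup.le_normalizer
    rcases eq_or_lt_of_le hMle with heq | hlt
    · have hB : ∀ (m : ℕ) (x : G), (phi g)^[m] x ∈ M → x ∈ M := by
        intro m
        induction m with
        | zero => intro x hx; exact hx
        | succ m ihm =>
          intro x hx
          rw [Function.iterate_succ_apply] at hx
          have h1 : phi g x ∈ M := ihm _ hx
          have h2 : x * g * x⁻¹ ∈ M := by
            have h3 := M.mul_mem h1 hgM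
            have h4 : phi g x * g = x * g * x⁻¹ := by unfold phi; group
            rwa [h4] at h3
          have h6 := hnormM x h2
          rw [← heq] at h6
          exact h6
      apply hM.1
      rw [Subgroup.eq_top_iff']
      intro x
      obtain ⟨m, hm⟩ := hg x
      exact hB m x (hm ▸ M.one_mem)
    · have htop : Subgroup.normalizer (M : Set G) = ⊤ := hM.2 _ hlt
      have hMn : M.Normal := Subgroup.normalizer_eq_top_iff.mp htop
      obtain ⟨N, hN1, hN2, hN3, hN4⟩ := hXH M hM.1
      have hC : Subgroup.normalClosure ({g} : Set G) ≤ N := by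
        unfold Subgroup.normalClosure
        rw [Subgroup.closure_le]
        intro y hy
        rw [SetLike.mem_coe]
        rw [Group.mem_conjugatesOfSet_iff] at hy
        obtain ⟨b, hb, hconj⟩ := hy
        rw [Set.mem_singleton_iff] at hb
        subst hb
        obtain ⟨c, hc⟩ := isConj_iff.mp hconj
        subst hc
        exact hN1 _ (hXc c _ hg) (hMn.conj_mem _ hgM c)
      apply hgF
      have hCnil : Group.IsNilpotent ↥(Subgroup.normalClosure ({g} : Set G)) := nil_of_le hC hN4
      exact le_fittingSubgroup Subgroup.normalClosure_normal hCnil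
        (Subgroup.subset_normalClosure rfl)

/-- Baer's characterization of the Fitting subgroup: in a finite group G, an element g lies in the Fitting subgroup if and only if g is a left Engel element, that is, for every x there is n with [x, g, g, …, g] = 1 (n entries g, [a, b] = aba⁻¹b⁻¹). -/
theorem result {G : Type*} [Group G] [Finite G] (g : G) :
    g ∈ Cfsg.fittingSubgroup G ↔ ∀ x : G, ∃ n : ℕ, (List.replicate n g).foldl (fun a b => a * b * a⁻¹ * b⁻¹) x = 1 := by
  constructor
  · intro hg x
    obtain ⟨n, hn⟩ := engel_of_mem_fitting g hg x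
    exact ⟨n, by rw [foldl_eq_iterate]; exact hn⟩
  · intro h
    apply engel_mem_fitting _ G rfl g
    intro x
    obtain ⟨n, hn⟩ := h x
    exact ⟨n, by rw [← foldl_eq_iterate]; exact hn⟩

end Cfsg.Agent.S3937
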