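import Cfsg.Statements.S3941

set_option autoImplicit false
open Cfsg

namespace Cfsg.Agent.S3941

open Equiv.Perm Equiv

/-- The embedding of `A_m` into `A_{m+1}` as the stabilizer of the last point. -/
noncomputable def emb (m : ℕ) : alternatingGroup (Fin m) →* alternatingGroup (Fin (m + 1)) :=
  ((Equiv.Perm.extendDomainHom (finSuccAboveEquiv (Fin.last m))).comp
    (alternatingGroup (Fin m)).subtype).codRestrict _ (by
      intro x
      rw [Equiv.Perm.mem_alternatingGroup]
      simp only [MonoidHom.coe_comp, Subgroup.coe_subtype, Function.comp_apply,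
        Equiv.Perm.extendDomainHom_apply, Equiv.Perm.sign_extendDomain]
      exact x.2)

theorem emb_injective (m : ℕ) : Function.Injective (emb m) := by
  intro x y hxy
  have h1 := congrArg Subtype.val hxy
  simp only [emb, MonoidHom.codRestrict_apply, MonoidHom.coe_comp, Subgroup.coe_subtype,
    Function.comp_apply] at h1
  exact Subtype.ext (Equiv.Perm.extendDomainHom_injective _ h1)

theorem card_alt (m : ℕ) (hm : 2 ≤ m) : 2 * Nat.card (alternatingGroup (Fin m)) = m.factorial := by
  have : Nontrivial (Fin m) := Fin.nontrivial_iff_two_le.2 hm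
  rw [two_mul_nat_card_alternatingGroup, Nat.card_perm, Nat.card_fin]

theorem mem_normal_sylow {K : Type*} [Group K] [Finite K] {p : ℕ} [Fact p.Prime] (P : Sylow p K)
    (hP : (P : Subgroup K).Normal) (x : K) (k : ℕ) (hx : orderOf x = p ^ k) : x ∈ (P : Subgroup K) := by
  have hz : IsPGroup p (Subgroup.zpowers x) := by
    rw [IsPGroup.iff_card]
    exact ⟨k, by rw [Nat.card_zpowers, hx]⟩
  obtain ⟨Q, hQ⟩ := hz.exists_le_sylow
  have := Sylow.unique_of_normal P hP
  have : Q = P := Subsingleton.elim _ _
  rw [← this]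
  exact hQ (Subgroup.mem_zpowers x)

theorem not_normal_sylow_four (P : Sylow 3 (alternatingGroup (Fin 4))) :
    ¬ (P : Subgroup (alternatingGroup (Fin 4))).Normal := by
  intro hP
  let x : alternatingGroup (Fin 4) := ⟨swap 0 1 * swap 1 2, by
    rw [Equiv.Perm.mem_alternatingGroup]; decide⟩
  let y : alternatingGroup (Fin 4) := ⟨swap 1 2 * swap 2 3, by
    rw [Equiv.Perm.mem_alternatingGroup]; decide⟩
  have hx : orderOf x = 3 ^ 1 := by
    rw [pow_one]
    exact orderOf_eq_prime (by decide) (by decide)
  have hy : orderOf y = 3 ^ 1 := by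
    rw [pow_one]
    exact orderOf_eq_prime (by decide) (by decide)
  have hxP := mem_normal_sylow P hP x 1 hx
  have hyP := mem_normal_sylow P hP y 1 hy
  have hxy : x * y ∈ (P : Subgroup _) := mul_mem hxP hyP
  have h2 : orderOf (x * y) = 2 := orderOf_eq_prime (by decide) (by decide)
  obtain ⟨k, hk⟩ := (IsPGroup.iff_orderOf.1 P.isPGroup') ⟨x * y, hxy⟩
  rw [Subgroup.orderOf_mk, h2] at hk
  rcases k with _ | k
  · simp at hk
  · have : 3 ∣ 2 := by rw [hk, pow_succ]; exact dvd_mul_left _ _
    omega

theorem two_dvd_card_alt (m : ℕ) (hm : 4 ≤ m) : 2 ∣ Nat.card (alternatingGroup (Fin m)) := by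
  have hcard := card_alt m (by omega)
  have h4 : 4 ∣ m.factorial := by
    have : (4 : ℕ).factorial ∣ m.factorial := Nat.factorial_dvd_factorial hm
    exact dvd_trans (by decide) this
  rw [← hcard] at h4
  exact (Nat.mul_dvd_mul_iff_left (by norm_num : 0 < 2)).1 (by simpa using h4)

theorem prime_dvd_card_alt (m p : ℕ) (hm : 4 ≤ m) (hp : p.Prime) (hp2 : p ≠ 2) (hpm : p ≤ m) :
    p ∣ Nat.card (alternatingGroup (Fin m)) := by
  have hcard := card_alt m (by omega)
  have hpdvd : p ∣ m.factorial := (Nat.Prime.dvd_factorial hp).2 hpm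
  rw [← hcard] at hpdvd
  have hcop : Nat.Coprime p 2 := (Nat.coprime_primes hp Nat.prime_two).2 hp2
  exact hcop.dvd_of_dvd_mul_left hpdvd

theorem not_normal_sylow (m p : ℕ) (hm : 4 ≤ m) [hp : Fact p.Prime] (hp2 : p ≠ 2) (hpm : p ≤ m)
    (P : Sylow p (alternatingGroup (Fin m))) : ¬ (P : Subgroup (alternatingGroup (Fin m))).Normal := by
  intro hP
  rcases Nat.eq_or_lt_of_le hm with rfl | hm5
  · -- m = 4, so p = 3
    have hp3 : p = 3 := by
      have h2 := hp.out.two_le
      have : p ≠ 4 := by
        rintro rfl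
        exact absurd hp.out (by norm_num)
      omega
    subst hp3
    exact not_normal_sylow_four P hP
  · have hsimple : IsSimpleGroup (alternatingGroup (Fin m)) :=
      alternatingGroup.isSimpleGroup (by simpa using (show 5 ≤ m from hm5))
    have h2card := two_dvd_card_alt m hm
    have hpcard := prime_dvd_card_alt m p hm hp.out hp2 hpm
    rcases hP.eq_bot_or_eq_top with hbot | htop
    · exact P.ne_bot_of_dvd_card hpcard hbot
    · have hPG : IsPGroup p (alternatingGroup (Fin m)) := by
        have := P.isPGroup'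
        rw [htop] at this
        exact IsPGroup.of_equiv this Subgroup.topEquiv
      obtain ⟨k, hk⟩ := IsPGroup.iff_card.1 hPG
      rw [hk] at h2card
      have := (Nat.Prime.dvd_of_dvd_pow Nat.prime_two h2card)
      have := (Nat.prime_dvd_prime_iff_eq Nat.prime_two hp.out).1 this
      exact hp2 this.symm

/-- Let n ≥ 5 and p an odd prime with p ≤ n, and suppose that every proper subgroup of the alternating group of degree n whose order is divisible by p has a normal Sylow p-subgroup. Then n = p. -/
theorem result (n p : ℕ) (hn : 5 ≤ n) [Fact p.Prime] (hp : p ≠ 2) (hpn : p ≤ n)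
    (h : ∀ H : Subgroup ↥(alternatingGroup (Fin n)), H ≠ ⊤ → p ∣ Nat.card ↥H → Cfsg.IsPClosed p ↥H) : n = p := by
  by_contra hne
  obtain ⟨m, rfl⟩ : ∃ m, n = m + 1 := ⟨n - 1, by omega⟩
  have hm : 4 ≤ m := by omega
  have hpm : p ≤ m := by omega
  have hp' : p.Prime := Fact.out
  set ψ := emb m with hψ
  have hinj := emb_injective m
  have hcardH : Nat.card ψ.range = Nat.card (alternatingGroup (Fin m)) :=
    (Nat.card_congr (MonoidHom.ofInjective hinj).toEquiv).symm
  have hne_top : ψ.range ≠ ⊤ := by
    intro htop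
    have h1 : Nat.card ψ.range = Nat.card (alternatingGroup (Fin (m + 1))) := by
      rw [htop]; exact Subgroup.card_top
    rw [hcardH] at h1
    have e1 := card_alt m (by omega)
    have e2 := card_alt (m + 1) (by omega)
    rw [← h1, e1, Nat.factorial_succ] at e2
    have hpos : 0 < m.factorial := Nat.factorial_pos m
    have : m.factorial * 1 = (m + 1) * m.factorial := by rw [mul_one]; exact e2
    rw [mul_comm (m + 1)] at this
    have := Nat.eq_of_mul_eq_mul_left hpos this
    omega
  have hdvd : p ∣ Nat.card ψ.range := by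
    rw [hcardH]; exact prime_dvd_card_alt m p hm hp' hp hpm
  have hclosed := h ψ.range hne_top hdvd
  obtain ⟨Q⟩ : Nonempty (Sylow p ψ.range) := inferInstance
  have hQ : (Q : Subgroup ψ.range).Normal := hclosed Q
  have hrinj : Function.Injective ψ.rangeRestrict := by
    rw [← MonoidHom.ker_eq_bot_iff, MonoidHom.ker_rangeRestrict, MonoidHom.ker_eq_bot_iff]
    exact hinj
  have hle : (Q : Subgroup ψ.range) ≤ ψ.rangeRestrict.range := by
    rw [MonoidHom.rangeRestrict_surjective ψ |> MonoidHom.range_eq_top.2]
    exact le_top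
  let P : Sylow p (alternatingGroup (Fin m)) := Q.comapOfInjective ψ.rangeRestrict hrinj hle
  have hPn : (P : Subgroup (alternatingGroup (Fin m))).Normal := by
    rw [Sylow.coe_comapOfInjective]
    exact hQ.comap _
  exact not_normal_sylow m p hm hp hpm P hPn

end Cfsg.Agent.S3941
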