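-- Statement S3946: a finite group with a splitting automorphism of prime order is nilpotent (Kegel).
import Mathlib
import Cfsg.Statements.S3946
import Cfsg.Agent.Lib.Helper13.Hughes

set_option autoImplicit false
set_option linter.style.haveILetI false
open Cfsg

universe u

namespace Cfsg.Agent.S3946

open Cfsg.Agent.Lib.Helper13

/-- Powers in a semidirect product. -/
theorem sd_pow {G : Type*} [Group G] {K : Type*} [Group K] (φ : K →* MulAut G) (x : G) (k : K)
    (n : ℕ) :
    ((⟨x, k⟩ : G ⋊[φ] K) ^ n) =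
      ⟨((List.range n).map (fun i : ℕ => ((φ k) ^ i) x)).prod, k ^ n⟩ := by
  induction n with
  | zero => simp
  | succ n ih =>
    rw [pow_succ, ih, SemidirectProduct.mul_def, List.range_succ, List.map_append, List.prod_append]
    simp only [List.map_cons, List.map_nil, List.prod_cons, List.prod_nil, mul_one, map_pow,
      pow_succ]

theorem main {G : Type u} [Group G] [Finite G] (α : MulAut G) (hp : (orderOf α).Prime)
    (hsplit : ∀ x : G, (((List.range (orderOf α)).map (fun i : ℕ => (α ^ i) x)).prod = 1)) :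
    Group.IsNilpotent G := by
  obtain ⟨p, hpdef⟩ : ∃ p, p = orderOf α := ⟨_, rfl⟩
  rw [← hpdef] at hp hsplit
  haveI : Fact p.Prime := ⟨hp⟩
  obtain ⟨K, hKdef⟩ : ∃ K : Subgroup (MulAut G), K = Subgroup.zpowers α := ⟨_, rfl⟩
  have hαK : α ∈ K := by rw [hKdef]; exact Subgroup.mem_zpowers α
  have hKcard : Nat.card K = p := by rw [hKdef, Nat.card_zpowers, hpdef]
  haveI : Finite K := Nat.finite_of_card_ne_zero (by rw [hKcard]; exact hp.pos.ne')
  let φ : K →* MulAut G := K.subtype
  haveI : Finite (G ⋊[φ] K) := Finite.of_equiv _ SemidirectProduct.equivProd.symm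
  obtain ⟨a, hadef⟩ : ∃ a : K, a = ⟨α, hαK⟩ := ⟨_, rfl⟩
  have hφa : φ a = α := by rw [hadef]; rfl
  have hap : a ^ p = 1 := by
    rw [hadef]
    apply Subtype.ext
    simp only [Subgroup.coe_pow, Subgroup.coe_one]
    rw [hpdef]; exact pow_orderOf_eq_one α
  -- elements of the coset of `a` have order dividing `p`
  have hcoset : ∀ x : G, ((⟨x, a⟩ : G ⋊[φ] K)) ^ p = 1 := by
    intro x
    rw [sd_pow, hφa, hsplit x, hap]
    rfl
  obtain ⟨H, hHdef⟩ : ∃ H : Subgroup (G ⋊[φ] K),
      H = (SemidirectProduct.rightHom : G ⋊[φ] K →* K).ker := ⟨_, rfl⟩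
  have hHn : H.Normal := by rw [hHdef]; infer_instance
  have hidx : H.index = p := by
    rw [hHdef, Subgroup.index_ker,
      MonoidHom.range_eq_top.mpr SemidirectProduct.rightHom_surjective, Subgroup.card_top, hKcard]
  have hel : ∀ g : G ⋊[φ] K, g ∉ H → g ^ p = 1 := by
    intro g hg
    have hk1 : g.right ≠ 1 := by
      intro h
      apply hg
      rw [hHdef, MonoidHom.mem_ker]
      exact h
    -- `g.right = a ^ i`
    have hmem : g.right ∈ Subgroup.zpowers a := by
      have h0 : ∀ y : MulAut G, y ∈ K → y ∈ Subgroup.zpowers α := by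
        intro y hy
        rw [hKdef] at hy
        exact hy
      have h1 : (g.right : MulAut G) ∈ Subgroup.zpowers α := h0 _ g.right.2
      obtain ⟨z, hz⟩ := Subgroup.mem_zpowers_iff.mp h1
      refine Subgroup.mem_zpowers_iff.mpr ⟨z, ?_⟩
      apply Subtype.ext
      rw [hadef]
      simp only [Subgroup.coe_zpow]
      exact hz
    obtain ⟨z, hz⟩ := Subgroup.mem_zpowers_iff.mp hmem
    have hord : orderOf a = p := by
      rw [hadef, hpdef]
      exact Subgroup.orderOf_mk α hαK
    obtain ⟨i, hi⟩ : ∃ i : ℕ, a ^ i = g.right := by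
      refine ⟨(z % (p : ℤ)).toNat, ?_⟩
      rw [← zpow_natCast, Int.toNat_of_nonneg (Int.emod_nonneg _ (by exact_mod_cast hp.pos.ne')),
        ← hord, zpow_mod_orderOf, hz]
    have hpi : ¬ p ∣ i := by
      rintro ⟨m, rfl⟩
      apply hk1
      rw [← hi, pow_mul, hap, one_pow]
    have hcop : Nat.Coprime i p := ((Nat.Prime.coprime_iff_not_dvd hp).mpr hpi).symm
    obtain ⟨j, -, hj⟩ := Nat.exists_mul_mod_eq_one_of_coprime hcop hp.one_lt
    -- the `i`-th power map from the coset of `a` to the coset of `a ^ i` is injective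
    have hinj : Function.Injective (fun x : G => (((⟨x, a⟩ : G ⋊[φ] K)) ^ i).left) := by
      intro x x' hxx
      have h1 : ((⟨x, a⟩ : G ⋊[φ] K)) ^ i = ((⟨x', a⟩ : G ⋊[φ] K)) ^ i := by
        refine SemidirectProduct.ext ?_ ?_
        · exact hxx
        · rw [sd_pow, sd_pow]
      have h2 : ∀ y : G, (((⟨y, a⟩ : G ⋊[φ] K)) ^ i) ^ j = ⟨y, a⟩ := by
        intro y
        rw [← pow_mul, pow_eq_pow_mod _ (hcoset y), hj, pow_one]
      have h3 := congrArg (fun u => u ^ j) h1
      simp only [h2] at h3
      exact congrArg SemidirectProduct.left h3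
    obtain ⟨x, hx⟩ := (Finite.injective_iff_surjective.mp hinj) g.left
    have hgx : g = ((⟨x, a⟩ : G ⋊[φ] K)) ^ i := by
      refine SemidirectProduct.ext ?_ ?_
      · exact hx.symm
      · rw [sd_pow]; exact hi.symm
    rw [hgx, ← pow_mul, mul_comm, pow_mul, hcoset, one_pow]
  have hnil : Group.IsNilpotent H := kegel_aux p _ (G ⋊[φ] K) rfl H hHn hidx hel
  have hmemH : ∀ x : G, (SemidirectProduct.inl x : G ⋊[φ] K) ∈ H := by
    intro x
    rw [hHdef, MonoidHom.mem_ker, SemidirectProduct.rightHom_inl]
  haveI := hnil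
  apply Subgroup.isNilpotent_of_ker_le_center
    ((SemidirectProduct.inl : G →* G ⋊[φ] K).codRestrict H hmemH)
  have hinj : Function.Injective ((SemidirectProduct.inl : G →* G ⋊[φ] K).codRestrict H hmemH) := by
    intro x y hxy
    have := congrArg Subtype.val hxy
    exact SemidirectProduct.inl_injective this
  rw [(MonoidHom.ker_eq_bot_iff _).mpr hinj]
  exact bot_le

end Cfsg.Agent.S3946

namespace Cfsg.Agent.S3946

/-- Call an automorphism α of order n of a group G splitting when x · α(x) · α²(x) ⋯ α^(n−1)(x) = 1 for every x ∈ G. A finite group admitting a splitting automorphism of prime order is nilpotent (this contains the case of a fixed-point-free automorphism of prime order). -/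
theorem result {G : Type*} [Group G] [Finite G] (α : MulAut G) (hp : (orderOf α).Prime)
    (hsplit : ∀ x : G, (((List.range (orderOf α)).map (fun i : ℕ => (α ^ i) x)).prod = 1)) : Group.IsNilpotent G := by
  exact main α hp hsplit

end Cfsg.Agent.S3946
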