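import Cfsg.Statements.S3949

set_option autoImplicit false
open Cfsg

namespace Cfsg.Agent.S3949

variable {G : Type*} [Group G]

/-- the map `c ↦ c * (α c)⁻¹`. -/
def cmap (α : MulAut G) : G → G := fun c => c * (α c)⁻¹

theorem cmap_inverted (α : MulAut G) (hα : α ^ 2 = 1) (g : G) : α (cmap α g) = (cmap α g)⁻¹ := by
  have h2 : α (α g) = g := by
    have := congrArg (fun f : MulAut G => f g) hα
    simpa [pow_two] using this
  simp [cmap, h2]

theorem cmap_of_inverted (α : MulAut G) (x : G) (hx : α x = x⁻¹) : cmap α x = x ^ 2 := by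
  simp [cmap, hx, pow_two]

theorem iterate_of_inverted (α : MulAut G) (j : ℕ) (x : G) (hx : α x = x⁻¹) :
    (cmap α)^[j] x = x ^ (2 ^ j) := by
  induction j generalizing x with
  | zero => simp
  | succ j ih =>
    rw [Function.iterate_succ_apply, cmap_of_inverted α x hx, ih]
    · rw [← pow_mul, pow_succ']
    · rw [map_pow, hx, inv_pow]

theorem odd_orderOf_pow {x : G} {j : ℕ} (hj : 1 ≤ j) (h : ¬ 2 ^ j ∣ orderOf x) :
    Odd (orderOf (x ^ (2 ^ (j - 1)))) := by
  rw [orderOf_pow' _ (by positivity)]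
  rw [← Nat.not_even_iff_odd]
  intro hev
  obtain ⟨b, hb, hd⟩ := (Nat.dvd_prime_pow Nat.prime_two).1 (Nat.gcd_dvd_right (orderOf x) (2 ^ (j - 1)))
  have hgd : Nat.gcd (orderOf x) (2 ^ (j - 1)) ∣ orderOf x := Nat.gcd_dvd_left _ _
  rw [hd] at hev hgd
  have h2 : 2 ^ (b + 1) ∣ orderOf x := by
    obtain ⟨k, hk⟩ := hgd
    rw [hk, Nat.mul_div_cancel_left _ (by positivity)] at hev
    rw [hk, pow_succ]
    exact Nat.mul_dvd_mul_left _ hev.two_dvd
  rcases Nat.lt_or_ge b (j - 1) with hlt | hge
  · have h3 : 2 ^ (b + 1) ∣ 2 ^ (j - 1) := pow_dvd_pow 2 (by omega)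
    have h4 : 2 ^ (b + 1) ∣ 2 ^ b := by
      rw [← hd]; exact Nat.dvd_gcd h2 h3
    have := Nat.le_of_dvd (by positivity) h4
    have h5 : 2 ^ b < 2 ^ (b + 1) := Nat.pow_lt_pow_right (by norm_num) (by omega)
    omega
  · have hb' : b = j - 1 := le_antisymm hb hge
    apply h
    have : j = b + 1 := by omega
    rw [this]; exact h2

/-- Let G be a finite group and α an automorphism of G of order 2 such that the elements g·α(g)⁻¹ generate G. Let j be a positive integer such that 2^j divides the order of no element inverted by α. Then the set of values of the j-th iterate of the map c ↦ c·α(c)⁻¹ is exactly the set of elements of odd order inverted by α. -/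
theorem result {G : Type*} [Group G] [Finite G] (α : MulAut G) (hα : orderOf α = 2) (hG : Subgroup.closure (Set.range (fun c : G => c * (α c)⁻¹)) = ⊤)
    (j : ℕ) (hj : ∀ g : G, α g = g⁻¹ → ¬ 2 ^ j ∣ orderOf g) :
    Set.range ((fun c : G => c * (α c)⁻¹)^[j]) = {g : G | Odd (orderOf g) ∧ α g = g⁻¹} := by
  change Set.range ((cmap α)^[j]) = _
  have hα2 : α ^ 2 = 1 := by rw [← hα]; exact pow_orderOf_eq_one α
  have hj1 : 1 ≤ j := by
    rcases Nat.eq_zero_or_pos j with rfl | h
    · exfalso
      exact hj 1 (by simp) (by simp)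
    · exact h
  ext x
  simp only [Set.mem_range, Set.mem_ofPred_eq]
  constructor
  · rintro ⟨g, rfl⟩
    obtain ⟨k, rfl⟩ : ∃ k, j = k + 1 := ⟨j - 1, by omega⟩
    rw [Function.iterate_succ_apply, iterate_of_inverted α k _ (cmap_inverted α hα2 g)]
    refine ⟨?_, ?_⟩
    · have := odd_orderOf_pow (x := cmap α g) (j := k + 1) (by omega)
        (hj _ (cmap_inverted α hα2 g))
      simpa using this
    · rw [map_pow, cmap_inverted α hα2 g, inv_pow]
  · rintro ⟨hodd, hinv⟩
    -- squaring is a bijection on ⟨x⟩: find z with z ^ (2^j) = x, z a power of x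
    have hcop : Nat.Coprime (2 ^ j) (orderOf x) := by
      apply Nat.Coprime.pow_left
      rw [Nat.coprime_two_left]
      exact hodd
    obtain ⟨m, hm⟩ := exists_pow_eq_self_of_coprime hcop
    refine ⟨x ^ m, ?_⟩
    rw [iterate_of_inverted α j (x ^ m) (by rw [map_pow, hinv, inv_pow])]
    rw [← pow_mul, mul_comm, pow_mul]
    exact hm
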