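import Cfsg.Statements.S3950
import Mathlib

set_option autoImplicit false
open Cfsg
open scoped commutatorElement

namespace Cfsg.Agent.S3950

universe u

/-- two additive characters `G → ZMod p` of a commutative group. -/
structure Twist (G : Type u) [CommGroup G] (p : ℕ) where
  f₁ : G → ZMod p
  f₂ : G → ZMod p
  h₁ : ∀ g h, f₁ (g * h) = f₁ g + f₁ h
  h₂ : ∀ g h, f₂ (g * h) = f₂ g + f₂ h

/-- the central extension of `G` by `ZMod p` with cocycle `f₁ g * f₂ h`. -/
@[ext]
structure Ext {G : Type u} [CommGroup G] {p : ℕ} (B : Twist G p) : Type u where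
  fst : G
  snd : ZMod p

namespace Twist

variable {G : Type u} [CommGroup G] {p : ℕ} (B : Twist G p)

theorem f₁_one : B.f₁ 1 = 0 := by
  have := B.h₁ 1 1
  rw [mul_one] at this
  linear_combination (-1 : ZMod p) * this

theorem f₂_one : B.f₂ 1 = 0 := by
  have := B.h₂ 1 1
  rw [mul_one] at this
  linear_combination (-1 : ZMod p) * this

theorem f₁_inv (g : G) : B.f₁ g⁻¹ = - B.f₁ g := by
  have := B.h₁ g g⁻¹
  rw [mul_inv_cancel, f₁_one] at this
  linear_combination (-1 : ZMod p) * this

theorem f₂_inv (g : G) : B.f₂ g⁻¹ = - B.f₂ g := by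
  have := B.h₂ g g⁻¹
  rw [mul_inv_cancel, f₂_one] at this
  linear_combination (-1 : ZMod p) * this

instance : Mul (Ext B) := ⟨fun x y => ⟨x.fst * y.fst, x.snd + y.snd + B.f₁ x.fst * B.f₂ y.fst⟩⟩
instance : One (Ext B) := ⟨⟨1, 0⟩⟩
instance : Inv (Ext B) := ⟨fun x => ⟨x.fst⁻¹, -x.snd + B.f₁ x.fst * B.f₂ x.fst⟩⟩

@[simp] theorem mul_fst (x y : Ext B) : (x * y).fst = x.fst * y.fst := rfl
@[simp] theorem mul_snd (x y : Ext B) :
    (x * y).snd = x.snd + y.snd + B.f₁ x.fst * B.f₂ y.fst := rfl
@[simp] theorem one_fst : (1 : Ext B).fst = 1 := rfl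
@[simp] theorem one_snd : (1 : Ext B).snd = 0 := rfl
@[simp] theorem inv_fst (x : Ext B) : (x⁻¹).fst = x.fst⁻¹ := rfl
@[simp] theorem inv_snd (x : Ext B) : (x⁻¹).snd = -x.snd + B.f₁ x.fst * B.f₂ x.fst := rfl

instance : Group (Ext B) := Group.ofLeftAxioms
  (by
    intro a b c
    ext
    · simp [mul_assoc]
    · simp only [mul_snd, mul_fst, B.h₁, B.h₂]; ring)
  (by
    intro a
    ext
    · simp
    · simp [B.f₁_one])
  (by
    intro a
    ext
    · simp
    · simp only [mul_snd, inv_snd, inv_fst, one_snd, B.f₁_inv]; ring)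

instance [Finite G] [NeZero p] : Finite (Ext B) :=
  Finite.of_injective (fun x : Ext B => (x.fst, x.snd)) (by
    intro x y h
    simp only [Prod.mk.injEq] at h
    exact Ext.ext h.1 h.2)

/-- the projection to `G`. -/
def proj : Ext B →* G where
  toFun := Ext.fst
  map_one' := rfl
  map_mul' _ _ := rfl

theorem mem_ker_iff (x : Ext B) : x ∈ B.proj.ker ↔ x.fst = 1 := Iff.rfl

theorem proj_surjective : Function.Surjective B.proj := fun g => ⟨⟨g, 0⟩, rfl⟩

theorem ker_le_center : B.proj.ker ≤ Subgroup.center (Ext B) := by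
  intro x hx
  rw [mem_ker_iff] at hx
  rw [Subgroup.mem_center_iff]
  intro g
  ext
  · simp [hx]
  · simp only [mul_snd, hx, B.f₁_one, B.f₂_one]; ring

theorem pow_one_one (m : ℕ) : (⟨1, 1⟩ : Ext B) ^ m = ⟨1, (m : ZMod p)⟩ := by
  induction m with
  | zero => ext <;> simp
  | succ m ih =>
    rw [pow_succ, ih]
    ext
    · simp
    · simp [B.f₁_one]

theorem ker_le_commutator [NeZero p] (hB : ∃ g h, B.f₁ g * B.f₂ h - B.f₁ h * B.f₂ g = 1) :
    B.proj.ker ≤ commutator (Ext B) := by
  obtain ⟨g, h, hgh⟩ := hB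
  have hc : (⟨1, 1⟩ : Ext B) ∈ commutator (Ext B) := by
    have hxy : (⟨g, 0⟩ : Ext B) * ⟨h, 0⟩ = ⟨1, 1⟩ * ((⟨h, 0⟩ : Ext B) * ⟨g, 0⟩) := by
      ext
      · simp [mul_comm]
      · simp only [mul_snd, mul_fst, B.f₁_one]
        linear_combination hgh
    have : (⟨1, 1⟩ : Ext B) = ⁅(⟨g, 0⟩ : Ext B), ⟨h, 0⟩⁆ := by
      rw [commutatorElement_def, hxy]; group
    rw [this, commutator_def]
    exact Subgroup.commutator_mem_commutator (Subgroup.mem_top _) (Subgroup.mem_top _)
  intro x hx
  rw [mem_ker_iff] at hx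
  have : x = (⟨1, 1⟩ : Ext B) ^ (x.snd.val) := by
    rw [pow_one_one, ZMod.natCast_zmod_val]
    ext
    · exact hx
    · rfl
  rw [this]
  exact pow_mem hc _

theorem isStemExtension [NeZero p] (hB : ∃ g h, B.f₁ g * B.f₂ h - B.f₁ h * B.f₂ g = 1) :
    IsStemExtension B.proj :=
  ⟨B.proj_surjective, B.ker_le_center, B.ker_le_commutator hB⟩

end Twist

theorem isCyclic_of_trivial {G : Type u} [CommGroup G] [Finite G]
    (h : Cfsg.HasCyclicSchurMultiplier G 1) : IsCyclic G := by
  obtain ⟨ι, _, n, hn, ⟨e⟩⟩ := CommGroup.equiv_prod_multiplicative_zmod_of_finite G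
  by_cases hcop : Pairwise (Function.onFun Nat.Coprime n)
  · -- cyclic by the Chinese remainder theorem
    let c := ZMod.prodEquivPi n hcop
    let E : Multiplicative (ZMod (∏ i, n i)) ≃* G :=
      (AddEquiv.toMultiplicative c.toAddEquiv).trans
        ((MulEquiv.piMultiplicative (fun i => ZMod (n i))).trans e.symm)
    exact isCyclic_of_surjective E E.surjective
  · exfalso
    classical
    unfold Pairwise at hcop
    push Not at hcop
    obtain ⟨i, j, hij, hnc⟩ := hcop
    obtain ⟨p, hp, hpi, hpj⟩ := Nat.Prime.not_coprime_iff_dvd.1 hnc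
    have : Fact p.Prime := ⟨hp⟩
    let B : Twist G p :=
      { f₁ := fun g => ZMod.castHom hpi (ZMod p) (Multiplicative.toAdd (e g i))
        f₂ := fun g => ZMod.castHom hpj (ZMod p) (Multiplicative.toAdd (e g j))
        h₁ := by intro g h; rw [map_mul, Pi.mul_apply, toAdd_mul, map_add]
        h₂ := by intro g h; rw [map_mul, Pi.mul_apply, toAdd_mul, map_add] }
    have hB : ∃ g h, B.f₁ g * B.f₂ h - B.f₁ h * B.f₂ g = 1 := by
      refine ⟨e.symm (Pi.mulSingle i (Multiplicative.ofAdd 1)),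
        e.symm (Pi.mulSingle j (Multiplicative.ofAdd 1)), ?_⟩
      simp only [B, MulEquiv.apply_symm_apply, Pi.mulSingle_eq_same,
        Pi.mulSingle_eq_of_ne hij, Pi.mulSingle_eq_of_ne hij.symm, toAdd_ofAdd, toAdd_one,
        map_one, map_zero]
      ring
    obtain ⟨π, hπ⟩ := h.2 (Ext B) B.proj (B.isStemExtension hB)
    have hmem : (⟨1, 1⟩ : Ext B) ∈ B.proj.ker := (B.mem_ker_iff _).2 rfl
    obtain ⟨a, ha⟩ := hπ ⟨_, hmem⟩
    have ha1 : a = 1 := Subsingleton.elim _ _
    rw [ha1, map_one] at ha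
    have := congrArg (fun x : B.proj.ker => (x : Ext B).snd) ha
    simp at this

theorem trivial_of_isCyclic {G : Type u} [CommGroup G] [Finite G] [IsCyclic G] :
    Cfsg.HasCyclicSchurMultiplier G 1 := by
  constructor
  · have hk : (MonoidHom.id G).ker = ⊥ := by
      ext x; simp
    refine ⟨G, inferInstance, inferInstance, MonoidHom.id G, ⟨Function.surjective_id, ?_, ?_⟩, ⟨?_⟩⟩
    · rw [hk]; exact bot_le
    · rw [hk]; exact bot_le
    · exact
        { toFun := fun _ => 1
          invFun := fun _ => 1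
          left_inv := by
            intro x
            have hx : (x : G) = 1 := by
              have := x.2
              rwa [MonoidHom.mem_ker, MonoidHom.id_apply] at this
            exact Subtype.ext hx.symm
          right_inv := fun x => Subsingleton.elim _ _
          map_mul' := by intros; simp }
  · intro Γ _ _ σ hσ
    obtain ⟨_, hc, hcomm⟩ := hσ
    have habel : ∀ a b : Γ, a * b = b * a :=
      (σ.isMulCommutative_of_isCyclic_of_ker_le_center hc).is_comm.comm
    have hbot : commutator Γ = ⊥ := by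
      rw [commutator_def, Subgroup.commutator_eq_bot_iff_le_centralizer]
      intro x _ y _
      exact habel y x
    refine ⟨1, ?_⟩
    intro y
    refine ⟨1, ?_⟩
    have hy : (y : Γ) ∈ commutator Γ := hcomm y.2
    rw [hbot, Subgroup.mem_bot] at hy
    exact Subtype.ext hy.symm

/-- A finite abelian group has trivial Schur multiplier if and only if it is cyclic. -/
theorem result {G : Type*} [CommGroup G] [Finite G] : Cfsg.HasCyclicSchurMultiplier G 1 ↔ IsCyclic G :=
  ⟨isCyclic_of_trivial, fun _ => trivial_of_isCyclic⟩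

end Cfsg.Agent.S3950
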