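import Cfsg.Statements.S3951
import Cfsg.Agent.S3950
import Cfsg.Agent.Lib.Helper5.Stem

set_option autoImplicit false
open Cfsg
open scoped commutatorElement

namespace Cfsg.Agent.S3951

open Cfsg.Agent.Lib.Helper5 Cfsg.Agent.S3950

/-- the two coordinate characters of `ZMod m × ZMod n` with values in `ZMod n`. -/
def twist (m n : ℕ) (hnm : n ∣ m) : Twist (Multiplicative (ZMod m × ZMod n)) n where
  f₁ x := ZMod.castHom hnm (ZMod n) (Multiplicative.toAdd x).1
  f₂ x := (Multiplicative.toAdd x).2
  h₁ := by intro g h; rw [toAdd_mul, Prod.fst_add, map_add]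
  h₂ := by intro g h; rw [toAdd_mul, Prod.snd_add]

theorem part1 (m n : ℕ) [NeZero m] [NeZero n] (hnm : n ∣ m) :
    ∃ (Γ : Type) (_ : Group Γ) (_ : Finite Γ) (σ : Γ →* Multiplicative (ZMod m × ZMod n)),
      IsStemExtension σ ∧ Nonempty (σ.ker ≃* Multiplicative (ZMod n)) := by
  let B := twist m n hnm
  have hB : ∃ g h, B.f₁ g * B.f₂ h - B.f₁ h * B.f₂ g = 1 :=
    ⟨Multiplicative.ofAdd (1, 0), Multiplicative.ofAdd (0, 1), by
      simp only [B, twist, toAdd_ofAdd, map_one, map_zero]; ring⟩
  refine ⟨Ext B, inferInstance, inferInstance, B.proj, B.isStemExtension hB, ⟨?_⟩⟩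
  exact
    { toFun := fun x => Multiplicative.ofAdd x.1.snd
      invFun := fun a => ⟨⟨1, Multiplicative.toAdd a⟩, rfl⟩
      left_inv := by
        intro x
        have hx : x.1.fst = 1 := x.2
        apply Subtype.ext
        apply Ext.ext
        · exact hx.symm
        · rfl
      right_inv := by intro a; rfl
      map_mul' := by
        intro x y
        have hx : x.1.fst = 1 := x.2
        rw [← ofAdd_add]
        congr 1
        show (x.1 * y.1).snd = _
        rw [Twist.mul_snd, hx, B.f₁_one, zero_mul, add_zero] }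

theorem part2 (m n : ℕ) [NeZero m] [NeZero n] (Γ : Type) [Group Γ] [Finite Γ]
    (σ : Γ →* Multiplicative (ZMod m × ZMod n)) (hσ : IsStemExtension σ) :
    ∃ π : Multiplicative (ZMod n) →* σ.ker, Function.Surjective π := by
  obtain ⟨hsurj, hcen, hcomm⟩ := hσ
  obtain ⟨x, hx⟩ := hsurj (Multiplicative.ofAdd (1, 0))
  obtain ⟨y, hy⟩ := hsurj (Multiplicative.ofAdd (0, 1))
  have hcK : ⁅x, y⁆ ∈ σ.ker := by
    rw [MonoidHom.mem_ker, map_commutatorElement]
    exact commutatorElement_eq_one_iff_mul_comm.2 (mul_comm _ _)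
  have hcZ : ⁅x, y⁆ ∈ Subgroup.center Γ := hcen hcK
  have hnorm : (Subgroup.zpowers ⁅x, y⁆).Normal :=
    normal_of_le_center _ (by rw [Subgroup.zpowers_le]; exact hcZ)
  -- generation
  have hgen : Subgroup.closure (({x, y} : Set Γ) ∪ (σ.ker : Set Γ)) = ⊤ := by
    apply closure_union_ker_eq_top
    rw [eq_top_iff]
    intro g _
    have hg : g = (σ x) ^ (Multiplicative.toAdd g).1.val * (σ y) ^ (Multiplicative.toAdd g).2.val := by
      rw [hx, hy, ← ofAdd_nsmul, ← ofAdd_nsmul, ← ofAdd_add]
      apply Multiplicative.toAdd.injective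
      rw [toAdd_ofAdd]
      ext
      · simp
      · simp
    rw [hg]
    apply Subgroup.mul_mem
    · exact Subgroup.pow_mem _ (Subgroup.subset_closure (Set.mem_image_of_mem σ (by simp))) _
    · exact Subgroup.pow_mem _ (Subgroup.subset_closure (Set.mem_image_of_mem σ (by simp))) _
  -- the commutator subgroup is generated by ⁅x, y⁆
  have hle : commutator Γ ≤ Subgroup.zpowers ⁅x, y⁆ := by
    apply commutator_le_of_closure _ _ hgen
    have hker : ∀ k ∈ σ.ker, ∀ b : Γ, ⁅k, b⁆ ∈ Subgroup.zpowers ⁅x, y⁆ ∧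
        ⁅b, k⁆ ∈ Subgroup.zpowers ⁅x, y⁆ := by
      intro k hk b
      have hkz := Subgroup.mem_center_iff.1 (hcen hk)
      constructor
      · have : ⁅k, b⁆ = 1 := commutatorElement_eq_one_iff_mul_comm.2 (hkz b).symm
        rw [this]; exact Subgroup.one_mem _
      · have : ⁅b, k⁆ = 1 := commutatorElement_eq_one_iff_mul_comm.2 (hkz b)
        rw [this]; exact Subgroup.one_mem _
    rintro a (ha | ha) b (hb | hb)
    · simp only [Set.mem_insert_iff, Set.mem_singleton_iff] at ha hb
      rcases ha with rfl | rfl <;> rcases hb with rfl | rfl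
      · rw [commutatorElement_self]; exact Subgroup.one_mem _
      · exact Subgroup.mem_zpowers _
      · have : ⁅a, b⁆ = ⁅b, a⁆⁻¹ := (commutatorElement_inv b a).symm
        rw [this]; exact Subgroup.inv_mem _ (Subgroup.mem_zpowers _)
      · rw [commutatorElement_self]; exact Subgroup.one_mem _
    · exact (hker b hb a).2
    · exact (hker a ha b).1
    · exact (hker a ha b).1
  -- ⁅x, y⁆ ^ n = 1
  have hyn : y ^ n ∈ Subgroup.center Γ := by
    apply hcen
    rw [MonoidHom.mem_ker, map_pow, hy, ← ofAdd_nsmul]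
    have : n • ((0 : ZMod m), (1 : ZMod n)) = 0 := by
      ext
      · simp
      · simp
    rw [this]; rfl
  have hcn : ⁅x, y⁆ ^ n = 1 := commutator_pow_eq_one hcZ hyn
  have hKle : σ.ker ≤ Subgroup.zpowers ⁅x, y⁆ := hcomm.trans hle
  have : IsCyclic σ.ker := Subgroup.isCyclic_of_le hKle
  apply exists_surjective_of_isCyclic
  intro k
  obtain ⟨i, hi⟩ := Subgroup.mem_zpowers_iff.1 (hKle k.2)
  apply Subtype.ext
  rw [Subgroup.coe_pow, ← hi, ← zpow_natCast, ← zpow_mul, mul_comm, zpow_mul, zpow_natCast, hcn,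
    one_zpow]
  rfl

/-- For positive integers `m` and `n` with `n` dividing `m`, the Schur multiplier of the abelian group `ZMod m × ZMod n` (written multiplicatively) is cyclic of order `n`. In particular the elementary abelian group of order `p ^ 2` has multiplier of order `p`. -/
theorem result (m n : ℕ) [NeZero m] [NeZero n] (hnm : n ∣ m) : Cfsg.HasCyclicSchurMultiplier (Multiplicative (ZMod m × ZMod n)) n :=
  ⟨part1 m n hnm, fun Γ _ _ σ hσ => part2 m n Γ σ hσ⟩

end Cfsg.Agent.S3951
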