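import Cfsg.Statements.S3952
import Mathlib
import Cfsg.Agent.Lib.Helper2.SchurMultH
import Cfsg.Agent.Lib.Helper2.SchurMultF
import Cfsg.Agent.S3953

set_option autoImplicit false
open Cfsg

namespace Cfsg.Agent.S3952
open Cfsg.Agent.Lib.Helper2.SchurMult

/-- If `A` is the Schur multiplier of the finite group `Q`, then the square of the exponent of `A` divides the order of `Q`. -/
theorem result {Q : Type*} [Group Q] [Finite Q] {A : Type*} [CommGroup A] (hA : Cfsg.HasSchurMultiplier Q A) : Monoid.exponent A ^ 2 ∣ Nat.card Q := by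
  classical
  haveI : Finite A := by
    obtain ⟨⟨Γ₀, i1, i2, σ₀, hσ₀, ⟨e₀⟩⟩, -⟩ := hA
    exact Finite.of_equiv _ e₀.toEquiv
  have he : Monoid.exponent A ≠ 0 := Monoid.exponent_ne_zero_of_finite
  have hQ0 : Nat.card Q ≠ 0 := Nat.card_pos.ne'
  rw [← Nat.factorization_prime_le_iff_dvd (pow_ne_zero 2 he) hQ0]
  intro p hp
  haveI : Fact p.Prime := ⟨hp⟩
  rw [Nat.factorization_pow, Finsupp.smul_apply, smul_eq_mul]
  obtain ⟨g, hg⟩ := Monoid.exists_orderOf_eq_exponent (G := A) Monoid.ExponentExists.of_finite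
  have hdvd : p ^ (Monoid.exponent A).factorization p ∣ orderOf g := by
    rw [hg]
    exact Nat.ordProj_dvd _ _
  generalize (Monoid.exponent A).factorization p = k at hdvd ⊢
  obtain ⟨m, hm⟩ := hdvd
  have hm0 : m ≠ 0 := by
    rintro rfl
    rw [mul_zero] at hm
    exact (orderOf_pos g).ne' hm
  have ha : orderOf (g ^ m) = p ^ k := by
    rw [orderOf_pow_of_dvd hm0 (Dvd.intro_left _ hm.symm), hm,
      Nat.mul_div_cancel _ (Nat.pos_of_ne_zero hm0)]
  -- Sylow subgroup and its multiplier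
  obtain ⟨P⟩ : Nonempty (Sylow p Q) := inferInstance
  have hB : Cfsg.HasSchurMultiplier (P : Subgroup Q) (multM (canon (P : Subgroup Q))) :=
    hasSchurMultiplier_multM (canon _) (canon_surjective _)
  obtain ⟨C, D, -, -, ⟨eC⟩⟩ := Cfsg.Agent.S3953.result p P hA hB
  have hmem : g ^ m ∈ CommGroup.primaryComponent A p := by
    rw [CommGroup.mem_primaryComponent]
    refine ⟨k, ?_⟩
    rw [← ha]
    exact pow_orderOf_eq_one _
  obtain ⟨⟨Γ, i1, i2, σ, hσ, ⟨eK⟩⟩, -⟩ := hB
  have h0 : orderOf (⟨g ^ m, hmem⟩ : CommGroup.primaryComponent A p) = p ^ k := by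
    rw [← Subgroup.orderOf_coe]
    exact ha
  have h1 : orderOf (eC ⟨g ^ m, hmem⟩) = p ^ k := by
    rw [MulEquiv.orderOf_eq]
    exact h0
  have h2 : orderOf ((eC ⟨g ^ m, hmem⟩ : C) : multM (canon (P : Subgroup Q))) = p ^ k := by
    rw [Subgroup.orderOf_coe]
    exact h1
  have h3 : orderOf (eK.symm ((eC ⟨g ^ m, hmem⟩ : C) : multM (canon (P : Subgroup Q))))
      = p ^ k := by
    rw [MulEquiv.orderOf_eq]
    exact h2
  have h4 : orderOf ((eK.symm ((eC ⟨g ^ m, hmem⟩ : C) : multM (canon (P : Subgroup Q))) :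
      σ.ker) : Γ) = p ^ k := by
    rw [Subgroup.orderOf_coe]
    exact h3
  haveI : Fintype Γ := Fintype.ofFinite Γ
  have hkey := sq_order_mul_card_le
    ((eK.symm ((eC ⟨g ^ m, hmem⟩ : C) : multM (canon (P : Subgroup Q))) : σ.ker) : Γ)
    (hσ.2.1 (Subtype.property _)) (hσ.2.2 (Subtype.property _)) p k h4 σ.ker hσ.2.1
  have hcardΓ : Nat.card Γ = Nat.card (P : Subgroup Q) * Nat.card σ.ker := by
    rw [Subgroup.card_eq_card_quotient_mul_card_subgroup σ.ker,
      Nat.card_congr (QuotientGroup.quotientKerEquivOfSurjective σ hσ.1).toEquiv]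
  rw [hcardΓ] at hkey
  have hkpos : 0 < Nat.card σ.ker := Nat.card_pos
  have h5 : (p ^ k) ^ 2 ≤ Nat.card (P : Subgroup Q) := Nat.le_of_mul_le_mul_right hkey hkpos
  rw [P.card_eq_multiplicity, ← pow_mul] at h5
  have h6 := (Nat.pow_le_pow_iff_right hp.one_lt).1 h5
  omega

end Cfsg.Agent.S3952
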