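import Cfsg.Statements.S3954
import Mathlib
import Cfsg.Agent.Lib.Helper2.SchurMultC

set_option autoImplicit false
open Cfsg

namespace Cfsg.Agent.S3954

theorem exists_embedding_of_surjective {B Y : Type*} [CommGroup B] [Finite B] [CommGroup Y]
    [Finite Y] (π : B →* Y) (hπ : Function.Surjective π) :
    ∃ j : Y →* B, Function.Injective j := by
  obtain ⟨eY⟩ := CommGroup.monoidHom_mulEquiv_of_hasEnoughRootsOfUnity Y ℂ
  obtain ⟨eB⟩ := CommGroup.monoidHom_mulEquiv_of_hasEnoughRootsOfUnity B ℂ
  let c : (Y →* ℂˣ) →* (B →* ℂˣ) := MonoidHom.compHom' π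
  have hc : Function.Injective c := by
    intro f g hfg
    apply MonoidHom.ext
    intro y
    obtain ⟨b, rfl⟩ := hπ y
    exact DFunLike.congr_fun hfg b
  exact ⟨(eB.toMonoidHom.comp c).comp eY.symm.toMonoidHom,
    (eB.injective.comp hc).comp eY.symm.injective⟩


/-- Let `U` be a subgroup of index `m` in the finite group `G`, let `A` be the Schur multiplier of `G` and `B` that of `U`. Then the subgroup of `m`-th powers of `A` is isomorphic to a subgroup of `B`. -/
theorem result {G : Type*} [Group G] [Finite G] (U : Subgroup G) {A B : Type*} [CommGroup A] [CommGroup B] (hA : Cfsg.HasSchurMultiplier G A) (hB : Cfsg.HasSchurMultiplier U B) : ∃ C : Subgroup B, Nonempty ((powMonoidHom U.index : A →* A).range ≃* C) := by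
  classical
  obtain ⟨⟨Γ, iΓ, fΓ, σ, hσ, ⟨eA⟩⟩, -⟩ := hA
  obtain ⟨hσs, hσc, hσd⟩ := hσ
  have hidx : (U.comap σ).index = U.index := Subgroup.index_comap_of_surjective U hσs
  rw [← hidx]
  haveI : (U.comap σ).FiniteIndex := ⟨Subgroup.index_ne_zero_of_finite⟩
  have hτUs : Function.Surjective (σ.subgroupComap U) :=
    σ.subgroupComap_surjective_of_surjective U hσs
  have hτU : ∀ x : U.comap σ, (((σ.subgroupComap U) x : U) : G) = σ x := fun x => rfl
  have hτUk : (σ.subgroupComap U).ker ≤ Subgroup.center (U.comap σ) := by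
    intro x hx
    have h1 : σ (x : Γ) = 1 := by
      have := congrArg Subtype.val ((MonoidHom.mem_ker).1 hx)
      exact this
    have h2 := Subgroup.mem_center_iff.mp (hσc h1)
    rw [Subgroup.mem_center_iff]
    intro y
    apply Subtype.ext
    exact h2 y.1
  have hψ := Cfsg.Agent.Lib.Helper2.SchurMult.canon_surjective U
  obtain ⟨β, hβ⟩ := Cfsg.Agent.Lib.Helper2.SchurMult.exists_lift_pres
    (Cfsg.Agent.Lib.Helper2.SchurMult.canon U) (σ.subgroupComap U) hτUs hτUk
  obtain ⟨eB⟩ := Cfsg.Agent.Lib.Helper2.SchurMult.equiv_multM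
    (Cfsg.Agent.Lib.Helper2.SchurMult.canon U) hψ hB
  haveI := Cfsg.Agent.Lib.Helper2.SchurMult.finite_multM
    (Cfsg.Agent.Lib.Helper2.SchurMult.canon U) hψ
  haveI : Finite B := Finite.of_equiv _ eB.symm.toEquiv
  have himg := Cfsg.Agent.Lib.Helper2.SchurMult.central_image_multM
    (Cfsg.Agent.Lib.Helper2.SchurMult.canon U) hψ (σ.subgroupComap U) hτUk β hβ
  -- πB : B →* AU surjective
  let πB : B →* ((σ.subgroupComap U).ker ⊓ commutator (U.comap σ) : Subgroup (U.comap σ)) :=
    MonoidHom.codRestrict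
      ((β.comp (Cfsg.Agent.Lib.Helper2.SchurMult.multM
        (Cfsg.Agent.Lib.Helper2.SchurMult.canon U)).subtype).comp eB.toMonoidHom) _
      (fun b => (himg _).2 ⟨(eB b).1, (eB b).2, rfl⟩)
  have hπB : Function.Surjective πB := by
    rintro ⟨k, hk⟩
    obtain ⟨mm, hmm, rfl⟩ := (himg k).1 hk
    refine ⟨eB.symm ⟨mm, hmm⟩, Subtype.ext ?_⟩
    show β ((eB (eB.symm ⟨mm, hmm⟩)).1) = β mm
    rw [eB.apply_symm_apply]
  obtain ⟨j', hj'⟩ := exists_embedding_of_surjective (QuotientGroup.mk' πB.ker)
    (QuotientGroup.mk'_surjective _)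
  let eq1 : B ⧸ πB.ker ≃* ((σ.subgroupComap U).ker ⊓ commutator (U.comap σ) :
      Subgroup (U.comap σ)) := QuotientGroup.quotientKerEquivOfSurjective πB hπB
  let j : ((σ.subgroupComap U).ker ⊓ commutator (U.comap σ) : Subgroup (U.comap σ)) →* B :=
    j'.comp eq1.symm.toMonoidHom
  have hj : Function.Injective j := hj'.comp eq1.symm.injective
  -- the power map
  have hpow_mem : ∀ a : σ.ker, ∃ h1 : (a : Γ) ^ (U.comap σ).index ∈ U.comap σ,
      (⟨(a : Γ) ^ (U.comap σ).index, h1⟩ : U.comap σ)
        ∈ ((σ.subgroupComap U).ker ⊓ commutator (U.comap σ) : Subgroup (U.comap σ)) := by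
    intro a
    have ha : σ (a : Γ) = 1 := a.2
    have h1 : (a : Γ) ^ (U.comap σ).index ∈ U.comap σ := by
      show σ ((a : Γ) ^ (U.comap σ).index) ∈ U
      rw [map_pow, ha, one_pow]; exact U.one_mem
    refine ⟨h1, ?_, ?_⟩
    · have : (⟨(a : Γ) ^ (U.comap σ).index, h1⟩ : U.comap σ) ∈ (σ.subgroupComap U).ker := by
        rw [MonoidHom.mem_ker]
        apply Subtype.ext
        show σ ((a : Γ) ^ (U.comap σ).index) = 1
        rw [map_pow, ha, one_pow]
      exact this
    · have hcen := hσc a.2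
      have key : ∀ (k : ℕ) (g₀ : Γ), g₀⁻¹ * (a : Γ) ^ k * g₀ ∈ U.comap σ →
          g₀⁻¹ * (a : Γ) ^ k * g₀ = (a : Γ) ^ k := by
        intro k g₀ _
        have hc := Subgroup.mem_center_iff.mp (Subgroup.pow_mem _ hcen k) g₀
        rw [mul_assoc, ← hc, inv_mul_cancel_left]
      have ht := MonoidHom.transfer_eq_pow
        (Abelianization.of : (U.comap σ) →* Abelianization (U.comap σ)) (a : Γ) key
      have hker : (a : Γ) ∈ (MonoidHom.transfer
          (Abelianization.of : (U.comap σ) →* Abelianization (U.comap σ))).ker :=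
        Abelianization.commutator_subset_ker _ (hσd a.2)
      rw [MonoidHom.mem_ker, ht] at hker
      have : (⟨(a : Γ) ^ (U.comap σ).index, h1⟩ : U.comap σ) ∈ commutator (U.comap σ) := by
        rw [← Abelianization.ker_of, MonoidHom.mem_ker]
        exact hker
      exact this
  let pw : σ.ker →* ((σ.subgroupComap U).ker ⊓ commutator (U.comap σ) :
      Subgroup (U.comap σ)) :=
    MonoidHom.mk' (fun a => ⟨⟨(a : Γ) ^ (U.comap σ).index, (hpow_mem a).1⟩, (hpow_mem a).2⟩) (by
      intro a b
      apply Subtype.ext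
      apply Subtype.ext
      show ((a * b : σ.ker) : Γ) ^ (U.comap σ).index
        = (a : Γ) ^ (U.comap σ).index * (b : Γ) ^ (U.comap σ).index
      have hcomm : Commute (a : Γ) (b : Γ) :=
        (Subgroup.mem_center_iff.mp (hσc a.2) b.1).symm
      rw [Subgroup.coe_mul, hcomm.mul_pow])
  have hpw : ∀ a : σ.ker, (((pw a : _) : U.comap σ) : Γ) = (a : Γ) ^ (U.comap σ).index :=
    fun a => rfl
  let h : A →* B := j.comp (pw.comp eA.symm.toMonoidHom)
  have hker : h.ker = (powMonoidHom (U.comap σ).index : A →* A).ker := by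
    ext a'
    rw [MonoidHom.mem_ker, MonoidHom.mem_ker, powMonoidHom_apply]
    constructor
    · intro h1
      have h2 : pw (eA.symm a') = 1 := hj (by rw [map_one]; exact h1)
      have h3 : ((eA.symm a' : σ.ker) : Γ) ^ (U.comap σ).index = 1 := by
        rw [← hpw, h2]; rfl
      have h4 : (eA.symm a') ^ (U.comap σ).index = 1 :=
        Subtype.ext (by rw [Subgroup.coe_pow]; exact h3)
      rw [← map_pow] at h4
      exact eA.symm.injective (h4.trans (map_one _).symm)
    · intro h1
      show j (pw (eA.symm a')) = 1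
      have : pw (eA.symm a') = 1 := by
        apply Subtype.ext
        apply Subtype.ext
        show ((eA.symm a' : σ.ker) : Γ) ^ (U.comap σ).index = 1
        rw [← Subgroup.coe_pow, ← map_pow, h1, map_one]; rfl
      rw [this, map_one]
  refine ⟨h.range, ⟨?_⟩⟩
  exact ((QuotientGroup.quotientKerEquivRange
    (powMonoidHom (U.comap σ).index : A →* A)).symm.trans
    (QuotientGroup.quotientMulEquivOfEq hker.symm)).trans (QuotientGroup.quotientKerEquivRange h)

end Cfsg.Agent.S3954
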