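import Cfsg.Statements.S3958
import Mathlib
import Cfsg.Agent.Lib.Helper2.SchurMultB

set_option autoImplicit false
universe u v
open Cfsg

namespace Cfsg.Agent.S3958

/-- Let `σ : Γ →* Q` be a finite stem extension of the finite group `Q` with `Γ` of trivial Schur multiplier. Then `σ` is a Schur covering group of `Q`: for every finite stem extension `τ : Δ →* Q` with `Δ` in the same universe as `Q`, the kernel of `τ` is a homomorphic image of the kernel of `σ`. -/
theorem result {Q : Type u} [Group Q] [Finite Q] {Γ : Type v} [Group Γ] [Finite Γ] (σ : Γ →* Q) (hσ : Cfsg.IsStemExtension σ) (hΓ : Cfsg.HasCyclicSchurMultiplier Γ 1) (Δ : Type u) [Group Δ] [Finite Δ] (τ : Δ →* Q) (hτ : Cfsg.IsStemExtension τ) : ∃ π : σ.ker →* τ.ker, Function.Surjective π := by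
  classical
  have hψ := Cfsg.Agent.Lib.Helper2.SchurMult.canon_surjective Q
  obtain ⟨Γ', i1, i2, σ', hσ', ⟨e'⟩, β, hβs, hβ⟩ :=
    Cfsg.Agent.Lib.Helper2.SchurMult.exists_cover_over
      (Cfsg.Agent.Lib.Helper2.SchurMult.canon Q) hψ σ hσ
  have hβ' : ∀ x, σ (β x) = σ' x := fun x => DFunLike.congr_fun hβ x
  -- β is a stem extension of Γ
  have hkerle : β.ker ≤ σ'.ker := by
    intro x hx
    rw [MonoidHom.mem_ker] at hx ⊢
    rw [← hβ', hx, map_one]
  have hβstem : Cfsg.IsStemExtension β :=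
    ⟨hβs, hkerle.trans hσ'.2.1, hkerle.trans hσ'.2.2⟩
  obtain ⟨Γ'', j1, j2, ⟨c⟩⟩ := Cfsg.Agent.Lib.Helper2.SchurMult.exists_copy.{u, v} Γ'
  have hstem'' := Cfsg.Agent.Lib.Helper2.SchurMult.stem_comp_equiv β hβstem c
  obtain ⟨π₁, hπ₁⟩ := hΓ.2 Γ'' (β.comp c.toMonoidHom) hstem''
  have hinj'' : Function.Injective (β.comp c.toMonoidHom) := by
    rw [injective_iff_map_eq_one]
    intro x hx
    obtain ⟨y, hy⟩ := hπ₁ ⟨x, hx⟩
    have h2 : Subsingleton (Multiplicative (ZMod 1)) := by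
      change Subsingleton (ZMod 1); infer_instance
    have hy1 : y = 1 := Subsingleton.elim _ _
    rw [hy1, map_one] at hy
    have := congrArg Subtype.val hy
    exact this.symm
  have hinj : Function.Injective β := by
    intro a b hab
    have : (β.comp c.toMonoidHom) (c.symm a) = (β.comp c.toMonoidHom) (c.symm b) := by
      simp [hab]
    have h3 := hinj'' this
    exact c.symm.injective h3
  let eβ : Γ' ≃* Γ := MulEquiv.ofBijective β ⟨hinj, hβs⟩
  have heβ : ∀ x, eβ x = β x := fun x => rfl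
  -- κ : σ.ker → σ'.ker
  let κ : σ.ker →* σ'.ker :=
    MonoidHom.codRestrict (eβ.symm.toMonoidHom.comp σ.ker.subtype) σ'.ker (fun k => by
      rw [MonoidHom.mem_ker]
      show σ' (eβ.symm k.1) = 1
      rw [← hβ', ← heβ, eβ.apply_symm_apply]
      exact k.2)
  have hκ : Function.Surjective κ := by
    rintro ⟨k', hk'⟩
    have hk : β k' ∈ σ.ker := by rw [MonoidHom.mem_ker, hβ']; exact hk'
    refine ⟨⟨β k', hk⟩, ?_⟩
    apply Subtype.ext
    show eβ.symm (β k') = k'
    rw [← heβ, eβ.symm_apply_apply]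
  obtain ⟨πM, hπM⟩ := Cfsg.Agent.Lib.Helper2.SchurMult.exists_surjective_multM_ker
    (Cfsg.Agent.Lib.Helper2.SchurMult.canon Q) hψ τ hτ
  exact ⟨(πM.comp e'.toMonoidHom).comp κ, (hπM.comp e'.surjective).comp hκ⟩

end Cfsg.Agent.S3958
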