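import Cfsg.Statements.S3959
import Mathlib
import Cfsg.Agent.Lib.Helper2.SchurMultE

set_option autoImplicit false
universe u v w
open Cfsg

namespace Cfsg.Agent.S3959

open scoped commutatorElement TensorProduct
open Cfsg.Agent.Lib.Helper2.SchurMult

/-- Let `Q₁` and `Q₂` be finite groups with Schur multipliers `A` and `B`. Then the Schur multiplier of `Q₁ × Q₂` is isomorphic to `A × B × (Q₁ᵃᵇ ⊗ Q₂ᵃᵇ)`, the last factor being the tensor product over the integers of the commutator quotients, written multiplicatively. -/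
theorem result {Q₁ : Type u} {Q₂ : Type v} [Group Q₁] [Group Q₂] [Finite Q₁] [Finite Q₂] {A B : Type w} [CommGroup A] [CommGroup B] (hA : Cfsg.HasSchurMultiplier Q₁ A) (hB : Cfsg.HasSchurMultiplier Q₂ B) : Cfsg.HasSchurMultiplier (Q₁ × Q₂) (A × B × Multiplicative (TensorProduct ℤ (Additive (Abelianization Q₁)) (Additive (Abelianization Q₂)))) := by
  classical
  have hψ₁ := canon_surjective Q₁
  have hψ₂ := canon_surjective Q₂
  obtain ⟨eA⟩ := equiv_multM (canon Q₁) hψ₁ hA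
  obtain ⟨eB⟩ := equiv_multM (canon Q₂) hψ₂ hB
  refine ⟨?_, ?_⟩
  · obtain ⟨⟨Γ₁, i1, f1, σ₁, hσ₁, ⟨e₁⟩⟩, -⟩ := hA
    obtain ⟨⟨Γ₂, i2, f2, σ₂, hσ₂, ⟨e₂⟩⟩, -⟩ := hB
    exact ⟨EE σ₁ σ₂, inferInstance, EE_finite σ₁ σ₂, twProj σ₁ σ₂, twProj_stem σ₁ σ₂ hσ₁ hσ₂,
      twProj_ker_equiv σ₁ σ₂ e₁ e₂⟩
  · intro Δ _ _ τ hτ
    obtain ⟨hτs, hτc, hτd⟩ := hτ
    let p₁ : Δ →* Q₁ := (MonoidHom.fst Q₁ Q₂).comp τ
    let p₂ : Δ →* Q₂ := (MonoidHom.snd Q₁ Q₂).comp τ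
    have hτeq : ∀ d, τ d = (p₁ d, p₂ d) := fun d => rfl
    let θ₁ : p₂.ker →* Q₁ := p₁.comp p₂.ker.subtype
    let θ₂ : p₁.ker →* Q₂ := p₂.comp p₁.ker.subtype
    have hθ₁s : Function.Surjective θ₁ := by
      intro q
      obtain ⟨d, hd⟩ := hτs (q, 1)
      have h1 : p₁ d = q := congrArg Prod.fst hd
      have h2 : p₂ d = 1 := congrArg Prod.snd hd
      exact ⟨⟨d, h2⟩, h1⟩
    have hθ₂s : Function.Surjective θ₂ := by
      intro q
      obtain ⟨d, hd⟩ := hτs (1, q)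
      have h1 : p₁ d = 1 := congrArg Prod.fst hd
      have h2 : p₂ d = q := congrArg Prod.snd hd
      exact ⟨⟨d, h1⟩, h2⟩
    have hker₁ : ∀ x : p₂.ker, x ∈ θ₁.ker → (x : Δ) ∈ τ.ker := by
      intro x hx
      rw [MonoidHom.mem_ker, hτeq]
      have h1 : p₁ (x : Δ) = 1 := hx
      have h2 : p₂ (x : Δ) = 1 := x.2
      rw [h1, h2]; rfl
    have hker₂ : ∀ x : p₁.ker, x ∈ θ₂.ker → (x : Δ) ∈ τ.ker := by
      intro x hx
      rw [MonoidHom.mem_ker, hτeq]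
      have h1 : p₂ (x : Δ) = 1 := hx
      have h2 : p₁ (x : Δ) = 1 := x.2
      rw [h1, h2]; rfl
    have hθ₁k : θ₁.ker ≤ Subgroup.center p₂.ker := by
      intro x hx
      have := Subgroup.mem_center_iff.mp (hτc (hker₁ x hx))
      rw [Subgroup.mem_center_iff]
      intro y
      exact Subtype.ext (this y.1)
    have hθ₂k : θ₂.ker ≤ Subgroup.center p₁.ker := by
      intro x hx
      have := Subgroup.mem_center_iff.mp (hτc (hker₂ x hx))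
      rw [Subgroup.mem_center_iff]
      intro y
      exact Subtype.ext (this y.1)
    have hKcomm : ∀ (x : p₂.ker) (y : p₁.ker), ⁅(x : Δ), (y : Δ)⁆ ∈ τ.ker := by
      intro x y
      rw [MonoidHom.mem_ker, map_commutatorElement, hτeq, hτeq]
      have h2 : p₂ (x : Δ) = 1 := x.2
      have h1 : p₁ (y : Δ) = 1 := y.2
      rw [h2, h1]
      apply Prod.ext
      · show ⁅p₁ (x : Δ), (1 : Q₁)⁆ = 1
        exact commutatorElement_one_right _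
      · show ⁅(1 : Q₂), p₂ (y : Δ)⁆ = 1
        exact commutatorElement_one_left _
    -- the pairing
    let α₁ : p₂.ker →* Abelianization Q₁ := Abelianization.of.comp θ₁
    let α₂ : p₁.ker →* Abelianization Q₂ := Abelianization.of.comp θ₂
    have hα₁s : Function.Surjective α₁ := by
      intro u
      obtain ⟨q, rfl⟩ : ∃ q, Abelianization.of q = u := QuotientGroup.mk_surjective u
      obtain ⟨x, rfl⟩ := hθ₁s q
      exact ⟨x, rfl⟩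
    have hα₂s : Function.Surjective α₂ := by
      intro u
      obtain ⟨q, rfl⟩ : ∃ q, Abelianization.of q = u := QuotientGroup.mk_surjective u
      obtain ⟨x, rfl⟩ := hθ₂s q
      exact ⟨x, rfl⟩
    have hP1 : ∀ x : p₂.ker, α₁ x = 1 → ∀ y : p₁.ker, ⁅(x : Δ), (y : Δ)⁆ = 1 := by
      intro x hx y
      exact comm_eq_one_of_ab p₂.ker θ₁ hθ₁s (y : Δ) (fun x' => hτc (hKcomm x' y))
        (fun x' hx' => by
          rw [commutatorElement_eq_one_iff_commute]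
          exact (Subgroup.mem_center_iff.mp (hτc (hker₁ x' hx')) (y : Δ)).symm) x hx
    have hP2 : ∀ y : p₁.ker, α₂ y = 1 → ∀ x : p₂.ker, ⁅(x : Δ), (y : Δ)⁆ = 1 := by
      intro y hy x
      have h := comm_eq_one_of_ab p₁.ker θ₂ hθ₂s (x : Δ)
        (fun y' => by
          have := hτc (hKcomm x y')
          rw [← commutatorElement_inv]
          exact Subgroup.inv_mem _ this)
        (fun y' hy' => by
          rw [commutatorElement_eq_one_iff_commute]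
          exact (Subgroup.mem_center_iff.mp (hτc (hker₂ y' hy')) (x : Δ)).symm) y hy
      rw [← commutatorElement_inv, h, inv_one]
    obtain ⟨g₃, hg₃mem, hg₃⟩ :=
      exists_pairing τ.ker p₂.ker p₁.ker hτc α₁ α₂ hα₁s hα₂s hKcomm hP1 hP2
    -- lifts from the two presentations
    obtain ⟨β₁, hβ₁⟩ := exists_lift_pres (canon Q₁) θ₁ hθ₁s hθ₁k
    obtain ⟨β₂, hβ₂⟩ := exists_lift_pres (canon Q₂) θ₂ hθ₂s hθ₂k
    have himg₁ := central_image_multM (canon Q₁) hψ₁ θ₁ hθ₁k β₁ hβ₁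
    have himg₂ := central_image_multM (canon Q₂) hψ₂ θ₂ hθ₂k β₂ hβ₂
    let g₁ : A →* Δ := p₂.ker.subtype.comp
      ((β₁.comp (multM (canon Q₁)).subtype).comp eA.toMonoidHom)
    let g₂ : B →* Δ := p₁.ker.subtype.comp
      ((β₂.comp (multM (canon Q₂)).subtype).comp eB.toMonoidHom)
    have hg₁ : ∀ a, g₁ a = ((β₁ (eA a).1 : p₂.ker) : Δ) := fun a => rfl
    have hg₂ : ∀ b, g₂ b = ((β₂ (eB b).1 : p₁.ker) : Δ) := fun b => rfl
    have hg₁mem : ∀ a : A, g₁ a ∈ τ.ker :=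
      fun a => hker₁ _ ((himg₁ _).2 ⟨_, (eA a).2, rfl⟩).1
    have hg₂mem : ∀ b : B, g₂ b ∈ τ.ker :=
      fun b => hker₂ _ ((himg₂ _).2 ⟨_, (eB b).2, rfl⟩).1
    have hdec : ∀ d : Δ, ∃ (x : p₂.ker) (y : p₁.ker), d = (x : Δ) * (y : Δ) := by
      intro d
      obtain ⟨x, hx⟩ := hθ₁s (p₁ d)
      have hy : (x : Δ)⁻¹ * d ∈ p₁.ker := by
        rw [MonoidHom.mem_ker, map_mul, map_inv]
        have : p₁ (x : Δ) = p₁ d := hx
        rw [this, inv_mul_cancel]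
      refine ⟨x, ⟨_, hy⟩, ?_⟩
      show d = (x : Δ) * ((x : Δ)⁻¹ * d)
      group
    -- the commutator subgroup of Δ
    have hCle : g₃.range ≤ τ.ker := by
      rintro _ ⟨t, rfl⟩
      exact hg₃mem t
    haveI hCn : (g₃.range).Normal := normal_of_le_center _ (hCle.trans hτc)
    have hcommN : ∀ a b : Δ, (a ∈ p₂.ker ∨ a ∈ p₁.ker) → (b ∈ p₂.ker ∨ b ∈ p₁.ker) →
        ⁅a, b⁆ ∈ (⁅p₂.ker, p₂.ker⁆ ⊔ ⁅p₁.ker, p₁.ker⁆) ⊔ g₃.range := by
      intro a b ha hb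
      rcases ha with ha | ha <;> rcases hb with hb | hb
      · exact Subgroup.mem_sup_left (Subgroup.mem_sup_left
          (Subgroup.commutator_mem_commutator ha hb))
      · exact Subgroup.mem_sup_right ⟨_, hg₃ ⟨a, ha⟩ ⟨b, hb⟩⟩
      · have h : ⁅b, a⁆ ∈ g₃.range := ⟨_, hg₃ ⟨b, hb⟩ ⟨a, ha⟩⟩
        rw [← commutatorElement_inv]
        exact Subgroup.mem_sup_right (Subgroup.inv_mem _ h)
      · exact Subgroup.mem_sup_left (Subgroup.mem_sup_right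
          (Subgroup.commutator_mem_commutator ha hb))
    have hcomm_all : ∀ d d' : Δ,
        ⁅d, d'⁆ ∈ (⁅p₂.ker, p₂.ker⁆ ⊔ ⁅p₁.ker, p₁.ker⁆) ⊔ g₃.range := by
      intro d d'
      obtain ⟨x, y, rfl⟩ := hdec d
      obtain ⟨x', y', rfl⟩ := hdec d'
      have hq : ∀ a b : Δ, (a ∈ p₂.ker ∨ a ∈ p₁.ker) → (b ∈ p₂.ker ∨ b ∈ p₁.ker) →
          Commute (QuotientGroup.mk' ((⁅p₂.ker, p₂.ker⁆ ⊔ ⁅p₁.ker, p₁.ker⁆) ⊔ g₃.range) a)
            (QuotientGroup.mk' ((⁅p₂.ker, p₂.ker⁆ ⊔ ⁅p₁.ker, p₁.ker⁆) ⊔ g₃.range) b) := by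
        intro a b ha hb
        have h1 : QuotientGroup.mk' ((⁅p₂.ker, p₂.ker⁆ ⊔ ⁅p₁.ker, p₁.ker⁆) ⊔ g₃.range) ⁅a, b⁆ = 1 :=
          (QuotientGroup.eq_one_iff _).2 (hcommN a b ha hb)
        rw [map_commutatorElement] at h1
        exact commutatorElement_eq_one_iff_commute.mp h1
      have h2 : Commute
          (QuotientGroup.mk' ((⁅p₂.ker, p₂.ker⁆ ⊔ ⁅p₁.ker, p₁.ker⁆) ⊔ g₃.range) ((x : Δ) * (y : Δ)))
          (QuotientGroup.mk' ((⁅p₂.ker, p₂.ker⁆ ⊔ ⁅p₁.ker, p₁.ker⁆) ⊔ g₃.range) ((x' : Δ) * (y' : Δ))) := by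
        rw [map_mul, map_mul]
        exact ((hq _ _ (Or.inl x.2) (Or.inl x'.2)).mul_right
          (hq _ _ (Or.inl x.2) (Or.inr y'.2))).mul_left
          ((hq _ _ (Or.inr y.2) (Or.inl x'.2)).mul_right (hq _ _ (Or.inr y.2) (Or.inr y'.2)))
      have h3 : QuotientGroup.mk' ((⁅p₂.ker, p₂.ker⁆ ⊔ ⁅p₁.ker, p₁.ker⁆) ⊔ g₃.range)
          ⁅(x : Δ) * (y : Δ), (x' : Δ) * (y' : Δ)⁆ = 1 := by
        rw [map_commutatorElement]
        exact commutatorElement_eq_one_iff_commute.mpr h2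
      exact (QuotientGroup.eq_one_iff _).1 h3
    have hcommΔ : commutator Δ ≤ (⁅p₂.ker, p₂.ker⁆ ⊔ ⁅p₁.ker, p₁.ker⁆) ⊔ g₃.range := by
      rw [commutator_eq_closure, Subgroup.closure_le]
      rintro _ ⟨a, b, rfl⟩
      exact hcomm_all a b
    -- the surjection
    letI : CommGroup τ.ker :=
      { (inferInstance : Group τ.ker) with
        mul_comm := fun a b => Subtype.ext ((Subgroup.mem_center_iff.mp (hτc a.2) b.1).symm) }
    let G₁ : A →* τ.ker := g₁.codRestrict τ.ker hg₁mem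
    let G₂ : B →* τ.ker := g₂.codRestrict τ.ker hg₂mem
    let G₃ : Multiplicative (TensorProduct ℤ (Additive (Abelianization Q₁))
        (Additive (Abelianization Q₂))) →* τ.ker := g₃.codRestrict τ.ker hg₃mem
    let π : A × B × Multiplicative (TensorProduct ℤ (Additive (Abelianization Q₁))
        (Additive (Abelianization Q₂))) →* τ.ker :=
      MonoidHom.mk' (fun abt => G₁ abt.1 * G₂ abt.2.1 * G₃ abt.2.2) (by
        intro x y
        show G₁ (x.1 * y.1) * G₂ (x.2.1 * y.2.1) * G₃ (x.2.2 * y.2.2)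
          = G₁ x.1 * G₂ x.2.1 * G₃ x.2.2 * (G₁ y.1 * G₂ y.2.1 * G₃ y.2.2)
        rw [map_mul, map_mul, map_mul, mul_mul_mul_comm (G₁ x.1) (G₁ y.1),
          mul_mul_mul_comm (G₁ x.1 * G₂ x.2.1)])
    have hπ : ∀ abt, ((π abt : τ.ker) : Δ) = g₁ abt.1 * g₂ abt.2.1 * g₃ abt.2.2 := fun abt => rfl
    refine ⟨π, ?_⟩
    rintro ⟨k, hk⟩
    have hkN : k ∈ (⁅p₂.ker, p₂.ker⁆ ⊔ ⁅p₁.ker, p₁.ker⁆) ⊔ g₃.range := hcommΔ (hτd hk)
    obtain ⟨c₁₂, hc₁₂, d, hd, rfl⟩ := Subgroup.mem_sup_of_normal_right.mp hkN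
    obtain ⟨c₁, hc₁, c₂, hc₂, rfl⟩ := Subgroup.mem_sup_of_normal_right.mp hc₁₂
    obtain ⟨t, rfl⟩ := hd
    rw [← Subgroup.map_subtype_commutator] at hc₁ hc₂
    obtain ⟨z₁, hz₁, rfl⟩ := hc₁
    obtain ⟨z₂, hz₂, rfl⟩ := hc₂
    have hk' : τ ((z₁ : Δ) * (z₂ : Δ) * g₃ t) = 1 := hk
    rw [map_mul, MonoidHom.mem_ker.1 (hg₃mem t), mul_one, map_mul, hτeq, hτeq] at hk'
    have h2 : p₂ (z₁ : Δ) = 1 := z₁.2
    have h1 : p₁ (z₂ : Δ) = 1 := z₂.2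
    rw [h2, h1] at hk'
    have hk1 : θ₁ z₁ = 1 := by
      have e1 : p₁ (z₁ : Δ) * 1 = 1 := congrArg Prod.fst hk'
      rw [mul_one] at e1
      exact e1
    have hk2 : θ₂ z₂ = 1 := by
      have e1 : 1 * p₂ (z₂ : Δ) = 1 := congrArg Prod.snd hk'
      rw [one_mul] at e1
      exact e1
    obtain ⟨m₁, hm₁, hm₁z⟩ := (himg₁ z₁).1 ⟨hk1, hz₁⟩
    obtain ⟨m₂, hm₂, hm₂z⟩ := (himg₂ z₂).1 ⟨hk2, hz₂⟩
    refine ⟨(eA.symm ⟨m₁, hm₁⟩, eB.symm ⟨m₂, hm₂⟩, t), ?_⟩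
    apply Subtype.ext
    show ((π (eA.symm ⟨m₁, hm₁⟩, eB.symm ⟨m₂, hm₂⟩, t) : τ.ker) : Δ)
      = (z₁ : Δ) * (z₂ : Δ) * g₃ t
    rw [hπ, hg₁, hg₂]
    show ((β₁ (eA (eA.symm ⟨m₁, hm₁⟩)).1 : p₂.ker) : Δ)
      * ((β₂ (eB (eB.symm ⟨m₂, hm₂⟩)).1 : p₁.ker) : Δ) * g₃ t = (z₁ : Δ) * (z₂ : Δ) * g₃ t
    rw [eA.apply_symm_apply, eB.apply_symm_apply, hm₁z, hm₂z]

end Cfsg.Agent.S3959
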