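import Cfsg.Statements.S3960
import Mathlib
import Cfsg.Agent.Lib.Helper2.SchurMultA

set_option autoImplicit false
universe u
open Cfsg

namespace Cfsg.Agent.S3960

/-- A finite perfect group `Q` has a universal central extension: a finite perfect group `G` in the universe of `Q` and a surjective homomorphism `π : G →* Q` with central kernel such that for every group `X` in that universe and every surjective homomorphism `ξ : X →* Q` with central kernel there is exactly one homomorphism `η : G →* X` with `ξ ∘ η = π`. -/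
theorem result {Q : Type u} [Group Q] [Finite Q] (hQ : Group.IsPerfect Q) : ∃ (G : Type u) (_ : Group G) (_ : Finite G) (π : G →* Q), Group.IsPerfect G ∧ Function.Surjective π ∧ π.ker ≤ Subgroup.center G ∧ ∀ (X : Type u) [Group X] (ξ : X →* Q), Function.Surjective ξ → ξ.ker ≤ Subgroup.center X → ∃! η : G →* X, ξ.comp η = π := by
  classical
  let S : Set ℕ := {n | ∃ (G : Type u) (_ : Group G) (_ : Finite G) (π : G →* Q),
    Group.IsPerfect G ∧ Function.Surjective π ∧ π.ker ≤ Subgroup.center G ∧ Nat.card G = n}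
  have hne : S.Nonempty :=
    ⟨Nat.card Q, Q, inferInstance, inferInstance, MonoidHom.id Q, hQ, Function.surjective_id,
      by rw [MonoidHom.ker_id]; exact bot_le, rfl⟩
  have hbdd : BddAbove S := by
    refine ⟨Nat.card Q ^ (Nat.card Q * Nat.card Q ^ 2 + 1), ?_⟩
    rintro n ⟨G, iG, fG, π, hG, hπs, hπk, rfl⟩
    exact Cfsg.Agent.Lib.Helper2.SchurMult.card_le_bound hG π hπs hπk
  obtain ⟨G, iG, fG, π, hG, hπs, hπk, hcard⟩ := Nat.sSup_mem hne hbdd
  refine ⟨G, iG, fG, π, hG, hπs, hπk, ?_⟩
  intro X _ ξ hξs hξk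
  have hmax : ∀ (E : Type u) [Group E] [Finite E], Group.IsPerfect E → ∀ ρ : E →* G,
      Function.Surjective ρ → ρ.ker ≤ Subgroup.center E → Function.Injective ρ := by
    intro E _ _ hE ρ hρs hρk
    have hmem : Nat.card E ∈ S :=
      ⟨E, inferInstance, inferInstance, π.comp ρ, hE, hπs.comp hρs,
        Cfsg.Agent.Lib.Helper2.SchurMult.ker_comp_le_center hE ρ hρk π hπk, rfl⟩
    have hle : Nat.card E ≤ Nat.card G := by rw [hcard]; exact le_csSup hbdd hmem
    exact (Function.Surjective.bijective_of_nat_card_le hρs hle).1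
  obtain ⟨η, hη⟩ := Cfsg.Agent.Lib.Helper2.SchurMult.exists_lift hG π ξ hξs hξk hmax
  exact ⟨η, hη, fun η' hη' =>
    Cfsg.Agent.Lib.Helper2.SchurMult.hom_eq_of_perfect hG ξ hξk η' η (hη'.trans hη.symm)⟩

end Cfsg.Agent.S3960
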