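import Cfsg.Statements.S3961
import Mathlib
import Cfsg.Agent.Lib.Helper2.SchurMultA

set_option autoImplicit false
universe u v
open Cfsg

namespace Cfsg.Agent.S3961

/-- Let `π : G →* Q` be a surjective homomorphism with central kernel from a finite perfect group `G` (a perfect cover of `Q`). Then `π` is universal, in the sense that every surjective homomorphism `ξ : X →* Q` with central kernel from a group `X` in the universe of `G` admits a homomorphism `η : G →* X` with `ξ ∘ η = π`, if and only if `G` has trivial Schur multiplier. -/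
theorem result {G : Type u} {Q : Type v} [Group G] [Group Q] [Finite G] (hG : Group.IsPerfect G) (π : G →* Q) (hπ : Function.Surjective π) (hker : π.ker ≤ Subgroup.center G) : (∀ (X : Type u) [Group X] (ξ : X →* Q), Function.Surjective ξ → ξ.ker ≤ Subgroup.center X → ∃ η : G →* X, ξ.comp η = π) ↔ Cfsg.HasCyclicSchurMultiplier G 1 := by
  classical
  constructor
  · intro huniv
    refine ⟨⟨G, inferInstance, inferInstance, MonoidHom.id G, ⟨Function.surjective_id, ?_, ?_⟩, ?_⟩, ?_⟩
    · rw [MonoidHom.ker_id]; exact bot_le
    · rw [MonoidHom.ker_id]; exact bot_le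
    · have h1 : Subsingleton (MonoidHom.id G).ker := by
        rw [MonoidHom.ker_id]; infer_instance
      have h2 : Subsingleton (Multiplicative (ZMod 1)) := by
        change Subsingleton (ZMod 1); infer_instance
      have u1 : Unique (MonoidHom.id G).ker := ⟨⟨1⟩, fun a => Subsingleton.elim _ _⟩
      have u2 : Unique (Multiplicative (ZMod 1)) := ⟨⟨1⟩, fun a => Subsingleton.elim _ _⟩
      exact ⟨MulEquiv.ofUnique⟩
    · intro Γ _ _ σ hσ
      obtain ⟨hσs, hσc, hσd⟩ := hσ
      -- Γ is perfect
      have hΓ : Group.IsPerfect Γ := by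
        refine ⟨?_⟩
        rw [eq_top_iff]
        intro γ _
        have hmap : (commutator Γ).map σ = ⊤ := by
          rw [commutator_def, Subgroup.map_commutator, Subgroup.map_top_of_surjective σ hσs,
            ← commutator_def, hG.commutator_eq_top]
        have : σ γ ∈ (commutator Γ).map σ := by rw [hmap]; trivial
        obtain ⟨c, hc, hcγ⟩ := Subgroup.mem_map.mp this
        have hk : γ * c⁻¹ ∈ σ.ker := by
          rw [MonoidHom.mem_ker, map_mul, map_inv, hcγ, mul_inv_cancel]
        have := Subgroup.mul_mem _ (hσd hk) hc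
        rwa [inv_mul_cancel_right] at this
      have hcomp : (π.comp σ).ker ≤ Subgroup.center Γ :=
        Cfsg.Agent.Lib.Helper2.SchurMult.ker_comp_le_center hΓ σ hσc π hker
      obtain ⟨η, hη⟩ := huniv Γ (π.comp σ) (hπ.comp hσs) hcomp
      have hid : σ.comp η = MonoidHom.id G :=
        Cfsg.Agent.Lib.Helper2.SchurMult.hom_eq_of_perfect hG π hker _ _
          (by rw [← MonoidHom.comp_assoc, hη]; rfl)
      have hση : ∀ g, σ (η g) = g := fun g => DFunLike.congr_fun hid g
      -- commutator Γ ≤ range η
      have hle : commutator Γ ≤ η.range := by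
        rw [commutator_eq_closure Γ, Subgroup.closure_le]
        rintro c ⟨a, b, rfl⟩
        have hza : a * (η (σ a))⁻¹ ∈ Subgroup.center Γ := by
          apply hσc
          rw [MonoidHom.mem_ker, map_mul, map_inv, hση, mul_inv_cancel]
        have hzb : b * (η (σ b))⁻¹ ∈ Subgroup.center Γ := by
          apply hσc
          rw [MonoidHom.mem_ker, map_mul, map_inv, hση, mul_inv_cancel]
        have := Cfsg.Agent.Lib.Helper2.SchurMult.comm_central_mul (η (σ a)) (η (σ b)) hza hzb
        rw [inv_mul_cancel_right, inv_mul_cancel_right] at this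
        rw [SetLike.mem_coe, this, ← map_commutatorElement]
        exact ⟨_, rfl⟩
      have hker1 : ∀ k : σ.ker, k = 1 := by
        intro k
        have hk : (k : Γ) ∈ η.range := hle (by rw [hΓ.commutator_eq_top]; trivial)
        obtain ⟨g, hg⟩ := hk
        have h1 : σ (k : Γ) = 1 := k.2
        rw [← hg, hση] at h1
        apply Subtype.ext
        rw [← hg, h1, map_one]; rfl
      refine ⟨1, ?_⟩
      intro x
      exact ⟨1, by rw [hker1 x]; rfl⟩
  · intro hM X _ ξ hξs hξk
    have hmax : ∀ (E : Type u) [Group E] [Finite E], Group.IsPerfect E → ∀ ρ : E →* G,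
        Function.Surjective ρ → ρ.ker ≤ Subgroup.center E → Function.Injective ρ := by
      intro E _ _ hE ρ hρs hρk
      obtain ⟨π', hπ'⟩ := hM.2 E ρ ⟨hρs, hρk, by rw [hE.commutator_eq_top]; exact le_top⟩
      rw [injective_iff_map_eq_one]
      intro e he
      obtain ⟨x, hx⟩ := hπ' ⟨e, he⟩
      have h2 : Subsingleton (Multiplicative (ZMod 1)) := by
        change Subsingleton (ZMod 1); infer_instance
      have hx1 : x = 1 := Subsingleton.elim _ _
      rw [hx1, map_one] at hx
      have := congrArg Subtype.val hx
      exact this.symm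
    exact Cfsg.Agent.Lib.Helper2.SchurMult.exists_lift hG π ξ hξs hξk hmax

end Cfsg.Agent.S3961
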