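import Cfsg.Statements.S3962

set_option autoImplicit false
open Cfsg

namespace Cfsg.Agent.S3962

/-- Let `G` be a perfect group and `π : G →* Q` a surjective homomorphism whose kernel is central. Then `π` maps the centre of `G` onto the centre of `Q`. Taking `π` to be the map to `G ⧸ Z(G)` shows that the central quotient of a perfect group has trivial centre. -/
theorem result {G Q : Type*} [Group G] [Group Q] (hG : Group.IsPerfect G) (π : G →* Q) (hπ : Function.Surjective π) (hker : π.ker ≤ Subgroup.center G) : (Subgroup.center G).map π = Subgroup.center Q := by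
  apply le_antisymm
  · rintro _ ⟨g, hg, rfl⟩
    rw [Subgroup.mem_center_iff]
    intro q
    obtain ⟨x, rfl⟩ := hπ q
    rw [← map_mul, ← map_mul, Subgroup.mem_center_iff.mp hg x]
  · intro q hq
    obtain ⟨g, rfl⟩ := hπ q
    refine ⟨g, ?_, rfl⟩
    -- commutators [g, x] lie in ker π ≤ Z(G)
    have hcomm : ∀ x : G, g * x * g⁻¹ * x⁻¹ ∈ Subgroup.center G := by
      intro x
      apply hker
      rw [MonoidHom.mem_ker]
      have := Subgroup.mem_center_iff.mp hq (π x)
      simp only [map_mul, map_inv]
      rw [← this]
      simp
    -- the homomorphism x ↦ [g, x] into the centre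
    let f : G →* Subgroup.center G :=
      { toFun := fun x => ⟨g * x * g⁻¹ * x⁻¹, hcomm x⟩
        map_one' := by
          apply Subtype.ext
          simp
        map_mul' := by
          intro x y
          apply Subtype.ext
          show g * (x * y) * g⁻¹ * (x * y)⁻¹ = (g * x * g⁻¹ * x⁻¹) * (g * y * g⁻¹ * y⁻¹)
          have hy := Subgroup.mem_center_iff.mp (hcomm y)
          -- [g,y] commutes with everything
          calc g * (x * y) * g⁻¹ * (x * y)⁻¹
              = g * x * g⁻¹ * (g * y * g⁻¹ * y⁻¹) * x⁻¹ := by simp [mul_assoc]
            _ = g * x * g⁻¹ * (x⁻¹ * (g * y * g⁻¹ * y⁻¹)) := by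
                rw [mul_assoc (g * x * g⁻¹), ← hy x⁻¹]
            _ = (g * x * g⁻¹ * x⁻¹) * (g * y * g⁻¹ * y⁻¹) := by simp [mul_assoc] }
    -- f is trivial since G is perfect and the target is commutative
    have hf : ∀ x : G, f x = 1 := by
      intro x
      have hx : x ∈ commutator G := by
        rw [Group.isPerfect_def.mp hG]; trivial
      have hle : commutator G ≤ f.ker := by
        rw [commutator_def, Subgroup.commutator_le]
        intro a _ b _
        rw [MonoidHom.mem_ker, map_commutatorElement, commutatorElement_def]
        have hab : f a * f b = f b * f a := by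
          apply Subtype.ext
          exact (Subgroup.mem_center_iff.mp (f a).2 (f b)).symm
        rw [hab]; simp
      exact MonoidHom.mem_ker.mp (hle hx)
    show g ∈ Subgroup.center G
    rw [Subgroup.mem_center_iff]
    intro x
    have := congrArg Subtype.val (hf x)
    simp only [Subgroup.coe_one] at this
    have h2 : g * x * g⁻¹ * x⁻¹ = 1 := this
    have h3 : g * x * g⁻¹ = x := by
      have := mul_inv_eq_one.mp h2
      exact this
    calc x * g = (g * x * g⁻¹) * g := by rw [h3]
      _ = g * x := by simp [mul_assoc]

end Cfsg.Agent.S3962
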