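import Cfsg.Statements.S3963
import Cfsg.Agent.Lib.Helper5.SchurTriv

set_option autoImplicit false
open Cfsg
open scoped commutatorElement

namespace Cfsg.Agent.S3963

open Cfsg.Agent.Lib.Helper5 QuaternionGroup

theorem inv_xa' (n : ℕ) (i : ZMod (2 * n)) :
    (xa i : QuaternionGroup n)⁻¹ = xa ((n : ZMod (2 * n)) + i) := rfl

theorem inv_a' (n : ℕ) (i : ZMod (2 * n)) : (a i : QuaternionGroup n)⁻¹ = a (-i) := rfl

theorem n_add_n (n : ℕ) : ((n : ZMod (2 * n)) + n) = 0 := by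
  have : ((2 * n : ℕ) : ZMod (2 * n)) = 0 := ZMod.natCast_self _
  rw [← this]; push_cast; ring

theorem a_pow' (n : ℕ) (i : ZMod (2 * n)) (k : ℕ) :
    (a i : QuaternionGroup n) ^ k = a ((k : ZMod (2 * n)) * i) := by
  induction k with
  | zero => simp
  | succ k ih =>
    rw [pow_succ, ih, a_mul_a]
    congr 1
    push_cast; ring

theorem quaternion_closure (n : ℕ) [NeZero n] :
    Subgroup.closure ({a 1, xa 0} : Set (QuaternionGroup n)) = ⊤ := by
  have : NeZero (2 * n) := ⟨by have := NeZero.ne n; omega⟩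
  rw [eq_top_iff]
  intro g _
  have hr : ∀ i : ZMod (2 * n),
      a i ∈ Subgroup.closure ({a 1, xa 0} : Set (QuaternionGroup n)) := by
    intro i
    have : a i = (a 1 : QuaternionGroup n) ^ i.val := by
      rw [a_one_pow, ZMod.natCast_zmod_val]
    rw [this]
    exact Subgroup.pow_mem _ (Subgroup.subset_closure (by simp)) _
  cases g with
  | a i => exact hr i
  | xa i =>
    have : xa i = xa 0 * a i := by rw [xa_mul_a, zero_add]
    rw [this]
    exact Subgroup.mul_mem _ (Subgroup.subset_closure (by simp)) (hr i)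

/-- For every `n ≥ 1` the dicyclic (generalized quaternion) group of order `4 n` has trivial Schur multiplier. -/
theorem result (n : ℕ) [NeZero n] : Cfsg.HasCyclicSchurMultiplier (QuaternionGroup n) 1 := by
  apply hasCyclicSchurMultiplier_one
  intro Γ _ _ σ hσ
  obtain ⟨hsurj, hcen, hcomm⟩ := hσ
  obtain ⟨x, hx⟩ := hsurj (a 1)
  obtain ⟨s, hs⟩ := hsurj (xa 0)
  have hnn := n_add_n n
  have hD : InvData σ.ker x s := by
    refine ⟨hcen, ?_, ?_⟩
    · apply closure_union_ker_eq_top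
      have : σ '' ({x, s} : Set Γ) = {a 1, xa 0} := by
        rw [Set.image_pair, hx, hs]
      rw [this, quaternion_closure]
    · rw [MonoidHom.mem_ker]
      simp only [map_mul, map_inv, hx, hs, inv_xa', xa_mul_a, xa_mul_xa, a_mul_a, one_def]
      congr 1
      linear_combination hnn
  -- s centralizes x ^ n
  have hxn : s * x ^ n * s⁻¹ = x ^ n := by
    have hw : (s ^ 2)⁻¹ * x ^ n ∈ σ.ker := by
      rw [MonoidHom.mem_ker, map_mul, map_inv, map_pow, map_pow, hx, hs, xa_sq, a_one_pow,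
        inv_mul_cancel]
    have hwc := Subgroup.mem_center_iff.1 (hcen hw)
    have hx' : x ^ n = s ^ 2 * ((s ^ 2)⁻¹ * x ^ n) := by group
    rw [hx']
    calc s * (s ^ 2 * ((s ^ 2)⁻¹ * x ^ n)) * s⁻¹
        = s ^ 2 * (s * ((s ^ 2)⁻¹ * x ^ n)) * s⁻¹ := by group
    _ = s ^ 2 * (((s ^ 2)⁻¹ * x ^ n) * s) * s⁻¹ := by rw [hwc s]
    _ = _ := by group
  have hcn : ⁅s, x⁆ ^ n = 1 := hD.comm_pow_eq_one hxn
  have hσc : σ ⁅s, x⁆ = a (-2) := by
    rw [commutatorElement_def]
    simp only [map_mul, map_inv, hx, hs, inv_xa', inv_a', xa_mul_a, xa_mul_xa, a_mul_a]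
    congr 1
    linear_combination hnn
  rw [eq_bot_iff]
  intro z hz
  have hzc : z ∈ Subgroup.zpowers ⁅s, x⁆ := hD.commutator_le (hcomm hz)
  rw [← mem_powers_iff_mem_zpowers, Submonoid.mem_powers_iff] at hzc
  obtain ⟨k, rfl⟩ := hzc
  rw [MonoidHom.mem_ker, map_pow, hσc, a_pow', one_def] at hz
  have hz' : ((k : ZMod (2 * n)) * (-2)) = 0 := a.inj hz
  have h2k : ((2 * k : ℕ) : ZMod (2 * n)) = 0 := by
    push_cast
    linear_combination -hz'
  rw [ZMod.natCast_eq_zero_iff] at h2k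
  have hnk : n ∣ k := Nat.dvd_of_mul_dvd_mul_left (by norm_num) h2k
  obtain ⟨t, rfl⟩ := hnk
  rw [Subgroup.mem_bot, pow_mul, hcn, one_pow]

end Cfsg.Agent.S3963
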