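import Cfsg.Statements.S3964
import Cfsg.Agent.Lib.Helper5.DihedralStem

set_option autoImplicit false
open Cfsg
open scoped commutatorElement

namespace Cfsg.Agent.S3964

open Cfsg.Agent.Lib.Helper5

/-- For odd `n` the dihedral group of order `2 n` has trivial Schur multiplier. -/
theorem result (n : ℕ) (hn : Odd n) : Cfsg.HasCyclicSchurMultiplier (DihedralGroup n) 1 := by
  have : NeZero n := ⟨by rintro rfl; simp at hn⟩
  apply hasCyclicSchurMultiplier_one
  intro Γ _ _ σ hσ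
  obtain ⟨hsurj, hcen, hcomm⟩ := hσ
  obtain ⟨x, s, -, -, hD, hxn⟩ := dihedral_invData σ hsurj hcen
  rw [eq_bot_iff]
  intro z hz
  have hzc : z ∈ Subgroup.zpowers ⁅s, x⁆ := hD.commutator_le (hcomm hz)
  have h2 : z ^ 2 = 1 := hD.sq_eq_one_of_central hzc (hcen hz)
  have hcn : ⁅s, x⁆ ^ n = 1 := hD.comm_pow_eq_one hxn
  have hzn : z ^ n = 1 := by
    obtain ⟨i, rfl⟩ := Subgroup.mem_zpowers_iff.1 hzc
    rw [← zpow_natCast, ← zpow_mul, mul_comm, zpow_mul, zpow_natCast, hcn, one_zpow]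
  rw [Subgroup.mem_bot]
  exact eq_one_of_sq_of_odd_pow h2 hn hzn

end Cfsg.Agent.S3964
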