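import Cfsg.Statements.S3966
import Mathlib

set_option autoImplicit false
open Cfsg

namespace Cfsg.Agent.S3966

open QuaternionGroup DihedralGroup
open scoped commutatorElement

/-- reduction map ZMod (2n) → ZMod n -/
noncomputable def red (n : ℕ) : ZMod (2 * n) →+* ZMod n :=
  ZMod.castHom (dvd_mul_left n 2) (ZMod n)

theorem red_n (n : ℕ) : red n (n : ZMod (2 * n)) = 0 := by
  simp [red]

theorem two_n_zero (n : ℕ) : ((n : ZMod (2 * n)) + n) = 0 := by
  have : ((2 * n : ℕ) : ZMod (2 * n)) = 0 := ZMod.natCast_self _
  rw [← this]; push_cast; ring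

/-- the covering map from the dicyclic group to the dihedral group -/
noncomputable def cover (n : ℕ) : QuaternionGroup n →* DihedralGroup n where
  toFun := fun x => match x with
    | QuaternionGroup.a i => DihedralGroup.r (red n i)
    | QuaternionGroup.xa i => DihedralGroup.sr (red n i)
  map_one' := by
    rw [QuaternionGroup.one_def]
    show DihedralGroup.r (red n 0) = 1
    rw [map_zero, DihedralGroup.r_zero]
  map_mul' := by
    rintro (i | i) (j | j)
    · simp
    · simp
    · simp
    · simp [red_n]

theorem inv_a' (n : ℕ) (i : ZMod (2 * n)) : (QuaternionGroup.a i)⁻¹ = QuaternionGroup.a (-i) := by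
  apply inv_eq_of_mul_eq_one_right
  simp

theorem inv_xa' (n : ℕ) (i : ZMod (2 * n)) :
    (QuaternionGroup.xa i)⁻¹ = QuaternionGroup.xa ((n : ZMod (2 * n)) + i) := by
  apply inv_eq_of_mul_eq_one_right
  rw [QuaternionGroup.xa_mul_xa, QuaternionGroup.one_def]
  congr 1
  have := two_n_zero n
  linear_combination this

theorem a_two_mem (n : ℕ) : (QuaternionGroup.a 2 : QuaternionGroup n) ∈ commutator (QuaternionGroup n) := by
  have h : (QuaternionGroup.a 2 : QuaternionGroup n) = ⁅(QuaternionGroup.a 1 : QuaternionGroup n), (QuaternionGroup.xa 0 : QuaternionGroup n)⁆ := by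
    rw [commutatorElement_def, inv_a', inv_xa']
    simp only [QuaternionGroup.a_mul_xa, QuaternionGroup.xa_mul_a, QuaternionGroup.xa_mul_xa]
    congr 1
    have := two_n_zero n
    linear_combination (-1 : ZMod (2 * n)) * this
  rw [h, commutator_def]
  exact Subgroup.commutator_mem_commutator (Subgroup.mem_top _) (Subgroup.mem_top _)

theorem a_even_mem (n : ℕ) (k : ℕ) :
    (QuaternionGroup.a ((2 * k : ℕ) : ZMod (2 * n)) : QuaternionGroup n) ∈ commutator (QuaternionGroup n) := by
  induction k with
  | zero => simp
  | succ k ih =>
    have : (QuaternionGroup.a ((2 * (k + 1) : ℕ) : ZMod (2 * n)) : QuaternionGroup n)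
        = QuaternionGroup.a ((2 * k : ℕ) : ZMod (2 * n)) * QuaternionGroup.a 2 := by
      rw [QuaternionGroup.a_mul_a]
      congr 1
      push_cast; ring
    rw [this]
    exact Subgroup.mul_mem _ ih (a_two_mem n)

theorem red_eq_zero (n : ℕ) [NeZero n] (i : ZMod (2 * n)) (h : red n i = 0) :
    i = 0 ∨ i = (n : ZMod (2 * n)) := by
  have hn : 0 < n := Nat.pos_of_ne_zero (NeZero.ne n)
  have : NeZero (2 * n) := ⟨by omega⟩
  have hval : i.val < 2 * n := ZMod.val_lt i
  have hcast : red n i = ((i.val : ℕ) : ZMod n) := by
    unfold red
    rw [ZMod.castHom_apply, ZMod.cast_eq_val]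
  rw [hcast, ZMod.natCast_eq_zero_iff] at h
  obtain ⟨c, hc⟩ := h
  have hi : i = ((i.val : ℕ) : ZMod (2 * n)) := (ZMod.natCast_zmod_val i).symm
  have hc2 : c < 2 := by
    by_contra hge
    push Not at hge
    have : n * 2 ≤ n * c := Nat.mul_le_mul_left n hge
    omega
  interval_cases c
  · left
    rw [hi, hc]; simp
  · right
    rw [hi, hc]; simp

/-- For even `n ≥ 2` the dicyclic group of order `4 n` is a stem extension of the dihedral group of order `2 n` with kernel of order `2`: there is a surjective homomorphism `QuaternionGroup n →* DihedralGroup n` whose kernel is central, lies in the commutator subgroup and has two elements. Together with the order of the multiplier this exhibits the dicyclic group as a Schur covering group of the dihedral group. -/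
theorem result (n : ℕ) [NeZero n] (hn : Even n) : ∃ σ : QuaternionGroup n →* DihedralGroup n, Cfsg.IsStemExtension σ ∧ Nat.card σ.ker = 2 := by
  have hnpos : 0 < n := Nat.pos_of_ne_zero (NeZero.ne n)
  have : NeZero (2 * n) := ⟨by omega⟩
  -- description of the kernel
  have hker : ∀ x : QuaternionGroup n, x ∈ (cover n).ker ↔ x = 1 ∨ x = QuaternionGroup.a (n : ZMod (2 * n)) := by
    intro x
    rw [MonoidHom.mem_ker]
    rcases x with i | i
    · show DihedralGroup.r (red n i) = 1 ↔ _
      rw [DihedralGroup.one_def, QuaternionGroup.one_def]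
      constructor
      · intro h
        have h0 : red n i = 0 := by
          injection h
        rcases red_eq_zero n i h0 with h1 | h1
        · left; rw [h1]
        · right; rw [h1]
      · rintro (h | h)
        · injection h with h; rw [h, map_zero]
        · injection h with h; rw [h, red_n]
    · show DihedralGroup.sr (red n i) = 1 ↔ _
      rw [DihedralGroup.one_def, QuaternionGroup.one_def]
      constructor
      · intro h; cases h
      · rintro (h | h) <;> cases h
  refine ⟨cover n, ⟨?_, ?_, ?_⟩, ?_⟩
  · -- surjective
    have hs : Function.Surjective (red n) := ZMod.castHom_surjective _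
    rintro (j | j)
    · obtain ⟨i, rfl⟩ := hs j
      exact ⟨QuaternionGroup.a i, rfl⟩
    · obtain ⟨i, rfl⟩ := hs j
      exact ⟨QuaternionGroup.xa i, rfl⟩
  · -- central
    intro x hx
    rcases (hker x).mp hx with rfl | rfl
    · exact Subgroup.one_mem _
    · rw [Subgroup.mem_center_iff]
      rintro (j | j)
      · simp [add_comm]
      · simp only [QuaternionGroup.xa_mul_a, QuaternionGroup.a_mul_xa]
        congr 1
        have := two_n_zero n
        linear_combination this
  · -- in the commutator subgroup
    intro x hx
    rcases (hker x).mp hx with rfl | rfl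
    · exact Subgroup.one_mem _
    · obtain ⟨k, hk⟩ := hn
      have : ((n : ℕ) : ZMod (2 * n)) = ((2 * k : ℕ) : ZMod (2 * n)) := by
        congr 1; omega
      rw [this]
      exact a_even_mem n k
  · -- the kernel has two elements
    rw [Nat.card_eq_two_iff]
    have hmem : QuaternionGroup.a (n : ZMod (2 * n)) ∈ (cover n).ker := (hker _).mpr (Or.inr rfl)
    refine ⟨1, ⟨_, hmem⟩, ?_, ?_⟩
    · intro h
      have h1 : (1 : QuaternionGroup n) = QuaternionGroup.a (n : ZMod (2 * n)) := congrArg Subtype.val h
      rw [QuaternionGroup.one_def] at h1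
      injection h1 with h1
      have : ((n : ℕ) : ZMod (2 * n)) = 0 := h1.symm
      rw [ZMod.natCast_eq_zero_iff] at this
      have := Nat.le_of_dvd hnpos this
      omega
    · ext y
      simp only [Set.mem_insert_iff, Set.mem_singleton_iff, Set.mem_univ, iff_true]
      rcases (hker y.1).mp y.2 with h | h
      · left; exact Subtype.ext h
      · right; exact Subtype.ext h

end Cfsg.Agent.S3966
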