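import Cfsg.Statements.S3968
import Cfsg.Agent.Lib.Helper4.CharIntegral
import Cfsg.Agent.Lib.Helper4.FaithfulIrr
import Cfsg.Agent.Lib.Helper4.LinConst
import Cfsg.Agent.Lib.Helper7.CliffordCorr
import Cfsg.Agent.S4798

set_option autoImplicit false
open Cfsg

namespace Cfsg.Agent.S3968

open Cfsg.Agent.Lib.Helper26 Cfsg.Agent.Lib.Helper4 Cfsg.Agent.Lib.Helper7
open scoped ComplexConjugate


/-- Let `p` be a prime and `G` a finite group with a faithful irreducible complex character of degree `p` (so `G` is an irreducible linear group in `p` variables). If `p ^ 2` divides the order of `G`, then the centre of `G` is nontrivial. -/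
theorem result {G : Type*} [Group G] [Finite G] (p : ℕ) (hp : p.Prime) (χ : Cfsg.IrrCharacter G) (hdeg : χ.1 1 = p) (hfaith : ∀ g : G, χ.1 g = χ.1 1 → g = 1) (hdiv : p ^ 2 ∣ Nat.card G) : Subgroup.center G ≠ ⊥ := by
  classical
  have : Fintype G := Fintype.ofFinite G
  have : Fact p.Prime := ⟨hp⟩
  intro hZ
  obtain ⟨n, ρ, hirr, hχ⟩ := χ.2
  have hn : Module.finrank ℂ (Fin n → ℂ) = p := by
    have h1 : (χ : G → ℂ) 1 = (Module.finrank ℂ (Fin n → ℂ) : ℂ) := by
      rw [← hχ, Representation.char_one]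
    rw [hdeg] at h1
    exact_mod_cast h1.symm
  let P : Sylow p G := default
  have hPcard : Nat.card (P : Subgroup G) = p ^ (Nat.card G).factorization p :=
    P.card_eq_multiplicity
  have ha : 2 ≤ (Nat.card G).factorization p :=
    (hp.pow_dvd_iff_le_factorization (Nat.card_pos (α := G)).ne').mp hdiv
  have : Fintype (P : Subgroup G) := Fintype.ofFinite _
  have : Fintype (Cfsg.IrrCharacter (P : Subgroup G)) := Fintype.ofFinite _
  -- faithfulness of ρ
  have hker : ∀ w : G, ρ w = 1 → w = 1 := by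
    intro w hw
    apply hfaith
    rw [← hχ]
    show LinearMap.trace ℂ _ (ρ w) = LinearMap.trace ℂ _ (ρ 1)
    rw [hw, map_one ρ]
  -- Step 1: nonidentity central elements of P are zeros of χ
  have hstep1 : ∀ z : G, z ∈ (P : Subgroup G) → (∀ y ∈ (P : Subgroup G), y * z = z * y) → z ≠ 1 →
      (χ : G → ℂ) z = 0 := by
    intro z _ hzc hz1
    have hle : (P : Subgroup G) ≤ Subgroup.centralizer ({z} : Set G) := by
      intro y hy
      rw [Subgroup.mem_centralizer_iff]
      intro w hw
      rw [Set.mem_singleton_iff] at hw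
      subst hw
      exact (hzc y hy).symm
    have hcop : Nat.Coprime (Module.finrank ℂ (Fin n → ℂ))
        (Subgroup.centralizer ({z} : Set G)).index := by
      rw [hn]
      have h1 : (Subgroup.centralizer ({z} : Set G)).index ∣ (P : Subgroup G).index :=
        Subgroup.index_dvd_of_le hle
      have h2 : ¬ p ∣ (P : Subgroup G).index := P.not_dvd_index
      exact (Nat.Prime.coprime_iff_not_dvd hp).mpr (fun h => h2 (h.trans h1))
    rcases character_eq_zero_or_norm_eq ρ hirr z hcop with h | h
    · rw [← hχ]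
      exact h
    · exfalso
      obtain ⟨ω, hω⟩ := (norm_character_eq_finrank_iff ρ z).mp h
      have hzc' : z ∈ Subgroup.center G := by
        rw [Subgroup.mem_center_iff]
        intro y
        have h1 : ρ (y * z) = ρ (z * y) := by
          rw [map_mul, map_mul, hω]
          ext v
          simp
        have h2 : ρ ((y * z) * (z * y)⁻¹) = 1 := by
          rw [map_mul, h1, ← map_mul, mul_inv_cancel, map_one]
        exact mul_inv_eq_one.mp (hker _ h2)
      rw [hZ, Subgroup.mem_bot] at hzc'
      exact hz1 hzc'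
  -- Step 2: a nonidentity central element of P
  have hPG : IsPGroup p (P : Subgroup G) := P.isPGroup'
  have hPnt : Nontrivial (P : Subgroup G) := by
    rw [← Finite.one_lt_card_iff_nontrivial, hPcard]
    exact Nat.one_lt_pow (by omega) hp.one_lt
  have hZnt := hPG.center_nontrivial
  obtain ⟨z₀, hz₀⟩ := exists_ne (1 : Subgroup.center (P : Subgroup G))
  have hz₀1 : ((z₀ : (P : Subgroup G)) : G) ≠ 1 := by
    intro h
    apply hz₀
    apply Subtype.ext
    apply Subtype.ext
    exact h
  have hz₀c : ∀ y ∈ (P : Subgroup G), y * ((z₀ : (P : Subgroup G)) : G) =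
      ((z₀ : (P : Subgroup G)) : G) * y := by
    intro y hy
    have := (Subgroup.mem_center_iff.mp z₀.2) ⟨y, hy⟩
    exact congrArg Subtype.val this
  have hχz₀ : (χ : G → ℂ) ((z₀ : (P : Subgroup G)) : G) = 0 :=
    hstep1 _ (z₀ : (P : Subgroup G)).2 hz₀c hz₀1
  -- Step 3: the restriction to P
  have hχP : Cfsg.IsCharacter (P : Subgroup G) (fun x : (P : Subgroup G) => (χ : G → ℂ) x) :=
    isCharacter_restrict (P : Subgroup G) (isCharacter_of_isIrrCharacter χ.2)
  have hpC : (p : ℂ) ≠ 0 := by exact_mod_cast hp.ne_zero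
  by_cases hcase : ∃ ψ : Cfsg.IrrCharacter (P : Subgroup G),
      Cfsg.classInner (fun x : (P : Subgroup G) => (χ : G → ℂ) x) (ψ : ↥(P : Subgroup G) → ℂ) ≠ 0 ∧
        (ψ : ↥(P : Subgroup G) → ℂ) 1 ≠ 1
  · -- a nonlinear constituent: the restriction is irreducible
    obtain ⟨ψ, hψ, hψ1⟩ := hcase
    obtain ⟨n', e, hn', he, hle, heq⟩ := Cfsg.Agent.S4798.constituent_degree_le _ hχP ψ hψ
    have hn'p : n' = p := by
      have h1 : (χ : G → ℂ) ((1 : (P : Subgroup G)) : G) = (n' : ℂ) := hn'
      rw [Subgroup.coe_one, hdeg] at h1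
      exact_mod_cast h1.symm
    obtain ⟨hd1, hd2, hd3⟩ := Cfsg.Agent.S4798.charDegree_irr ψ
    have hed : e = Cfsg.charDegree (ψ : ↥(P : Subgroup G) → ℂ) := by
      rw [he] at hd1
      exact_mod_cast hd1
    rw [hPcard, ← hed] at hd2
    obtain ⟨j, _, hj⟩ := (Nat.dvd_prime_pow hp).mp hd2
    have hep : e = p := by
      rcases Nat.eq_zero_or_pos j with hj0 | hj0
      · exfalso
        apply hψ1
        rw [he, hj, hj0, pow_zero, Nat.cast_one]
      · apply le_antisymm (hn'p ▸ hle)
        rw [hj]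
        calc p = p ^ 1 := (pow_one p).symm
          _ ≤ p ^ j := Nat.pow_le_pow_right hp.pos hj0
    have hχψ := heq (hep.trans hn'p.symm)
    obtain ⟨m, σ, hσirr, hσ⟩ := ψ.2
    obtain ⟨c, hc⟩ := exists_scalar_of_mem_center σ hσirr (z₀ : (P : Subgroup G)) z₀.2
    have hnt := nontrivial_of_irreducible σ hσirr
    have hc0 : c ≠ 0 := by
      intro h0
      have h1 : σ ((z₀ : (P : Subgroup G)) * (z₀ : (P : Subgroup G))⁻¹) = 1 := by
        rw [mul_inv_cancel, map_one]
      rw [map_mul, hc, h0, zero_smul, zero_mul] at h1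
      obtain ⟨v, hv⟩ := exists_ne (0 : Fin m → ℂ)
      apply hv
      have := congrArg (fun T : Module.End ℂ (Fin m → ℂ) => T v) h1
      simpa using this.symm
    have hm : ((Module.finrank ℂ (Fin m → ℂ) : ℕ) : ℂ) = (p : ℂ) := by
      have h1 : (ψ : ↥(P : Subgroup G) → ℂ) 1 = (Module.finrank ℂ (Fin m → ℂ) : ℂ) := by
        rw [← hσ, Representation.char_one]
      rw [← h1, he, hep]
    have hval : (ψ : ↥(P : Subgroup G) → ℂ) (z₀ : (P : Subgroup G)) = c * (p : ℂ) := by
      rw [← hσ]
      unfold Representation.character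
      rw [hc, map_smul, LinearMap.trace_id, smul_eq_mul, hm]
    have h2 : (χ : G → ℂ) ((z₀ : (P : Subgroup G)) : G) = c * (p : ℂ) := by
      rw [← hval, ← hχψ]
    rw [hχz₀] at h2
    exact (mul_ne_zero hc0 hpC) h2.symm
  · -- all constituents linear: P is abelian
    push Not at hcase
    obtain ⟨cf, hcf, hexp⟩ := Cfsg.Agent.S4798.char_decomp _ hχP
    have hlin : ∀ μ : Cfsg.IrrCharacter (P : Subgroup G), cf μ ≠ 0 →
        (μ : ↥(P : Subgroup G) → ℂ) 1 = 1 := by
      intro μ hμ
      apply hcase μ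
      rw [hcf μ]
      exact_mod_cast hμ
    have hcomm : ∀ x y : (P : Subgroup G), x * y = y * x := by
      intro x y
      have h1 : (χ : G → ℂ) ((x * y * x⁻¹ * y⁻¹ : (P : Subgroup G)) : G) =
          (χ : G → ℂ) ((1 : (P : Subgroup G)) : G) := by
        have e1 := hexp (x * y * x⁻¹ * y⁻¹)
        have e2 := hexp 1
        rw [e1, e2]
        refine Finset.sum_congr rfl fun μ _ => ?_
        by_cases hμ : cf μ = 0
        · rw [hμ, Nat.cast_zero, zero_mul, zero_mul]
        · rw [irrChar_commutator_of_degree_one μ.2 (hlin μ hμ) x y, hlin μ hμ]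
      rw [Subgroup.coe_one] at h1
      have h2 := hfaith _ h1
      have h3 : x * y * x⁻¹ * y⁻¹ = 1 := Subtype.ext h2
      calc x * y = (x * y * x⁻¹ * y⁻¹) * (y * x) := by group
        _ = y * x := by rw [h3, one_mul]
    -- χ vanishes on P off the identity
    have hvan : ∀ x : (P : Subgroup G), x ≠ 1 → (χ : G → ℂ) x = 0 := by
      intro x hx
      apply hstep1 _ x.2
      · intro y hy
        exact congrArg Subtype.val (hcomm ⟨y, hy⟩ x)
      · intro h
        exact hx (Subtype.ext h)
    obtain ⟨k, hk⟩ := classInner_isCharacter_nat hχP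
      (isCharacter_of_isIrrCharacter (isIrrCharacter_one (G := (P : Subgroup G))))
    have hk2 : Cfsg.classInner (fun x : (P : Subgroup G) => (χ : G → ℂ) x)
        (fun _ : (P : Subgroup G) => (1 : ℂ)) = (Nat.card (P : Subgroup G) : ℂ)⁻¹ * (p : ℂ) := by
      unfold Cfsg.classInner
      congr 1
      rw [Finset.sum_eq_single (1 : (P : Subgroup G))]
      · show (χ : G → ℂ) ((1 : (P : Subgroup G)) : G) * conj (1 : ℂ) = (p : ℂ)
        rw [Subgroup.coe_one, hdeg]
        simp
      · intro x _ hx
        show (χ : G → ℂ) (x : G) * conj (1 : ℂ) = 0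
        rw [hvan x hx, zero_mul]
      · intro h
        exact absurd (Finset.mem_univ _) h
    rw [hk2, hPcard] at hk
    have hcard0 : ((p ^ (Nat.card G).factorization p : ℕ) : ℂ) ≠ 0 := by
      exact_mod_cast (pow_pos hp.pos _).ne'
    have hk3 : (p : ℂ) = ((p ^ (Nat.card G).factorization p * k : ℕ) : ℂ) := by
      push_cast
      rw [← hk]
      push_cast
      field_simp
    have hk4 : p = p ^ (Nat.card G).factorization p * k := by exact_mod_cast hk3
    have hdvd : p ^ 2 ∣ p := by
      have h5 : p ^ 2 ∣ p ^ (Nat.card G).factorization p * k :=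
        Dvd.dvd.mul_right (pow_dvd_pow p ha) k
      rwa [← hk4] at h5
    have := Nat.le_of_dvd hp.pos hdvd
    have h2 : p < p ^ 2 := by
      calc p = p ^ 1 := (pow_one p).symm
        _ < p ^ 2 := Nat.pow_lt_pow_right hp.one_lt (by norm_num)
    omega

end Cfsg.Agent.S3968
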