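import Cfsg.Statements.S3969
import Cfsg.Agent.Lib.Helper11.Burnside
import Mathlib

set_option autoImplicit false
open Cfsg

namespace Cfsg.Agent.S3969

theorem index_le_pow {Q : Type*} [CommGroup Q] [Finite Q] (p : ℕ) (hp : 0 < p) (S : Finset Q)
    (hS : Subgroup.closure (S : Set Q) = ⊤) (N : Subgroup Q) (hN : ∀ x : Q, x ^ p ∈ N) :
    N.index ≤ p ^ S.card := by
  classical
  let F : (S → Fin p) → Q ⧸ N := fun g => ∏ i : S, (QuotientGroup.mk' N (i.1 : Q)) ^ (g i : ℕ)
  have hsurj : Function.Surjective F := by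
    intro y
    obtain ⟨x, rfl⟩ := QuotientGroup.mk'_surjective N y
    have hx : x ∈ Subgroup.closure (S : Set Q) := by rw [hS]; trivial
    have hx' : x ∈ Submonoid.closure (S : Set Q) := by
      rw [← Subgroup.closure_toSubmonoid_of_finite]; exact hx
    rw [Submonoid.mem_closure_finset'] at hx'
    obtain ⟨a, ha⟩ := hx'
    refine ⟨fun i => ⟨a i % p, Nat.mod_lt _ hp⟩, ?_⟩
    show ∏ i : S, (QuotientGroup.mk' N (i.1 : Q)) ^ (a i % p) = QuotientGroup.mk' N x
    rw [ha, map_prod]
    apply Finset.prod_congr rfl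
    intro i _
    rw [map_pow]
    have h1 : (QuotientGroup.mk' N (i.1 : Q)) ^ p = 1 := by
      rw [← map_pow]
      exact (QuotientGroup.eq_one_iff _).mpr (hN _)
    exact (pow_eq_pow_mod (a i) h1).symm
  have h1 := Nat.card_le_card_of_surjective F hsurj
  have h2 : Nat.card (S → Fin p) = p ^ S.card := by
    rw [Nat.card_fun, Nat.card_fin, Nat.card_eq_fintype_card, Fintype.card_coe]
  rw [h2] at h1
  exact h1

theorem core {Q : Type*} [Group Q] [Finite Q] (hcomm : ∀ a b : Q, a * b = b * a) (p q : ℕ)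
    [Fact p.Prime] [Fact q.Prime] (hQ : IsPGroup p Q)
    (β : MulAut Q) (hβ : orderOf β = q) (hqp : q ≠ p) :
    ∃ f, 1 ≤ f ∧ f ≤ Group.rank Q ∧ q ∣ p ^ f - 1 := by
  classical
  letI : CommGroup Q := { ‹Group Q› with mul_comm := hcomm }
  have hp : p.Prime := Fact.out
  have hq : q.Prime := Fact.out
  have hβq : β ^ q = 1 := by rw [← hβ]; exact pow_orderOf_eq_one β
  have hβ1 : β ≠ 1 := by
    rintro rfl
    rw [orderOf_one] at hβ
    exact hq.one_lt.ne hβ
  let V : Subgroup Q := (powMonoidHom p : Q →* Q).ker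
  have hVmem : ∀ x : Q, x ∈ V ↔ x ^ p = 1 := fun x => by
    show x ∈ (powMonoidHom p : Q →* Q).ker ↔ _
    rw [MonoidHom.mem_ker, powMonoidHom_apply]
  have hfixpow : ∀ z : Q, β z = z → ∀ j : ℕ, (β ^ j) z = z := by
    intro z hz j
    induction j with
    | zero => rfl
    | succ j ih => rw [pow_succ, MulAut.mul_apply, hz, ih]
  -- (3) β moves some element of V
  have hmove : ∃ v ∈ V, β v ≠ v := by
    by_contra hcon
    push Not at hcon
    obtain ⟨x, hx⟩ : ∃ x, β x ≠ x := by
      by_contra h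
      push Not at h
      exact hβ1 (MulEquiv.ext h)
    let δ : Q →* Q := β.toMonoidHom / MonoidHom.id Q
    have hδ : ∀ x, δ x = β x / x := fun x => rfl
    have hDne : δ.range ≠ ⊥ := by
      intro h
      have h1 : δ x ∈ δ.range := ⟨x, rfl⟩
      rw [h, Subgroup.mem_bot, hδ, div_eq_one] at h1
      exact hx h1
    have hpD : p ∣ Nat.card δ.range := by
      rcases (hQ.to_subgroup δ.range).card_eq_or_dvd with h1 | h1
      · exact absurd (Subgroup.card_eq_one.mp h1) hDne
      · exact h1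
    obtain ⟨z, hz⟩ := exists_prime_orderOf_dvd_card' p hpD
    obtain ⟨x', hx'⟩ := z.2
    have hzord : orderOf (z : Q) = p := by rw [Subgroup.orderOf_coe]; exact hz
    have hzV : (z : Q) ∈ V := by
      rw [hVmem, ← hzord]; exact pow_orderOf_eq_one _
    have hzfix : β (z : Q) = z := hcon _ hzV
    -- norm computation
    have hν1 : ∏ j ∈ Finset.range q, (β ^ j) (z : Q) = (z : Q) ^ q := by
      rw [Finset.prod_congr rfl (fun j _ => hfixpow _ hzfix j), Finset.prod_const, Finset.card_range]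
    have hν2 : ∏ j ∈ Finset.range q, (β ^ j) (z : Q) = 1 := by
      rw [← hx', hδ]
      have h1 : ∀ j ∈ Finset.range q, (β ^ j) (β x' / x') = (β ^ (j + 1)) x' / (β ^ j) x' := by
        intro j _
        rw [map_div, pow_succ, MulAut.mul_apply]
      rw [Finset.prod_congr rfl h1, Finset.prod_range_div (fun j => (β ^ j) x') q, hβq]
      simp
    rw [hν1] at hν2
    have h1 : orderOf (z : Q) ∣ q := orderOf_dvd_of_pow_eq_one hν2
    rw [hzord] at h1
    exact hqp ((Nat.prime_dvd_prime_iff_eq hp hq).mp h1).symm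
  obtain ⟨v, hvV, hv⟩ := hmove
  -- (4) counting
  haveI : Fintype V := Fintype.ofFinite _
  have hβV : ∀ w : V, β (w : Q) ∈ V := by
    intro w
    rw [hVmem, ← map_pow, (hVmem _).mp w.2, map_one]
  let f : Function.End V := fun w => ⟨β (w : Q), hβV w⟩
  have hfpow : ∀ j : ℕ, ∀ w : V, ((f ^ j) w : Q) = (β ^ j) (w : Q) := by
    intro j
    induction j with
    | zero => intro w; rfl
    | succ j ih =>
      intro w
      rw [pow_succ', pow_succ']
      show β ((f ^ j) w : Q) = _
      rw [ih w]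
      rfl
  have hf : f ^ q ^ 1 = 1 := by
    funext w
    apply Subtype.ext
    rw [pow_one, hfpow, hβq]
    rfl
  have hmod := Equiv.Perm.card_fixedPoints_modEq (p := q) (n := 1) hf
  -- fixed points form a subgroup of V
  let CV : Subgroup V := MonoidHom.eqLocus (β.toMonoidHom.comp V.subtype) V.subtype
  have hCVmem : ∀ w : V, w ∈ CV ↔ β (w : Q) = w := fun w => Iff.rfl
  have hfixeq : Fintype.card (Function.fixedPoints f) = Nat.card CV := by
    rw [← Nat.card_eq_fintype_card]
    apply Nat.card_congr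
    refine Equiv.subtypeEquivRight ?_
    intro w
    rw [hCVmem]
    show f w = w ↔ _
    constructor
    · intro h; exact congrArg Subtype.val h
    · intro h; exact Subtype.ext h
  have hVp : IsPGroup p V := hQ.to_subgroup V
  obtain ⟨e, he⟩ := IsPGroup.iff_card.mp hVp
  obtain ⟨c, hc⟩ := IsPGroup.iff_card.mp (hVp.to_subgroup CV)
  have hCVne : CV ≠ ⊤ := by
    intro h
    have h1 : (⟨v, hvV⟩ : V) ∈ CV := by rw [h]; trivial
    exact hv ((hCVmem _).mp h1)
  have hce : c < e := by
    have h1 : p ^ c ∣ p ^ e := by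
      rw [← hc, ← he]; exact Subgroup.card_subgroup_dvd_card CV
    have h2 : c ≤ e := (Nat.pow_dvd_pow_iff_le_right hp.one_lt).mp h1
    rcases Nat.lt_or_ge c e with h3 | h3
    · exact h3
    · exfalso
      have h4 : c = e := le_antisymm h2 h3
      apply hCVne
      rw [← Subgroup.card_eq_iff_eq_top, hc, he, h4]
  rw [hfixeq, ← Nat.card_eq_fintype_card, he, hc] at hmod
  -- q ∣ p^e - p^c
  have hle : p ^ c ≤ p ^ e := Nat.pow_le_pow_right hp.pos hce.le
  have hdvd : q ∣ p ^ e - p ^ c := (Nat.modEq_iff_dvd' hle).mp hmod.symm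
  have hfac : p ^ e - p ^ c = p ^ c * (p ^ (e - c) - 1) := by
    rw [Nat.mul_sub, mul_one, ← pow_add]
    congr 2
    omega
  rw [hfac] at hdvd
  have hq1 : q ∣ p ^ (e - c) - 1 := by
    rcases (Nat.Prime.dvd_mul hq).mp hdvd with h | h
    · exfalso
      have := hq.dvd_of_dvd_pow h
      exact hqp ((Nat.prime_dvd_prime_iff_eq hq hp).mp this)
    · exact h
  -- (5) rank bound
  obtain ⟨S, hScard, hSgen⟩ := Group.rank_spec Q
  have hidx := index_le_pow p hp.pos S hSgen (powMonoidHom p : Q →* Q).range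
    (fun x => ⟨x, rfl⟩)
  have hVidx : Nat.card V = (powMonoidHom p : Q →* Q).range.index := by
    have h1 := (powMonoidHom p : Q →* Q).ker.card_mul_index
    have h2 := (powMonoidHom p : Q →* Q).range.card_mul_index
    rw [Subgroup.index_ker] at h1
    have h3 : Nat.card V * Nat.card (powMonoidHom p : Q →* Q).range =
        Nat.card (powMonoidHom p : Q →* Q).range * (powMonoidHom p : Q →* Q).range.index := by
      rw [h2]; exact h1
    rw [mul_comm] at h3
    exact Nat.eq_of_mul_eq_mul_left Nat.card_pos h3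
  rw [← hVidx, he, hScard] at hidx
  have hed : e ≤ Group.rank Q := (Nat.pow_le_pow_iff_right hp.one_lt).mp hidx
  exact ⟨e - c, by omega, by omega, hq1⟩

theorem result {G : Type*} [Group G] [Finite G] (p : ℕ) [Fact p.Prime] (P : Sylow p G) (hab : IsMulCommutative (P : Subgroup G)) (hcop : Nat.Coprime (Nat.card G) (∏ i ∈ Finset.Icc 1 (Group.rank (P : Subgroup G)), (p ^ i - 1))) : Cfsg.HasNormalPComplement p G := by
  classical
  apply Cfsg.Agent.Lib.Helper11.hasNormalPComplement_of_card_range_eq_one P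
  by_contra hne
  obtain ⟨q, hq, hqdvd⟩ := Nat.exists_prime_and_dvd hne
  haveI : Fact q.Prime := ⟨hq⟩
  obtain ⟨β, hβ⟩ := exists_prime_orderOf_dvd_card' q hqdvd
  have hβ' : orderOf (β : MulAut (P : Subgroup G)) = q := by
    rw [Subgroup.orderOf_coe]; exact hβ
  have hqidx : q ∣ (P : Subgroup G).index :=
    hqdvd.trans (Cfsg.Agent.Lib.Helper11.card_range_normalizerMonoidHom_dvd_index P hab)
  have hqG : q ∣ Nat.card G := hqidx.trans (Subgroup.index_dvd_card _)
  have hqp : q ≠ p := by
    rintro rfl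
    exact P.not_dvd_index hqidx
  obtain ⟨f, hf1, hf2, hf3⟩ := core (Q := (P : Subgroup G))
    (fun a b => hab.is_comm.comm a b) p q P.2 (β : MulAut (P : Subgroup G)) hβ' hqp
  have h1 : q ∣ ∏ i ∈ Finset.Icc 1 (Group.rank (P : Subgroup G)), (p ^ i - 1) :=
    hf3.trans (Finset.dvd_prod_of_mem (fun i => p ^ i - 1) (Finset.mem_Icc.mpr ⟨hf1, hf2⟩))
  have h2 := Nat.eq_one_of_dvd_coprimes hcop hqG h1
  exact hq.one_lt.ne' h2

end Cfsg.Agent.S3969
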