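import Cfsg.Statements.S3970
import Cfsg.Agent.S3969
import Mathlib

set_option autoImplicit false
open Cfsg

namespace Cfsg.Agent.S3970

universe u

/-- the coprimality needed for the smallest prime -/
theorem coprime_aux {G : Type u} [Group G] [Finite G] (h12 : ¬ 12 ∣ Nat.card G)
    (hne : Nat.card G ≠ 1) (p : ℕ) (hpdef : p = (Nat.card G).minFac) (P : Sylow p G)
    (hrank : Group.rank (P : Subgroup G) ≤ 2) :
    Nat.Coprime (Nat.card G)
      (∏ i ∈ Finset.Icc 1 (Group.rank (P : Subgroup G)), (p ^ i - 1)) := by
  classical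
  have hp : p.Prime := hpdef ▸ Nat.minFac_prime hne
  haveI : Fact p.Prime := ⟨hp⟩
  apply Nat.coprime_of_dvd
  intro r hr hrG hrprod
  have hpr : p ≤ r := hpdef ▸ Nat.minFac_le_of_dvd hr.two_le hrG
  obtain ⟨i, hi, hri⟩ := (Prime.dvd_finset_prod_iff (Nat.prime_iff.mp hr) _).mp hrprod
  rw [Finset.mem_Icc] at hi
  have hp2 : 2 ≤ p := hp.two_le
  have hcase1 : ¬ r ∣ p - 1 := by
    intro h
    have := Nat.le_of_dvd (by omega) h
    omega
  have hi12 : i = 1 ∨ i = 2 := by omega
  rcases hi12 with rfl | rfl
  · rw [pow_one] at hri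
    exact hcase1 hri
  · have hfac : p ^ 2 - 1 = (p - 1) * (p + 1) := by
      obtain ⟨m, hm⟩ : ∃ m, p = m + 1 := ⟨p - 1, by omega⟩
      rw [hm, Nat.add_sub_cancel]
      have : (m + 1) ^ 2 = m * (m + 1 + 1) + 1 := by ring
      rw [this, Nat.add_sub_cancel]
    rw [hfac] at hri
    rcases (Nat.Prime.dvd_mul hr).mp hri with h | h
    · exact hcase1 h
    · -- r ∣ p + 1, r ≥ p: r = p + 1, p = 2, r = 3
      obtain ⟨t, ht⟩ := h
      have ht1 : t = 1 := by
        rcases Nat.lt_or_ge t 2 with h2 | h2
        · interval_cases t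
          · omega
          · rfl
        · exfalso
          have : 2 * r ≤ r * t := by rw [mul_comm]; exact Nat.mul_le_mul_left r h2
          omega
      rw [ht1, mul_one] at ht
      have hp2' : p = 2 := by
        by_contra hne2
        have hodd : Odd p := hp.odd_of_ne_two hne2
        have h2r : 2 ∣ r := by
          rw [← ht]
          obtain ⟨m, hm⟩ := hodd
          exact ⟨m + 1, by omega⟩
        have := (Nat.prime_dvd_prime_iff_eq Nat.prime_two hr).mp h2r
        omega
      have hr3 : r = 3 := by omega
      -- 4 ∤ |G|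
      have h4 : ¬ 4 ∣ Nat.card G := by
        intro h4
        apply h12
        have : (12 : ℕ) = 3 * 4 := by norm_num
        rw [this]
        exact Nat.Coprime.mul_dvd_of_dvd_of_dvd (by norm_num) (hr3 ▸ hrG) h4
      -- |P| ≤ 2, so P is cyclic and of rank ≤ 1
      have hPcard : Nat.card (P : Subgroup G) ∣ 2 := by
        rw [P.card_eq_multiplicity]
        have hv : (Nat.card G).factorization p ≤ 1 := by
          by_contra hcon
          push Not at hcon
          apply h4
          have h1 : p ^ 2 ∣ Nat.card G :=
            (pow_dvd_pow p hcon).trans (Nat.ordProj_dvd _ _)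
          rw [hp2'] at h1
          exact h1
        rw [hp2']
        rw [hp2'] at hv
        calc 2 ^ (Nat.card G).factorization 2 ∣ 2 ^ 1 := pow_dvd_pow 2 hv
          _ = 2 := by norm_num
      have hcyc : IsCyclic (P : Subgroup G) := by
        rcases (Nat.dvd_prime Nat.prime_two).mp hPcard with h1 | h2
        · haveI : Subsingleton (P : Subgroup G) := (Nat.card_eq_one_iff_unique.mp h1).1
          infer_instance
        · haveI : Fact (Nat.Prime 2) := ⟨Nat.prime_two⟩
          exact isCyclic_of_prime_card h2
      obtain ⟨g, hg⟩ := hcyc.exists_generator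
      have hrk : Group.rank (P : Subgroup G) ≤ 1 := by
        have h1 : Subgroup.closure ((({g} : Finset (P : Subgroup G))) : Set (P : Subgroup G)) = ⊤ := by
          rw [eq_top_iff]
          intro y _
          rw [Finset.coe_singleton, Subgroup.mem_closure_singleton]
          exact Subgroup.mem_zpowers_iff.mp (hg y)
        have := Group.rank_le h1
        simpa using this
      have hi2 := hi.2
      omega

theorem aux (N : ℕ) : ∀ (G : Type u) [Group G] [Finite G], Nat.card G = N →
    (∀ p : ℕ, p.Prime → p ∣ Nat.card G → (∃ q : ℕ, q.Prime ∧ q ∣ Nat.card G ∧ p < q) →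
      ∀ P : Sylow p G, IsMulCommutative (P : Subgroup G) ∧ Group.rank (P : Subgroup G) ≤ 2) →
    ¬ 12 ∣ Nat.card G → Group.IsSolvable G := by
  induction N using Nat.strong_induction_on with
  | _ N ih =>
    intro G _ _ hN h h12
    classical
    by_cases hne : Nat.card G = 1
    · haveI : Subsingleton G := (Nat.card_eq_one_iff_unique.mp hne).1
      infer_instance
    set p := (Nat.card G).minFac with hpdef
    have hp : p.Prime := Nat.minFac_prime hne
    haveI : Fact p.Prime := ⟨hp⟩
    have hpdvd : p ∣ Nat.card G := Nat.minFac_dvd _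
    by_cases hq : ∃ q : ℕ, q.Prime ∧ q ∣ Nat.card G ∧ p < q
    · obtain ⟨P⟩ : Nonempty (Sylow p G) := inferInstance
      obtain ⟨hab, hrank⟩ := h p hp hpdvd hq P
      have hcop := coprime_aux h12 hne p hpdef P hrank
      obtain ⟨P', K, hKn, hKc⟩ := Cfsg.Agent.S3969.result p P hab hcop
      haveI := hKn
      have hcardmul := hKc.card_mul_card
      obtain ⟨k, hk⟩ := IsPGroup.iff_card.mp P'.2
      have hP'ne : Nat.card (P' : Subgroup G) ≠ 1 := by
        intro h1
        have := P'.dvd_card_of_dvd_card hpdvd
        rw [h1] at this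
        exact hp.one_lt.ne' (Nat.dvd_one.mp this)
      have hKpos : 0 < Nat.card K := Nat.card_pos
      have hKlt : Nat.card K < N := by
        rw [← hN, ← hcardmul]
        have : 2 ≤ Nat.card (P' : Subgroup G) := by
          have : 0 < Nat.card (P' : Subgroup G) := Nat.card_pos
          omega
        nlinarith
      have hKidx : Nat.card K = (P' : Subgroup G).index := hKc.index_eq_card.symm
      have hpK : ¬ p ∣ Nat.card K := by rw [hKidx]; exact P'.not_dvd_index
      -- hypotheses for K
      have hK : ∀ p' : ℕ, p'.Prime → p' ∣ Nat.card K →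
          (∃ q : ℕ, q.Prime ∧ q ∣ Nat.card K ∧ p' < q) →
          ∀ Q : Sylow p' K, IsMulCommutative (Q : Subgroup K) ∧ Group.rank (Q : Subgroup K) ≤ 2 := by
        intro p' hp' hp'K hq' Q
        haveI : Fact p'.Prime := ⟨hp'⟩
        have hKG : Nat.card K ∣ Nat.card G := Subgroup.card_subgroup_dvd_card K
        obtain ⟨q', hq'1, hq'2, hq'3⟩ := hq'
        have hpp' : p' ≠ p := by
          rintro rfl
          exact hpK hp'K
        -- the image of Q in G
        have hQ'p : IsPGroup p' ((Q : Subgroup K).map K.subtype) := Q.2.map _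
        obtain ⟨R, hR⟩ := hQ'p.exists_le_sylow
        obtain ⟨hRab, hRrank⟩ := h p' hp' (hp'K.trans hKG) ⟨q', hq'1, hq'2.trans hKG, hq'3⟩ R
        -- |R| divides |K|
        obtain ⟨e, he⟩ := IsPGroup.iff_card.mp R.2
        have hRK : Nat.card (R : Subgroup G) ∣ Nat.card K := by
          have h1 : Nat.card (R : Subgroup G) ∣ Nat.card K * Nat.card (P' : Subgroup G) := by
            rw [hcardmul]; exact Subgroup.card_subgroup_dvd_card _
          have h2 : Nat.Coprime (Nat.card (R : Subgroup G)) (Nat.card (P' : Subgroup G)) := by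
            rw [he, hk]
            exact Nat.Coprime.pow _ _ ((Nat.coprime_primes hp' hp).mpr hpp')
          exact h2.dvd_of_dvd_mul_right h1
        have hQcard : Nat.card (Q : Subgroup K) = p' ^ (Nat.card K).factorization p' :=
          Q.card_eq_multiplicity
        have hle : Nat.card (R : Subgroup G) ≤ Nat.card ((Q : Subgroup K).map K.subtype) := by
          rw [Subgroup.card_map_of_injective K.subtype_injective, hQcard, he]
          rw [he] at hRK
          exact Nat.pow_le_pow_right hp'.pos
            ((hp'.pow_dvd_iff_le_factorization hKpos.ne').mp hRK)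
        have hEq : (Q : Subgroup K).map K.subtype = (R : Subgroup G) :=
          Subgroup.eq_of_le_of_card_ge hR hle
        let ε : (Q : Subgroup K) ≃* ((Q : Subgroup K).map K.subtype) :=
          Subgroup.equivMapOfInjective (Q : Subgroup K) K.subtype K.subtype_injective
        constructor
        · refine ⟨⟨fun a b => ?_⟩⟩
          have h1 : (⟨((a : K) : G), hR ⟨a, a.2, rfl⟩⟩ : (R : Subgroup G)) *
              ⟨((b : K) : G), hR ⟨b, b.2, rfl⟩⟩ = ⟨((b : K) : G), hR ⟨b, b.2, rfl⟩⟩ *
              ⟨((a : K) : G), hR ⟨a, a.2, rfl⟩⟩ := hRab.is_comm.comm _ _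
          have h2 : ((a : K) : G) * ((b : K) : G) = ((b : K) : G) * ((a : K) : G) :=
            congrArg Subtype.val h1
          apply Subtype.ext
          apply Subtype.ext
          exact h2
        · rw [Group.rank_congr ε, Subgroup.rank_congr hEq]
          exact hRrank
      have h12K : ¬ 12 ∣ Nat.card K := fun h' =>
        h12 (h'.trans (Subgroup.card_subgroup_dvd_card K))
      haveI hKsol : Group.IsSolvable K := ih (Nat.card K) hKlt K rfl hK h12K
      -- the quotient is a p-group
      haveI hQsol : Group.IsSolvable (G ⧸ K) := by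
        have h1 : Nat.card (G ⧸ K) = p ^ k := by
          have h2 : Nat.card (G ⧸ K) = K.index := rfl
          rw [h2, ← hk]
          have h3 := K.card_mul_index
          rw [← hcardmul] at h3
          exact Nat.eq_of_mul_eq_mul_left hKpos h3
        have h2 : IsPGroup p (G ⧸ K) := IsPGroup.of_card h1
        haveI := h2.isNilpotent
        infer_instance
      exact Group.isSolvable_of_ker_le_range K.subtype (QuotientGroup.mk' K) (by
        rw [QuotientGroup.ker_mk', Subgroup.range_subtype])
    · -- G is a p-group
      push Not at hq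
      have h1 : Nat.card G = p ^ (Nat.card G).primeFactorsList.length := by
        apply Nat.eq_prime_pow_of_unique_prime_dvd Nat.card_pos.ne'
        intro d hd hdG
        have h2 : p ≤ d := Nat.minFac_le_of_dvd hd.two_le hdG
        have h3 : ¬ p < d := fun hlt => by
          have := hq d hd hdG
          omega
        omega
      have h2 : IsPGroup p G := IsPGroup.of_card h1
      haveI := h2.isNilpotent
      infer_instance

theorem result {G : Type*} [Group G] [Finite G] (h : ∀ p : ℕ, p.Prime → p ∣ Nat.card G → (∃ q : ℕ, q.Prime ∧ q ∣ Nat.card G ∧ p < q) → ∀ P : Sylow p G, IsMulCommutative (P : Subgroup G) ∧ Group.rank (P : Subgroup G) ≤ 2) (h12 : ¬ 12 ∣ Nat.card G) : Group.IsSolvable G :=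
  aux (Nat.card G) G rfl h h12

end Cfsg.Agent.S3970
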