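import Cfsg.Statements.S3971
import Cfsg.Agent.S3969
import Cfsg.Agent.Lib.Helper11.FrobeniusLocal
import Cfsg.Agent.Lib.Helper14.FrattiniQuot
import Cfsg.Agent.Lib.Helper9.SimpleTools
import Mathlib

set_option autoImplicit false
open Cfsg

namespace Cfsg.Agent.S3971

open Cfsg.Agent.Lib.Helper14 Cfsg.Agent.Lib.Helper11

/-- A `2`-group generated by at most two elements has no automorphism of order prime to `6`. -/
theorem aut_trivial {Q : Type*} [Group Q] [Finite Q] (hQ : IsPGroup 2 Q) (S : Finset Q)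
    (hS2 : S.card ≤ 2) (hS : Subgroup.closure (S : Set Q) = ⊤) (α : MulAut Q)
    (hα : Nat.Coprime (orderOf α) 6) : α = 1 := by
  classical
  haveI : Fact (Nat.Prime 2) := ⟨Nat.prime_two⟩
  -- the Frattini quotient is small
  have hidx : (frattini Q).index ≤ 4 := by
    have hmc : IsMulCommutative (Q ⧸ frattini Q) :=
      Subgroup.Normal.quotient_commutative_iff_commutator_le.mpr
        (commutator_le_frattini_of_isPGroup' hQ)
    letI : CommGroup (Q ⧸ frattini Q) :=
      { (inferInstance : Group (Q ⧸ frattini Q)) with mul_comm := fun a b => hmc.is_comm.comm a b }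
    let S' : Finset (Q ⧸ frattini Q) := S.image (QuotientGroup.mk' (frattini Q))
    have hS' : Subgroup.closure (S' : Set (Q ⧸ frattini Q)) = ⊤ := by
      rw [Finset.coe_image, ← MonoidHom.map_closure, hS, ← MonoidHom.range_eq_map,
        MonoidHom.range_eq_top]
      exact QuotientGroup.mk'_surjective _
    have h1 := Cfsg.Agent.S3969.index_le_pow 2 (by norm_num) S' hS' ⊥ (fun y => by
      obtain ⟨x, rfl⟩ := QuotientGroup.mk'_surjective (frattini Q) y
      rw [Subgroup.mem_bot, ← map_pow]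
      exact (QuotientGroup.eq_one_iff _).mpr (pow_mem_frattini_of_isPGroup' hQ x))
    rw [Subgroup.index_bot] at h1
    have h2 : S'.card ≤ 2 := (Finset.card_image_le).trans hS2
    have h3 : 2 ^ S'.card ≤ 2 ^ 2 := Nat.pow_le_pow_right (by norm_num) h2
    have h4 : (frattini Q).index = Nat.card (Q ⧸ frattini Q) := rfl
    rw [h4]
    omega
  obtain ⟨s, hs⟩ := IsPGroup.iff_card.mp hQ
  obtain ⟨r, hrs, hr⟩ := (Nat.dvd_prime_pow Nat.prime_two).mp (hs ▸ (frattini Q).index_dvd_card)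
  have hr2 : r ≤ 2 := by
    rw [hr] at hidx
    have : 2 ^ r ≤ 2 ^ 2 := by omega
    exact (Nat.pow_le_pow_iff_right (by norm_num)).mp this
  obtain ⟨k, hk⟩ := IsPGroup.iff_card.mp (hQ.to_subgroup (frattini Q))
  have h1 := card_subgroup_mulAut_dvd_gen (Subgroup.zpowers α) r
  rw [card_generating_tuples_pgroup hQ hr, Nat.card_zpowers, hk] at h1
  have hα2 : Nat.Coprime (orderOf α) 2 := Nat.Coprime.coprime_dvd_right (by norm_num) hα
  have hcop : Nat.Coprime (orderOf α) ((∏ i : Fin r, (2 ^ r - 2 ^ i.val)) * (2 ^ k) ^ r) := by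
    apply Nat.Coprime.mul_right
    · have h6 : (∏ i : Fin r, (2 ^ r - 2 ^ i.val)) ∣ 6 := by
        interval_cases r
        · simp
        · simp
        · simp [Fin.prod_univ_succ]
      exact Nat.Coprime.coprime_dvd_right h6 hα
    · exact (hα2.pow_right k).pow_right r
  have h2 : orderOf α = 1 := Nat.Coprime.eq_one_of_dvd hcop h1
  exact orderOf_eq_one_iff.mp h2

/-- subgroups of a `2`-group with a cyclic subgroup of index two are 2-generated -/
theorem gen_two {G : Type*} [Group G] [Finite G] (a : ℕ) (P Q : Subgroup G) (x : G)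
    (hPcard : Nat.card P = 2 ^ a) (hx : orderOf x = 2 ^ (a - 1)) (hxP : Subgroup.zpowers x ≤ P)
    (hQP : Q ≤ P) :
    ∃ S : Finset Q, S.card ≤ 2 ∧ Subgroup.closure (S : Set Q) = ⊤ := by
  classical
  have hcyc : IsCyclic (Subgroup.zpowers x ⊓ Q : Subgroup G) :=
    Subgroup.isCyclic_of_le (inf_le_left : Subgroup.zpowers x ⊓ Q ≤ Subgroup.zpowers x)
  obtain ⟨y₀, hy₀⟩ := (Subgroup.isCyclic_iff_exists_zpowers_eq_top _).mp hcyc
  have hy₀mem : y₀ ∈ Subgroup.zpowers x ⊓ Q := by
    rw [← hy₀]; exact Subgroup.mem_zpowers y₀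
  let y : Q := ⟨y₀, hy₀mem.2⟩
  have hpowy : ∀ q : Q, (q : G) ∈ Subgroup.zpowers x → ∃ k : ℤ, q = y ^ k := by
    intro q hq
    have h1 : (q : G) ∈ Subgroup.zpowers y₀ := by
      rw [hy₀]; exact ⟨hq, q.2⟩
    obtain ⟨k, hk⟩ := Subgroup.mem_zpowers_iff.mp h1
    refine ⟨k, Subtype.ext ?_⟩
    rw [Subgroup.coe_zpow]
    exact hk.symm
  have key : ∀ q t : G, q ∈ P → t ∈ P → q ∉ Subgroup.zpowers x → t ∉ Subgroup.zpowers x →
      q * t⁻¹ ∈ Subgroup.zpowers x := by
    intro q t hq ht hqC htC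
    rcases Nat.eq_zero_or_pos a with ha | ha
    · exfalso
      rw [ha, pow_zero] at hPcard
      have hPbot : P = ⊥ := Subgroup.card_eq_one.mp hPcard
      rw [hPbot, Subgroup.mem_bot] at hq
      exact hqC (hq ▸ Subgroup.one_mem _)
    · have h1 := Subgroup.relIndex_mul_relIndex (⊥ : Subgroup G) (Subgroup.zpowers x) P bot_le hxP
      rw [Subgroup.relIndex_bot_left, Subgroup.relIndex_bot_left, Nat.card_zpowers, hx, hPcard] at h1
      have h2 : (Subgroup.zpowers x).relIndex P = 2 := by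
        have h3 : 2 ^ a = 2 ^ (a - 1) * 2 := by rw [← pow_succ]; congr 1; omega
        rw [h3] at h1
        exact Nat.eq_of_mul_eq_mul_left (pow_pos (by norm_num) _) h1
      have h4 : ((Subgroup.zpowers x).subgroupOf P).index = 2 := h2
      have h5 := Subgroup.mul_mem_iff_of_index_two h4 (a := (⟨q, hq⟩ : P)) (b := (⟨t, ht⟩⁻¹ : P))
      rw [Subgroup.mem_subgroupOf, Subgroup.mem_subgroupOf, Subgroup.mem_subgroupOf] at h5
      have h6 : ((⟨q, hq⟩ * ⟨t, ht⟩⁻¹ : P) : G) = q * t⁻¹ := rfl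
      rw [h6] at h5
      rw [h5]
      constructor
      · intro h; exact absurd h hqC
      · intro h
        exfalso
        have h7 : ((⟨t, ht⟩⁻¹ : P) : G) = t⁻¹ := rfl
        rw [h7] at h
        exact htC ((Subgroup.inv_mem_iff _).mp h)
  by_cases hall : ∀ q : Q, (q : G) ∈ Subgroup.zpowers x
  · refine ⟨{y}, by simp, ?_⟩
    rw [eq_top_iff]
    intro q _
    obtain ⟨k, hk⟩ := hpowy q (hall q)
    rw [hk]
    exact Subgroup.zpow_mem _ (Subgroup.subset_closure (by simp)) k
  · push Not at hall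
    obtain ⟨t, ht⟩ := hall
    refine ⟨{y, t}, Finset.card_le_two, ?_⟩
    rw [eq_top_iff]
    intro q _
    have hymem : y ∈ Subgroup.closure ((({y, t} : Finset Q)) : Set Q) :=
      Subgroup.subset_closure (by simp)
    have htmem : t ∈ Subgroup.closure ((({y, t} : Finset Q)) : Set Q) :=
      Subgroup.subset_closure (by simp)
    by_cases hq : (q : G) ∈ Subgroup.zpowers x
    · obtain ⟨k, hk⟩ := hpowy q hq
      rw [hk]
      exact Subgroup.zpow_mem _ hymem k
    · have h1 := key (q : G) (t : G) (hQP q.2) (hQP t.2) hq ht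
      obtain ⟨k, hk⟩ := hpowy (q * t⁻¹) h1
      have h2 : q = y ^ k * t := by rw [← hk]; group
      rw [h2]
      exact Subgroup.mul_mem _ (Subgroup.zpow_mem _ hymem k) htmem

theorem result {G : Type*} [Group G] [Finite G] (a n : ℕ) (hG : Nat.card G = 2 ^ a * n) (hn : Odd n) (h3 : ¬ 3 ∣ n) (hx : ∃ x : G, orderOf x = 2 ^ (a - 1)) : ∃ N : Subgroup G, N.Normal ∧ Nat.card N = n := by
  classical
  haveI : Fact (Nat.Prime 2) := ⟨Nat.prime_two⟩
  obtain ⟨x, hx⟩ := hx
  have hxP : IsPGroup 2 (Subgroup.zpowers x) :=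
    IsPGroup.of_card (n := a - 1) (by rw [Nat.card_zpowers, hx])
  obtain ⟨P, hP⟩ := hxP.exists_le_sylow
  have hn2 : ¬ 2 ∣ n := hn.not_two_dvd_nat
  have hPcard : Nat.card (P : Subgroup G) = 2 ^ a :=
    Cfsg.Agent.Lib.Helper9.card_sylow_subgroup_of_card_eq (p := 2) (m := n) (k := a)
      (by rw [hG, mul_comm]) hn2 P
  have hloc : LocalPNilpotent 2 G := by
    apply localPNilpotent_of_sylow P
    intro Q hQP g hg hgo
    obtain ⟨S, hS2, hS⟩ := gen_two a (P : Subgroup G) Q x hPcard hx hP hQP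
    have hQ2 : IsPGroup 2 Q := P.2.to_le hQP
    have hgn : orderOf g ∣ n := by
      have h1 : orderOf g ∣ 2 ^ a * n := hG ▸ orderOf_dvd_natCard g
      exact (Nat.Coprime.pow_right a hgo).dvd_of_dvd_mul_left h1
    have hg3 : Nat.Coprime (orderOf g) 3 := by
      rw [Nat.coprime_comm, Nat.Prime.coprime_iff_not_dvd Nat.prime_three]
      intro h
      exact h3 (h.trans hgn)
    have hg6 : Nat.Coprime (orderOf g) 6 := by
      have : (6 : ℕ) = 2 * 3 := by norm_num
      rw [this]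
      exact Nat.Coprime.mul_right hgo hg3
    have hα : Nat.Coprime (orderOf (Q.normalizerMonoidHom ⟨g, hg⟩)) 6 := by
      have h1 : orderOf (Q.normalizerMonoidHom ⟨g, hg⟩) ∣ orderOf (⟨g, hg⟩ : Subgroup.normalizer (Q : Set G)) :=
        orderOf_map_dvd _ _
      rw [Subgroup.orderOf_mk] at h1
      exact Nat.Coprime.coprime_dvd_left h1 hg6
    have h1 := aut_trivial hQ2 S hS2 hS _ hα
    have h2 : (⟨g, hg⟩ : Subgroup.normalizer (Q : Set G)) ∈ Q.normalizerMonoidHom.ker :=
      MonoidHom.mem_ker.mpr h1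
    rw [Subgroup.normalizerMonoidHom_ker] at h2
    exact Subgroup.mem_subgroupOf.mp h2
  obtain ⟨K, hKn, hKc⟩ := exists_normal_complement_of_local hloc P
  refine ⟨K, hKn, ?_⟩
  have h1 := hKc.card_mul_card
  rw [hPcard, hG, mul_comm] at h1
  exact Nat.eq_of_mul_eq_mul_left (pow_pos (by norm_num) a) h1

end Cfsg.Agent.S3971
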