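import Cfsg.Statements.S3972
import Cfsg.Agent.Lib.Helper20.SchurTransport

set_option autoImplicit false
open Cfsg

namespace Cfsg.Agent.S3972

/-- Let `p` be a prime, `m ≥ 2`, and `G` a transitive but not doubly transitive permutation group on `p ^ m` points containing a permutation of order `p ^ m` (necessarily a full cycle). Then `G` is imprimitive, and the normal closure in `G` of the `p ^ (m - 1)`-th power of that permutation is an intransitive normal subgroup. -/
theorem result {Ω : Type*} [Fintype Ω] [DecidableEq Ω] (p m : ℕ) (hp : p.Prime) (hm : 2 ≤ m) (hΩ : Fintype.card Ω = p ^ m) (G : Subgroup (Equiv.Perm Ω)) (htr : MulAction.IsPretransitive G Ω) (h2 : ¬ MulAction.IsMultiplyPretransitive G Ω 2) (g : G) (hg : orderOf g = p ^ m) : ¬ MulAction.IsPreprimitive G Ω ∧ ¬ MulAction.IsPretransitive (Subgroup.normalClosure ({g ^ (p ^ (m - 1))} : Set G)) Ω := by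
  have hm1 : 1 ≤ m := by omega
  have hcard : Nat.card Ω = p ^ m := by
    rw [Nat.card_eq_fintype_card]
    exact hΩ
  haveI : NeZero (p ^ m) := ⟨pow_ne_zero _ hp.ne_zero⟩
  obtain ⟨ω₀, hper⟩ := Cfsg.Agent.Lib.Helper20.SR.exists_period_eq (Ω := Ω) hp hm1 hg
  have hpne : p ≠ p ^ m := by
    intro e
    have h1 : p ^ 1 = p ^ m := by rw [pow_one]; exact e
    have h2 := Nat.pow_right_injective hp.two_le h1
    omega
  have hnp : ¬ MulAction.IsPreprimitive G Ω := fun hprim =>
    h2 (Cfsg.Agent.Lib.Helper20.SR.two_trans_of_cycle hper hcard hp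
      (dvd_pow_self p (by omega)) hpne hprim)
  exact ⟨hnp, Cfsg.Agent.Lib.Helper20.SR.not_pretransitive_normalClosure hp hg hper hcard htr hnp⟩

end Cfsg.Agent.S3972
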