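import Cfsg.Statements.S3973
import Mathlib
import Cfsg.Agent.Lib.Helper2.SchurMultC

set_option autoImplicit false
open Cfsg

namespace Cfsg.Agent.S3973

open Module in
/-- module-theoretic core of the `r - n` bound -/
theorem mod_core {ι : Type} [Fintype ι] {W : Type*} [AddCommGroup W]
    [Module.Free ℤ W] [Module.Finite ℤ W]
    (u : (ι → ℤ) →ₗ[ℤ] W) (e : ℤ) (he : e ≠ 0)
    (hfi : ∀ x : W, e • x ∈ LinearMap.range u) (m r : ℕ) (hm : finrank ℤ W = m)
    (hr' : Fintype.card ι = r) :
    m ≤ r ∧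
    ∃ s : Fin (r - m) → (ι → ℤ),
      (∀ i, u (s i) = 0) ∧ ∀ x, u x = 0 → x ∈ Submodule.span ℤ (Set.range s) := by
  classical
  subst hm
  subst hr'
  have h1 : finrank ℤ (LinearMap.range u) ≤ finrank ℤ W := Submodule.finrank_le _
  have h2 : finrank ℤ W ≤ finrank ℤ (LinearMap.range u) := by
    let g : W →ₗ[ℤ] LinearMap.range u :=
      LinearMap.codRestrict (LinearMap.range u) (e • (LinearMap.id : W →ₗ[ℤ] W)) (fun x => hfi x)
    have hg : Function.Injective g := by
      intro x y hxy
      have := congrArg Subtype.val hxy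
      have h3 : e • x = e • y := this
      exact smul_right_injective W he h3
    exact LinearMap.finrank_le_finrank_of_injective hg
  have hr : finrank ℤ (LinearMap.range u) = finrank ℤ W := le_antisymm h1 h2
  have h3 := (LinearMap.ker u).finrank_quotient_add_finrank
  have h4 := u.quotKerEquivRange.finrank_eq
  have h5 : finrank ℤ (ι → ℤ) = Fintype.card ι := Module.finrank_fintype_fun_eq_card ℤ
  rw [h4, hr, h5] at h3
  have hk : finrank ℤ (LinearMap.ker u) = Fintype.card ι - finrank ℤ W := by omega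
  refine ⟨by omega, ?_⟩
  let b : Basis (Fin (finrank ℤ (LinearMap.ker u))) ℤ (LinearMap.ker u) := Module.finBasis ℤ _
  refine ⟨fun i => ((b (Fin.cast hk.symm i) : LinearMap.ker u) : ι → ℤ), ?_, ?_⟩
  · intro i
    exact (b (Fin.cast hk.symm i)).2
  · intro x hx
    have hx' : x ∈ LinearMap.ker u := hx
    have hsp : (⟨x, hx'⟩ : LinearMap.ker u) ∈ Submodule.span ℤ (Set.range b) := by
      rw [b.span_eq]; trivial
    have := Submodule.apply_mem_span_image_of_mem_span (LinearMap.ker u).subtype hsp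
    refine Submodule.span_mono ?_ this
    rintro _ ⟨_, ⟨i, rfl⟩, rfl⟩
    exact ⟨Fin.cast hk i, by simp⟩


open Cfsg.Agent.Lib.Helper2.SchurMult in
open scoped IsMulCommutative in
theorem rank_multM_le (n : ℕ) (rels : Finset (FreeGroup (Fin n)))
    [Finite (PresentedGroup (rels : Set (FreeGroup (Fin n))))]
    (hψ : Function.Surjective (PresentedGroup.mk (rels : Set (FreeGroup (Fin n)))))
    (hker : (PresentedGroup.mk (rels : Set (FreeGroup (Fin n)))).ker
      = Subgroup.normalClosure (rels : Set (FreeGroup (Fin n))))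
    [Finite (multM (PresentedGroup.mk (rels : Set (FreeGroup (Fin n)))))] :
    Group.rank (multM (PresentedGroup.mk (rels : Set (FreeGroup (Fin n))))) ≤ rels.card - n := by
  classical
  set ψ := PresentedGroup.mk (rels : Set (FreeGroup (Fin n))) with hψdef
  have hrel : ∀ ρ : rels, (QuotientGroup.mk (ρ : FreeGroup (Fin n)) : Fbar ψ) ∈ Rbar ψ := by
    intro ρ
    rw [mem_Rbar, phibar_mk]
    have : (ρ : FreeGroup (Fin n)) ∈ ψ.ker := by
      rw [hker]; exact Subgroup.subset_normalClosure ρ.2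
    exact this
  let z : rels → Subgroup.center (Fbar ψ) := fun ρ =>
    ⟨QuotientGroup.mk (ρ : FreeGroup (Fin n)), Rbar_le_center ψ (hrel ρ)⟩
  let vlin : (rels → ℤ) →ₗ[ℤ] Additive (Subgroup.center (Fbar ψ)) :=
    Fintype.linearCombination ℤ (fun ρ => Additive.ofMul (z ρ))
  let alin : Additive (Subgroup.center (Fbar ψ)) →ₗ[ℤ] FreeAbelianGroup (Fin n) :=
    (MonoidHom.toAdditive ((abar ψ).comp (Subgroup.center (Fbar ψ)).subtype)).toIntLinearMap
  let V : (rels → ℤ) → Fbar ψ := fun x =>
    ((Additive.toMul (vlin x) : Subgroup.center (Fbar ψ)) : Fbar ψ)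
  have hV : ∀ x, V x = ((Additive.toMul (vlin x) : Subgroup.center (Fbar ψ)) : Fbar ψ) :=
    fun x => rfl
  have hV0 : V 0 = 1 := by rw [hV, map_zero]; rfl
  have hVadd : ∀ x y, V (x + y) = V x * V y := by
    intro x y; rw [hV, map_add]; rfl
  have hVneg : ∀ x, V (-x) = (V x)⁻¹ := by
    intro x; rw [hV, map_neg]; rfl
  have hVzsmul : ∀ (c : ℤ) x, V (c • x) = (V x) ^ c := by
    intro c x; rw [hV, map_zsmul]; rfl
  have hVsingle : ∀ ρ, V (Pi.single ρ 1) = QuotientGroup.mk (ρ : FreeGroup (Fin n)) := by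
    intro ρ
    rw [hV]
    show ((Additive.toMul (Fintype.linearCombination ℤ (fun ρ => Additive.ofMul (z ρ))
      (Pi.single ρ 1)) : Subgroup.center (Fbar ψ)) : Fbar ψ) = _
    rw [Fintype.linearCombination_apply_single, one_smul]; rfl
  have hu : ∀ x, (alin ∘ₗ vlin) x = Additive.ofMul (abar ψ (V x)) := fun x => rfl
  -- V lands in Rbar
  have hVR : ∀ x, V x ∈ Rbar ψ := by
    intro x
    have hprod : (Additive.toMul (vlin x) : Subgroup.center (Fbar ψ)) = ∏ ρ, z ρ ^ x ρ := by
      show Additive.toMul (Fintype.linearCombination ℤ (fun ρ => Additive.ofMul (z ρ)) x) = _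
      rw [Fintype.linearCombination_apply, toMul_sum]
      rfl
    rw [hV, hprod]
    have : (∏ ρ, z ρ ^ x ρ) ∈ (Rbar ψ).comap (Subgroup.center (Fbar ψ)).subtype :=
      Subgroup.prod_mem _ (fun ρ _ => Subgroup.zpow_mem _ (hrel ρ) _)
    exact this
  -- surjectivity onto Rbar
  have hsurjR : ∀ y ∈ Rbar ψ, ∃ x, V x = y := by
    have hle : Rbar ψ ≤ Subgroup.closure (Set.range
        (fun ρ : rels => (QuotientGroup.mk (ρ : FreeGroup (Fin n)) : Fbar ψ))) := by
      have hSw : Subgroup.closure (Set.range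
          (fun ρ : rels => (QuotientGroup.mk (ρ : FreeGroup (Fin n)) : Fbar ψ))) ≤ Rbar ψ := by
        rw [Subgroup.closure_le]
        rintro _ ⟨ρ, rfl⟩
        exact hrel ρ
      haveI : (Subgroup.closure (Set.range
          (fun ρ : rels => (QuotientGroup.mk (ρ : FreeGroup (Fin n)) : Fbar ψ)))).Normal :=
        normal_of_le_center _ (hSw.trans (Rbar_le_center ψ))
      have hnc : Subgroup.normalClosure (rels : Set (FreeGroup (Fin n))) ≤
          (Subgroup.closure (Set.range
            (fun ρ : rels => (QuotientGroup.mk (ρ : FreeGroup (Fin n)) : Fbar ψ)))).comap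
              (QuotientGroup.mk' (relC ψ)) := by
        apply Subgroup.normalClosure_le_normal
        intro ρ hρ
        exact Subgroup.subset_closure ⟨⟨ρ, hρ⟩, rfl⟩
      intro y hy
      obtain ⟨g, rfl⟩ := QuotientGroup.mk_surjective y
      have hg : g ∈ ψ.ker := hy
      rw [hker] at hg
      exact hnc hg
    intro y hy
    refine Subgroup.closure_induction (p := fun y _ => ∃ x, V x = y) ?_ ?_ ?_ ?_ (hle hy)
    · rintro _ ⟨ρ, rfl⟩
      exact ⟨Pi.single ρ 1, hVsingle ρ⟩
    · exact ⟨0, hV0⟩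
    · rintro a b _ _ ⟨x, rfl⟩ ⟨y, rfl⟩
      exact ⟨x + y, hVadd x y⟩
    · rintro a _ ⟨x, rfl⟩
      exact ⟨-x, hVneg x⟩
  -- the finite index condition
  have hfi : ∀ x : FreeAbelianGroup (Fin n),
      ((Nat.card (PresentedGroup (rels : Set (FreeGroup (Fin n)))) : ℕ) : ℤ) • x
        ∈ LinearMap.range (alin ∘ₗ vlin) := by
    intro x
    obtain ⟨f, hf⟩ := QuotientGroup.mk_surjective (Additive.toMul x : Abelianization (FreeGroup (Fin n)))
    have hfk : (QuotientGroup.mk (f ^ Nat.card (PresentedGroup (rels : Set (FreeGroup (Fin n)))))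
        : Fbar ψ) ∈ Rbar ψ := by
      rw [mem_Rbar, phibar_mk, map_pow]
      exact pow_card_eq_one'
    obtain ⟨x', hx'⟩ := hsurjR _ hfk
    refine ⟨x', ?_⟩
    rw [hu, hx', abar_mk, natCast_zsmul]
    have : Abelianization.of (f ^ Nat.card (PresentedGroup (rels : Set (FreeGroup (Fin n)))))
        = (Additive.toMul x : Abelianization (FreeGroup (Fin n)))
          ^ Nat.card (PresentedGroup (rels : Set (FreeGroup (Fin n)))) := by
      rw [map_pow]; congr 1
    rw [this, ofMul_pow]; rfl
  haveI : Module.Finite ℤ (FreeAbelianGroup (Fin n)) :=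
    Module.Finite.of_basis
      (⟨(FreeAbelianGroup.equivFinsupp (Fin n)).toIntLinearEquiv⟩ :
        Module.Basis (Fin n) ℤ (FreeAbelianGroup (Fin n)))
  have hrk : Module.finrank ℤ (FreeAbelianGroup (Fin n)) = n := by
    rw [Module.finrank_eq_card_basis
      (⟨(FreeAbelianGroup.equivFinsupp (Fin n)).toIntLinearEquiv⟩ :
        Module.Basis (Fin n) ℤ (FreeAbelianGroup (Fin n))), Fintype.card_fin]
  have he : ((Nat.card (PresentedGroup (rels : Set (FreeGroup (Fin n)))) : ℕ) : ℤ) ≠ 0 := by
    exact_mod_cast Nat.card_pos.ne'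
  obtain ⟨-, s, hs0, hsspan⟩ := mod_core (alin ∘ₗ vlin) _ he hfi n rels.card hrk
    (Fintype.card_coe rels)
  -- the generators
  have hmem : ∀ x, (alin ∘ₗ vlin) x = 0 → V x ∈ multM ψ := by
    intro x hx
    refine ⟨hVR x, ?_⟩
    have h1 : abar ψ (V x) = 1 := by
      have := hx
      rw [hu] at this
      exact this
    have h2 : V x ∈ (abar ψ).ker := h1
    rw [ker_abar] at h2
    exact h2
  let mi : Fin (rels.card - n) → multM ψ := fun i => ⟨V (s i), hmem _ (hs0 i)⟩
  have hclosure : Subgroup.closure (Set.range mi) = ⊤ := by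
    rw [eq_top_iff]
    rintro ⟨m, hm⟩ -
    obtain ⟨x, rfl⟩ := hsurjR m hm.1
    have hx0 : (alin ∘ₗ vlin) x = 0 := by
      rw [hu]
      have h2 : V x ∈ (abar ψ).ker := by rw [ker_abar]; exact hm.2
      have h1 : abar ψ (V x) = 1 := h2
      rw [h1]; rfl
    have hxs := hsspan x hx0
    have key : ∀ y ∈ Submodule.span ℤ (Set.range s), ∃ hy : V y ∈ multM ψ,
        (⟨V y, hy⟩ : multM ψ) ∈ Subgroup.closure (Set.range mi) := by
      intro y hy
      refine Submodule.span_induction (p := fun y _ => ∃ hy : V y ∈ multM ψ,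
        (⟨V y, hy⟩ : multM ψ) ∈ Subgroup.closure (Set.range mi)) ?_ ?_ ?_ ?_ hy
      · rintro _ ⟨i, rfl⟩
        exact ⟨hmem _ (hs0 i), Subgroup.subset_closure ⟨i, rfl⟩⟩
      · refine ⟨by rw [hV0]; exact Subgroup.one_mem _, ?_⟩
        have : (⟨V 0, by rw [hV0]; exact Subgroup.one_mem _⟩ : multM ψ) = 1 :=
          Subtype.ext hV0
        rw [this]; exact Subgroup.one_mem _
      · rintro a b _ _ ⟨ha, ha'⟩ ⟨hb, hb'⟩
        refine ⟨by rw [hVadd]; exact Subgroup.mul_mem _ ha hb, ?_⟩
        have : (⟨V (a + b), by rw [hVadd]; exact Subgroup.mul_mem _ ha hb⟩ : multM ψ)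
            = ⟨V a, ha⟩ * ⟨V b, hb⟩ := Subtype.ext (hVadd a b)
        rw [this]; exact Subgroup.mul_mem _ ha' hb'
      · rintro c a _ ⟨ha, ha'⟩
        refine ⟨by rw [hVzsmul]; exact Subgroup.zpow_mem _ ha c, ?_⟩
        have : (⟨V (c • a), by rw [hVzsmul]; exact Subgroup.zpow_mem _ ha c⟩ : multM ψ)
            = ⟨V a, ha⟩ ^ c := Subtype.ext (by rw [Subgroup.coe_zpow]; exact hVzsmul c a)
        rw [this]; exact Subgroup.zpow_mem _ ha' c
    obtain ⟨_, h⟩ := key x hxs
    exact h
  have hS : Subgroup.closure ((Finset.univ.image mi : Finset (multM ψ)) : Set (multM ψ)) = ⊤ := by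
    rw [Finset.coe_image, Finset.coe_univ, Set.image_univ]; exact hclosure
  calc Group.rank (multM ψ) ≤ (Finset.univ.image mi).card := Group.rank_le hS
    _ ≤ (Finset.univ : Finset (Fin (rels.card - n))).card := Finset.card_image_le
    _ = rels.card - n := by rw [Finset.card_univ, Fintype.card_fin]

/-- If a finite group is presented by `n` generators and a finite set of `r` relators, then its Schur multiplier can be generated by `r - n` elements. In particular a finite group with a presentation having as many relators as generators has trivial Schur multiplier. -/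
theorem result (n : ℕ) (rels : Finset (FreeGroup (Fin n))) [Finite (PresentedGroup (rels : Set (FreeGroup (Fin n))))] {A : Type*} [CommGroup A] [Finite A] (hA : Cfsg.HasSchurMultiplier (PresentedGroup (rels : Set (FreeGroup (Fin n)))) A) : Group.rank A ≤ rels.card - n := by
  classical
  have hψ : Function.Surjective (PresentedGroup.mk (rels : Set (FreeGroup (Fin n)))) :=
    PresentedGroup.mk_surjective _
  have hker : (PresentedGroup.mk (rels : Set (FreeGroup (Fin n)))).ker
      = Subgroup.normalClosure (rels : Set (FreeGroup (Fin n))) := QuotientGroup.ker_mk' _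
  obtain ⟨eA⟩ := Cfsg.Agent.Lib.Helper2.SchurMult.equiv_multM
    (PresentedGroup.mk (rels : Set (FreeGroup (Fin n)))) hψ hA
  haveI := Cfsg.Agent.Lib.Helper2.SchurMult.finite_multM
    (PresentedGroup.mk (rels : Set (FreeGroup (Fin n)))) hψ
  rw [Group.rank_congr eA]
  exact Cfsg.Agent.S3973.rank_multM_le n rels hψ hker

end Cfsg.Agent.S3973
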