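import Mathlib
import Cfsg.Statements.S3976
import Cfsg.Agent.Lib.Lead.UniqueOrderP
-- import your own Cfsg.Agent.* helpers here

set_option autoImplicit false
open Cfsg

namespace Cfsg.Agent.S3976

universe u

/-- A sum of numbers all `≡ 1 [MOD p]` is congruent to the number of terms. -/
theorem sum_modEq_card {α : Type*} [Fintype α] (p : ℕ) (f : α → ℕ) (hf : ∀ a, f a ≡ 1 [MOD p]) :
    ∑ a, f a ≡ Fintype.card α [MOD p] := by
  rw [← ZMod.natCast_eq_natCast_iff]
  push_cast
  have : ∀ a, ((f a : ℕ) : ZMod p) = 1 := fun a => by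
    have := (ZMod.natCast_eq_natCast_iff _ _ _).mpr (hf a)
    simpa using this
  simp [this]

/-- The number of subgroups of order `p` inside a nontrivial commutative `p`-subgroup `L`
is `≡ 1 [MOD p]`. -/
theorem card_order_p_modEq_one {G : Type*} [Group G] [Finite G] {p : ℕ} [hp : Fact p.Prime]
    (L : Subgroup G) (hL : IsPGroup p L) (hne : L ≠ ⊥)
    (hcomm : ∀ x ∈ L, ∀ y ∈ L, x * y = y * x) :
    Nat.card {C : Subgroup G // C ≤ L ∧ Nat.card C = p} ≡ 1 [MOD p] := by
  classical
  -- the subgroup of elements of order dividing p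
  let E : Subgroup G :=
    { carrier := {x | x ∈ L ∧ x ^ p = 1}
      mul_mem' := by
        rintro a b ⟨ha, ha'⟩ ⟨hb, hb'⟩
        refine ⟨L.mul_mem ha hb, ?_⟩
        rw [(show Commute a b from hcomm a ha b hb).mul_pow, ha', hb', one_mul]
      one_mem' := ⟨L.one_mem, one_pow _⟩
      inv_mem' := by
        rintro a ⟨ha, ha'⟩
        exact ⟨L.inv_mem ha, by rw [inv_pow, ha', inv_one]⟩ }
  have hE_mem : ∀ x, x ∈ E ↔ x ∈ L ∧ x ^ p = 1 := fun x => Iff.rfl
  have hEL : E ≤ L := fun x hx => hx.1
  have hEp : IsPGroup p E := hL.to_le hEL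
  -- E is nontrivial
  have hEne : E ≠ ⊥ := by
    have hLnt : Nontrivial L := (Subgroup.nontrivial_iff_ne_bot L).mpr hne
    have hdvd : p ∣ Nat.card L := by
      rcases hL.card_eq_or_dvd with h | h
      · exact absurd (Subgroup.card_eq_one.mp h) hne
      · exact h
    obtain ⟨x, hx⟩ := exists_prime_orderOf_dvd_card' p hdvd
    intro hbot
    have hxE : (x : G) ∈ E := by
      refine ⟨x.2, ?_⟩
      have := pow_orderOf_eq_one x
      rw [hx] at this
      have := congrArg (fun y : L => (y : G)) this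
      simpa using this
    rw [hbot, Subgroup.mem_bot] at hxE
    have : x = 1 := Subtype.ext hxE
    rw [this, orderOf_one] at hx
    exact hp.out.one_lt.ne hx
  obtain ⟨d, hd⟩ := hEp.exists_card_eq
  have hd0 : d ≠ 0 := by
    rintro rfl
    rw [pow_zero] at hd
    exact hEne (Subgroup.card_eq_one.mp hd)
  -- counting nonidentity elements of E
  have hT : Nat.card {x : G // x ∈ E ∧ x ≠ 1} = p ^ d - 1 := by
    have h1 : Nat.card {x : G // x ∈ E ∧ x ≠ 1} = ((E : Set G) \ {1}).ncard := by
      rw [← Nat.card_coe_set_eq]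
      rfl
    rw [h1, Set.ncard_diff_singleton_of_mem E.one_mem, ← hd, ← Nat.card_coe_set_eq]
    rfl
  -- the sigma equivalence
  let Y := {C : Subgroup G // C ≤ L ∧ Nat.card C = p}
  have hzp : ∀ (C : Y) (x : G), x ∈ C.1 → x ≠ 1 → Subgroup.zpowers x = C.1 := by
    intro C x hx hx1
    apply Subgroup.eq_of_le_of_card_ge
    · exact (Subgroup.zpowers_le).mpr hx
    · rw [C.2.2, Nat.card_zpowers]
      have h1 : orderOf x ∣ p := by
        have := Subgroup.orderOf_dvd_natCard C.1 hx
        rwa [C.2.2] at this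
      rcases (Nat.dvd_prime hp.out).mp h1 with h | h
      · exact absurd (orderOf_eq_one_iff.mp h) hx1
      · exact h.ge
  let e : {x : G // x ∈ E ∧ x ≠ 1} ≃ Σ C : Y, {x : G // x ∈ C.1 ∧ x ≠ 1} :=
    { toFun := fun x => ⟨⟨Subgroup.zpowers x.1, by
          refine ⟨(Subgroup.zpowers_le).mpr (hEL x.2.1), ?_⟩
          rw [Nat.card_zpowers]
          exact orderOf_eq_prime x.2.1.2 x.2.2⟩, ⟨x.1, Subgroup.mem_zpowers _, x.2.2⟩⟩
      invFun := fun q => ⟨q.2.1, by
          refine ⟨⟨q.1.2.1 q.2.2.1, ?_⟩, q.2.2.2⟩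
          have := Subgroup.orderOf_dvd_natCard q.1.1 q.2.2.1
          rw [q.1.2.2] at this
          exact orderOf_dvd_iff_pow_eq_one.mp this⟩
      left_inv := fun x => rfl
      right_inv := by
        rintro ⟨⟨C, hC⟩, ⟨x, hx, hx1⟩⟩
        have := hzp ⟨C, hC⟩ x hx hx1
        simp only at this
        subst this
        rfl }
  have hsum : Nat.card {x : G // x ∈ E ∧ x ≠ 1} = Nat.card Y * (p - 1) := by
    letI : Fintype Y := Fintype.ofFinite Y
    rw [Nat.card_congr e, Nat.card_sigma]
    have : ∀ C : Y, Nat.card {x : G // x ∈ C.1 ∧ x ≠ 1} = p - 1 := by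
      intro C
      have h1 : Nat.card {x : G // x ∈ C.1 ∧ x ≠ 1} = ((C.1 : Set G) \ {1}).ncard := by
        rw [← Nat.card_coe_set_eq]; rfl
      have h2 : ((C.1 : Subgroup G) : Set G).ncard = p := by
        rw [← Nat.card_coe_set_eq]; exact C.2.2
      rw [h1, Set.ncard_diff_singleton_of_mem C.1.one_mem, h2]
    simp only [this, Finset.sum_const, Finset.card_univ, smul_eq_mul, Nat.card_eq_fintype_card]
  -- conclude
  have hfin : Nat.card Y * (p - 1) + 1 = p ^ d := by
    rw [← hsum, hT]
    have := Nat.one_le_pow d p hp.out.pos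
    omega
  rw [← ZMod.natCast_eq_natCast_iff]
  have hc := congrArg (fun n : ℕ => (n : ZMod p)) hfin
  simp only [Nat.cast_add, Nat.cast_mul, Nat.cast_one, Nat.cast_pow, ZMod.natCast_self] at hc
  rw [Nat.cast_sub hp.out.one_le, ZMod.natCast_self, zero_pow hd0] at hc
  push_cast
  linear_combination -hc

/-- Cardinality of a preimage under the quotient map. -/
theorem card_comap_mk' {G : Type*} [Group G] [Finite G] (C : Subgroup G) [C.Normal]
    (M : Subgroup (G ⧸ C)) :
    Nat.card (M.comap (QuotientGroup.mk' C)) = Nat.card C * Nat.card M := by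
  have h1 := Subgroup.index_comap_of_surjective M (QuotientGroup.mk'_surjective C)
  have h2 := Subgroup.card_mul_index (M.comap (QuotientGroup.mk' C))
  have h3 := Subgroup.card_mul_index M
  have h4 := Subgroup.card_eq_card_quotient_mul_card_subgroup C
  have hpos : 0 < M.index := Nat.pos_of_ne_zero Subgroup.index_ne_zero_of_finite
  rw [h1] at h2
  have : Nat.card (M.comap (QuotientGroup.mk' C)) * M.index = (Nat.card C * Nat.card M) * M.index := by
    rw [h2, h4, ← h3]; ring
  exact Nat.eq_of_mul_eq_mul_right hpos this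

/-- Correspondence theorem, counting normal subgroups of given order above `C`. -/
theorem card_normal_over {G : Type u} [Group G] [Finite G] (C : Subgroup G) [C.Normal] (j : ℕ) :
    Nat.card {N : Subgroup G // N.Normal ∧ Nat.card N = Nat.card C * j ∧ C ≤ N} =
      Nat.card {M : Subgroup (G ⧸ C) // M.Normal ∧ Nat.card M = j} := by
  have hCpos : 0 < Nat.card C := Nat.card_pos
  apply Nat.card_congr
  refine
    { toFun := fun N => ⟨N.1.map (QuotientGroup.mk' C), ?_, ?_⟩
      invFun := fun M => ⟨M.1.comap (QuotientGroup.mk' C), ?_, ?_, ?_⟩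
      left_inv := ?_
      right_inv := ?_ }
  · haveI := N.2.1
    exact Subgroup.Normal.map N.2.1 _ (QuotientGroup.mk'_surjective C)
  · have h1 : (N.1.map (QuotientGroup.mk' C)).comap (QuotientGroup.mk' C) = N.1 := by
      apply Subgroup.comap_map_eq_self
      rw [QuotientGroup.ker_mk']
      exact N.2.2.2
    have h2 := card_comap_mk' C (N.1.map (QuotientGroup.mk' C))
    rw [h1, N.2.2.1] at h2
    exact (Nat.eq_of_mul_eq_mul_left hCpos h2).symm
  · haveI := M.2.1
    exact Subgroup.Normal.comap M.2.1 _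
  · rw [card_comap_mk', M.2.2]
  · exact QuotientGroup.le_comap_mk' C _
  · intro N
    apply Subtype.ext
    apply Subgroup.comap_map_eq_self
    rw [QuotientGroup.ker_mk']
    exact N.2.2.2
  · intro M
    apply Subtype.ext
    exact Subgroup.map_comap_eq_self_of_surjective (QuotientGroup.mk'_surjective C) _

theorem card_zero (p : ℕ) (G : Type u) [Group G] [Finite G] :
    Nat.card {H : Subgroup G // H.Normal ∧ Nat.card H = p ^ 0} ≡ 1 [MOD p] := by
  have : Nat.card {H : Subgroup G // H.Normal ∧ Nat.card H = p ^ 0} = 1 := by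
    rw [Nat.card_eq_one_iff_unique]
    refine ⟨⟨fun a b => ?_⟩, ⟨⟨⊥, inferInstance, by simp⟩⟩⟩
    apply Subtype.ext
    have ha : Nat.card (a.1 : Subgroup G) = 1 := by rw [a.2.2, pow_zero]
    have hb : Nat.card (b.1 : Subgroup G) = 1 := by rw [b.2.2, pow_zero]
    rw [Subgroup.card_eq_one] at ha hb
    rw [ha, hb]
  rw [this]

theorem normal_of_le_center {G : Type*} [Group G] (C : Subgroup G) (h : C ≤ Subgroup.center G) :
    C.Normal := by
  refine ⟨fun n hn g => ?_⟩
  have := Subgroup.mem_center_iff.mp (h hn) g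
  rw [this, mul_assoc, mul_inv_cancel, mul_one]
  exact hn

theorem main (p : ℕ) [hp : Fact p.Prime] : ∀ (m : ℕ) (G : Type u) [Group G] [Finite G],
    Nat.card G = p ^ m → ∀ s ≤ m,
    Nat.card {H : Subgroup G // H.Normal ∧ Nat.card H = p ^ s} ≡ 1 [MOD p] := by
  intro m
  induction m with
  | zero =>
    intro G _ _ hG s hs
    obtain rfl : s = 0 := by omega
    exact card_zero p G
  | succ m ih =>
    intro G _ _ hG s hs
    rcases Nat.eq_zero_or_pos s with rfl | hspos
    · exact card_zero p G
    obtain ⟨s', rfl⟩ : ∃ s', s = s' + 1 := ⟨s - 1, by omega⟩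
    have hs' : s' ≤ m := by omega
    have hPG : IsPGroup p G := IsPGroup.of_card hG
    haveI : Nontrivial G := by
      rw [← Finite.one_lt_card_iff_nontrivial, hG]
      exact Nat.one_lt_pow (by omega) hp.out.one_lt
    let Z := Subgroup.center G
    let X := {H : Subgroup G // H.Normal ∧ Nat.card H = p ^ (s' + 1)}
    let Y := {C : Subgroup G // C ≤ Z ∧ Nat.card C = p}
    letI : Fintype X := Fintype.ofFinite X
    letI : Fintype Y := Fintype.ofFinite Y
    have hZcomm : ∀ x ∈ Z, ∀ y ∈ Z, x * y = y * x := by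
      intro x hx y hy
      exact Subgroup.mem_center_iff.mp hy x
    have hY : Nat.card Y ≡ 1 [MOD p] := by
      apply card_order_p_modEq_one Z (hPG.to_subgroup Z) _ hZcomm
      have := hPG.center_nontrivial
      exact (Subgroup.nontrivial_iff_ne_bot _).mp this
    have hc : ∀ N : X, Nat.card {C : Y // C.1 ≤ N.1} ≡ 1 [MOD p] := by
      intro N
      have h1 : Nat.card {C : Y // C.1 ≤ N.1} =
          Nat.card {C : Subgroup G // C ≤ N.1 ⊓ Z ∧ Nat.card C = p} := by
        apply Nat.card_congr
        exact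
          { toFun := fun C => ⟨C.1.1, le_inf C.2 C.1.2.1, C.1.2.2⟩
            invFun := fun C => ⟨⟨C.1, C.2.1.trans inf_le_right, C.2.2⟩, C.2.1.trans inf_le_left⟩
            left_inv := fun _ => rfl
            right_inv := fun _ => rfl }
      rw [h1]
      apply card_order_p_modEq_one
      · exact hPG.to_subgroup _
      · haveI := N.2.1
        have hNne : N.1 ≠ ⊥ := by
          intro h
          have := N.2.2
          rw [h, Subgroup.card_bot] at this
          exact absurd this (Nat.one_lt_pow (by omega) hp.out.one_lt).ne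
        obtain ⟨z, hzN, hz1, hzZ⟩ :=
          Cfsg.Agent.Lib.Lead.UniqueOrderP.exists_central_of_normal hPG N.1 hNne
        intro h
        have : z ∈ N.1 ⊓ Z := ⟨hzN, hzZ⟩
        rw [h, Subgroup.mem_bot] at this
        exact hz1 this
      · intro x hx y hy
        exact hZcomm x hx.2 y hy.2
    have hd : ∀ C : Y, Nat.card {N : X // C.1 ≤ N.1} ≡ 1 [MOD p] := by
      intro C
      haveI : C.1.Normal := normal_of_le_center C.1 C.2.1
      have h1 : Nat.card {N : X // C.1 ≤ N.1} =
          Nat.card {N : Subgroup G // N.Normal ∧ Nat.card N = Nat.card C.1 * p ^ s' ∧ C.1 ≤ N} := by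
        apply Nat.card_congr
        exact
          { toFun := fun N => ⟨N.1.1, N.1.2.1, by rw [N.1.2.2, C.2.2, pow_succ'], N.2⟩
            invFun := fun N => ⟨⟨N.1, N.2.1, by rw [N.2.2.1, C.2.2, pow_succ']⟩, N.2.2.2⟩
            left_inv := fun _ => rfl
            right_inv := fun _ => rfl }
      rw [h1, card_normal_over]
      apply ih (G ⧸ C.1) _ s' hs'
      have := Subgroup.card_eq_card_quotient_mul_card_subgroup C.1
      rw [hG, C.2.2, pow_succ] at this
      exact (Nat.eq_of_mul_eq_mul_right hp.out.pos this).symm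
    let e : (Σ N : X, {C : Y // C.1 ≤ N.1}) ≃ (Σ C : Y, {N : X // C.1 ≤ N.1}) :=
      { toFun := fun q => ⟨q.2.1, ⟨q.1, q.2.2⟩⟩
        invFun := fun q => ⟨q.2.1, ⟨q.1, q.2.2⟩⟩
        left_inv := fun _ => rfl
        right_inv := fun _ => rfl }
    have h1 := Nat.card_congr e
    rw [Nat.card_sigma, Nat.card_sigma] at h1
    have h2 := sum_modEq_card p _ hc
    have h3 := sum_modEq_card p _ hd
    rw [← Nat.card_eq_fintype_card] at h2 h3
    rw [h1] at h2
    exact h2.symm.trans (h3.trans hY)

/-- Let `p` be a prime and `G` a group of order `p ^ m`. For every `s ≤ m` the number of normal subgroups of `G` of order `p ^ s` is congruent to `1` modulo `p`. -/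
theorem result {G : Type*} [Group G] [Finite G] (p m s : ℕ) (hp : p.Prime) (hG : Nat.card G = p ^ m) (hs : s ≤ m) : Nat.card {H : Subgroup G // H.Normal ∧ Nat.card H = p ^ s} ≡ 1 [MOD p] := by
  haveI : Fact p.Prime := ⟨hp⟩
  exact main p m G hG s hs

end Cfsg.Agent.S3976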