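import Mathlib
import Cfsg.Statements.S3977
import Cfsg.Agent.Lib.Lead.UniqueSubgroup
-- import your own Cfsg.Agent.* helpers here

set_option autoImplicit false
open Cfsg

namespace Cfsg.Agent.S3977

/-- In a finite cyclic group, subgroups of equal order coincide. -/
theorem eq_of_card_eq_of_isCyclic {C : Type*} [Group C] [Finite C] [IsCyclic C] (H K : Subgroup C)
    (h : Nat.card H = Nat.card K) : H = K := by
  classical
  haveI := Fintype.ofFinite C
  have key : ∀ L : Subgroup C, Nat.card L = Nat.card H →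
      (L : Set C) = {a | a ^ Nat.card H = 1} := by
    intro L hL
    have hd : 0 < Nat.card H := Nat.card_pos
    have hS := IsCyclic.card_pow_eq_one_le (α := C) hd
    have hsub : (L : Set C) ⊆ {a | a ^ Nat.card H = 1} := by
      intro a ha
      have h1 : (⟨a, ha⟩ : L) ^ Nat.card L = 1 := pow_card_eq_one'
      have h2 := congrArg (fun x : L => (x : C)) h1
      simp only [Subgroup.coe_pow, Subgroup.coe_one] at h2
      rw [hL] at h2
      exact h2
    apply Set.eq_of_subset_of_ncard_le hsub
    have h3 : (L : Set C).ncard = Nat.card H := by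
      rw [← hL, ← Nat.card_coe_set_eq]; rfl
    rw [h3, Set.ncard_eq_toFinset_card', Set.toFinset_ofPred]
    exact hS
  exact SetLike.coe_injective ((key H rfl).trans (key K h.symm).symm)

/-- Let `p` be a prime and `G` a group of order `p ^ m` which has exactly one subgroup of order `p ^ s`, where `1 ≤ s < m`, and where `s ≥ 2` if `p = 2`. Then `G` is cyclic. (For `p = 2` and `s = 1` the generalized quaternion groups also occur; that case is the classical criterion for a unique involution.) -/
theorem result {G : Type*} [Group G] [Finite G] (p m s : ℕ) (hp : p.Prime) (hG : Nat.card G = p ^ m) (hs : 1 ≤ s) (hsm : s < m) (h2 : p ≠ 2 ∨ 2 ≤ s) (huniq : ∀ H K : Subgroup G, Nat.card H = p ^ s → Nat.card K = p ^ s → H = K) : IsCyclic G := by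
  classical
  haveI : Fact p.Prime := ⟨hp⟩
  have hPG : IsPGroup p G := IsPGroup.of_card hG
  have hdvd : p ^ s ∣ Nat.card G := by rw [hG]; exact pow_dvd_pow _ hsm.le
  obtain ⟨N, hN⟩ := Sylow.exists_subgroup_card_pow_prime p hdvd
  -- small subgroups lie in N
  have hsmall : ∀ (H : Subgroup G) (k : ℕ), Nat.card H = p ^ k → k ≤ s → H ≤ N := by
    intro H k hH hk
    obtain ⟨K, hK, hHK⟩ := Sylow.exists_subgroup_card_pow_prime_le p hdvd H hH hk
    rwa [huniq K N hK hN] at hHK
  -- big subgroups contain N
  have hbig : ∀ (H : Subgroup G) (k : ℕ), Nat.card H = p ^ k → s ≤ k → N ≤ H := by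
    intro H k hH hk
    obtain ⟨H', hH'H, hH'⟩ := Sylow.exists_subgroup_le_card_pow_prime_of_le_card (n := s) hp hPG
      (H := H) (by rw [hH]; exact Nat.pow_le_pow_right hp.pos hk)
    rwa [huniq H' N hH' hN] at hH'H
  -- there is an element outside N
  have hNne : N ≠ ⊤ := by
    intro h
    have := Subgroup.card_eq_iff_eq_top (H := N) |>.mpr h
    rw [hN, hG] at this
    exact absurd (Nat.pow_right_injective hp.two_le this) hsm.ne
  obtain ⟨x, hx⟩ : ∃ x : G, x ∉ N := by
    by_contra hcon
    push Not at hcon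
    exact hNne (eq_top_iff.mpr fun y _ => hcon y)
  obtain ⟨k, hk⟩ := (hPG.to_subgroup (Subgroup.zpowers x)).exists_card_eq
  have hks : s ≤ k := by
    by_contra hlt
    push Not at hlt
    exact hx (hsmall _ k hk hlt.le (Subgroup.mem_zpowers x))
  have hNx : N ≤ Subgroup.zpowers x := hbig _ k hk hks
  haveI hNcyc : IsCyclic N := Subgroup.isCyclic_of_le hNx
  -- unique subgroup of order p
  have hU : Cfsg.Agent.Lib.Lead.UniqueOrderP.UniqueOrderP p G := by
    intro H K hH hK
    have hHN : H ≤ N := hsmall H 1 (by rw [hH, pow_one]) hs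
    have hKN : K ≤ N := hsmall K 1 (by rw [hK, pow_one]) hs
    have h1 : Nat.card (H.subgroupOf N) = Nat.card (K.subgroupOf N) := by
      rw [Nat.card_congr (Subgroup.subgroupOfEquivOfLe hHN).toEquiv,
        Nat.card_congr (Subgroup.subgroupOfEquivOfLe hKN).toEquiv, hH, hK]
    have h2 := eq_of_card_eq_of_isCyclic _ _ h1
    have h3 := congrArg (Subgroup.map N.subtype) h2
    rwa [Subgroup.map_subgroupOf_eq_of_le hHN, Subgroup.map_subgroupOf_eq_of_le hKN] at h3
  rcases Cfsg.Agent.Lib.Lead.UniqueSubgroup.cyclic_or_quaternion hPG hU with hc | ⟨hp2, n, ⟨e⟩⟩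
  · exact hc
  · subst hp2
    have hs2 : 2 ≤ s := by
      rcases h2 with h | h
      · exact absurd rfl h
      · exact h
    rcases Nat.eq_zero_or_pos n with rfl | hnpos
    · -- Q_1 is cyclic
      haveI := QuaternionGroup.quaternionGroup_one_isCyclic
      exact isCyclic_of_surjective e.symm.toMonoidHom e.symm.surjective
    · exfalso
      haveI : NeZero (2 ^ n) := ⟨by positivity⟩
      have hord : ∀ i : ZMod (2 * 2 ^ n), e.symm (QuaternionGroup.xa i) ∈ N := by
        intro i
        have h4 : orderOf (e.symm (QuaternionGroup.xa i)) = 2 ^ 2 := by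
          rw [MulEquiv.orderOf_eq, QuaternionGroup.orderOf_xa]; norm_num
        have : Nat.card (Subgroup.zpowers (e.symm (QuaternionGroup.xa i))) = 2 ^ 2 := by
          rw [Nat.card_zpowers, h4]
        exact hsmall _ 2 this hs2 (Subgroup.mem_zpowers _)
      have hcomm : e.symm (QuaternionGroup.xa 0) * e.symm (QuaternionGroup.xa 1) =
          e.symm (QuaternionGroup.xa 1) * e.symm (QuaternionGroup.xa 0) := by
        obtain ⟨g, hg⟩ := hNcyc.exists_generator
        have c0 : (⟨_, hord 0⟩ : N) ∈ Subgroup.zpowers g := hg _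
        have c1 : (⟨_, hord 1⟩ : N) ∈ Subgroup.zpowers g := hg _
        obtain ⟨a, ha⟩ := Subgroup.mem_zpowers_iff.mp c0
        obtain ⟨b, hb⟩ := Subgroup.mem_zpowers_iff.mp c1
        have := zpow_mul_comm g a b
        rw [ha, hb] at this
        exact congrArg (fun x : N => (x : G)) this
      rw [← map_mul, ← map_mul] at hcomm
      have h5 := e.symm.injective hcomm
      rw [QuaternionGroup.xa_mul_xa, QuaternionGroup.xa_mul_xa] at h5
      have h6 := QuaternionGroup.a.inj h5
      have h7 : ((2 : ℕ) : ZMod (2 * 2 ^ n)) = 0 := by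
        have : (1 : ZMod (2 * 2 ^ n)) + 1 = 0 := by
          have h8 : ((2 ^ n : ℕ) : ZMod (2 * 2 ^ n)) + 1 - 0 = ((2 ^ n : ℕ) : ZMod (2 * 2 ^ n)) + 0 - 1 := h6
          linear_combination h8
        push_cast
        rw [← this]; norm_num
      rw [ZMod.natCast_eq_zero_iff] at h7
      have h9 : 2 * 2 ^ n ≤ 2 := Nat.le_of_dvd (by norm_num) h7
      have h10 : 2 ≤ 2 ^ n := by
        calc 2 = 2 ^ 1 := by norm_num
          _ ≤ 2 ^ n := Nat.pow_le_pow_right (by norm_num) hnpos
      omega

end Cfsg.Agent.S3977
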