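import Cfsg.Statements.S3978
import Mathlib
import Cfsg.Agent.Lib.Helper2.SchurMultC

set_option autoImplicit false
open Cfsg

namespace Cfsg.Agent.S3978

/-- A finite group `Q` has trivial Schur multiplier if and only if, for every `n`, every homomorphism from `Q` to the projective general linear group (the quotient of `GL n ℂ` by its centre) lifts to a homomorphism into `GL n ℂ`. -/
theorem result {Q : Type*} [Group Q] [Finite Q] : Cfsg.HasCyclicSchurMultiplier Q 1 ↔ ∀ (n : ℕ) (γ : Q →* (GL (Fin n) ℂ ⧸ Subgroup.center (GL (Fin n) ℂ))), ∃ ρ : Q →* GL (Fin n) ℂ, (QuotientGroup.mk' (Subgroup.center (GL (Fin n) ℂ))).comp ρ = γ := by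
  classical
  have hψ := Cfsg.Agent.Lib.Helper2.SchurMult.canon_surjective Q
  have hid : Cfsg.IsStemExtension (MonoidHom.id Q) :=
    ⟨Function.surjective_id, by rw [MonoidHom.ker_id]; exact bot_le,
      by rw [MonoidHom.ker_id]; exact bot_le⟩
  have hsub : Subsingleton (MonoidHom.id Q).ker := by
    rw [MonoidHom.ker_id]; infer_instance
  have h2 : Subsingleton (Multiplicative (ZMod 1)) := by
    change Subsingleton (ZMod 1); infer_instance
  constructor
  · intro hM n γ
    obtain ⟨eA⟩ := Cfsg.Agent.Lib.Helper2.SchurMult.equiv_multM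
      (Cfsg.Agent.Lib.Helper2.SchurMult.canon Q) hψ hM
    haveI := Cfsg.Agent.Lib.Helper2.SchurMult.finite_multM
      (Cfsg.Agent.Lib.Helper2.SchurMult.canon Q) hψ
    have hc1 : Nat.card (Cfsg.Agent.Lib.Helper2.SchurMult.multM
        (Cfsg.Agent.Lib.Helper2.SchurMult.canon Q)) = 1 := by
      rw [← Nat.card_congr eA.toEquiv]
      exact Nat.card_unique
    have hcard : Nat.card (Cfsg.Agent.Lib.Helper2.SchurMult.multM
        (Cfsg.Agent.Lib.Helper2.SchurMult.canon Q)) ≤ Nat.card (MonoidHom.id Q).ker := by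
      rw [hc1]; exact Nat.card_pos
    obtain ⟨ρ, hρ⟩ := Cfsg.Agent.Lib.Helper2.SchurMult.lift_projective
      (MonoidHom.id Q) hid hcard n γ
    exact ⟨ρ, by rw [hρ]; rfl⟩
  · intro hlift
    have hlift' : ∀ (n : ℕ) (γ : Q →* (GL (Fin n) ℂ ⧸ Subgroup.center (GL (Fin n) ℂ))),
        ∃ ρ : Q →* GL (Fin n) ℂ,
          (QuotientGroup.mk' (Subgroup.center (GL (Fin n) ℂ))).comp ρ
            = γ.comp (MonoidHom.id Q) := by
      intro n γ
      obtain ⟨ρ, hρ⟩ := hlift n γ
      exact ⟨ρ, by rw [hρ]; rfl⟩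
    obtain ⟨e, -⟩ := Cfsg.Agent.Lib.Helper2.SchurMult.card_multM_le_of_lifting
      (MonoidHom.id Q) hid hlift'
    have hMsub : ∀ m : Cfsg.Agent.Lib.Helper2.SchurMult.multM
        (Cfsg.Agent.Lib.Helper2.SchurMult.canon Q), m = 1 := by
      intro m
      apply e.injective
      exact Subsingleton.elim _ _
    refine ⟨⟨Q, inferInstance, inferInstance, MonoidHom.id Q, hid, ?_⟩, ?_⟩
    · have u1 : Unique (MonoidHom.id Q).ker := ⟨⟨1⟩, fun a => Subsingleton.elim _ _⟩
      have u2 : Unique (Multiplicative (ZMod 1)) := ⟨⟨1⟩, fun a => Subsingleton.elim _ _⟩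
      exact ⟨MulEquiv.ofUnique⟩
    · intro Γ _ _ σ hσ
      obtain ⟨πM, hπM⟩ := Cfsg.Agent.Lib.Helper2.SchurMult.exists_surjective_multM_ker
        (Cfsg.Agent.Lib.Helper2.SchurMult.canon Q) hψ σ hσ
      refine ⟨1, ?_⟩
      intro x
      obtain ⟨m, rfl⟩ := hπM x
      exact ⟨1, by rw [hMsub m, map_one πM]; rfl⟩

end Cfsg.Agent.S3978
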