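import Cfsg.Statements.S3980
import Mathlib
import Cfsg.Agent.Lib.Helper2.SchurMultC

set_option autoImplicit false
universe u v w
open Cfsg

namespace Cfsg.Agent.S3980

open scoped commutatorElement

theorem map_commutator_le {G H : Type*} [Group G] [Group H] (f : G →* H) :
    (commutator G).map f ≤ commutator H := by
  rw [commutator_def, Subgroup.map_commutator, commutator_def]
  exact Subgroup.commutator_mono le_top le_top

theorem commutator_prod_le {G H : Type*} [Group G] [Group H] :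
    commutator (G × H) ≤ (commutator G).prod (commutator H) := by
  rw [commutator_eq_closure (G × H), Subgroup.closure_le]
  rintro c ⟨a, b, rfl⟩
  exact ⟨Subgroup.commutator_mem_commutator (Subgroup.mem_top a.1) (Subgroup.mem_top b.1),
    Subgroup.commutator_mem_commutator (Subgroup.mem_top a.2) (Subgroup.mem_top b.2)⟩

open scoped IsMulCommutative in
theorem commutator_pow_eq_one {Δ : Type*} [Group Δ] {Q : Type*} [Group Q] [Finite Q]
    (H : Subgroup Δ) (θ : H →* Q) (hθ : Function.Surjective θ) (y : Δ)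
    (hcen : ∀ x : H, ⁅(x : Δ), y⁆ ∈ Subgroup.center Δ)
    (hker : ∀ x : H, x ∈ θ.ker → ⁅(x : Δ), y⁆ = 1) (x : H) :
    ⁅(x : Δ), y⁆ ^ Nat.card (Abelianization Q) = 1 := by
  classical
  let f : H →* Subgroup.center Δ := MonoidHom.mk' (fun x => ⟨⁅(x : Δ), y⁆, hcen x⟩) (by
    intro a b
    apply Subtype.ext
    show ⁅((a * b : H) : Δ), y⁆ = ⁅(a : Δ), y⁆ * ⁅(b : Δ), y⁆
    have h1 : ⁅((a : Δ) * (b : Δ)), y⁆ = (a : Δ) * ⁅(b : Δ), y⁆ * (a : Δ)⁻¹ * ⁅(a : Δ), y⁆ := by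
      simp only [commutatorElement_def]; group
    have hc := Subgroup.mem_center_iff.mp (hcen b) (a : Δ)
    rw [Subgroup.coe_mul, h1, hc, mul_inv_cancel_right]
    exact Subgroup.mem_center_iff.mp (hcen a) _)
  have hfx : ∀ x : H, ((f x : Subgroup.center Δ) : Δ) = ⁅(x : Δ), y⁆ := fun x => rfl
  have h1 : (θ x) ^ Nat.card (Abelianization Q) ∈ commutator Q := by
    rw [← Abelianization.ker_of, MonoidHom.mem_ker, map_pow]
    exact pow_card_eq_one'
  have hmap : (commutator H).map θ = commutator Q := by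
    rw [commutator_def, Subgroup.map_commutator, Subgroup.map_top_of_surjective θ hθ,
      ← commutator_def]
  rw [← hmap] at h1
  obtain ⟨c, hc, hcx⟩ := Subgroup.mem_map.mp h1
  have hk : x ^ Nat.card (Abelianization Q) * c⁻¹ ∈ θ.ker := by
    rw [MonoidHom.mem_ker, map_mul, map_inv, map_pow, hcx, mul_inv_cancel]
  have hfc : f c = 1 := Abelianization.commutator_subset_ker f hc
  have hfk : f (x ^ Nat.card (Abelianization Q) * c⁻¹) = 1 := Subtype.ext (hker _ hk)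
  have h3 : f (x ^ Nat.card (Abelianization Q)) = 1 := by
    have : x ^ Nat.card (Abelianization Q) = (x ^ Nat.card (Abelianization Q) * c⁻¹) * c := by
      group
    rw [this, map_mul, hfk, hfc, one_mul]
  rw [map_pow] at h3
  have h2 := congrArg Subtype.val h3
  rw [Subgroup.coe_pow, hfx] at h2
  exact h2


/-- Let `Q₁` and `Q₂` be finite groups whose commutator quotients have coprime orders, with Schur multipliers `A` and `B`. Then the Schur multiplier of `Q₁ × Q₂` is isomorphic to `A × B`. -/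
theorem result {Q₁ : Type u} {Q₂ : Type v} [Group Q₁] [Group Q₂] [Finite Q₁] [Finite Q₂] {A B : Type w} [CommGroup A] [CommGroup B] (hA : Cfsg.HasSchurMultiplier Q₁ A) (hB : Cfsg.HasSchurMultiplier Q₂ B) (hcop : Nat.Coprime (Nat.card (Abelianization Q₁)) (Nat.card (Abelianization Q₂))) : Cfsg.HasSchurMultiplier (Q₁ × Q₂) (A × B) := by
  classical
  have hψ₁ := Cfsg.Agent.Lib.Helper2.SchurMult.canon_surjective Q₁
  have hψ₂ := Cfsg.Agent.Lib.Helper2.SchurMult.canon_surjective Q₂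
  obtain ⟨eA⟩ := Cfsg.Agent.Lib.Helper2.SchurMult.equiv_multM
    (Cfsg.Agent.Lib.Helper2.SchurMult.canon Q₁) hψ₁ hA
  obtain ⟨eB⟩ := Cfsg.Agent.Lib.Helper2.SchurMult.equiv_multM
    (Cfsg.Agent.Lib.Helper2.SchurMult.canon Q₂) hψ₂ hB
  refine ⟨?_, ?_⟩
  · obtain ⟨⟨Γ₁, i1, f1, σ₁, hσ₁, ⟨e₁⟩⟩, -⟩ := hA
    obtain ⟨⟨Γ₂, i2, f2, σ₂, hσ₂, ⟨e₂⟩⟩, -⟩ := hB
    have hkmem : ∀ x : Γ₁ × Γ₂, x ∈ (σ₁.prodMap σ₂).ker ↔ x.1 ∈ σ₁.ker ∧ x.2 ∈ σ₂.ker := by
      intro x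
      rw [MonoidHom.mem_ker, MonoidHom.mem_ker, MonoidHom.mem_ker]
      show (σ₁ x.1, σ₂ x.2) = 1 ↔ _
      exact Prod.ext_iff
    refine ⟨Γ₁ × Γ₂, inferInstance, inferInstance, σ₁.prodMap σ₂, ⟨?_, ?_, ?_⟩, ⟨?_⟩⟩
    · rintro ⟨q₁, q₂⟩
      obtain ⟨g₁, h₁⟩ := hσ₁.1 q₁
      obtain ⟨g₂, h₂⟩ := hσ₂.1 q₂
      exact ⟨(g₁, g₂), Prod.ext h₁ h₂⟩
    · intro x hx
      obtain ⟨h1, h2⟩ := (hkmem x).1 hx
      have c1 := Subgroup.mem_center_iff.mp (hσ₁.2.1 h1)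
      have c2 := Subgroup.mem_center_iff.mp (hσ₂.2.1 h2)
      rw [Subgroup.mem_center_iff]
      intro g
      exact Prod.ext (c1 g.1) (c2 g.2)
    · intro x hx
      obtain ⟨h1, h2⟩ := (hkmem x).1 hx
      have d1 : (x.1, (1 : Γ₂)) ∈ commutator (Γ₁ × Γ₂) :=
        map_commutator_le (MonoidHom.inl Γ₁ Γ₂) (Subgroup.mem_map_of_mem _ (hσ₁.2.2 h1))
      have d2 : ((1 : Γ₁), x.2) ∈ commutator (Γ₁ × Γ₂) :=
        map_commutator_le (MonoidHom.inr Γ₁ Γ₂) (Subgroup.mem_map_of_mem _ (hσ₂.2.2 h2))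
      have := Subgroup.mul_mem _ d1 d2
      have hx' : (x.1, (1 : Γ₂)) * ((1 : Γ₁), x.2) = x := Prod.ext (mul_one _) (one_mul _)
      rw [hx'] at this
      exact this
    · let f : (σ₁.prodMap σ₂).ker →* A × B :=
        MonoidHom.prod
          (e₁.toMonoidHom.comp (MonoidHom.codRestrict
            ((MonoidHom.fst Γ₁ Γ₂).comp (σ₁.prodMap σ₂).ker.subtype) σ₁.ker
            (fun x => ((hkmem x.1).1 x.2).1)))
          (e₂.toMonoidHom.comp (MonoidHom.codRestrict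
            ((MonoidHom.snd Γ₁ Γ₂).comp (σ₁.prodMap σ₂).ker.subtype) σ₂.ker
            (fun x => ((hkmem x.1).1 x.2).2)))
      have hf1 : ∀ x : (σ₁.prodMap σ₂).ker,
          (f x).1 = e₁ ⟨x.1.1, ((hkmem x.1).1 x.2).1⟩ := fun x => rfl
      have hf2 : ∀ x : (σ₁.prodMap σ₂).ker,
          (f x).2 = e₂ ⟨x.1.2, ((hkmem x.1).1 x.2).2⟩ := fun x => rfl
      have hinj : Function.Injective f := by
        rw [injective_iff_map_eq_one]
        intro x hx
        have h1 : (f x).1 = 1 := congrArg Prod.fst hx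
        have h2 : (f x).2 = 1 := congrArg Prod.snd hx
        rw [hf1, map_eq_one_iff e₁ e₁.injective] at h1
        rw [hf2, map_eq_one_iff e₂ e₂.injective] at h2
        apply Subtype.ext
        exact Prod.ext (congrArg Subtype.val h1) (congrArg Subtype.val h2)
      have hsurj : Function.Surjective f := by
        rintro ⟨a, b⟩
        refine ⟨⟨((e₁.symm a : σ₁.ker), (e₂.symm b : σ₂.ker)),
          (hkmem _).2 ⟨(e₁.symm a).2, (e₂.symm b).2⟩⟩, ?_⟩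
        apply Prod.ext
        · rw [hf1]; exact e₁.apply_symm_apply a
        · rw [hf2]; exact e₂.apply_symm_apply b
      exact MulEquiv.ofBijective f ⟨hinj, hsurj⟩
  · intro Δ _ _ τ hτ
    obtain ⟨hτs, hτc, hτd⟩ := hτ
    let p₁ : Δ →* Q₁ := (MonoidHom.fst Q₁ Q₂).comp τ
    let p₂ : Δ →* Q₂ := (MonoidHom.snd Q₁ Q₂).comp τ
    have hτeq : ∀ d, τ d = (p₁ d, p₂ d) := fun d => rfl
    let θ₁ : p₂.ker →* Q₁ := p₁.comp p₂.ker.subtype
    let θ₂ : p₁.ker →* Q₂ := p₂.comp p₁.ker.subtype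
    have hθ₁s : Function.Surjective θ₁ := by
      intro q
      obtain ⟨d, hd⟩ := hτs (q, 1)
      have h1 : p₁ d = q := congrArg Prod.fst hd
      have h2 : p₂ d = 1 := congrArg Prod.snd hd
      exact ⟨⟨d, h2⟩, h1⟩
    have hθ₂s : Function.Surjective θ₂ := by
      intro q
      obtain ⟨d, hd⟩ := hτs (1, q)
      have h1 : p₁ d = 1 := congrArg Prod.fst hd
      have h2 : p₂ d = q := congrArg Prod.snd hd
      exact ⟨⟨d, h1⟩, h2⟩
    have hker₁ : ∀ x : p₂.ker, x ∈ θ₁.ker → (x : Δ) ∈ τ.ker := by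
      intro x hx
      rw [MonoidHom.mem_ker, hτeq]
      have h1 : p₁ (x : Δ) = 1 := hx
      have h2 : p₂ (x : Δ) = 1 := x.2
      rw [h1, h2]; rfl
    have hker₂ : ∀ x : p₁.ker, x ∈ θ₂.ker → (x : Δ) ∈ τ.ker := by
      intro x hx
      rw [MonoidHom.mem_ker, hτeq]
      have h1 : p₂ (x : Δ) = 1 := hx
      have h2 : p₁ (x : Δ) = 1 := x.2
      rw [h1, h2]; rfl
    have hθ₁k : θ₁.ker ≤ Subgroup.center p₂.ker := by
      intro x hx
      have := Subgroup.mem_center_iff.mp (hτc (hker₁ x hx))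
      rw [Subgroup.mem_center_iff]
      intro y
      exact Subtype.ext (this y.1)
    have hθ₂k : θ₂.ker ≤ Subgroup.center p₁.ker := by
      intro x hx
      have := Subgroup.mem_center_iff.mp (hτc (hker₂ x hx))
      rw [Subgroup.mem_center_iff]
      intro y
      exact Subtype.ext (this y.1)
    have hKcomm : ∀ (x : p₂.ker) (y : p₁.ker), ⁅(x : Δ), (y : Δ)⁆ ∈ τ.ker := by
      intro x y
      rw [MonoidHom.mem_ker, map_commutatorElement, hτeq, hτeq]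
      have h2 : p₂ (x : Δ) = 1 := x.2
      have h1 : p₁ (y : Δ) = 1 := y.2
      rw [h2, h1]
      apply Prod.ext
      · show ⁅p₁ (x : Δ), (1 : Q₁)⁆ = 1
        exact commutatorElement_one_right _
      · show ⁅(1 : Q₂), p₂ (y : Δ)⁆ = 1
        exact commutatorElement_one_left _
    have hcomm12 : ∀ (x : p₂.ker) (y : p₁.ker), ⁅(x : Δ), (y : Δ)⁆ = 1 := by
      intro x y
      have e1 := commutator_pow_eq_one p₂.ker θ₁ hθ₁s (y : Δ)
        (fun x' => hτc (hKcomm x' y))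
        (fun x' hx' => by
          rw [commutatorElement_eq_one_iff_commute]
          exact (Subgroup.mem_center_iff.mp (hτc (hker₁ x' hx')) (y : Δ)).symm) x
      have e2 := commutator_pow_eq_one p₁.ker θ₂ hθ₂s (x : Δ)
        (fun y' => by
          have := hτc (hKcomm x y')
          rw [← commutatorElement_inv]
          exact Subgroup.inv_mem _ this)
        (fun y' hy' => by
          rw [commutatorElement_eq_one_iff_commute]
          exact (Subgroup.mem_center_iff.mp (hτc (hker₂ y' hy')) (x : Δ)).symm) y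
      have e2' : ⁅(x : Δ), (y : Δ)⁆ ^ Nat.card (Abelianization Q₂) = 1 := by
        rw [← commutatorElement_inv, inv_pow, e2, inv_one]
      have hd1 := orderOf_dvd_of_pow_eq_one e1
      have hd2 := orderOf_dvd_of_pow_eq_one e2'
      have hd := Nat.dvd_gcd hd1 hd2
      rw [Nat.Coprime.gcd_eq_one hcop, Nat.dvd_one] at hd
      exact orderOf_eq_one_iff.mp hd
    have hcm : ∀ (x : p₂.ker) (y : p₁.ker),
        Commute (p₂.ker.subtype x) (p₁.ker.subtype y) :=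
      fun x y => commutatorElement_eq_one_iff_commute.mp (hcomm12 x y)
    let μ : p₂.ker × p₁.ker →* Δ := MonoidHom.noncommCoprod p₂.ker.subtype p₁.ker.subtype hcm
    have hμ : ∀ z, μ z = (z.1 : Δ) * (z.2 : Δ) := fun z => rfl
    have hμs : Function.Surjective μ := by
      intro d
      obtain ⟨x, hx⟩ := hθ₁s (p₁ d)
      have hy : (x : Δ)⁻¹ * d ∈ p₁.ker := by
        rw [MonoidHom.mem_ker, map_mul, map_inv]
        have : p₁ (x : Δ) = p₁ d := hx
        rw [this, inv_mul_cancel]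
      refine ⟨(x, ⟨_, hy⟩), ?_⟩
      rw [hμ]
      show (x : Δ) * ((x : Δ)⁻¹ * d) = d
      group
    have hcommΔ : commutator Δ = (commutator (p₂.ker × p₁.ker)).map μ := by
      rw [commutator_def, commutator_def, Subgroup.map_commutator,
        Subgroup.map_top_of_surjective μ hμs]
    obtain ⟨β₁, hβ₁⟩ := Cfsg.Agent.Lib.Helper2.SchurMult.exists_lift_pres
      (Cfsg.Agent.Lib.Helper2.SchurMult.canon Q₁) θ₁ hθ₁s hθ₁k
    obtain ⟨β₂, hβ₂⟩ := Cfsg.Agent.Lib.Helper2.SchurMult.exists_lift_pres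
      (Cfsg.Agent.Lib.Helper2.SchurMult.canon Q₂) θ₂ hθ₂s hθ₂k
    have himg₁ := Cfsg.Agent.Lib.Helper2.SchurMult.central_image_multM
      (Cfsg.Agent.Lib.Helper2.SchurMult.canon Q₁) hψ₁ θ₁ hθ₁k β₁ hβ₁
    have himg₂ := Cfsg.Agent.Lib.Helper2.SchurMult.central_image_multM
      (Cfsg.Agent.Lib.Helper2.SchurMult.canon Q₂) hψ₂ θ₂ hθ₂k β₂ hβ₂
    let g₁ : A →* Δ := p₂.ker.subtype.comp
      ((β₁.comp (Cfsg.Agent.Lib.Helper2.SchurMult.multM
        (Cfsg.Agent.Lib.Helper2.SchurMult.canon Q₁)).subtype).comp eA.toMonoidHom)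
    let g₂ : B →* Δ := p₁.ker.subtype.comp
      ((β₂.comp (Cfsg.Agent.Lib.Helper2.SchurMult.multM
        (Cfsg.Agent.Lib.Helper2.SchurMult.canon Q₂)).subtype).comp eB.toMonoidHom)
    have hg₁ : ∀ a, g₁ a = ((β₁ (eA a).1 : p₂.ker) : Δ) := fun a => rfl
    have hg₂ : ∀ b, g₂ b = ((β₂ (eB b).1 : p₁.ker) : Δ) := fun b => rfl
    have hg₁mem : ∀ a : A, g₁ a ∈ τ.ker :=
      fun a => hker₁ _ ((himg₁ _).2 ⟨_, (eA a).2, rfl⟩).1
    have hg₂mem : ∀ b : B, g₂ b ∈ τ.ker :=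
      fun b => hker₂ _ ((himg₂ _).2 ⟨_, (eB b).2, rfl⟩).1
    have hKc : ∀ a b : τ.ker, a * b = b * a := by
      intro a b
      apply Subtype.ext
      exact (Subgroup.mem_center_iff.mp (hτc a.2) b.1).symm
    let π : A × B →* τ.ker :=
      MonoidHom.mk' (fun ab => (⟨g₁ ab.1, hg₁mem ab.1⟩ : τ.ker) * ⟨g₂ ab.2, hg₂mem ab.2⟩) (by
        intro ab ab'
        have e1 : (⟨g₁ (ab * ab').1, hg₁mem (ab * ab').1⟩ : τ.ker)
            = ⟨g₁ ab.1, hg₁mem ab.1⟩ * ⟨g₁ ab'.1, hg₁mem ab'.1⟩ :=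
          Subtype.ext (map_mul g₁ ab.1 ab'.1)
        have e2 : (⟨g₂ (ab * ab').2, hg₂mem (ab * ab').2⟩ : τ.ker)
            = ⟨g₂ ab.2, hg₂mem ab.2⟩ * ⟨g₂ ab'.2, hg₂mem ab'.2⟩ :=
          Subtype.ext (map_mul g₂ ab.2 ab'.2)
        show (⟨g₁ (ab * ab').1, hg₁mem (ab * ab').1⟩ : τ.ker) * ⟨g₂ (ab * ab').2, hg₂mem (ab * ab').2⟩
          = _
        rw [e1, e2, mul_assoc, mul_assoc]
        congr 1
        rw [← mul_assoc, ← mul_assoc, hKc ⟨g₁ ab'.1, hg₁mem ab'.1⟩ ⟨g₂ ab.2, hg₂mem ab.2⟩])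
    have hπ : ∀ ab : A × B, ((π ab : τ.ker) : Δ) = g₁ ab.1 * g₂ ab.2 := fun ab => rfl
    refine ⟨π, ?_⟩
    rintro ⟨k, hk⟩
    have hkc : k ∈ (commutator (p₂.ker × p₁.ker)).map μ := by rw [← hcommΔ]; exact hτd hk
    obtain ⟨z, hz, rfl⟩ := Subgroup.mem_map.mp hkc
    obtain ⟨hz1, hz2⟩ := commutator_prod_le hz
    have hτz : τ (μ z) = (θ₁ z.1, θ₂ z.2) := by
      rw [hμ, map_mul, hτeq, hτeq]
      have h2 : p₂ (z.1 : Δ) = 1 := z.1.2
      have h1 : p₁ (z.2 : Δ) = 1 := z.2.2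
      rw [h2, h1]
      exact Prod.ext (mul_one _) (one_mul _)
    have hk' : τ (μ z) = 1 := hk
    rw [hτz] at hk'
    have hk1 : θ₁ z.1 = 1 := congrArg Prod.fst hk'
    have hk2 : θ₂ z.2 = 1 := congrArg Prod.snd hk'
    obtain ⟨m₁, hm₁, hm₁z⟩ := (himg₁ z.1).1 ⟨hk1, hz1⟩
    obtain ⟨m₂, hm₂, hm₂z⟩ := (himg₂ z.2).1 ⟨hk2, hz2⟩
    refine ⟨(eA.symm ⟨m₁, hm₁⟩, eB.symm ⟨m₂, hm₂⟩), ?_⟩
    apply Subtype.ext
    show ((π (eA.symm ⟨m₁, hm₁⟩, eB.symm ⟨m₂, hm₂⟩) : τ.ker) : Δ) = μ z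
    rw [hπ, hg₁, hg₂, hμ]
    show ((β₁ (eA (eA.symm ⟨m₁, hm₁⟩)).1 : p₂.ker) : Δ) * ((β₂ (eB (eB.symm ⟨m₂, hm₂⟩)).1 : p₁.ker) : Δ)
      = (z.1 : Δ) * (z.2 : Δ)
    rw [eA.apply_symm_apply, eB.apply_symm_apply, hm₁z, hm₂z]

end Cfsg.Agent.S3980
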