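import Mathlib
import Cfsg.Statements.S3986

set_option autoImplicit false
open Cfsg

namespace Cfsg.Agent.S3986

/-- In a finite group, an element of `p`-power order lies in a normal Sylow `p`-subgroup. -/
theorem mem_sylow_of_normal {G : Type*} [Group G] [Finite G] {p : ℕ} [Fact p.Prime] (P : Sylow p G)
    [hn : (P : Subgroup G).Normal] (g : G) (hg : ∃ k : ℕ, orderOf g = p ^ k) : g ∈ (P : Subgroup G) := by
  obtain ⟨k, hk⟩ := hg
  have hz : IsPGroup p (Subgroup.zpowers g) :=
    IsPGroup.of_card (n := k) (by rw [Nat.card_zpowers, hk])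
  obtain ⟨Q, hQ⟩ := hz.exists_le_sylow
  obtain ⟨x, hx⟩ := MulAction.exists_smul_eq G P Q
  have : x • P = P := Sylow.smul_eq_of_normal
  rw [this] at hx
  rw [hx]
  exact hQ (Subgroup.mem_zpowers g)

/-- An element of a `p`-group has `p`-power order. -/
theorem exists_orderOf_of_mem {G : Type*} [Group G] {p : ℕ} [Fact p.Prime] {P : Subgroup G} (hP : IsPGroup p P)
    {x : G} (hx : x ∈ P) : ∃ k : ℕ, orderOf x = p ^ k := by
  obtain ⟨k, hk⟩ := (IsPGroup.iff_orderOf.mp hP) ⟨x, hx⟩
  exact ⟨k, by rw [← hk, Subgroup.orderOf_mk]⟩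

/-- If a Sylow `p`-subgroup is a direct factor with complement `K`, elements of prime power order
for other primes lie in `K`. -/
theorem mem_complement {G : Type*} [Group G] [Finite G] {p : ℕ} [Fact p.Prime] (P : Sylow p G)
    (K : Subgroup G) (hPn : (P : Subgroup G).Normal) (hKn : K.Normal)
    (hinf : (P : Subgroup G) ⊓ K = ⊥) (hsup : (P : Subgroup G) ⊔ K = ⊤)
    (y : G) (q b : ℕ) (hq : q.Prime) (hqp : q ≠ p) (hy : orderOf y = q ^ b) : y ∈ K := by
  have hp : p.Prime := Fact.out
  have hyt : y ∈ ((P : Subgroup G) ⊔ K : Subgroup G) := by rw [hsup]; trivial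
  have hset : y ∈ (((P : Subgroup G) ⊔ K : Subgroup G) : Set G) := hyt
  rw [Subgroup.mul_normal] at hset
  obtain ⟨a, ha, c, hc, rfl⟩ := Set.mem_mul.mp hset
  have hdisj : Disjoint (P : Subgroup G) K := disjoint_iff.mpr hinf
  have hcomm : Commute a c :=
    Subgroup.commute_of_normal_of_disjoint _ _ hPn hKn hdisj a c ha hc
  have hpow : (a * c) ^ (q ^ b) = 1 := by rw [← hy]; exact pow_orderOf_eq_one _
  rw [hcomm.mul_pow] at hpow
  have ha1 : a ^ (q ^ b) ∈ (P : Subgroup G) ⊓ K := by
    refine ⟨Subgroup.pow_mem _ ha _, ?_⟩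
    have : a ^ (q ^ b) = (c ^ (q ^ b))⁻¹ := eq_inv_of_mul_eq_one_left hpow
    rw [this]
    exact K.inv_mem (K.pow_mem hc _)
  rw [hinf, Subgroup.mem_bot] at ha1
  obtain ⟨k, hk⟩ := exists_orderOf_of_mem P.2 ha
  have hd : orderOf a ∣ q ^ b := orderOf_dvd_of_pow_eq_one ha1
  have hcop : Nat.Coprime (p ^ k) (q ^ b) :=
    Nat.Coprime.pow _ _ ((Nat.coprime_primes hp hq).mpr (Ne.symm hqp))
  have h1 : orderOf a = 1 := by
    rw [hk] at hd ⊢
    exact Nat.Coprime.eq_one_of_dvd hcop hd
  rw [orderOf_eq_one_iff] at h1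
  rw [h1, one_mul]
  exact hc

/-- The forward direction, in a reusable form. -/
theorem commute_of_direct_factor {G : Type*} [Group G] [Finite G] {p : ℕ} [Fact p.Prime] (P : Sylow p G)
    (K : Subgroup G) (hPn : (P : Subgroup G).Normal) (hKn : K.Normal)
    (hinf : (P : Subgroup G) ⊓ K = ⊥) (hsup : (P : Subgroup G) ⊔ K = ⊤)
    (x y : G) (hx : ∃ a : ℕ, orderOf x = p ^ a)
    (hy : ∃ q b : ℕ, q.Prime ∧ q ≠ p ∧ orderOf y = q ^ b) : x * y = y * x := by
  obtain ⟨q, b, hq, hqp, hyo⟩ := hy
  have hxP : x ∈ (P : Subgroup G) := mem_sylow_of_normal P x hx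
  have hyK : y ∈ K := mem_complement P K hPn hKn hinf hsup y q b hq hqp hyo
  exact (Subgroup.commute_of_normal_of_disjoint _ _ hPn hKn (disjoint_iff.mpr hinf) x y hxP hyK).eq

/-- A subgroup containing a Sylow `q`-subgroup for every prime `q` is everything. -/
theorem eq_top_of_forall_sylow_le {G : Type*} [Group G] [Finite G] (N : Subgroup G)
    (h : ∀ (q : ℕ) [Fact q.Prime], ∃ S : Sylow q G, (S : Subgroup G) ≤ N) : N = ⊤ := by
  apply Subgroup.eq_top_of_le_card
  apply Nat.le_of_dvd Nat.card_pos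
  rw [Nat.dvd_iff_prime_pow_dvd_dvd]
  intro q k hq hqk
  have : Fact q.Prime := ⟨hq⟩
  obtain ⟨S, hS⟩ := h q
  have h1 : q ^ k ∣ Nat.card S := S.pow_dvd_card_of_pow_dvd_card hqk
  exact h1.trans (Subgroup.card_dvd_of_le hS)

/-- The backward direction. -/
theorem direct_factor_of_commute {G : Type*} [Group G] [Finite G] (p : ℕ) [Fact p.Prime]
    (h : ∀ x y : G, (∃ a : ℕ, orderOf x = p ^ a) → (∃ q b : ℕ, q.Prime ∧ q ≠ p ∧ orderOf y = q ^ b) →
      x * y = y * x) :
    ∃ (P : Sylow p G) (K : Subgroup G), (P : Subgroup G).Normal ∧ K.Normal ∧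
      (P : Subgroup G) ⊓ K = ⊥ ∧ (P : Subgroup G) ⊔ K = ⊤ := by
  have hp : p.Prime := Fact.out
  obtain ⟨P⟩ : Nonempty (Sylow p G) := inferInstance
  -- normalizer of P is everything
  have hN : Subgroup.normalizer ((P : Subgroup G) : Set G) = ⊤ := by
    apply eq_top_of_forall_sylow_le
    intro q hqf
    by_cases hqp : q = p
    · subst hqp
      exact ⟨P, Subgroup.le_normalizer⟩
    · obtain ⟨S⟩ : Nonempty (Sylow q G) := inferInstance
      refine ⟨S, ?_⟩
      intro s hs
      obtain ⟨b, hb⟩ := exists_orderOf_of_mem S.2 hs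
      apply Subgroup.mem_normalizer_fintype
      intro x hx
      have hx' : x ∈ (P : Subgroup G) := hx
      have hc := h x s (exists_orderOf_of_mem P.2 hx') ⟨q, b, hqf.out, hqp, hb⟩
      have e : s * x * s⁻¹ = x := by rw [← hc]; group
      rw [e]; exact hx
  have hPn : (P : Subgroup G).Normal := Subgroup.normalizer_eq_top_iff.mp hN
  obtain ⟨K, hK⟩ := Subgroup.exists_right_complement'_of_coprime (N := (P : Subgroup G)) P.card_coprime_index
  have hKcard : (Nat.card K).Coprime p := by
    have h1 := hK.card_mul_card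
    have h2 : Nat.card (P : Subgroup G) * (P : Subgroup G).index = Nat.card G :=
      Subgroup.card_mul_index _
    have h3 : Nat.card K = (P : Subgroup G).index := by
      have hpos : 0 < Nat.card (P : Subgroup G) := Nat.card_pos
      apply Nat.eq_of_mul_eq_mul_left hpos
      rw [h1, h2]
    rw [h3, Nat.coprime_comm, Nat.Prime.coprime_iff_not_dvd hp]
    exact P.not_dvd_index
  -- K centralizes P
  have hKc : ∀ k ∈ K, ∀ x ∈ (P : Subgroup G), x * k = k * x := by
    have hgen : (⨆ (q : Nat.Primes) (S : Sylow (q : ℕ) K), (S : Subgroup K)) = ⊤ := by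
      apply eq_top_of_forall_sylow_le
      intro q hqf
      obtain ⟨S⟩ : Nonempty (Sylow q K) := inferInstance
      exact ⟨S, le_iSup₂_of_le (⟨q, hqf.out⟩ : Nat.Primes) S le_rfl⟩
    intro k hk x hx
    have hcen : (⨆ (q : Nat.Primes) (S : Sylow (q : ℕ) K), (S : Subgroup K)) ≤
        (Subgroup.centralizer ({x} : Set G)).subgroupOf K := by
      apply iSup₂_le
      intro q S s hs
      have : Fact (q : ℕ).Prime := ⟨q.2⟩
      rw [Subgroup.mem_subgroupOf, Subgroup.mem_centralizer_singleton_iff]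
      obtain ⟨b, hb⟩ := exists_orderOf_of_mem S.2 hs
      by_cases hqp : (q : ℕ) = p
      · -- s has p-power order in a p'-group, hence s = 1
        have hd : orderOf s ∣ Nat.card K := orderOf_dvd_natCard s
        have : orderOf s = 1 := by
          rw [hb, hqp] at hd ⊢
          exact Nat.Coprime.eq_one_of_dvd (Nat.Coprime.pow_left b hKcard.symm) hd
        rw [orderOf_eq_one_iff] at this
        rw [this]; simp
      · exact (h x s (exists_orderOf_of_mem P.2 hx) ⟨q, b, q.2, hqp, by rw [Subgroup.orderOf_coe]; exact hb⟩).symm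
    rw [hgen] at hcen
    have := hcen (Subgroup.mem_top ⟨k, hk⟩)
    rw [Subgroup.mem_subgroupOf, Subgroup.mem_centralizer_singleton_iff] at this
    exact this.symm
  have hKn : K.Normal := by
    rw [← Subgroup.normalizer_eq_top_iff, eq_top_iff, ← hK.sup_eq_top]
    apply sup_le
    · intro x hx
      apply Subgroup.mem_normalizer_fintype
      intro k hk
      have hc := hKc k hk x hx
      have e : x * k * x⁻¹ = k := by rw [hc]; group
      rw [e]; exact hk
    · exact Subgroup.le_normalizer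
  exact ⟨P, K, hPn, hKn, disjoint_iff.mp hK.disjoint, hK.sup_eq_top⟩

/-- Let p be a prime and G a finite group. Then some Sylow p-subgroup of G is a direct factor of G (it is normal and has a normal complement) if and only if every element of p-power order commutes with every element whose order is a power of a prime other than p. -/
theorem result {G : Type*} [Group G] [Finite G] (p : ℕ) [Fact p.Prime] : (∃ (P : Sylow p G) (K : Subgroup G), (P : Subgroup G).Normal ∧ K.Normal ∧ (P : Subgroup G) ⊓ K = ⊥ ∧ (P : Subgroup G) ⊔ K = ⊤) ↔ ∀ x y : G, (∃ a : ℕ, orderOf x = p ^ a) → (∃ q b : ℕ, q.Prime ∧ q ≠ p ∧ orderOf y = q ^ b) → x * y = y * x := by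
  constructor
  · rintro ⟨P, K, hPn, hKn, hinf, hsup⟩ x y hx hy
    exact commute_of_direct_factor P K hPn hKn hinf hsup x y hx hy
  · exact direct_factor_of_commute p

end Cfsg.Agent.S3986
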