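import Mathlib
import Cfsg.Statements.S3982
import Cfsg.Agent.S3986
import Cfsg.Agent.Lib.Helper12.StronglyEmbedded
import Cfsg.Agent.Lib.Helper2.NilpotentBasic

set_option autoImplicit false
open Cfsg
open Cfsg.Agent.Lib.Helper12

namespace Cfsg.Agent.S3982

variable {G : Type*} [Group G] [Finite G]

/-- An involution acting fixed-point-freely on a finite subgroup inverts it. -/
theorem inverts_of_fixedPointFree (S : Subgroup G) (t : G) (ht2 : t * t = 1)
    (htS : ∀ s ∈ S, t * s * t⁻¹ ∈ S) (hfpf : ∀ s ∈ S, t * s * t⁻¹ = s → s = 1) :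
    ∀ s ∈ S, t * s * t⁻¹ = s⁻¹ := by
  have htinv : t⁻¹ = t := inv_eq_of_mul_eq_one_left ht2
  let f : S → S := fun s => ⟨(s : G)⁻¹ * (t * s * t⁻¹), S.mul_mem (S.inv_mem s.2) (htS s s.2)⟩
  have hinj : Function.Injective f := by
    intro a b hab
    have h : (a : G)⁻¹ * (t * a * t⁻¹) = (b : G)⁻¹ * (t * b * t⁻¹) := congrArg Subtype.val hab
    have hfix : t * ((b : G) * (a : G)⁻¹) * t⁻¹ = (b : G) * (a : G)⁻¹ := by
      have h2 : t * (a : G) * t⁻¹ = (a : G) * ((b : G)⁻¹ * (t * b * t⁻¹)) := by rw [← h]; group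
      have h3 : (t * b * t⁻¹) * (t * a * t⁻¹)⁻¹ = (b : G) * (a : G)⁻¹ := by rw [h2]; group
      have h4 : t * ((b : G) * (a : G)⁻¹) * t⁻¹ = (t * b * t⁻¹) * (t * a * t⁻¹)⁻¹ := by group
      rw [h4, h3]
    have h1 := hfpf _ (S.mul_mem b.2 (S.inv_mem a.2)) hfix
    apply Subtype.ext
    have : (b : G) = a := mul_inv_eq_one.mp h1
    exact this.symm
  have hsurj : Function.Surjective f := Finite.injective_iff_surjective.mp hinj
  intro s hs
  obtain ⟨a, ha⟩ := hsurj ⟨s, hs⟩
  have hs' : s = (a : G)⁻¹ * (t * a * t⁻¹) := (congrArg Subtype.val ha).symm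
  rw [hs', htinv]
  have e1 : t * ((a : G)⁻¹ * (t * a * t)) * t = t * (a : G)⁻¹ * t * a * (t * t) := by group
  have e2 : ((a : G)⁻¹ * (t * a * t))⁻¹ = t⁻¹ * (a : G)⁻¹ * t⁻¹ * a := by group
  rw [e1, e2, ht2, htinv, mul_one]

/-- The inductive step: a nontrivial non-Sylow `p`-subgroup with even normalizer can be enlarged. -/
theorem step (p : ℕ) [Fact p.Prime]
    (hC : ∀ g : G, g ≠ 1 → (∃ k : ℕ, orderOf g = p ^ k) →
      Odd (Nat.card ↥(Subgroup.centralizer ({g} : Set G))))
    (S : Subgroup G) (hS : IsPGroup p S) (hS1 : S ≠ ⊥)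
    (hev : Even (Nat.card ↥(Subgroup.normalizer (S : Set G))))
    (R : Sylow p G) (hSR : S ≤ R) (hne : S ≠ R) :
    ∃ S' : Subgroup G, IsPGroup p S' ∧ S' ≠ ⊥ ∧
      Even (Nat.card ↥(Subgroup.normalizer (S' : Set G))) ∧ Nat.card S < Nat.card S' := by
  classical
  haveI : Fact (Nat.Prime 2) := ⟨Nat.prime_two⟩
  obtain ⟨t', ht'⟩ := exists_prime_orderOf_dvd_card' (G := Subgroup.normalizer (S : Set G)) 2 hev.two_dvd
  set t : G := (t' : G) with htdef
  have hto : orderOf t = 2 := by rw [htdef, Subgroup.orderOf_coe]; exact ht'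
  have ht2 : t * t = 1 := by rw [← pow_two, ← hto]; exact pow_orderOf_eq_one t
  have htinv : t⁻¹ = t := inv_eq_of_mul_eq_one_left ht2
  have htN : t ∈ Subgroup.normalizer (S : Set G) := t'.2
  have htS : ∀ s ∈ S, t * s * t⁻¹ ∈ S := fun s hs => (Subgroup.mem_normalizer_iff.mp htN s).mp hs
  have hnotcen : ∀ g : G, g ≠ 1 → (∃ k : ℕ, orderOf g = p ^ k) →
      t ∉ Subgroup.centralizer ({g} : Set G) := by
    intro g hg1 hgp htc
    have hodd := hC g hg1 hgp
    have h2 : 2 ∣ Nat.card (Subgroup.centralizer ({g} : Set G)) := by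
      rw [← hto]; exact Subgroup.orderOf_dvd_natCard _ htc
    exact (Nat.not_even_iff_odd.mpr hodd) (even_iff_two_dvd.mpr h2)
  have hfpf : ∀ s ∈ S, t * s * t⁻¹ = s → s = 1 := by
    intro s hs hfix
    by_contra hs1
    apply hnotcen s hs1 (Cfsg.Agent.S3986.exists_orderOf_of_mem hS hs)
    rw [Subgroup.mem_centralizer_singleton_iff]
    calc t * s = t * s * t⁻¹ * t := by group
      _ = s * t := by rw [hfix]
  have hinv := inverts_of_fixedPointFree S t ht2 htS hfpf
  -- T = N_R(S)
  set T : Subgroup G := (R : Subgroup G) ⊓ Subgroup.normalizer (S : Set G) with hT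
  have hST : S ≤ T := le_inf hSR Subgroup.le_normalizer
  have hTp : IsPGroup p T := R.2.to_le inf_le_left
  have hSTne : S ≠ T := by
    haveI hnil : Group.IsNilpotent (R : Subgroup G) := R.2.isNilpotent
    have hnc := normalizerCondition_of_isNilpotent (G := (R : Subgroup G))
    have hlt : S.subgroupOf R < ⊤ := by
      rw [lt_top_iff_ne_top]
      intro h
      apply hne
      apply le_antisymm hSR
      intro r hr
      have : (⟨r, hr⟩ : (R : Subgroup G)) ∈ S.subgroupOf R := by rw [h]; trivial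
      exact Subgroup.mem_subgroupOf.mp this
    obtain ⟨r, hrN, hrS⟩ := SetLike.exists_of_lt (hnc _ hlt)
    intro hEq
    apply hrS
    rw [Subgroup.mem_subgroupOf, hEq]
    refine ⟨r.2, ?_⟩
    apply Subgroup.mem_normalizer_fintype
    intro s hs
    have h1 := (Subgroup.mem_normalizer_iff.mp hrN ⟨s, hSR hs⟩).mp (Subgroup.mem_subgroupOf.mpr hs)
    rw [Subgroup.mem_subgroupOf] at h1
    simpa using h1
  -- a nontrivial element of S ∩ Z(T)
  haveI hTnil : Group.IsNilpotent T := hTp.isNilpotent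
  haveI hSTn : (S.subgroupOf T).Normal :=
    (Subgroup.normal_subgroupOf_iff_le_normalizer hST).mpr inf_le_right
  have hSTbot : S.subgroupOf T ≠ ⊥ := by
    intro h
    apply hS1
    rw [Subgroup.subgroupOf_eq_bot] at h
    rw [eq_bot_iff]
    intro s hs
    have : s ∈ S ⊓ T := ⟨hs, hST hs⟩
    rw [disjoint_iff.mp h] at this
    exact this
  obtain ⟨⟨g', hg'S, hg'Z⟩, hg'1⟩ := (Subgroup.ne_bot_iff_exists_ne_one).mp
    (Cfsg.Agent.Lib.Helper2.normal_inf_center_ne_bot (S.subgroupOf T) hSTbot)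
  set g : G := ((g' : T) : G) with hgdef
  have hgS : g ∈ S := Subgroup.mem_subgroupOf.mp hg'S
  have hg1 : g ≠ 1 := by
    intro h
    apply hg'1
    apply Subtype.ext
    apply Subtype.ext
    exact h
  have hgp : ∃ k : ℕ, orderOf g = p ^ k := Cfsg.Agent.S3986.exists_orderOf_of_mem hS hgS
  set H : Subgroup G := Subgroup.centralizer ({g} : Set G) with hH
  have hTH : T ≤ H := by
    intro x hx
    rw [hH, Subgroup.mem_centralizer_singleton_iff]
    have := Subgroup.mem_center_iff.mp hg'Z ⟨x, hx⟩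
    exact congrArg Subtype.val this
  have htH : t ∉ H := hnotcen g hg1 hgp
  have hgt : t * g * t⁻¹ = g⁻¹ := hinv g hgS
  -- t normalizes H
  have htHn : ∀ h ∈ H, t * h * t⁻¹ ∈ H := by
    intro h hh
    rw [hH, Subgroup.mem_centralizer_singleton_iff] at hh ⊢
    -- hh : h * g = g * h
    have hginv : h * g⁻¹ = g⁻¹ * h := by
      calc h * g⁻¹ = g⁻¹ * (g * h) * g⁻¹ := by group
        _ = g⁻¹ * (h * g) * g⁻¹ := by rw [hh]
        _ = g⁻¹ * h := by group
    have hg' : g = t * g⁻¹ * t⁻¹ := by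
      have : g = t * (t * g * t⁻¹) * t⁻¹ := by
        rw [htinv]
        calc g = (t * t) * g * (t * t) := by rw [ht2]; group
          _ = t * (t * g * t) * t := by group
      rw [hgt] at this
      exact this
    calc t * h * t⁻¹ * g = t * h * t⁻¹ * (t * g⁻¹ * t⁻¹) := by rw [← hg']
      _ = t * (h * g⁻¹) * t⁻¹ := by group
      _ = t * (g⁻¹ * h) * t⁻¹ := by rw [hginv]
      _ = (t * g⁻¹ * t⁻¹) * (t * h * t⁻¹) := by group
      _ = g * (t * h * t⁻¹) := by rw [← hg']
  -- a Sylow subgroup of H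
  obtain ⟨S₀⟩ : Nonempty (Sylow p H) := inferInstance
  set S' : Subgroup G := (S₀ : Subgroup H).map H.subtype with hS'
  have hS'p : IsPGroup p S' := S₀.2.map _
  have hS'H : S' ≤ H := Subgroup.map_subtype_le _
  have hS'card : Nat.card S' = Nat.card (S₀ : Subgroup H) :=
    Subgroup.card_map_of_injective H.subtype_injective
  -- the conjugate of S' by t lies in H
  have hAH : ∀ n ∈ S', t * n * t⁻¹ ∈ H := fun n hn => htHn n (hS'H hn)
  set A : Subgroup G := conjSub t S' with hA
  have hAle : A ≤ H := by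
    rintro _ ⟨n, hn, rfl⟩
    simpa [MulAut.conj_apply] using hAH n hn
  have hAp : IsPGroup p (A.subgroupOf H) :=
    (hS'p.map _).comap_of_injective H.subtype H.subtype_injective
  obtain ⟨S₁, hS₁⟩ := hAp.exists_le_sylow
  obtain ⟨h, hh⟩ := MulAction.exists_smul_eq H S₁ S₀
  set u : G := (h : G) * t with hu
  have huN : u ∈ Subgroup.normalizer (S' : Set G) := by
    apply Subgroup.mem_normalizer_fintype
    intro n hn
    have h2 : (⟨t * n * t⁻¹, hAH n hn⟩ : H) ∈ (S₁ : Subgroup H) := hS₁ (by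
      rw [Subgroup.mem_subgroupOf]; exact conj_mem_conjSub t S' hn)
    have h3 : h * ⟨t * n * t⁻¹, hAH n hn⟩ * h⁻¹ ∈ ((h • S₁ : Sylow p H) : Subgroup H) := by
      rw [Sylow.smul_def, Sylow.pointwise_smul_def]
      exact Subgroup.smul_mem_pointwise_smul _ (MulAut.conj h) _ h2
    rw [hh] at h3
    rw [SetLike.mem_coe, hS']
    refine ⟨_, h3, ?_⟩
    simp only [Subgroup.subtype_apply, Subgroup.coe_mul, Subgroup.coe_inv, hu]
    group
  have huH : u ∉ H := by
    intro huH
    apply htH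
    have e : t = (h : G)⁻¹ * u := by rw [hu]; group
    rw [e]
    exact H.mul_mem (H.inv_mem h.2) huH
  have huuH : u * u ∈ H := by
    have e : u * u = (h : G) * (t * h * t⁻¹) := by
      rw [hu, htinv]; group
    rw [e]
    exact H.mul_mem h.2 (htHn h h.2)
  have hueven : Even (orderOf u) := by
    by_contra hodd
    rw [Nat.not_even_iff_odd] at hodd
    obtain ⟨k, hk⟩ := hodd
    apply huH
    have e : u = (u * u) ^ (k + 1) := by
      rw [← pow_two, ← pow_mul]
      have : 2 * (k + 1) = orderOf u + 1 := by omega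
      rw [this, pow_succ, pow_orderOf_eq_one, one_mul]
    rw [e]
    exact H.pow_mem huuH _
  have hNev : Even (Nat.card ↥(Subgroup.normalizer (S' : Set G))) := by
    rw [even_iff_two_dvd]
    exact (even_iff_two_dvd.mp hueven).trans (Subgroup.orderOf_dvd_natCard _ huN)
  -- cardinalities
  have hcard1 : Nat.card S < Nat.card T := by
    have hle : Nat.card S ≤ Nat.card T := Subgroup.card_le_of_le hST
    rcases Nat.lt_or_ge (Nat.card S) (Nat.card T) with h | h
    · exact h
    · exact absurd (Subgroup.eq_of_le_of_card_ge hST h) hSTne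
  have hcard2 : Nat.card T ≤ Nat.card S' := by
    have hTp' : IsPGroup p (T.subgroupOf H) :=
      hTp.comap_of_injective H.subtype H.subtype_injective
    obtain ⟨S₂, hS₂⟩ := hTp'.exists_le_sylow
    have h1 : Nat.card (T.subgroupOf H) ≤ Nat.card (S₂ : Subgroup H) := Subgroup.card_le_of_le hS₂
    have h2 : Nat.card (T.subgroupOf H) = Nat.card T :=
      Nat.card_congr (Subgroup.subgroupOfEquivOfLe hTH).toEquiv
    have h3 : Nat.card (S₂ : Subgroup H) = Nat.card (S₀ : Subgroup H) := by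
      rw [Sylow.card_eq_multiplicity, Sylow.card_eq_multiplicity]
    omega
  refine ⟨S', hS'p, ?_, hNev, lt_of_lt_of_le hcard1 hcard2⟩
  intro hbot
  have : Nat.card S' = 1 := by rw [hbot]; exact Subgroup.card_bot
  have hpos : 0 < Nat.card S := Nat.card_pos
  omega

theorem main (p : ℕ) [Fact p.Prime]
    (hC : ∀ g : G, g ≠ 1 → (∃ k : ℕ, orderOf g = p ^ k) →
      Odd (Nat.card ↥(Subgroup.centralizer ({g} : Set G)))) :
    ∀ n : ℕ, ∀ S : Subgroup G, IsPGroup p S → S ≠ ⊥ →
      Even (Nat.card ↥(Subgroup.normalizer (S : Set G))) → Nat.card G - Nat.card S = n →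
      ∃ R : Sylow p G, Even (Nat.card ↥(Subgroup.normalizer ((R : Subgroup G) : Set G))) := by
  intro n
  induction n using Nat.strong_induction_on with
  | _ n ih =>
    intro S hS hS1 hev hn
    obtain ⟨R, hR⟩ := hS.exists_le_sylow
    by_cases hSR : S = R
    · exact ⟨R, hSR ▸ hev⟩
    · obtain ⟨S', hS'p, hS'1, hS'ev, hlt⟩ := step p hC S hS hS1 hev R hR hSR
      have hle : Nat.card S' ≤ Nat.card G := Subgroup.card_le_card_group S'
      exact ih (Nat.card G - Nat.card S') (by omega) S' hS'p hS'1 hS'ev rfl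

/-- Let p be an odd prime and G a finite group of even order divisible by p in which the centralizer of every non-identity p-element has odd order. If some nontrivial p-subgroup of G has a normalizer of even order, then the normalizer of every Sylow p-subgroup of G has even order. -/
theorem result {G : Type*} [Group G] [Finite G] (p : ℕ) [Fact p.Prime] (hp2 : p ≠ 2) (hpG : p ∣ Nat.card G) (h2G : 2 ∣ Nat.card G) (hC : ∀ g : G, g ≠ 1 → (∃ k : ℕ, orderOf g = p ^ k) → Odd (Nat.card ↥(Subgroup.centralizer ({g} : Set G)))) (Q : Subgroup G) (hQ : IsPGroup p ↥Q) (hQ1 : Q ≠ ⊥) (hev : Even (Nat.card ↥(Subgroup.normalizer (Q : Set G)))) (P : Sylow p G) : Even (Nat.card ↥(Subgroup.normalizer ((P : Subgroup G) : Set G))) := by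
  obtain ⟨R, hR⟩ := main p hC _ Q hQ hQ1 hev rfl
  have h1 := P.card_eq_index_normalizer
  have h2 := R.card_eq_index_normalizer
  have h3 : (Subgroup.normalizer ((P : Subgroup G) : Set G)).index =
      (Subgroup.normalizer ((R : Subgroup G) : Set G)).index := h1.symm.trans h2
  have h4 := Subgroup.card_mul_index (Subgroup.normalizer ((P : Subgroup G) : Set G))
  have h5 := Subgroup.card_mul_index (Subgroup.normalizer ((R : Subgroup G) : Set G))
  have hpos : 0 < (Subgroup.normalizer ((P : Subgroup G) : Set G)).index :=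
    Nat.pos_of_ne_zero Subgroup.index_ne_zero_of_finite
  have h6 : Nat.card ↥(Subgroup.normalizer ((P : Subgroup G) : Set G)) =
      Nat.card ↥(Subgroup.normalizer ((R : Subgroup G) : Set G)) := by
    apply Nat.eq_of_mul_eq_mul_right hpos
    rw [h4, h3, h5]
  rw [h6]
  exact hR

end Cfsg.Agent.S3982
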