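import Mathlib
import Cfsg.Statements.S3983
import Cfsg.Agent.Lib.Helper12.StronglyEmbedded

set_option autoImplicit false
open scoped Pointwise
open Cfsg
open Cfsg.Agent.Lib.Helper12

namespace Cfsg.Agent.S3983

/-- Let P be a Sylow p-subgroup of the finite group G that meets each conjugate g P g⁻¹ with g outside N_G(P) trivially, and let U be a subgroup of G of order divisible by p. Then a Sylow p-subgroup Q of U has the same property inside U: Q meets each conjugate u Q u⁻¹ with u ∈ U outside N_U(Q) trivially. -/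
theorem result {G : Type*} [Group G] [Finite G] (p : ℕ) [Fact p.Prime] (P : Sylow p G) (hTI : ∀ g : G, g ∉ Subgroup.normalizer ((P : Subgroup G) : Set G) → (P : Subgroup G) ⊓ (MulAut.conj g • (P : Subgroup G)) = ⊥) (U : Subgroup G) (hU : p ∣ Nat.card ↥U) (Q : Sylow p ↥U) : ∀ u : ↥U, u ∉ Subgroup.normalizer ((Q : Subgroup ↥U) : Set ↥U) → (Q : Subgroup ↥U) ⊓ (MulAut.conj u • (Q : Subgroup ↥U)) = ⊥ := by
  intro u hu
  by_contra hne
  apply hu
  obtain ⟨⟨x, hxQ, hxu⟩, hx1⟩ := (Subgroup.ne_bot_iff_exists_ne_one).mp hne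
  have hx1' : x ≠ 1 := fun h => hx1 (Subtype.ext h)
  have hxu' : u⁻¹ * x * u ∈ (Q : Subgroup U) := (mem_conjSub_iff u (Q : Subgroup U) x).mp hxu
  -- a Sylow subgroup of G containing the image of Q
  obtain ⟨R, hR⟩ := (Q.2.map U.subtype).exists_le_sylow
  obtain ⟨c, hc⟩ := MulAction.exists_smul_eq G P R
  have hRc : (R : Subgroup G) = conjSub c (P : Subgroup G) := by rw [← hc, coe_smul_sylow]
  have hxR : (x : G) ∈ (R : Subgroup G) := hR ⟨x, hxQ, rfl⟩
  have hxuR : ((u⁻¹ * x * u : U) : G) ∈ (R : Subgroup G) := hR ⟨_, hxu', rfl⟩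
  rw [hRc, mem_conjSub_iff] at hxR hxuR
  set g : G := c⁻¹ * u * c with hg
  set y : G := c⁻¹ * x * c with hy
  have hy1 : y ≠ 1 := by
    intro h
    apply hx1'
    have e : (x : G) = c * y * c⁻¹ := by rw [hy]; group
    apply Subtype.ext
    rw [e, h]; simp
  have hgy : g⁻¹ * y * g ∈ (P : Subgroup G) := by
    have e : g⁻¹ * y * g = c⁻¹ * ((u⁻¹ * x * u : U) : G) * c := by
      rw [hg, hy]; push_cast; group
    rw [e]; exact hxuR
  have hgN : g ∈ Subgroup.normalizer ((P : Subgroup G) : Set G) := by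
    by_contra hgN
    have h := hTI g hgN
    have hmem : y ∈ (P : Subgroup G) ⊓ (MulAut.conj g • (P : Subgroup G)) :=
      ⟨hxR, (mem_conjSub_iff g (P : Subgroup G) y).mpr hgy⟩
    rw [h, Subgroup.mem_bot] at hmem
    exact hy1 hmem
  have huN : (u : G) ∈ Subgroup.normalizer ((R : Subgroup G) : Set G) := by
    have := conj_mem_normalizer_conjSub c g (P : Subgroup G) hgN
    rw [← hRc] at this
    have e : c * g * c⁻¹ = u := by rw [hg]; group
    rwa [e] at this
  -- R ⊓ U is a p-subgroup of U containing Q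
  have hQ2p : IsPGroup p ((R : Subgroup G).subgroupOf U) :=
    R.2.comap_of_injective U.subtype U.subtype_injective
  have hQle : (Q : Subgroup U) ≤ (R : Subgroup G).subgroupOf U := by
    intro q hq
    rw [Subgroup.mem_subgroupOf]
    exact hR ⟨q, hq, rfl⟩
  have hQ2 : (R : Subgroup G).subgroupOf U = (Q : Subgroup U) := Q.3 hQ2p hQle
  apply Subgroup.mem_normalizer_fintype
  intro q hq
  have hq' : q ∈ (Q : Subgroup U) := hq
  have hqR : (q : G) ∈ (R : Subgroup G) := hR ⟨q, hq', rfl⟩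
  have := (Subgroup.mem_normalizer_iff.mp huN (q : G)).mp hqR
  change u * q * u⁻¹ ∈ (Q : Subgroup U)
  rw [← hQ2, Subgroup.mem_subgroupOf]
  simpa using this

end Cfsg.Agent.S3983
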