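import Mathlib
import Cfsg.Statements.S3984
import Cfsg.Agent.S3305
import Cfsg.Agent.Lib.Helper12.StronglyEmbedded

set_option autoImplicit false
open scoped Pointwise
open Cfsg
open Cfsg.Agent.Lib.Helper12

namespace Cfsg.Agent.S3984

/-- Let P be a Sylow p-subgroup of the finite group G that meets each conjugate g P g⁻¹ with g outside N_G(P) trivially, and let N be a normal subgroup of G of order prime to p. Then every Sylow p-subgroup Q of G ⧸ N meets each conjugate x Q x⁻¹ with x outside its normalizer trivially. -/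
theorem result {G : Type*} [Group G] [Finite G] (p : ℕ) [Fact p.Prime] (P : Sylow p G) (hTI : ∀ g : G, g ∉ Subgroup.normalizer ((P : Subgroup G) : Set G) → (P : Subgroup G) ⊓ (MulAut.conj g • (P : Subgroup G)) = ⊥) (N : Subgroup G) [N.Normal] (hN : (Nat.card ↥N).Coprime p) (Q : Sylow p (G ⧸ N)) : ∀ x : G ⧸ N, x ∉ Subgroup.normalizer ((Q : Subgroup (G ⧸ N)) : Set (G ⧸ N)) → (Q : Subgroup (G ⧸ N)) ⊓ (MulAut.conj x • (Q : Subgroup (G ⧸ N))) = ⊥ := by
  intro x hx
  by_contra hne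
  apply hx
  set π := QuotientGroup.mk' N with hπ
  have hπs : Function.Surjective π := QuotientGroup.mk'_surjective N
  obtain ⟨P₁, -, hP₁⟩ := Cfsg.Agent.S3305.exists_sylow_lift p π hπs Q ⊥ IsPGroup.of_bot (by simp)
  obtain ⟨c, hc⟩ := MulAction.exists_smul_eq G P P₁
  have hP₁c : (P₁ : Subgroup G) = conjSub c (P : Subgroup G) := by rw [← hc, coe_smul_sylow]
  obtain ⟨g, rfl⟩ := hπs x
  obtain ⟨⟨abar, haQ, hax⟩, ha1⟩ := (Subgroup.ne_bot_iff_exists_ne_one).mp hne
  have ha1' : abar ≠ 1 := fun h => ha1 (Subtype.ext h)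
  have haQ' : abar ∈ (P₁ : Subgroup G).map π := by rw [hP₁]; exact haQ
  obtain ⟨a, haP₁, rfl⟩ := haQ'
  have haP₁ : a ∈ (P₁ : Subgroup G) := haP₁
  have hax' : (π g)⁻¹ * π a * π g ∈ (P₁ : Subgroup G).map π := by
    rw [hP₁]
    exact (mem_conjSub_iff (π g) (Q : Subgroup (G ⧸ N)) (π a)).mp hax
  obtain ⟨b, hbP₁, hb⟩ := hax'
  have hbP₁ : b ∈ (P₁ : Subgroup G) := hbP₁
  have hn : (g * b * g⁻¹)⁻¹ * a ∈ N := by
    rw [← QuotientGroup.eq]
    change π (g * b * g⁻¹) = π a
    rw [map_mul, map_mul, map_inv, hb]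
    group
  have ha_ne : a ≠ 1 := by
    intro h
    apply ha1'
    rw [h, map_one]
  -- the conjugate Sylow subgroup
  set P₂ : Sylow p G := g • P₁ with hP₂def
  have hP₂ : (P₂ : Subgroup G) = conjSub g (P₁ : Subgroup G) := coe_smul_sylow g P₁
  set M : Subgroup G := (P₂ : Subgroup G) ⊔ N with hM
  have haM : a ∈ M := by
    have e : a = (g * b * g⁻¹) * ((g * b * g⁻¹)⁻¹ * a) := by group
    rw [e]
    refine Subgroup.mul_mem _ ((le_sup_left : (P₂ : Subgroup G) ≤ M) ?_) ((le_sup_right : N ≤ M) hn)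
    rw [hP₂]
    exact conj_mem_conjSub g _ hbP₁
  have hza : IsPGroup p (Subgroup.zpowers a) := P₁.2.to_le (by rwa [Subgroup.zpowers_le])
  obtain ⟨m, hmM, hm⟩ := exists_conj_le_sylow_of_le P₂ M le_sup_left (Subgroup.zpowers a)
    (by rwa [Subgroup.zpowers_le]) hza
  have hma : m * a * m⁻¹ ∈ (P₂ : Subgroup G) := hm (conj_mem_conjSub m _ (Subgroup.mem_zpowers a))
  have hmset : m ∈ (((P₂ : Subgroup G) ⊔ N : Subgroup G) : Set G) := hmM
  rw [Subgroup.mul_normal] at hmset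
  obtain ⟨s, hs, n', hn', rfl⟩ := Set.mem_mul.mp hmset
  have hna : n' * a * n'⁻¹ ∈ (P₂ : Subgroup G) := by
    have e : n' * a * n'⁻¹ = s⁻¹ * (s * n' * a * (s * n')⁻¹) * s := by group
    rw [e]
    exact Subgroup.mul_mem _ (Subgroup.mul_mem _ (Subgroup.inv_mem _ hs) hma) hs
  set h : G := n'⁻¹ * g with hh
  have hah : h⁻¹ * a * h ∈ (P₁ : Subgroup G) := by
    rw [hP₂, mem_conjSub_iff] at hna
    have e : h⁻¹ * a * h = g⁻¹ * (n' * a * n'⁻¹) * g := by rw [hh]; group
    rw [e]; exact hna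
  have hhN : h ∈ Subgroup.normalizer ((P₁ : Subgroup G) : Set G) := by
    set k : G := c⁻¹ * h * c with hk
    set a' : G := c⁻¹ * a * c with ha'
    have ha'P : a' ∈ (P : Subgroup G) := by
      rw [hP₁c, mem_conjSub_iff] at haP₁; exact haP₁
    have ha'k : k⁻¹ * a' * k ∈ (P : Subgroup G) := by
      rw [hP₁c, mem_conjSub_iff] at hah
      have e : k⁻¹ * a' * k = c⁻¹ * (h⁻¹ * a * h) * c := by rw [hk, ha']; group
      rw [e]; exact hah
    have ha'1 : a' ≠ 1 := by
      intro h1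
      apply ha_ne
      have e : a = c * a' * c⁻¹ := by rw [ha']; group
      rw [e, h1]; group
    have hkN : k ∈ Subgroup.normalizer ((P : Subgroup G) : Set G) := by
      by_contra hkN
      have h0 := hTI k hkN
      have hmem : a' ∈ (P : Subgroup G) ⊓ (MulAut.conj k • (P : Subgroup G)) :=
        ⟨ha'P, (mem_conjSub_iff k (P : Subgroup G) a').mpr ha'k⟩
      rw [h0, Subgroup.mem_bot] at hmem
      exact ha'1 hmem
    have := conj_mem_normalizer_conjSub c k (P : Subgroup G) hkN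
    rw [← hP₁c] at this
    have e : c * k * c⁻¹ = h := by rw [hk]; group
    rwa [e] at this
  have hπh : π g = π h := by
    rw [hh, map_mul, map_inv]
    have : π n' = 1 := by
      rw [hπ, QuotientGroup.mk'_apply, QuotientGroup.eq_one_iff]; exact hn'
    rw [this, inv_one, one_mul]
  rw [hπh]
  apply Subgroup.mem_normalizer_fintype
  intro q hq
  have hq' : q ∈ (P₁ : Subgroup G).map π := by rw [hP₁]; exact hq
  obtain ⟨b', hb', rfl⟩ := hq'
  have hb' : b' ∈ (P₁ : Subgroup G) := hb'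
  have h3 : h * b' * h⁻¹ ∈ (P₁ : Subgroup G) := (Subgroup.mem_normalizer_iff.mp hhN b').mp hb'
  rw [SetLike.mem_coe, ← hP₁]
  exact ⟨h * b' * h⁻¹, h3, by simp⟩

end Cfsg.Agent.S3984
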