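import Mathlib
import Cfsg.Statements.S3985
import Cfsg.Agent.S3986
import Cfsg.Agent.Lib.Helper12.StronglyEmbedded
import Cfsg.Agent.Lib.Helper11.Burnside
import Cfsg.Agent.Lib.Helper23.CyclicAut

set_option autoImplicit false
open scoped Pointwise
open Cfsg
open Cfsg.Agent.Lib.Helper12

namespace Cfsg.Agent.S3985

/-- Let P be a cyclic Sylow p-subgroup of the finite group G. Then P meets each conjugate g P g⁻¹ with g outside N_G(P) trivially if and only if P is weakly self-centralizing: C_G(x) = C_G(P) for every non-identity x ∈ P. -/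
theorem result {G : Type*} [Group G] [Finite G] (p : ℕ) [Fact p.Prime] (P : Sylow p G) (hcyc : IsCyclic ↥(P : Subgroup G)) : (∀ g : G, g ∉ Subgroup.normalizer ((P : Subgroup G) : Set G) → (P : Subgroup G) ⊓ (MulAut.conj g • (P : Subgroup G)) = ⊥) ↔ ∀ x : G, x ∈ (P : Subgroup G) → x ≠ 1 → Subgroup.centralizer ({x} : Set G) = Subgroup.centralizer ((P : Subgroup G) : Set G) := by
  have hcomm : IsMulCommutative ↥(P : Subgroup G) := inferInstance
  have hPC : (P : Subgroup G) ≤ Subgroup.centralizer ((P : Subgroup G) : Set G) := by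
    intro a ha
    rw [Subgroup.mem_centralizer_iff]
    intro b hb
    have := hcomm.is_comm.comm (⟨b, hb⟩ : (P : Subgroup G)) ⟨a, ha⟩
    exact congrArg Subtype.val this
  constructor
  · intro hTI x hxP hx1
    apply le_antisymm
    · intro g hg
      have hgx : g * x = x * g := Subgroup.mem_centralizer_singleton_iff.mp hg
      have hgN : g ∈ Subgroup.normalizer ((P : Subgroup G) : Set G) := by
        by_contra hgN
        have h := hTI g hgN
        have e : g⁻¹ * x * g = x := by rw [mul_assoc, ← hgx]; group
        have hmem : x ∈ (P : Subgroup G) ⊓ (MulAut.conj g • (P : Subgroup G)) :=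
          ⟨hxP, (mem_conjSub_iff g (P : Subgroup G) x).mpr (by rw [e]; exact hxP)⟩
        rw [h, Subgroup.mem_bot] at hmem
        exact hx1 hmem
      set σ : MulAut ↥(P : Subgroup G) := (P : Subgroup G).normalizerMonoidHom ⟨g, hgN⟩ with hσ
      have hσx : σ ⟨x, hxP⟩ = ⟨x, hxP⟩ := by
        apply Subtype.ext
        have e : g * x * g⁻¹ = x := by rw [hgx]; group
        have h0 : ((σ ⟨x, hxP⟩ : (P : Subgroup G)) : G) = g * x * g⁻¹ := rfl
        rw [h0, e]
      have hr : σ ^ (P : Subgroup G).index = 1 := by
        have hdvd := Cfsg.Agent.Lib.Helper11.card_range_normalizerMonoidHom_dvd_index P hcomm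
        have hmem : σ ∈ (P : Subgroup G).normalizerMonoidHom.range := ⟨_, rfl⟩
        have h1 : (⟨σ, hmem⟩ : (P : Subgroup G).normalizerMonoidHom.range) ^
            Nat.card (P : Subgroup G).normalizerMonoidHom.range = 1 := pow_card_eq_one'
        obtain ⟨k, hk⟩ := hdvd
        have h2 : (⟨σ, hmem⟩ : (P : Subgroup G).normalizerMonoidHom.range) ^ (P : Subgroup G).index = 1 := by
          rw [hk, pow_mul, h1, one_pow]
        have := congrArg Subtype.val h2
        simpa using this
      have hcop : ((P : Subgroup G).index).Coprime p := by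
        rw [Nat.coprime_comm, Nat.Prime.coprime_iff_not_dvd Fact.out]
        exact P.not_dvd_index
      have hσ1 : σ = 1 :=
        Cfsg.Agent.Lib.Helper23.aut_cyclic_pgroup_eq_one P.2 σ ⟨x, hxP⟩
          (fun h => hx1 (congrArg Subtype.val h)) hσx _ hr hcop
      have hker : (⟨g, hgN⟩ : Subgroup.normalizer ((P : Subgroup G) : Set G)) ∈
          (P : Subgroup G).normalizerMonoidHom.ker := by
        rw [MonoidHom.mem_ker]; exact hσ1
      rw [Subgroup.normalizerMonoidHom_ker, Subgroup.mem_subgroupOf] at hker
      exact hker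
    · exact Subgroup.centralizer_le (Set.singleton_subset_iff.mpr hxP)
  · intro hW g hgN
    by_contra hne
    apply hgN
    obtain ⟨⟨x, hxP, hxg⟩, hx1⟩ := (Subgroup.ne_bot_iff_exists_ne_one).mp hne
    have hx1' : x ≠ 1 := fun h => hx1 (Subtype.ext h)
    have hyP : g⁻¹ * x * g ∈ (P : Subgroup G) := (mem_conjSub_iff g (P : Subgroup G) x).mp hxg
    set y : G := g⁻¹ * x * g with hy
    have hy1 : y ≠ 1 := by
      intro h
      apply hx1'
      have e : x = g * y * g⁻¹ := by rw [hy]; group
      rw [e, h]; group
    have hCx := hW x hxP hx1'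
    have hCy := hW y hyP hy1
    set C : Subgroup G := Subgroup.centralizer ((P : Subgroup G) : Set G) with hC
    -- g⁻¹ C g ≤ C
    have hconjC : ∀ c ∈ C, g⁻¹ * c * g ∈ C := by
      intro c hc
      rw [← hCy, Subgroup.mem_centralizer_singleton_iff]
      rw [← hCx, Subgroup.mem_centralizer_singleton_iff] at hc
      rw [hy]
      calc g⁻¹ * c * g * (g⁻¹ * x * g) = g⁻¹ * (c * x) * g := by group
        _ = g⁻¹ * (x * c) * g := by rw [hc]
        _ = g⁻¹ * x * g * (g⁻¹ * c * g) := by group
    -- P as a normal Sylow subgroup of C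
    let P' : Sylow p C := P.subtype hPC
    have hP'n : (P' : Subgroup C).Normal := by
      constructor
      intro a ha c
      have ha' : (a : G) ∈ (P : Subgroup G) := by
        have := ha
        rw [Sylow.coe_subtype, Subgroup.mem_subgroupOf] at this
        exact this
      have hc : (c : G) * (a : G) = (a : G) * (c : G) := by
        have := (Subgroup.mem_centralizer_iff.mp c.2) (a : G) ha'
        exact this.symm
      have e : c * a * c⁻¹ = a := by
        apply Subtype.ext
        simp only [Subgroup.coe_mul, Subgroup.coe_inv]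
        rw [hc]; group
      rw [e]; exact ha
    -- g⁻¹ P g ≤ P
    have hle : ∀ z ∈ (P : Subgroup G), g⁻¹ * z * g ∈ (P : Subgroup G) := by
      intro z hz
      have hzC : g⁻¹ * z * g ∈ C := hconjC z (hPC hz)
      have hord : ∃ k : ℕ, orderOf (⟨g⁻¹ * z * g, hzC⟩ : C) = p ^ k := by
        obtain ⟨k, hk⟩ := Cfsg.Agent.S3986.exists_orderOf_of_mem P.2 hz
        refine ⟨k, ?_⟩
        rw [← hk, ← Subgroup.orderOf_coe]
        have : g⁻¹ * z * g = MulAut.conj g⁻¹ z := by simp
        change orderOf (g⁻¹ * z * g) = orderOf z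
        rw [this]
        exact (MulAut.conj g⁻¹).orderOf_eq z
      have := Cfsg.Agent.S3986.mem_sylow_of_normal P' ⟨g⁻¹ * z * g, hzC⟩ hord
      rw [Sylow.coe_subtype, Subgroup.mem_subgroupOf] at this
      exact this
    have hginv : g⁻¹ ∈ Subgroup.normalizer ((P : Subgroup G) : Set G) := by
      apply Subgroup.mem_normalizer_fintype
      intro z hz
      have := hle z hz
      rw [inv_inv]
      exact this
    have := Subgroup.inv_mem _ hginv
    simpa using this

end Cfsg.Agent.S3985
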