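import Mathlib
import Cfsg.Statements.S3987
import Cfsg.Agent.S3986

set_option autoImplicit false
open Cfsg

namespace Cfsg.Agent.S3987

variable {G : Type*} [Group G]

/-- The conjugacy class of `g` as a set. -/
def cls (g : G) : Set G := {h : G | ∃ c : G, h = c * g * c⁻¹}

theorem index_centralizer_eq_ncard_cls (g : G) :
    (Subgroup.centralizer ({g} : Set G)).index = (cls g).ncard := by
  have h1 : (MulAction.stabilizer (ConjAct G) g).index = (MulAction.orbit (ConjAct G) g).ncard :=
    MulAction.index_stabilizer _ _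
  have h2 : (Subgroup.centralizer ({g} : Set G)).index =
      (MulAction.stabilizer (ConjAct G) g).index := by
    rw [Subgroup.centralizer_eq_comap_stabilizer]
    exact Subgroup.index_comap_of_surjective _ (ConjAct.toConjAct (G := G)).surjective
  rw [h2, h1]
  congr 1
  ext h
  rw [ConjAct.mem_orbit_conjAct, isConj_comm, isConj_iff]
  constructor
  · rintro ⟨c, hc⟩; exact ⟨c, hc.symm⟩
  · rintro ⟨c, hc⟩; exact ⟨c, hc.symm⟩

theorem mem_cls_self (g : G) : g ∈ cls g := ⟨1, by simp⟩

theorem conj_mem_cls (g c : G) : c * g * c⁻¹ ∈ cls g := ⟨c, rfl⟩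

/-- The class of a product is contained in the product of the classes. -/
theorem cls_mul_subset (x y : G) :
    cls (x * y) ⊆ (fun q : G × G => q.1 * q.2) '' (cls x ×ˢ cls y) := by
  rintro _ ⟨c, rfl⟩
  refine ⟨(c * x * c⁻¹, c * y * c⁻¹), ⟨conj_mem_cls x c, conj_mem_cls y c⟩, ?_⟩
  simp only
  group

/-- If the class of `x * y` has as many elements as the product of the classes, `x` and `y`
commute. -/
theorem commute_of_index_eq [Finite G] (x y : G)
    (h : (Subgroup.centralizer ({x * y} : Set G)).index =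
      (Subgroup.centralizer ({x} : Set G)).index * (Subgroup.centralizer ({y} : Set G)).index) :
    x * y = y * x := by
  rw [index_centralizer_eq_ncard_cls, index_centralizer_eq_ncard_cls,
    index_centralizer_eq_ncard_cls, ← Set.ncard_prod] at h
  have h1 : ((fun q : G × G => q.1 * q.2) '' (cls x ×ˢ cls y)).ncard ≤ (cls x ×ˢ cls y).ncard :=
    Set.ncard_image_le (Set.toFinite _)
  have h2 : (cls (x * y)).ncard ≤ ((fun q : G × G => q.1 * q.2) '' (cls x ×ˢ cls y)).ncard :=
    Set.ncard_le_ncard (cls_mul_subset x y) (Set.toFinite _)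
  have h3 : ((fun q : G × G => q.1 * q.2) '' (cls x ×ˢ cls y)).ncard = (cls x ×ˢ cls y).ncard := by
    omega
  have hinj := Set.injOn_of_ncard_image_eq h3 (Set.toFinite _)
  have m1 : ((x, x⁻¹ * y * x) : G × G) ∈ cls x ×ˢ cls y :=
    ⟨mem_cls_self x, ⟨x⁻¹, by simp⟩⟩
  have m2 : ((y * x * y⁻¹, y) : G × G) ∈ cls x ×ˢ cls y :=
    ⟨conj_mem_cls x y, mem_cls_self y⟩
  have heq : (fun q : G × G => q.1 * q.2) (x, x⁻¹ * y * x) =
      (fun q : G × G => q.1 * q.2) (y * x * y⁻¹, y) := by
    simp only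
    group
  have := hinj m1 m2 heq
  have hx : x = y * x * y⁻¹ := congrArg Prod.fst this
  calc x * y = (y * x * y⁻¹) * y := by rw [← hx]
    _ = y * x := by group

/-- Let p be a prime and G a finite group. Then some Sylow p-subgroup of G is a direct factor of G (normal with a normal complement) if and only if for every element x of p-power order and every element y whose order is a power of a prime other than p, the conjugacy class of x y has as many elements as the product of the sizes of the classes of x and of y. -/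
theorem result {G : Type*} [Group G] [Finite G] (p : ℕ) [Fact p.Prime] : (∃ (P : Sylow p G) (K : Subgroup G), (P : Subgroup G).Normal ∧ K.Normal ∧ (P : Subgroup G) ⊓ K = ⊥ ∧ (P : Subgroup G) ⊔ K = ⊤) ↔ ∀ x y : G, (∃ a : ℕ, orderOf x = p ^ a) → (∃ q b : ℕ, q.Prime ∧ q ≠ p ∧ orderOf y = q ^ b) → (Subgroup.centralizer ({x * y} : Set G)).index = (Subgroup.centralizer ({x} : Set G)).index * (Subgroup.centralizer ({y} : Set G)).index := by
  constructor
  · rintro ⟨P, K, hPn, hKn, hinf, hsup⟩ x y hx hy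
    obtain ⟨q, b, hq, hqp, hyo⟩ := hy
    have hxP : x ∈ (P : Subgroup G) := Cfsg.Agent.S3986.mem_sylow_of_normal P x hx
    have hyK : y ∈ K := Cfsg.Agent.S3986.mem_complement P K hPn hKn hinf hsup y q b hq hqp hyo
    have hdisj : Disjoint (P : Subgroup G) K := disjoint_iff.mpr hinf
    have hcomm : ∀ a ∈ (P : Subgroup G), ∀ c ∈ K, a * c = c * a := fun a ha c hc =>
      (Subgroup.commute_of_normal_of_disjoint _ _ hPn hKn hdisj a c ha hc).eq
    rw [index_centralizer_eq_ncard_cls, index_centralizer_eq_ncard_cls,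
      index_centralizer_eq_ncard_cls, ← Set.ncard_prod]
    have hclsP : ∀ x' ∈ cls x, x' ∈ (P : Subgroup G) := by
      rintro _ ⟨c, rfl⟩; exact hPn.conj_mem x hxP c
    have hclsK : ∀ y' ∈ cls y, y' ∈ K := by
      rintro _ ⟨c, rfl⟩; exact hKn.conj_mem y hyK c
    have hinj : Set.InjOn (fun q : G × G => q.1 * q.2) (cls x ×ˢ cls y) := by
      rintro ⟨x1, y1⟩ ⟨hx1, hy1⟩ ⟨x2, y2⟩ ⟨hx2, hy2⟩ heq
      simp only at heq hx1 hy1 hx2 hy2
      have hmem : x2⁻¹ * x1 ∈ (P : Subgroup G) ⊓ K := by
        refine ⟨Subgroup.mul_mem _ (Subgroup.inv_mem _ (hclsP _ hx2)) (hclsP _ hx1), ?_⟩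
        have e : x2⁻¹ * x1 = y2 * y1⁻¹ := by
          have : x1 = x2 * y2 * y1⁻¹ := by rw [← heq]; group
          rw [this]; group
        rw [e]
        exact K.mul_mem (hclsK _ hy2) (K.inv_mem (hclsK _ hy1))
      rw [hinf, Subgroup.mem_bot] at hmem
      have hx12 : x1 = x2 := by
        have := inv_mul_eq_one.mp hmem
        exact this.symm
      subst hx12
      have hy12 : y1 = y2 := mul_left_cancel heq
      rw [hy12]
    have himg : (fun q : G × G => q.1 * q.2) '' (cls x ×ˢ cls y) = cls (x * y) := by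
      apply Set.Subset.antisymm
      · rintro _ ⟨⟨x', y'⟩, ⟨⟨a, rfl⟩, ⟨c, rfl⟩⟩, rfl⟩
        simp only
        -- decompose a and c along G = P K
        have haT : a ∈ (((P : Subgroup G) ⊔ K : Subgroup G) : Set G) := by rw [hsup]; trivial
        have hcT : c ∈ (((P : Subgroup G) ⊔ K : Subgroup G) : Set G) := by rw [hsup]; trivial
        rw [Subgroup.mul_normal] at haT hcT
        obtain ⟨aP, haP, aK, haK, rfl⟩ := Set.mem_mul.mp haT
        obtain ⟨cP, hcP, cK, hcK, rfl⟩ := Set.mem_mul.mp hcT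
        refine ⟨aP * cK, ?_⟩
        have e1 : aK * x * aK⁻¹ = x := by rw [← hcomm x hxP aK haK]; group
        have e2 : cK * x * cK⁻¹ = x := by rw [← hcomm x hxP cK hcK]; group
        have hy'K : cK * y * cK⁻¹ ∈ K := hKn.conj_mem y hyK cK
        have e3 : cP * (cK * y * cK⁻¹) * cP⁻¹ = cK * y * cK⁻¹ := by
          rw [hcomm cP hcP _ hy'K]; group
        have e4 : aP * (cK * y * cK⁻¹) * aP⁻¹ = cK * y * cK⁻¹ := by
          rw [hcomm aP haP _ hy'K]; group
        calc aP * aK * x * (aP * aK)⁻¹ * (cP * cK * y * (cP * cK)⁻¹)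
            = aP * (aK * x * aK⁻¹) * aP⁻¹ * (cP * (cK * y * cK⁻¹) * cP⁻¹) := by group
          _ = aP * x * aP⁻¹ * (cK * y * cK⁻¹) := by rw [e1, e3]
          _ = aP * (cK * x * cK⁻¹) * aP⁻¹ * (aP * (cK * y * cK⁻¹) * aP⁻¹) := by rw [e2, e4]
          _ = aP * cK * (x * y) * (aP * cK)⁻¹ := by group
      · exact cls_mul_subset x y
    rw [← himg, Set.InjOn.ncard_image hinj]
  · intro h
    apply Cfsg.Agent.S3986.direct_factor_of_commute p
    intro x y hx hy
    exact commute_of_index_eq x y (h x y hx hy)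

end Cfsg.Agent.S3987
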