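import Cfsg.Statements.S3992
import Mathlib
import Cfsg.Agent.S1475
import Cfsg.Agent.S0040
import Cfsg.Agent.S3857
import Cfsg.Agent.Lib.Helper6.FrobTools
import Cfsg.Agent.Lib.Helper9.Fitting
import Cfsg.Agent.Lib.Helper2.Cores
import Cfsg.Agent.Lib.Helper13.FpfCyclic
import Cfsg.Agent.Lib.Helper20.Signalizer
import Cfsg.Agent.Lib.Helper29.SylowSub

set_option autoImplicit false
open Cfsg
open Cfsg.Agent.Lib.Helper6.FrobTools
open scoped commutatorElement

universe u

namespace Cfsg.Agent.S3992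

/-- every nonidentity element has prime power order -/
def EPPO (G : Type*) [Group G] : Prop := ∀ g : G, g ≠ 1 → IsPrimePow (orderOf g)

theorem not_isPrimePow_mul {p q : ℕ} (hp : p.Prime) (hq : q.Prime) (hpq : p ≠ q) :
    ¬ IsPrimePow (p * q) := by
  intro h
  rw [isPrimePow_iff_unique_prime_dvd] at h
  obtain ⟨r, -, hr⟩ := h
  have h1 := hr p ⟨hp, dvd_mul_right p q⟩
  have h2 := hr q ⟨hq, dvd_mul_left q p⟩
  exact hpq (h1.trans h2.symm)

theorem EPPO.no_mixed {G : Type*} [Group G] (h : EPPO G) {x y : G} (hc : Commute x y) {p q : ℕ}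
    (hp : p.Prime) (hq : q.Prime) (hpq : p ≠ q) (hx : orderOf x = p) (hy : orderOf y = q) :
    False := by
  have ho := orderOf_mul_of_primes hp hq hpq hx hy hc
  have hne : x * y ≠ 1 := by
    intro h1
    rw [h1, orderOf_one] at ho
    have := hp.two_le
    have := hq.two_le
    nlinarith
  have := h (x * y) hne
  rw [ho] at this
  exact not_isPrimePow_mul hp hq hpq this

/-- commuting nontrivial elements of an EPPO group have orders which are powers of the same prime -/
theorem EPPO.same_prime {G : Type*} [Group G] [Finite G] (h : EPPO G) {x y : G} (hc : Commute x y)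
    {p q : ℕ} (hp : p.Prime) (hq : q.Prime) (hx : p ∣ orderOf x) (hy : q ∣ orderOf y) : p = q := by
  by_contra hpq
  obtain ⟨k, hk⟩ := exists_pow_prime_order x p hx
  obtain ⟨l, hl⟩ := exists_pow_prime_order y q hy
  exact h.no_mixed (hc.pow_pow k l) hp hq hpq hk hl

theorem EPPO.of_surjective {G Q : Type*} [Group G] [Finite G] [Group Q] (h : EPPO G) (f : G →* Q)
    (hf : Function.Surjective f) : EPPO Q := by
  intro q hq1
  obtain ⟨g, rfl⟩ := hf q
  have hg1 : g ≠ 1 := by rintro rfl; exact hq1 (map_one f)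
  obtain ⟨r, k, hr, hk, hrk⟩ := h g hg1
  have hdvd : orderOf (f g) ∣ r ^ k := by rw [hrk]; exact orderOf_map_dvd f g
  obtain ⟨j, -, hj⟩ := (Nat.dvd_prime_pow hr.nat_prime).mp hdvd
  refine ⟨r, j, hr, ?_, hj.symm⟩
  rcases Nat.eq_zero_or_pos j with h0 | h0
  · exfalso
    rw [h0, pow_zero] at hj
    exact hq1 (orderOf_eq_one_iff.mp hj)
  · exact h0

theorem EPPO.of_injective {G K : Type*} [Group G] [Group K] (h : EPPO G) (f : K →* G)
    (hf : Function.Injective f) : EPPO K := by
  intro k hk1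
  have : f k ≠ 1 := fun h1 => hk1 (hf (h1.trans (map_one f).symm))
  rw [← orderOf_injective f hf k]
  exact h (f k) this

/-- a subgroup whose commutator subgroup lies in a `q`-group is solvable -/
theorem solvable_of_commutator_le_pgroup {G : Type*} [Group G] [Finite G] (X C : Subgroup G)
    (q : ℕ) [Fact q.Prime] (hC : IsPGroup q C) (hXC : ⁅X, X⁆ ≤ C) : Group.IsSolvable X := by
  have hpg : IsPGroup q (commutator ↥X) := by
    have hmap : (commutator ↥X).map X.subtype ≤ C := by
      rw [commutator_def, Subgroup.map_commutator, ← MonoidHom.range_eq_map,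
        Subgroup.range_subtype]
      exact hXC
    have hinj : Function.Injective ((X.subtype.comp (commutator ↥X).subtype).codRestrict C
        (fun y => hmap (Subgroup.mem_map_of_mem _ y.2))) := by
      intro a b hab
      have := congrArg Subtype.val hab
      exact Subtype.ext (Subtype.ext this)
    exact hC.of_injective _ hinj
  haveI : Group.IsSolvable (commutator ↥X) := by
    haveI := hpg.isNilpotent
    infer_instance
  apply solvable_of_ker_le_range (commutator ↥X).subtype (Abelianization.of (G := ↥X))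
  rw [Abelianization.ker_of, Subgroup.range_subtype]

theorem prime_dvd_orderOf_of_isPGroup {G : Type*} [Group G] {p : ℕ} [hp : Fact p.Prime]
    {K : Subgroup G} (hK : IsPGroup p K) {x : G} (hx : x ∈ K) (hx1 : x ≠ 1) : p ∣ orderOf x := by
  obtain ⟨k, hk⟩ := hK ⟨x, hx⟩
  have hk' : x ^ p ^ k = 1 := by
    have := congrArg Subtype.val hk
    simpa using this
  obtain ⟨j, -, hj⟩ := (Nat.dvd_prime_pow hp.out).mp (orderOf_dvd_of_pow_eq_one hk')
  rw [hj]
  apply dvd_pow_self
  rintro rfl
  rw [pow_zero] at hj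
  exact hx1 (orderOf_eq_one_iff.mp hj)

theorem normalizer_solvable {G : Type u} [Group G] [Finite G] (hpp : EPPO G) (p q : ℕ)
    [hp : Fact p.Prime] [hq : Fact q.Prime] (hpq : p ≠ q)
    (K E : Subgroup G) [hKn : K.Normal] (hK : K ≠ ⊥) (hKp : IsPGroup p K) (hE : E ≠ ⊥)
    (hEq : IsPGroup q E) : Group.IsSolvable ↥(Subgroup.normalizer (E : Set G)) := by
  have hfpf : ∀ a ∈ E, a ≠ 1 → K ⊓ Subgroup.centralizer {a} = ⊥ := by
    intro a ha ha1
    rw [eq_bot_iff]
    intro x hx
    rw [Subgroup.mem_bot]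
    obtain ⟨hxK, hxC⟩ := Subgroup.mem_inf.mp hx
    by_contra hx1
    have hc : Commute x a := (Subgroup.mem_centralizer_iff.mp hxC a rfl).symm
    exact hpq (hpp.same_prime hc hp.out hq.out (prime_dvd_orderOf_of_isPGroup hKp hxK hx1)
      (prime_dvd_orderOf_of_isPGroup hEq ha ha1))
  -- uniqueness of subgroups of order q in E
  have huniq' := Cfsg.Agent.S0040.unique_order_p (P := ↥E) q hEq (by
    intro A hA
    have hle : A.map E.subtype ≤ E := Subgroup.map_subtype_le _
    have hcyc : IsCyclic (A.map E.subtype) := by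
      apply Cfsg.Agent.Lib.Helper13.fpf_cyclic (A.map E.subtype) K hK
      · rw [Subgroup.normalizer_eq_top]; exact le_top
      · intro a ha ha1
        exact hfpf a (hle ha) ha1
      · left
        infer_instance
    exact isCyclic_of_surjective (A.equivMapOfInjective E.subtype E.subtype_injective).symm
      (A.equivMapOfInjective E.subtype E.subtype_injective).symm.surjective)
  have huniq : ∀ X Y : Subgroup G, X ≤ E → Y ≤ E → Nat.card X = q → Nat.card Y = q → X = Y := by
    intro X Y hX hY hXc hYc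
    have := huniq' (X.subgroupOf E) (Y.subgroupOf E)
      (by rw [Cfsg.Agent.Lib.Helper29.card_subgroupOf_of_le hX]; exact hXc)
      (by rw [Cfsg.Agent.Lib.Helper29.card_subgroupOf_of_le hY]; exact hYc)
    have h2 := congrArg (Subgroup.map E.subtype) this
    rwa [Subgroup.map_subgroupOf_eq_of_le hX, Subgroup.map_subgroupOf_eq_of_le hY] at h2
  -- an element of order q
  have hqE : q ∣ Nat.card E := by
    obtain ⟨n, hn⟩ := IsPGroup.iff_card.mp hEq
    rw [hn]
    apply dvd_pow_self
    rintro rfl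
    rw [pow_zero] at hn
    exact hE (Subgroup.card_eq_one.mp hn)
  obtain ⟨z', hz'⟩ := exists_prime_orderOf_dvd_card' q hqE
  obtain ⟨z, hzd⟩ : ∃ z : G, z = (z' : G) := ⟨_, rfl⟩
  have hzE : z ∈ E := by rw [hzd]; exact z'.2
  have hoz : orderOf z = q := by rw [hzd, Subgroup.orderOf_coe]; exact hz'
  have hz1 : z ≠ 1 := by
    rintro rfl; rw [orderOf_one] at hoz; exact hq.out.one_lt.ne hoz
  have hconj : ∀ a ∈ Subgroup.normalizer (E : Set G), ∃ i : ℤ, a * z * a⁻¹ = z ^ i := by
    intro a ha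
    have h1 : a * z * a⁻¹ ∈ E := (Subgroup.mem_normalizer_iff.mp ha z).mp hzE
    have h2 : orderOf (a * z * a⁻¹) = q := by
      rw [← hoz]
      exact orderOf_injective (MulAut.conj a).toMonoidHom (MulAut.conj a).injective z
    have h3 := huniq (Subgroup.zpowers (a * z * a⁻¹)) (Subgroup.zpowers z)
      (Subgroup.zpowers_le.mpr h1) (Subgroup.zpowers_le.mpr hzE)
      (by rw [Nat.card_zpowers, h2]) (by rw [Nat.card_zpowers, hoz])
    have h4 : a * z * a⁻¹ ∈ Subgroup.zpowers z := by
      rw [← h3]; exact Subgroup.mem_zpowers _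
    obtain ⟨i, hi⟩ := Subgroup.mem_zpowers_iff.mp h4
    exact ⟨i, hi.symm⟩
  have key : ∀ a ∈ Subgroup.normalizer (E : Set G), ∀ b ∈ Subgroup.normalizer (E : Set G),
      a * b * z * (a * b)⁻¹ = b * a * z * (b * a)⁻¹ := by
    intro a ha b hb
    obtain ⟨i, hi⟩ := hconj a ha
    obtain ⟨j, hj⟩ := hconj b hb
    have e1 : a * b * z * (a * b)⁻¹ = a * (b * z * b⁻¹) * a⁻¹ := by group
    have e2 : b * a * z * (b * a)⁻¹ = b * (a * z * a⁻¹) * b⁻¹ := by group
    rw [e1, e2, hj, hi, ← conj_zpow, ← conj_zpow, hi, hj, ← zpow_mul, ← zpow_mul, mul_comm]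
  have hcomm : ⁅Subgroup.normalizer (E : Set G), Subgroup.normalizer (E : Set G)⁆ ≤
      Subgroup.centralizer {z} := by
    rw [Subgroup.commutator_le]
    intro a ha b hb
    rw [Subgroup.mem_centralizer_iff]
    intro y hy
    rw [Set.mem_singleton_iff] at hy
    subst hy
    have h := key a⁻¹ (Subgroup.inv_mem _ ha) b⁻¹ (Subgroup.inv_mem _ hb)
    rw [commutatorElement_def]
    calc y * (a * b * a⁻¹ * b⁻¹)
        = a * b * (b⁻¹ * a⁻¹ * y * (b⁻¹ * a⁻¹)⁻¹) * (a⁻¹ * b⁻¹) := by group
      _ = a * b * (a⁻¹ * b⁻¹ * y * (a⁻¹ * b⁻¹)⁻¹) * (a⁻¹ * b⁻¹) := by rw [h]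
      _ = a * b * a⁻¹ * b⁻¹ * y := by group
  have hCq : IsPGroup q (Subgroup.centralizer ({z} : Set G)) := by
    intro c
    obtain ⟨c, hc⟩ := c
    by_cases hc1 : c = 1
    · refine ⟨0, ?_⟩
      apply Subtype.ext
      show c ^ q ^ 0 = 1
      rw [hc1, one_pow]
    obtain ⟨r, k, hr, hk, hrk⟩ := hpp c hc1
    have hrc : r ∣ orderOf c := by rw [← hrk]; exact dvd_pow_self r hk.ne'
    have hcz : Commute c z := (Subgroup.mem_centralizer_iff.mp hc z rfl).symm
    have hrq : r = q := hpp.same_prime hcz hr.nat_prime hq.out hrc (by rw [hoz])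
    refine ⟨k, ?_⟩
    apply Subtype.ext
    show c ^ q ^ k = 1
    rw [← hrq, hrk]
    exact pow_orderOf_eq_one c
  exact solvable_of_commutator_le_pgroup _ _ q hCq hcomm

theorem part1 {G : Type u} [Group G] [Finite G] (hns : ¬ Group.IsSolvable G) (hpp : EPPO G)
    (R : Subgroup G) [hRn : R.Normal] (hRs : Group.IsSolvable ↥R) :
    ∃ p : ℕ, p.Prime ∧ IsPGroup p ↥R := by
  by_contra hcon
  push Not at hcon
  have hR1 : Nat.card R ≠ 1 := by
    intro h
    apply hcon 2 Nat.prime_two
    rw [IsPGroup.iff_card]; exact ⟨0, by rw [h, pow_zero]⟩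
  haveI := hRs
  have hF1 : fittingSubgroup ↥R ≠ ⊥ := Cfsg.Agent.S3857.fitting_ne_bot hR1
  have hFnil : Group.IsNilpotent (fittingSubgroup ↥R) :=
    Cfsg.Agent.Lib.Helper2.fittingSubgroup_isNilpotent
  haveI hFchar := Cfsg.Agent.Lib.Helper9.fittingSubgroup_characteristic ↥R
  have hFcard1 : Nat.card (fittingSubgroup ↥R) ≠ 1 := fun h => hF1 (Subgroup.card_eq_one.mp h)
  obtain ⟨p, hp, hpF⟩ := Nat.exists_prime_and_dvd hFcard1
  haveI : Fact p.Prime := ⟨hp⟩
  have hEP_R : EPPO ↥R := hpp.of_injective R.subtype R.subtype_injective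
  have hEP_F : EPPO ↥(fittingSubgroup ↥R) :=
    hEP_R.of_injective _ (Subgroup.subtype_injective _)
  have hFp : IsPGroup p (fittingSubgroup ↥R) := by
    rw [IsPGroup.iff_card]
    have hall : ∀ {r : ℕ}, r.Prime → r ∣ Nat.card (fittingSubgroup ↥R) → r = p := by
      intro r hr hrd
      by_contra hne
      haveI := hFnil
      obtain ⟨g, hg⟩ := exists_mixed_of_nilpotent (N := ↥(fittingSubgroup ↥R)) r p hr hp hne hrd hpF
      have hg1 : g ≠ 1 := by
        rintro rfl
        rw [orderOf_one] at hg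
        have := hr.two_le
        have := hp.two_le
        nlinarith
      have := hEP_F g hg1
      rw [hg] at this
      exact not_isPrimePow_mul hr hp hne this
    exact ⟨_, Nat.eq_prime_pow_of_unique_prime_dvd Nat.card_pos.ne' hall⟩
  obtain ⟨P₀, hP₀d⟩ : ∃ P₀ : Subgroup G, P₀ = (fittingSubgroup ↥R).map R.subtype := ⟨_, rfl⟩
  haveI hP₀n : P₀.Normal := by rw [hP₀d]; exact ConjAct.normal_of_characteristic_of_normal
  have hP₀p : IsPGroup p P₀ := by rw [hP₀d]; exact hFp.map _
  have hP₀1 : P₀ ≠ ⊥ := by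
    rw [hP₀d]
    intro h
    rw [Subgroup.map_eq_bot_iff_of_injective _ R.subtype_injective] at h
    exact hF1 h
  obtain ⟨q, hq, hqR, hqp⟩ : ∃ q : ℕ, q.Prime ∧ q ∣ Nat.card R ∧ q ≠ p := by
    by_contra hno
    push Not at hno
    apply hcon p hp
    rw [IsPGroup.iff_card]
    exact ⟨_, Nat.eq_prime_pow_of_unique_prime_dvd Nat.card_pos.ne'
      (fun {r} hr hrd => hno r hr hrd)⟩
  haveI : Fact q.Prime := ⟨hq⟩
  obtain ⟨Q⟩ : Nonempty (Sylow q ↥R) := inferInstance
  obtain ⟨Q₀, hQ₀d⟩ : ∃ Q₀ : Subgroup G, Q₀ = (Q : Subgroup ↥R).map R.subtype := ⟨_, rfl⟩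
  have hfrat : Subgroup.normalizer (Q₀ : Set G) ⊔ R = ⊤ := by
    rw [hQ₀d]; exact Sylow.normalizer_sup_eq_top Q
  have hQ₀q : IsPGroup q Q₀ := by rw [hQ₀d]; exact Q.isPGroup'.map _
  have hQ₀1 : Q₀ ≠ ⊥ := by
    rw [hQ₀d]
    intro h
    rw [Subgroup.map_eq_bot_iff_of_injective _ R.subtype_injective] at h
    exact Q.ne_bot_of_dvd_card hqR h
  have hXsol := normalizer_solvable hpp p q hqp.symm P₀ Q₀ hP₀1 hP₀p hQ₀1 hQ₀q
  have hsup := Cfsg.Agent.Lib.Helper20.isSolvable_sup_of_le_normalizer R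
    (Subgroup.normalizer (Q₀ : Set G))
    (by rw [show Subgroup.normalizer (R : Set G) = ⊤ from Subgroup.normalizer_eq_top R]; exact le_top)
    hRs hXsol
  rw [sup_comm, hfrat] at hsup
  apply hns
  haveI := hsup
  exact solvable_of_solvable_injective (f := (Subgroup.topEquiv (G := G)).symm.toMonoidHom)
    (Subgroup.topEquiv (G := G)).symm.injective

theorem isPGroup_of_commuting {X : Type*} [Group X] [Finite X] (h : EPPO X) (A B : Subgroup X)
    (hAB : ∀ a ∈ A, ∀ b ∈ B, Commute a b) (hB : B ≠ ⊥) : ∃ q : ℕ, q.Prime ∧ IsPGroup q A := by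
  have hB1 : Nat.card B ≠ 1 := fun hc => hB (Subgroup.card_eq_one.mp hc)
  obtain ⟨q, hq, hqB⟩ := Nat.exists_prime_and_dvd hB1
  haveI : Fact q.Prime := ⟨hq⟩
  obtain ⟨y', hy'⟩ := exists_prime_orderOf_dvd_card' q hqB
  have hoy : orderOf (y' : X) = q := by rw [Subgroup.orderOf_coe]; exact hy'
  refine ⟨q, hq, ?_⟩
  rintro ⟨a, ha⟩
  by_cases ha1 : a = 1
  · refine ⟨0, ?_⟩
    apply Subtype.ext
    show a ^ q ^ 0 = 1
    rw [ha1, one_pow]
  obtain ⟨r, k, hr, hk, hrk⟩ := h a ha1
  have hra : r ∣ orderOf a := by rw [← hrk]; exact dvd_pow_self r hk.ne'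
  have hrq : r = q := h.same_prime (hAB a ha y' y'.2) hr.nat_prime hq hra (by rw [hoy])
  refine ⟨k, ?_⟩
  apply Subtype.ext
  show a ^ q ^ k = 1
  rw [← hrq, hrk]
  exact pow_orderOf_eq_one a

theorem solvable_comap {G : Type*} [Group G] (R : Subgroup G) [hRn : R.Normal]
    (hRs : Group.IsSolvable ↥R) (N : Subgroup (G ⧸ R)) (hN : Group.IsSolvable ↥N) :
    Group.IsSolvable ↥(N.comap (QuotientGroup.mk' R)) := by
  have hRle : R ≤ N.comap (QuotientGroup.mk' R) := by
    intro x hx
    rw [Subgroup.mem_comap]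
    have : QuotientGroup.mk' R x = 1 := (QuotientGroup.eq_one_iff x).mpr hx
    rw [this]; exact N.one_mem
  apply solvable_of_ker_le_range (Subgroup.inclusion hRle)
    (((QuotientGroup.mk' R).comp (N.comap (QuotientGroup.mk' R)).subtype).codRestrict N
      (fun x => x.2))
  intro x hx
  rw [MonoidHom.mem_ker] at hx
  have h1 : QuotientGroup.mk' R (x : G) = 1 := congrArg Subtype.val hx
  have h2 : (x : G) ∈ R := (QuotientGroup.eq_one_iff _).mp h1
  exact ⟨⟨x, h2⟩, Subtype.ext rfl⟩

theorem isSolvable_of_isPGroup' {X : Type*} [Group X] [Finite X] {p : ℕ} (hp : p.Prime)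
    (h : IsPGroup p X) : Group.IsSolvable X := by
  haveI : Fact p.Prime := ⟨hp⟩
  haveI := h.isNilpotent
  infer_instance

theorem part2 {G : Type u} [Group G] [Finite G] (hns : ¬ Group.IsSolvable G) (hpp : EPPO G)
    (R : Subgroup G) [hRn : R.Normal] (hRs : Group.IsSolvable ↥R)
    (hRmax : ∀ N : Subgroup G, N.Normal → Group.IsSolvable ↥N → N ≤ R) :
    ∃ M : Subgroup (G ⧸ R), M.Normal ∧ IsSimpleGroup ↥M ∧ ¬ IsMulCommutative ↥M ∧
        ∀ N : Subgroup (G ⧸ R), N.Normal → N ≠ ⊥ → M ≤ N := by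
  have hQE : EPPO (G ⧸ R) :=
    hpp.of_surjective (QuotientGroup.mk' R) (QuotientGroup.mk'_surjective R)
  -- (a) the solvable radical of the quotient is trivial
  have hrad : ∀ N : Subgroup (G ⧸ R), N.Normal → Group.IsSolvable ↥N → N = ⊥ := by
    intro N hNn hNs
    have h1 := solvable_comap R hRs N hNs
    have h2 : N.comap (QuotientGroup.mk' R) ≤ R := hRmax _ (hNn.comap _) h1
    rw [eq_bot_iff, ← Subgroup.map_comap_eq_self_of_surjective (QuotientGroup.mk'_surjective R) N,
      ← QuotientGroup.map_mk'_self R]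
    exact Subgroup.map_mono h2
  -- (b) a minimal normal subgroup
  have htop : (⊤ : Subgroup (G ⧸ R)) ≠ ⊥ := by
    intro h
    apply hns
    have h1 : Group.IsSolvable ↥(⊤ : Subgroup (G ⧸ R)) := by
      rw [h]; infer_instance
    have h2 := hRmax ⊤ inferInstance (by
      have := solvable_comap R hRs ⊤ h1
      rwa [Subgroup.comap_top] at this)
    haveI : Group.IsSolvable ↥(⊤ : Subgroup G) := by
      rw [top_le_iff] at h2
      rw [← h2]; exact hRs
    exact solvable_of_solvable_injective (f := (Subgroup.topEquiv (G := G)).symm.toMonoidHom)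
      (Subgroup.topEquiv (G := G)).symm.injective
  obtain ⟨M, ⟨hMn, hM1⟩, hMmin⟩ := WellFounded.has_min (wellFounded_lt (α := Subgroup (G ⧸ R)))
    {N | N.Normal ∧ N ≠ ⊥} ⟨⊤, inferInstance, htop⟩
  haveI := hMn
  have hMmin' : ∀ N : Subgroup (G ⧸ R), N.Normal → N ≠ ⊥ → N ≤ M → N = M := by
    intro N hNn hN1 hNM
    by_contra hne
    exact hMmin N ⟨hNn, hN1⟩ (lt_of_le_of_ne hNM hne)
  have hMns : ¬ Group.IsSolvable ↥M := fun h => hM1 (hrad M hMn h)
  have hME : EPPO ↥M := hQE.of_injective M.subtype M.subtype_injective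
  refine ⟨M, hMn, ?_, ?_, ?_⟩
  · -- simplicity
    haveI : Nontrivial ↥M := (Subgroup.nontrivial_iff_ne_bot M).mpr hM1
    have htopM : (⊤ : Subgroup ↥M) ≠ ⊥ := top_ne_bot
    obtain ⟨S', ⟨hS'n, hS'1⟩, hS'min⟩ := WellFounded.has_min (wellFounded_lt (α := Subgroup ↥M))
      {N | N.Normal ∧ N ≠ ⊥} ⟨⊤, inferInstance, htopM⟩
    haveI := hS'n
    have hS'min' : ∀ N : Subgroup ↥M, N.Normal → N ≠ ⊥ → N ≤ S' → N = S' := by
      intro N hNn hN1 hNS
      by_contra hne
      exact hS'min N ⟨hNn, hN1⟩ (lt_of_le_of_ne hNS hne)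
    have hS'top : S' = ⊤ := by
      by_contra hS'ne
      obtain ⟨S, hSd⟩ : ∃ S : Subgroup (G ⧸ R), S = S'.map M.subtype := ⟨_, rfl⟩
      have hSM : S ≤ M := by rw [hSd]; exact Subgroup.map_subtype_le _
      have hS1 : S ≠ ⊥ := by
        rw [hSd]
        intro h
        rw [Subgroup.map_eq_bot_iff_of_injective _ M.subtype_injective] at h
        exact hS'1 h
      have hSneM : S ≠ M := by
        intro h
        apply hS'ne
        have h2 : S'.map M.subtype = (⊤ : Subgroup ↥M).map M.subtype := by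
          rw [← hSd, h, ← MonoidHom.range_eq_map, Subgroup.range_subtype]
        exact Subgroup.map_injective M.subtype_injective h2
      have hSnorm : ∀ x ∈ M, ∀ s ∈ S, x * s * x⁻¹ ∈ S := by
        intro x hx s hs
        rw [hSd] at hs ⊢
        obtain ⟨s', hs', rfl⟩ := hs
        exact ⟨⟨x, hx⟩ * s' * ⟨x, hx⟩⁻¹, hS'n.conj_mem s' hs' ⟨x, hx⟩, rfl⟩
      have hSnotnormal : ¬ S.Normal := fun h => hSneM (hMmin' S h hS1 hSM)
      -- a conjugate different from S
      obtain ⟨g, s, hs, hgs⟩ : ∃ g : G ⧸ R, ∃ s ∈ S, g * s * g⁻¹ ∉ S := by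
        by_contra hno
        push Not at hno
        exact hSnotnormal ⟨fun s hs g => hno g s hs⟩
      -- T' = (conj g • S) as a subgroup of M
      obtain ⟨T', hT'd⟩ : ∃ T' : Subgroup ↥M,
          T' = (S.map (MulAut.conj g).toMonoidHom).subgroupOf M := ⟨_, rfl⟩
      have hT'mem : ∀ y : ↥M, y ∈ T' ↔ ∃ s ∈ S, g * s * g⁻¹ = (y : G ⧸ R) := by
        intro y
        rw [hT'd, Subgroup.mem_subgroupOf, Subgroup.mem_map]
        rfl
      haveI hT'n : T'.Normal := by
        constructor
        intro y hy x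
        rw [hT'mem] at hy ⊢
        obtain ⟨s, hs, hsy⟩ := hy
        refine ⟨(g⁻¹ * x * g) * s * (g⁻¹ * x * g)⁻¹, hSnorm _ ?_ s hs, ?_⟩
        · have := hMn.conj_mem _ x.2 g⁻¹
          rwa [inv_inv] at this
        · show g * ((g⁻¹ * x * g) * s * (g⁻¹ * x * g)⁻¹) * g⁻¹ =
            (x : G ⧸ R) * (y : G ⧸ R) * (x : G ⧸ R)⁻¹
          rw [← hsy]; group
      have hT'1 : T' ≠ ⊥ := by
        intro h
        have hsM : g * s * g⁻¹ ∈ M := hMn.conj_mem _ (hSM hs) g
        have : (⟨g * s * g⁻¹, hsM⟩ : ↥M) ∈ T' := (hT'mem _).mpr ⟨s, hs, rfl⟩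
        rw [h, Subgroup.mem_bot] at this
        have h2 : g * s * g⁻¹ = 1 := congrArg Subtype.val this
        apply hgs
        rw [h2]; exact S.one_mem
      have hcardT : Nat.card T' = Nat.card S' := by
        have h1 : Nat.card T' = Nat.card (S.map (MulAut.conj g).toMonoidHom) := by
          rw [hT'd]
          apply Cfsg.Agent.Lib.Helper29.card_subgroupOf_of_le
          rintro _ ⟨s, hs, rfl⟩
          exact hMn.conj_mem _ (hSM hs) g
        rw [h1, Subgroup.card_map_of_injective (MulAut.conj g).injective, hSd,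
          Subgroup.card_map_of_injective M.subtype_injective]
      have hdisj : S' ⊓ T' = ⊥ := by
        by_contra hne
        have h1 := hS'min' (S' ⊓ T') inferInstance hne inf_le_left
        have h2 : S' ≤ T' := by rw [← h1]; exact inf_le_right
        have h3 : S' = T' := Subgroup.eq_of_le_of_card_ge h2 hcardT.le
        apply hgs
        have hsM : g * s * g⁻¹ ∈ M := hMn.conj_mem _ (hSM hs) g
        have h4 : (⟨g * s * g⁻¹, hsM⟩ : ↥M) ∈ S' := by
          rw [h3]; exact (hT'mem _).mpr ⟨s, hs, rfl⟩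
        rw [hSd]
        exact ⟨_, h4, rfl⟩
      have hcomm : ∀ a ∈ S', ∀ b ∈ T', Commute a b := fun a ha b hb =>
        Subgroup.commute_of_normal_of_disjoint S' T' inferInstance inferInstance
          (disjoint_iff.mpr hdisj) a b ha hb
      obtain ⟨q, hq, hS'q⟩ := isPGroup_of_commuting hME S' T' hcomm hT'1
      haveI : Fact q.Prime := ⟨hq⟩
      have hle : S' ≤ pCore q ↥M := Cfsg.Agent.Lib.Helper2.le_pCore hS'n hS'q
      haveI := Cfsg.Agent.Lib.Helper9.pCore_characteristic q ↥M
      have hOn : ((pCore q ↥M).map M.subtype).Normal := ConjAct.normal_of_characteristic_of_normal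
      have hO1 : (pCore q ↥M).map M.subtype ≠ ⊥ := by
        intro h
        rw [Subgroup.map_eq_bot_iff_of_injective _ M.subtype_injective] at h
        rw [h, le_bot_iff] at hle
        exact hS'1 hle
      have hOM := hMmin' _ hOn hO1 (Subgroup.map_subtype_le _)
      have hOtop : pCore q ↥M = ⊤ := by
        apply Subgroup.map_injective M.subtype_injective
        rw [hOM, ← MonoidHom.range_eq_map, Subgroup.range_subtype]
      apply hMns
      have hMq : IsPGroup q ↥M := by
        have := Cfsg.Agent.Lib.Helper2.pCore_isPGroup (G := ↥M) q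
        rw [hOtop] at this
        exact this.of_injective (Subgroup.topEquiv (G := ↥M)).symm.toMonoidHom
          (Subgroup.topEquiv (G := ↥M)).symm.injective
      exact isSolvable_of_isPGroup' hq hMq
    refine ⟨fun T' hT'n => ?_⟩
    by_cases hT'1 : T' = ⊥
    · exact Or.inl hT'1
    · right
      by_contra hne
      exact hS'min T' ⟨hT'n, hT'1⟩ (by rw [hS'top]; exact lt_top_iff_ne_top.mpr hne)
  · intro hcomm
    apply hMns
    exact isSolvable_of_comm (fun a b => hcomm.is_comm.comm a b)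
  · intro N hNn hN1
    haveI := hNn
    by_cases hMN : M ⊓ N = ⊥
    · exfalso
      have hcomm : ∀ a ∈ M, ∀ b ∈ N, Commute a b := fun a ha b hb =>
        Subgroup.commute_of_normal_of_disjoint M N inferInstance inferInstance
          (disjoint_iff.mpr hMN) a b ha hb
      obtain ⟨q, hq, hMq⟩ := isPGroup_of_commuting hQE M N hcomm hN1
      exact hMns (isSolvable_of_isPGroup' hq hMq)
    · have := hMmin' (M ⊓ N) inferInstance hMN inf_le_left
      rw [← this]; exact inf_le_right

end Cfsg.Agent.S3992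

namespace Cfsg.Agent.S3992

/-- Let G be a finite non-solvable group in which every element has prime-power order, and let R be its largest solvable normal subgroup. Then R is a p-group for some prime p; G/R has a non-abelian simple normal subgroup contained in every nontrivial normal subgroup of G/R (its unique minimal normal subgroup); and the order of every solvable subgroup of G has at most two prime divisors. -/
theorem result {G : Type*} [Group G] [Finite G] (hns : ¬ Group.IsSolvable G) (hpp : ∀ g : G, g ≠ 1 → IsPrimePow (orderOf g))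
    (R : Subgroup G) [R.Normal] (hRs : Group.IsSolvable ↥R) (hRmax : ∀ N : Subgroup G, N.Normal → Group.IsSolvable ↥N → N ≤ R) :
    (∃ p : ℕ, p.Prime ∧ IsPGroup p ↥R) ∧
      (∃ M : Subgroup (G ⧸ R), M.Normal ∧ IsSimpleGroup ↥M ∧ ¬ IsMulCommutative ↥M ∧
        ∀ N : Subgroup (G ⧸ R), N.Normal → N ≠ ⊥ → M ≤ N) ∧
      ∀ H : Subgroup G, Group.IsSolvable ↥H → (Nat.card ↥H).primeFactors.card ≤ 2 := by
  have hE : EPPO G := hpp
  refine ⟨part1 hns hE R hRs, part2 hns hE R hRs hRmax, ?_⟩
  intro H hH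
  haveI := hH
  apply Cfsg.Agent.S1475.result
  intro g
  by_cases hg : g = 1
  · exact Or.inr hg
  · left
    rw [← Subgroup.orderOf_coe]
    exact hpp (g : G) (fun h => hg (Subtype.ext h))

end Cfsg.Agent.S3992
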