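import Mathlib
import Cfsg.Statements.S3994
import Cfsg.Agent.Lib.Helper12.Frobenius
-- import your own Cfsg.Agent.* helpers here

set_option autoImplicit false
open Cfsg

namespace Cfsg.Agent.S3994

open Cfsg.Agent.Lib.Helper12.Frobenius

/-- The `π'`-part `N / gcd N (n^N)` of `N` is coprime to `n`. -/
theorem coprime_compl (N n : ℕ) (hN : 0 < N) (hn : 0 < n) :
    Nat.Coprime n (N / Nat.gcd N (n ^ N)) := by
  set r := Nat.gcd N (n ^ N) with hr
  have hrN : r ∣ N := Nat.gcd_dvd_left _ _
  have hr0 : r ≠ 0 := Nat.gcd_ne_zero_left hN.ne'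
  have hs0 : N / r ≠ 0 := by
    have := Nat.div_mul_cancel hrN
    intro h
    rw [h, zero_mul] at this
    omega
  apply Nat.Coprime.symm
  rw [Nat.coprime_iff_gcd_eq_one]
  by_contra hne
  obtain ⟨l, hl, hldvd⟩ := Nat.exists_prime_and_dvd hne
  have hls : l ∣ N / r := hldvd.trans (Nat.gcd_dvd_left _ _)
  have hln : l ∣ n := hldvd.trans (Nat.gcd_dvd_right _ _)
  have h1 : 1 ≤ (N / r).factorization l :=
    (hl.dvd_iff_one_le_factorization hs0).mp hls
  have h2 : 1 ≤ n.factorization l := (hl.dvd_iff_one_le_factorization hn.ne').mp hln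
  rw [Nat.factorization_div hrN] at h1
  have h3 : r.factorization = N.factorization ⊓ (n ^ N).factorization :=
    Nat.factorization_gcd hN.ne' (pow_ne_zero _ hn.ne')
  have h4 : r.factorization l = min (N.factorization l) (N * n.factorization l) := by
    rw [h3, Nat.factorization_pow]
    simp
  have h5 : N.factorization l < N := Nat.factorization_lt l hN.ne'
  have h6 : N.factorization l ≤ N * n.factorization l := by nlinarith
  rw [min_eq_left h6] at h4
  simp only [Finsupp.coe_tsub, Pi.sub_apply] at h1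
  omega

theorem card_commute_conj {G : Type*} [Group G] (g y : G) (k : ℕ) :
    Nat.card {z : G // z ^ k = 1 ∧ Commute (g * y * g⁻¹) z} =
      Nat.card {z : G // z ^ k = 1 ∧ Commute y z} := by
  apply Nat.card_congr
  refine
    { toFun := fun z => ⟨g⁻¹ * z.1 * g, ?_, ?_⟩
      invFun := fun z => ⟨g * z.1 * g⁻¹, ?_, ?_⟩
      left_inv := ?_
      right_inv := ?_ }
  · have := conj_pow (a := g⁻¹) (b := z.1) (i := k)
    rw [inv_inv] at this
    rw [this, z.2.1, mul_one, inv_mul_cancel]
  · have h := z.2.2.eq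
    show y * (g⁻¹ * z.1 * g) = (g⁻¹ * z.1 * g) * y
    have e1 : y * (g⁻¹ * z.1 * g) = g⁻¹ * ((g * y * g⁻¹) * z.1) * g := by group
    have e2 : (g⁻¹ * z.1 * g) * y = g⁻¹ * (z.1 * (g * y * g⁻¹)) * g := by group
    rw [e1, e2, h]
  · rw [conj_pow, z.2.1, mul_one, mul_inv_cancel]
  · have h := z.2.2.eq
    show (g * y * g⁻¹) * (g * z.1 * g⁻¹) = (g * z.1 * g⁻¹) * (g * y * g⁻¹)
    have e1 : (g * y * g⁻¹) * (g * z.1 * g⁻¹) = g * (y * z.1) * g⁻¹ := by group
    have e2 : (g * z.1 * g⁻¹) * (g * y * g⁻¹) = g * (z.1 * y) * g⁻¹ := by group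
    rw [e1, e2, h]
  · intro z
    apply Subtype.ext
    show g * (g⁻¹ * z.1 * g) * g⁻¹ = z.1
    group
  · intro z
    apply Subtype.ext
    show g⁻¹ * (g * z.1 * g⁻¹) * g = z.1
    group

theorem dvd_index_mul_card_commute {G : Type*} [Group G] [Finite G] (y : G) (s : ℕ)
    (hs : s ∣ Nat.card G) :
    s ∣ (Subgroup.centralizer ({y} : Set G)).index *
      Nat.card {z : G // z ^ s = 1 ∧ Commute y z} := by
  rw [card_commute_eq]
  have h1 := frobenius_gcd (G := Subgroup.centralizer ({y} : Set G)) s
  have h2 : s ∣ (Subgroup.centralizer ({y} : Set G)).index *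
      Nat.gcd s (Nat.card (Subgroup.centralizer ({y} : Set G))) := by
    rw [← Nat.gcd_mul_left]
    apply Nat.dvd_gcd
    · exact Dvd.intro_left _ rfl
    · rw [Subgroup.index_mul_card]
      exact hs
  exact h2.trans (Nat.mul_dvd_mul_left _ h1)

/-- Let G be a finite group and n a positive integer. The number of elements of G whose order is divisible by n is either 0 or divisible by the largest divisor of the order of G that is coprime to n. -/
theorem result {G : Type*} [Group G] [Finite G] (n : ℕ) (hn : 0 < n) :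
    Nat.card {g : G // n ∣ orderOf g} = 0 ∨
      (Nat.card G / Nat.gcd (Nat.card G) (n ^ Nat.card G)) ∣ Nat.card {g : G // n ∣ orderOf g} := by
  classical
  right
  letI := Fintype.ofFinite G
  have hN : 0 < Nat.card G := Nat.card_pos
  set r := Nat.gcd (Nat.card G) (n ^ Nat.card G) with hr
  set s := Nat.card G / r with hs
  have hrN : r ∣ Nat.card G := Nat.gcd_dvd_left _ _
  have hrs : r * s = Nat.card G := Nat.mul_div_cancel' hrN
  have hns : Nat.Coprime n s := coprime_compl (Nat.card G) n hN hn
  have hcop : Nat.Coprime r s := by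
    have h1 : Nat.Coprime (n ^ Nat.card G) s := Nat.Coprime.pow_left _ hns
    exact Nat.Coprime.coprime_dvd_left (Nat.gcd_dvd_right _ _) h1
  have hsN : s ∣ Nat.card G := Dvd.intro_left _ hrs
  have h0 : Nat.card {g : G // n ∣ orderOf g} =
      Nat.card {g : G // g ^ (r * s) = 1 ∧ n ∣ orderOf g} := by
    apply Nat.card_congr
    apply Equiv.subtypeEquivRight
    intro x
    constructor
    · intro h
      exact ⟨by rw [hrs]; exact pow_card_eq_one', h⟩
    · exact fun h => h.2
  rw [h0, card_decomp r s hcop (fun x => n ∣ orderOf x) (fun y => n ∣ orderOf y)]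
  · letI : Fintype {y : G // y ^ r = 1 ∧ n ∣ orderOf y} := Fintype.ofFinite _
    rw [Nat.card_sigma]
    rw [← Finset.sum_subtype (Finset.univ.filter fun y : G => y ^ r = 1 ∧ n ∣ orderOf y)
      (by intro x; simp) (fun y => Nat.card {z : G // z ^ s = 1 ∧ Commute y z})]
    apply dvd_sum_of_class
    · intro g y
      exact card_commute_conj g y s
    · intro g y hy
      simp only [Finset.mem_filter, Finset.mem_univ, true_and] at hy ⊢
      rw [conj_pow, hy.1]
      refine ⟨by group, ?_⟩
      have : orderOf (g * y * g⁻¹) = orderOf y := by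
        have := (MulAut.conj g).orderOf_eq y
        rwa [MulAut.conj_apply] at this
      rw [this]
      exact hy.2
    · intro y _
      exact dvd_index_mul_card_commute y s hsN
  · intro y z hy hz hc
    have h1 : orderOf y ∣ r := orderOf_dvd_of_pow_eq_one hy
    have h2 : orderOf z ∣ s := orderOf_dvd_of_pow_eq_one hz
    have h3 : (orderOf y).Coprime (orderOf z) :=
      Nat.Coprime.coprime_dvd_left h1 (Nat.Coprime.coprime_dvd_right h2 hcop)
    rw [hc.orderOf_mul_eq_mul_orderOf_of_coprime h3]
    have h4 : Nat.Coprime n (orderOf z) := Nat.Coprime.coprime_dvd_right h2 hns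
    exact h4.dvd_mul_right

end Cfsg.Agent.S3994
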