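import Cfsg.Statements.S3995
import Mathlib
import Cfsg.Agent.Lib.Helper12.Frobenius
import Cfsg.Agent.S0016

set_option autoImplicit false
open Cfsg

namespace Cfsg.Agent.S3995

open scoped Classical

/-- number of elements of order `m` -/
noncomputable def s (G : Type*) [Group G] (m : ℕ) : ℕ := Nat.card {g : G // orderOf g = m}

theorem s_one (G : Type*) [Group G] : s G 1 = 1 := by
  unfold s
  simp only [orderOf_eq_one_iff]
  rw [Nat.card_eq_one_iff_unique]
  exact ⟨⟨fun a b => Subtype.ext (a.2.trans b.2.symm)⟩, ⟨⟨1, rfl⟩⟩⟩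

theorem count_pow {G : Type*} [Group G] [Finite G] (d : ℕ) (L : Finset ℕ)
    (hL : ∀ m, m ∣ d ↔ m ∈ L) :
    Nat.card {x : G // x ^ d = 1} = ∑ m ∈ L, s G m := by
  haveI := Fintype.ofFinite G
  unfold s
  rw [Nat.card_eq_fintype_card, Fintype.card_subtype]
  rw [Finset.card_eq_sum_card_fiberwise (f := orderOf) (t := L)]
  · apply Finset.sum_congr rfl
    intro m hm
    rw [Nat.card_eq_fintype_card, Fintype.card_subtype]
    congr 1
    ext x
    simp only [Finset.mem_filter, Finset.mem_univ, true_and]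
    constructor
    · exact fun h => h.2
    · intro h
      refine ⟨?_, h⟩
      rw [← orderOf_dvd_iff_pow_eq_one, h]
      exact (hL m).mpr hm
  · intro x hx
    simp only [Finset.coe_filter, Finset.mem_univ, true_and, Set.mem_setOf_eq] at hx
    exact (hL _).mp (orderOf_dvd_of_pow_eq_one hx)

theorem frob {G : Type*} [Group G] [Finite G] (d : ℕ) (hd : d ∣ Nat.card G) (L : Finset ℕ)
    (hL : ∀ m, m ∣ d ↔ m ∈ L) : d ∣ ∑ m ∈ L, s G m := by
  rw [← count_pow d L hL]
  exact Cfsg.Agent.Lib.Helper12.Frobenius.frobenius d hd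

theorem frobA {G : Type*} [Group G] [Finite G] {p : ℕ} (hp : p.Prime) (hd : p ∣ Nat.card G) :
    p ∣ 1 + s G p := by
  have := frob (G := G) p hd ({1, p} : Finset ℕ) (fun m => by
    rw [Nat.dvd_prime hp]; simp)
  rwa [Finset.sum_pair hp.ne_one.symm, s_one] at this

theorem dvd_mul_primes {p q m : ℕ} (hp : p.Prime) (hq : q.Prime) :
    m ∣ p * q ↔ m = 1 ∨ m = p ∨ m = q ∨ m = p * q := by
  constructor
  · intro h
    obtain ⟨a, b, ha, hb, rfl⟩ := (Nat.dvd_mul).mp h
    rcases (Nat.dvd_prime hp).mp ha with rfl | rfl <;>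
      rcases (Nat.dvd_prime hq).mp hb with rfl | rfl <;> simp
  · rintro (rfl | rfl | rfl | rfl) <;> simp

theorem frobB {G : Type*} [Group G] [Finite G] {p q : ℕ} (hp : p.Prime) (hq : q.Prime)
    (hpq : p ≠ q) (hd : p * q ∣ Nat.card G) :
    p * q ∣ 1 + s G p + s G q + s G (p * q) := by
  have := frob (G := G) (p * q) hd ({1, p, q, p * q} : Finset ℕ) (fun m => by
    rw [dvd_mul_primes hp hq]; simp)
  have h1 : (1 : ℕ) ∉ ({p, q, p * q} : Finset ℕ) := by
    simp only [Finset.mem_insert, Finset.mem_singleton, not_or]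
    refine ⟨hp.ne_one.symm, hq.ne_one.symm, ?_⟩
    intro h
    exact hp.ne_one (Nat.eq_one_of_mul_eq_one_right h.symm)
  have h2 : p ∉ ({q, p * q} : Finset ℕ) := by
    simp only [Finset.mem_insert, Finset.mem_singleton, not_or]
    refine ⟨hpq, ?_⟩
    intro h
    have : p * 1 = p * q := by rw [mul_one]; exact h
    exact hq.ne_one (Nat.eq_of_mul_eq_mul_left hp.pos this).symm
  have h3 : q ∉ ({p * q} : Finset ℕ) := by
    simp only [Finset.mem_singleton]
    intro h
    have : 1 * q = p * q := by rw [one_mul]; exact h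
    exact hp.ne_one (Nat.eq_of_mul_eq_mul_right hq.pos this).symm
  rw [Finset.sum_insert h1, Finset.sum_insert h2, Finset.sum_insert h3, Finset.sum_singleton,
    s_one] at this
  rw [add_assoc, add_assoc]
  exact this

theorem frobC {G : Type*} [Group G] [Finite G] {p : ℕ} (hp : p.Prime)
    (hd : p ^ 2 ∣ Nat.card G) :
    p ^ 2 ∣ 1 + s G p + s G (p ^ 2) := by
  have := frob (G := G) (p ^ 2) hd ({1, p, p ^ 2} : Finset ℕ) (fun m => by
    rw [Nat.dvd_prime_pow hp]
    simp only [Finset.mem_insert, Finset.mem_singleton]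
    constructor
    · rintro ⟨k, hk, rfl⟩
      interval_cases k <;> simp
    · rintro (rfl | rfl | rfl)
      · exact ⟨0, by norm_num, by simp⟩
      · exact ⟨1, by norm_num, by simp⟩
      · exact ⟨2, le_refl _, rfl⟩)
  have h1 : (1 : ℕ) ∉ ({p, p ^ 2} : Finset ℕ) := by
    simp only [Finset.mem_insert, Finset.mem_singleton, not_or]
    refine ⟨hp.ne_one.symm, ?_⟩
    intro h
    have := Nat.pow_eq_one.mp h.symm
    rcases this with h | h
    · exact hp.ne_one h
    · norm_num at h
  have h2 : p ∉ ({p ^ 2} : Finset ℕ) := by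
    simp only [Finset.mem_singleton]
    intro h
    have : p ^ 1 = p ^ 2 := by rw [pow_one]; exact h
    have := Nat.pow_right_injective hp.two_le this
    norm_num at this
  rw [Finset.sum_insert h1, Finset.sum_insert h2, Finset.sum_singleton, s_one] at this
  rw [add_assoc]
  exact this

theorem frobE {G : Type*} [Group G] [Finite G] (hd : 8 ∣ Nat.card G) :
    8 ∣ 1 + s G 2 + s G 4 + s G 8 := by
  have := frob (G := G) 8 hd ({1, 2, 4, 8} : Finset ℕ) (fun m => by
    have h8 : Nat.divisors 8 = {1, 2, 4, 8} := by decide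
    rw [← h8, Nat.mem_divisors]
    simp)
  rw [Finset.sum_insert (by decide), Finset.sum_insert (by decide), Finset.sum_insert (by decide),
    Finset.sum_singleton, s_one] at this
  rw [add_assoc, add_assoc]
  exact this

theorem frobD {G : Type*} [Group G] [Finite G] (hd : 4 ∣ Nat.card G) :
    4 ∣ 1 + s G 2 + s G 4 := by
  have := frobC (G := G) Nat.prime_two (by norm_num; exact hd)
  norm_num at this
  exact this

theorem dvd_four_mul {p m : ℕ} (hp : p.Prime) :
    m ∣ 4 * p ↔ m = 1 ∨ m = 2 ∨ m = 4 ∨ m = p ∨ m = 2 * p ∨ m = 4 * p := by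
  constructor
  · intro h
    obtain ⟨a, b, ha, hb, rfl⟩ := (Nat.dvd_mul).mp h
    have ha4 : a = 1 ∨ a = 2 ∨ a = 4 := by
      have h4 : Nat.divisors 4 = {1, 2, 4} := by decide
      have : a ∈ Nat.divisors 4 := Nat.mem_divisors.mpr ⟨ha, by norm_num⟩
      rw [h4] at this
      simpa using this
    rcases ha4 with rfl | rfl | rfl <;>
      rcases (Nat.dvd_prime hp).mp hb with rfl | rfl <;> simp
  · rintro (rfl | rfl | rfl | rfl | rfl | rfl)
    · simp
    · exact Dvd.dvd.mul_right (by norm_num) _
    · simp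
    · simp
    · exact Nat.mul_dvd_mul_right (by norm_num) _
    · simp

theorem frobG {G : Type*} [Group G] [Finite G] {p : ℕ} (hp : p.Prime) (hp2 : p ≠ 2)
    (hd : 4 * p ∣ Nat.card G) :
    4 * p ∣ 1 + s G 2 + s G 4 + s G p + s G (2 * p) + s G (4 * p) := by
  have := frob (G := G) (4 * p) hd ({1, 2, 4, p, 2 * p, 4 * p} : Finset ℕ) (fun m => by
    rw [dvd_four_mul hp]; simp)
  have hp3 : 3 ≤ p := by
    have := hp.two_le
    omega
  have hodd : p % 2 = 1 := by
    rcases hp.eq_two_or_odd with h | h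
    · exact absurd h hp2
    · exact h
  have h1 : (1 : ℕ) ∉ ({2, 4, p, 2 * p, 4 * p} : Finset ℕ) := by
    simp only [Finset.mem_insert, Finset.mem_singleton, not_or]
    refine ⟨by omega, by omega, by omega, by omega, by omega⟩
  have h2 : (2 : ℕ) ∉ ({4, p, 2 * p, 4 * p} : Finset ℕ) := by
    simp only [Finset.mem_insert, Finset.mem_singleton, not_or]
    refine ⟨by omega, by omega, by omega, by omega⟩
  have h3 : (4 : ℕ) ∉ ({p, 2 * p, 4 * p} : Finset ℕ) := by
    simp only [Finset.mem_insert, Finset.mem_singleton, not_or]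
    refine ⟨by omega, by omega, by omega⟩
  have h4 : p ∉ ({2 * p, 4 * p} : Finset ℕ) := by
    simp only [Finset.mem_insert, Finset.mem_singleton, not_or]
    refine ⟨by omega, by omega⟩
  have h5 : 2 * p ∉ ({4 * p} : Finset ℕ) := by
    simp only [Finset.mem_singleton]
    omega
  rw [Finset.sum_insert h1, Finset.sum_insert h2, Finset.sum_insert h3, Finset.sum_insert h4,
    Finset.sum_insert h5, Finset.sum_singleton, s_one] at this
  rw [add_assoc, add_assoc, add_assoc, add_assoc]
  exact this

section hyp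

variable {G : Type*} [Group G] [Finite G] {n : ℕ}

theorem s_mem (h : ((fun m : ℕ => s G m) '' Set.range (orderOf : G → ℕ)) = {1, n}) (g : G) :
    s G (orderOf g) = 1 ∨ s G (orderOf g) = n := by
  have : s G (orderOf g) ∈ ({1, n} : Set ℕ) := h ▸ ⟨orderOf g, ⟨g, rfl⟩, rfl⟩
  simpa using this

theorem s_eq_zero (m : ℕ) (hm : ∀ g : G, orderOf g ≠ m) : s G m = 0 := by
  unfold s
  rw [Nat.card_eq_zero]
  left
  exact ⟨fun ⟨g, hg⟩ => hm g hg⟩

theorem s_ne_zero (g : G) : s G (orderOf g) ≠ 0 := by
  unfold s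
  haveI : Nonempty {g' : G // orderOf g' = orderOf g} := ⟨⟨g, rfl⟩⟩
  exact Nat.card_pos.ne'

theorem s_ge3 (h : ((fun m : ℕ => s G m) '' Set.range (orderOf : G → ℕ)) = {1, n}) (m : ℕ)
    (hm : 3 ≤ m) : s G m = 0 ∨ s G m = n := by
  by_cases hex : ∃ g : G, orderOf g = m
  · obtain ⟨g, rfl⟩ := hex
    right
    rcases s_mem h g with h1 | h1
    · exfalso
      have := Cfsg.Agent.Lib.Helper12.Frobenius.totient_dvd_card_orderOf (G := G) (orderOf g)
      change Nat.totient (orderOf g) ∣ s G (orderOf g) at this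
      rw [h1, Nat.dvd_one, Nat.totient_eq_one_iff] at this
      omega
    · exact h1
  · left
    push Not at hex
    exact s_eq_zero m hex

theorem s_of_ge3 (h : ((fun m : ℕ => s G m) '' Set.range (orderOf : G → ℕ)) = {1, n}) (g : G)
    (hm : 3 ≤ orderOf g) : s G (orderOf g) = n := by
  rcases s_ge3 h (orderOf g) hm with h0 | h0
  · exact absurd h0 (s_ne_zero g)
  · exact h0

theorem s_two (h : ((fun m : ℕ => s G m) '' Set.range (orderOf : G → ℕ)) = {1, n}) :
    s G 2 = 0 ∨ s G 2 = 1 ∨ s G 2 = n := by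
  by_cases hex : ∃ g : G, orderOf g = 2
  · obtain ⟨g, hg⟩ := hex
    right
    rw [← hg]
    exact s_mem h g
  · left
    push Not at hex
    exact s_eq_zero 2 hex

theorem exists_n (h : ((fun m : ℕ => s G m) '' Set.range (orderOf : G → ℕ)) = {1, n}) :
    ∃ g : G, s G (orderOf g) = n := by
  have : n ∈ ((fun m : ℕ => s G m) '' Set.range (orderOf : G → ℕ)) := by
    rw [h]; simp
  obtain ⟨m, ⟨g, rfl⟩, hm⟩ := this
  exact ⟨g, hm⟩

theorem exists_orderOf_eq_of_dvd (g : G) (m : ℕ) (h : m ∣ orderOf g) : ∃ g' : G, orderOf g' = m := by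
  obtain ⟨k, hk⟩ := h
  have hpos : 0 < orderOf g := orderOf_pos g
  have hk0 : k ≠ 0 := by
    rintro rfl
    rw [mul_zero] at hk
    omega
  refine ⟨g ^ k, ?_⟩
  rw [orderOf_pow_of_dvd hk0 (hk ▸ dvd_mul_left k m), hk, Nat.mul_div_cancel _ (Nat.pos_of_ne_zero hk0)]

theorem totient_even_dvd (h : ((fun m : ℕ => s G m) '' Set.range (orderOf : G → ℕ)) = {1, n})
    (g : G) (hm : 3 ≤ orderOf g) : 2 ∣ n := by
  have h1 := Cfsg.Agent.Lib.Helper12.Frobenius.totient_dvd_card_orderOf (G := G) (orderOf g)
  change Nat.totient (orderOf g) ∣ s G (orderOf g) at h1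
  rw [s_of_ge3 h g hm] at h1
  exact (Nat.totient_even (by omega)).two_dvd.trans h1

end hyp

theorem huniq_of_s_two {G : Type*} [Group G] [Finite G] (h2 : s G 2 = 1) :
    ∀ H K : Subgroup G, Nat.card H = 2 → Nat.card K = 2 → H = K := by
  have huni : ∀ a b : G, orderOf a = 2 → orderOf b = 2 → a = b := by
    intro a b ha hb
    unfold s at h2
    rw [Nat.card_eq_one_iff_unique] at h2
    obtain ⟨hs, _⟩ := h2
    have := hs.elim (⟨a, ha⟩ : {g : G // orderOf g = 2}) ⟨b, hb⟩
    exact congrArg Subtype.val this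
  have key : ∀ H : Subgroup G, Nat.card H = 2 → ∃ a : G, orderOf a = 2 ∧ H = Subgroup.zpowers a := by
    intro H hH
    have hne : H ≠ ⊥ := by
      rintro rfl
      rw [Subgroup.card_bot] at hH
      omega
    obtain ⟨a, ha1⟩ := (Subgroup.ne_bot_iff_exists_ne_one.mp hne)
    have hoa : orderOf (a : G) = 2 := by
      have h1 : orderOf (a : G) ∣ 2 := by
        have := Subgroup.orderOf_dvd_natCard H a.2
        rw [hH] at this
        exact this
      rcases (Nat.dvd_prime Nat.prime_two).mp h1 with h1 | h1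
      · exfalso
        apply ha1
        exact Subtype.ext (orderOf_eq_one_iff.mp h1)
      · exact h1
    refine ⟨a, hoa, ?_⟩
    symm
    apply Subgroup.eq_of_le_of_card_ge
    · exact Subgroup.zpowers_le.mpr a.2
    · rw [hH, Nat.card_zpowers, hoa]
  intro H K hH hK
  obtain ⟨a, ha, rfl⟩ := key H hH
  obtain ⟨b, hb, rfl⟩ := key K hK
  rw [huni a b ha hb]

theorem two_group_case {G : Type*} [Group G] [Finite G] {n : ℕ} (hn : n ≠ 1)
    (h : ((fun m : ℕ => s G m) '' Set.range (orderOf : G → ℕ)) = {1, n}) (hG : IsPGroup 2 G) :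
    (∃ p : ℕ, p.Prime ∧ IsPGroup p G ∧ 3 ≤ Nat.card G ∧ Monoid.exponent G = p) ∨
      Nonempty (G ≃* QuaternionGroup 2) ∨ (IsCyclic G ∧ Nat.card G = 4) := by
  obtain ⟨g0, hg0⟩ := exists_n h
  have hg01 : g0 ≠ 1 := by
    rintro rfl
    rw [orderOf_one, s_one] at hg0
    exact hn hg0.symm
  haveI : Nontrivial G := ⟨⟨g0, 1, hg01⟩⟩
  by_cases hex : ∀ x : G, x ^ 2 = 1
  · left
    refine ⟨2, Nat.prime_two, hG, ?_, ?_⟩
    · have hc : Nat.card G = 1 + s G 2 := by
        have := count_pow (G := G) 2 ({1, 2} : Finset ℕ) (fun m => by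
          rw [Nat.dvd_prime Nat.prime_two]; simp)
        rw [Finset.sum_pair (by norm_num), s_one] at this
        rw [← this]
        exact (Nat.card_congr (Equiv.subtypeUnivEquiv hex)).symm
      have ho : orderOf g0 = 2 := by
        have := orderOf_dvd_of_pow_eq_one (hex g0)
        rcases (Nat.dvd_prime Nat.prime_two).mp this with h1 | h1
        · exact absurd (orderOf_eq_one_iff.mp h1) hg01
        · exact h1
      rw [ho] at hg0
      have : s G 2 ≠ 0 := ho ▸ s_ne_zero g0
      omega
    · have h1 : Monoid.exponent G ∣ 2 := Monoid.exponent_dvd_of_forall_pow_eq_one hex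
      rcases (Nat.dvd_prime Nat.prime_two).mp h1 with h2 | h2
      · exact absurd (Monoid.exp_eq_one_iff.mp h2) (not_subsingleton G)
      · exact h2
  · right
    push Not at hex
    obtain ⟨x, hx⟩ := hex
    obtain ⟨k, hk⟩ := (IsPGroup.iff_orderOf.mp hG) x
    have hk2 : 2 ≤ k := by
      by_contra hlt
      push Not at hlt
      apply hx
      interval_cases k
      · rw [pow_zero, orderOf_eq_one_iff] at hk
        rw [hk, one_pow]
      · rw [pow_one] at hk
        rw [← hk, pow_orderOf_eq_one]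
    obtain ⟨y, hy⟩ := exists_orderOf_eq_of_dvd x 4 (by
      rw [hk]; exact pow_dvd_pow 2 hk2)
    have hs4 : s G 4 = n := by
      have := s_of_ge3 h y (by omega)
      rwa [hy] at this
    have hneven : 2 ∣ n := totient_even_dvd h y (by omega)
    have h4G : 4 ∣ Nat.card G := hy ▸ orderOf_dvd_natCard y
    have h2G : 2 ∣ Nat.card G := (by norm_num : 2 ∣ 4).trans h4G
    have hs2 : s G 2 = 1 := by
      have hA := frobA (G := G) Nat.prime_two h2G
      rcases s_two h with h0 | h0 | h0
      · rw [h0] at hA; omega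
      · exact h0
      · rw [h0] at hA; omega
    have hD := frobD (G := G) h4G
    rw [hs2, hs4] at hD
    have hno8 : ∀ w : G, orderOf w ≠ 8 := by
      intro w hw
      have h8G : 8 ∣ Nat.card G := hw ▸ orderOf_dvd_natCard w
      have hE := frobE (G := G) h8G
      have hs8 : s G 8 = n := by
        have := s_of_ge3 h w (by omega)
        rwa [hw] at this
      rw [hs2, hs4, hs8] at hE
      omega
    have hno8' : ∀ w : G, ¬ 8 ∣ orderOf w := by
      intro w hw
      obtain ⟨w', hw'⟩ := exists_orderOf_eq_of_dvd w 8 hw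
      exact hno8 w' hw'
    rcases Cfsg.Agent.S0016.result 2 hG (huniq_of_s_two hs2) with hcyc | ⟨_, k', ⟨e⟩⟩
    · right
      refine ⟨hcyc, ?_⟩
      obtain ⟨g, hg⟩ := hcyc.exists_ofOrder_eq_natCard
      obtain ⟨a, ha⟩ := (IsPGroup.iff_card.mp hG)
      have ha2 : 2 ≤ a := by
        rw [ha] at h4G
        by_contra hlt
        push Not at hlt
        interval_cases a <;> omega
      have ha3 : a < 3 := by
        by_contra hge
        push Not at hge
        apply hno8' g
        rw [hg, ha]
        exact pow_dvd_pow 2 hge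
      have : a = 2 := by omega
      rw [ha, this]
      norm_num
    · have hoa : orderOf (e.symm (QuaternionGroup.a 1)) = 2 * 2 ^ k' := by
        rw [MulEquiv.orderOf_eq, QuaternionGroup.orderOf_a_one]
      rcases k' with _ | _ | k'
      · right
        have e' : G ≃* QuaternionGroup 1 := e
        refine ⟨?_, ?_⟩
        · haveI := QuaternionGroup.quaternionGroup_one_isCyclic
          exact isCyclic_of_surjective e'.symm e'.symm.surjective
        · rw [Nat.card_congr e'.toEquiv, Nat.card_eq_fintype_card, QuaternionGroup.card]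
      · left
        exact ⟨e⟩
      · exfalso
        apply hno8' (e.symm (QuaternionGroup.a 1))
        rw [hoa]
        have : 2 * 2 ^ (k' + 1 + 1) = 8 * 2 ^ k' := by ring
        rw [this]
        exact dvd_mul_right _ _

/-- a copy of `Fin k` without algebraic instances -/
def Carrier (k : ℕ) : Type := Fin k

instance (k : ℕ) : Finite (Carrier k) := inferInstanceAs (Finite (Fin k))

theorem prod_structure {G : Type*} [Group G] [Finite G] {p : ℕ} (hp : p.Prime) (hp2 : p ≠ 2)
    (hq : ∀ q : ℕ, q.Prime → q ∣ Nat.card G → q = p ∨ q = 2)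
    (h2G : 2 ∣ Nat.card G) (h4 : ¬ 4 ∣ Nat.card G) (hpG : p ∣ Nat.card G)
    (hs2 : s G 2 = 1) (hnop2 : ∀ w : G, ¬ p ^ 2 ∣ orderOf w) :
    ∃ (P : Type) (_ : Group P) (_ : Finite P), IsPGroup p P ∧ Monoid.exponent P = p ∧
        Nonempty (G ≃* Multiplicative (ZMod 2) × P) := by
  haveI : Fact p.Prime := ⟨hp⟩
  have hodd : p % 2 = 1 := by
    rcases hp.eq_two_or_odd with h | h
    · exact absurd h hp2
    · exact h
  let P : Sylow p G := default
  have hPcard : Nat.card (P : Subgroup G) = p ^ (Nat.card G).factorization p := P.card_eq_multiplicity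
  have hmul : Nat.card (P : Subgroup G) * (P : Subgroup G).index = Nat.card G :=
    Subgroup.card_mul_index _
  have hidx : (P : Subgroup G).index = 2 := by
    have hnd : ¬ p ∣ (P : Subgroup G).index := P.not_dvd_index
    have hi0 : (P : Subgroup G).index ≠ 0 := Subgroup.index_ne_zero_of_finite
    have hidvd : (P : Subgroup G).index ∣ Nat.card G := Subgroup.index_dvd_card _
    have hpow := Nat.eq_prime_pow_of_unique_prime_dvd (p := 2) hi0 (fun {d} hd hdi => by
      rcases hq d hd (hdi.trans hidvd) with h | h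
      · exact absurd (h ▸ hdi) hnd
      · exact h)
    set j := (P : Subgroup G).index.primeFactorsList.length with hj
    have h2P : ¬ 2 ∣ Nat.card (P : Subgroup G) := by
      rw [hPcard]
      intro hh
      have := (Nat.prime_dvd_prime_iff_eq Nat.prime_two hp).mp (Nat.prime_two.dvd_of_dvd_pow hh)
      exact hp2 this.symm
    have h2i : 2 ∣ (P : Subgroup G).index := by
      rw [← hmul] at h2G
      rcases (Nat.Prime.dvd_mul Nat.prime_two).mp h2G with h | h
      · exact absurd h h2P
      · exact h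
    have h4i : ¬ 4 ∣ (P : Subgroup G).index := fun hh => h4 (hh.trans hidvd)
    rw [hpow] at h2i h4i ⊢
    rcases j with _ | _ | j
    · norm_num at h2i
    · norm_num
    · exfalso
      apply h4i
      exact ⟨2 ^ j, by ring⟩
  -- the unique involution
  haveI : Fact (Nat.Prime 2) := ⟨Nat.prime_two⟩
  obtain ⟨z, hz⟩ := exists_prime_orderOf_dvd_card' (G := G) 2 h2G
  have huni : ∀ a b : G, orderOf a = 2 → orderOf b = 2 → a = b := by
    intro a b ha hb
    unfold s at hs2
    rw [Nat.card_eq_one_iff_unique] at hs2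
    obtain ⟨hs, _⟩ := hs2
    have := hs.elim (⟨a, ha⟩ : {g : G // orderOf g = 2}) ⟨b, hb⟩
    exact congrArg Subtype.val this
  have hzc : ∀ g : G, g * z = z * g := by
    intro g
    have h1 : orderOf (g * z * g⁻¹) = 2 := by
      have := MulEquiv.orderOf_eq (MulAut.conj g) z
      rw [MulAut.conj_apply] at this
      rw [this, hz]
    have := huni _ _ h1 hz
    calc g * z = g * z * g⁻¹ * g := by group
      _ = z * g := by rw [this]
  let Z : Subgroup G := Subgroup.zpowers z
  have hZcard : Nat.card Z = 2 := by rw [Nat.card_zpowers, hz]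
  have hZc : ∀ a ∈ Z, ∀ g : G, g * a = a * g := by
    intro a ha g
    obtain ⟨i, rfl⟩ := ha
    have : Commute g z := hzc g
    exact (this.zpow_right i).eq
  have hdisj : Z ⊓ (P : Subgroup G) = ⊥ := by
    apply Subgroup.inf_eq_bot_of_coprime
    rw [hZcard, hPcard]
    apply Nat.Coprime.pow_right
    rw [Nat.coprime_primes Nat.prime_two hp]
    exact fun h => hp2 h.symm
  let f : Z × (P : Subgroup G) →* G := MonoidHom.mk' (fun x => (x.1 : G) * (x.2 : G)) (by
    intro x y
    simp only [Prod.fst_mul, Prod.snd_mul, Subgroup.coe_mul]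
    have := hZc y.1 y.1.2 (x.2 : G)
    calc (x.1 : G) * (y.1 : G) * ((x.2 : G) * (y.2 : G))
        = (x.1 : G) * ((y.1 : G) * (x.2 : G)) * (y.2 : G) := by group
      _ = (x.1 : G) * ((x.2 : G) * (y.1 : G)) * (y.2 : G) := by rw [this]
      _ = (x.1 : G) * (x.2 : G) * ((y.1 : G) * (y.2 : G)) := by group)
  have hfinj : Function.Injective f := by
    rw [injective_iff_map_eq_one]
    rintro ⟨a, b⟩ hab
    change (a : G) * (b : G) = 1 at hab
    have hab' : (a : G) = (b : G)⁻¹ := eq_inv_of_mul_eq_one_left hab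
    have hmemP : (a : G) ∈ (P : Subgroup G) := by
      rw [hab']
      exact (P : Subgroup G).inv_mem b.2
    have hmem : (a : G) ∈ Z ⊓ (P : Subgroup G) := ⟨a.2, hmemP⟩
    rw [hdisj, Subgroup.mem_bot] at hmem
    have hb1 : (b : G) = 1 := by
      rw [hmem, one_mul] at hab
      exact hab
    ext
    · exact hmem
    · exact hb1
  have hcard : Nat.card G ≤ Nat.card (Z × (P : Subgroup G)) := by
    rw [Nat.card_prod, hZcard, ← hmul, hidx, mul_comm]
  have hbij : Function.Bijective f := hfinj.bijective_of_nat_card_le hcard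
  let E : Z × (P : Subgroup G) ≃* G := MulEquiv.ofBijective f hbij
  have hc2 : Nat.card (Multiplicative (ZMod 2)) = 2 := by
    rw [Nat.card_eq_fintype_card]
    rfl
  let eZ : Z ≃* Multiplicative (ZMod 2) := mulEquivOfPrimeCardEq (p := 2) hZcard hc2
  -- shrink `P` to `Type`
  let k := Nat.card (P : Subgroup G)
  let eP : (P : Subgroup G) ≃ Carrier k := Finite.equivFin _
  letI : Group (Carrier k) := eP.symm.group
  let eP' : Carrier k ≃* (P : Subgroup G) := eP.symm.mulEquiv
  -- exponent of P
  have hpowp : ∀ x : (P : Subgroup G), x ^ p = 1 := by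
    intro x
    obtain ⟨j, hj⟩ := (IsPGroup.iff_orderOf.mp P.2) x
    have hj1 : j ≤ 1 := by
      by_contra hlt
      push Not at hlt
      apply hnop2 (x : G)
      rw [Subgroup.orderOf_coe, hj]
      exact pow_dvd_pow p hlt
    have : orderOf x ∣ p := by
      rw [hj]
      interval_cases j <;> simp
    exact orderOf_dvd_iff_pow_eq_one.mp this
  have hPnt : Nontrivial (P : Subgroup G) := by
    rw [← Finite.one_lt_card_iff_nontrivial, hPcard]
    apply Nat.one_lt_pow _ hp.one_lt
    have := (Nat.Prime.factorization_pos_of_dvd hp Nat.card_pos.ne' hpG)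
    omega
  have hexpP : Monoid.exponent (P : Subgroup G) = p := by
    have h1 : Monoid.exponent (P : Subgroup G) ∣ p := Monoid.exponent_dvd_of_forall_pow_eq_one hpowp
    rcases (Nat.dvd_prime hp).mp h1 with h2 | h2
    · exact absurd (Monoid.exp_eq_one_iff.mp h2) (not_subsingleton _)
    · exact h2
  refine ⟨Carrier k, eP.symm.group, inferInstance, ?_, ?_, ⟨?_⟩⟩
  · exact IsPGroup.of_surjective P.2 eP'.symm.toMonoidHom eP'.symm.surjective
  · rw [Monoid.exponent_eq_of_mulEquiv eP', hexpP]
  · exact E.symm.trans (MulEquiv.prodCongr eZ eP'.symm)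

theorem odd_case {G : Type*} [Group G] [Finite G] {n : ℕ}
    (h : ((fun m : ℕ => s G m) '' Set.range (orderOf : G → ℕ)) = {1, n})
    {p : ℕ} (hp : p.Prime) (hp2 : p ≠ 2) (hpG : p ∣ Nat.card G) :
    (∃ p : ℕ, p.Prime ∧ IsPGroup p G ∧ 3 ≤ Nat.card G ∧ Monoid.exponent G = p) ∨
      (∃ (p : ℕ) (P : Type) (_ : Group P) (_ : Finite P), p.Prime ∧ p ≠ 2 ∧ IsPGroup p P ∧
        Monoid.exponent P = p ∧ Nonempty (G ≃* Multiplicative (ZMod 2) × P)) := by
  haveI : Fact p.Prime := ⟨hp⟩
  have hp3 : 3 ≤ p := by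
    have := hp.two_le
    omega
  obtain ⟨y, hy⟩ := exists_prime_orderOf_dvd_card' (G := G) p hpG
  have hsp : s G p = n := by
    have := s_of_ge3 h y (by omega)
    rwa [hy] at this
  have hneven : 2 ∣ n := totient_even_dvd h y (by omega)
  have hA : p ∣ 1 + n := by
    have := frobA (G := G) hp hpG
    rwa [hsp] at this
  have hp1 : ¬ p ∣ 1 := fun hh => hp.one_lt.ne' (Nat.dvd_one.mp hh)
  have hpd2 : ¬ p ∣ 2 := fun hh => hp2 ((Nat.prime_dvd_prime_iff_eq hp Nat.prime_two).mp hh)
  -- other primes are 2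
  have hq : ∀ q : ℕ, q.Prime → q ∣ Nat.card G → q = p ∨ q = 2 := by
    intro q hq hqG
    by_contra hcon
    push Not at hcon
    obtain ⟨hqp, hq2⟩ := hcon
    haveI : Fact q.Prime := ⟨hq⟩
    have hcop : Nat.Coprime p q := (Nat.coprime_primes hp hq).mpr (Ne.symm hqp)
    have hB := frobB (G := G) hp hq (Ne.symm hqp) (hcop.mul_dvd_of_dvd_of_dvd hpG hqG)
    have hq3 : 3 ≤ q := by
      have := hq.two_le
      omega
    obtain ⟨z, hz⟩ := exists_prime_orderOf_dvd_card' (G := G) q hqG
    have hsq : s G q = n := by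
      have := s_of_ge3 h z (by omega)
      rwa [hz] at this
    rw [hsp, hsq] at hB
    have hpB : p ∣ 1 + n + n + s G (p * q) := (dvd_mul_right p q).trans hB
    rcases s_ge3 h (p * q) (by nlinarith) with h0 | h0
    · rw [h0] at hpB
      apply hp1
      have h2 : p ∣ 2 * (1 + n) := dvd_mul_of_dvd_right hA 2
      have e : 2 * (1 + n) = (1 + n + n + 0) + 1 := by ring
      rw [e] at h2
      exact (Nat.dvd_add_right hpB).mp h2
    · rw [h0] at hpB
      apply hpd2
      have h3 : p ∣ 3 * (1 + n) := dvd_mul_of_dvd_right hA 3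
      have e : 3 * (1 + n) = (1 + n + n + n) + 2 := by ring
      rw [e] at h3
      exact (Nat.dvd_add_right hpB).mp h3
  -- no element of order p^2
  have hnop2 : ∀ w : G, ¬ p ^ 2 ∣ orderOf w := by
    intro w hw
    obtain ⟨w', hw'⟩ := exists_orderOf_eq_of_dvd w (p ^ 2) hw
    have hp2G : p ^ 2 ∣ Nat.card G := hw' ▸ orderOf_dvd_natCard w'
    have hC := frobC (G := G) hp hp2G
    have hs : s G (p ^ 2) = n := by
      have := s_of_ge3 h w' (by rw [hw']; nlinarith)
      rwa [hw'] at this
    rw [hsp, hs] at hC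
    have hpC : p ∣ 1 + n + n := (dvd_pow_self p two_ne_zero).trans hC
    apply hp1
    have h2 : p ∣ 2 * (1 + n) := dvd_mul_of_dvd_right hA 2
    have e : 2 * (1 + n) = (1 + n + n) + 1 := by ring
    rw [e] at h2
    exact (Nat.dvd_add_right hpC).mp h2
  by_cases h2G : 2 ∣ Nat.card G
  · right
    have hs2 : s G 2 = 1 := by
      have hA2 := frobA (G := G) Nat.prime_two h2G
      rcases s_two h with h0 | h0 | h0
      · rw [h0] at hA2; omega
      · exact h0
      · rw [h0] at hA2; omega
    have h4 : ¬ 4 ∣ Nat.card G := by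
      intro h4G
      have hD := frobD (G := G) h4G
      rw [hs2] at hD
      have hs4 : s G 4 = n := by
        rcases s_ge3 h 4 (by norm_num) with h0 | h0
        · rw [h0] at hD; omega
        · exact h0
      have hcop2 : Nat.Coprime p 2 := (Nat.coprime_primes hp Nat.prime_two).mpr hp2
      have hB := frobB (G := G) hp Nat.prime_two hp2 (hcop2.mul_dvd_of_dvd_of_dvd hpG h2G)
      rw [hsp, hs2] at hB
      have hpB : p ∣ 1 + n + 1 + s G (p * 2) := (dvd_mul_right p 2).trans hB
      have hs2p : s G (2 * p) = n := by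
        rw [mul_comm]
        rcases s_ge3 h (p * 2) (by omega) with h0 | h0
        · exfalso
          rw [h0] at hpB
          apply hp1
          have e : 1 + n + 1 + 0 = (1 + n) + 1 := by ring
          rw [e] at hpB
          exact (Nat.dvd_add_right hA).mp hpB
        · exact h0
      have hcop4 : Nat.Coprime 4 p := by
        have : Nat.Coprime (2 ^ 2) p := Nat.Coprime.pow_left 2 hcop2.symm
        norm_num at this
        exact this
      have hG' := frobG (G := G) hp hp2 (hcop4.mul_dvd_of_dvd_of_dvd h4G hpG)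
      rw [hs2, hs4, hsp, hs2p] at hG'
      have hpG' : p ∣ 1 + 1 + n + n + n + s G (4 * p) := (dvd_mul_left p 4).trans hG'
      rcases s_ge3 h (4 * p) (by omega) with h0 | h0
      · rw [h0] at hpG'
        apply hp1
        have h3 : p ∣ 3 * (1 + n) := dvd_mul_of_dvd_right hA 3
        have e : 3 * (1 + n) = (1 + 1 + n + n + n + 0) + 1 := by ring
        rw [e] at h3
        exact (Nat.dvd_add_right hpG').mp h3
      · rw [h0] at hpG'
        apply hpd2
        have h3 : p ∣ 4 * (1 + n) := dvd_mul_of_dvd_right hA 4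
        have e : 4 * (1 + n) = (1 + 1 + n + n + n + n) + 2 := by ring
        rw [e] at h3
        exact (Nat.dvd_add_right hpG').mp h3
    obtain ⟨P, iG, iF, h1, h2, h3⟩ := prod_structure hp hp2 hq h2G h4 hpG hs2 hnop2
    exact ⟨p, P, iG, iF, hp, hp2, h1, h2, h3⟩
  · left
    have hcardpow := Nat.eq_prime_pow_of_unique_prime_dvd (p := p) (Nat.card_pos (α := G)).ne'
      (fun {d} hd hdG => by
        rcases hq d hd hdG with h0 | h0
        · exact h0
        · exact absurd (h0 ▸ hdG) h2G)
    have hPG : IsPGroup p G := IsPGroup.of_card hcardpow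
    have hpowp : ∀ x : G, x ^ p = 1 := by
      intro x
      obtain ⟨j, hj⟩ := (IsPGroup.iff_orderOf.mp hPG) x
      have hj1 : j ≤ 1 := by
        by_contra hlt
        push Not at hlt
        apply hnop2 x
        rw [hj]
        exact pow_dvd_pow p hlt
      have : orderOf x ∣ p := by
        rw [hj]
        interval_cases j <;> simp
      exact orderOf_dvd_iff_pow_eq_one.mp this
    have hy1 : y ≠ 1 := by
      rintro rfl
      rw [orderOf_one] at hy
      omega
    haveI : Nontrivial G := ⟨⟨y, 1, hy1⟩⟩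
    refine ⟨p, hp, hPG, ?_, ?_⟩
    · have := Nat.le_of_dvd Nat.card_pos hpG
      omega
    · have h1 : Monoid.exponent G ∣ p := Monoid.exponent_dvd_of_forall_pow_eq_one hpowp
      rcases (Nat.dvd_prime hp).mp h1 with h2 | h2
      · exact absurd (Monoid.exp_eq_one_iff.mp h2) (not_subsingleton G)
      · exact h2

end Cfsg.Agent.S3995

namespace Cfsg.Agent.S3995

/-- Let G be a finite group such that the numbers of elements of each order that occurs in G (the numbers #{g : o(g) = m}, m ranging over the element orders of G) take exactly two values, 1 and some n ≠ 1. Then either G is a p-group of exponent p and order at least 3 for some prime p, or G is the quaternion group of order 8, or G is cyclic of order 4, or G ≅ Z₂ × P for a p-group P of exponent p with p an odd prime. -/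
theorem result {G : Type*} [Group G] [Finite G] (n : ℕ) (hn : n ≠ 1) (h : ((fun m : ℕ => Nat.card {g : G // orderOf g = m}) '' Set.range (orderOf : G → ℕ)) = {1, n}) :
    (∃ p : ℕ, p.Prime ∧ IsPGroup p G ∧ 3 ≤ Nat.card G ∧ Monoid.exponent G = p) ∨
      Nonempty (G ≃* QuaternionGroup 2) ∨ (IsCyclic G ∧ Nat.card G = 4) ∨
      (∃ (p : ℕ) (P : Type) (_ : Group P) (_ : Finite P), p.Prime ∧ p ≠ 2 ∧ IsPGroup p P ∧ Monoid.exponent P = p ∧
        Nonempty (G ≃* Multiplicative (ZMod 2) × P)) := by
  have h' : ((fun m : ℕ => s G m) '' Set.range (orderOf : G → ℕ)) = {1, n} := h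
  by_cases hodd : ∃ p : ℕ, p.Prime ∧ p ≠ 2 ∧ p ∣ Nat.card G
  · obtain ⟨p, hp, hp2, hpG⟩ := hodd
    rcases odd_case h' hp hp2 hpG with h1 | h1
    · exact Or.inl h1
    · exact Or.inr (Or.inr (Or.inr h1))
  · push Not at hodd
    have hcardpow := Nat.eq_prime_pow_of_unique_prime_dvd (p := 2) (Nat.card_pos (α := G)).ne'
      (fun {d} hd hdG => by
        by_contra hne
        exact hodd d hd hne hdG)
    have hG : IsPGroup 2 G := IsPGroup.of_card hcardpow
    rcases two_group_case hn h' hG with h1 | h1 | h1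
    · exact Or.inl h1
    · exact Or.inr (Or.inl h1)
    · exact Or.inr (Or.inr (Or.inl h1))

end Cfsg.Agent.S3995
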