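import Mathlib
import Cfsg.Statements.S3997

set_option autoImplicit false
open Cfsg

namespace Cfsg.Agent.S3997

/-- Two finite groups with the same order type admit an order-preserving bijection. -/
theorem exists_equiv_orderOf {G H : Type*} [Group G] [Finite G] [Group H] [Finite H]
    (hT : ∀ m : ℕ, Nat.card {g : G // orderOf g = m} = Nat.card {h : H // orderOf h = m}) :
    ∃ φ : G ≃ H, ∀ g, orderOf (φ g) = orderOf g := by
  have e : ∀ m : ℕ, Nonempty ({g : G // orderOf g = m} ≃ {h : H // orderOf h = m}) :=
    fun m => Finite.card_eq.mp (hT m)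
  have e' : ∀ m : ℕ, {g : G // orderOf g = m} ≃ {h : H // orderOf h = m} := fun m => (e m).some
  refine ⟨(Equiv.sigmaFiberEquiv (orderOf : G → ℕ)).symm.trans
    ((Equiv.sigmaCongrRight e').trans (Equiv.sigmaFiberEquiv (orderOf : H → ℕ))), ?_⟩
  intro g
  simp only [Equiv.trans_apply, Equiv.sigmaFiberEquiv, Equiv.coe_fn_symm_mk, Equiv.sigmaCongrRight_apply,
    Equiv.coe_fn_mk]
  exact (e' (orderOf g) ⟨g, rfl⟩).2

/-- Let G and H be finite groups with the same order type: for every m they have the same number of elements of order m. If G is nilpotent then so is H. -/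
theorem result {G H : Type*} [Group G] [Finite G] [Group H] [Finite H] (hT : (∀ m : ℕ, Nat.card {g : G // orderOf g = m} = Nat.card {h : H // orderOf h = m})) (hG : Group.IsNilpotent G) :
    Group.IsNilpotent H := by
  classical
  obtain ⟨φ, hφ⟩ := exists_equiv_orderOf hT
  have hcard : Nat.card G = Nat.card H := Nat.card_congr φ
  refine ((Group.isNilpotent_of_finite_tfae (G := H)).out 0 3 rfl rfl).mpr ?_
  intro p hp P
  obtain ⟨PG⟩ : Nonempty (Sylow p G) := inferInstance
  have hPGn : (PG : Subgroup G).Normal := inferInstance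
  -- the p-elements of G are exactly PG
  have hPG : ∀ g : G, (∃ k : ℕ, orderOf g = p ^ k) → g ∈ (PG : Subgroup G) := by
    rintro g ⟨k, hk⟩
    have hz : IsPGroup p (Subgroup.zpowers g) :=
      IsPGroup.of_card (n := k) (by rw [Nat.card_zpowers, hk])
    obtain ⟨Q, hQ⟩ := hz.exists_le_sylow
    obtain ⟨x, hx⟩ := MulAction.exists_smul_eq G PG Q
    have : x • PG = PG := Sylow.smul_eq_of_normal
    rw [this] at hx
    rw [hx]
    exact hQ (Subgroup.mem_zpowers g)
  -- the p-elements of H
  have hcardP : Nat.card (P : Subgroup H) = Nat.card (PG : Subgroup G) := by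
    rw [Sylow.card_eq_multiplicity, Sylow.card_eq_multiplicity, hcard]
  -- injection from p-elements of H into PG
  have hPH : ∀ h : H, (∃ k : ℕ, orderOf h = p ^ k) → h ∈ (P : Subgroup H) := by
    intro h hh
    by_contra hnot
    -- the set P ∪ {h} of p-elements injects into PG
    let S : Set H := insert h (P : Set H)
    have hS : ∀ s ∈ S, φ.symm s ∈ (PG : Subgroup G) := by
      intro s hs
      apply hPG
      have hord : orderOf (φ.symm s) = orderOf s := by
        have := hφ (φ.symm s)
        rw [Equiv.apply_symm_apply] at this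
        exact this.symm
      rw [hord]
      rcases hs with rfl | hs
      · exact hh
      · have hP := P.2
        obtain ⟨k, hk⟩ := (IsPGroup.iff_orderOf.mp hP) ⟨s, hs⟩
        exact ⟨k, by rw [← hk, Subgroup.orderOf_mk]⟩
    have hle : Nat.card S ≤ Nat.card (PG : Subgroup G) := by
      apply Nat.card_le_card_of_injective (fun s : S => (⟨φ.symm s, hS s s.2⟩ : (PG : Subgroup G)))
      intro a b hab
      have := congrArg Subtype.val hab
      simp only at this
      exact Subtype.ext (φ.symm.injective this)
    have hSc : Nat.card S = Nat.card (P : Subgroup H) + 1 := by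
      have : (S : Set H).ncard = ((P : Set H)).ncard + 1 :=
        Set.ncard_insert_of_notMem hnot (Set.toFinite _)
      rw [← Nat.card_coe_set_eq] at this
      rw [this, ← Nat.card_coe_set_eq]
      rfl
    omega
  -- now P is normal
  rw [← Subgroup.normalizer_eq_top_iff]
  rw [eq_top_iff]
  intro x _
  apply Sylow.smul_eq_iff_mem_normalizer.mp
  have hle : ((x • P : Sylow p H) : Subgroup H) ≤ (P : Subgroup H) := by
    intro y hy
    apply hPH
    obtain ⟨k, hk⟩ := (IsPGroup.iff_orderOf.mp (x • P).2) ⟨y, hy⟩
    exact ⟨k, by rw [← hk, Subgroup.orderOf_mk]⟩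
  apply Sylow.ext
  apply Subgroup.eq_of_le_of_card_ge hle
  rw [Sylow.card_eq_multiplicity, Sylow.card_eq_multiplicity]

end Cfsg.Agent.S3997
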