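import Cfsg.Statements.S4001
import Mathlib
import Cfsg.Agent.S3857
import Cfsg.Agent.S3215
import Cfsg.Agent.S0042
import Cfsg.Agent.S0666
import Cfsg.Agent.S3633
import Cfsg.Agent.Lib.Helper6.FrobTools
import Cfsg.Agent.Lib.Helper6.CoprimeHall
import Cfsg.Agent.Lib.Helper13.FrobStruct
import Cfsg.Agent.Lib.Helper13.FpfCyclic
import Cfsg.Agent.Lib.Helper13.SZConjA
import Cfsg.Agent.Lib.Helper13.SZConjB
import Cfsg.Agent.Lib.Helper29.SylowSub

set_option autoImplicit false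
open Cfsg
open Cfsg.Agent.Lib.Helper6.FrobTools
open Cfsg.Agent.Lib.Helper13
open scoped Pointwise

universe u

namespace Cfsg.Agent.S4001

/-- the kernel of a `FrobData` is nilpotent -/
theorem frobData_nilpotent {G : Type u} [Group G] [Finite G] {C N : Subgroup G}
    (hF : FrobData C N) : Group.IsNilpotent N := by
  obtain ⟨N', hN', -, hnil⟩ := Cfsg.Agent.S0042.result C hF.compl
  have : N' = N := by
    ext x
    rw [hF.mem x, ← SetLike.mem_coe, hN']
    rfl
  rw [← this]; exact hnil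

theorem frobData_of_kernel {G : Type u} [Group G] [Finite G] {C N : Subgroup G}
    (hC : IsFrobeniusComplement C) (hker : frobeniusKernel C = (N : Set G)) : FrobData C N := by
  obtain ⟨N', hN'⟩ := exists_frobData C hC
  have : N' = N := by
    ext x
    rw [hN'.mem x, ← SetLike.mem_coe (p := N), ← hker]
    rfl
  rw [← this]; exact hN'

theorem frobData_ker_ne_bot {G : Type u} [Group G] [Finite G] {C N : Subgroup G}
    (hF : FrobData C N) : N ≠ ⊥ := by
  intro h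
  have := hF.isCompl
  rw [h] at this
  exact hF.compl.2.1 (Subgroup.isComplement'_bot_left.mp this)

theorem frobData_fpf' {G : Type u} [Group G] [Finite G] {C N : Subgroup G}
    (hF : FrobData C N) : ∀ h ∈ C, h ≠ 1 → ∀ x ∈ N, h * x = x * h → x = 1 := by
  intro h hh h1 x hx hc
  have := hF.fpf h hh h1
  have hx' : x ∈ N ⊓ Subgroup.centralizer {h} := by
    refine Subgroup.mem_inf.mpr ⟨hx, ?_⟩
    rw [Subgroup.mem_centralizer_iff]
    intro y hy
    rw [Set.mem_singleton_iff] at hy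
    subst hy
    exact hc
  rw [this, Subgroup.mem_bot] at hx'
  exact hx'

/-- structure part of the statement -/
theorem structPart {G : Type u} [Group G] [Finite G] (H K : Subgroup G) [hHn : H.Normal]
    [hKn : K.Normal] (hlt : H < K)
    (C₁ : Subgroup ↥K) (hF₁ : FrobData C₁ (H.subgroupOf K))
    (C₂ : Subgroup (G ⧸ H)) (hF₂ : FrobData C₂ (K.map (QuotientGroup.mk' H))) :
    Nat.card C₁ = Nat.card (↥K ⧸ H.subgroupOf K) ∧
    Nat.card (K.map (QuotientGroup.mk' H)) = Nat.card (↥K ⧸ H.subgroupOf K) ∧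
    Nat.card C₂ = Nat.card (G ⧸ K) ∧
    Nat.card G = Nat.card H * Nat.card (↥K ⧸ H.subgroupOf K) * Nat.card (G ⧸ K) ∧
    Odd (Nat.card (↥K ⧸ H.subgroupOf K)) ∧ IsCyclic C₁ ∧ IsCyclic C₂ := by
  have hHK : H ≤ K := hlt.le
  obtain ⟨Kb, hKbd⟩ : ∃ Kb : Subgroup (G ⧸ H), Kb = K.map (QuotientGroup.mk' H) := ⟨_, rfl⟩
  rw [← hKbd] at hF₂ ⊢
  haveI hKbn : Kb.Normal := hF₂.normal
  have hKd : K = Kb.comap (QuotientGroup.mk' H) := by
    rw [hKbd, Subgroup.comap_map_eq, QuotientGroup.ker_mk']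
    exact (sup_eq_left.mpr hHK).symm
  have hm : Nat.card (↥K ⧸ H.subgroupOf K) = (H.subgroupOf K).index :=
    (Subgroup.index_eq_card _).symm
  have hH'card : Nat.card (H.subgroupOf K) = Nat.card H :=
    Cfsg.Agent.Lib.Helper29.card_subgroupOf_of_le hHK
  have hKcard : Nat.card K = Nat.card H * (H.subgroupOf K).index := by
    rw [← hH'card]; exact (Subgroup.card_mul_index (H.subgroupOf K)).symm
  have hC₁card : Nat.card C₁ = (H.subgroupOf K).index := by
    have := hF₁.isCompl.card_mul_card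
    rw [hH'card, hKcard] at this
    exact Nat.eq_of_mul_eq_mul_left Nat.card_pos this
  have hKbcard : Nat.card Kb = (H.subgroupOf K).index := by
    have h1 : Nat.card (Kb.comap (QuotientGroup.mk' H)) = Nat.card H * Nat.card Kb :=
      Cfsg.Agent.Lib.Helper6.card_comap_mk' H Kb
    rw [← hKd, hKcard] at h1
    exact (Nat.eq_of_mul_eq_mul_left Nat.card_pos h1).symm
  have hGcard1 : Nat.card G = Nat.card H * Nat.card (G ⧸ H) :=
    (Subgroup.card_eq_card_quotient_mul_card_subgroup H).trans (mul_comm _ _)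
  have hGcard2 : Nat.card G = Nat.card K * Nat.card (G ⧸ K) :=
    (Subgroup.card_eq_card_quotient_mul_card_subgroup K).trans (mul_comm _ _)
  have hC₂card : Nat.card C₂ = Nat.card (G ⧸ K) := by
    have h1 := hF₂.isCompl.card_mul_card
    rw [hKbcard] at h1
    have h2 : Nat.card H * ((H.subgroupOf K).index * Nat.card C₂) =
        Nat.card H * ((H.subgroupOf K).index * Nat.card (G ⧸ K)) := by
      rw [h1, ← hGcard1, hGcard2, hKcard, mul_assoc]
    have h3 := Nat.eq_of_mul_eq_mul_left Nat.card_pos h2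
    have hpos : 0 < (H.subgroupOf K).index := by
      rw [← hC₁card]; exact Nat.card_pos
    exact Nat.eq_of_mul_eq_mul_left hpos h3
  have hGcard3 : Nat.card G = Nat.card H * Nat.card (↥K ⧸ H.subgroupOf K) * Nat.card (G ⧸ K) := by
    rw [hGcard2, hKcard, hm]
  obtain ⟨e, he⟩ := Cfsg.Agent.S3857.complEquiv' H Kb K hKd C₁ hF₁.isCompl
  have hH'1 : H.subgroupOf K ≠ ⊥ := frobData_ker_ne_bot hF₁
  have hKb1 : Kb ≠ ⊥ := frobData_ker_ne_bot hF₂
  have hfpf₁ := frobData_fpf' hF₁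
  have hfpf₂ := frobData_fpf' hF₂
  have hKbnil : Group.IsNilpotent Kb := frobData_nilpotent hF₂
  have hodd : Odd (H.subgroupOf K).index := by
    by_contra hne
    rw [Nat.not_odd_iff_even, even_iff_two_dvd, ← hKbcard] at hne
    haveI : Fact (Nat.Prime 2) := ⟨Nat.prime_two⟩
    obtain ⟨z', hz'⟩ := exists_prime_orderOf_dvd_card' 2 hne
    have hz : orderOf (z' : G ⧸ H) = 2 := by rw [Subgroup.orderOf_coe]; exact hz'
    obtain ⟨⟨c, hcC⟩, hc1⟩ := Subgroup.ne_bot_iff_exists_ne_one.mp hF₂.compl.1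
    have hc1' : c ≠ 1 := fun h => hc1 (Subtype.ext h)
    have hw : c * (z' : G ⧸ H) * c⁻¹ ∈ Kb := hKbn.conj_mem _ z'.2 c
    have hwo : orderOf (⟨_, hw⟩ : ↥Kb) = 2 := by
      rw [← Subgroup.orderOf_coe]
      show orderOf (c * (z' : G ⧸ H) * c⁻¹) = 2
      rw [← hz]
      exact orderOf_injective (MulAut.conj c).toMonoidHom (MulAut.conj c).injective _
    have ho1 : orderOf ((e.symm z' : ↥C₁) : ↥K) = 2 := by
      rw [Subgroup.orderOf_coe, MulEquiv.orderOf_eq]; exact hz'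
    have ho2 : orderOf ((e.symm ⟨_, hw⟩ : ↥C₁) : ↥K) = 2 := by
      rw [Subgroup.orderOf_coe, MulEquiv.orderOf_eq]; exact hwo
    have heq := unique_invol_of_fpf (H.subgroupOf K) C₁ hH'1 hfpf₁ _ _
      (e.symm z').2 (e.symm ⟨_, hw⟩).2 ho1 ho2
    have heq2 : e.symm z' = e.symm ⟨_, hw⟩ := Subtype.ext heq
    have heq3 := e.symm.injective heq2
    have heq4 : (z' : G ⧸ H) = c * (z' : G ⧸ H) * c⁻¹ := congrArg Subtype.val heq3
    have hcz : c * (z' : G ⧸ H) = z' * c := by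
      calc c * (z' : G ⧸ H) = c * z' * c⁻¹ * c := by group
        _ = z' * c := by rw [← heq4]
    have := hfpf₂ c hcC hc1' z' z'.2 hcz
    rw [this, orderOf_one] at hz
    omega
  have hfpf'' : ∀ a ∈ C₁, a ≠ 1 → (H.subgroupOf K) ⊓ Subgroup.centralizer {a} = ⊥ := hF₁.fpf
  have hC₁nil : Group.IsNilpotent C₁ := by
    haveI := hKbnil
    exact Group.nilpotent_of_mulEquiv e.symm
  have hC₁cyc : IsCyclic C₁ := Cfsg.Agent.S3215.cyclic_of_fpf_nilpotent_odd (G := ↥K) C₁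
    (H.subgroupOf K) hH'1 (by rw [Subgroup.normalizer_eq_top]; exact le_top) hfpf'' hC₁nil
    (by rw [hC₁card]; exact hodd)
  haveI hKbcyc : IsCyclic Kb := isCyclic_of_surjective e e.surjective
  have hC₂comm : IsMulCommutative C₂ := by
    refine ⟨⟨fun a b => ?_⟩⟩
    obtain ⟨a, ha⟩ := a
    obtain ⟨b, hb⟩ := b
    apply Subtype.ext
    show a * b = b * a
    have hcomm : (MulAut.conjNormal a : MulAut Kb) * MulAut.conjNormal b =
        MulAut.conjNormal b * MulAut.conjNormal a := by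
      apply (IsCyclic.mulAutMulEquiv ↥Kb).injective
      rw [map_mul, map_mul, mul_comm]
    have h1 : (MulAut.conjNormal (a * b * a⁻¹ * b⁻¹) : MulAut Kb) = 1 := by
      rw [map_mul, map_mul, map_mul, map_inv, map_inv, hcomm]; group
    obtain ⟨⟨z, hzK⟩, hz1⟩ := Subgroup.ne_bot_iff_exists_ne_one.mp hKb1
    have hz1' : z ≠ 1 := fun h => hz1 (Subtype.ext h)
    have h2 : (((MulAut.conjNormal (a * b * a⁻¹ * b⁻¹) : MulAut Kb) ⟨z, hzK⟩ : Kb) : G ⧸ H) = z := by
      rw [h1]; rfl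
    rw [MulAut.conjNormal_apply] at h2
    simp only at h2
    by_contra hab
    have hne : a * b * a⁻¹ * b⁻¹ ≠ 1 := by
      intro h
      apply hab
      calc a * b = a * b * a⁻¹ * b⁻¹ * (b * a) := by group
        _ = b * a := by rw [h, one_mul]
    have hmem : a * b * a⁻¹ * b⁻¹ ∈ C₂ :=
      C₂.mul_mem (C₂.mul_mem (C₂.mul_mem ha hb) (C₂.inv_mem ha)) (C₂.inv_mem hb)
    apply hz1'
    apply hfpf₂ _ hmem hne z hzK
    calc a * b * a⁻¹ * b⁻¹ * z = (a * b * a⁻¹ * b⁻¹) * z * (a * b * a⁻¹ * b⁻¹)⁻¹ * (a * b * a⁻¹ * b⁻¹) := by group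
      _ = z * (a * b * a⁻¹ * b⁻¹) := by rw [h2]
  have hC₂cyc : IsCyclic C₂ := fpf_cyclic C₂ Kb hKb1
    (by rw [Subgroup.normalizer_eq_top]; exact le_top) hF₂.fpf (Or.inl hC₂comm)
  refine ⟨by rw [hm]; exact hC₁card, by rw [hm]; exact hKbcard, hC₂card, hGcard3,
    by rw [hm]; exact hodd, hC₁cyc, hC₂cyc⟩

/-- `G ⧸ K` is cyclic and `G` is solvable. -/
theorem quotPart {G : Type u} [Group G] [Finite G] (H K : Subgroup G) [hHn : H.Normal]
    [hKn : K.Normal] (hlt : H < K)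
    (C₁ : Subgroup ↥K) (hF₁ : FrobData C₁ (H.subgroupOf K))
    (C₂ : Subgroup (G ⧸ H)) (hF₂ : FrobData C₂ (K.map (QuotientGroup.mk' H)))
    (hC₂cyc : IsCyclic C₂) :
    IsCyclic (G ⧸ K) ∧ Group.IsSolvable G ∧ Group.IsNilpotent H := by
  have hHK : H ≤ K := hlt.le
  obtain ⟨θ, hθd⟩ : ∃ θ : G ⧸ H →* G ⧸ K, θ = QuotientGroup.map H K (MonoidHom.id G) hHK := ⟨_, rfl⟩
  have hθmk : ∀ g : G, θ (QuotientGroup.mk' H g) = QuotientGroup.mk' K g := by
    intro g; rw [hθd]; rfl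
  have hθK : ∀ x ∈ K.map (QuotientGroup.mk' H), θ x = 1 := by
    rintro x ⟨k, hk, rfl⟩
    rw [hθmk]
    exact (QuotientGroup.eq_one_iff k).mpr hk
  have hsurj : Function.Surjective (θ.comp C₂.subtype) := by
    intro y
    obtain ⟨g, rfl⟩ := QuotientGroup.mk'_surjective K y
    have hmem : QuotientGroup.mk' H g ∈ K.map (QuotientGroup.mk' H) ⊔ C₂ := by
      rw [hF₂.isCompl.sup_eq_top]; trivial
    haveI := hF₂.normal
    obtain ⟨kb, hkb, c, hc, hkc⟩ := Subgroup.mem_sup_of_normal_left.mp hmem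
    refine ⟨⟨c, hc⟩, ?_⟩
    show θ c = _
    rw [← hθmk, ← hkc, map_mul, hθK kb hkb, one_mul]
  haveI := hC₂cyc
  have hcyc : IsCyclic (G ⧸ K) := isCyclic_of_surjective _ hsurj
  have hH'nil : Group.IsNilpotent (H.subgroupOf K) := frobData_nilpotent hF₁
  have hHnil : Group.IsNilpotent H := by
    haveI := hH'nil
    exact Group.nilpotent_of_mulEquiv (Subgroup.subgroupOfEquivOfLe hHK)
  have hKbnil : Group.IsNilpotent (K.map (QuotientGroup.mk' H)) := frobData_nilpotent hF₂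
  haveI hsolQK : Group.IsSolvable (G ⧸ K) := by
    haveI := hcyc
    letI : CommGroup (G ⧸ K) := IsCyclic.commGroup
    infer_instance
  haveI hsolQH : Group.IsSolvable (G ⧸ H) := by
    haveI := hKbnil
    haveI : Group.IsSolvable (K.map (QuotientGroup.mk' H)) := inferInstance
    apply solvable_of_ker_le_range (K.map (QuotientGroup.mk' H)).subtype θ
    intro x hx
    rw [MonoidHom.mem_ker] at hx
    obtain ⟨g, rfl⟩ := QuotientGroup.mk'_surjective H x
    rw [hθmk] at hx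
    have hgK : g ∈ K := (QuotientGroup.eq_one_iff g).mp hx
    rw [Subgroup.range_subtype]
    exact Subgroup.mem_map_of_mem _ hgK
  haveI hsolH : Group.IsSolvable H := by
    haveI := hHnil
    infer_instance
  have hsolG : Group.IsSolvable G := by
    apply solvable_of_ker_le_range H.subtype (QuotientGroup.mk' H)
    rw [QuotientGroup.ker_mk', Subgroup.range_subtype]
  exact ⟨hcyc, hsolG, hHnil⟩

theorem fwd {G : Type u} [Group G] [Finite G] (H K : Subgroup G) [hHn : H.Normal]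
    [hKn : K.Normal] (hlt : H < K)
    (C₁ : Subgroup ↥K) (hF₁ : FrobData C₁ (H.subgroupOf K))
    (C₂ : Subgroup (G ⧸ H)) (hF₂ : FrobData C₂ (K.map (QuotientGroup.mk' H)))
    (m : ℕ) (hC₁card : Nat.card C₁ = m) (hcopH : m.Coprime (Nat.card H))
    (hcopQ : m.Coprime (Nat.card (G ⧸ K)))
    (p q : ℕ) (hp : p.Prime) (hq : q.Prime) (hpq : p ≠ q) (g : G) (hg : orderOf g = p * q)
    (hpm : p ∣ m) : q ∣ m := by
  have hHK : H ≤ K := hlt.le
  obtain ⟨x, hxd⟩ : ∃ x : G, x = g ^ q := ⟨_, rfl⟩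
  obtain ⟨y, hyd⟩ : ∃ y : G, y = g ^ p := ⟨_, rfl⟩
  have hox : orderOf x = p := by
    rw [hxd, orderOf_pow_of_dvd hq.ne_zero (by rw [hg]; exact dvd_mul_left q p), hg]
    exact Nat.mul_div_cancel p hq.pos
  have hoy : orderOf y = q := by
    rw [hyd, orderOf_pow_of_dvd hp.ne_zero (by rw [hg]; exact dvd_mul_right p q), hg]
    exact Nat.mul_div_cancel_left q hp.pos
  have hxy : x * y = y * x := by
    rw [hxd, hyd]; exact ((Commute.refl g).pow_pow q p).eq
  have hpH : ¬ p ∣ Nat.card H := fun h =>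
    hp.one_lt.ne' (Nat.eq_one_of_dvd_coprimes hcopH hpm h)
  have hpQ : ¬ p ∣ Nat.card (G ⧸ K) := fun h =>
    hp.one_lt.ne' (Nat.eq_one_of_dvd_coprimes hcopQ hpm h)
  have hxK : x ∈ K := by
    have h1 : orderOf (QuotientGroup.mk' K x) ∣ p := by
      rw [← hox]; exact orderOf_map_dvd _ x
    rcases (Nat.dvd_prime hp).mp h1 with h | h
    · exact (QuotientGroup.eq_one_iff x).mp (orderOf_eq_one_iff.mp h)
    · exfalso; apply hpQ; rw [← h]; exact orderOf_dvd_natCard _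
  have hxH : x ∉ H := by
    intro h
    apply hpH
    rw [← hox]
    exact Subgroup.orderOf_dvd_natCard H h
  have hx1 : x ≠ 1 := fun h => hxH (h ▸ H.one_mem)
  have hxbK : QuotientGroup.mk' H x ∈ K.map (QuotientGroup.mk' H) := Subgroup.mem_map_of_mem _ hxK
  have hxb1 : QuotientGroup.mk' H x ≠ 1 := fun h => hxH ((QuotientGroup.eq_one_iff x).mp h)
  have hcommb : QuotientGroup.mk' H y * QuotientGroup.mk' H x =
      QuotientGroup.mk' H x * QuotientGroup.mk' H y := by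
    rw [← map_mul, ← map_mul, hxy]
  have hybK : QuotientGroup.mk' H y ∈ K.map (QuotientGroup.mk' H) := by
    by_contra hcon
    obtain ⟨gb, hgb⟩ := hF₂.exists_cj_of_not_mem hcon
    have hyb1 : QuotientGroup.mk' H y ≠ 1 := fun h => hcon (h ▸ Subgroup.one_mem _)
    exact hxb1 (frobData_fpf' (hF₂.cj gb) _ hgb hyb1 _ hxbK hcommb)
  have hyK : y ∈ K := by
    obtain ⟨k, hk, hky⟩ := hybK
    have h1 : k⁻¹ * y ∈ H := by
      rw [← QuotientGroup.eq_one_iff, QuotientGroup.mk_mul, QuotientGroup.mk_inv]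
      have : (QuotientGroup.mk k : G ⧸ H) = QuotientGroup.mk y := hky
      rw [this, inv_mul_cancel]
    have : y = k * (k⁻¹ * y) := by group
    rw [this]
    exact K.mul_mem hk (hHK h1)
  have hx'H : (⟨x, hxK⟩ : ↥K) ∉ H.subgroupOf K := by
    intro h; exact hxH (Subgroup.mem_subgroupOf.mp h)
  obtain ⟨k, hk⟩ := hF₁.exists_cj_of_not_mem hx'H
  have hx'1 : (⟨x, hxK⟩ : ↥K) ≠ 1 := fun h => hx1 (congrArg Subtype.val h)
  have hy' : (⟨y, hyK⟩ : ↥K) ∈ MulAut.conj k • C₁ :=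
    (hF₁.cj k).mem_of_commute hk hx'1 (Subtype.ext hxy.symm)
  have h2 := Subgroup.orderOf_dvd_natCard _ hy'
  rw [card_cj, hC₁card, Subgroup.orderOf_mk, hoy] at h2
  exact h2

theorem bwd_both {G : Type u} [Group G] [Finite G] (K : Subgroup G) (C₁ : Subgroup ↥K)
    (hcyc : IsCyclic C₁) (p q : ℕ) (hp : p.Prime) (hq : q.Prime) (hpq : p ≠ q)
    (hpm : p ∣ Nat.card C₁) (hqm : q ∣ Nat.card C₁) : ∃ g : G, orderOf g = p * q := by
  obtain ⟨c, hc⟩ := IsCyclic.exists_ofOrder_eq_natCard (α := ↥C₁)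
  have hdvd : p * q ∣ orderOf c := by
    rw [hc]
    exact Nat.Coprime.mul_dvd_of_dvd_of_dvd ((Nat.coprime_primes hp hq).mpr hpq) hpm hqm
  obtain ⟨c', hc'⟩ := exists_orderOf_eq_of_dvd c (p * q) hdvd
  refine ⟨((c' : ↥K) : G), ?_⟩
  rw [Subgroup.orderOf_coe, Subgroup.orderOf_coe]
  exact hc'

theorem bwd_Q {G : Type u} [Group G] [Finite G] (K : Subgroup G) [K.Normal]
    (hcyc : IsCyclic (G ⧸ K)) (p q : ℕ) (hp : p.Prime) (hq : q.Prime) (hpq : p ≠ q)
    (hpm : p ∣ Nat.card (G ⧸ K)) (hqm : q ∣ Nat.card (G ⧸ K)) : ∃ g : G, orderOf g = p * q := by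
  obtain ⟨c, hc⟩ := IsCyclic.exists_ofOrder_eq_natCard (α := G ⧸ K)
  have hdvd : p * q ∣ orderOf c := by
    rw [hc]
    exact Nat.Coprime.mul_dvd_of_dvd_of_dvd ((Nat.coprime_primes hp hq).mpr hpq) hpm hqm
  obtain ⟨c', hc'⟩ := exists_orderOf_eq_of_dvd c (p * q) hdvd
  obtain ⟨g, hg⟩ := exists_orderOf_eq_of_surjective (QuotientGroup.mk' K)
    (QuotientGroup.mk'_surjective K) c'
  exact ⟨g, hg.trans hc'⟩

theorem mem_of_mk_mem_map {G : Type u} [Group G] (H K : Subgroup G) [hHn : H.Normal]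
    (hHK : H ≤ K) (y : G) (hy : QuotientGroup.mk' H y ∈ K.map (QuotientGroup.mk' H)) : y ∈ K := by
  obtain ⟨k, hk, hky⟩ := hy
  have h1 : k⁻¹ * y ∈ H := by
    rw [← QuotientGroup.eq_one_iff, QuotientGroup.mk_mul, QuotientGroup.mk_inv]
    have : (QuotientGroup.mk k : G ⧸ H) = QuotientGroup.mk y := hky
    rw [this, inv_mul_cancel]
  have : y = k * (k⁻¹ * y) := by group
  rw [this]
  exact K.mul_mem hk (hHK h1)

theorem bwd_mixed {G : Type u} [Group G] [Finite G] (H K : Subgroup G) [hHn : H.Normal]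
    [hKn : K.Normal] (hlt : H < K)
    (C₁ : Subgroup ↥K) (hF₁ : FrobData C₁ (H.subgroupOf K))
    (C₂ : Subgroup (G ⧸ H)) (hF₂ : FrobData C₂ (K.map (QuotientGroup.mk' H)))
    (hHnil : Group.IsNilpotent H)
    (m : ℕ) (hC₁card : Nat.card C₁ = m)
    (p q : ℕ) (hp : p.Prime) (hq : q.Prime) (hpq : p ≠ q) (hpH : p ∣ Nat.card H)
    (hqQ : q ∣ Nat.card (G ⧸ K)) (hqm : ¬ q ∣ m) : ∃ g : G, orderOf g = p * q := by
  have hHK : H ≤ K := hlt.le
  have hfpf₁ := frobData_fpf' hF₁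
  haveI : Fact p.Prime := ⟨hp⟩
  haveI : Fact q.Prime := ⟨hq⟩
  -- Step 1: B₁
  obtain ⟨B₁, hB₁d⟩ : ∃ B₁ : Subgroup G, B₁ = C₁.map K.subtype := ⟨_, rfl⟩
  have hB₁K : B₁ ≤ K := by rw [hB₁d]; exact Subgroup.map_subtype_le _
  have hB₁card : Nat.card B₁ = m := by
    rw [hB₁d, Subgroup.card_map_of_injective K.subtype_injective, hC₁card]
  have hB₁mem : ∀ x ∈ B₁, ∃ c' : ↥K, c' ∈ C₁ ∧ (c' : G) = x := by
    intro x hx
    rw [hB₁d] at hx
    obtain ⟨c', hc', rfl⟩ := hx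
    exact ⟨c', hc', rfl⟩
  have hB₁H : ∀ x ∈ B₁, x ∈ H → x = 1 := by
    intro x hx hxH
    obtain ⟨c', hc', rfl⟩ := hB₁mem x hx
    have h3 : c' ∈ H.subgroupOf K ⊓ C₁ := Subgroup.mem_inf.mpr ⟨Subgroup.mem_subgroupOf.mpr hxH, hc'⟩
    rw [hF₁.isCompl.disjoint.eq_bot, Subgroup.mem_bot] at h3
    rw [h3]; rfl
  have hfpfB : ∀ c ∈ B₁, c ≠ 1 → ∀ x ∈ H, c * x = x * c → x = 1 := by
    intro c hc hc1 x hx hcx
    obtain ⟨c', hc', rfl⟩ := hB₁mem c hc
    have hc'1 : c' ≠ 1 := by rintro rfl; exact hc1 rfl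
    have := hfpf₁ c' hc' hc'1 ⟨x, hHK hx⟩ (Subgroup.mem_subgroupOf.mpr hx) (Subtype.ext hcx)
    exact congrArg Subtype.val this
  have hm1 : m ≠ 1 := by
    intro h
    rw [h] at hC₁card
    exact hF₁.compl.1 (Subgroup.card_eq_one.mp hC₁card)
  obtain ⟨b, hbB, hb1⟩ : ∃ b ∈ B₁, b ≠ 1 := by
    by_contra hcon
    push Not at hcon
    apply hm1
    rw [← hB₁card, (Subgroup.eq_bot_iff_forall B₁).mpr hcon, Subgroup.card_bot]
  -- Step 2: Frattini
  have hH'nil : Group.IsNilpotent (H.subgroupOf K) := frobData_nilpotent hF₁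
  have hH'sol : Group.IsSolvable (H.subgroupOf K) := by
    haveI := hH'nil; infer_instance
  have hH'card : Nat.card (H.subgroupOf K) = Nat.card H :=
    Cfsg.Agent.Lib.Helper29.card_subgroupOf_of_le hHK
  have hfrat : ∀ g : G, ∃ k ∈ K, k⁻¹ * g ∈ Subgroup.normalizer (B₁ : Set G) := by
    intro g
    have hDle : MulAut.conj g • B₁ ≤ K := by
      intro x hx
      rw [mem_cj] at hx
      have := hKn.conj_mem _ (hB₁K hx) g
      have e : g * (g⁻¹ * x * g) * g⁻¹ = x := by group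
      rwa [e] at this
    have hDcard : Nat.card ((MulAut.conj g • B₁).subgroupOf K) = Nat.card C₁ := by
      rw [Cfsg.Agent.Lib.Helper29.card_subgroupOf_of_le hDle, card_cj, hB₁card, hC₁card]
    have hDdisj : Disjoint (H.subgroupOf K) ((MulAut.conj g • B₁).subgroupOf K) := by
      rw [Subgroup.disjoint_def]
      intro x hxH hxD
      rw [Subgroup.mem_subgroupOf] at hxH hxD
      rw [mem_cj] at hxD
      have h1 : g⁻¹ * (x : G) * g ∈ H := by
        have := hHn.conj_mem _ hxH g⁻¹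
        rwa [inv_inv] at this
      have h2 := hB₁H _ hxD h1
      apply Subtype.ext
      show (x : G) = 1
      calc (x : G) = g * (g⁻¹ * x * g) * g⁻¹ := by group
        _ = 1 := by rw [h2]; group
    have hD : (H.subgroupOf K).IsComplement' ((MulAut.conj g • B₁).subgroupOf K) :=
      Subgroup.isComplement'_of_card_mul_and_disjoint
        (by rw [hDcard]; exact hF₁.isCompl.card_mul_card) hDdisj
    obtain ⟨k, hk⟩ := sz_conj_of_solvable_left (G := ↥K) (H.subgroupOf K) C₁ _ hH'sol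
      hF₁.coprime.symm hF₁.isCompl hD
    have hk2 := congrArg (Subgroup.map K.subtype) hk
    rw [map_cj, ← hB₁d, Subgroup.map_subgroupOf_eq_of_le hDle] at hk2
    refine ⟨(k : G), k.2, ?_⟩
    rw [← cj_eq_self_iff_mem_normalizer, map_mul, mul_smul]
    show MulAut.conj (k : G)⁻¹ • MulAut.conj g • B₁ = B₁
    rw [← hk2]
    show MulAut.conj (k : G)⁻¹ • MulAut.conj (k : G) • B₁ = B₁
    rw [map_inv, inv_smul_smul]
  obtain ⟨N, hNd⟩ : ∃ N : Subgroup G, N = Subgroup.normalizer (B₁ : Set G) := ⟨_, rfl⟩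
  have hNK : N ⊔ K = ⊤ := by
    rw [eq_top_iff]
    intro g _
    obtain ⟨k, hk, hkg⟩ := hfrat g
    have : g = k * (k⁻¹ * g) := by group
    rw [this]
    exact Subgroup.mul_mem _ ((le_sup_right : K ≤ N ⊔ K) hk)
      ((le_sup_left : N ≤ N ⊔ K) (by rw [hNd]; exact hkg))
  -- Step 3
  have hqN : q ∣ Nat.card N := by
    have h1 : Nat.card (N ⊔ K : Subgroup G) ∣ Nat.card N * Nat.card K :=
      Cfsg.Agent.Lib.Helper6.card_sup_dvd_mul'' N K
    rw [hNK, Subgroup.card_top, (Subgroup.card_eq_card_quotient_mul_card_subgroup K)] at h1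
    have h2 : Nat.card (G ⧸ K) ∣ Nat.card N :=
      Nat.dvd_of_mul_dvd_mul_right Nat.card_pos h1
    exact hqQ.trans h2
  obtain ⟨y', hy'⟩ := exists_prime_orderOf_dvd_card' q hqN
  obtain ⟨y, hyd⟩ : ∃ y : G, y = (y' : G) := ⟨_, rfl⟩
  have hyN : y ∈ N := by rw [hyd]; exact y'.2
  have hoy : orderOf y = q := by rw [hyd, Subgroup.orderOf_coe]; exact hy'
  -- Step 5
  have hY_notK : ∀ c ∈ Subgroup.zpowers y, c ≠ 1 → c ∉ K := by
    intro c hc hc1 hcK
    have hcN : c ∈ N := (Subgroup.zpowers_le.mpr hyN) hc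
    have hoc : orderOf c = q := by
      have h1 : orderOf c ∣ q := by
        rw [← hoy]
        obtain ⟨i, rfl⟩ := Subgroup.mem_zpowers_iff.mp hc
        exact orderOf_dvd_of_pow_eq_one (by rw [← zpow_natCast, ← zpow_mul, mul_comm, zpow_mul, zpow_natCast, pow_orderOf_eq_one, one_zpow])
      rcases (Nat.dvd_prime hq).mp h1 with h | h
      · exact absurd (orderOf_eq_one_iff.mp h) hc1
      · exact h
    have hcH : c ∈ H := by
      by_contra hcon
      have hc'H : (⟨c, hcK⟩ : ↥K) ∉ H.subgroupOf K := fun h => hcon (Subgroup.mem_subgroupOf.mp h)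
      obtain ⟨k, hk⟩ := hF₁.exists_cj_of_not_mem hc'H
      have h2 := Subgroup.orderOf_dvd_natCard _ hk
      rw [card_cj, hC₁card, Subgroup.orderOf_mk, hoc] at h2
      exact hqm h2
    -- c ∈ N ∩ H centralizes B₁
    have hcb : b * c = c * b := by
      have hcn : c * b * c⁻¹ ∈ B₁ := by
        rw [hNd] at hcN
        exact (Subgroup.mem_normalizer_iff.mp hcN b).mp hbB
      have h1 : c * b * c⁻¹ * b⁻¹ ∈ B₁ := B₁.mul_mem hcn (B₁.inv_mem hbB)
      have h2 : c * b * c⁻¹ * b⁻¹ ∈ H := by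
        have : c * b * c⁻¹ * b⁻¹ = c * (b * c⁻¹ * b⁻¹) := by group
        rw [this]
        exact H.mul_mem hcH (hHn.conj_mem _ (H.inv_mem hcH) b)
      have h3 := hB₁H _ h1 h2
      calc b * c = (c * b * c⁻¹ * b⁻¹)⁻¹ * (c * b) := by group
        _ = c * b := by rw [h3, inv_one, one_mul]
    exact hc1 (hfpfB b hbB hb1 c hcH hcb)
  -- Step 6
  have hfpfY : ∀ c ∈ Subgroup.zpowers y, c ≠ 1 → ∀ x ∈ B₁, c * x = x * c → x = 1 := by
    intro c hc hc1 x hx hcx
    have hcK := hY_notK c hc hc1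
    have hcb : QuotientGroup.mk' H c ∉ K.map (QuotientGroup.mk' H) :=
      fun h => hcK (mem_of_mk_mem_map H K hHK c h)
    obtain ⟨gb, hgb⟩ := hF₂.exists_cj_of_not_mem hcb
    have hcb1 : QuotientGroup.mk' H c ≠ 1 := fun h => hcb (h ▸ Subgroup.one_mem _)
    have hxb : QuotientGroup.mk' H x ∈ K.map (QuotientGroup.mk' H) :=
      Subgroup.mem_map_of_mem _ (hB₁K hx)
    have h1 := frobData_fpf' (hF₂.cj gb) _ hgb hcb1 _ hxb (by rw [← map_mul, ← map_mul, hcx])
    exact hB₁H x hx ((QuotientGroup.eq_one_iff x).mp h1)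
  -- Step 7: the Frobenius group F = B₁ ⋊ ⟨y⟩
  have hy1 : y ≠ 1 := by
    rintro rfl; rw [orderOf_one] at hoy; exact hq.one_lt.ne hoy
  have hB₁N : B₁ ≤ N := by rw [hNd]; exact Subgroup.le_normalizer
  have hYN : Subgroup.zpowers y ≤ N := Subgroup.zpowers_le.mpr hyN
  obtain ⟨F, hFd⟩ : ∃ F : Subgroup G, F = B₁ ⊔ Subgroup.zpowers y := ⟨_, rfl⟩
  have hB₁F : B₁ ≤ F := by rw [hFd]; exact le_sup_left
  have hYF : Subgroup.zpowers y ≤ F := by rw [hFd]; exact le_sup_right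
  have hFN : F ≤ N := by rw [hFd]; exact sup_le hB₁N hYN
  haveI hB₁'n : (B₁.subgroupOf F).Normal :=
    Subgroup.normal_subgroupOf_of_le_normalizer (by rw [← hNd]; exact hFN)
  have hcopmq : m.Coprime q := (Nat.Coprime.symm ((Nat.Prime.coprime_iff_not_dvd hq).mpr hqm))
  have hYcard : Nat.card (Subgroup.zpowers y) = q := by rw [Nat.card_zpowers, hoy]
  have hFcard : Nat.card F = m * q := by
    apply Nat.dvd_antisymm
    · rw [hFd, ← hB₁card, ← hYcard]
      exact Cfsg.Agent.S3633.card_sup_dvd B₁ (Subgroup.zpowers y) (by rw [← hNd]; exact hYN)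
    · apply Nat.Coprime.mul_dvd_of_dvd_of_dvd hcopmq
      · rw [← hB₁card]; exact Subgroup.card_dvd_of_le hB₁F
      · rw [← hYcard]; exact Subgroup.card_dvd_of_le hYF
  have hB₁'card : Nat.card (B₁.subgroupOf F) = m := by
    rw [Cfsg.Agent.Lib.Helper29.card_subgroupOf_of_le hB₁F, hB₁card]
  have hY'card : Nat.card ((Subgroup.zpowers y).subgroupOf F) = q := by
    rw [Cfsg.Agent.Lib.Helper29.card_subgroupOf_of_le hYF, hYcard]
  have hcompl : (B₁.subgroupOf F).IsComplement' ((Subgroup.zpowers y).subgroupOf F) :=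
    Subgroup.isComplement'_of_coprime (by rw [hB₁'card, hY'card, hFcard])
      (by rw [hB₁'card, hY'card]; exact hcopmq)
  have hB₁'1 : B₁.subgroupOf F ≠ ⊥ := by
    intro h
    rw [h, Subgroup.card_bot] at hB₁'card
    exact hm1 hB₁'card.symm
  have hY'1 : (Subgroup.zpowers y).subgroupOf F ≠ ⊥ := by
    intro h
    rw [h, Subgroup.card_bot] at hY'card
    exact hq.one_lt.ne hY'card
  have hfpfF : ∀ h ∈ (Subgroup.zpowers y).subgroupOf F, h ≠ 1 → ∀ x ∈ B₁.subgroupOf F,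
      h * x = x * h → x = 1 := by
    intro h hh h1 x hx hhx
    have h1' : (h : G) ≠ 1 := fun hc => h1 (Subtype.ext hc)
    have := hfpfY (h : G) (Subgroup.mem_subgroupOf.mp hh) h1' (x : G)
      (Subgroup.mem_subgroupOf.mp hx) (congrArg Subtype.val hhx)
    exact Subtype.ext this
  obtain ⟨hY'frob, hY'ker⟩ := frobTop (G := ↥F) (B₁.subgroupOf F)
    ((Subgroup.zpowers y).subgroupOf F) hcompl hB₁'1 hY'1 hfpfF
  -- Step 8: V
  have hsylH := ((Group.isNilpotent_of_finite_tfae (G := ↥H)).out 0 3).mp hHnil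
  obtain ⟨R⟩ : Nonempty (Sylow p ↥H) := inferInstance
  haveI hRn : (R : Subgroup ↥H).Normal := hsylH p ‹_› R
  haveI : (R : Subgroup ↥H).Characteristic := R.characteristic_of_normal hRn
  obtain ⟨P₀, hP₀d⟩ : ∃ P₀ : Subgroup G, P₀ = (R : Subgroup ↥H).map H.subtype := ⟨_, rfl⟩
  haveI hP₀n : P₀.Normal := by rw [hP₀d]; exact ConjAct.normal_of_characteristic_of_normal
  have hP₀p : IsPGroup p P₀ := by rw [hP₀d]; exact R.isPGroup'.map _
  have hP₀H : P₀ ≤ H := by rw [hP₀d]; exact Subgroup.map_subtype_le _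
  have hP₀1 : P₀ ≠ ⊥ := by
    rw [hP₀d]
    intro h
    rw [Subgroup.map_eq_bot_iff_of_injective _ H.subtype_injective] at h
    exact R.ne_bot_of_dvd_card hpH h
  obtain ⟨V, hVd⟩ : ∃ V : Subgroup G, V = (Subgroup.center ↥P₀).map P₀.subtype := ⟨_, rfl⟩
  haveI hVn : V.Normal := by rw [hVd]; exact ConjAct.normal_of_characteristic_of_normal
  have hVP₀ : V ≤ P₀ := by rw [hVd]; exact Subgroup.map_subtype_le _
  have hVab : IsMulCommutative V := by rw [hVd]; infer_instance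
  have hV1 : V ≠ ⊥ := by
    rw [hVd]
    intro h
    rw [Subgroup.map_eq_bot_iff_of_injective _ P₀.subtype_injective] at h
    haveI : Nontrivial ↥P₀ := (Subgroup.nontrivial_iff_ne_bot P₀).mpr hP₀1
    haveI := hP₀p.center_nontrivial
    exact (Subgroup.nontrivial_iff_ne_bot _).mp inferInstance h
  have hVp : IsPGroup p V := hP₀p.to_le hVP₀
  -- Step 9
  have hcopV : (Nat.card V).Coprime (Nat.card (Cfsg.frobeniusKernel ((Subgroup.zpowers y).subgroupOf F))) := by
    rw [hY'ker]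
    show (Nat.card V).Coprime (Nat.card (B₁.subgroupOf F))
    rw [hB₁'card]
    obtain ⟨k, hk⟩ := IsPGroup.iff_card.mp hVp
    rw [hk]
    apply Nat.Coprime.pow_left
    rw [Nat.Prime.coprime_iff_not_dvd hp]
    intro hpm
    have := hF₁.coprime
    rw [hC₁card, hH'card] at this
    exact hp.one_lt.ne' (Nat.eq_one_of_dvd_coprimes this hpm hpH)
  have hCKV : V ⊓ Subgroup.centralizer (Subtype.val '' Cfsg.frobeniusKernel ((Subgroup.zpowers y).subgroupOf F) : Set G) = ⊥ := by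
    rw [hY'ker, eq_bot_iff]
    intro v hv
    rw [Subgroup.mem_bot]
    obtain ⟨hvV, hvC⟩ := Subgroup.mem_inf.mp hv
    rw [Subgroup.mem_centralizer_iff] at hvC
    have hbmem : b ∈ (Subtype.val '' ((B₁.subgroupOf F : Subgroup ↥F) : Set ↥F)) :=
      ⟨⟨b, hB₁F hbB⟩, Subgroup.mem_subgroupOf.mpr hbB, rfl⟩
    exact hfpfB b hbB hb1 v (hP₀H (hVP₀ hvV)) (hvC b hbmem)
  have hres := Cfsg.Agent.S0666.result V F hVab hV1
    (by rw [Subgroup.normalizer_eq_top]; exact le_top) ((Subgroup.zpowers y).subgroupOf F)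
    hY'frob hcopV hCKV
  obtain ⟨⟨v, hvmem⟩, hv1⟩ := Subgroup.ne_bot_iff_exists_ne_one.mp hres
  have hv1' : v ≠ 1 := fun h => hv1 (Subtype.ext h)
  obtain ⟨hvV, hvC⟩ := Subgroup.mem_inf.mp hvmem
  rw [Subgroup.mem_centralizer_iff] at hvC
  have hyv : y * v = v * y := by
    apply hvC y
    rw [Subgroup.map_subgroupOf_eq_of_le hYF]
    exact Subgroup.mem_zpowers y
  -- Step 10
  have hpv : p ∣ orderOf v := by
    obtain ⟨k, hk⟩ := hVp ⟨v, hvV⟩
    have hk' : v ^ p ^ k = 1 := by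
      have := congrArg Subtype.val hk
      simpa using this
    obtain ⟨j, -, hj⟩ := (Nat.dvd_prime_pow hp).mp (orderOf_dvd_of_pow_eq_one hk')
    rw [hj]
    apply dvd_pow_self
    rintro rfl
    rw [pow_zero] at hj
    exact hv1' (orderOf_eq_one_iff.mp hj)
  obtain ⟨j, hj⟩ := exists_pow_prime_order v p hpv
  refine ⟨v ^ j * y, orderOf_mul_of_primes hp hq hpq hj hoy ?_⟩
  exact (show Commute v y from hyv.symm).pow_left j

end Cfsg.Agent.S4001

namespace Cfsg.Agent.S4001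

/-- Let G be a 2-Frobenius group: it has normal subgroups H < K with K a Frobenius group with kernel H and G/H a Frobenius group with kernel K/H. Then G is solvable; K/H has odd order coprime to the order of H and to the order of G/K (it is the image of an odd-order Hall subgroup); G/K is cyclic; and the prime graph of G has exactly two connected components, both complete: for distinct primes p, q dividing the order of G, G has an element of order pq exactly when p and q either both divide the order of K/H or both do not. -/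
theorem result {G : Type*} [Group G] [Finite G] (H K : Subgroup G) [H.Normal] [K.Normal] (hlt : H < K)
    (hK : ∃ C : Subgroup ↥K, Cfsg.IsFrobeniusComplement C ∧ Cfsg.frobeniusKernel C = (H.subgroupOf K : Set ↥K))
    (hGH : ∃ C : Subgroup (G ⧸ H), Cfsg.IsFrobeniusComplement C ∧ Cfsg.frobeniusKernel C = (K.map (QuotientGroup.mk' H) : Set (G ⧸ H))) :
    Group.IsSolvable G ∧ Odd (Nat.card (↥K ⧸ H.subgroupOf K)) ∧
      Nat.Coprime (Nat.card (↥K ⧸ H.subgroupOf K)) (Nat.card ↥H * Nat.card (G ⧸ K)) ∧ IsCyclic (G ⧸ K) ∧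
      ∀ p q : ℕ, p.Prime → q.Prime → p ≠ q → p ∣ Nat.card G → q ∣ Nat.card G →
        ((∃ g : G, orderOf g = p * q) ↔ (p ∣ Nat.card (↥K ⧸ H.subgroupOf K) ↔ q ∣ Nat.card (↥K ⧸ H.subgroupOf K))) := by
  obtain ⟨C₁, hC₁, hker₁⟩ := hK
  obtain ⟨C₂, hC₂, hker₂⟩ := hGH
  have hF₁ := frobData_of_kernel hC₁ hker₁
  have hF₂ := frobData_of_kernel hC₂ hker₂
  obtain ⟨hc1, hkb, hc2, hGcard, hodd, hcyc1, hcyc2⟩ := structPart H K hlt C₁ hF₁ C₂ hF₂
  obtain ⟨hcycQ, hsol, hHnil⟩ := quotPart H K hlt C₁ hF₁ C₂ hF₂ hcyc2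
  obtain ⟨m, hm⟩ : ∃ m : ℕ, m = Nat.card (↥K ⧸ H.subgroupOf K) := ⟨_, rfl⟩
  rw [← hm] at hc1 hkb hGcard hodd ⊢
  have hcopH : m.Coprime (Nat.card H) := by
    have := hF₁.coprime
    rw [hc1, Cfsg.Agent.Lib.Helper29.card_subgroupOf_of_le hlt.le] at this
    exact this
  have hcopQ : m.Coprime (Nat.card (G ⧸ K)) := by
    have := hF₂.coprime
    rw [hc2, hkb] at this
    exact this.symm
  refine ⟨hsol, hodd, Nat.Coprime.mul_right hcopH hcopQ, hcycQ, ?_⟩
  intro p q hp hq hpq hpG hqG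
  constructor
  · rintro ⟨g, hg⟩
    constructor
    · intro hpm
      exact fwd H K hlt C₁ hF₁ C₂ hF₂ m hc1 hcopH hcopQ p q hp hq hpq g hg hpm
    · intro hqm
      exact fwd H K hlt C₁ hF₁ C₂ hF₂ m hc1 hcopH hcopQ q p hq hp hpq.symm g
        (by rw [hg, mul_comm]) hqm
  · intro hiff
    by_cases hpm : p ∣ m
    · have hqm := hiff.mp hpm
      exact bwd_both K C₁ hcyc1 p q hp hq hpq (hc1 ▸ hpm) (hc1 ▸ hqm)
    · have hqm : ¬ q ∣ m := fun h => hpm (hiff.mpr h)
      have hsplit : ∀ t : ℕ, t.Prime → t ∣ Nat.card G → ¬ t ∣ m →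
          t ∣ Nat.card H ∨ t ∣ Nat.card (G ⧸ K) := by
        intro t ht htG htm
        rw [hGcard] at htG
        rcases (Nat.Prime.dvd_mul ht).mp htG with h | h
        · rcases (Nat.Prime.dvd_mul ht).mp h with h | h
          · exact Or.inl h
          · exact absurd h htm
        · exact Or.inr h
      rcases hsplit p hp hpG hpm with hpH | hpQ <;> rcases hsplit q hq hqG hqm with hqH | hqQ
      · haveI := hHnil
        obtain ⟨g, hg⟩ := exists_mixed_of_nilpotent (N := ↥H) p q hp hq hpq hpH hqH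
        exact ⟨(g : G), by rw [Subgroup.orderOf_coe]; exact hg⟩
      · exact bwd_mixed H K hlt C₁ hF₁ C₂ hF₂ hHnil m hc1 p q hp hq hpq hpH hqQ hqm
      · obtain ⟨g, hg⟩ := bwd_mixed H K hlt C₁ hF₁ C₂ hF₂ hHnil m hc1 q p hq hp hpq.symm hqH hpQ hpm
        exact ⟨g, by rw [hg, mul_comm]⟩
      · exact bwd_Q K hcycQ p q hp hq hpq hpQ hqQ

end Cfsg.Agent.S4001
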