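import Cfsg.Statements.S4005
import Mathlib
import Cfsg.Agent.Lib.Helper4.BurnsidePQ
import Cfsg.Agent.Lib.Helper10.SolvableNormal
import Cfsg.Agent.S0533

set_option autoImplicit false
open Cfsg

namespace Cfsg.Agent.S4005

variable {G : Type*} [Group G]

/-- A fixed-point-free involution inverts. -/
theorem inverts_of_fpf [Finite G] (N : Subgroup G) [hN : N.Normal] (t : G) (ht : t * t = 1)
    (hfpf : ∀ n ∈ N, t * n = n * t → n = 1) : ∀ n ∈ N, t * n * t⁻¹ = n⁻¹ := by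
  have htinv : t⁻¹ = t := inv_eq_of_mul_eq_one_left ht
  let f : N → N := fun n => ⟨(n : G)⁻¹ * (t * n * t⁻¹), N.mul_mem (N.inv_mem n.2) (hN.conj_mem n n.2 t)⟩
  have hinj : Function.Injective f := by
    intro n m hnm
    have h1 : (n : G)⁻¹ * (t * n * t⁻¹) = (m : G)⁻¹ * (t * m * t⁻¹) := congrArg Subtype.val hnm
    have h2 : t * ((m : G) * (n : G)⁻¹) = ((m : G) * (n : G)⁻¹) * t := by
      have h3 : (m : G) * (n : G)⁻¹ * (t * n * t⁻¹) = t * m * t⁻¹ := by
        rw [mul_assoc, h1, mul_inv_cancel_left]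
      have h4 : (m : G) * (n : G)⁻¹ * t = t * m * t⁻¹ * (t * (n : G)⁻¹) := by
        calc (m : G) * (n : G)⁻¹ * t = (m : G) * (n : G)⁻¹ * (t * n * t⁻¹) * (t * (n : G)⁻¹) := by group
          _ = t * m * t⁻¹ * (t * (n : G)⁻¹) := by rw [h3]
      rw [h4]; group
    have h5 := hfpf _ (N.mul_mem m.2 (N.inv_mem n.2)) h2
    have : (m : G) = n := by
      have := mul_inv_eq_one.mp h5
      exact this
    exact Subtype.ext this.symm
  have hsurj : Function.Surjective f := Finite.surjective_of_injective hinj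
  intro n hn
  obtain ⟨m, hm⟩ := hsurj ⟨n, hn⟩
  have hm' : (m : G)⁻¹ * (t * m * t⁻¹) = n := congrArg Subtype.val hm
  rw [← hm', htinv]
  have e1 : t * ((m : G)⁻¹ * (t * m * t)) * t = t * (m : G)⁻¹ * t * m * (t * t) := by group
  have e2 : ((m : G)⁻¹ * (t * m * t))⁻¹ = t⁻¹ * (m : G)⁻¹ * t⁻¹ * m := by group
  rw [e1, e2, ht, mul_one, htinv]

/-- If every element of `N` is inverted by `t` then `N` is commutative. -/
theorem comm_of_inverts (N : Subgroup G) (t : G) (hinv : ∀ n ∈ N, t * n * t⁻¹ = n⁻¹) :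
    ∀ a ∈ N, ∀ b ∈ N, a * b = b * a := by
  intro a ha b hb
  have h1 := hinv (a * b) (N.mul_mem ha hb)
  have h2 : t * (a * b) * t⁻¹ = (t * a * t⁻¹) * (t * b * t⁻¹) := by group
  rw [h2, hinv a ha, hinv b hb] at h1
  have h3 : (a⁻¹ * b⁻¹)⁻¹ = ((a * b)⁻¹)⁻¹ := by rw [h1]
  rw [mul_inv_rev, inv_inv, inv_inv, inv_inv] at h3
  exact h3.symm

theorem comm_of_sq (N : Subgroup G) (h2 : ∀ n ∈ N, n ^ 2 = 1) :
    ∀ a ∈ N, ∀ b ∈ N, a * b = b * a := by
  intro a ha b hb
  have hab := h2 (a * b) (N.mul_mem ha hb)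
  have haa := h2 a ha
  have hbb := h2 b hb
  rw [pow_two] at hab haa hbb
  calc a * b = (a * b)⁻¹ := (inv_eq_of_mul_eq_one_right hab).symm
    _ = b⁻¹ * a⁻¹ := mul_inv_rev a b
    _ = b * a := by rw [inv_eq_of_mul_eq_one_right hbb, inv_eq_of_mul_eq_one_right haa]

theorem eq_one_of_sq_of_cube {g : G} (h2 : g ^ 2 = 1) (h3 : g ^ 3 = 1) : g = 1 := by
  calc g = g ^ 3 * (g ^ 2)⁻¹ := by group
    _ = 1 := by rw [h3, h2]; simp

section spec
variable [Finite G] (hord : ∀ g : G, orderOf g = 1 ∨ orderOf g = 2 ∨ orderOf g = 3)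
include hord

theorem sq_or_cube (g : G) : g ^ 2 = 1 ∨ g ^ 3 = 1 := by
  rcases hord g with h | h | h
  · left; rw [orderOf_eq_one_iff] at h; rw [h, one_pow]
  · left; rw [← h]; exact pow_orderOf_eq_one g
  · right; rw [← h]; exact pow_orderOf_eq_one g

theorem no_six {a b : G} (hab : a * b = b * a) (ha : a ^ 2 = 1) (hb : b ^ 3 = 1) :
    a = 1 ∨ b = 1 := by
  have hc : Commute a b := hab
  rcases sq_or_cube hord (a * b) with h | h
  · right
    rw [hc.mul_pow, ha, one_mul] at h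
    exact eq_one_of_sq_of_cube h hb
  · left
    rw [hc.mul_pow, hb, mul_one] at h
    exact eq_one_of_sq_of_cube ha h

/-- `z` of order 3 acting on the elementary abelian 2-group `N`:
`z² v z⁻² = v · z v z⁻¹`. -/
theorem fpf_prod (N : Subgroup G) [hN : N.Normal] (hN2 : ∀ n ∈ N, n ^ 2 = 1) (z : G)
    (hz3 : z ^ 3 = 1) (hz1 : z ≠ 1) (v : G) (hv : v ∈ N) :
    z ^ 2 * v * (z ^ 2)⁻¹ = v * (z * v * z⁻¹) := by
  have hNc := comm_of_sq N hN2
  have h1 : z * v * z⁻¹ ∈ N := hN.conj_mem v hv z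
  have h2 : z ^ 2 * v * (z ^ 2)⁻¹ ∈ N := hN.conj_mem v hv (z ^ 2)
  obtain ⟨u, hu⟩ : ∃ u, u = v * (z * v * z⁻¹) * (z ^ 2 * v * (z ^ 2)⁻¹) := ⟨_, rfl⟩
  have huN : u ∈ N := by rw [hu]; exact N.mul_mem (N.mul_mem hv h1) h2
  have hzu : z * u * z⁻¹ = u := by
    have e : z * u * z⁻¹ = (z * v * z⁻¹) * (z ^ 2 * v * (z ^ 2)⁻¹) * (z ^ 3 * v * (z ^ 3)⁻¹) := by
      rw [hu]; group
    rw [e, hz3, one_mul, inv_one, mul_one, hu]
    rw [hNc _ (N.mul_mem h1 h2) v hv]
    group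
  have hcomm : u * z = z * u := by
    calc u * z = (z * u * z⁻¹) * z := by rw [hzu]
      _ = z * u := by group
  have hu1 : u = 1 := by
    rcases no_six hord hcomm (hN2 u huN) hz3 with h | h
    · exact h
    · exact absurd h hz1
  have h3 : (v * (z * v * z⁻¹)) * (z ^ 2 * v * (z ^ 2)⁻¹) = 1 := by rw [← hu, hu1]
  have h4 : z ^ 2 * v * (z ^ 2)⁻¹ = (v * (z * v * z⁻¹))⁻¹ := (inv_eq_of_mul_eq_one_right h3).symm
  have h5 : (v * (z * v * z⁻¹)) * (v * (z * v * z⁻¹)) = 1 := by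
    have := hN2 _ (N.mul_mem hv h1)
    rwa [pow_two] at this
  rw [h4, inv_eq_of_mul_eq_one_right h5]

/-- Two independent commuting elements of order 3 cannot both act fixed-point-freely. -/
theorem pair_trivial (N : Subgroup G) [hN : N.Normal] (hN2 : ∀ n ∈ N, n ^ 2 = 1) (x y : G)
    (hxy : x * y = y * x) (hx3 : x ^ 3 = 1) (hy3 : y ^ 3 = 1) (hx1 : x ≠ 1) (hy1 : y ≠ 1)
    (hxy1 : x * y ≠ 1) (hyx1 : y⁻¹ * x ≠ 1) : ∀ v ∈ N, v = 1 := by
  intro v hv
  have hc : Commute x y := hxy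
  have hz3 : (x * y) ^ 3 = 1 := by rw [hc.mul_pow, hx3, hy3, one_mul]
  have E1 := fpf_prod hord N hN2 x hx3 hx1
  have E2 := fpf_prod hord N hN2 y hy3 hy1
  have E3 := fpf_prod hord N hN2 (x * y) hz3 hxy1
  have hyv : y * v * y⁻¹ ∈ N := hN.conj_mem v hv y
  -- compute conjugation by (xy)^2 = x^2 y^2 in two ways
  have e1 : (x * y) ^ 2 * v * ((x * y) ^ 2)⁻¹ = x ^ 2 * (y ^ 2 * v * (y ^ 2)⁻¹) * (x ^ 2)⁻¹ := by
    rw [hc.mul_pow]; group
  have e2 : x ^ 2 * (v * (y * v * y⁻¹)) * (x ^ 2)⁻¹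
      = (x ^ 2 * v * (x ^ 2)⁻¹) * (x ^ 2 * (y * v * y⁻¹) * (x ^ 2)⁻¹) := by group
  have e3 : x * (y * v * y⁻¹) * x⁻¹ = x * y * v * (x * y)⁻¹ := by group
  have key : v * (x * y * v * (x * y)⁻¹)
      = v * (x * v * x⁻¹) * ((y * v * y⁻¹) * (x * y * v * (x * y)⁻¹)) := by
    rw [← E3 v hv, e1, E2 v hv, e2, E1 v hv, E1 _ hyv, e3]
  have key2 : (x * v * x⁻¹) * (y * v * y⁻¹) = 1 := by
    have h1 : v * (x * y * v * (x * y)⁻¹)
        = v * ((x * v * x⁻¹) * (y * v * y⁻¹)) * (x * y * v * (x * y)⁻¹) := by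
      rw [key]; group
    have h2 : v * 1 * (x * y * v * (x * y)⁻¹)
        = v * ((x * v * x⁻¹) * (y * v * y⁻¹)) * (x * y * v * (x * y)⁻¹) := by
      rw [mul_one]; exact h1
    have h3 := mul_right_cancel h2
    exact (mul_left_cancel h3).symm
  -- so x v x⁻¹ = (y v y⁻¹)⁻¹ = y v y⁻¹
  have h4 : (y * v * y⁻¹) * (y * v * y⁻¹) = 1 := by
    have := hN2 _ hyv
    rwa [pow_two] at this
  have h5 : x * v * x⁻¹ = y * v * y⁻¹ := by
    have := eq_inv_of_mul_eq_one_left key2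
    rw [this, inv_eq_of_mul_eq_one_right h4]
  have h6 : (y⁻¹ * x) * v = v * (y⁻¹ * x) := by
    calc (y⁻¹ * x) * v = y⁻¹ * (x * v * x⁻¹) * x := by group
      _ = y⁻¹ * (y * v * y⁻¹) * x := by rw [h5]
      _ = v * (y⁻¹ * x) := by group
  have hyx3 : (y⁻¹ * x) ^ 3 = 1 := by
    have hc' : Commute y⁻¹ x := hc.symm.inv_left
    rw [hc'.mul_pow, hx3, inv_pow, hy3]; simp
  rcases no_six hord h6.symm (hN2 v hv) hyx3 with h | h
  · exact h
  · exact absurd h hyx1

theorem prime_dvd_card {r : ℕ} (hr : r.Prime) (h : r ∣ Nat.card G) : r = 2 ∨ r = 3 := by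
  haveI : Fact r.Prime := ⟨hr⟩
  obtain ⟨g, hg⟩ := exists_prime_orderOf_dvd_card' r h
  rcases hord g with h1 | h1 | h1
  · rw [hg] at h1; exact absurd h1 hr.one_lt.ne'
  · left; rw [← hg, h1]
  · right; rw [← hg, h1]

theorem card_eq : ∃ a b, Nat.card G = 2 ^ a * 3 ^ b := by
  have hpos : Nat.card G ≠ 0 := Nat.card_pos.ne'
  obtain ⟨a, m, hm2, hm⟩ := Nat.exists_eq_pow_mul_and_not_dvd hpos 2 (by norm_num)
  have hm0 : m ≠ 0 := by
    rintro rfl
    rw [mul_zero] at hm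
    exact hpos hm
  obtain ⟨b, m', hm3, hm'⟩ := Nat.exists_eq_pow_mul_and_not_dvd hm0 3 (by norm_num)
  have : m' = 1 := by
    by_contra hne
    obtain ⟨r, hr, hrd⟩ := Nat.exists_prime_and_dvd hne
    have hrG : r ∣ Nat.card G := by
      rw [hm, hm']
      exact dvd_mul_of_dvd_right (dvd_mul_of_dvd_right hrd _) _
    rcases prime_dvd_card hord hr hrG with rfl | rfl
    · exact hm2 (by rw [hm']; exact dvd_mul_of_dvd_right hrd _)
    · exact hm3 hrd
  exact ⟨a, b, by rw [hm, hm', this, mul_one]⟩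

theorem case_two (x₀ : G) (hx₀ : orderOf x₀ = 3) (A : Subgroup G) [hAn : A.Normal] (hA1 : A ≠ ⊥)
    (hA2 : ∀ a ∈ A, a ^ 2 = 1) :
    ∃ N : Subgroup G, N.Normal ∧ Cfsg.IsElementaryAbelian 2 N ∧ N.index = 3 := by
  obtain ⟨a₀, ha₀, ha₀1⟩ : ∃ a ∈ A, a ≠ 1 := by
    by_contra hcon
    push Not at hcon
    apply hA1
    rw [eq_bot_iff]
    intro a ha
    rw [Subgroup.mem_bot]
    exact hcon a ha
  have hAc := comm_of_sq A hA2
  obtain ⟨N, hNdef⟩ : ∃ N, N = Subgroup.centralizer (A : Set G) := ⟨_, rfl⟩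
  have hNn : N.Normal := by rw [hNdef]; infer_instance
  have hAN : A ≤ N := by
    rw [hNdef]
    intro a ha
    rw [Subgroup.mem_centralizer_iff]
    intro b hb
    exact hAc b hb a ha
  have hN2 : ∀ g ∈ N, g ^ 2 = 1 := by
    intro g hg
    rw [hNdef, Subgroup.mem_centralizer_iff] at hg
    rcases sq_or_cube hord g with h | h
    · exact h
    · rcases no_six hord (hg a₀ ha₀) (hA2 a₀ ha₀) h with h1 | h1
      · exact absurd h1 ha₀1
      · rw [h1, one_pow]
  have hinvN : ∀ t : G, t ^ 2 = 1 → t ∈ N := by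
    intro t ht
    rw [hNdef, Subgroup.mem_centralizer_iff]
    intro a ha
    have htt : t * t = 1 := by rwa [pow_two] at ht
    have htinv : t⁻¹ = t := inv_eq_of_mul_eq_one_right htt
    have haa : a * a = 1 := by have := hA2 a ha; rwa [pow_two] at this
    have hainv : a⁻¹ = a := inv_eq_of_mul_eq_one_right haa
    rcases sq_or_cube hord (t * a) with h | h
    · rw [pow_two] at h
      have h1 : (t * a)⁻¹ = t * a := inv_eq_of_mul_eq_one_right h
      rw [mul_inv_rev, hainv, htinv] at h1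
      exact h1
    · have hconj : t * a * t⁻¹ ∈ A := hAn.conj_mem a ha t
      rw [htinv] at hconj
      have e : (t * a) ^ 3 = (t * a * t) * a * (t * a * t) * t⁻¹ := by
        rw [pow_succ, pow_two]; group
      rw [e] at h
      have htA : t ∈ A := by
        have h1 : t = (t * a * t) * a * (t * a * t) := by
          calc t = ((t * a * t) * a * (t * a * t) * t⁻¹)⁻¹ * ((t * a * t) * a * (t * a * t)) := by group
            _ = (t * a * t) * a * (t * a * t) := by rw [h, inv_one, one_mul]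
        rw [h1]
        exact A.mul_mem (A.mul_mem hconj ha) hconj
      exact hAc a ha t htA
  have hNea : Cfsg.IsElementaryAbelian 2 N :=
    ⟨⟨⟨fun a b => Subtype.ext (comm_of_sq N hN2 a a.2 b b.2)⟩⟩, hN2⟩
  haveI : Fact (Nat.Prime 3) := ⟨Nat.prime_three⟩
  haveI : Fact (Nat.Prime 2) := ⟨Nat.prime_two⟩
  obtain ⟨P⟩ : Nonempty (Sylow 3 G) := inferInstance
  have hP3 : ∀ g ∈ (P : Subgroup G), g ^ 3 = 1 := by
    intro g hg
    rcases sq_or_cube hord g with h | h
    · obtain ⟨k, hk⟩ := P.2 ⟨g, hg⟩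
      have hk' : g ^ (3 ^ k) = 1 := by simpa using congrArg Subtype.val hk
      have hcop : Nat.Coprime 2 (3 ^ k) := Nat.Coprime.pow_right k (by norm_num)
      have := pow_gcd_eq_one.mpr ⟨h, hk'⟩
      rw [hcop.gcd_eq_one, pow_one] at this
      rw [this, one_pow]
    · exact h
  have hPN : (P : Subgroup G) ⊓ N = ⊥ := by
    rw [eq_bot_iff]
    intro g hg
    obtain ⟨hgP, hgN⟩ := Subgroup.mem_inf.mp hg
    rw [Subgroup.mem_bot]
    exact eq_one_of_sq_of_cube (hN2 g hgN) (hP3 g hgP)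
  have hN2grp : IsPGroup 2 N := fun g => ⟨1, Subtype.ext (by simpa using hN2 g g.2)⟩
  obtain ⟨T, hT⟩ := hN2grp.exists_le_sylow
  have hTN : (T : Subgroup G) ≤ N := by
    intro g hg
    obtain ⟨k, hk⟩ := T.2 ⟨g, hg⟩
    have hk' : g ^ (2 ^ k) = 1 := by simpa using congrArg Subtype.val hk
    rcases sq_or_cube hord g with h | h
    · exact hinvN g h
    · have hcop : Nat.Coprime (2 ^ k) 3 := Nat.Coprime.pow_left k (by norm_num)
      have := pow_gcd_eq_one.mpr ⟨hk', h⟩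
      rw [hcop.gcd_eq_one, pow_one] at this
      rw [this]; exact N.one_mem
  have hNT : N = T := le_antisymm hT hTN
  have hsup : (P : Subgroup G) ⊔ N = ⊤ := by
    rw [← Subgroup.index_eq_one]
    by_contra hne
    obtain ⟨r, hr, hrd⟩ := Nat.exists_prime_and_dvd hne
    have hrG : r ∣ Nat.card G := hrd.trans (Subgroup.index_dvd_card _)
    rcases prime_dvd_card hord hr hrG with rfl | rfl
    · have h1 : ((P : Subgroup G) ⊔ N).index ∣ N.index := Subgroup.index_dvd_of_le le_sup_right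
      have h2 : N.index = (T : Subgroup G).index := by rw [hNT]
      rw [h2] at h1
      exact T.not_dvd_index (hrd.trans h1)
    · have h1 : ((P : Subgroup G) ⊔ N).index ∣ (P : Subgroup G).index :=
        Subgroup.index_dvd_of_le le_sup_left
      exact P.not_dvd_index (hrd.trans h1)
  have hcardG : Nat.card G = Nat.card P * Nat.card N := by
    have := Cfsg.Agent.S0533.card_sup_of_inf_eq_bot (P : Subgroup G) N hPN
    rw [hsup, Subgroup.card_top] at this
    exact this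
  have hidx : N.index = Nat.card P := by
    have h1 := Subgroup.card_mul_index N
    rw [hcardG, mul_comm] at h1
    exact Nat.eq_of_mul_eq_mul_right Nat.card_pos h1
  refine ⟨N, hNn, hNea, ?_⟩
  rw [hidx]
  obtain ⟨b, hb⟩ := IsPGroup.iff_card.mp P.2
  rcases Nat.lt_or_ge b 2 with hb2 | hb2
  · interval_cases b
    · exfalso
      rw [pow_zero] at hb
      rw [hb] at hidx
      have hNtop : N = ⊤ := Subgroup.index_eq_one.mp hidx
      have hx : x₀ ∈ N := by rw [hNtop]; trivial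
      have hx2 := hN2 x₀ hx
      have := orderOf_dvd_of_pow_eq_one hx2
      rw [hx₀] at this
      norm_num at this
    · rw [hb, pow_one]
  · exfalso
    have h9 : 9 ≤ Nat.card P := by
      rw [hb]
      calc 9 = 3 ^ 2 := by norm_num
        _ ≤ 3 ^ b := Nat.pow_le_pow_right (by norm_num) hb2
    haveI : Nontrivial P := Finite.one_lt_card_iff_nontrivial.mp (by omega)
    have hc := IsPGroup.center_nontrivial P.2
    obtain ⟨⟨x, hxc⟩, hx1⟩ := exists_ne (1 : Subgroup.center P)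
    have hx1' : x ≠ 1 := fun h => hx1 (Subtype.ext h)
    have hx3 : x ^ 3 = 1 := Subtype.ext (hP3 x x.2)
    have hordx : orderOf x ∣ 3 := orderOf_dvd_of_pow_eq_one hx3
    have hzc : Nat.card (Subgroup.zpowers x) ≤ 3 := by
      rw [Nat.card_zpowers]; exact Nat.le_of_dvd (by norm_num) hordx
    have hne : Subgroup.zpowers x ≠ ⊤ := by
      intro h
      have := Subgroup.card_top (G := P)
      rw [← h] at this
      omega
    obtain ⟨y, hy⟩ : ∃ y : P, y ∉ Subgroup.zpowers x := by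
      by_contra hcon
      push Not at hcon
      apply hne
      rw [eq_top_iff]
      intro y _
      exact hcon y
    have hxy : x * y = y * x := (Subgroup.mem_center_iff.mp hxc y).symm
    have hy1 : y ≠ 1 := by rintro rfl; exact hy (Subgroup.one_mem _)
    have hxy1 : x * y ≠ 1 := by
      intro h
      apply hy
      have : y = x⁻¹ := (inv_eq_of_mul_eq_one_right h).symm
      rw [this]
      exact Subgroup.inv_mem _ (Subgroup.mem_zpowers x)
    have hyx1 : y⁻¹ * x ≠ 1 := by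
      intro h
      apply hy
      have : y = x := by
        have := inv_eq_of_mul_eq_one_left h
        exact (inv_inj.mp (this.symm ▸ rfl : y⁻¹ = x⁻¹))
      rw [this]
      exact Subgroup.mem_zpowers x
    have key := pair_trivial hord N hN2 (x : G) (y : G) (congrArg Subtype.val hxy)
      (hP3 x x.2) (hP3 y y.2) (fun h => hx1' (Subtype.ext h)) (fun h => hy1 (Subtype.ext h))
      (fun h => hxy1 (Subtype.ext h)) (fun h => hyx1 (Subtype.ext h))
    exact ha₀1 (key a₀ (hAN ha₀))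

theorem case_three (t₀ : G) (ht₀ : orderOf t₀ = 2) (A : Subgroup G) [hAn : A.Normal]
    (hA1 : A ≠ ⊥) (hAc : ∀ a ∈ A, ∀ b ∈ A, a * b = b * a) (hA3 : ∀ a ∈ A, a ^ 3 = 1) :
    ∃ N : Subgroup G, N.Normal ∧ Cfsg.IsElementaryAbelian 3 N ∧ N.index = 2 := by
  obtain ⟨a₀, ha₀, ha₀1⟩ : ∃ a ∈ A, a ≠ 1 := by
    by_contra hcon
    push Not at hcon
    apply hA1
    rw [eq_bot_iff]
    intro a ha
    rw [Subgroup.mem_bot]
    exact hcon a ha
  obtain ⟨W, hWdef⟩ : ∃ W, W = Subgroup.centralizer (A : Set G) := ⟨_, rfl⟩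
  have hWn : W.Normal := by rw [hWdef]; infer_instance
  have hAW : A ≤ W := by
    rw [hWdef]
    intro a ha
    rw [Subgroup.mem_centralizer_iff]
    intro b hb
    exact hAc b hb a ha
  have hW3 : ∀ g ∈ W, g ^ 3 = 1 := by
    intro g hg
    rw [hWdef, Subgroup.mem_centralizer_iff] at hg
    rcases sq_or_cube hord g with h | h
    · rcases no_six hord (hg a₀ ha₀).symm h (hA3 a₀ ha₀) with h1 | h1
      · rw [h1, one_pow]
      · exact absurd h1 ha₀1
    · exact h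
  have hfpfW : ∀ t : G, t ^ 2 = 1 → t ≠ 1 → ∀ n ∈ W, t * n = n * t → n = 1 := by
    intro t ht ht1 n hn hcomm
    rcases no_six hord hcomm ht (hW3 n hn) with h | h
    · exact absurd h ht1
    · exact h
  have hinvW : ∀ t : G, t ^ 2 = 1 → t ≠ 1 → ∀ n ∈ W, t * n * t⁻¹ = n⁻¹ := fun t ht ht1 =>
    inverts_of_fpf W t (by rwa [pow_two] at ht) (hfpfW t ht ht1)
  have ht₀2 : t₀ ^ 2 = 1 := by rw [← ht₀]; exact pow_orderOf_eq_one t₀
  have ht₀1 : t₀ ≠ 1 := by
    intro h; rw [h, orderOf_one] at ht₀; norm_num at ht₀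
  have hWc := comm_of_inverts W t₀ (hinvW t₀ ht₀2 ht₀1)
  have hprod : ∀ s t : G, s ^ 2 = 1 → s ≠ 1 → t ^ 2 = 1 → t ≠ 1 → s * t ∈ W := by
    intro s t hs hs1 ht ht1
    rw [hWdef, Subgroup.mem_centralizer_iff]
    intro a ha
    have h1 := hinvW t ht ht1 a (hAW ha)
    have h2 := hinvW s hs hs1 a⁻¹ (hAW (A.inv_mem ha))
    rw [inv_inv] at h2
    have h3 : (s * t) * a * (s * t)⁻¹ = a := by
      calc (s * t) * a * (s * t)⁻¹ = s * (t * a * t⁻¹) * s⁻¹ := by group
        _ = a := by rw [h1, h2]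
    calc a * (s * t) = ((s * t) * a * (s * t)⁻¹) * (s * t) := by rw [h3]
      _ = (s * t) * a := by group
  have ht₀W : t₀ ∉ W := fun h => ht₀1 (eq_one_of_sq_of_cube ht₀2 (hW3 t₀ h))
  have htinv : t₀⁻¹ = t₀ := by
    have : t₀ * t₀ = 1 := by rwa [pow_two] at ht₀2
    exact inv_eq_of_mul_eq_one_right this
  have hcubeW : ∀ x : G, x ^ 3 = 1 → x ∈ W := by
    intro x hx3
    by_contra hxW
    have hconj2 : (x * t₀ * x⁻¹) ^ 2 = 1 := by rw [conj_pow, ht₀2]; group
    have hconj1 : x * t₀ * x⁻¹ ≠ 1 := by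
      intro h
      apply ht₀1
      calc t₀ = x⁻¹ * (x * t₀ * x⁻¹) * x := by group
        _ = 1 := by rw [h]; group
    have hw := hprod t₀ (x * t₀ * x⁻¹) ht₀2 ht₀1 hconj2 hconj1
    obtain ⟨w, hwdef⟩ : ∃ w, w = t₀ * (x * t₀ * x⁻¹) := ⟨_, rfl⟩
    rw [← hwdef] at hw
    have hxx : x * x = x⁻¹ := by
      calc x * x = x ^ 3 * x⁻¹ := by rw [pow_succ, pow_two, mul_inv_cancel_right]
        _ = x⁻¹ := by rw [hx3, one_mul]
    rcases sq_or_cube hord (x * t₀) with h | h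
    · have e : (x * t₀) ^ 2 = x * w * x := by rw [pow_two, hwdef]; group
      rw [e] at h
      have h1 : w = x⁻¹ * x⁻¹ := by
        calc w = x⁻¹ * (x * w * x) * x⁻¹ := by group
          _ = x⁻¹ * x⁻¹ := by rw [h]; group
      apply hxW
      have hx : x = x⁻¹ * x⁻¹ := by
        calc x = (x * x)⁻¹ * (x ^ 3) := by rw [pow_succ, pow_two, ← mul_assoc, inv_mul_cancel, one_mul]
          _ = x⁻¹ * x⁻¹ := by rw [hx3, mul_one, mul_inv_rev]
      rw [hx, ← h1]; exact hw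
    · have e : (x * t₀) ^ 3 = x * w * x * x * t₀ := by rw [pow_succ, pow_two, hwdef]; group
      rw [e] at h
      apply ht₀W
      have h1 : t₀⁻¹ = x * w * x * x := inv_eq_of_mul_eq_one_left h
      have h2 : t₀ = x * w * x⁻¹ := by
        rw [← htinv, h1, mul_assoc (x * w), hxx]
      rw [h2]; exact hWn.conj_mem w hw x
  have hidx : W.index = 2 := by
    rw [Subgroup.index_eq_two_iff]
    refine ⟨t₀, fun b => ?_⟩
    by_cases hb : b ∈ W
    · refine Or.inr ⟨hb, ?_⟩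
      intro hbt
      apply ht₀W
      have := W.mul_mem (W.inv_mem hb) hbt
      simpa using this
    · refine Or.inl ⟨?_, hb⟩
      rcases sq_or_cube hord b with h | h
      · have hb1 : b ≠ 1 := by rintro rfl; exact hb W.one_mem
        exact hprod b t₀ h hb1 ht₀2 ht₀1
      · exact absurd (hcubeW b h) hb
  exact ⟨W, hWn, ⟨⟨⟨fun a b => Subtype.ext (hWc a a.2 b b.2)⟩⟩, hW3⟩, hidx⟩

end spec

/-- A finite group whose set of element orders is exactly {1, 2, 3} has either a normal elementary abelian 3-subgroup of index 2 or a normal elementary abelian 2-subgroup of index 3. -/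
theorem result {G : Type*} [Group G] [Finite G] (h : Set.range (orderOf : G → ℕ) = {k : ℕ | 1 ≤ k ∧ k ≤ 3}) :
    (∃ N : Subgroup G, N.Normal ∧ Cfsg.IsElementaryAbelian 3 N ∧ N.index = 2) ∨
      (∃ N : Subgroup G, N.Normal ∧ Cfsg.IsElementaryAbelian 2 N ∧ N.index = 3) := by
  have hord : ∀ g : G, orderOf g = 1 ∨ orderOf g = 2 ∨ orderOf g = 3 := by
    intro g
    have hmem : orderOf g ∈ Set.range (orderOf : G → ℕ) := ⟨g, rfl⟩
    rw [h] at hmem
    obtain ⟨h1, h3⟩ := hmem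
    omega
  obtain ⟨t₀, ht₀⟩ : ∃ t : G, orderOf t = 2 := by
    have hmem : (2 : ℕ) ∈ {k : ℕ | 1 ≤ k ∧ k ≤ 3} := ⟨by norm_num, by norm_num⟩
    rw [← h] at hmem
    exact hmem
  obtain ⟨x₀, hx₀⟩ : ∃ x : G, orderOf x = 3 := by
    have hmem : (3 : ℕ) ∈ {k : ℕ | 1 ≤ k ∧ k ≤ 3} := ⟨by norm_num, by norm_num⟩
    rw [← h] at hmem
    exact hmem
  obtain ⟨a, b, hab⟩ := card_eq hord
  have hsol : Group.IsSolvable G :=
    Cfsg.Agent.Lib.Helper4.isSolvable_of_card_pq 2 3 a b Nat.prime_two Nat.prime_three hab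
  haveI : Nontrivial G := ⟨⟨t₀, 1, by
    intro h1; rw [h1, orderOf_one] at ht₀; norm_num at ht₀⟩⟩
  obtain ⟨A, hAchar, hAne, hAcomm⟩ := Cfsg.Agent.Lib.Helper10.exists_abelian_characteristic G hsol
  haveI : A.Normal := Subgroup.normal_of_characteristic A
  by_cases hA2 : ∀ a ∈ A, a ^ 2 = 1
  · right; exact case_two hord x₀ hx₀ A hAne hA2
  · left
    push Not at hA2
    obtain ⟨c, hc, hc2⟩ := hA2
    have hc3 : c ^ 3 = 1 := (sq_or_cube hord c).resolve_left hc2
    have hc1 : c ≠ 1 := by rintro rfl; exact hc2 (one_pow 2)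
    have hA3 : ∀ a ∈ A, a ^ 3 = 1 := by
      intro a ha
      rcases sq_or_cube hord a with h2 | h3
      · rcases no_six hord (hAcomm a ha c hc) h2 hc3 with h1 | h1
        · rw [h1, one_pow]
        · exact absurd h1 hc1
      · exact h3
    exact case_three hord t₀ ht₀ A hAne hAcomm hA3

end Cfsg.Agent.S4005
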