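import Cfsg.Statements.S4013
import Mathlib

set_option autoImplicit false
open Cfsg

namespace Cfsg.Agent.S4013

theorem nt_aux (p a b c : ℕ) (hp : p.Prime) (hb : 1 ≤ b) (h : p ^ a * p ^ b - p ^ a = p ^ c) :
    p = 2 ∧ p ^ b = 2 := by
  have hp1 : 1 < p := hp.one_lt
  have hpb : 1 < p ^ b := Nat.one_lt_pow (by omega) hp1
  have h1 : p ^ a * (p ^ b - 1) = p ^ c := by
    rw [Nat.mul_sub, mul_one]; exact h
  have hdvd : (p ^ b - 1) ∣ p ^ c := Dvd.intro_left _ h1
  obtain ⟨d, -, hd⟩ := (Nat.dvd_prime_pow hp).mp hdvd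
  have hd0 : d = 0 := by
    by_contra hd0
    have h2 : p ∣ p ^ b - 1 := by rw [hd]; exact dvd_pow_self p hd0
    have h3 : p ∣ p ^ b := dvd_pow_self p (by omega)
    have h4 : p ∣ 1 := by
      have := (Nat.dvd_sub h3 h2)
      have h5 : p ^ b - (p ^ b - 1) = 1 := by omega
      rwa [h5] at this
    exact hp.one_lt.ne' (Nat.dvd_one.mp h4)
  subst hd0
  have h6 : p ^ b = 2 := by
    rw [pow_zero] at hd; omega
  have h7 : p ∣ 2 := by rw [← h6]; exact dvd_pow_self p (by omega)
  exact ⟨(Nat.prime_dvd_prime_iff_eq hp Nat.prime_two).mp h7, h6⟩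

/-- Let G be a finite p-group (p prime) and N < M normal subgroups of G such that for some g ∈ M ∖ N the conjugacy class of g is exactly M ∖ N. Then p = 2 and N has index 2 in M. -/
theorem result {G : Type*} [Group G] [Finite G] (p : ℕ) [Fact p.Prime] (hG : IsPGroup p G) (N M : Subgroup G) [N.Normal] [M.Normal] (hNM : N < M) (g : G) (hgM : g ∈ M) (hgN : g ∉ N) (hcl : {h : G | IsConj g h} = (M : Set G) \ (N : Set G)) : p = 2 ∧ N.relIndex M = 2 := by
  have hp : p.Prime := Fact.out
  -- the class is an orbit of the conjugation action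
  have horb : {h : G | IsConj g h} = MulAction.orbit (ConjAct G) g := by
    ext h
    rw [ConjAct.mem_orbit_conjAct, Set.mem_ofPred_eq]
    exact ⟨fun h1 => h1.symm, fun h1 => h1.symm⟩
  have hGc : IsPGroup p (ConjAct G) := hG.of_equiv ConjAct.toConjAct
  obtain ⟨c, hc⟩ := hGc.card_orbit g
  rw [← horb, hcl] at hc
  -- cardinalities
  obtain ⟨a, ha⟩ := (IsPGroup.iff_card.mp (hG.to_subgroup N))
  have hMp : IsPGroup p M := hG.to_subgroup M
  obtain ⟨b, hb⟩ := hMp.index (N.subgroupOf M)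
  have hcardM : Nat.card N * N.relIndex M = Nat.card M := by
    have := Subgroup.relIndex_mul_relIndex ⊥ N M bot_le hNM.le
    rwa [Subgroup.relIndex_bot_left, Subgroup.relIndex_bot_left] at this
  have hrel : N.relIndex M = p ^ b := hb
  have hb1 : 1 ≤ b := by
    by_contra hb0
    have : b = 0 := by omega
    subst this
    rw [pow_zero] at hrel
    exact absurd (Subgroup.relIndex_eq_one.mp hrel) (not_le_of_gt hNM)
  have hdiff : Nat.card ↥((M : Set G) \ (N : Set G)) = Nat.card M - Nat.card N := by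
    rw [Nat.card_coe_set_eq, Set.ncard_diff (by exact_mod_cast hNM.le) (Set.toFinite _)]
    rw [← Nat.card_coe_set_eq, ← Nat.card_coe_set_eq]
    rfl
  rw [hdiff, ← hcardM, ha, hrel] at hc
  obtain ⟨h2, hpb⟩ := nt_aux p a b c hp hb1 hc
  exact ⟨h2, by rw [hrel, hpb]⟩

end Cfsg.Agent.S4013
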