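import Mathlib
import Cfsg.Statements.S4014

set_option autoImplicit false
open Cfsg

namespace Cfsg.Agent.S4014

open MulAction
open RegularWreathProduct
open scoped commutatorElement

theorem sup_commutator_ne_top {H : Type*} [Group H] [Finite H] [Group.IsNilpotent H]
    (K : Subgroup H) (hK : K ≠ ⊤) : K ⊔ commutator H ≠ ⊤ := by
  obtain ⟨C, hC, hKC⟩ := (eq_top_or_exists_le_coatom K).resolve_left hK
  have hCn : C.Normal := Subgroup.NormalizerCondition.normal_of_coatom C (Group.normalizerCondition_of_isNilpotent (G := H)) hC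
  have hne : C ≠ ⊤ := hC.1
  have : Nontrivial (H ⧸ C) := by
    rw [QuotientGroup.nontrivial_iff]
    exact hne
  have hlt := Group.IsSolvable.commutator_lt_top_of_nontrivial (H ⧸ C)
  have h1 : C ≤ (commutator (H ⧸ C)).comap (QuotientGroup.mk' C) := by
    intro c hc
    rw [Subgroup.mem_comap]
    have : (QuotientGroup.mk' C) c = 1 := by
      rw [QuotientGroup.mk'_apply, QuotientGroup.eq_one_iff]; exact hc
    rw [this]; exact one_mem _
  have h2 : (commutator (H ⧸ C)).comap (QuotientGroup.mk' C) ≠ ⊤ := by
    intro h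
    apply hlt.ne
    rw [eq_top_iff]
    intro x _
    obtain ⟨y, rfl⟩ := QuotientGroup.mk'_surjective C x
    have : y ∈ (commutator (H ⧸ C)).comap (QuotientGroup.mk' C) := by rw [h]; trivial
    exact this
  have h3 : (commutator (H ⧸ C)).comap (QuotientGroup.mk' C) = C := by
    rcases eq_or_lt_of_le h1 with h | h
    · exact h.symm
    · exact absurd (hC.2 _ h) h2
  have h4 : commutator H ≤ C := by
    rw [← h3, ← Subgroup.map_le_iff_le_comap]
    rw [commutator_def, Subgroup.map_commutator]
    exact Subgroup.commutator_mono le_top le_top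
  intro h
  apply hne
  rw [eq_top_iff, ← h]
  exact sup_le hKC h4

theorem card_orbit_commutator_lt {p : ℕ} [hp : Fact p.Prime] {H : Type*} [Group H] [Finite H]
    (hH : IsPGroup p H) {α : Type*} [MulAction H α] [Finite α] (k : ℕ)
    (hα : Nat.card α < p ^ (k + 2)) (x : α) :
    Nat.card (orbit (commutator H) x) < p ^ (k + 1) := by
  have hp1 : 1 < p := hp.out.one_lt
  obtain ⟨a, ha⟩ := hH.card_orbit x
  have hM : IsPGroup p (commutator H) := hH.to_subgroup _
  obtain ⟨b, hb⟩ := hM.card_orbit x
  have hsub : orbit (commutator H) x ⊆ orbit H x := by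
    rintro _ ⟨m, rfl⟩
    exact ⟨(m : H), rfl⟩
  have ha2 : a < k + 2 := by
    have h1 : Nat.card (orbit H x) ≤ Nat.card α := Nat.card_le_card_of_injective _ Subtype.val_injective
    rw [ha] at h1
    exact (Nat.pow_lt_pow_iff_right hp1).1 (lt_of_le_of_lt h1 hα)
  rw [hb]
  apply Nat.pow_lt_pow_right hp1
  by_cases hst : stabilizer H x = ⊤
  · have h1 : orbit (commutator H) x = {x} := by
      ext y
      constructor
      · rintro ⟨m, rfl⟩
        have : (m : H) ∈ stabilizer H x := by rw [hst]; trivial
        exact this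
      · rintro rfl
        exact mem_orbit_self _
    have h2 : Nat.card (orbit (commutator H) x) = 1 := by
      rw [h1]; simp
    rw [hb] at h2
    have : b = 0 := by
      by_contra hb0
      have := Nat.one_lt_pow hb0 hp1
      omega
    omega
  · have hne : orbit (commutator H) x ≠ orbit H x := by
      intro heq
      haveI : Group.IsNilpotent H := hH.isNilpotent
      apply sup_commutator_ne_top (stabilizer H x) hst
      rw [eq_top_iff]
      intro h _
      have h1 : h • x ∈ orbit (commutator H) x := by rw [heq]; exact mem_orbit _ _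
      obtain ⟨m, hm⟩ := h1
      have h2 : (m : H)⁻¹ * h ∈ stabilizer H x := by
        rw [mem_stabilizer_iff, mul_smul, ← hm]
        change (m : H)⁻¹ • ((m : H) • x) = x
        rw [inv_smul_smul]
      have h3 : h = (m : H) * ((m : H)⁻¹ * h) := by group
      rw [h3]
      exact Subgroup.mul_mem _ (Subgroup.mem_sup_right m.2) (Subgroup.mem_sup_left h2)
    have hlt : Nat.card (orbit (commutator H) x) < Nat.card (orbit H x) := by
      have hfin : (orbit H x).Finite := Set.toFinite _
      have hss : orbit (commutator H) x ⊂ orbit H x := ssubset_of_subset_of_ne hsub hne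
      exact Set.ncard_lt_ncard hss hfin
    rw [ha, hb] at hlt
    have := (Nat.pow_lt_pow_iff_right hp1).1 hlt
    omega

theorem derivedSeries_succ_le_map_commutator (G : Type*) [Group G] (k : ℕ) :
    derivedSeries G (k + 1) ≤ (derivedSeries (commutator G) k).map (commutator G).subtype := by
  induction k with
  | zero =>
    rw [derivedSeries_one, derivedSeries_zero, ← MonoidHom.range_eq_map, Subgroup.range_subtype]
  | succ k ih =>
    rw [derivedSeries_succ, derivedSeries_succ (G := commutator G), Subgroup.map_commutator]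
    exact Subgroup.commutator_mono ih ih

theorem upper (p : ℕ) [hp : Fact p.Prime] : ∀ (k : ℕ) (α : Type) [Finite α] (H : Type) [Group H]
    [Finite H] [MulAction H α] [FaithfulSMul H α], IsPGroup p H → Nat.card α < p ^ (k + 1) →
    derivedSeries H k = ⊥ := by
  intro k
  induction k with
  | zero =>
    intro α _ H _ _ _ _ hH hα
    rw [derivedSeries_zero]
    have hinj : Function.Injective (MulAction.toPermHom H α) := MulAction.toPerm_injective
    have hdvd : Nat.card H ∣ (Nat.card α).factorial := by
      have := Subgroup.card_dvd_of_injective _ hinj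
      rwa [Nat.card_perm] at this
    obtain ⟨m, hm⟩ := IsPGroup.iff_card.1 hH
    have hm0 : m = 0 := by
      by_contra h0
      have h1 : p ∣ (Nat.card α).factorial := by
        refine dvd_trans ?_ hdvd
        rw [hm]; exact dvd_pow_self p h0
      have h2 := (Nat.Prime.dvd_factorial hp.out).1 h1
      simp at hα
      omega
    rw [hm0, pow_zero] at hm
    have : Subsingleton H := (Nat.card_eq_one_iff_unique.1 hm).1
    exact Subsingleton.elim _ _
  | succ k ih =>
    intro α _ H _ _ _ _ hH hα
    have hM : IsPGroup p (commutator H) := hH.to_subgroup _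
    have key : derivedSeries (commutator H) k = ⊥ := by
      rw [eq_bot_iff]
      intro m hm
      rw [Subgroup.mem_bot]
      have hfix : ∀ x : α, m • x = x := by
        intro x
        let O := orbit (commutator H) x
        let f : (commutator H) →* Equiv.Perm O := MulAction.toPermHom (commutator H) O
        have hL : IsPGroup p f.range := hM.of_surjective f.rangeRestrict f.rangeRestrict_surjective
        have hcard : Nat.card O < p ^ (k + 1) := card_orbit_commutator_lt hH k hα x
        have h1 := ih O f.range hL hcard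
        have h2 : f.rangeRestrict m ∈ derivedSeries f.range k := by
          apply map_derivedSeries_le_derivedSeries f.rangeRestrict k
          exact Subgroup.mem_map_of_mem _ hm
        rw [h1, Subgroup.mem_bot] at h2
        have h3 : f m = 1 := by
          have := congrArg Subtype.val h2
          simpa using this
        have h4 := congrArg (fun e : Equiv.Perm O => ((e ⟨x, mem_orbit_self x⟩ : O) : α)) h3
        simp only [f, MulAction.toPermHom_apply, MulAction.toPerm_apply, Equiv.Perm.coe_one, id_eq] at h4
        exact h4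
      apply Subtype.ext
      apply FaithfulSMul.eq_of_smul_eq_smul (α := α)
      intro x
      have h5 : ((1 : commutator H) : H) • x = x := by
        rw [Subgroup.coe_one, one_smul]
      rw [h5]
      exact hfix x
    rw [eq_bot_iff]
    refine le_trans (derivedSeries_succ_le_map_commutator H k) ?_
    rw [key, Subgroup.map_bot]

/-- evaluation at coordinate `1` on the base group -/
def ev (D Q : Type*) [Group D] [Group Q] : (rightHom (D := D) (Q := Q)).ker →* D where
  toFun w := w.1.left 1
  map_one' := rfl
  map_mul' a b := by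
    have ha : a.1.right = 1 := a.2
    simp [mul_left, ha]

theorem wreath_derived (D Q : Type*) [Group D] [Group Q] (q : Q) (hq : q ≠ 1) (j : ℕ) :
    ∀ d ∈ derivedSeries D j, ∃ w : (rightHom (D := D) (Q := Q)).ker,
      (w : D ≀ᵣ Q) ∈ derivedSeries (D ≀ᵣ Q) (j + 1) ∧ ev D Q w = d := by
  classical
  induction j with
  | zero =>
    intro d _
    let a : D ≀ᵣ Q := ⟨Pi.mulSingle 1 d, 1⟩
    let b : D ≀ᵣ Q := inl q
    have hmem : ⁅a, b⁆ ∈ (rightHom (D := D) (Q := Q)).ker := by
      rw [MonoidHom.mem_ker, map_commutatorElement]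
      simp [a, b, commutatorElement_def]
    refine ⟨⟨⁅a, b⁆, hmem⟩, ?_, ?_⟩
    · rw [derivedSeries_one]
      exact Subgroup.commutator_mem_commutator (Subgroup.mem_top _) (Subgroup.mem_top _)
    · have hq' : q⁻¹ ≠ 1 := by simpa using hq
      simp [ev, a, b, commutatorElement_def, mul_left, inv_left, Pi.mulSingle_apply, hq']
  | succ j ih =>
    intro d hd
    let K : Subgroup D :=
      ((derivedSeries (D ≀ᵣ Q) (j + 2)).subgroupOf (rightHom (D := D) (Q := Q)).ker).map (ev D Q)
    have hle : derivedSeries D (j + 1) ≤ K := by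
      rw [derivedSeries_succ, Subgroup.commutator_le]
      intro g1 h1 g2 h2
      obtain ⟨w1, hw1, rfl⟩ := ih g1 h1
      obtain ⟨w2, hw2, rfl⟩ := ih g2 h2
      refine ⟨⁅w1, w2⁆, ?_, map_commutatorElement _ _ _⟩
      change ((⁅w1, w2⁆ : (rightHom (D := D) (Q := Q)).ker) : D ≀ᵣ Q) ∈ derivedSeries (D ≀ᵣ Q) (j + 2)
      rw [derivedSeries_succ]
      have : ((⁅w1, w2⁆ : (rightHom (D := D) (Q := Q)).ker) : D ≀ᵣ Q) = ⁅(w1 : D ≀ᵣ Q), (w2 : D ≀ᵣ Q)⁆ := by
        simp [commutatorElement_def]
      rw [this]
      exact Subgroup.commutator_mem_commutator hw1 hw2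
    obtain ⟨w, hw, hwd⟩ := hle hd
    exact ⟨w, hw, hwd⟩

theorem wreath_derived_ne_bot (D Q : Type*) [Group D] [Group Q] (q : Q) (hq : q ≠ 1) (j : ℕ)
    (h : derivedSeries D j ≠ ⊥) : derivedSeries (D ≀ᵣ Q) (j + 1) ≠ ⊥ := by
  intro hbot
  apply h
  rw [eq_bot_iff]
  intro d hd
  obtain ⟨w, hw, rfl⟩ := wreath_derived D Q q hq j d hd
  rw [hbot, Subgroup.mem_bot] at hw
  have : w = 1 := Subtype.ext hw
  rw [this, map_one]
  exact Subgroup.mem_bot.2 rfl

theorem iterated_ne_bot (G : Type) [Group G] (g : G) (hg : g ≠ 1) :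
    ∀ k : ℕ, derivedSeries (IteratedWreathProduct G (k + 1)) k ≠ ⊥ := by
  intro k
  induction k with
  | zero =>
    have key : ∀ (W : Type) [Group W] (w : W), w ≠ 1 → derivedSeries W 0 ≠ ⊥ := by
      intro W _ w hw h
      rw [derivedSeries_zero] at h
      have h1 : w ∈ (⊤ : Subgroup W) := Subgroup.mem_top _
      rw [h, Subgroup.mem_bot] at h1
      exact hw h1
    have hne : (inl g : IteratedWreathProduct G 0 ≀ᵣ G) ≠ 1 := by
      intro h
      apply hg
      have := congrArg RegularWreathProduct.right h
      exact this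
    exact key (IteratedWreathProduct G 0 ≀ᵣ G) _ hne
  | succ k ih =>
    exact wreath_derived_ne_bot (IteratedWreathProduct G (k + 1)) G g hg k ih

theorem derived_ne_bot_of_injective {A B : Type*} [Group A] [Group B] (φ : A →* B)
    (hφ : Function.Injective φ) (j : ℕ) (h : derivedSeries A j ≠ ⊥) : derivedSeries B j ≠ ⊥ := by
  intro hB
  apply h
  rw [eq_bot_iff]
  intro a ha
  have h1 : φ a ∈ derivedSeries B j :=
    map_derivedSeries_le_derivedSeries φ j (Subgroup.mem_map_of_mem _ ha)
  rw [hB, Subgroup.mem_bot] at h1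
  rw [Subgroup.mem_bot]
  exact hφ (by rw [h1, map_one])

theorem lower (p : ℕ) [hp : Fact p.Prime] (n k : ℕ) (hk : p ^ (k + 1) ≤ n)
    (P : Sylow p (Equiv.Perm (Fin n))) :
    derivedSeries ↥(P : Subgroup (Equiv.Perm (Fin n))) k ≠ ⊥ := by
  classical
  let G := Multiplicative (ZMod p)
  have hcardG : Nat.card G = p := by
    rw [Nat.card_eq_fintype_card, Fintype.card_multiplicative, ZMod.card]
  have hg : (Multiplicative.ofAdd (1 : ZMod p) : G) ≠ 1 := by
    intro h
    have h1 : (1 : ZMod p) = 0 := by
      have := congrArg Multiplicative.toAdd h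
      simpa using this
    haveI : Fact (1 < p) := ⟨hp.out.one_lt⟩
    exact one_ne_zero h1
  have hWne := iterated_ne_bot G _ hg k
  have hf0 := iteratedWreathToPermHomInj G (k + 1)
  have hcard : Fintype.card (Fin (k + 1) → G) ≤ Fintype.card (Fin n) := by
    rw [Fintype.card_fin, Fintype.card_fun, Fintype.card_fin, ← Nat.card_eq_fintype_card, hcardG]
    exact hk
  obtain ⟨e⟩ := Function.Embedding.nonempty_of_card_le hcard
  let f : IteratedWreathProduct G (k + 1) →* Equiv.Perm (Fin n) :=
    (Equiv.Perm.viaEmbeddingHom e).comp (iteratedWreathToPermHom G (k + 1))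
  have hf : Function.Injective f := (Equiv.Perm.viaEmbeddingHom_injective e).comp hf0
  have hW : IsPGroup p (IteratedWreathProduct G (k + 1)) := by
    apply IsPGroup.of_card (n := ∑ i ∈ Finset.range (k + 1), p ^ i)
    rw [IteratedWreathProduct.card, hcardG]
  have hrange : IsPGroup p f.range := hW.of_surjective f.rangeRestrict f.rangeRestrict_surjective
  obtain ⟨Q, hQ⟩ := hrange.exists_le_sylow
  let φ : IteratedWreathProduct G (k + 1) →* ↥(Q : Subgroup (Equiv.Perm (Fin n))) :=
    f.codRestrict Q (fun x => hQ ⟨x, rfl⟩)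
  have hφ : Function.Injective φ := by
    intro a b hab
    apply hf
    have := congrArg Subtype.val hab
    exact this
  let ψ : IteratedWreathProduct G (k + 1) →* ↥(P : Subgroup (Equiv.Perm (Fin n))) :=
    (Q.equiv P).toMonoidHom.comp φ
  have hψ : Function.Injective ψ := (Q.equiv P).injective.comp hφ
  exact derived_ne_bot_of_injective ψ hψ k hWne

/-- Let p be a prime, n ≥ 1, and P a Sylow p-subgroup of the symmetric group on n letters. Then the derived length of P is exactly k = ⌊log_p n⌋ (the largest k with p^k ≤ n): the k-th derived subgroup of P is trivial and, when k ≥ 1, the (k−1)-st is not. -/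
theorem result (p : ℕ) [Fact p.Prime] (n : ℕ) (hn : 1 ≤ n) (P : Sylow p (Equiv.Perm (Fin n))) : derivedSeries ↥(P : Subgroup (Equiv.Perm (Fin n))) (Nat.log p n) = ⊥ ∧ (1 ≤ Nat.log p n → derivedSeries ↥(P : Subgroup (Equiv.Perm (Fin n))) (Nat.log p n - 1) ≠ ⊥) := by
  have hp1 : 1 < p := (Fact.out : p.Prime).one_lt
  refine ⟨?_, ?_⟩
  · refine upper p (Nat.log p n) (Fin n) ↥(P : Subgroup (Equiv.Perm (Fin n))) P.isPGroup' ?_
    rw [Nat.card_eq_fintype_card, Fintype.card_fin]
    exact Nat.lt_pow_succ_log_self hp1 n
  · intro hk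
    obtain ⟨k, hk'⟩ : ∃ k, Nat.log p n = k + 1 := ⟨Nat.log p n - 1, by omega⟩
    rw [hk', Nat.add_sub_cancel]
    apply lower p n k
    rw [← hk']
    exact Nat.pow_log_le_self p (by omega)

end Cfsg.Agent.S4014
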