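import Cfsg.Statements.S4022
-- import your own Cfsg.Agent.* helpers here
import Mathlib
import Cfsg.Agent.Lib.Helper20.CyclicSylow
import Cfsg.Agent.Lib.Helper2.SchurZassenhaus2
import Cfsg.Agent.Lib.Helper25.BGroupQuot

set_option autoImplicit false
open Cfsg

namespace Cfsg.Agent.S4022

universe u

/-- conjugacy of subgroups -/
def CJ {G : Type*} [Group G] (H K : Subgroup G) : Prop :=
  ∃ g : G, K = H.map (MulAut.conj g).toMonoidHom

theorem CJ.refl {G : Type*} [Group G] (H : Subgroup G) : CJ H H := by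
  refine ⟨1, ?_⟩
  ext x
  simp

theorem CJ.trans {G : Type*} [Group G] {H K L : Subgroup G} (h1 : CJ H K) (h2 : CJ K L) :
    CJ H L := by
  obtain ⟨a, rfl⟩ := h1
  obtain ⟨b, rfl⟩ := h2
  refine ⟨b * a, ?_⟩
  rw [Subgroup.map_map]
  congr 1
  ext x
  simp [mul_assoc]

theorem CJ.card_eq {G : Type*} [Group G] {H K : Subgroup G} (h : CJ H K) :
    Nat.card ↥K = Nat.card ↥H := by
  obtain ⟨g, rfl⟩ := h
  exact Subgroup.card_map_of_injective (MulAut.conj g).injective

/-- minimal normal subgroups of finite solvable groups -/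
theorem exists_min_normal {G : Type*} [Group G] [Finite G] [Group.IsSolvable G]
    [Nontrivial G] :
    ∃ (M : Subgroup G) (p : ℕ), M.Normal ∧ M ≠ ⊥ ∧ p.Prime ∧
      (∀ N : Subgroup G, N.Normal → N ≤ M → N = ⊥ ∨ N = M) ∧
      (∀ x ∈ M, ∀ y ∈ M, x * y = y * x) ∧ (∀ x ∈ M, x ^ p = 1) := by
  classical
  let S : Set (Subgroup G) := {K | K.Normal ∧ K ≠ ⊥}
  have hS : S.Nonempty := ⟨⊤, inferInstance, top_ne_bot⟩
  obtain ⟨M, ⟨hMn, hMne⟩, hMmin⟩ :=
    WellFounded.has_min (wellFounded_lt (α := Subgroup G)) S hS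
  have hmin : ∀ N : Subgroup G, N.Normal → N ≤ M → N = ⊥ ∨ N = M := by
    intro N hN hNM
    by_cases hN0 : N = ⊥
    · exact Or.inl hN0
    · right
      by_contra hne
      exact hMmin N ⟨hN, hN0⟩ (lt_of_le_of_ne hNM hne)
  haveI := hMn
  have hcomm : ∀ x ∈ M, ∀ y ∈ M, x * y = y * x := by
    have h1 : ⁅M, M⁆ < M := Group.IsSolvable.commutator_lt_of_ne_bot hMne
    have h2 : ⁅M, M⁆ = ⊥ := by
      rcases hmin ⁅M, M⁆ inferInstance h1.le with h | h
      · exact h
      · exact absurd h h1.ne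
    rw [Subgroup.commutator_eq_bot_iff_le_centralizer] at h2
    intro x hx y hy
    exact ((Subgroup.mem_centralizer_iff.mp (h2 hx)) y hy).symm
  have hcard : Nat.card ↥M ≠ 1 := by
    intro h; exact hMne (Subgroup.card_eq_one.mp h)
  obtain ⟨p, hp, hpM⟩ := Nat.exists_prime_and_dvd hcard
  haveI := Fact.mk hp
  let Ω : Subgroup G :=
    { carrier := {x | x ∈ M ∧ x ^ p = 1}
      one_mem' := ⟨one_mem _, one_pow _⟩
      mul_mem' := by
        rintro x y ⟨hx, hx1⟩ ⟨hy, hy1⟩
        refine ⟨mul_mem hx hy, ?_⟩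
        have hc : Commute x y := hcomm x hx y hy
        rw [hc.mul_pow, hx1, hy1, one_mul]
      inv_mem' := by
        rintro x ⟨hx, hx1⟩
        exact ⟨inv_mem hx, by rw [inv_pow, hx1, inv_one]⟩ }
  have hΩn : Ω.Normal := by
    constructor
    rintro x ⟨hx, hx1⟩ g
    exact ⟨hMn.conj_mem x hx g, by rw [conj_pow, hx1, mul_one, mul_inv_cancel]⟩
  have hΩM : Ω ≤ M := fun x hx => hx.1
  have hΩne : Ω ≠ ⊥ := by
    obtain ⟨m, hm⟩ := exists_prime_orderOf_dvd_card' (G := ↥M) p hpM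
    intro h
    have h1 : (m : G) ∈ Ω := by
      refine ⟨m.2, ?_⟩
      have : m ^ p = 1 := by rw [← hm]; exact pow_orderOf_eq_one m
      simpa using congrArg Subtype.val this
    rw [h, Subgroup.mem_bot] at h1
    have : m = 1 := Subtype.ext h1
    rw [this, orderOf_one] at hm
    exact hp.one_lt.ne hm
  have hΩeq : Ω = M := by
    rcases hmin Ω hΩn hΩM with h | h
    · exact absurd h hΩne
    · exact h
  refine ⟨M, p, hMn, hMne, hp, hmin, hcomm, ?_⟩
  intro x hx
  have : x ∈ Ω := hΩeq ▸ hx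
  exact this.2

/-- elements of order `p` lie in a normal subgroup of order divisible by `p` when subgroups of
order `p` are conjugate. -/
theorem order_p_mem {G : Type*} [Group G] [Finite G]
    (hD : ∀ p : ℕ, p.Prime → ∀ H K : Subgroup G, IsPGroup p H → IsPGroup p K →
      Nat.card H = Nat.card K → ∃ g : G, K = H.map (MulAut.conj g).toMonoidHom)
    (M : Subgroup G) [hMn : M.Normal] (p : ℕ) (hp : p.Prime) (hpM : p ∣ Nat.card ↥M)
    (x : G) (hx : orderOf x = p) : x ∈ M := by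
  haveI := Fact.mk hp
  obtain ⟨m, hm⟩ := exists_prime_orderOf_dvd_card' (G := ↥M) p hpM
  have hmG : orderOf (m : G) = p := by rw [Subgroup.orderOf_coe]; exact hm
  have h1 : IsPGroup p ↥(Subgroup.zpowers (m : G)) :=
    IsPGroup.of_card (n := 1) (by rw [Nat.card_zpowers, hmG, pow_one])
  have h2 : IsPGroup p ↥(Subgroup.zpowers x) :=
    IsPGroup.of_card (n := 1) (by rw [Nat.card_zpowers, hx, pow_one])
  obtain ⟨g, hg⟩ := hD p hp _ _ h1 h2 (by rw [Nat.card_zpowers, Nat.card_zpowers, hmG, hx])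
  have hxm : x ∈ (Subgroup.zpowers (m : G)).map (MulAut.conj g).toMonoidHom := by
    rw [← hg]; exact Subgroup.mem_zpowers x
  obtain ⟨y, hy, rfl⟩ := hxm
  have hyM : y ∈ M := (Subgroup.zpowers_le.mpr m.2) hy
  exact hMn.conj_mem y hyM g

open Cfsg.Agent.Lib.Helper25.BGroupQuot (card_eq card_K_dvd)

theorem map_conj_normal {G : Type*} [Group G] (M : Subgroup G) [hM : M.Normal] (g : G) :
    M.map (MulAut.conj g).toMonoidHom = M := by
  ext x
  constructor
  · rintro ⟨y, hy, rfl⟩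
    exact hM.conj_mem y hy g
  · intro hx
    refine ⟨g⁻¹ * x * g, ?_, ?_⟩
    · have := hM.conj_mem x hx g⁻¹
      simpa using this
    · simp [mul_assoc]

theorem CJ_of_subgroupOf {G : Type*} [Group G] (A B N : Subgroup G) (hA : A ≤ N) (hB : B ≤ N)
    (h : CJ (A.subgroupOf N) (B.subgroupOf N)) :
    ∃ g ∈ N, B = A.map (MulAut.conj g).toMonoidHom := by
  obtain ⟨g, hg⟩ := h
  refine ⟨g.1, g.2, ?_⟩
  ext x
  constructor
  · intro hx
    have hxN : x ∈ N := hB hx
    have h1 : (⟨x, hxN⟩ : ↥N) ∈ B.subgroupOf N := Subgroup.mem_subgroupOf.mpr hx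
    rw [hg] at h1
    obtain ⟨y, hy, hyx⟩ := h1
    refine ⟨y.1, Subgroup.mem_subgroupOf.mp hy, ?_⟩
    have := congrArg Subtype.val hyx
    simpa using this
  · rintro ⟨y, hy, rfl⟩
    have hyN : y ∈ N := hA hy
    have h1 : (MulAut.conj g).toMonoidHom ⟨y, hyN⟩ ∈ B.subgroupOf N := by
      rw [hg]
      exact Subgroup.mem_map_of_mem _ (Subgroup.mem_subgroupOf.mpr hy)
    have := Subgroup.mem_subgroupOf.mp h1
    simpa using this

theorem card_subgroupOf_of_le {G : Type*} [Group G] {A N : Subgroup G} (h : A ≤ N) :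
    Nat.card ↥(A.subgroupOf N) = Nat.card ↥A :=
  Nat.card_congr (Subgroup.subgroupOfEquivOfLe h).toEquiv

theorem sz_X {X : Type u} [Group X] [Finite X] (M : Subgroup X) [M.Normal]
    (hMs : Group.IsSolvable ↥M) (H K : Subgroup X) (hHK : K ⊔ M = H ⊔ M)
    (hcH : (Nat.card ↥H).Coprime (Nat.card ↥M)) (hcK : (Nat.card ↥K).Coprime (Nat.card ↥M)) :
    CJ H K := by
  have hHY : H ≤ H ⊔ M := le_sup_left
  have hMY : M ≤ H ⊔ M := le_sup_right
  have hKY : K ≤ H ⊔ M := by rw [← hHK]; exact le_sup_left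
  have hs : Group.IsSolvable ↥(M.subgroupOf (H ⊔ M)) :=
    Group.isSolvable_of_isSolvable_injective
      (f := (Subgroup.subgroupOfEquivOfLe hMY).toMonoidHom)
      (Subgroup.subgroupOfEquivOfLe hMY).injective
  have h1 : H.subgroupOf (H ⊔ M) ⊔ M.subgroupOf (H ⊔ M) = ⊤ := by
    rw [← Subgroup.subgroupOf_sup hHY hMY]; exact Subgroup.subgroupOf_self _
  have h2 : K.subgroupOf (H ⊔ M) ⊔ M.subgroupOf (H ⊔ M) = ⊤ := by
    rw [← Subgroup.subgroupOf_sup hKY hMY, hHK]; exact Subgroup.subgroupOf_self _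
  obtain ⟨g, hg⟩ := Cfsg.Agent.Lib.Helper2.sz_conj (M.subgroupOf (H ⊔ M))
    (H.subgroupOf (H ⊔ M)) (K.subgroupOf (H ⊔ M)) (Or.inl hs) h1 h2
    (by rw [card_subgroupOf_of_le hHY, card_subgroupOf_of_le hMY]; exact hcH)
    (by rw [card_subgroupOf_of_le hKY, card_subgroupOf_of_le hMY]; exact hcK)
  obtain ⟨x, _, hx⟩ := CJ_of_subgroupOf H K (H ⊔ M) hHY hKY ⟨g, hg.symm⟩
  exact ⟨x, hx⟩

theorem lift_conj {X : Type*} [Group X] (M : Subgroup X) [M.Normal] (H K : Subgroup X)
    (h : CJ (H.map (QuotientGroup.mk' M)) (K.map (QuotientGroup.mk' M))) :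
    ∃ c : X, K ⊔ M = H.map (MulAut.conj c).toMonoidHom ⊔ M := by
  obtain ⟨cbar, hc⟩ := h
  obtain ⟨c, rfl⟩ := QuotientGroup.mk'_surjective M cbar
  refine ⟨c, ?_⟩
  have h1 : (H.map (MulAut.conj c).toMonoidHom).map (QuotientGroup.mk' M) =
      K.map (QuotientGroup.mk' M) := by
    rw [hc, Subgroup.map_map, Subgroup.map_map]
    congr 1
  have h2 := congrArg (Subgroup.comap (QuotientGroup.mk' M)) h1
  rw [Subgroup.comap_map_eq, Subgroup.comap_map_eq, QuotientGroup.ker_mk'] at h2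
  exact h2.symm

theorem conj_of_quot {X : Type u} [Group X] [Finite X] (M : Subgroup X) [M.Normal]
    (hMs : Group.IsSolvable ↥M)
    (hq : ∀ A' B' : Subgroup (X ⧸ M), Nat.card ↥A' = Nat.card ↥B' → CJ A' B')
    (A B : Subgroup X) (hcard : Nat.card ↥A = Nat.card ↥B)
    (hcop : (Nat.card ↥A).Coprime (Nat.card ↥M)) : CJ A B := by
  have hA1 : Nat.card ↥(M.subgroupOf A) = 1 :=
    Nat.eq_one_of_dvd_coprimes hcop (Subgroup.card_subgroup_dvd_card _) (card_K_dvd M A)
  have hB1 : Nat.card ↥(M.subgroupOf B) = 1 :=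
    Nat.eq_one_of_dvd_coprimes (hcard ▸ hcop) (Subgroup.card_subgroup_dvd_card _) (card_K_dvd M B)
  have hcA := card_eq M (A.map (QuotientGroup.mk' M)) A rfl
  have hcB := card_eq M (B.map (QuotientGroup.mk' M)) B rfl
  rw [hA1, one_mul] at hcA
  rw [hB1, one_mul] at hcB
  obtain ⟨c, hc⟩ := lift_conj M A B (hq _ _ (by rw [← hcA, ← hcB, hcard]))
  have hAc : CJ A (A.map (MulAut.conj c).toMonoidHom) := ⟨c, rfl⟩
  have hcard' : Nat.card ↥(A.map (MulAut.conj c).toMonoidHom) = Nat.card ↥A := hAc.card_eq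
  exact hAc.trans (sz_X M hMs _ B hc (by rw [hcard']; exact hcop) (by rw [← hcard]; exact hcop))

theorem sylow_cyclic_of_subgroup {G : Type*} [Group G] [Finite G] (r : ℕ)
    (hcyc : ∀ p : ℕ, p.Prime → p ≠ r → ∀ P : Sylow p G, IsCyclic P) (L : Subgroup G) :
    ∀ p : ℕ, p.Prime → p ≠ r → ∀ P : Sylow p ↥L, IsCyclic P := by
  intro p hp hpr P
  haveI := Fact.mk hp
  have hP : IsPGroup p ↥((P : Subgroup ↥L).map L.subtype) := P.2.map _
  obtain ⟨Q, hQ⟩ := hP.exists_le_sylow
  haveI : IsCyclic ↥(Q : Subgroup G) := hcyc p hp hpr Q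
  let f : ↥(P : Subgroup ↥L) →* ↥(Q : Subgroup G) :=
    { toFun := fun x => ⟨x.1.1, hQ (Subgroup.mem_map_of_mem L.subtype x.2)⟩
      map_one' := rfl
      map_mul' := fun _ _ => rfl }
  have hf : Function.Injective f := by
    intro x y hxy
    have := congrArg Subtype.val hxy
    exact Subtype.ext (Subtype.ext this)
  exact isCyclic_of_injective f hf

theorem hC_quot {G : Type*} [Group G] [Finite G] (r : ℕ)
    (hcyc : ∀ p : ℕ, p.Prime → p ≠ r → ∀ P : Sylow p G, IsCyclic P)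
    (M : Subgroup G) [M.Normal] :
    ∀ p : ℕ, p.Prime → p ≠ r → ∀ P : Sylow p (G ⧸ M), IsCyclic P := by
  intro p hp hpr P
  haveI := Fact.mk hp
  obtain ⟨Q⟩ := (inferInstance : Nonempty (Sylow p G))
  haveI : IsCyclic ↥(Q : Subgroup G) := hcyc p hp hpr Q
  have hQ' : IsCyclic ↥((Q.mapSurjective (QuotientGroup.mk'_surjective M) : Sylow p (G ⧸ M)) :
      Subgroup (G ⧸ M)) := by
    rw [Sylow.coe_mapSurjective]
    exact isCyclic_of_surjective ((QuotientGroup.mk' M).subgroupMap (Q : Subgroup G))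
      (MonoidHom.subgroupMap_surjective _ _)
  exact isCyclic_of_surjective
    (Sylow.equiv (Q.mapSurjective (QuotientGroup.mk'_surjective M)) P) (MulEquiv.surjective _)

theorem all_cyclic_of_not_dvd {X : Type*} [Group X] [Finite X] (r : ℕ)
    (h : ∀ q : ℕ, q.Prime → q ≠ r → ∀ P : Sylow q X, IsCyclic P) (hr : ¬ r ∣ Nat.card X) :
    ∀ q : ℕ, q.Prime → ∀ P : Sylow q X, IsCyclic P := by
  intro q hq P
  haveI := Fact.mk hq
  by_cases hqr : q = r
  · subst hqr
    have h1 : Nat.card ↥(P : Subgroup X) = 1 := by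
      obtain ⟨k, hk⟩ := IsPGroup.iff_card.mp P.2
      rcases Nat.eq_zero_or_pos k with rfl | hkpos
      · simpa using hk
      · exfalso; apply hr
        have h2 : q ∣ q ^ k := dvd_pow_self q hkpos.ne'
        rw [← hk] at h2
        exact h2.trans (Subgroup.card_subgroup_dvd_card _)
    haveI : Subsingleton ↥(P : Subgroup X) := (Nat.card_eq_one_iff_unique.mp h1).1
    exact isCyclic_of_subsingleton
  · exact h q hq hqr P

theorem eq_of_card_eq_of_le_cyclic {G : Type*} [Group G] [Finite G] (Q A B : Subgroup G)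
    [IsCyclic ↥Q] (hA : A ≤ Q) (hB : B ≤ Q) (h : Nat.card ↥A = Nat.card ↥B) : A = B := by
  have c1 := card_subgroupOf_of_le hA
  have c2 := card_subgroupOf_of_le hB
  have h1 : A.subgroupOf Q ≤ B.subgroupOf Q :=
    Cfsg.Agent.Lib.Helper20.le_of_card_dvd_of_isCyclic _ _ (by rw [c1, c2, h])
  have h2 : B.subgroupOf Q ≤ A.subgroupOf Q :=
    Cfsg.Agent.Lib.Helper20.le_of_card_dvd_of_isCyclic _ _ (by rw [c1, c2, h])
  apply le_antisymm
  · intro x hx
    have hx' : (⟨x, hA hx⟩ : ↥Q) ∈ A.subgroupOf Q := Subgroup.mem_subgroupOf.mpr hx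
    exact Subgroup.mem_subgroupOf.mp (h1 hx')
  · intro x hx
    have hx' : (⟨x, hB hx⟩ : ↥Q) ∈ B.subgroupOf Q := Subgroup.mem_subgroupOf.mpr hx
    exact Subgroup.mem_subgroupOf.mp (h2 hx')

theorem hD_of_cyclic {G : Type*} [Group G] [Finite G]
    (hcyc : ∀ p : ℕ, p.Prime → ∀ P : Sylow p G, IsCyclic P) :
    ∀ p : ℕ, p.Prime → ∀ H K : Subgroup G, IsPGroup p H → IsPGroup p K →
      Nat.card H = Nat.card K → ∃ g : G, K = H.map (MulAut.conj g).toMonoidHom := by
  intro p hp H K hH hK hcard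
  haveI := Fact.mk hp
  obtain ⟨P, hHP⟩ := hH.exists_le_sylow
  obtain ⟨Q, hKQ⟩ := hK.exists_le_sylow
  obtain ⟨g, hg⟩ := MulAction.exists_smul_eq G P Q
  refine ⟨g, ?_⟩
  haveI : IsCyclic ↥(Q : Subgroup G) := hcyc p hp Q
  have hHg : H.map (MulAut.conj g).toMonoidHom ≤ (Q : Subgroup G) := by
    rw [← hg, Sylow.coe_subgroup_smul]
    rintro _ ⟨y, hy, rfl⟩
    exact Subgroup.smul_mem_pointwise_smul y (MulAut.conj g) _ (hHP hy)
  have hc : Nat.card ↥(H.map (MulAut.conj g).toMonoidHom) = Nat.card ↥H :=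
    Subgroup.card_map_of_injective (MulAut.conj g).injective
  exact eq_of_card_eq_of_le_cyclic (Q : Subgroup G) K _ hKQ hHg (by rw [hc, hcard])

theorem hD_quot {G : Type*} [Group G] [Finite G]
    (hD : ∀ p : ℕ, p.Prime → ∀ H K : Subgroup G, IsPGroup p H → IsPGroup p K →
      Nat.card H = Nat.card K → ∃ g : G, K = H.map (MulAut.conj g).toMonoidHom)
    (M : Subgroup G) [M.Normal] :
    ∀ p : ℕ, p.Prime → ∀ H K : Subgroup (G ⧸ M), IsPGroup p H → IsPGroup p K →
      Nat.card H = Nat.card K → ∃ g : G ⧸ M, K = H.map (MulAut.conj g).toMonoidHom := by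
  intro q hq Hb Kb hHb hKb hcard
  haveI := Fact.mk hq
  have key : ∀ Xb : Subgroup (G ⧸ M), IsPGroup q ↥Xb →
      ∃ A₁ : Subgroup G, IsPGroup q ↥A₁ ∧ A₁.map (QuotientGroup.mk' M) = Xb ∧
        Nat.card ↥A₁ = q ^ (Nat.card ↥M * Nat.card ↥Xb).factorization q := by
    intro Xb hXb
    obtain ⟨S⟩ := (inferInstance : Nonempty (Sylow q ↥(Xb.comap (QuotientGroup.mk' M))))
    refine ⟨(S : Subgroup ↥(Xb.comap (QuotientGroup.mk' M))).map (Subgroup.subtype _),
      S.2.map _, ?_, ?_⟩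
    · have hsurj := MonoidHom.subgroupComap_surjective_of_surjective (QuotientGroup.mk' M) Xb
        (QuotientGroup.mk'_surjective M)
      have h1 : ((S.mapSurjective hsurj : Sylow q ↥Xb) : Subgroup ↥Xb) = ⊤ :=
        (Sylow.is_maximal' _ (hXb.to_subgroup ⊤) le_top).symm
      rw [Sylow.coe_mapSurjective] at h1
      apply le_antisymm
      · rintro _ ⟨_, ⟨y, hy, rfl⟩, rfl⟩
        exact y.2
      · intro x hx
        have h2 : (⟨x, hx⟩ : ↥Xb) ∈
            (S : Subgroup _).map ((QuotientGroup.mk' M).subgroupComap Xb) := by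
          rw [h1]; exact Subgroup.mem_top _
        obtain ⟨y, hy, hyx⟩ := h2
        refine ⟨y.1, ⟨y, hy, rfl⟩, ?_⟩
        exact congrArg Subtype.val hyx
    · rw [Subgroup.card_map_of_injective (Subgroup.subtype_injective _),
        Sylow.card_eq_multiplicity]
      have hle : M ≤ Xb.comap (QuotientGroup.mk' M) := by
        intro m hm
        rw [Subgroup.mem_comap]
        have h4 : (QuotientGroup.mk' M) m = 1 := (QuotientGroup.eq_one_iff m).mpr hm
        rw [h4]; exact one_mem _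
      have h3 := card_eq M Xb (Xb.comap (QuotientGroup.mk' M))
        (Subgroup.map_comap_eq_self_of_surjective (QuotientGroup.mk'_surjective M) Xb)
      rw [h3, card_subgroupOf_of_le hle]
  obtain ⟨A₁, hA₁, hA₁m, hA₁c⟩ := key Hb hHb
  obtain ⟨B₁, hB₁, hB₁m, hB₁c⟩ := key Kb hKb
  obtain ⟨g, hg⟩ := hD q hq A₁ B₁ hA₁ hB₁ (by rw [hA₁c, hB₁c, hcard])
  refine ⟨(QuotientGroup.mk' M) g, ?_⟩
  rw [← hB₁m, hg, ← hA₁m, Subgroup.map_map, Subgroup.map_map]
  congr 1

theorem inf_conj {G : Type*} [Group G] [Finite G]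
    (hD : ∀ p : ℕ, p.Prime → ∀ H K : Subgroup G, IsPGroup p H → IsPGroup p K →
      Nat.card H = Nat.card K → ∃ g : G, K = H.map (MulAut.conj g).toMonoidHom)
    (M : Subgroup G) [hMn : M.Normal] (p : ℕ) (hp : p.Prime) (hMp : IsPGroup p ↥M)
    (H K : Subgroup G) (hcard : Nat.card ↥H = Nat.card ↥K) :
    ∃ g : G, K ⊓ M = (H ⊓ M).map (MulAut.conj g).toMonoidHom := by
  haveI := Fact.mk hp
  have key : ∀ L : Subgroup G, ∃ L₁ : Subgroup G, IsPGroup p ↥L₁ ∧ L₁ ≤ L ∧ L ⊓ M ≤ L₁ ∧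
      Nat.card ↥L₁ = p ^ (Nat.card ↥L).factorization p := by
    intro L
    obtain ⟨S⟩ := (inferInstance : Nonempty (Sylow p ↥L))
    refine ⟨(S : Subgroup ↥L).map L.subtype, S.2.map _, ?_, ?_, ?_⟩
    · rintro _ ⟨y, _, rfl⟩; exact y.2
    · rintro x ⟨hxL, hxM⟩
      have h1 : IsPGroup p ↥(M.subgroupOf L) := hMp.comap_subtype
      have h2 : M.subgroupOf L ≤ (S : Subgroup ↥L) := h1.le_sylow_of_normal S
      exact ⟨⟨x, hxL⟩, h2 (Subgroup.mem_subgroupOf.mpr hxM), rfl⟩
    · rw [Subgroup.card_map_of_injective L.subtype_injective, Sylow.card_eq_multiplicity]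
  obtain ⟨H₁, hH₁p, hH₁le, hH₁M, hH₁c⟩ := key H
  obtain ⟨K₁, hK₁p, hK₁le, hK₁M, hK₁c⟩ := key K
  obtain ⟨g, hg⟩ := hD p hp H₁ K₁ hH₁p hK₁p (by rw [hH₁c, hK₁c, hcard])
  refine ⟨g, ?_⟩
  have e1 : K ⊓ M = K₁ ⊓ M := le_antisymm (le_inf hK₁M inf_le_right) (inf_le_inf_right M hK₁le)
  have e2 : H ⊓ M = H₁ ⊓ M := le_antisymm (le_inf hH₁M inf_le_right) (inf_le_inf_right M hH₁le)
  rw [e1, e2, Subgroup.map_inf _ _ _ (MulAut.conj g).injective, ← hg, map_conj_normal]

theorem exists_compl {G : Type*} [Group G] [Finite G] (M : Subgroup G) [M.Normal]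
    (hcop : (Nat.card ↥M).Coprime M.index) (H : Subgroup G) :
    ∃ A : Subgroup G, A ≤ H ∧ (Nat.card ↥A).Coprime (Nat.card ↥M) ∧
      Nat.card ↥(M.subgroupOf H) * Nat.card ↥A = Nat.card ↥H ∧ (H ⊓ M) ⊔ A = H := by
  have hd1 : Nat.card ↥(M.subgroupOf H) ∣ Nat.card ↥M := card_K_dvd M H
  have hd2 : (M.subgroupOf H).index ∣ M.index := Subgroup.relIndex_dvd_index_of_normal M H
  have h1 : (Nat.card ↥(M.subgroupOf H)).Coprime (M.subgroupOf H).index :=
    Nat.Coprime.coprime_dvd_left hd1 (Nat.Coprime.coprime_dvd_right hd2 hcop)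
  obtain ⟨A', hA'⟩ := Subgroup.exists_right_complement'_of_coprime h1
  have hcm := hA'.card_mul_card
  have hidx : Nat.card ↥A' = (M.subgroupOf H).index := by
    have h2 := Subgroup.card_mul_index (M.subgroupOf H)
    have hpos : 0 < Nat.card ↥(M.subgroupOf H) := Nat.card_pos
    exact Nat.eq_of_mul_eq_mul_left hpos (hcm.trans h2.symm)
  refine ⟨A'.map H.subtype, ?_, ?_, ?_, ?_⟩
  · rintro _ ⟨y, _, rfl⟩; exact y.2
  · rw [Subgroup.card_map_of_injective H.subtype_injective, hidx]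
    exact (Nat.Coprime.coprime_dvd_right hd2 hcop).symm
  · rw [Subgroup.card_map_of_injective H.subtype_injective]; exact hcm
  · have hsup := hA'.sup_eq_top
    have h3 := congrArg (Subgroup.map H.subtype) hsup
    rw [Subgroup.map_sup, Subgroup.subgroupOf_map_subtype, ← MonoidHom.range_eq_map,
      Subgroup.range_subtype] at h3
    rw [inf_comm]; exact h3

theorem le_normalizer_inf {G : Type*} [Group G] (L M : Subgroup G) [hMn : M.Normal] :
    L ≤ Subgroup.normalizer ((L ⊓ M : Subgroup G) : Set G) := by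
  intro h hh
  rw [Subgroup.mem_normalizer_iff]
  intro d
  constructor
  · rintro ⟨hd1, hd2⟩
    exact ⟨L.mul_mem (L.mul_mem hh hd1) (L.inv_mem hh), hMn.conj_mem d hd2 h⟩
  · rintro ⟨hd1, hd2⟩
    refine ⟨?_, ?_⟩
    · have := L.mul_mem (L.mul_mem (L.inv_mem hh) hd1) hh
      simpa [mul_assoc] using this
    · have := hMn.conj_mem _ hd2 h⁻¹
      simpa [mul_assoc] using this

theorem abelian_le_normalizer {G : Type*} [Group G] (D M : Subgroup G) (hDM : D ≤ M)
    (hcomm : ∀ x ∈ M, ∀ y ∈ M, x * y = y * x) : M ≤ Subgroup.normalizer (D : Set G) := by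
  intro m hm
  rw [Subgroup.mem_normalizer_iff]
  intro d
  constructor
  · intro hd
    have : m * d * m⁻¹ = d := by
      rw [hcomm m hm d (hDM hd), mul_assoc, mul_inv_cancel, mul_one]
    rw [this]; exact hd
  · intro hd
    have h1 : m * d * m⁻¹ ∈ M := hDM hd
    have h2 : d ∈ M := by
      have := M.mul_mem (M.mul_mem (M.inv_mem hm) h1) hm
      simpa [mul_assoc] using this
    have : m * d * m⁻¹ = d := by
      rw [hcomm m hm d h2, mul_assoc, mul_inv_cancel, mul_one]
    rw [this] at hd; exact hd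

theorem map_conj_of_mem_normalizer {G : Type*} [Group G] (D : Subgroup G) (c : G)
    (hc : c ∈ Subgroup.normalizer (D : Set G)) : D.map (MulAut.conj c).toMonoidHom = D := by
  rw [Subgroup.mem_normalizer_iff] at hc
  ext x
  constructor
  · rintro ⟨y, hy, rfl⟩
    exact (hc y).mp hy
  · intro hx
    refine ⟨c⁻¹ * x * c, ?_, ?_⟩
    · apply (hc _).mpr
      have : c * (c⁻¹ * x * c) * c⁻¹ = x := by group
      rw [this]; exact hx
    · simp [mul_assoc]

theorem isPGroup_of_exp {G : Type*} [Group G] (M : Subgroup G) (p : ℕ)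
    (hexp : ∀ x ∈ M, x ^ p = 1) : IsPGroup p ↥M := by
  intro m
  refine ⟨1, ?_⟩
  rw [pow_one]
  apply Subtype.ext
  rw [Subgroup.coe_pow, Subgroup.coe_one]
  exact hexp m.1 m.2

theorem caseC (n : ℕ)
    (ih : ∀ m < n, ∀ (G : Type u) [Group G] [Finite G], Nat.card G = m → Group.IsSolvable G →
      (∀ p : ℕ, p.Prime → ∀ H K : Subgroup G, IsPGroup p H → IsPGroup p K →
        Nat.card H = Nat.card K → ∃ g : G, K = H.map (MulAut.conj g).toMonoidHom) →
      ∀ r : ℕ, (∀ p : ℕ, p.Prime → p ≠ r → ∀ P : Sylow p G, IsCyclic P) →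
      ∀ H K : Subgroup G, Nat.card H = Nat.card K → CJ H K)
    (G : Type u) [Group G] [Finite G] (hn : Nat.card G = n) [Group.IsSolvable G]
    (hD : ∀ p : ℕ, p.Prime → ∀ H K : Subgroup G, IsPGroup p H → IsPGroup p K →
      Nat.card H = Nat.card K → ∃ g : G, K = H.map (MulAut.conj g).toMonoidHom)
    (r : ℕ) (hcyc : ∀ p : ℕ, p.Prime → p ≠ r → ∀ P : Sylow p G, IsCyclic P)
    (M : Subgroup G) [hMn : M.Normal] (p : ℕ) (hp : p.Prime)
    (hcomm : ∀ x ∈ M, ∀ y ∈ M, x * y = y * x) (hexp : ∀ x ∈ M, x ^ p = 1)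
    (H K : Subgroup G) (hcard : Nat.card H = Nat.card K) (hHK : H ⊓ M = K ⊓ M)
    (hne0 : H ⊓ M ≠ ⊥) (hneM : ¬ M ≤ H) : CJ H K := by
  haveI := Fact.mk hp
  have hMp : IsPGroup p ↥M := isPGroup_of_exp M p hexp
  obtain ⟨k, hk⟩ := IsPGroup.iff_card.mp hMp
  obtain ⟨a, ha⟩ := IsPGroup.iff_card.mp (hMp.to_le (inf_le_right : H ⊓ M ≤ M))
  have ha0 : a ≠ 0 := by
    rintro rfl
    rw [pow_zero] at ha
    exact hne0 (Subgroup.card_eq_one.mp ha)
  have hak : a < k := by
    have h1 : Nat.card ↥(H ⊓ M : Subgroup G) ∣ Nat.card ↥M := Subgroup.card_dvd_of_le inf_le_right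
    rw [ha, hk] at h1
    have h2 : a ≤ k := (Nat.pow_dvd_pow_iff_le_right hp.one_lt).mp h1
    rcases h2.lt_or_eq with h | h
    · exact h
    · exfalso
      apply hneM
      have h3 : H ⊓ M = M := Subgroup.eq_of_le_of_card_ge inf_le_right (by rw [ha, hk, h])
      rw [← h3]; exact inf_le_left
  have hk2 : 2 ≤ k := by omega
  have hp2M : p ^ 2 ∣ Nat.card ↥M := by rw [hk]; exact pow_dvd_pow p hk2
  have hpM : p ∣ Nat.card ↥M := (dvd_pow_self p (two_ne_zero)).trans hp2M
  have hp2p : ¬ p ^ 2 ∣ p := by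
    intro h3
    have h4 := Nat.le_of_dvd hp.pos h3
    have h5 := hp.two_le
    nlinarith
  -- p = r
  have hpr : p = r := by
    by_contra hne
    obtain ⟨P, hMP⟩ := hMp.exists_le_sylow
    haveI : IsCyclic ↥(P : Subgroup G) := hcyc p hp hne P
    haveI : IsCyclic ↥M :=
      isCyclic_of_injective (Subgroup.inclusion hMP) (Subgroup.inclusion_injective hMP)
    obtain ⟨m₀, hm₀⟩ := IsCyclic.exists_generator (α := ↥M)
    have h1 : orderOf m₀ = Nat.card ↥M := orderOf_eq_card_of_forall_mem_zpowers hm₀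
    have h2 : orderOf m₀ ∣ p := by
      apply orderOf_dvd_of_pow_eq_one
      apply Subtype.ext
      rw [Subgroup.coe_pow, Subgroup.coe_one]
      exact hexp m₀.1 m₀.2
    rw [h1] at h2
    exact hp2p (hp2M.trans h2)
  -- no element of order p²
  have hno : ∀ y : G, orderOf y ≠ p ^ 2 := by
    intro y hy
    obtain ⟨Q', hQ'⟩ := Sylow.exists_subgroup_card_pow_prime (G := ↥M) p hp2M
    have hQc : Nat.card ↥(Q'.map M.subtype) = p ^ 2 := by
      rw [Subgroup.card_map_of_injective M.subtype_injective, hQ']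
    have hQM : Q'.map M.subtype ≤ M := by
      rintro _ ⟨z, _, rfl⟩; exact z.2
    have hyc : Nat.card ↥(Subgroup.zpowers y) = p ^ 2 := by rw [Nat.card_zpowers, hy]
    obtain ⟨g, hg⟩ := hD p hp _ _ (IsPGroup.of_card hQc) (IsPGroup.of_card hyc)
      (by rw [hQc, hyc])
    have hyM : y ∈ M := by
      have h1 : y ∈ (Q'.map M.subtype).map (MulAut.conj g).toMonoidHom := by
        rw [← hg]; exact Subgroup.mem_zpowers y
      obtain ⟨z, hz, rfl⟩ := h1
      exact hMn.conj_mem z (hQM hz) g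
    have h2 : orderOf y ∣ p := orderOf_dvd_of_pow_eq_one (hexp y hyM)
    rw [hy] at h2
    exact hp2p h2
  -- all p-elements lie in M
  have hpel : ∀ x : G, (∃ j, orderOf x = p ^ j) → x ∈ M := by
    rintro x ⟨j, hj⟩
    rcases Nat.lt_or_ge j 2 with hj2 | hj2
    · interval_cases j
      · rw [pow_zero, orderOf_eq_one_iff] at hj
        rw [hj]; exact one_mem _
      · rw [pow_one] at hj
        exact order_p_mem hD M p hp hpM x hj
    · exfalso
      apply hno (x ^ (p ^ (j - 2)))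
      rw [orderOf_pow_of_dvd (pow_ne_zero _ hp.ne_zero)
        (by rw [hj]; exact pow_dvd_pow p (Nat.sub_le j 2)), hj,
        Nat.pow_div (Nat.sub_le j 2) hp.pos]
      congr 1
      omega
  -- M is a Sylow subgroup
  have hcopM : (Nat.card ↥M).Coprime M.index := by
    obtain ⟨P, hMP⟩ := hMp.exists_le_sylow
    have hPM : (P : Subgroup G) ≤ M := by
      intro x hx
      apply hpel
      obtain ⟨j, hj⟩ := (IsPGroup.iff_orderOf.mp P.2) ⟨x, hx⟩
      exact ⟨j, by rw [← hj, Subgroup.orderOf_mk]⟩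
    have h1 : M = (P : Subgroup G) := le_antisymm hMP hPM
    rw [h1]; exact P.card_coprime_index
  -- complements
  obtain ⟨A, hAH, hAcop, hAcard, hAsup⟩ := exists_compl M hcopM H
  obtain ⟨B, hBK, hBcop, hBcard, hBsup⟩ := exists_compl M hcopM K
  have hMHK : Nat.card ↥(M.subgroupOf H) = Nat.card ↥(M.subgroupOf K) := by
    rw [← Subgroup.inf_subgroupOf_left M H, ← Subgroup.inf_subgroupOf_left M K,
      card_subgroupOf_of_le inf_le_left, card_subgroupOf_of_le inf_le_left, hHK]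
  have hAB : Nat.card ↥A = Nat.card ↥B := by
    have hpos : 0 < Nat.card ↥(M.subgroupOf H) := Nat.card_pos
    apply Nat.eq_of_mul_eq_mul_left hpos
    rw [hAcard, hMHK, hBcard, hcard]
  -- the normalizer of D = H ⊓ M
  obtain ⟨N, hNdef⟩ : ∃ N : Subgroup G,
      N = Subgroup.normalizer ((H ⊓ M : Subgroup G) : Set G) := ⟨_, rfl⟩
  have hMN : M ≤ N := by
    rw [hNdef]; exact abelian_le_normalizer _ M inf_le_right hcomm
  have hHN : H ≤ N := by
    rw [hNdef]; exact le_normalizer_inf H M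
  have hKN : K ≤ N := by
    rw [hNdef, hHK]; exact le_normalizer_inf K M
  have hAN : A ≤ N := hAH.trans hHN
  have hBN : B ≤ N := hBK.trans hKN
  have hcardMN : Nat.card ↥(M.subgroupOf N) = Nat.card ↥M := card_subgroupOf_of_le hMN
  have hidxdvd : (M.subgroupOf N).index ∣ M.index := Subgroup.relIndex_dvd_index_of_normal M N
  have hpidx : ¬ p ∣ M.index := by
    intro h
    exact hp.one_lt.ne' (Nat.eq_one_of_dvd_coprimes hcopM hpM h)
  have hq : ∀ A' B' : Subgroup (↥N ⧸ M.subgroupOf N),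
      Nat.card ↥A' = Nat.card ↥B' → CJ A' B' := by
    have hlt : Nat.card (↥N ⧸ M.subgroupOf N) < n := by
      rw [← Subgroup.index_eq_card]
      have h1 := Subgroup.card_mul_index (M.subgroupOf N)
      rw [hcardMN] at h1
      have h2 : Nat.card ↥N ≤ Nat.card G :=
        Nat.le_of_dvd Nat.card_pos (Subgroup.card_subgroup_dvd_card N)
      have h3 : 2 ≤ Nat.card ↥M := hp.two_le.trans (Nat.le_of_dvd Nat.card_pos hpM)
      have h4 : 0 < (M.subgroupOf N).index :=
        Nat.pos_of_ne_zero Subgroup.index_ne_zero_of_finite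
      rw [← hn]
      nlinarith
    have hallc : ∀ q : ℕ, q.Prime → ∀ P : Sylow q (↥N ⧸ M.subgroupOf N), IsCyclic P := by
      apply all_cyclic_of_not_dvd r
      · exact hC_quot r (sylow_cyclic_of_subgroup r hcyc N) (M.subgroupOf N)
      · rw [← hpr, ← Subgroup.index_eq_card]
        exact fun h => hpidx (h.trans hidxdvd)
    exact ih _ hlt (↥N ⧸ M.subgroupOf N) rfl inferInstance (hD_of_cyclic hallc) 0
      (fun q hq _ P => hallc q hq P)
  have hMs : Group.IsSolvable ↥(M.subgroupOf N) := inferInstance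
  have hcj : CJ (A.subgroupOf N) (B.subgroupOf N) := by
    apply conj_of_quot (M.subgroupOf N) hMs hq
    · rw [card_subgroupOf_of_le hAN, card_subgroupOf_of_le hBN, hAB]
    · rw [card_subgroupOf_of_le hAN, hcardMN]; exact hAcop
  obtain ⟨c, hcN, hc⟩ := CJ_of_subgroupOf A B N hAN hBN hcj
  refine ⟨c, ?_⟩
  have e1 : H.map (MulAut.conj c).toMonoidHom =
      (H ⊓ M).map (MulAut.conj c).toMonoidHom ⊔ A.map (MulAut.conj c).toMonoidHom := by
    rw [← Subgroup.map_sup, hAsup]
  rw [e1, ← hc, map_conj_of_mem_normalizer _ c (by rw [← hNdef]; exact hcN), hHK, hBsup]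

theorem main_aux (n : ℕ) : ∀ (G : Type u) [Group G] [Finite G], Nat.card G = n →
    Group.IsSolvable G →
    (∀ p : ℕ, p.Prime → ∀ H K : Subgroup G, IsPGroup p H → IsPGroup p K →
      Nat.card H = Nat.card K → ∃ g : G, K = H.map (MulAut.conj g).toMonoidHom) →
    ∀ r : ℕ, (∀ p : ℕ, p.Prime → p ≠ r → ∀ P : Sylow p G, IsCyclic P) →
    ∀ H K : Subgroup G, Nat.card H = Nat.card K → CJ H K := by
  induction n using Nat.strong_induction_on with
  | _ n ih =>
    intro G _ _ hn hsolv hD r hcyc H K hcard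
    haveI := hsolv
    rcases subsingleton_or_nontrivial G with hsub | hnt
    · rw [Subgroup.eq_bot_of_subsingleton H, Subgroup.eq_bot_of_subsingleton K]
      exact CJ.refl _
    obtain ⟨M, p, hMn, hM0, hp, _, hcomm, hexp⟩ := exists_min_normal (G := G)
    haveI := hMn
    haveI := Fact.mk hp
    have hMp : IsPGroup p ↥M := isPGroup_of_exp M p hexp
    have hpM : p ∣ Nat.card ↥M := by
      obtain ⟨k, hk⟩ := IsPGroup.iff_card.mp hMp
      rcases Nat.eq_zero_or_pos k with rfl | hkpos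
      · rw [pow_zero] at hk
        exact absurd (Subgroup.card_eq_one.mp hk) hM0
      · rw [hk]; exact dvd_pow_self p hkpos.ne'
    have hMs : Group.IsSolvable ↥M := inferInstance
    have hq : ∀ A' B' : Subgroup (G ⧸ M), Nat.card ↥A' = Nat.card ↥B' → CJ A' B' := by
      have hlt : Nat.card (G ⧸ M) < n := by
        rw [← Subgroup.index_eq_card]
        have h1 := Subgroup.card_mul_index M
        have h3 : 2 ≤ Nat.card ↥M := hp.two_le.trans (Nat.le_of_dvd Nat.card_pos hpM)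
        have h4 : 0 < M.index := Nat.pos_of_ne_zero Subgroup.index_ne_zero_of_finite
        rw [← hn]
        nlinarith
      exact ih _ hlt (G ⧸ M) rfl inferInstance (hD_quot hD M) r (hC_quot r hcyc M)
    obtain ⟨g₀, hg₀⟩ := inf_conj hD M p hp hMp H K hcard
    have hH' : CJ H (H.map (MulAut.conj g₀).toMonoidHom) := ⟨g₀, rfl⟩
    refine hH'.trans ?_
    have hcard' : Nat.card ↥(H.map (MulAut.conj g₀).toMonoidHom) = Nat.card ↥K := by
      rw [hH'.card_eq, hcard]
    have hinf : H.map (MulAut.conj g₀).toMonoidHom ⊓ M = K ⊓ M := by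
      rw [hg₀, Subgroup.map_inf _ _ _ (MulAut.conj g₀).injective, map_conj_normal M g₀]
    generalize H.map (MulAut.conj g₀).toMonoidHom = H' at hcard' hinf ⊢
    by_cases hMH : M ≤ H'
    · -- case A
      have hMK : M ≤ K := by
        have h1 : H' ⊓ M = M := inf_eq_right.mpr hMH
        rw [h1] at hinf
        exact inf_eq_right.mp hinf.symm
      have hc1 := card_eq M (H'.map (QuotientGroup.mk' M)) H' rfl
      have hc2 := card_eq M (K.map (QuotientGroup.mk' M)) K rfl
      have hc3 : Nat.card ↥(M.subgroupOf H') = Nat.card ↥(M.subgroupOf K) := by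
        rw [card_subgroupOf_of_le hMH, card_subgroupOf_of_le hMK]
      have hc4 : Nat.card ↥(H'.map (QuotientGroup.mk' M)) =
          Nat.card ↥(K.map (QuotientGroup.mk' M)) := by
        have hpos : 0 < Nat.card ↥(M.subgroupOf H') := Nat.card_pos
        apply Nat.eq_of_mul_eq_mul_left hpos
        rw [← hc1, hc3, ← hc2, hcard']
      obtain ⟨c, hc⟩ := lift_conj M H' K (hq _ _ hc4)
      refine ⟨c, ?_⟩
      have h1 : K ⊔ M = K := sup_eq_left.mpr hMK
      have h2 : H'.map (MulAut.conj c).toMonoidHom ⊔ M =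
          H'.map (MulAut.conj c).toMonoidHom := by
        apply sup_eq_left.mpr
        have h3 : M.map (MulAut.conj c).toMonoidHom ≤ H'.map (MulAut.conj c).toMonoidHom :=
          Subgroup.map_mono hMH
        rw [map_conj_normal M c] at h3
        exact h3
      rw [h1, h2] at hc
      exact hc
    · by_cases h0 : H' ⊓ M = ⊥
      · -- case B
        have hpH : ¬ p ∣ Nat.card ↥H' := by
          intro hdvd
          obtain ⟨x, hx⟩ := exists_prime_orderOf_dvd_card' (G := ↥H') p hdvd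
          have hxG : orderOf (x : G) = p := by rw [Subgroup.orderOf_coe]; exact hx
          have hxM : (x : G) ∈ M := order_p_mem hD M p hp hpM _ hxG
          have h1 : (x : G) ∈ H' ⊓ M := ⟨x.2, hxM⟩
          rw [h0, Subgroup.mem_bot] at h1
          rw [h1, orderOf_one] at hxG
          exact hp.one_lt.ne hxG
        have hcop : (Nat.card ↥H').Coprime (Nat.card ↥M) := by
          obtain ⟨k, hk⟩ := IsPGroup.iff_card.mp hMp
          rw [hk]
          exact Nat.Coprime.pow_right k ((Nat.Prime.coprime_iff_not_dvd hp).mpr hpH).symm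
        exact conj_of_quot M hMs hq H' K hcard' hcop
      · exact caseC n ih G hn hD r hcyc M p hp hcomm hexp H' K hcard' hinf h0 hMH


/-- Let G be a finite solvable group in which, for every prime p, any two p-subgroups of the same order are conjugate, and suppose the Sylow p-subgroups of G are cyclic for all primes p with at most one exception. Then any two subgroups of G of the same order are conjugate. -/
theorem result {G : Type*} [Group G] [Finite G]
    [Group.IsSolvable G] (hD : ∀ p : ℕ, p.Prime → ∀ H K : Subgroup G, IsPGroup p H → IsPGroup p K → Nat.card H = Nat.card K →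
      ∃ g : G, K = H.map (MulAut.conj g).toMonoidHom)
    (r : ℕ) (hcyc : ∀ p : ℕ, p.Prime → p ≠ r → ∀ P : Sylow p G, IsCyclic P) :
    ∀ H K : Subgroup G, Nat.card H = Nat.card K → ∃ g : G, K = H.map (MulAut.conj g).toMonoidHom := by
  intro H K hcard
  exact main_aux _ G rfl inferInstance hD r hcyc H K hcard

end Cfsg.Agent.S4022
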