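import Cfsg.Statements.S4027
import Cfsg.Agent.Lib.Lead.TwoClosed

set_option autoImplicit false
open Cfsg

namespace Cfsg.Agent.S4027

open Subgroup

/-- Let G be a finite group in which every element x of odd order satisfies N_G(⟨x⟩) = C_G(x). Then the Sylow 2-subgroups of G are normal. -/
theorem result {G : Type*} [Group G] [Finite G]
    (hirr : ∀ x : G, (∀ r : ℕ, r.Prime → r ∣ orderOf x → r ≠ 2) →
      Subgroup.normalizer ((Subgroup.zpowers x : Subgroup G) : Set G) ≤ Subgroup.centralizer {x}) (P : Sylow 2 G) :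
    (P : Subgroup G).Normal := by
  apply Cfsg.Agent.Lib.Lead.sylow_two_normal_of_noInvOdd
  intro g h hodd hinv
  have hprimes : ∀ r : ℕ, r.Prime → r ∣ orderOf h → r ≠ 2 := by
    intro r _ hr h2
    subst h2
    exact (Nat.not_even_iff_odd.mpr hodd) (even_iff_two_dvd.mpr hr)
  have hinv' : g⁻¹ * h * g = h⁻¹ := by
    have : h = g⁻¹ * h⁻¹ * g := by rw [← hinv]; group
    calc g⁻¹ * h * g = (g⁻¹ * h⁻¹ * g)⁻¹ := by group
      _ = h⁻¹ := by rw [← this]
  have hgN : g ∈ normalizer ((zpowers h : Subgroup G) : Set G) := by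
    rw [Subgroup.mem_normalizer_iff]
    intro z
    constructor
    · intro hz
      obtain ⟨k, rfl⟩ := Subgroup.mem_zpowers_iff.mp hz
      have : g * h ^ k * g⁻¹ = (h⁻¹) ^ k := by
        have := map_zpow (MulAut.conj g) h k
        simp only [MulAut.conj_apply] at this
        rw [this, hinv]
      rw [this]
      exact zpow_mem (inv_mem (mem_zpowers h)) k
    · intro hz
      obtain ⟨k, hk⟩ := Subgroup.mem_zpowers_iff.mp hz
      have : z = (h⁻¹) ^ k := by
        have h1 : z = g⁻¹ * (g * z * g⁻¹) * g := by group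
        rw [h1, ← hk]
        have := map_zpow (MulAut.conj g⁻¹) h k
        simp only [MulAut.conj_apply, inv_inv] at this
        rw [this, hinv']
      rw [this]
      exact zpow_mem (inv_mem (mem_zpowers h)) k
  have hgC := hirr h hprimes hgN
  rw [Subgroup.mem_centralizer_iff] at hgC
  have hcomm : h * g = g * h := hgC h (Set.mem_singleton h)
  have hh : h = h⁻¹ := by
    rw [← hinv, ← hcomm]; group
  have h2 : h ^ 2 = 1 := by
    rw [pow_two]; nth_rewrite 2 [hh]; exact mul_inv_cancel h
  have hd : orderOf h ∣ 2 := orderOf_dvd_of_pow_eq_one h2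
  have hc : (orderOf h).Coprime 2 := Nat.coprime_two_right.mpr hodd
  have : orderOf h = 1 := Nat.eq_one_of_dvd_coprimes hc (dvd_refl _) hd
  exact orderOf_eq_one_iff.mp this

end Cfsg.Agent.S4027
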