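import Cfsg.Statements.S4028
import Cfsg.Agent.Lib.Helper24.IndexTwo
import Cfsg.Agent.S0056
import Cfsg.Agent.S1855
import Mathlib

set_option autoImplicit false
open Cfsg

namespace Cfsg.Agent.S4028

variable {G : Type*} [Group G]

/-- Decomposition of an element into commuting `p'`- and `p`-parts, both powers of it. -/
theorem exists_parts [Finite G] (p : ℕ) [Fact p.Prime] (y : G) :
    ∃ x u : G, y = x * u ∧ x ∈ Subgroup.zpowers y ∧ u ∈ Subgroup.zpowers y ∧
      (orderOf x).Coprime p ∧ ∃ k : ℕ, orderOf u = p ^ k := by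
  have hp : p.Prime := Fact.out
  obtain ⟨k, m, hm, hkm⟩ := Nat.exists_eq_pow_mul_and_not_dvd (orderOf_pos y).ne' p hp.ne_one
  have hcop : Nat.Coprime (p ^ k) m :=
    Nat.Coprime.pow_left _ ((Nat.Prime.coprime_iff_not_dvd hp).mpr hm)
  have hb : (1 : ℤ) = (p ^ k : ℕ) * Nat.gcdA (p ^ k) m + m * Nat.gcdB (p ^ k) m := by
    have := Nat.gcd_eq_gcd_ab (p ^ k) m
    rw [hcop.gcd_eq_one] at this
    simpa using this
  refine ⟨y ^ ((p ^ k : ℕ) * Nat.gcdA (p ^ k) m), y ^ ((m : ℤ) * Nat.gcdB (p ^ k) m), ?_,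
    Subgroup.zpow_mem_zpowers _ _, Subgroup.zpow_mem_zpowers _ _, ?_, ?_⟩
  · rw [← zpow_add, ← hb, zpow_one]
  · have h1 : (y ^ ((p ^ k : ℕ) * Nat.gcdA (p ^ k) m)) ^ m = 1 := by
      rw [← zpow_natCast, ← zpow_mul]
      have : ((p ^ k : ℕ) : ℤ) * Nat.gcdA (p ^ k) m * (m : ℤ) =
          ((orderOf y : ℕ) : ℤ) * Nat.gcdA (p ^ k) m := by
        rw [hkm]; push_cast; ring
      rw [this, zpow_mul, zpow_natCast, pow_orderOf_eq_one, one_zpow]
    have h2 : orderOf (y ^ ((p ^ k : ℕ) * Nat.gcdA (p ^ k) m)) ∣ m := orderOf_dvd_of_pow_eq_one h1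
    exact Nat.Coprime.coprime_dvd_left h2 ((Nat.Prime.coprime_iff_not_dvd hp).mpr hm).symm
  · have h1 : (y ^ ((m : ℤ) * Nat.gcdB (p ^ k) m)) ^ (p ^ k) = 1 := by
      rw [← zpow_natCast, ← zpow_mul]
      have : (m : ℤ) * Nat.gcdB (p ^ k) m * ((p ^ k : ℕ) : ℤ) =
          ((orderOf y : ℕ) : ℤ) * Nat.gcdB (p ^ k) m := by
        rw [hkm]; push_cast; ring
      rw [this, zpow_mul, zpow_natCast, pow_orderOf_eq_one, one_zpow]
    have h2 : orderOf (y ^ ((m : ℤ) * Nat.gcdB (p ^ k) m)) ∣ p ^ k := orderOf_dvd_of_pow_eq_one h1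
    obtain ⟨j, -, hj⟩ := (Nat.dvd_prime_pow hp).mp h2
    exact ⟨j, hj⟩

/-- membership in `zpowers` inside a subgroup -/
theorem mem_zpowers_coe (P : Subgroup G) (y w : P) :
    w ∈ Subgroup.zpowers y ↔ (w : G) ∈ Subgroup.zpowers (y : G) := by
  rw [Subgroup.mem_zpowers_iff, Subgroup.mem_zpowers_iff]
  constructor
  · rintro ⟨k, hk⟩
    exact ⟨k, by rw [← hk]; simp⟩
  · rintro ⟨k, hk⟩
    exact ⟨k, Subtype.ext (by rw [← hk]; simp)⟩

/-- an odd-order element normalizing a cyclic 2-group centralizes it -/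
theorem odd_centralizes [Finite G] (x t : G) (k : ℕ) (hx : orderOf x = 2 ^ k)
    (ht : (orderOf t).Coprime 2)
    (hn : t ∈ Subgroup.normalizer ((Subgroup.zpowers x : Subgroup G) : Set G)) : t * x = x * t := by
  have hAV : Subgroup.zpowers t ≤ Subgroup.normalizer ((Subgroup.zpowers x : Subgroup G) : Set G) := by
    rw [Subgroup.zpowers_le]; exact hn
  have hcop : (Nat.card (Subgroup.zpowers t)).Coprime (Nat.card (Subgroup.zpowers x)) := by
    rw [Nat.card_zpowers, Nat.card_zpowers, hx]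
    exact Nat.Coprime.pow_right k ht
  have hΩ : ∀ v ∈ Subgroup.zpowers x, (orderOf v).Prime → ∀ a ∈ Subgroup.zpowers t, a * v = v * a := by
    intro v hv hvp a ha
    have hvo : orderOf v = 2 := by
      have h1 : orderOf v ∣ 2 ^ k := by
        rw [← hx]
        exact orderOf_dvd_of_mem_zpowers hv
      exact (Nat.prime_dvd_prime_iff_eq hvp Nat.prime_two).mp (hvp.dvd_of_dvd_pow h1)
    have hav : a * v * a⁻¹ ∈ Subgroup.zpowers x :=
      (Subgroup.mem_normalizer_iff.mp (hAV ha) v).mp hv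
    have hao : orderOf (a * v * a⁻¹) = 2 := by
      have := (MulAut.conj a).orderOf_eq v
      rw [MulAut.conj_apply] at this
      rw [this, hvo]
    have h1 : orderOf (⟨v, hv⟩ : Subgroup.zpowers x) = 2 := by rw [Subgroup.orderOf_mk]; exact hvo
    have h2 : orderOf (⟨a * v * a⁻¹, hav⟩ : Subgroup.zpowers x) = 2 := by
      rw [Subgroup.orderOf_mk]; exact hao
    have h3 := Cfsg.Agent.Lib.Helper24.involution_unique_of_isCyclic h2 h1
    have h4 : a * v * a⁻¹ = v := congrArg Subtype.val h3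
    calc a * v = (a * v * a⁻¹) * a := by group
      _ = v * a := by rw [h4]
  have := Cfsg.Agent.S0056.result (Subgroup.zpowers t) (Subgroup.zpowers x) hAV hcop hΩ
  have h5 := this (Subgroup.mem_zpowers t)
  rw [Subgroup.mem_centralizer_iff] at h5
  exact (h5 x (Subgroup.mem_zpowers x)).symm

theorem result {G : Type*} [Group G] [Finite G] (P : Sylow 2 G) :
    (∀ x : G, (∀ r : ℕ, r.Prime → r ∣ orderOf x → r = 2) →
      Subgroup.normalizer ((Subgroup.zpowers x : Subgroup G) : Set G) ≤ Subgroup.centralizer {x}) ↔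
    (∀ y : ↥(P : Subgroup G), Subgroup.normalizer ((Subgroup.zpowers y : Subgroup ↥(P : Subgroup G)) : Set ↥(P : Subgroup G)) ≤
        Subgroup.centralizer {y}) := by
  haveI : Fact (Nat.Prime 2) := ⟨Nat.prime_two⟩
  constructor
  · intro h y g hg
    have hy2 : ∀ r : ℕ, r.Prime → r ∣ orderOf (y : G) → r = 2 := by
      intro r hr hdvd
      obtain ⟨k, hk⟩ := (IsPGroup.iff_orderOf.mp P.2) y
      rw [Subgroup.orderOf_coe, hk] at hdvd
      exact (Nat.prime_dvd_prime_iff_eq hr Nat.prime_two).mp (hr.dvd_of_dvd_pow hdvd)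
    have hgN : (g : G) ∈ Subgroup.normalizer ((Subgroup.zpowers (y : G) : Subgroup G) : Set G) := by
      rw [Subgroup.mem_normalizer_iff]
      intro w
      constructor
      · intro hw
        have hwP : w ∈ (P : Subgroup G) := by
          obtain ⟨k, hk⟩ := Subgroup.mem_zpowers_iff.mp hw
          rw [← hk]; exact Subgroup.zpow_mem _ y.2 k
        have h1 : (⟨w, hwP⟩ : P) ∈ Subgroup.zpowers y := (mem_zpowers_coe _ y ⟨w, hwP⟩).mpr hw
        have h2 := (Subgroup.mem_normalizer_iff.mp hg ⟨w, hwP⟩).mp h1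
        exact (mem_zpowers_coe _ y _).mp h2
      · intro hw
        have hwP : w ∈ (P : Subgroup G) := by
          have h1 : (g : G) * w * (g : G)⁻¹ ∈ (P : Subgroup G) := by
            obtain ⟨k, hk⟩ := Subgroup.mem_zpowers_iff.mp hw
            rw [← hk]; exact Subgroup.zpow_mem _ y.2 k
          have h2 := (P : Subgroup G).mul_mem ((P : Subgroup G).mul_mem ((P : Subgroup G).inv_mem g.2) h1) g.2
          have e : (g : G)⁻¹ * ((g : G) * w * (g : G)⁻¹) * (g : G) = w := by group
          rw [e] at h2; exact h2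
        have h1 : g * (⟨w, hwP⟩ : P) * g⁻¹ ∈ Subgroup.zpowers y :=
          (mem_zpowers_coe _ y _).mpr hw
        have h2 := (Subgroup.mem_normalizer_iff.mp hg ⟨w, hwP⟩).mpr h1
        exact (mem_zpowers_coe _ y _).mp h2
    have hc := h (y : G) hy2 hgN
    rw [Subgroup.mem_centralizer_iff] at hc ⊢
    intro z hz
    rw [Set.mem_singleton_iff] at hz
    subst hz
    exact Subtype.ext (hc _ (Set.mem_singleton _))
  · intro h x hx g hg
    have hxo : ∃ k : ℕ, orderOf x = 2 ^ k :=
      ⟨_, Nat.eq_prime_pow_of_unique_prime_dvd (orderOf_pos x).ne' (fun {d} hd hdx => hx d hd hdx)⟩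
    obtain ⟨k, hk⟩ := hxo
    obtain ⟨t, s, hgts, htz, hsz, htcop, j, hsj⟩ := exists_parts 2 g
    have hzle : Subgroup.zpowers g ≤ Subgroup.normalizer ((Subgroup.zpowers x : Subgroup G) : Set G) := by
      rw [Subgroup.zpowers_le]; exact hg
    have htN := hzle htz
    have hsN := hzle hsz
    have htx : t * x = x * t := odd_centralizes x t k hk htcop htN
    -- the 2-part
    have hsx : s * x = x * s := by
      have hZs : IsPGroup 2 (Subgroup.zpowers s) := by
        apply IsPGroup.of_card (n := j)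
        rw [Nat.card_zpowers, hsj]
      have hZx : IsPGroup 2 (Subgroup.zpowers x) := by
        apply IsPGroup.of_card (n := k)
        rw [Nat.card_zpowers, hk]
      have hle : Subgroup.zpowers s ≤ Subgroup.normalizer ((Subgroup.zpowers x : Subgroup G) : Set G) := by
        rw [Subgroup.zpowers_le]; exact hsN
      have hT : IsPGroup 2 (Subgroup.zpowers s ⊔ Subgroup.zpowers x : Subgroup G) :=
        IsPGroup.to_sup_of_normal_right' hZs hZx hle
      obtain ⟨c, hc⟩ := Cfsg.Agent.S1855.conj_into_sylow P _ hT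
      have hx' : c * x * c⁻¹ ∈ (P : Subgroup G) :=
        hc x (Subgroup.mem_sup_right (Subgroup.mem_zpowers x))
      have hs' : c * s * c⁻¹ ∈ (P : Subgroup G) :=
        hc s (Subgroup.mem_sup_left (Subgroup.mem_zpowers s))
      have hnorm : (⟨c * s * c⁻¹, hs'⟩ : P) ∈ Subgroup.normalizer
          ((Subgroup.zpowers (⟨c * x * c⁻¹, hx'⟩ : P) : Subgroup P) : Set P) := by
        rw [Subgroup.mem_normalizer_iff]
        intro w
        rw [mem_zpowers_coe, mem_zpowers_coe]
        show (w : G) ∈ Subgroup.zpowers (c * x * c⁻¹) ↔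
          (c * s * c⁻¹) * (w : G) * (c * s * c⁻¹)⁻¹ ∈ Subgroup.zpowers (c * x * c⁻¹)
        have key : ∀ v : G, v ∈ Subgroup.zpowers (c * x * c⁻¹) ↔ c⁻¹ * v * c ∈ Subgroup.zpowers x := by
          intro v
          rw [Subgroup.mem_zpowers_iff, Subgroup.mem_zpowers_iff]
          constructor
          · rintro ⟨i, hi⟩
            refine ⟨i, ?_⟩
            rw [← hi, conj_zpow]; group
          · rintro ⟨i, hi⟩
            refine ⟨i, ?_⟩
            rw [conj_zpow, hi]; group
        rw [key, key]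
        have h1 := Subgroup.mem_normalizer_iff.mp hsN (c⁻¹ * (w : G) * c)
        have e : c⁻¹ * (c * s * c⁻¹ * (w : G) * (c * s * c⁻¹)⁻¹) * c = s * (c⁻¹ * (w : G) * c) * s⁻¹ := by
          group
        rw [e]
        exact h1
      have hcent := h ⟨c * x * c⁻¹, hx'⟩ hnorm
      rw [Subgroup.mem_centralizer_iff] at hcent
      have h2 := congrArg Subtype.val (hcent _ (Set.mem_singleton _))
      have h3 : (c * x * c⁻¹) * (c * s * c⁻¹) = (c * s * c⁻¹) * (c * x * c⁻¹) := h2
      calc s * x = c⁻¹ * ((c * s * c⁻¹) * (c * x * c⁻¹)) * c := by group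
        _ = c⁻¹ * ((c * x * c⁻¹) * (c * s * c⁻¹)) * c := by rw [h3]
        _ = x * s := by group
    rw [Subgroup.mem_centralizer_iff]
    intro z hz
    rw [Set.mem_singleton_iff] at hz
    subst hz
    rw [hgts]
    calc z * (t * s) = (z * t) * s := by group
      _ = (t * z) * s := by rw [htx]
      _ = t * (z * s) := by group
      _ = t * (s * z) := by rw [hsx]
      _ = t * s * z := by group

end Cfsg.Agent.S4028
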