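import Cfsg.Statements.S4029
import Mathlib
import Cfsg.Agent.Lib.Helper14.FrattiniQuot

set_option autoImplicit false
open Cfsg

namespace Cfsg.Agent.S4029

open scoped BigOperators

/-- key consequence of `N(<u>) = C(u)`: elements with equal squares differ by an involution
commuting with them. -/
theorem key {P : Type*} [Group P]
    (hirr : ∀ y : P, Subgroup.normalizer ((Subgroup.zpowers y : Subgroup P) : Set P) ≤
      Subgroup.centralizer {y})
    (x y : P) (h : x ^ 2 = y ^ 2) : (x * y⁻¹) ^ 2 = 1 ∧ (x * y⁻¹) * y = y * (x * y⁻¹) := by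
  obtain ⟨u, hu⟩ : ∃ u, u = x * y⁻¹ := ⟨_, rfl⟩
  rw [← hu]
  have hconj : x * u * x⁻¹ = u⁻¹ := by
    have h1 : x * u * x⁻¹ = x ^ 2 * y⁻¹ * x⁻¹ := by rw [hu, pow_two]; group
    rw [h1, h, hu, pow_two]; group
  have hconj' : x⁻¹ * u * x = u⁻¹ := by
    have h2 : u = x⁻¹ * u⁻¹ * x := by rw [← hconj]; group
    calc x⁻¹ * u * x = (x⁻¹ * u⁻¹ * x)⁻¹ := by group
      _ = u⁻¹ := by rw [← h2]
  have hx : x ∈ Subgroup.normalizer ((Subgroup.zpowers u : Subgroup P) : Set P) := by
    rw [Subgroup.mem_normalizer_iff]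
    intro h'
    constructor
    · intro hh
      obtain ⟨k, rfl⟩ := Subgroup.mem_zpowers_iff.1 hh
      rw [← conj_zpow, hconj]
      exact Subgroup.zpow_mem _ (Subgroup.inv_mem _ (Subgroup.mem_zpowers u)) k
    · intro hh
      obtain ⟨k, hk⟩ := Subgroup.mem_zpowers_iff.1 hh
      have h3 : h' = (x⁻¹ * u * x) ^ k := by
        have e : x⁻¹ * u * x = x⁻¹ * u * x⁻¹⁻¹ := by rw [inv_inv]
        rw [e, conj_zpow, hk]; group
      rw [h3, hconj']
      exact Subgroup.zpow_mem _ (Subgroup.inv_mem _ (Subgroup.mem_zpowers u)) k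
  have hc := hirr u hx
  have hcomm : u * x = x * u := Subgroup.mem_centralizer_iff.1 hc u rfl
  have hinv : u⁻¹ = u := by
    rw [← hconj, ← hcomm]; group
  have hsq : u ^ 2 = 1 := by
    rw [pow_two]
    nth_rewrite 1 [← hinv]
    group
  refine ⟨hsq, ?_⟩
  have hy : y = u⁻¹ * x := by rw [hu]; group
  calc u * y = u * (u⁻¹ * x) := by rw [← hy]
    _ = u⁻¹ * (u * x) := by group
    _ = u⁻¹ * (x * u) := by rw [hcomm]
    _ = (u⁻¹ * x) * u := by group
    _ = y * u := by rw [← hy]

/-- the set of elements of square one, as a sub-action of conjugation -/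
def invSub (P : Type*) [Group P] : SubMulAction (ConjAct P) P where
  carrier := {e | e ^ 2 = 1}
  smul_mem' := by
    intro g e he
    simp only [Set.mem_setOf_eq] at he ⊢
    rw [ConjAct.smul_def, conj_pow, he, mul_one, mul_inv_cancel]

theorem mem_invSub {P : Type*} [Group P] (e : P) : e ∈ invSub P ↔ e ^ 2 = 1 := Iff.rfl

theorem fiber_le {P : Type*} [Group P] [Fintype P] [DecidableEq P]
    (hirr : ∀ y : P, Subgroup.normalizer ((Subgroup.zpowers y : Subgroup P) : Set P) ≤
      Subgroup.centralizer {y}) (x : P) :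
    (Finset.univ.filter (fun z : P => z ^ 2 = x ^ 2)).card ≤
      Nat.card (MulAction.fixedBy ↥(invSub P) (ConjAct.toConjAct x)) := by
  rw [← Nat.subtype_card (p := fun z : P => z ^ 2 = x ^ 2) _ (by simp)]
  have hfix : ∀ z : {z : P // z ^ 2 = x ^ 2},
      (⟨z.1 * x⁻¹, (key hirr z.1 x z.2).1⟩ : ↥(invSub P)) ∈
        MulAction.fixedBy ↥(invSub P) (ConjAct.toConjAct x) := by
    intro z
    rw [MulAction.mem_fixedBy]
    apply Subtype.ext
    rw [SubMulAction.val_smul, ConjAct.smul_def, ConjAct.ofConjAct_toConjAct]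
    have h2 := (key hirr z.1 x z.2).2
    show x * (z.1 * x⁻¹) * x⁻¹ = z.1 * x⁻¹
    rw [← h2]; group
  apply Nat.card_le_card_of_injective
    (fun z : {z : P // z ^ 2 = x ^ 2} =>
      (⟨⟨z.1 * x⁻¹, (key hirr z.1 x z.2).1⟩, hfix z⟩ :
        MulAction.fixedBy ↥(invSub P) (ConjAct.toConjAct x)))
  intro z z' hzz'
  have h1 : z.1 * x⁻¹ = z'.1 * x⁻¹ := by
    have := congrArg (fun w => ((w : MulAction.fixedBy ↥(invSub P) (ConjAct.toConjAct x)) : ↥(invSub P)).1) hzz'
    exact this
  exact Subtype.ext (mul_right_cancel h1)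

theorem fiber_le' {P : Type*} [Group P] [Fintype P] [DecidableEq P]
    (hirr : ∀ y : P, Subgroup.normalizer ((Subgroup.zpowers y : Subgroup P) : Set P) ≤
      Subgroup.centralizer {y}) (x : P) :
    (Finset.univ.filter (fun z : P => z ^ 2 = x ^ 2)).card ≤ Nat.card ↥(invSub P) := by
  refine (fiber_le hirr x).trans ?_
  exact Nat.card_le_card_of_injective (fun w => w.1) Subtype.val_injective

theorem orbits_le {P : Type*} [Group P] [Finite P] :
    Nat.card (Quotient (MulAction.orbitRel (ConjAct P) ↥(invSub P))) ≤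
      Nat.card {c : ConjClasses P // ∃ y : P, ConjClasses.mk y = c ∧ orderOf y = 2} + 1 := by
  classical
  haveI : Fact (Nat.Prime 2) := ⟨Nat.prime_two⟩
  rw [← Finite.card_option]
  have hpow : ∀ y : P, orderOf y = 2 → y ^ 2 = 1 := fun y hy => by rw [← hy]; exact pow_orderOf_eq_one y
  let g : Option {c : ConjClasses P // ∃ y : P, ConjClasses.mk y = c ∧ orderOf y = 2} →
      Quotient (MulAction.orbitRel (ConjAct P) ↥(invSub P)) := fun o =>
    match o with
    | none => Quotient.mk _ ⟨1, one_pow 2⟩
    | some t => Quotient.mk _ ⟨t.2.choose, hpow _ t.2.choose_spec.2⟩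
  apply Nat.card_le_card_of_surjective g
  intro o
  induction o using Quotient.inductionOn with
  | h e =>
    by_cases he : e.1 = 1
    · refine ⟨none, ?_⟩
      show Quotient.mk _ (⟨1, one_pow 2⟩ : ↥(invSub P)) = Quotient.mk _ e
      congr 1
      exact Subtype.ext he.symm
    · have hord : orderOf e.1 = 2 := orderOf_eq_prime e.2 he
      let t : {c : ConjClasses P // ∃ y : P, ConjClasses.mk y = c ∧ orderOf y = 2} :=
        ⟨ConjClasses.mk e.1, e.1, rfl, hord⟩
      refine ⟨some t, ?_⟩
      show Quotient.mk _ (⟨t.2.choose, hpow _ t.2.choose_spec.2⟩ : ↥(invSub P)) = Quotient.mk _ e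
      have hspec := t.2.choose_spec.1
      obtain ⟨c, hc⟩ := isConj_iff.1 (ConjClasses.mk_eq_mk_iff_isConj.1 hspec)
      symm
      apply Quotient.sound
      show (MulAction.orbitRel (ConjAct P) ↥(invSub P)) e _
      rw [MulAction.orbitRel_apply]
      refine ⟨ConjAct.toConjAct c, ?_⟩
      apply Subtype.ext
      rw [SubMulAction.val_smul, ConjAct.smul_def, ConjAct.ofConjAct_toConjAct]
      exact hc

theorem pairs_le {P : Type*} [Group P] [Fintype P] [DecidableEq P]
    (hirr : ∀ y : P, Subgroup.normalizer ((Subgroup.zpowers y : Subgroup P) : Set P) ≤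
      Subgroup.centralizer {y}) :
    ∑ x : P, (Finset.univ.filter (fun z : P => z ^ 2 = x ^ 2)).card ≤
      (Nat.card {c : ConjClasses P // ∃ y : P, ConjClasses.mk y = c ∧ orderOf y = 2} + 1) *
        Fintype.card P := by
  classical
  haveI : ∀ g : ConjAct P, Fintype (MulAction.fixedBy ↥(invSub P) g) := fun g => Fintype.ofFinite _
  haveI : Fintype (Quotient (MulAction.orbitRel (ConjAct P) ↥(invSub P))) := Fintype.ofFinite _
  have hB := MulAction.sum_card_fixedBy_eq_card_orbits_mul_card_group (ConjAct P) ↥(invSub P)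
  have h1 : ∑ x : P, (Finset.univ.filter (fun z : P => z ^ 2 = x ^ 2)).card ≤
      ∑ x : P, Fintype.card (MulAction.fixedBy ↥(invSub P) (ConjAct.toConjAct x)) := by
    apply Finset.sum_le_sum
    intro x _
    rw [← Nat.card_eq_fintype_card]
    exact fiber_le hirr x
  have h2 : ∑ x : P, Fintype.card (MulAction.fixedBy ↥(invSub P) (ConjAct.toConjAct x)) =
      ∑ g : ConjAct P, Fintype.card (MulAction.fixedBy ↥(invSub P) g) :=
    Equiv.sum_comp (ConjAct.toConjAct (G := P)).toEquiv
      (fun g : ConjAct P => Fintype.card (MulAction.fixedBy ↥(invSub P) g))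
  rw [h2, hB, ConjAct.card] at h1
  refine h1.trans ?_
  apply Nat.mul_le_mul_right
  rw [← Nat.card_eq_fintype_card]
  exact orbits_le


/-- Let P be a finite 2-group in which N_P(⟨y⟩) = C_P(y) for every y ∈ P. If s is the number of conjugacy classes of involutions of P, then #(P/Φ(P)) ≤ s + 1; in particular the subgroup generated by the involutions of P has order at least #(P/Φ(P)). -/
theorem result {P : Type*} [Group P] [Finite P] (hP : IsPGroup 2 P)
    (hirr : ∀ y : P, Subgroup.normalizer ((Subgroup.zpowers y : Subgroup P) : Set P) ≤ Subgroup.centralizer {y}) :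
    Nat.card (P ⧸ frattini P) ≤ Nat.card {c : ConjClasses P // ∃ y : P, ConjClasses.mk y = c ∧ orderOf y = 2} + 1 ∧
    Nat.card (P ⧸ frattini P) ≤ Nat.card (Subgroup.closure {y : P | orderOf y = 2}) := by
  classical
  haveI : Fintype P := Fintype.ofFinite P
  haveI : Fact (Nat.Prime 2) := ⟨Nat.prime_two⟩
  have hsqF : ∀ x : P, x ^ 2 ∈ frattini P :=
    fun x => Cfsg.Agent.Lib.Helper14.pow_mem_frattini_of_isPGroup' hP x
  -- the squares
  have hSqcard : (Finset.univ.image (fun x : P => x ^ 2)).card ≤ Nat.card (frattini P) := by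
    have h1 : Nat.card {z : P // z ∈ frattini P} =
        (Finset.univ.filter (fun z : P => z ∈ frattini P)).card :=
      Nat.subtype_card _ (by simp)
    have h2 : Nat.card (frattini P) = Nat.card {z : P // z ∈ frattini P} := rfl
    rw [h2, h1]
    apply Finset.card_le_card
    intro z hz
    obtain ⟨x, _, rfl⟩ := Finset.mem_image.1 hz
    simp [hsqF x]
  have hLag := Subgroup.card_eq_card_quotient_mul_card_subgroup (frattini P)
  have hΦpos : 0 < Nat.card (frattini P) := Nat.card_pos
  have hPcard : Nat.card P = Fintype.card P := Nat.card_eq_fintype_card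
  constructor
  · -- Cauchy–Schwarz
    have hsum : ∑ s ∈ Finset.univ.image (fun x : P => x ^ 2),
        (Finset.univ.filter (fun z : P => z ^ 2 = s)).card = Fintype.card P := by
      rw [← Finset.card_univ (α := P)]
      exact (Finset.card_eq_sum_card_image (fun x : P => x ^ 2) Finset.univ).symm
    have hCS := sq_sum_le_card_mul_sum_sq (s := Finset.univ.image (fun x : P => x ^ 2))
      (f := fun s => (Finset.univ.filter (fun z : P => z ^ 2 = s)).card)
    rw [hsum] at hCS
    have hsq : ∑ s ∈ Finset.univ.image (fun x : P => x ^ 2),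
        (Finset.univ.filter (fun z : P => z ^ 2 = s)).card ^ 2 =
        ∑ x : P, (Finset.univ.filter (fun z : P => z ^ 2 = x ^ 2)).card := by
      rw [← Finset.sum_fiberwise_of_maps_to (s := Finset.univ)
        (t := Finset.univ.image (fun x : P => x ^ 2)) (g := fun x : P => x ^ 2)
        (fun x _ => Finset.mem_image_of_mem _ (Finset.mem_univ x))]
      apply Finset.sum_congr rfl
      intro s _
      rw [pow_two, ← smul_eq_mul, ← Finset.sum_const]
      apply Finset.sum_congr rfl
      intro x hx
      rw [(Finset.mem_filter.1 hx).2]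
    rw [hsq] at hCS
    have hpairs := pairs_le hirr
    -- |P|^2 ≤ |Sq| * ((s+1) * |P|)
    have h3 : Fintype.card P ^ 2 ≤ (Finset.univ.image (fun x : P => x ^ 2)).card *
        ((Nat.card {c : ConjClasses P // ∃ y : P, ConjClasses.mk y = c ∧ orderOf y = 2} + 1) *
          Fintype.card P) := by
      have := hCS.trans (Nat.mul_le_mul_left _ hpairs)
      simpa using this
    have hPpos : 0 < Fintype.card P := Fintype.card_pos
    have h4 : Fintype.card P ≤ (Finset.univ.image (fun x : P => x ^ 2)).card *
        (Nat.card {c : ConjClasses P // ∃ y : P, ConjClasses.mk y = c ∧ orderOf y = 2} + 1) := by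
      apply Nat.le_of_mul_le_mul_right _ hPpos
      calc Fintype.card P * Fintype.card P = Fintype.card P ^ 2 := (pow_two _).symm
        _ ≤ _ := h3
        _ = _ := by ring
    have h5 : Nat.card (P ⧸ frattini P) * Nat.card (frattini P) ≤
        (Nat.card {c : ConjClasses P // ∃ y : P, ConjClasses.mk y = c ∧ orderOf y = 2} + 1) *
          Nat.card (frattini P) := by
      rw [← hLag, hPcard]
      refine h4.trans ?_
      rw [mul_comm]
      exact Nat.mul_le_mul_left _ hSqcard
    exact Nat.le_of_mul_le_mul_right h5 hΦpos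
  · -- fibres of the squaring map have size at most the number of involutions + 1
    have h1 : Fintype.card P ≤ Nat.card ↥(invSub P) * (Finset.univ.image (fun x : P => x ^ 2)).card := by
      rw [← Finset.card_univ (α := P)]
      apply Finset.card_le_mul_card_image
      intro s hs
      obtain ⟨x, _, rfl⟩ := Finset.mem_image.1 hs
      exact fiber_le' hirr x
    have h2 : Nat.card ↥(invSub P) ≤ Nat.card (Subgroup.closure {y : P | orderOf y = 2}) := by
      apply Nat.card_le_card_of_injective
        (fun e : ↥(invSub P) => (⟨e.1, by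
          by_cases he : e.1 = 1
          · rw [he]; exact Subgroup.one_mem _
          · exact Subgroup.subset_closure (orderOf_eq_prime e.2 he)⟩ :
            Subgroup.closure {y : P | orderOf y = 2}))
      intro e e' hee'
      exact Subtype.ext (congrArg (fun w : Subgroup.closure {y : P | orderOf y = 2} => w.1) hee')
    have h5 : Nat.card (P ⧸ frattini P) * Nat.card (frattini P) ≤
        Nat.card (Subgroup.closure {y : P | orderOf y = 2}) * Nat.card (frattini P) := by
      rw [← hLag, hPcard]
      refine h1.trans ?_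
      exact Nat.mul_le_mul h2 hSqcard
    exact Nat.le_of_mul_le_mul_right h5 hΦpos

end Cfsg.Agent.S4029
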