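import Cfsg.Statements.S4032
import Cfsg.Agent.Lib.Helper13.Coprime
import Mathlib

set_option autoImplicit false
open Cfsg
open scoped Pointwise
open Cfsg.Agent.Lib.Helper13

namespace Cfsg.Agent.S4032

/-- A `π`-element of `G ⧸ N` lifts to a `π`-element of `G`. -/
theorem exists_lift {G : Type*} [Group G] [Finite G] (π : Set ℕ) (N : Subgroup G) [N.Normal]
    (y : G ⧸ N) (hy : ∀ r : ℕ, r.Prime → r ∣ orderOf y → r ∈ π) :
    ∃ x : G, (x : G ⧸ N) = y ∧ ∀ r : ℕ, r.Prime → r ∣ orderOf x → r ∈ π := by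
  classical
  have hne : {x : G | (x : G ⧸ N) = y}.Nonempty := by
    obtain ⟨x, hx⟩ := QuotientGroup.mk_surjective y
    exact ⟨x, hx⟩
  obtain ⟨x, hx, hmin⟩ := Set.exists_min_image _ orderOf (Set.toFinite _) hne
  refine ⟨x, hx, ?_⟩
  intro r hr hrx
  by_contra hrπ
  have hry : ¬ r ∣ orderOf y := fun h => hrπ (hy r hr h)
  have hcop : Nat.Coprime r (orderOf y) := (Nat.Prime.coprime_iff_not_dvd hr).mpr hry
  obtain ⟨c, hc⟩ := exists_pow_eq_self_of_coprime hcop
  have hmem : (x ^ r) ^ c ∈ {x : G | (x : G ⧸ N) = y} := by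
    show (((x ^ r) ^ c : G) : G ⧸ N) = y
    rw [QuotientGroup.mk_pow, QuotientGroup.mk_pow, hx, hc]
  have h1 := hmin _ hmem
  have h2 : orderOf ((x ^ r) ^ c) ∣ orderOf (x ^ r) := orderOf_pow_dvd c
  have h3 : orderOf (x ^ r) = orderOf x / r := by
    rw [orderOf_pow' x hr.ne_zero, Nat.gcd_eq_right hrx]
  have h4 : orderOf x / r < orderOf x := Nat.div_lt_self (orderOf_pos x) hr.one_lt
  have h5 : 0 < orderOf (x ^ r) := orderOf_pos _
  have h6 := Nat.le_of_dvd h5 h2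
  omega

theorem result {G : Type*} [Group G] [Finite G] (π : Set ℕ)
    (hirr : ∀ x : G, (∀ r : ℕ, r.Prime → r ∣ orderOf x → r ∈ π) →
      Subgroup.normalizer ((Subgroup.zpowers x : Subgroup G) : Set G) ≤ Subgroup.centralizer {x})
    (N : Subgroup G) [N.Normal] (hN : ∀ r : ℕ, r.Prime → r ∣ Nat.card N → r ∉ π) :
    ∀ y : G ⧸ N, (∀ r : ℕ, r.Prime → r ∣ orderOf y → r ∈ π) →
      Subgroup.normalizer ((Subgroup.zpowers y : Subgroup (G ⧸ N)) : Set (G ⧸ N)) ≤ Subgroup.centralizer {y} := by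
  intro ybar hybar gbar hgbar
  have hNn : N.Normal := inferInstance
  obtain ⟨y, hy, hyπ⟩ := exists_lift π N ybar hybar
  obtain ⟨g, rfl⟩ := QuotientGroup.mk_surjective gbar
  subst hy
  -- g y g⁻¹ ∈ N ⊔ zpowers y
  have hconj : g * y * g⁻¹ ∈ N ⊔ Subgroup.zpowers y := by
    have h1 : (g : G ⧸ N) * (y : G ⧸ N) * (g : G ⧸ N)⁻¹ ∈ Subgroup.zpowers (y : G ⧸ N) :=
      (Subgroup.mem_normalizer_iff.mp hgbar _).mp (Subgroup.mem_zpowers _)
    obtain ⟨j, hj⟩ := Subgroup.mem_zpowers_iff.mp h1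
    have h2 : ((y ^ j : G) : G ⧸ N) = ((g * y * g⁻¹ : G) : G ⧸ N) := by
      rw [QuotientGroup.mk_zpow, hj]
      simp
    rw [QuotientGroup.eq] at h2
    have e : g * y * g⁻¹ = ((y ^ j) * ((y ^ j)⁻¹ * (g * y * g⁻¹)) * (y ^ j)⁻¹) * (y ^ j) := by
      group
    rw [e]
    apply Subgroup.mul_mem_sup
    · exact hNn.conj_mem _ h2 _
    · exact Subgroup.zpow_mem _ (Subgroup.mem_zpowers y) j
  have hB : MulAut.conj g • Subgroup.zpowers y ≤ N ⊔ Subgroup.zpowers y := by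
    intro x hx
    rw [mem_cj] at hx
    obtain ⟨j, hj⟩ := Subgroup.mem_zpowers_iff.mp hx
    have e : x = (g * y * g⁻¹) ^ j := by
      have : x = g * (g⁻¹ * x * g) * g⁻¹ := by group
      rw [this, ← hj]
      simp [conj_zpow]
    rw [e]
    exact Subgroup.zpow_mem _ hconj j
  have hAN : Subgroup.zpowers y ≤ Subgroup.normalizer (N : Set G) := by
    rw [Subgroup.normalizer_eq_top_iff.mpr hNn]; exact le_top
  have hcop : (Nat.card N).Coprime (Nat.card (Subgroup.zpowers y)) := by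
    apply Nat.coprime_of_dvd
    intro r hr h1 h2
    rw [Nat.card_zpowers] at h2
    exact hN r hr h1 (hyπ r hr h2)
  have hsolv : Group.IsSolvable N ∨ Group.IsSolvable (Subgroup.zpowers y) := by
    right
    infer_instance
  obtain ⟨n, hn, hnA⟩ := rel_sz_conj N (Subgroup.zpowers y) (MulAut.conj g • Subgroup.zpowers y)
    hAN hB (card_cj _ _) hcop hsolv
  have hnorm : n⁻¹ * g ∈ Subgroup.normalizer ((Subgroup.zpowers y : Subgroup G) : Set G) := by
    rw [← cj_eq_self_iff_mem_normalizer, cj_mul, ← hnA, ← cj_mul, inv_mul_cancel, cj_one]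
  have hcent := hirr y hyπ hnorm
  rw [Subgroup.mem_centralizer_iff] at hcent ⊢
  intro z hz
  rw [Set.mem_singleton_iff] at hz
  subst hz
  have h1 := hcent y (Set.mem_singleton y)
  have h2 := congrArg (fun t : G => (t : G ⧸ N)) h1
  simp only [QuotientGroup.mk_mul, QuotientGroup.mk_inv] at h2
  have h3 : (n : G ⧸ N) = 1 := (QuotientGroup.eq_one_iff n).mpr hn
  rw [h3, inv_one, one_mul] at h2
  exact h2

end Cfsg.Agent.S4032
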