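import Cfsg.Statements.S4035
import Cfsg.Agent.Lib.Helper9.ClassSize
import Cfsg.Agent.Lib.Helper14.ConjUnion
import Cfsg.Agent.S0060
import Mathlib

set_option autoImplicit false
open Cfsg

namespace Cfsg.Agent.S4035

variable {G : Type*} [Group G] [Finite G] {p : ℕ} [Fact p.Prime]

/-- If `p ∤ |x^G|` then some conjugate of `P` centralizes `x`. -/
theorem exists_conj_centralizes (P : Sylow p G) (x : G)
    (hx : ¬ p ∣ (ConjClasses.mk x).carrier.ncard) :
    ∃ g : G, ∀ y ∈ (P : Subgroup G), (g * y * g⁻¹) * x = x * (g * y * g⁻¹) := by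
  set C := Subgroup.centralizer ({x} : Set G) with hC
  have hidx : C.index = (ConjClasses.mk x).carrier.ncard := by
    have h1 := Cfsg.Agent.Lib.Helper9.card_carrier_mul_card_centralizer x
    have h2 := C.card_mul_index
    rw [Nat.card_coe_set_eq] at h1
    have hpos : 0 < Nat.card C := Nat.card_pos
    apply Nat.eq_of_mul_eq_mul_left hpos
    rw [h2, mul_comm, h1]
  have hnd : ¬ p ∣ Nat.card (G ⧸ C) := by
    rw [← Subgroup.index_eq_card, hidx]; exact hx
  obtain ⟨q, hq⟩ := P.2.nonempty_fixed_point_of_prime_not_dvd_card (G ⧸ C) hnd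
  obtain ⟨g, rfl⟩ := QuotientGroup.mk_surjective q
  refine ⟨g⁻¹, ?_⟩
  intro y hy
  have hfix : (⟨y, hy⟩ : P) • (g : G ⧸ C) = (g : G ⧸ C) := hq ⟨y, hy⟩
  have hmem : g⁻¹ * y * g ∈ C := by
    have h1 : ((y * g : G) : G ⧸ C) = (g : G ⧸ C) := hfix
    rw [QuotientGroup.eq] at h1
    have := C.inv_mem h1
    simpa [mul_assoc] using this
  rw [hC, Subgroup.mem_centralizer_iff] at hmem
  have := hmem x (Set.mem_singleton x)
  rw [inv_inv]; exact this.symm

/-- Decomposition of an element into commuting `p'`- and `p`-parts. -/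
theorem exists_parts (y : G) : ∃ x u : G, y = x * u ∧ x * u = u * x ∧ (orderOf x).Coprime p ∧
    ∃ k : ℕ, orderOf u = p ^ k := by
  have hp : p.Prime := Fact.out
  obtain ⟨k, m, hm, hkm⟩ := Nat.exists_eq_pow_mul_and_not_dvd (orderOf_pos y).ne' p hp.ne_one
  have hcop : Nat.Coprime (p ^ k) m :=
    Nat.Coprime.pow_left _ ((Nat.Prime.coprime_iff_not_dvd hp).mpr hm)
  have hb : (1 : ℤ) = (p ^ k : ℕ) * Nat.gcdA (p ^ k) m + m * Nat.gcdB (p ^ k) m := by
    have := Nat.gcd_eq_gcd_ab (p ^ k) m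
    rw [hcop.gcd_eq_one] at this
    simpa using this
  refine ⟨y ^ ((p ^ k : ℕ) * Nat.gcdA (p ^ k) m), y ^ ((m : ℤ) * Nat.gcdB (p ^ k) m), ?_, ?_, ?_, ?_⟩
  · rw [← zpow_add, ← hb, zpow_one]
  · rw [← zpow_add, ← zpow_add, add_comm]
  · have h1 : (y ^ ((p ^ k : ℕ) * Nat.gcdA (p ^ k) m)) ^ m = 1 := by
      rw [← zpow_natCast, ← zpow_mul]
      have : ((p ^ k : ℕ) : ℤ) * Nat.gcdA (p ^ k) m * (m : ℤ) =
          ((orderOf y : ℕ) : ℤ) * Nat.gcdA (p ^ k) m := by
        rw [hkm]; push_cast; ring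
      rw [this, zpow_mul, zpow_natCast, pow_orderOf_eq_one, one_zpow]
    have h2 : orderOf (y ^ ((p ^ k : ℕ) * Nat.gcdA (p ^ k) m)) ∣ m := orderOf_dvd_of_pow_eq_one h1
    exact Nat.Coprime.coprime_dvd_left h2 ((Nat.Prime.coprime_iff_not_dvd hp).mpr hm).symm
  · have h1 : (y ^ ((m : ℤ) * Nat.gcdB (p ^ k) m)) ^ (p ^ k) = 1 := by
      rw [← zpow_natCast, ← zpow_mul]
      have : (m : ℤ) * Nat.gcdB (p ^ k) m * ((p ^ k : ℕ) : ℤ) =
          ((orderOf y : ℕ) : ℤ) * Nat.gcdB (p ^ k) m := by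
        rw [hkm]; push_cast; ring
      rw [this, zpow_mul, zpow_natCast, pow_orderOf_eq_one, one_zpow]
    have h2 : orderOf (y ^ ((m : ℤ) * Nat.gcdB (p ^ k) m)) ∣ p ^ k := orderOf_dvd_of_pow_eq_one h1
    obtain ⟨j, -, hj⟩ := (Nat.dvd_prime_pow hp).mp h2
    exact ⟨j, hj⟩

omit [Finite G] in
theorem conj_pow_succ (a v : G) (j : ℕ) :
    a ^ (j + 1) * v * (a ^ (j + 1))⁻¹ = a * (a ^ j * v * (a ^ j)⁻¹) * a⁻¹ := by
  rw [pow_succ']; group

theorem result {G : Type*} [Group G] [Finite G] {p : ℕ} [Fact p.Prime]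
    (h : ∀ x : G, (orderOf x).Coprime p → ¬ p ∣ (ConjClasses.mk x).carrier.ncard) (P : Sylow p G) :
    (P : Subgroup G).Normal ∧ ∃ H : Subgroup G, H.Normal ∧ ¬ p ∣ Nat.card H ∧
      (P : Subgroup G) ⊓ H = ⊥ ∧ (P : Subgroup G) ⊔ H = ⊤ := by
  classical
  have hp : p.Prime := Fact.out
  set C := Subgroup.centralizer ((P : Subgroup G) : Set G) with hC
  -- every element is conjugate into P ⊔ C
  have hcover : ∀ y : G, ∃ t : G, t⁻¹ * y * t ∈ (P : Subgroup G) ⊔ C := by
    intro y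
    obtain ⟨x, u, hy, hxu, hxcop, k, huk⟩ := exists_parts (p := p) y
    obtain ⟨g, hg⟩ := exists_conj_centralizes P x (h x hxcop)
    set S : Sylow p G := g • P with hS
    have hSC : (S : Subgroup G) ≤ Subgroup.centralizer ({x} : Set G) := by
      intro s hs
      rw [Cfsg.Agent.S0060.mem_sylow_smul] at hs
      rw [Subgroup.mem_centralizer_iff]
      intro x' hx'
      rw [Set.mem_singleton_iff] at hx'
      subst hx'
      have := hg _ hs
      have e : g * (g⁻¹ * s * g) * g⁻¹ = s := by group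
      rw [e] at this
      exact this.symm
    have hAC : Subgroup.zpowers u ≤ Subgroup.centralizer ({x} : Set G) := by
      rw [Subgroup.zpowers_le, Subgroup.mem_centralizer_iff]
      intro x' hx'
      rw [Set.mem_singleton_iff] at hx'
      subst hx'
      exact hxu
    have hA : IsPGroup p (Subgroup.zpowers u) := by
      apply IsPGroup.of_card (n := k)
      rw [Nat.card_zpowers, huk]
    obtain ⟨n, hn, hnA⟩ := Cfsg.Agent.S0060.exists_conj_le S _ _ hSC hAC hA
    have hnx : x * n = n * x := by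
      rw [Subgroup.mem_centralizer_iff] at hn
      exact hn x (Set.mem_singleton x)
    refine ⟨n * g, ?_⟩
    have hu' : (n * g)⁻¹ * u * (n * g) ∈ (P : Subgroup G) := by
      have := hnA u (Subgroup.mem_zpowers u)
      rw [Cfsg.Agent.S0060.mem_sylow_smul] at this
      have e : (n * g)⁻¹ * u * (n * g) = g⁻¹ * (n⁻¹ * u * n) * g := by group
      rw [e]; exact this
    have hx' : (n * g)⁻¹ * x * (n * g) ∈ C := by
      rw [hC, Subgroup.mem_centralizer_iff]
      intro w hw
      have h1 := hg w hw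
      -- x commutes with g w g⁻¹ and with n
      have hninv : x * n⁻¹ = n⁻¹ * x := by
        calc x * n⁻¹ = n⁻¹ * (n * x) * n⁻¹ := by group
          _ = n⁻¹ * (x * n) * n⁻¹ := by rw [hnx]
          _ = n⁻¹ * x := by group
      calc w * ((n * g)⁻¹ * x * (n * g))
          = g⁻¹ * ((g * w * g⁻¹) * (n⁻¹ * x) * n) * g := by group
        _ = g⁻¹ * ((g * w * g⁻¹) * (x * n⁻¹) * n) * g := by rw [hninv]
        _ = g⁻¹ * ((g * w * g⁻¹ * x) * n⁻¹ * n) * g := by group
        _ = g⁻¹ * ((x * (g * w * g⁻¹)) * n⁻¹ * n) * g := by rw [h1]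
        _ = g⁻¹ * (x * n⁻¹ * n * (g * w * g⁻¹)) * g := by group
        _ = g⁻¹ * (n⁻¹ * x * n * (g * w * g⁻¹)) * g := by rw [hninv]
        _ = (n * g)⁻¹ * x * (n * g) * w := by group
    have e : (n * g)⁻¹ * y * (n * g) = ((n * g)⁻¹ * x * (n * g)) * ((n * g)⁻¹ * u * (n * g)) := by
      rw [hy]; group
    rw [e]
    exact Subgroup.mul_mem _ (Subgroup.mem_sup_right hx') (Subgroup.mem_sup_left hu')
  have hLtop : (P : Subgroup G) ⊔ C = ⊤ := by
    by_contra hne
    obtain ⟨g, hg⟩ := Cfsg.Agent.Lib.Helper14.exists_not_mem_conj _ hne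
    obtain ⟨t, ht⟩ := hcover g
    exact hg t ht
  have hPn : (P : Subgroup G).Normal := by
    rw [← Subgroup.normalizer_eq_top_iff, eq_top_iff, ← hLtop]
    exact sup_le Subgroup.le_normalizer (Subgroup.centralizer_le_normalizer _)
  refine ⟨hPn, ?_⟩
  haveI := hPn
  -- Schur–Zassenhaus complement
  have hcopr : (Nat.card (P : Subgroup G)).Coprime (P : Subgroup G).index := by
    obtain ⟨n, hn⟩ := IsPGroup.iff_card.mp P.2
    rw [hn]
    exact Nat.Coprime.pow_left _ ((Nat.Prime.coprime_iff_not_dvd hp).mpr P.not_dvd_index)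
  obtain ⟨H, hH⟩ := Subgroup.exists_right_complement'_of_coprime hcopr
  have hHcard : Nat.card H = (P : Subgroup G).index := hH.symm.index_eq_card.symm
  have hHp : ¬ p ∣ Nat.card H := by rw [hHcard]; exact P.not_dvd_index
  -- H centralizes P
  have hHC : H ≤ C := by
    intro a ha
    have hatop : a ∈ (P : Subgroup G) ⊔ C := by rw [hLtop]; trivial
    rw [Subgroup.mem_sup_of_normal_left] at hatop
    obtain ⟨w, hw, c, hc, rfl⟩ := hatop
    have hcc : ∀ v ∈ (P : Subgroup G), c * v * c⁻¹ = v := by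
      intro v hv
      rw [hC, Subgroup.mem_centralizer_iff] at hc
      rw [← hc v hv]; group
    have hconj : ∀ v ∈ (P : Subgroup G), (w * c) * v * (w * c)⁻¹ = w * v * w⁻¹ := by
      intro v hv
      have e : (w * c) * v * (w * c)⁻¹ = w * (c * v * c⁻¹) * w⁻¹ := by group
      rw [e, hcc v hv]
    have hpow : ∀ j : ℕ, ∀ v ∈ (P : Subgroup G),
        (w * c) ^ j * v * ((w * c) ^ j)⁻¹ = w ^ j * v * (w ^ j)⁻¹ := by
      intro j
      induction j with
      | zero => intro v _; simp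
      | succ j ih =>
        intro v hv
        have hv' : w ^ j * v * (w ^ j)⁻¹ ∈ (P : Subgroup G) :=
          hPn.conj_mem v hv (w ^ j)
        rw [conj_pow_succ (w * c) v j, ih v hv, hconj _ hv', conj_pow_succ w v j]
    -- order considerations
    have hwo : ∃ e : ℕ, orderOf w = p ^ e := by
      obtain ⟨e, he⟩ := (IsPGroup.iff_orderOf.mp P.2) ⟨w, hw⟩
      exact ⟨e, by rw [← he, Subgroup.orderOf_mk]⟩
    obtain ⟨e, he⟩ := hwo
    have hao : (orderOf (w * c)).Coprime p := by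
      have h1 : orderOf (w * c) ∣ Nat.card H := by
        have := orderOf_dvd_natCard (⟨w * c, ha⟩ : H)
        rwa [Subgroup.orderOf_mk] at this
      exact Nat.Coprime.coprime_dvd_left h1 ((Nat.Prime.coprime_iff_not_dvd hp).mpr hHp).symm
    have hcop2 : Nat.Coprime (p ^ e) (orderOf (w * c)) := (Nat.Coprime.pow_right e hao).symm
    obtain ⟨m, hm⟩ := exists_pow_eq_self_of_coprime hcop2
    have hcent : (w * c) ^ (p ^ e) ∈ C := by
      rw [hC, Subgroup.mem_centralizer_iff]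
      intro v hv
      have h1 := hpow (p ^ e) v hv
      rw [← he, pow_orderOf_eq_one] at h1
      rw [he] at h1
      have h2 : (w * c) ^ (p ^ e) * v * ((w * c) ^ (p ^ e))⁻¹ = v := by
        rw [h1]; group
      calc v * (w * c) ^ (p ^ e)
          = ((w * c) ^ (p ^ e) * v * ((w * c) ^ (p ^ e))⁻¹) * (w * c) ^ (p ^ e) := by rw [h2]
        _ = (w * c) ^ (p ^ e) * v := by group
    rw [← hm]
    exact C.pow_mem hcent m
  have hHn : H.Normal := by
    rw [← Subgroup.normalizer_eq_top_iff, eq_top_iff, ← hH.sup_eq_top]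
    apply sup_le _ Subgroup.le_normalizer
    -- P centralizes H
    refine le_trans ?_ (Subgroup.centralizer_le_normalizer _)
    intro v hv
    rw [Subgroup.mem_centralizer_iff]
    intro a ha
    have := hHC ha
    rw [hC, Subgroup.mem_centralizer_iff] at this
    exact (this v hv).symm
  exact ⟨H, hHn, hHp, hH.disjoint.eq_bot, hH.sup_eq_top⟩

end Cfsg.Agent.S4035
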