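import Cfsg.Statements.S4036
import Mathlib

set_option autoImplicit false
open Cfsg

namespace Cfsg.Agent.S4036

theorem result {P : Type*} [CommGroup P] [Finite P] {p : ℕ}
    [Fact p.Prime] (hP : IsPGroup p P) (K : Subgroup (MulAut P)) (hK : p ∣ Nat.card K)
    (hfix : ∀ x y : MulAut P, x ∈ K → y ∈ K → x ≠ 1 → y ≠ 1 → ∀ v : P, x v = v ↔ y v = v) :
    ∀ N : Subgroup ↥K, N.Normal → ¬ p ∣ Nat.card N → N = ⊥ := by
  classical
  intro N hNn hNp
  by_contra hNne
  have hp : p.Prime := Fact.out
  haveI : Fintype N := Fintype.ofFinite N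
  set m := Nat.card N with hm
  have hmp : Nat.Coprime m p := ((Nat.Prime.coprime_iff_not_dvd hp).mpr hNp).symm
  let π : P →* P := ∏ n : N, (((n : K) : MulAut P)).toMonoidHom
  have hπ : ∀ v, π v = ∏ n : N, ((n : K) : MulAut P) v := fun v => by
    simp only [π, MonoidHom.finsetProd_apply]
    rfl
  have hπfix : ∀ (n₀ : N) (v : P), ((n₀ : K) : MulAut P) (π v) = π v := by
    intro n₀ v
    rw [hπ, map_prod]
    exact Fintype.prod_equiv (Equiv.mulLeft n₀) _ _ (fun n => rfl)
  have hπpow : ∀ v : P, (∀ n : N, ((n : K) : MulAut P) v = v) → π v = v ^ m := by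
    intro v hv
    rw [hπ]
    simp_rw [hv]
    rw [Finset.prod_const, Finset.card_univ, hm, Nat.card_eq_fintype_card]
  have hπeq : ∀ (x : K) (v : P), π ((x : MulAut P) v) = (x : MulAut P) (π v) := by
    intro x v
    rw [hπ, hπ, map_prod]
    let e : N ≃ N :=
      { toFun := fun n => ⟨x⁻¹ * n * x, by
          have := hNn.conj_mem n n.2 x⁻¹
          simpa using this⟩
        invFun := fun n => ⟨x * n * x⁻¹, hNn.conj_mem n n.2 x⟩
        left_inv := fun n => by
          apply Subtype.ext
          simp [mul_assoc]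
        right_inv := fun n => by
          apply Subtype.ext
          simp [mul_assoc] }
    have hrw : ∀ n : N, ((n : K) : MulAut P) ((x : MulAut P) v) =
        (x : MulAut P) ((((e n : N) : K) : MulAut P) v) := by
      intro n
      have h1 : ((n : K) : MulAut P) * (x : MulAut P) = (x : MulAut P) * (((e n : N) : K) : MulAut P) := by
        have h2 : (n : K) * x = x * ((e n : N) : K) := by
          show (n : K) * x = x * (x⁻¹ * n * x)
          group
        have := congrArg (fun k : K => (k : MulAut P)) h2
        simpa using this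
      have := congrArg (fun φ : MulAut P => φ v) h1
      simpa [MulAut.mul_apply] using this
    simp_rw [hrw]
    exact Fintype.prod_equiv e _ _ (fun n => rfl)
  -- orders of elements of P are p-powers, hence coprime to m
  have hcopv : ∀ v : P, Nat.Coprime m (orderOf v) := by
    intro v
    obtain ⟨k, hk⟩ := (IsPGroup.iff_orderOf.mp hP) v
    rw [hk]
    exact Nat.Coprime.pow_right k hmp
  have hpow1 : ∀ v : P, v ^ m = 1 → v = 1 := by
    intro v hv
    have h1 : orderOf v ∣ m := orderOf_dvd_of_pow_eq_one hv
    have h2 : orderOf v = 1 := Nat.eq_one_of_dvd_coprimes (hcopv v) h1 dvd_rfl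
    exact orderOf_eq_one_iff.mp h2
  -- the kernel of π is nontrivial
  have hW : π.ker ≠ ⊥ := by
    intro hker
    have hinj : Function.Injective π := (MonoidHom.ker_eq_bot_iff π).mp hker
    have hall : ∀ (v : P) (n : N), ((n : K) : MulAut P) v = v := by
      intro v n
      have h1 : π (π v) = π (v ^ m) := by
        rw [hπpow (π v) (fun n => hπfix n v), map_pow]
      have h2 : π v = v ^ m := hinj h1
      have h3 : ((n : K) : MulAut P) (v ^ m) = v ^ m := by rw [← h2]; exact hπfix n v
      obtain ⟨j, hj⟩ := exists_pow_eq_self_of_coprime (hcopv v)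
      rw [← hj, map_pow, h3]
    apply hNne
    rw [eq_bot_iff]
    intro n hn
    rw [Subgroup.mem_bot]
    apply Subtype.ext
    apply MulEquiv.ext
    intro v
    exact hall v ⟨n, hn⟩
  -- an element of order p in K
  obtain ⟨x, hx⟩ := exists_prime_orderOf_dvd_card' p hK
  have hx1 : (x : MulAut P) ≠ 1 := by
    intro h
    have : x = 1 := Subtype.ext h
    rw [this, orderOf_one] at hx
    exact hp.one_lt.ne hx
  have hxp : (x : MulAut P) ^ p = 1 := by
    have := pow_orderOf_eq_one x
    rw [hx] at this
    have h2 := congrArg (fun k : K => (k : MulAut P)) this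
    simpa using h2
  haveI : Fintype π.ker := Fintype.ofFinite _
  let f : Function.End π.ker := fun w => ⟨(x : MulAut P) w, by
    rw [MonoidHom.mem_ker, hπeq x w, (MonoidHom.mem_ker).mp w.2, map_one]⟩
  have hfpow : ∀ j : ℕ, ∀ w : π.ker, ((f ^ j) w : P) = ((x : MulAut P) ^ j) w := by
    intro j
    induction j with
    | zero => intro w; rfl
    | succ j ih =>
      intro w
      rw [pow_succ', pow_succ']
      show (x : MulAut P) ((f ^ j) w : P) = _
      rw [ih w]
      rfl
  have hf : f ^ p ^ 1 = 1 := by
    funext w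
    apply Subtype.ext
    rw [pow_one, hfpow, hxp]
    rfl
  have hmod := Equiv.Perm.card_fixedPoints_modEq (p := p) (n := 1) hf
  have hpW : p ∣ Fintype.card π.ker := by
    rw [← Nat.card_eq_fintype_card]
    have hWp : IsPGroup p π.ker := hP.to_subgroup _
    rcases hWp.card_eq_or_dvd with h1 | h1
    · exfalso
      apply hW
      exact Subgroup.card_eq_one.mp h1
    · exact h1
  have hpfix : p ∣ Fintype.card (Function.fixedPoints f) := (hmod.dvd_iff dvd_rfl).mp hpW
  have hone : (1 : π.ker) ∈ Function.fixedPoints f := by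
    show f 1 = 1
    apply Subtype.ext
    show (x : MulAut P) 1 = 1
    exact map_one _
  have hcard : 1 < Fintype.card (Function.fixedPoints f) := by
    have hpos : 0 < Fintype.card (Function.fixedPoints f) := Fintype.card_pos_iff.mpr ⟨⟨1, hone⟩⟩
    have := Nat.le_of_dvd hpos hpfix
    have := hp.two_le
    omega
  obtain ⟨w, hw⟩ := Fintype.exists_ne_of_one_lt_card hcard ⟨1, hone⟩
  have hw1 : ((w : π.ker) : P) ≠ 1 := by
    intro h
    apply hw
    apply Subtype.ext
    apply Subtype.ext
    exact h
  have hxw : (x : MulAut P) ((w : π.ker) : P) = ((w : π.ker) : P) := by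
    have := w.2
    exact congrArg Subtype.val this
  have hNfix : ∀ n : N, ((n : K) : MulAut P) ((w : π.ker) : P) = ((w : π.ker) : P) := by
    intro n
    by_cases hn1 : ((n : K) : MulAut P) = 1
    · rw [hn1]; rfl
    · exact (hfix _ _ x.2 (n : K).2 hx1 hn1 _).mp hxw
  have h1 := hπpow _ hNfix
  rw [(MonoidHom.mem_ker).mp (w : π.ker).2] at h1
  exact hw1 (hpow1 _ h1.symm)

end Cfsg.Agent.S4036
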