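import Cfsg.Statements.S4039
import Cfsg.Agent.Lib.Helper24.NilMax

set_option autoImplicit false
open Cfsg

namespace Cfsg.Agent.S4039

/-- A finite group possessing a maximal subgroup that is nilpotent of class at most 2 is solvable. -/
theorem result {G : Type*} [Group G] [Finite G]
    (M : Subgroup G) (hmax : IsCoatom M) (hnil : Group.IsNilpotent M) (hcl : Group.nilpotencyClass ↥M ≤ 2) :
    Group.IsSolvable G := by
  have hΦ : ∀ a ∈ M, ∀ b ∈ M, ∀ c ∈ M,
      (a * b * a⁻¹ * b⁻¹) * c = c * (a * b * a⁻¹ * b⁻¹) := by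
    intro a ha b hb c hc
    have h1 : Subgroup.upperCentralSeries M 2 = ⊤ :=
      Subgroup.upperCentralSeries_eq_top_iff_nilpotencyClass_le.mpr hcl
    have h2 : (⟨a, ha⟩ : M) ∈ Subgroup.upperCentralSeries M (1 + 1) := h1 ▸ Subgroup.mem_top _
    rw [Subgroup.mem_upperCentralSeries_succ_iff] at h2
    have h3 := h2 ⟨b, hb⟩
    rw [Subgroup.upperCentralSeries_one, Subgroup.mem_center_iff] at h3
    have h4 := h3 ⟨c, hc⟩
    exact (congrArg Subtype.val h4).symm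
  refine Cfsg.Agent.Lib.Helper24.isSolvable_of_coatom_aux
    (fun G _ M => ∀ a ∈ M, ∀ b ∈ M, ∀ c ∈ M,
      (a * b * a⁻¹ * b⁻¹) * c = c * (a * b * a⁻¹ * b⁻¹)) ?_ ?_ _ G rfl M hmax hnil hΦ
  · intro G _ _ M K _ _ h
    rintro _ ⟨a, ha, rfl⟩ _ ⟨b, hb, rfl⟩ _ ⟨c, hc, rfl⟩
    have := congrArg (QuotientGroup.mk' K) (h a ha b hb c hc)
    simpa using this
  · intro G _ _ M hnil hNP h p hp hpd
    haveI : Fact p.Prime := ⟨hp⟩
    exact Cfsg.Agent.Lib.Helper24.npc_of_normProp_class_two M hnil hNP h p hpd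

end Cfsg.Agent.S4039
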