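import Cfsg.Statements.S4040
import Cfsg.Agent.Lib.Helper24.NilMax

set_option autoImplicit false
open Cfsg

namespace Cfsg.Agent.S4040

/-- A finite group possessing a maximal subgroup that is nilpotent of odd order is solvable. -/
theorem result {G : Type*} [Group G] [Finite G]
    (M : Subgroup G) (hmax : IsCoatom M) (hnil : Group.IsNilpotent M) (hodd : Odd (Nat.card M)) :
    Group.IsSolvable G := by
  refine Cfsg.Agent.Lib.Helper24.isSolvable_of_coatom_aux
    (fun G _ M => Odd (Nat.card M)) ?_ ?_ _ G rfl M hmax hnil hodd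
  · intro G _ _ M K _ _ h
    exact Odd.of_dvd_nat h (Subgroup.card_map_dvd M _)
  · intro G _ _ M hnil hNP h p hp hpd
    haveI : Fact p.Prime := ⟨hp⟩
    exact Cfsg.Agent.Lib.Helper24.npc_of_normProp_odd M hnil hNP h p hpd

end Cfsg.Agent.S4040
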