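import Cfsg.Statements.S4043
import Cfsg.Agent.S0055
import Cfsg.Agent.Lib.Helper13.Coprime
import Cfsg.Agent.Lib.Helper13.SZBasic
import Mathlib

set_option autoImplicit false
open Cfsg

namespace Cfsg.Agent.S4043

open scoped Pointwise
open Cfsg.Agent.Lib.Helper13

theorem le_normalizer_of_conj_mem {G : Type*} [Group G] (S H : Subgroup G)
    (h : ∀ s ∈ S, ∀ x ∈ H, s * x * s⁻¹ ∈ H) : S ≤ Subgroup.normalizer (H : Set G) := by
  intro s hs
  rw [Subgroup.mem_normalizer_iff]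
  intro x
  constructor
  · intro hx; exact h s hs x hx
  · intro hx
    have h1 := h s⁻¹ (S.inv_mem hs) _ hx
    have h2 : s⁻¹ * (s * x * s⁻¹) * s⁻¹⁻¹ = x := by group
    rwa [h2] at h1

/-- fixed point lemma -/
theorem exists_fixed {G : Type*} [Group G] [Finite G] {p : ℕ} [Fact p.Prime] (R V : Subgroup G)
    (hR : IsPGroup p R) (hV : IsPGroup p V)
    (hRV : R ≤ Subgroup.normalizer (V : Set G)) (hVne : V ≠ ⊥) :
    ∃ v ∈ V, v ≠ 1 ∧ ∀ r ∈ R, r * v * r⁻¹ = v := by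
  letI : MulAction R V :=
    { smul := fun r v => Cfsg.Agent.S0055.cj R V hRV r v
      one_smul := fun v => by
        apply Subtype.ext
        show ((1 : R) : G) * v * ((1 : R) : G)⁻¹ = v
        simp
      mul_smul := fun a b v => (Cfsg.Agent.S0055.cj_mul R V hRV a b v).symm }
  have hp : p ∣ Nat.card V := by
    rcases hV.card_eq_or_dvd with h | h
    · exact absurd (Subgroup.card_eq_one.mp h) hVne
    · exact h
  have h1 : (1 : V) ∈ MulAction.fixedPoints R V := by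
    intro r
    show Cfsg.Agent.S0055.cj R V hRV r 1 = 1
    exact map_one _
  obtain ⟨b, hb, hb1⟩ := hR.exists_fixed_point_of_prime_dvd_card_of_fixed_point (α := V) hp h1
  refine ⟨b, b.2, ?_, ?_⟩
  · intro h
    exact hb1 (Subtype.ext h.symm)
  · intro r hr
    have h2 : Cfsg.Agent.S0055.cj R V hRV ⟨r, hr⟩ b = b := hb ⟨r, hr⟩
    exact congrArg Subtype.val h2

theorem result {G : Type*} [Group G] [Finite G] {p : ℕ}
    [Fact p.Prime] (N : Subgroup G) [N.Normal] (hN : IsPGroup p N) (A A₁ : Subgroup G)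
    (hA : A.IsComplement' N) (hA₁ : A₁.IsComplement' N)
    (hAp : Cfsg.HasNormalPComplement p A) (hA₁p : Cfsg.HasNormalPComplement p A₁)
    (hC : ∀ n : G, n ∈ N → (∀ a : G, a ∈ A → a * n * a⁻¹ = n) → n = 1)
    (hC₁ : ∀ n : G, n ∈ N → (∀ a : G, a ∈ A₁ → a * n * a⁻¹ = n) → n = 1) :
    ∃ n : G, n ∈ N ∧ A₁ = A.map (MulAut.conj n).toMonoidHom := by
  classical
  have hp : p.Prime := Fact.out
  obtain ⟨R, Q, hQn, hQc⟩ := hAp
  obtain ⟨R₁, Q₁, hQ₁n, hQ₁c⟩ := hA₁p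
  -- cardinalities
  have hAN := hA.card_mul_card
  have hA₁N := hA₁.card_mul_card
  have hAA₁ : Nat.card A = Nat.card A₁ :=
    Nat.eq_of_mul_eq_mul_right Nat.card_pos (hAN.trans hA₁N.symm)
  have hQR := hQc.card_mul_card
  have hQ₁R₁ := hQ₁c.card_mul_card
  have hQQ₁ : Nat.card Q = Nat.card Q₁ := by
    rw [R.card_eq_multiplicity] at hQR
    rw [R₁.card_eq_multiplicity, ← hAA₁] at hQ₁R₁
    exact Nat.eq_of_mul_eq_mul_right (pow_pos hp.pos _) (hQR.trans hQ₁R₁.symm)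
  have hpQ : ¬ p ∣ Nat.card Q := by
    have h1 : (R : Subgroup A).index = Nat.card Q := hQc.index_eq_card
    rw [← h1]; exact R.not_dvd_index
  obtain ⟨QG, hQG⟩ : ∃ X : Subgroup G, X = Q.map A.subtype := ⟨_, rfl⟩
  obtain ⟨Q₁G, hQ₁G⟩ : ∃ X : Subgroup G, X = Q₁.map A₁.subtype := ⟨_, rfl⟩
  have hQGcard : Nat.card QG = Nat.card Q := by
    rw [hQG]; exact Subgroup.card_map_of_injective A.subtype_injective
  have hQ₁Gcard : Nat.card Q₁G = Nat.card Q₁ := by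
    rw [hQ₁G]; exact Subgroup.card_map_of_injective A₁.subtype_injective
  obtain ⟨k, hk⟩ := IsPGroup.iff_card.mp hN
  have hcopNQ : (Nat.card N).Coprime (Nat.card QG) := by
    rw [hk, hQGcard]
    exact Nat.Coprime.pow_left k ((Nat.Prime.coprime_iff_not_dvd hp).mpr hpQ)
  have hQGA : QG ≤ A := by
    rw [hQG]; rintro _ ⟨q, _, rfl⟩; exact q.2
  have hQ₁GA₁ : Q₁G ≤ A₁ := by
    rw [hQ₁G]; rintro _ ⟨q, _, rfl⟩; exact q.2
  have hmemQG : ∀ x : G, x ∈ QG ↔ ∃ hx : x ∈ A, (⟨x, hx⟩ : A) ∈ Q := by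
    intro x
    rw [hQG]
    constructor
    · rintro ⟨q, hq, rfl⟩; exact ⟨q.2, hq⟩
    · rintro ⟨hx, hq⟩; exact ⟨⟨x, hx⟩, hq, rfl⟩
  have hmemQ₁G : ∀ x : G, x ∈ Q₁G ↔ ∃ hx : x ∈ A₁, (⟨x, hx⟩ : A₁) ∈ Q₁ := by
    intro x
    rw [hQ₁G]
    constructor
    · rintro ⟨q, hq, rfl⟩; exact ⟨q.2, hq⟩
    · rintro ⟨hx, hq⟩; exact ⟨⟨x, hx⟩, hq, rfl⟩
  -- A normalizes QG, A₁ normalizes Q₁G
  have hAnormQ : ∀ a ∈ A, ∀ x ∈ QG, a * x * a⁻¹ ∈ QG := by
    intro a ha x hx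
    obtain ⟨hxA, hxQ⟩ := (hmemQG x).mp hx
    rw [hmemQG]
    exact ⟨A.mul_mem (A.mul_mem ha hxA) (A.inv_mem ha), hQn.conj_mem _ hxQ ⟨a, ha⟩⟩
  have hA₁normQ₁ : ∀ a ∈ A₁, ∀ x ∈ Q₁G, a * x * a⁻¹ ∈ Q₁G := by
    intro a ha x hx
    obtain ⟨hxA, hxQ⟩ := (hmemQ₁G x).mp hx
    rw [hmemQ₁G]
    exact ⟨A₁.mul_mem (A₁.mul_mem ha hxA) (A₁.inv_mem ha), hQ₁n.conj_mem _ hxQ ⟨a, ha⟩⟩
  -- Step 2: Q₁G ≤ N ⊔ QG
  have hπA : Function.Surjective ((QuotientGroup.mk' N).comp A.subtype) := by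
    intro y
    obtain ⟨g, rfl⟩ := QuotientGroup.mk'_surjective N y
    obtain ⟨⟨a, m⟩, ham⟩ := hA.2 g
    have ham' : (a : G) * (m : G) = g := ham
    refine ⟨a, ?_⟩
    show QuotientGroup.mk' N (a : G) = QuotientGroup.mk' N g
    rw [← ham', map_mul]
    have : QuotientGroup.mk' N (m : G) = 1 := (QuotientGroup.eq_one_iff _).mpr m.2
    rw [this, mul_one]
  have hAN_bot : A ⊓ N = ⊥ := hA.disjoint.eq_bot
  have hker : ((QuotientGroup.mk' N).comp A.subtype).ker ≤ Q := by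
    intro x hx
    rw [MonoidHom.mem_ker] at hx
    have h1 : (x : G) ∈ N := (QuotientGroup.eq_one_iff _).mp hx
    have h2 : (x : G) ∈ A ⊓ N := ⟨x.2, h1⟩
    rw [hAN_bot, Subgroup.mem_bot] at h2
    have h3 : x = 1 := Subtype.ext h2
    rw [h3]; exact Q.one_mem
  obtain ⟨M, hM⟩ : ∃ M : Subgroup G, M = (Q.map ((QuotientGroup.mk' N).comp A.subtype)).comap
      (QuotientGroup.mk' N) := ⟨_, rfl⟩
  haveI hQmapn : (Q.map ((QuotientGroup.mk' N).comp A.subtype)).Normal := hQn.map _ hπA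
  haveI hMn : M.Normal := by rw [hM]; exact Subgroup.Normal.comap hQmapn _
  have hMidx : M.index = Nat.card (R : Subgroup A) := by
    rw [hM, Subgroup.index_comap_of_surjective _ (QuotientGroup.mk'_surjective N),
      Subgroup.index_map_eq _ hπA hker]
    exact hQc.symm.index_eq_card
  have hML : M ≤ N ⊔ QG := by
    intro x hx
    rw [hM] at hx
    obtain ⟨q, hq, hqx⟩ := hx
    have h1 : QuotientGroup.mk' N (q : G) = QuotientGroup.mk' N x := hqx
    have h2 : (q : G)⁻¹ * x ∈ N := QuotientGroup.eq.mp h1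
    have h3 : x = (q : G) * ((q : G)⁻¹ * x) := by group
    rw [h3]
    exact Subgroup.mul_mem _ (Subgroup.mem_sup_right ((hmemQG _).mpr ⟨q.2, hq⟩))
      (Subgroup.mem_sup_left h2)
  have hQ₁M : Q₁G ≤ M := by
    rw [← Subgroup.relIndex_eq_one]
    have h1 : M.relIndex Q₁G ∣ M.index := Subgroup.relIndex_dvd_index_of_normal M Q₁G
    have h2 : M.relIndex Q₁G ∣ Nat.card Q₁G := Subgroup.relIndex_dvd_card M Q₁G
    obtain ⟨j, hj⟩ := IsPGroup.iff_card.mp R.2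
    rw [hMidx, hj] at h1
    rw [hQ₁Gcard, ← hQQ₁] at h2
    have hcop : Nat.Coprime (p ^ j) (Nat.card Q) :=
      Nat.Coprime.pow_left j ((Nat.Prime.coprime_iff_not_dvd hp).mpr hpQ)
    exact Nat.eq_one_of_dvd_coprimes hcop h1 h2
  -- Step 3: Schur–Zassenhaus
  haveI := hN.isNilpotent
  have hnormN : QG ≤ Subgroup.normalizer (N : Set G) := by
    rw [Subgroup.normalizer_eq_top]; exact le_top
  obtain ⟨n, hnN, hn⟩ := rel_sz_conj N QG Q₁G hnormN (hQ₁M.trans hML)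
    (by rw [hQ₁Gcard, hQGcard, hQQ₁]) hcopNQ (Or.inl inferInstance)
  -- membership translation
  have hQ₁iff : ∀ z : G, z ∈ Q₁G ↔ n⁻¹ * z * n ∈ QG := by
    intro z; rw [← hn, mem_cj]
  -- Step 4: N₀ = ⊥
  have hN₀ : N ⊓ Subgroup.centralizer (QG : Set G) = ⊥ := by
    by_contra hne
    have hRGnorm : (R : Subgroup A).map A.subtype ≤
        Subgroup.normalizer ((N ⊓ Subgroup.centralizer (QG : Set G) : Subgroup G) : Set G) := by
      apply le_normalizer_of_conj_mem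
      rintro _ ⟨r, _, rfl⟩ z ⟨hzN, hzC⟩
      refine ⟨Subgroup.Normal.conj_mem inferInstance z hzN _, ?_⟩
      have hzC' : z ∈ Subgroup.centralizer (QG : Set G) := hzC
      show (r : G) * z * (r : G)⁻¹ ∈ Subgroup.centralizer (QG : Set G)
      rw [Subgroup.mem_centralizer_iff] at hzC' ⊢
      intro x hx
      have hx' : (r : G)⁻¹ * x * (r : G)⁻¹⁻¹ ∈ QG := hAnormQ _ (A.inv_mem r.2) x hx
      have h1 := hzC' _ hx'
      show x * ((r : G) * z * (r : G)⁻¹) = (r : G) * z * (r : G)⁻¹ * x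
      calc x * ((r : G) * z * (r : G)⁻¹)
          = (r : G) * (((r : G)⁻¹ * x * (r : G)⁻¹⁻¹) * z) * (r : G)⁻¹ := by group
        _ = (r : G) * (z * ((r : G)⁻¹ * x * (r : G)⁻¹⁻¹)) * (r : G)⁻¹ := by rw [h1]
        _ = (r : G) * z * (r : G)⁻¹ * x := by group
    obtain ⟨v, hv, hv1, hvfix⟩ := exists_fixed ((R : Subgroup A).map A.subtype)
      (N ⊓ Subgroup.centralizer (QG : Set G)) (R.2.map _) (hN.to_le inf_le_left) hRGnorm hne
    apply hv1
    apply hC v hv.1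
    intro a ha
    obtain ⟨⟨q, r⟩, hqr⟩ := hQc.2 ⟨a, ha⟩
    have hqr' : (q : A) * (r : A) = ⟨a, ha⟩ := hqr
    have ha' : a = ((q : A) : G) * ((r : A) : G) := by
      have := congrArg Subtype.val hqr'
      simpa using this.symm
    have hrfix : ((r : A) : G) * v * ((r : A) : G)⁻¹ = v :=
      hvfix _ ⟨(r : A), r.2, rfl⟩
    have hqG : ((q : A) : G) ∈ QG := (hmemQG _).mpr ⟨(q : A).2, q.2⟩
    have hvC : v ∈ Subgroup.centralizer (QG : Set G) := hv.2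
    rw [Subgroup.mem_centralizer_iff] at hvC
    have hqv := hvC _ hqG
    rw [ha']
    calc ((q : A) : G) * ((r : A) : G) * v * (((q : A) : G) * ((r : A) : G))⁻¹
        = ((q : A) : G) * (((r : A) : G) * v * ((r : A) : G)⁻¹) * ((q : A) : G)⁻¹ := by group
      _ = ((q : A) : G) * v * ((q : A) : G)⁻¹ := by rw [hrfix]
      _ = v * ((q : A) : G) * ((q : A) : G)⁻¹ := by rw [hqv]
      _ = v := by group
  -- Step 5
  have hNQbot : N ⊓ QG = ⊥ := (Subgroup.disjoint_of_coprime_natCard hcopNQ).eq_bot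
  have hle : MulAut.conj n⁻¹ • A₁ ≤ A := by
    intro y hy
    rw [mem_cj, inv_inv] at hy
    obtain ⟨⟨a, m⟩, ham⟩ := hA.2 y
    have ham' : (a : G) * (m : G) = y := ham
    -- y normalizes QG
    have hynorm : ∀ x ∈ QG, y * x * y⁻¹ ∈ QG ∧ y⁻¹ * x * y⁻¹⁻¹ ∈ QG := by
      intro x hx
      have hx₁ : n * x * n⁻¹ ∈ Q₁G := by
        rw [hQ₁iff]
        have : n⁻¹ * (n * x * n⁻¹) * n = x := by group
        rw [this]; exact hx
      constructor
      · have h1 := hA₁normQ₁ _ hy _ hx₁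
        rw [hQ₁iff] at h1
        have h2 : n⁻¹ * (n * y * n⁻¹ * (n * x * n⁻¹) * (n * y * n⁻¹)⁻¹) * n = y * x * y⁻¹ := by
          group
        rwa [h2] at h1
      · have h1 := hA₁normQ₁ _ (A₁.inv_mem hy) _ hx₁
        rw [hQ₁iff] at h1
        have h2 : n⁻¹ * ((n * y * n⁻¹)⁻¹ * (n * x * n⁻¹) * (n * y * n⁻¹)⁻¹⁻¹) * n =
            y⁻¹ * x * y⁻¹⁻¹ := by group
        rwa [h2] at h1
    have hm : (m : G) = (a : G)⁻¹ * y := by rw [← ham']; group
    have hmnorm : (m : G) ∈ Subgroup.normalizer (QG : Set G) := by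
      rw [Subgroup.mem_normalizer_iff]
      intro x
      constructor
      · intro hx
        rw [hm]
        have h1 := hAnormQ _ (A.inv_mem a.2) _ (hynorm x hx).1
        have h2 : (a : G)⁻¹ * (y * x * y⁻¹) * (a : G)⁻¹⁻¹ =
            (a : G)⁻¹ * y * x * ((a : G)⁻¹ * y)⁻¹ := by group
        rwa [h2] at h1
      · intro hx
        rw [hm] at hx
        have h1 := hAnormQ _ a.2 _ hx
        have h2 := (hynorm _ h1).2
        have h3 : y⁻¹ * ((a : G) * ((a : G)⁻¹ * y * x * ((a : G)⁻¹ * y)⁻¹) * (a : G)⁻¹) * y⁻¹⁻¹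
            = x := by group
        rwa [h3] at h2
    have hmC := mem_centralizer_of_mem_normalizer QG N hnormN hNQbot (m : G) m.2 hmnorm
    have hm1 : (m : G) ∈ N ⊓ Subgroup.centralizer (QG : Set G) := ⟨m.2, hmC⟩
    rw [hN₀, Subgroup.mem_bot] at hm1
    rw [← ham', hm1, mul_one]
    exact a.2
  have heq : MulAut.conj n⁻¹ • A₁ = A :=
    Subgroup.eq_of_le_of_card_ge hle (by rw [card_cj, hAA₁])
  refine ⟨n, hnN, ?_⟩
  have h1 : A₁ = MulAut.conj n • A := by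
    rw [← heq, map_inv, smul_inv_smul]
  rw [h1]
  rfl

end Cfsg.Agent.S4043
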