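import Cfsg.Statements.S4049
import Cfsg.Agent.Lib.Lead.TwoClosed

set_option autoImplicit false
open Cfsg

namespace Cfsg.Agent.S4049

open Subgroup

/-- Let G be a finite group such that N_G(H)/C_G(H) has odd order for every nontrivial subgroup H of odd order. Then the Sylow 2-subgroups of G are normal. -/
theorem result {G : Type*} [Group G] [Finite G]
    (hhom : ∀ H : Subgroup G, H ≠ ⊥ → ¬ 2 ∣ Nat.card ↥H →
        ¬ 2 ∣ (Subgroup.centralizer (H : Set G)).relIndex (Subgroup.normalizer (H : Set G))) (P : Sylow 2 G) :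
    (P : Subgroup G).Normal := by
  apply Cfsg.Agent.Lib.Lead.sylow_two_normal_of_noInvOdd
  intro g h hodd hinv
  by_contra hne
  have hinv' : g⁻¹ * h * g = h⁻¹ := by
    have : h = g⁻¹ * h⁻¹ * g := by rw [← hinv]; group
    calc g⁻¹ * h * g = (g⁻¹ * h⁻¹ * g)⁻¹ := by group
      _ = h⁻¹ := by rw [← this]
  set H : Subgroup G := zpowers h with hH
  have hHne : H ≠ ⊥ := by
    intro hbot
    apply hne
    have : h ∈ H := mem_zpowers h
    rw [hbot, Subgroup.mem_bot] at this
    exact this
  have hcard : ¬ 2 ∣ Nat.card ↥H := by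
    rw [hH, Nat.card_zpowers]
    intro h2
    exact (Nat.not_even_iff_odd.mpr hodd) (even_iff_two_dvd.mpr h2)
  have hgN : g ∈ normalizer ((H : Subgroup G) : Set G) := by
    rw [Subgroup.mem_normalizer_iff]
    intro z
    constructor
    · intro hz
      obtain ⟨k, rfl⟩ := Subgroup.mem_zpowers_iff.mp hz
      have : g * h ^ k * g⁻¹ = (h⁻¹) ^ k := by
        have := map_zpow (MulAut.conj g) h k
        simp only [MulAut.conj_apply] at this
        rw [this, hinv]
      rw [this]
      exact zpow_mem (inv_mem (mem_zpowers h)) k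
    · intro hz
      obtain ⟨k, hk⟩ := Subgroup.mem_zpowers_iff.mp hz
      have : z = (h⁻¹) ^ k := by
        have h1 : z = g⁻¹ * (g * z * g⁻¹) * g := by group
        rw [h1, ← hk]
        have := map_zpow (MulAut.conj g⁻¹) h k
        simp only [MulAut.conj_apply, inv_inv] at this
        rw [this, hinv']
      rw [this]
      exact zpow_mem (inv_mem (mem_zpowers h)) k
  -- g ∉ C(H)
  have hgC : g ∉ centralizer (H : Set G) := by
    intro hgC
    rw [Subgroup.mem_centralizer_iff] at hgC
    have hcomm : h * g = g * h := hgC h (mem_zpowers h)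
    have hh : h = h⁻¹ := by
      rw [← hinv, ← hcomm]; group
    have h2 : h ^ 2 = 1 := by
      rw [pow_two]; nth_rewrite 2 [hh]; exact mul_inv_cancel h
    have hd : orderOf h ∣ 2 := orderOf_dvd_of_pow_eq_one h2
    have hc : (orderOf h).Coprime 2 := Nat.coprime_two_right.mpr hodd
    have : orderOf h = 1 := Nat.eq_one_of_dvd_coprimes hc (dvd_refl _) hd
    exact hne (orderOf_eq_one_iff.mp this)
  -- g^2 ∈ C(H)
  have hg2C : g ^ 2 ∈ centralizer (H : Set G) := by
    rw [Subgroup.mem_centralizer_iff]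
    intro z hz
    obtain ⟨k, rfl⟩ := Subgroup.mem_zpowers_iff.mp hz
    have hc1 : g ^ 2 * h * (g ^ 2)⁻¹ = h := by
      have : g ^ 2 * h * (g ^ 2)⁻¹ = g * (g * h * g⁻¹) * g⁻¹ := by
        rw [pow_two, mul_inv_rev]; simp only [mul_assoc]
      rw [this, hinv]
      have : g * h⁻¹ * g⁻¹ = (g * h * g⁻¹)⁻¹ := by group
      rw [this, hinv, inv_inv]
    have hc2 : Commute (g ^ 2) h := by
      have : g ^ 2 * h = h * g ^ 2 := by
        calc g ^ 2 * h = (g ^ 2 * h * (g ^ 2)⁻¹) * g ^ 2 := by group
          _ = h * g ^ 2 := by rw [hc1]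
      exact this
    exact ((hc2.zpow_right k).eq).symm
  -- element of order 2 in N/C
  set N := normalizer (H : Set G) with hN
  set C := centralizer (H : Set G) with hC
  let gN : ↥N := ⟨g, hgN⟩
  have hgbar_ne : (QuotientGroup.mk' (C.subgroupOf N) gN) ≠ 1 := by
    intro h1
    rw [QuotientGroup.mk'_apply, QuotientGroup.eq_one_iff, Subgroup.mem_subgroupOf] at h1
    exact hgC h1
  have hgbar_sq : (QuotientGroup.mk' (C.subgroupOf N) gN) ^ 2 = 1 := by
    rw [← map_pow, QuotientGroup.mk'_apply, QuotientGroup.eq_one_iff, Subgroup.mem_subgroupOf]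
    exact hg2C
  have hord : orderOf (QuotientGroup.mk' (C.subgroupOf N) gN) = 2 :=
    orderOf_eq_prime hgbar_sq hgbar_ne
  have hdvd : 2 ∣ Nat.card (↥N ⧸ C.subgroupOf N) := by
    rw [← hord]; exact orderOf_dvd_natCard _
  apply hhom H hHne hcard
  rw [← hC, ← hN, Subgroup.relIndex, Subgroup.index_eq_card]
  exact hdvd

end Cfsg.Agent.S4049
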