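import Cfsg.Statements.S4051
import Mathlib
import Cfsg.Agent.Lib.Helper2.PiClosed

set_option autoImplicit false
open Cfsg

namespace Cfsg.Agent.S4051

open Cfsg.Agent.Lib.Helper2.PiClosed

/-- Let π be a set of primes and G a finite group such that N_G(H)/C_G(H) is a π'-group for every nontrivial π'-subgroup H of G. If K is a normal subgroup of G such that the π-elements of K form a subgroup and the π-elements of G/K form a subgroup, then the π-elements of G form a subgroup. -/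
theorem result {G : Type*} [Group G] [Finite G] (π : Set ℕ)
    (hπ : ∀ p ∈ π, p.Prime) (hhom : (∀ H : Subgroup G, H ≠ ⊥ → (∀ p : ℕ, p.Prime → p ∣ Nat.card ↥H → p ∉ π) →
        ∀ p : ℕ, p.Prime → p ∣ (Subgroup.centralizer (H : Set G)).relIndex (Subgroup.normalizer (H : Set G)) → p ∉ π))
    (K : Subgroup G) [K.Normal]
    (hK : ∃ L : Subgroup ↥K, ∀ x : ↥K, x ∈ L ↔ ∀ p : ℕ, p.Prime → p ∣ orderOf x → p ∈ π)
    (hQ : ∃ L : Subgroup (G ⧸ K), ∀ x : G ⧸ K, x ∈ L ↔ ∀ p : ℕ, p.Prime → p ∣ orderOf x → p ∈ π) :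
    (∃ K : Subgroup G, ∀ x : G, x ∈ K ↔ ∀ p : ℕ, p.Prime → p ∣ orderOf x → p ∈ π) := by
  show PiClosed π G
  have hG : Homog π G := homog_of_relIndex π hhom
  obtain ⟨R, hR⟩ := hQ
  obtain ⟨Q, hQ⟩ := hK
  obtain ⟨hQn, hQc, hQi⟩ := PiClosed.structure (π := π) Q hQ
  obtain ⟨Q₀, hQ₀⟩ : ∃ Q₀ : Subgroup G, Q₀ = Q.map K.subtype := ⟨_, rfl⟩
  have hmemQ₀ : ∀ g : G, g ∈ Q₀ ↔ g ∈ K ∧ PiNum π (orderOf g) := by
    intro g
    rw [hQ₀, Subgroup.mem_map]
    constructor
    · rintro ⟨z, hz, rfl⟩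
      refine ⟨z.2, ?_⟩
      have := (hQ z).mp hz
      rw [← Subgroup.orderOf_coe] at this
      exact this
    · rintro ⟨hgK, hg⟩
      refine ⟨⟨g, hgK⟩, (hQ _).mpr ?_, rfl⟩
      have e : orderOf (⟨g, hgK⟩ : K) = orderOf g := Subgroup.orderOf_mk _ _
      intro p hp hd
      rw [e] at hd
      exact hg p hp hd
  haveI hQ₀n : Q₀.Normal := by
    constructor
    intro x hx g
    rw [hmemQ₀] at hx ⊢
    refine ⟨‹K.Normal›.conj_mem x hx.1 g, ?_⟩
    have := MulEquiv.orderOf_eq (MulAut.conj g) x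
    rw [MulAut.conj_apply] at this
    rw [this]; exact hx.2
  have hQ₀c : PiNum π (Nat.card Q₀) := by rw [hQ₀, Subgroup.card_subtype]; exact hQc
  have hQ₀K : Q₀ ≤ K := by rw [hQ₀]; exact Subgroup.map_subtype_le _
  apply PiClosed.of_quot_pi Q₀ hQ₀c
  have hG1 : Homog π (G ⧸ Q₀) := Homog.quot Q₀ hQ₀c hG
  haveI hK1n : (K.map (QuotientGroup.mk' Q₀)).Normal :=
    Subgroup.Normal.map inferInstance _ (QuotientGroup.mk'_surjective _)
  have hK1c : PiNum πᶜ (Nat.card (K.map (QuotientGroup.mk' Q₀))) := by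
    have h1 : Nat.card (K.map (QuotientGroup.mk' Q₀)) = Q₀.relIndex K := by
      have := Subgroup.relIndex_comap (H := (⊥ : Subgroup (G ⧸ Q₀))) (QuotientGroup.mk' Q₀) K
      rw [MonoidHom.comap_bot, QuotientGroup.ker_mk', Subgroup.relIndex_bot_left] at this
      exact this.symm
    have h2 : Q₀.relIndex K = Q.index := by
      rw [hQ₀]
      unfold Subgroup.relIndex Subgroup.subgroupOf
      rw [Subgroup.comap_map_eq_self_of_injective (Subgroup.subtype_injective K)]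
    rw [h1, h2]; exact hQi
  apply PiClosed.of_quot_compl (K.map (QuotientGroup.mk' Q₀)) hK1c hG1
  exact PiClosed.of_mulEquiv (QuotientGroup.quotientQuotientEquivQuotient Q₀ K hQ₀K) ⟨R, hR⟩

end Cfsg.Agent.S4051
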