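-- Statement S4056: 2-groups of class at most 2 and exponent dividing 4.
import Cfsg.Statements.S4056

set_option autoImplicit false
open Cfsg

namespace Cfsg.Agent.S4056

open scoped commutatorElement

/-- A finite group of exponent dividing 2 has trivial Frattini subgroup. -/
theorem frattini_eq_bot_of_sq {Q : Type*} [Group Q] [Finite Q] (hsq : ∀ q : Q, q ^ 2 = 1) :
    frattini Q = ⊥ := by
  classical
  have hinv : ∀ q : Q, q⁻¹ = q := by
    intro q
    have := hsq q
    rw [pow_two] at this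
    exact inv_eq_of_mul_eq_one_left this
  have hcomm : ∀ a b : Q, a * b = b * a := by
    intro a b
    have h := hinv (a * b)
    rw [mul_inv_rev, hinv a, hinv b] at h
    exact h.symm
  let _ : CommGroup Q := { ‹Group Q› with mul_comm := hcomm }
  rw [Subgroup.eq_bot_iff_forall]
  intro x hx
  by_contra hx1
  -- a subgroup maximal with respect to not containing `x`
  have hbot : x ∉ (⊥ : Subgroup Q) := by simpa using hx1
  obtain ⟨M, -, hM⟩ := Finite.exists_le_maximal (p := fun K : Subgroup Q => x ∉ K) hbot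
  have hxM : x ∉ M := hM.1
  have hmax : ∀ K : Subgroup Q, M ≤ K → x ∉ K → K ≤ M := fun K hMK hK => hM.2 hK hMK
  have hco : IsCoatom M := by
    refine ⟨fun h => hxM (h ▸ Subgroup.mem_top x), ?_⟩
    intro K hMK
    have hxK : x ∈ K := by
      by_contra h
      exact (not_le_of_gt hMK) (hmax K hMK.le h)
    rw [eq_top_iff]
    intro y _
    by_cases hy : y ∈ M
    · exact hMK.le hy
    · have hx' : x ∈ M ⊔ Subgroup.zpowers y := by
        by_contra h
        have := hmax _ le_sup_left h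
        exact hy (this (le_sup_right (a := M) (Subgroup.mem_zpowers y)))
      obtain ⟨m, hm, z, hz, hmz⟩ := Subgroup.mem_sup.mp hx'
      obtain ⟨k, rfl⟩ := Subgroup.mem_zpowers_iff.mp hz
      rcases Int.even_or_odd k with hk | hk
      · exfalso
        obtain ⟨j, rfl⟩ := hk
        have : y ^ (j + j) = 1 := by
          rw [← two_mul, zpow_mul, zpow_ofNat, hsq, one_zpow]
        rw [this, mul_one] at hmz
        exact hxM (hmz ▸ hm)
      · obtain ⟨j, rfl⟩ := hk
        have : y ^ (2 * j + 1) = y := by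
          rw [zpow_add, zpow_mul, zpow_ofNat, hsq, one_zpow, one_mul, zpow_one]
        rw [this] at hmz
        have : y = m⁻¹ * x := by rw [← hmz]; group
        rw [this]
        exact K.mul_mem (K.inv_mem (hMK.le hm)) hxK
  exact hxM (frattini_le_coatom hco hx)

/-- The subgroup of central elements of order at most two. -/
def omegaCenter (P : Type*) [Group P] : Subgroup P where
  carrier := {z | z ∈ Subgroup.center P ∧ z ^ 2 = 1}
  one_mem' := ⟨Subgroup.one_mem _, one_pow _⟩
  mul_mem' := by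
    rintro a b ⟨ha, ha2⟩ ⟨hb, hb2⟩
    refine ⟨Subgroup.mul_mem _ ha hb, ?_⟩
    have hc : Commute a b := (Subgroup.mem_center_iff.mp hb a)
    rw [hc.mul_pow, ha2, hb2, one_mul]
  inv_mem' := by
    rintro a ⟨ha, ha2⟩
    exact ⟨Subgroup.inv_mem _ ha, by rw [inv_pow, ha2, inv_one]⟩

theorem omegaCenter_normal (P : Type*) [Group P] : (omegaCenter P).Normal := by
  refine ⟨fun n hn g => ?_⟩
  have : g * n * g⁻¹ = n := by
    rw [Subgroup.mem_center_iff.mp hn.1 g]; group
  rw [this]; exact hn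

theorem result {P : Type*} [Group P] [Finite P] (hP : IsPGroup 2 P)
    (hcl : Group.nilpotencyClass P ≤ 2) (hexp : Monoid.exponent P ∣ 4) :
    frattini P ≤ Subgroup.center P ∧ Cfsg.IsElementaryAbelian 2 (frattini P) := by
  classical
  have : Fact (Nat.Prime 2) := ⟨Nat.prime_two⟩
  have : Group.IsNilpotent P := hP.isNilpotent
  -- commutators are central
  have hcc : ∀ x y : P, x * y * x⁻¹ * y⁻¹ ∈ Subgroup.center P := by
    intro x y
    have h2 : Subgroup.upperCentralSeries P (1 + 1) = ⊤ :=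
      Subgroup.upperCentralSeries_eq_top_iff_nilpotencyClass_le.mpr hcl
    have hx : x ∈ Subgroup.upperCentralSeries P (1 + 1) := h2 ▸ Subgroup.mem_top x
    have := Subgroup.mem_upperCentralSeries_succ_iff.mp hx y
    rw [Subgroup.upperCentralSeries_one, commutatorElement_def] at this
    exact this
  have hx4 : ∀ x : P, x ^ 4 = 1 := by
    intro x
    obtain ⟨k, hk⟩ := hexp
    rw [hk, pow_mul, Monoid.pow_exponent_eq_one, one_pow]
  -- conjugating a square
  have hconj : ∀ x y : P, y * x ^ 2 * y⁻¹ = ((x * y * x⁻¹ * y⁻¹)⁻¹) ^ 2 * x ^ 2 := by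
    intro x y
    have hc : Commute ((x * y * x⁻¹ * y⁻¹)⁻¹) x :=
      (Subgroup.mem_center_iff.mp (Subgroup.inv_mem _ (hcc x y)) x).symm
    have e : y * x * y⁻¹ = (x * y * x⁻¹ * y⁻¹)⁻¹ * x := by group
    rw [← conj_pow, e, hc.mul_pow]
  -- commutators have order at most two
  have hc2 : ∀ x y : P, (x * y * x⁻¹ * y⁻¹) ^ 2 = 1 := by
    intro x y
    set c : P := x * y * x⁻¹ * y⁻¹ with hc
    have hcen : ∀ g : P, Commute c⁻¹ g := fun g =>
      (Subgroup.mem_center_iff.mp (Subgroup.inv_mem _ (hcc x y)) g).symm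
    have hc4 : (c⁻¹) ^ 2 * (c⁻¹) ^ 2 = 1 := by
      rw [← pow_add, inv_pow, hx4, inv_one]
    -- `y ^ 2` commutes with `x ^ 2`
    have h4 : y ^ 2 * x ^ 2 * (y ^ 2)⁻¹ = x ^ 2 := by
      have e : y ^ 2 * x ^ 2 * (y ^ 2)⁻¹ = y * (y * x ^ 2 * y⁻¹) * y⁻¹ := by
        rw [pow_two y]; group
      rw [e, hconj x y, ← hc]
      have hcy : Commute ((c⁻¹) ^ 2) y := (hcen y).pow_left 2
      calc y * (c⁻¹ ^ 2 * x ^ 2) * y⁻¹ = (y * c⁻¹ ^ 2) * x ^ 2 * y⁻¹ := by group
        _ = (c⁻¹ ^ 2 * y) * x ^ 2 * y⁻¹ := by rw [hcy.eq]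
        _ = c⁻¹ ^ 2 * (y * x ^ 2 * y⁻¹) := by group
        _ = c⁻¹ ^ 2 * (c⁻¹ ^ 2 * x ^ 2) := by rw [hconj x y, ← hc]
        _ = (c⁻¹ ^ 2 * c⁻¹ ^ 2) * x ^ 2 := by group
        _ = x ^ 2 := by rw [hc4, one_mul]
    have hxy2 : Commute (x ^ 2) (y ^ 2) := by
      unfold Commute SemiconjBy
      calc x ^ 2 * y ^ 2 = (y ^ 2 * x ^ 2 * (y ^ 2)⁻¹) * y ^ 2 := by rw [h4]
        _ = y ^ 2 * x ^ 2 := by group
    have h1 : y * x = c⁻¹ * (x * y) := by rw [hc]; group
    have h2 : (x * y) ^ 2 = c⁻¹ * (x ^ 2 * y ^ 2) := by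
      calc (x * y) ^ 2 = x * (y * x) * y := by rw [pow_two]; group
        _ = x * (c⁻¹ * (x * y)) * y := by rw [h1]
        _ = (x * c⁻¹) * x * y * y := by group
        _ = (c⁻¹ * x) * x * y * y := by rw [(hcen x).eq]
        _ = c⁻¹ * (x ^ 2 * y ^ 2) := by rw [pow_two, pow_two]; group
    have h3 : (x * y) ^ 4 = c⁻¹ ^ 2 := by
      have : (x * y) ^ 4 = ((x * y) ^ 2) ^ 2 := by rw [← pow_mul]
      rw [this, h2, (hcen _).mul_pow, hxy2.mul_pow, ← pow_mul, ← pow_mul, hx4, hx4, mul_one, mul_one]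
    rw [hx4, inv_pow] at h3
    exact inv_eq_one.mp h3.symm
  -- squares are central
  have hsqc : ∀ x : P, x ^ 2 ∈ Subgroup.center P := by
    intro x
    rw [Subgroup.mem_center_iff]
    intro y
    have := hconj x y
    rw [inv_pow, hc2, inv_one, one_mul] at this
    calc y * x ^ 2 = (y * x ^ 2 * y⁻¹) * y := by group
      _ = x ^ 2 * y := by rw [this]
  -- the quotient by `omegaCenter P` has exponent two
  have : (omegaCenter P).Normal := omegaCenter_normal P
  have hQ : ∀ q : P ⧸ omegaCenter P, q ^ 2 = 1 := by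
    intro q
    induction q using QuotientGroup.induction_on with
    | H x =>
      rw [← QuotientGroup.mk_pow, QuotientGroup.eq_one_iff]
      exact ⟨hsqc x, by rw [← pow_mul]; exact hx4 x⟩
  have hfr : frattini P ≤ omegaCenter P := by
    have h := frattini_le_comap_frattini_of_surjective (φ := QuotientGroup.mk' (omegaCenter P))
      (QuotientGroup.mk'_surjective _)
    rw [frattini_eq_bot_of_sq hQ, MonoidHom.comap_bot, QuotientGroup.ker_mk'] at h
    exact h
  refine ⟨fun z hz => (hfr hz).1, ?_, fun a ha => (hfr ha).2⟩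
  rw [isMulCommutative_iff]
  intro a b
  apply Subtype.ext
  exact (Subgroup.mem_center_iff.mp (hfr b.2).1 a.1)

end Cfsg.Agent.S4056
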