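-- Statement S4059: basic structure of ambivalent groups.
import Cfsg.Statements.S4059

set_option autoImplicit false
open Cfsg

namespace Cfsg.Agent.S4059

open scoped commutatorElement

/-- The subgroup of elements sending `x` to `x` or to `x⁻¹` under conjugation. -/
def extCentralizer {G : Type*} [Group G] (x : G) : Subgroup G where
  carrier := {g | g * x * g⁻¹ = x ∨ g * x * g⁻¹ = x⁻¹}
  one_mem' := by simp
  mul_mem' := by
    intro a b ha hb
    have e : (a * b) * x * (a * b)⁻¹ = a * (b * x * b⁻¹) * a⁻¹ := by group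
    have e' : a * x⁻¹ * a⁻¹ = (a * x * a⁻¹)⁻¹ := by group
    change _ ∨ _ at ha hb ⊢
    rw [e]
    rcases hb with hb | hb <;> rcases ha with ha | ha <;> rw [hb]
    · exact Or.inl ha
    · exact Or.inr ha
    · rw [e', ha]; exact Or.inr rfl
    · rw [e', ha, inv_inv]; exact Or.inl rfl
  inv_mem' := by
    intro a ha
    change _ ∨ _ at ha ⊢
    rcases ha with ha | ha
    · left
      calc a⁻¹ * x * a⁻¹⁻¹ = a⁻¹ * (a * x * a⁻¹) * a := by rw [ha, inv_inv]
        _ = x := by group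
    · right
      have : a * x⁻¹ * a⁻¹ = x := by
        have e' : a * x⁻¹ * a⁻¹ = (a * x * a⁻¹)⁻¹ := by group
        rw [e', ha, inv_inv]
      calc a⁻¹ * x * a⁻¹⁻¹ = a⁻¹ * (a * x⁻¹ * a⁻¹) * a := by rw [this, inv_inv]
        _ = x⁻¹ := by group

theorem part1 {G : Type*} [Group G] [Finite G] (hamb : ∀ x : G, IsConj x x⁻¹)
    (S : Sylow 2 G) (x : G) (hxS : x ∈ Subgroup.centralizer ((S : Subgroup G) : Set G)) (hx1 : x ≠ 1) :
    orderOf x = 2 := by
  have hxx : x = x⁻¹ := by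
    by_contra hne
    obtain ⟨g, hg⟩ := isConj_iff.mp (hamb x)
    set C : Subgroup G := Subgroup.centralizer ({x} : Set G) with hC
    set N : Subgroup G := extCentralizer x with hN
    have hSC : (S : Subgroup G) ≤ C := by
      intro s hs
      rw [hC, Subgroup.mem_centralizer_singleton_iff]
      exact (Subgroup.mem_centralizer_iff.mp hxS s hs)
    have hmemC : ∀ b : G, b ∈ C ↔ b * x * b⁻¹ = x := by
      intro b
      rw [hC, Subgroup.mem_centralizer_singleton_iff]
      constructor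
      · intro h; rw [h]; group
      · intro h
        calc b * x = b * x * b⁻¹ * b := by group
          _ = x * b := by rw [h]
    have hCN : C ≤ N := fun b hb => Or.inl ((hmemC b).mp hb)
    have hrel : C.relIndex N = 2 := by
      rw [Subgroup.relIndex_eq_two_iff]
      refine ⟨g, Or.inr hg, ?_⟩
      intro b hb
      have e : (b * g) * x * (b * g)⁻¹ = b * (g * x * g⁻¹) * b⁻¹ := by group
      have e' : b * x⁻¹ * b⁻¹ = (b * x * b⁻¹)⁻¹ := by group
      rcases hb with hb | hb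
      · refine Or.inr ⟨(hmemC b).mpr hb, ?_⟩
        rw [hmemC, e, hg, e', hb]
        exact fun h => hne h.symm
      · refine Or.inl ⟨?_, ?_⟩
        · rw [hmemC, e, hg, e', hb, inv_inv]
        · rw [hmemC, hb]
          exact fun h => hne h.symm
    have h2 : 2 ∣ C.index := by
      rw [← Subgroup.relIndex_mul_index hCN, hrel]
      exact dvd_mul_right 2 _
    have h3 : C.index ∣ (S : Subgroup G).index := Subgroup.index_dvd_of_le hSC
    exact S.not_dvd_index (h2.trans h3)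
  apply orderOf_eq_prime _ hx1
  calc x ^ 2 = x * x := pow_two x
    _ = x * x⁻¹ := by rw [← hxx]
    _ = 1 := mul_inv_cancel x

theorem part4 {G : Type*} [Group G] [Finite G] (hamb : ∀ x : G, IsConj x x⁻¹) :
    Subgroup.closure {x : G | ∃ k : ℕ, orderOf x = 2 ^ k} = ⊤ := by
  set T : Set G := {x : G | ∃ k : ℕ, orderOf x = 2 ^ k} with hT
  set N : Subgroup G := Subgroup.closure T with hN
  -- odd power trick: `x ^ m` is a 2-element for the odd part `m` of the order
  have hodd : ∀ y : G, ∃ m : ℕ, Odd m ∧ y ^ m ∈ T := by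
    intro y
    obtain ⟨k, m, hm, hkm⟩ := Nat.exists_eq_two_pow_mul_odd (orderOf_pos y).ne'
    refine ⟨m, hm, k, ?_⟩
    have hm0 : m ≠ 0 := by rintro rfl; exact (Nat.not_odd_iff_even.mpr (by decide)) hm
    rw [orderOf_pow_of_dvd hm0 ⟨2 ^ k, by rw [hkm, mul_comm]⟩, hkm,
      Nat.mul_div_cancel _ (Nat.pos_of_ne_zero hm0)]
  -- every square lies in `N`
  have hsq : ∀ x : G, x ^ 2 ∈ N := by
    intro x
    obtain ⟨g, hg⟩ := isConj_iff.mp (hamb x)
    obtain ⟨m, hm, hgm⟩ := hodd g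
    obtain ⟨j, rfl⟩ := hm
    -- `g ^ 2` commutes with `x⁻¹`
    have hg2 : Commute (g ^ 2) x⁻¹ := by
      have h1 : g * x⁻¹ * g⁻¹ = x := by
        have e' : g * x⁻¹ * g⁻¹ = (g * x * g⁻¹)⁻¹ := by group
        rw [e', hg, inv_inv]
      unfold Commute SemiconjBy
      calc g ^ 2 * x⁻¹ = g * (g * x⁻¹ * g⁻¹) * g := by rw [pow_two]; group
        _ = g * x * g := by rw [h1]
        _ = (g * x * g⁻¹) * g ^ 2 := by rw [pow_two]; group
        _ = x⁻¹ * g ^ 2 := by rw [hg]
    set h : G := g ^ (2 * j + 1) with hh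
    have hhx : h * x * h⁻¹ = x⁻¹ := by
      have hc : Commute ((g ^ 2) ^ j) x⁻¹ := hg2.pow_left j
      have e1 : h = (g ^ 2) ^ j * g := by rw [hh, pow_succ, pow_mul]
      calc h * x * h⁻¹ = (g ^ 2) ^ j * (g * x * g⁻¹) * ((g ^ 2) ^ j)⁻¹ := by rw [e1]; group
        _ = (g ^ 2) ^ j * x⁻¹ * ((g ^ 2) ^ j)⁻¹ := by rw [hg]
        _ = x⁻¹ * (g ^ 2) ^ j * ((g ^ 2) ^ j)⁻¹ := by rw [hc.eq]
        _ = x⁻¹ := by group
    have hconj : x * h * x⁻¹ ∈ T := by
      obtain ⟨k, hk⟩ := hgm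
      refine ⟨k, ?_⟩
      rw [← hk]
      have : x * h * x⁻¹ = MulAut.conj x h := by simp [MulAut.conj_apply]
      rw [this, MulEquiv.orderOf_eq]
    have e : x ^ 2 = (x * h * x⁻¹) * h⁻¹ := by
      have : h * x = x⁻¹ * h := by
        calc h * x = h * x * h⁻¹ * h := by group
          _ = x⁻¹ * h := by rw [hhx]
      calc x ^ 2 = x * (x⁻¹)⁻¹ := by rw [inv_inv, pow_two]
        _ = x * (h * x * h⁻¹)⁻¹ := by rw [hhx]
        _ = (x * h * x⁻¹) * h⁻¹ := by group
    rw [e]
    exact N.mul_mem (Subgroup.subset_closure hconj) (N.inv_mem (Subgroup.subset_closure hgm))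
  rw [eq_top_iff]
  intro x _
  obtain ⟨m, hm, hxm⟩ := hodd x
  obtain ⟨j, rfl⟩ := hm
  have e : x = x ^ (2 * j + 1) * ((x ^ 2) ^ j)⁻¹ := by
    rw [pow_succ, pow_mul]; group
  rw [e]
  exact N.mul_mem (Subgroup.subset_closure hxm) (N.inv_mem (N.pow_mem (hsq x) j))

theorem result {G : Type*} [Group G] [Finite G] (hamb : ∀ x : G, IsConj x x⁻¹) :
    (∀ (S : Sylow 2 G) (x : G), x ∈ Subgroup.centralizer ((S : Subgroup G) : Set G) → x ≠ 1 → orderOf x = 2) ∧
    (∀ z : G, z ∈ Subgroup.center G → z ^ 2 = 1) ∧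
    (∀ x : G, x ^ 2 ∈ commutator G) ∧
    Subgroup.closure {x : G | ∃ k : ℕ, orderOf x = 2 ^ k} = ⊤ := by
  refine ⟨fun S x hxS hx1 => part1 hamb S x hxS hx1, ?_, ?_, part4 hamb⟩
  · intro z hz
    obtain ⟨g, hg⟩ := isConj_iff.mp (hamb z)
    have h1 : g * z * g⁻¹ = z := by
      have := (Subgroup.mem_center_iff.mp hz g)
      rw [this]; group
    have h2 : z = z⁻¹ := h1.symm.trans hg
    calc z ^ 2 = z * z := pow_two z
      _ = z * z⁻¹ := by rw [← h2]
      _ = 1 := mul_inv_cancel z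
  · intro x
    obtain ⟨g, hg⟩ := isConj_iff.mp (hamb x)
    have e : x ^ 2 = ⁅x, g⁆ := by
      rw [commutatorElement_def]
      calc x ^ 2 = x * (x⁻¹)⁻¹ := by rw [inv_inv, pow_two]
        _ = x * (g * x * g⁻¹)⁻¹ := by rw [hg]
        _ = x * g * x⁻¹ * g⁻¹ := by group
    rw [e, commutator_def]
    exact Subgroup.commutator_mem_commutator (Subgroup.mem_top x) (Subgroup.mem_top g)

end Cfsg.Agent.S4059
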