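import Cfsg.Statements.S4060
import Cfsg.Agent.Lib.Helper13.Hall
import Cfsg.Agent.Lib.Lead.SylowConj

set_option autoImplicit false
open Cfsg

namespace Cfsg.Agent.S4060


theorem inv_conj_of_conj_inv {G : Type*} [Group G] {h x : G} (hh : h * x * h⁻¹ = x⁻¹) :
    h⁻¹ * x * h⁻¹⁻¹ = x⁻¹ := by
  have h1 : h * x⁻¹ * h⁻¹ = x := by
    have h2 : h * x⁻¹ * h⁻¹ = (h * x * h⁻¹)⁻¹ := by simp [mul_assoc]
    rw [h2, hh, inv_inv]
  calc h⁻¹ * x * h⁻¹⁻¹ = h⁻¹ * (h * x⁻¹ * h⁻¹) * h := by rw [h1, inv_inv]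
    _ = x⁻¹ := by simp [mul_assoc]
theorem main (n : ℕ) : ∀ {G : Type*} [Group G] [Finite G] [Group.IsSolvable G],
    Nat.card G = n → ∀ (S : Sylow 2 G) (x : G), x ≠ 1 → Odd (orderOf x) →
    x ∈ Subgroup.normalizer ((S : Subgroup G) : Set G) → ¬ IsConj x x⁻¹ := by
  induction n using Nat.strong_induction_on with
  | _ n ih =>
  intro G _ _ _ hn S x hx hodd hnorm hconj
  haveI : Nontrivial G := ⟨⟨x, 1, hx⟩⟩
  obtain ⟨p, N, hp, hNn, hNne, hNp⟩ := Cfsg.Agent.Lib.Helper13.exists_normal_pgroup G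
  haveI := hNn
  haveI : Fact p.Prime := ⟨hp⟩
  obtain ⟨g, hg⟩ := isConj_iff.mp hconj
  by_cases hxN : x ∈ N
  · -- x ∈ N, so p is odd and x centralizes S
    have hxpow : ∃ k, orderOf x = p ^ k := by
      obtain ⟨k, hk⟩ := (IsPGroup.iff_orderOf.mp hNp) ⟨x, hxN⟩
      refine ⟨k, ?_⟩
      rw [← hk]
      exact (Subgroup.orderOf_mk x hxN).symm
    obtain ⟨k, hk⟩ := hxpow
    have hk0 : k ≠ 0 := by
      rintro rfl
      rw [pow_zero, orderOf_eq_one_iff] at hk
      exact hx hk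
    have hpodd : p ≠ 2 := by
      rintro rfl
      rw [hk] at hodd
      exact (Nat.not_even_iff_odd.mpr hodd) ((Nat.even_pow.mpr ⟨even_two, hk0⟩))
    have hSN : ∀ y, y ∈ (S : Subgroup G) → y ∈ N → y = 1 := by
      intro y hyS hyN
      obtain ⟨a, ha⟩ := (IsPGroup.iff_orderOf.mp S.isPGroup') ⟨y, hyS⟩
      obtain ⟨b, hb⟩ := (IsPGroup.iff_orderOf.mp hNp) ⟨y, hyN⟩
      rw [Subgroup.orderOf_mk] at ha hb
      have hcop : Nat.Coprime (2 ^ a) (p ^ b) :=
        Nat.Coprime.pow _ _ ((Nat.coprime_primes Nat.prime_two hp).mpr (Ne.symm hpodd))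
      have h1 : orderOf y ∣ Nat.gcd (2 ^ a) (p ^ b) := Nat.dvd_gcd (by rw [ha]) (by rw [hb])
      rw [hcop] at h1
      exact orderOf_eq_one_iff.mp (Nat.dvd_one.mp h1)
    have hcent : ∀ s, s ∈ (S : Subgroup G) → s * x = x * s := by
      intro s hs
      have h1 : x * s * x⁻¹ ∈ (S : Subgroup G) := (Subgroup.mem_normalizer_iff.mp hnorm s).mp hs
      have h2 : s⁻¹ * (x * s * x⁻¹) ∈ (S : Subgroup G) := mul_mem (inv_mem hs) h1
      have h3 : s⁻¹ * (x * s * x⁻¹) ∈ N := by
        have : s⁻¹ * (x * s * x⁻¹) = (s⁻¹ * x * s⁻¹⁻¹) * x⁻¹ := by group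
        rw [this]
        exact mul_mem (hNn.conj_mem x hxN s⁻¹) (inv_mem hxN)
      have h4 := hSN _ h2 h3
      have : x * s * x⁻¹ = s := by
        have := congrArg (fun z => s * z) h4
        simpa [mul_assoc] using this
      calc s * x = (x * s * x⁻¹) * x := by rw [this]
        _ = x * s := by group
    -- 2-part of g
    obtain ⟨a, m, hm, hgm⟩ := Nat.exists_eq_two_pow_mul_odd (orderOf_pos g).ne'
    have hgi : g * x⁻¹ * g⁻¹ = x := by
      have h2 : g * x⁻¹ * g⁻¹ = (g * x * g⁻¹)⁻¹ := by simp [mul_assoc]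
      rw [h2, hg, inv_inv]
    have hg2 : Commute (g ^ 2) x := by
      show g ^ 2 * x = x * g ^ 2
      have hg' : g * x = x⁻¹ * g := mul_inv_eq_iff_eq_mul.mp hg
      have hgi' : g * x⁻¹ = x * g := mul_inv_eq_iff_eq_mul.mp hgi
      rw [pow_two, mul_assoc, hg', ← mul_assoc, hgi', mul_assoc]
    obtain ⟨j, hj⟩ := hm
    set t := g ^ m with ht
    have htx : t * x * t⁻¹ = x⁻¹ := by
      have h1 : t = (g ^ 2) ^ j * g := by
        rw [ht, hj, pow_succ, pow_mul]
      have hc : Commute ((g ^ 2) ^ j) x⁻¹ := (hg2.pow_left j).inv_right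
      rw [h1]
      have h2 : (g ^ 2) ^ j * g * x * ((g ^ 2) ^ j * g)⁻¹
          = (g ^ 2) ^ j * (g * x * g⁻¹) * ((g ^ 2) ^ j)⁻¹ := by group
      rw [h2, hg, hc.eq, mul_assoc, mul_inv_cancel, mul_one]
    have htp : ∃ k : ℕ, t ^ 2 ^ k = 1 := by
      refine ⟨a, ?_⟩
      rw [ht, ← pow_mul, mul_comm, ← hgm, pow_orderOf_eq_one]
    -- normalizer of ⟨x⟩
    have hxpowinv : ∀ (h : G), h * x * h⁻¹ = x⁻¹ → ∀ i : ℤ, h * x ^ i * h⁻¹ = (x ^ i)⁻¹ := by
      intro h hh i
      have := map_zpow (MulAut.conj h) x i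
      simp only [MulAut.conj_apply] at this
      rw [this, hh, inv_zpow]
    have hxpowc : ∀ (h : G), h * x = x * h → ∀ i : ℤ, h * x ^ i * h⁻¹ = x ^ i := by
      intro h hh i
      have hc : Commute h (x ^ i) := Commute.zpow_right hh i
      rw [hc.eq, mul_assoc, mul_inv_cancel, mul_one]
    let H := Subgroup.normalizer ((Subgroup.zpowers x : Subgroup G) : Set G)
    have hSH : (S : Subgroup G) ≤ H := by
      intro s hs
      refine Subgroup.mem_normalizer_iff.mpr (fun y => ?_)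
      constructor
      · intro hy
        obtain ⟨i, rfl⟩ := Subgroup.mem_zpowers_iff.mp hy
        rw [hxpowc s (hcent s hs) i]
        exact Subgroup.zpow_mem_zpowers x i
      · intro hy
        obtain ⟨i, hi⟩ := Subgroup.mem_zpowers_iff.mp hy
        have : y = s⁻¹ * x ^ i * s⁻¹⁻¹ := by rw [hi]; group
        rw [this, hxpowc s⁻¹ ?_ i]
        · exact Subgroup.zpow_mem_zpowers x i
        · have := hcent s hs
          calc s⁻¹ * x = s⁻¹ * (x * s) * s⁻¹ := by group
            _ = s⁻¹ * (s * x) * s⁻¹ := by rw [this]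
            _ = x * s⁻¹ := by group
    have htH : t ∈ H := by
      refine Subgroup.mem_normalizer_iff.mpr (fun y => ?_)
      constructor
      · intro hy
        obtain ⟨i, rfl⟩ := Subgroup.mem_zpowers_iff.mp hy
        rw [hxpowinv t htx i]
        exact inv_mem (Subgroup.zpow_mem_zpowers x i)
      · intro hy
        obtain ⟨i, hi⟩ := Subgroup.mem_zpowers_iff.mp hy
        have ht' : t⁻¹ * x * t⁻¹⁻¹ = x⁻¹ := inv_conj_of_conj_inv htx
        have : y = t⁻¹ * x ^ i * t⁻¹⁻¹ := by rw [hi]; group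
        rw [this, hxpowinv t⁻¹ ht' i]
        exact inv_mem (Subgroup.zpow_mem_zpowers x i)
    obtain ⟨c, hcH, hct⟩ := Cfsg.Agent.Lib.Lead.SylowConj.exists_conj_mem H S hSH t htH htp
    -- c x c⁻¹ = x^i
    have hcx : c⁻¹ * x * c⁻¹⁻¹ ∈ Subgroup.zpowers x :=
      (Subgroup.mem_normalizer_iff.mp (inv_mem hcH) x).mp (Subgroup.mem_zpowers x)
    obtain ⟨i, hi⟩ := Subgroup.mem_zpowers_iff.mp hcx
    -- c t c⁻¹ commutes with x
    have h5 := hcent _ hct
    -- hence t commutes with c⁻¹ x c = x^i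
    have h6 : t * (x ^ i) * t⁻¹ = x ^ i := by
      rw [hi]
      have : t * (c⁻¹ * x * c⁻¹⁻¹) * t⁻¹ = c⁻¹ * ((c * t * c⁻¹) * x) * (c * t⁻¹) := by group
      rw [this, h5]
      group
    rw [hxpowinv t htx i] at h6
    -- (x^i)^2 = 1, and order of x^i is odd
    have h7 : (x ^ i) ^ 2 = 1 := by
      rw [pow_two]
      nth_rewrite 1 [← h6]
      exact inv_mul_cancel _
    have h8 : orderOf (x ^ i) = orderOf x := by
      rw [hi]
      have := orderOf_injective (MulAut.conj c⁻¹ : G ≃* G).toMonoidHom (MulAut.conj c⁻¹).injective x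
      simpa [MulAut.conj_apply] using this
    have h9 : orderOf (x ^ i) ∣ 2 := orderOf_dvd_of_pow_eq_one h7
    rw [h8] at h9
    have h10 : orderOf x = 1 := by
      rcases (Nat.dvd_prime Nat.prime_two).mp h9 with h | h
      · exact h
      · rw [h] at hodd
        exact absurd hodd (by decide)
    exact hx (orderOf_eq_one_iff.mp h10)
  · -- pass to the quotient
    have hcard : Nat.card (G ⧸ N) < n := by
      rw [← hn, Subgroup.card_eq_card_quotient_mul_card_subgroup N]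
      have h1 : 1 < Nat.card N := by
        rw [Subgroup.one_lt_card_iff_ne_bot]
        exact hNne
      have h2 : 0 < Nat.card (G ⧸ N) := Nat.card_pos
      nlinarith
    have hsurj : Function.Surjective (QuotientGroup.mk' N) := QuotientGroup.mk'_surjective N
    refine ih _ hcard rfl (S.mapSurjective hsurj) (QuotientGroup.mk' N x) ?_ ?_ ?_ ?_
    · intro h
      apply hxN
      rwa [QuotientGroup.mk'_apply, QuotientGroup.eq_one_iff] at h
    · exact Odd.of_dvd_nat hodd (orderOf_map_dvd _ x)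
    · rw [Sylow.coe_mapSurjective]
      exact Subgroup.le_normalizer_map _ (Subgroup.mem_map_of_mem _ hnorm)
    · rw [isConj_iff]
      refine ⟨QuotientGroup.mk' N g, ?_⟩
      rw [← map_inv, ← map_mul, ← map_mul, hg, map_inv]


/-- Let G be a finite solvable group with Sylow 2-subgroup S, and let x ≠ 1 be an element of odd order normalizing S. Then x is not conjugate to its inverse in G. -/
theorem result {G : Type*} [Group G] [Finite G] [Group.IsSolvable G]
    (S : Sylow 2 G) (x : G) (hx : x ≠ 1) (hodd : Odd (orderOf x))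
    (hnorm : x ∈ Subgroup.normalizer ((S : Subgroup G) : Set G)) : ¬ IsConj x x⁻¹ := by
  exact main _ rfl S x hx hodd hnorm

end Cfsg.Agent.S4060
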