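import Cfsg.Statements.S4062
import Mathlib
import Cfsg.Agent.Lib.Helper10.SolvableNormal
import Cfsg.Agent.Lib.Helper3.S3

set_option autoImplicit false
open Cfsg

namespace Cfsg.Agent.S4062

universe u

/-- order-conjugacy -/
def OC (G : Type*) [Group G] : Prop := ∀ x y : G, orderOf x = orderOf y → IsConj x y

/-- a normal elementary abelian subgroup containing all elements of order `p` -/
structure Good {G : Type*} [Group G] (p : ℕ) (M : Subgroup G) : Prop where
  prime : p.Prime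
  normal : M.Normal
  ne_bot : M ≠ ⊥
  exp : ∀ x ∈ M, x ^ p = 1
  comm : ∀ x ∈ M, ∀ y ∈ M, x * y = y * x
  all : ∀ y : G, orderOf y = p → y ∈ M

theorem Good.orderOf_eq {G : Type*} [Group G] {p : ℕ} {M : Subgroup G} (h : Good p M) {x : G}
    (hx : x ∈ M) (hx1 : x ≠ 1) : orderOf x = p := by
  haveI : Fact p.Prime := ⟨h.prime⟩
  exact orderOf_eq_prime (h.exp x hx) hx1

theorem Good.exists_ne_one {G : Type*} [Group G] {p : ℕ} {M : Subgroup G} (h : Good p M) :
    ∃ x ∈ M, x ≠ 1 := by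
  obtain ⟨x, hx1⟩ := (Subgroup.ne_bot_iff_exists_ne_one.mp h.ne_bot)
  exact ⟨x, x.2, fun h => hx1 (Subtype.ext h)⟩

theorem Good.conj_eq {G : Type*} [Group G] {p : ℕ} {M : Subgroup G} (h : Good p M) {m x : G}
    (hm : m ∈ M) (hx : x ∈ M) : m * x * m⁻¹ = x := by
  rw [h.comm m hm x hx, mul_assoc, mul_inv_cancel, mul_one]

theorem exists_good {G : Type*} [Group G] [Finite G] [Nontrivial G] (hs : Group.IsSolvable G)
    (hoc : OC G) : ∃ (p : ℕ) (M : Subgroup G), Good p M := by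
  classical
  obtain ⟨A, hAchar, hAne, hAcomm⟩ := Cfsg.Agent.Lib.Helper10.exists_abelian_characteristic G hs
  haveI := hAchar
  have hAn : A.Normal := inferInstance
  have : Nontrivial A := (Subgroup.nontrivial_iff_ne_bot A).2 hAne
  have hcard : Nat.card A ≠ 1 := by
    intro h
    have := (Nat.card_eq_one_iff_unique.1 h).1
    exact not_subsingleton A this
  obtain ⟨p, hp, hpdvd⟩ := Nat.exists_prime_and_dvd hcard
  haveI : Fact p.Prime := ⟨hp⟩
  obtain ⟨a, ha⟩ := exists_prime_orderOf_dvd_card' p hpdvd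
  let V : Subgroup G :=
    { carrier := {x | x ∈ A ∧ x ^ p = 1}
      one_mem' := ⟨A.one_mem, one_pow p⟩
      mul_mem' := by
        rintro x y ⟨hx, hxp⟩ ⟨hy, hyp⟩
        refine ⟨A.mul_mem hx hy, ?_⟩
        have hc : Commute x y := hAcomm x hx y hy
        rw [hc.mul_pow, hxp, hyp, one_mul]
      inv_mem' := by
        rintro x ⟨hx, hxp⟩
        exact ⟨A.inv_mem hx, by rw [inv_pow, hxp, inv_one]⟩ }
  have hao : orderOf (a : G) = p := by rw [Subgroup.orderOf_coe]; exact ha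
  have haV : (a : G) ∈ V := by
    refine ⟨a.2, ?_⟩
    rw [← hao]; exact pow_orderOf_eq_one _
  have hVn : V.Normal := by
    refine ⟨?_⟩
    rintro x ⟨hx, hxp⟩ g
    refine ⟨hAn.conj_mem x hx g, ?_⟩
    rw [conj_pow, hxp, mul_one, mul_inv_cancel]
  refine ⟨p, V, ⟨hp, hVn, ?_, ?_, ?_, ?_⟩⟩
  · intro hV
    rw [hV, Subgroup.mem_bot] at haV
    rw [haV, orderOf_one] at hao
    exact hp.one_lt.ne hao
  · rintro x ⟨_, hxp⟩
    exact hxp
  · rintro x ⟨hx, _⟩ y ⟨hy, _⟩
    exact hAcomm x hx y hy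
  · intro y hy
    obtain ⟨c, hc⟩ := isConj_iff.mp (hoc (a : G) y (hao.trans hy.symm))
    rw [← hc]
    exact hVn.conj_mem _ haV c

theorem lift_order {G : Type*} [Group G] [Finite G] {p : ℕ} {M : Subgroup G} (h : Good p M)
    [M.Normal] (a : G ⧸ M) :
    ∃ x : G, (x : G ⧸ M) = a ∧
      orderOf x = if p ∣ orderOf a then p * orderOf a else orderOf a := by
  obtain ⟨x₀, rfl⟩ := QuotientGroup.mk_surjective a
  obtain ⟨m, hm⟩ : ∃ m, m = orderOf (x₀ : G ⧸ M) := ⟨_, rfl⟩
  rw [← hm]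
  have hmpos : 0 < m := by rw [hm]; exact orderOf_pos _
  have hp := h.prime
  have hxm : x₀ ^ m ∈ M := by
    rw [← QuotientGroup.eq_one_iff, QuotientGroup.mk_pow, hm]; exact pow_orderOf_eq_one _
  have hdvd1 : m ∣ orderOf x₀ := by
    rw [hm]; exact orderOf_map_dvd (QuotientGroup.mk' M) x₀
  have hdvd2 : orderOf x₀ ∣ m * p := by
    apply orderOf_dvd_of_pow_eq_one
    rw [pow_mul]; exact h.exp _ hxm
  split_ifs with hpm
  · refine ⟨x₀, rfl, ?_⟩
    obtain ⟨k, hk⟩ := hdvd1
    rw [hk] at hdvd2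
    have hkp : k ∣ p := Nat.dvd_of_mul_dvd_mul_left hmpos hdvd2
    rcases (Nat.dvd_prime hp).mp hkp with rfl | rfl
    · exfalso
      rw [mul_one] at hk
      obtain ⟨j, hj⟩ := hpm
      have hjpos : 0 < j := by
        rcases Nat.eq_zero_or_pos j with rfl | h0
        · rw [mul_zero] at hj; omega
        · exact h0
      have hjdvd : j ∣ orderOf x₀ := by rw [hk, hj]; exact dvd_mul_left j p
      have ho : orderOf (x₀ ^ j) = p := by
        rw [orderOf_pow_of_dvd hjpos.ne' hjdvd, hk, hj]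
        exact Nat.mul_div_cancel _ hjpos
      have hmem := h.all _ ho
      have h1 : (x₀ : G ⧸ M) ^ j = 1 := by
        rw [← QuotientGroup.mk_pow, QuotientGroup.eq_one_iff]; exact hmem
      have h2 := orderOf_dvd_of_pow_eq_one h1
      rw [← hm] at h2
      have h3 := Nat.le_of_dvd hjpos h2
      have h4 : j < m := by rw [hj]; nlinarith [hp.two_le]
      omega
    · rw [hk, mul_comm]
  · have hcop : Nat.Coprime m p := (Nat.Coprime.symm ((Nat.Prime.coprime_iff_not_dvd hp).mpr hpm))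
    obtain ⟨u, -, hu⟩ := Nat.exists_mul_mod_eq_one_of_coprime hcop hp.one_lt
    obtain ⟨y, hy⟩ : ∃ y, y = x₀ ^ m := ⟨_, rfl⟩
    have hyM : y ∈ M := hy ▸ hxm
    have hyp : y ^ p = 1 := h.exp _ hyM
    have hymu : y ^ (m * u) = y := by
      conv_lhs => rw [← Nat.div_add_mod (m * u) p, hu, pow_add, pow_mul, hyp, one_pow, one_mul,
        pow_one]
    have hmk : ((x₀ * (y ^ u)⁻¹ : G) : G ⧸ M) = (x₀ : G ⧸ M) := by
      have hyM' : ((y ^ u)⁻¹ : G) ∈ M := M.inv_mem (M.pow_mem hyM u)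
      rw [QuotientGroup.mk_mul, (QuotientGroup.eq_one_iff _).mpr hyM', mul_one]
    refine ⟨x₀ * (y ^ u)⁻¹, hmk, ?_⟩
    have hcomm : Commute x₀ ((y ^ u)⁻¹) := by
      apply Commute.inv_right
      apply Commute.pow_right
      rw [hy]
      exact (Commute.refl x₀).pow_right m
    have hpow : (x₀ * (y ^ u)⁻¹) ^ m = 1 := by
      rw [hcomm.mul_pow, inv_pow, ← pow_mul, mul_comm u m, hymu, ← hy]
      exact mul_inv_cancel y
    have h1 : orderOf (x₀ * (y ^ u)⁻¹) ∣ m := orderOf_dvd_of_pow_eq_one hpow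
    have h2 : m ∣ orderOf (x₀ * (y ^ u)⁻¹) := by
      have := orderOf_map_dvd (QuotientGroup.mk' M) (x₀ * (y ^ u)⁻¹)
      rw [QuotientGroup.mk'_apply, hmk, ← hm] at this
      exact this
    exact Nat.dvd_antisymm h1 h2

theorem oc_quot {G : Type*} [Group G] [Finite G] {p : ℕ} {M : Subgroup G} (h : Good p M)
    [M.Normal] (hoc : OC G) : OC (G ⧸ M) := by
  intro a b hab
  obtain ⟨x, rfl, hx⟩ := lift_order h a
  obtain ⟨y, rfl, hy⟩ := lift_order h b
  have hxy : orderOf x = orderOf y := by rw [hx, hy, hab]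
  exact (QuotientGroup.mk' M).map_isConj (hoc x y hxy)

/-- the contradiction for `p = 2` -/
theorem p2_false {G : Type*} [Group G] {M : Subgroup G} (h : Good 2 M) (hoc : OC G) (t : G)
    (ht : t ∉ M) (hc : ∀ g : G, g * t * g⁻¹ = t⁻¹ → g ∈ M ∨ g * t⁻¹ ∈ M) : False := by
  obtain ⟨g, hg⟩ := isConj_iff.mp (hoc t t⁻¹ (orderOf_inv t).symm)
  obtain ⟨m, hm, hmt⟩ : ∃ m ∈ M, m * t * m⁻¹ = t⁻¹ := by
    rcases hc g hg with h1 | h1
    · exact ⟨g, h1, hg⟩
    · refine ⟨g * t⁻¹, h1, ?_⟩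
      calc (g * t⁻¹) * t * (g * t⁻¹)⁻¹ = g * t * g⁻¹ := by group
        _ = t⁻¹ := hg
  have hm2 : m * m = 1 := by rw [← pow_two]; exact h.exp m hm
  have hsq : (m * t) ^ 2 = 1 := by
    calc (m * t) ^ 2 = (m * t * m⁻¹) * (m * m) * t := by rw [pow_two]; group
      _ = 1 := by rw [hmt, hm2, mul_one, inv_mul_cancel]
  have hne : m * t ≠ 1 := by
    intro h1
    apply ht
    have : t = m⁻¹ := by
      calc t = m⁻¹ * (m * t) := by group
        _ = m⁻¹ := by rw [h1, mul_one]
    rw [this]; exact M.inv_mem hm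
  haveI : Fact (Nat.Prime 2) := ⟨Nat.prime_two⟩
  have ho : orderOf (m * t) = 2 := orderOf_eq_prime hsq hne
  have hmem := h.all _ ho
  apply ht
  have : t = m⁻¹ * (m * t) := by group
  rw [this]; exact M.mul_mem (M.inv_mem hm) hmem

theorem caseA {G : Type*} [Group G] [Finite G] {p : ℕ} {M : Subgroup G} (h : Good p M)
    (hoc : OC G) (htop : M = ⊤) : Nat.card G = 2 := by
  obtain ⟨x, hx, hx1⟩ := h.exists_ne_one
  rw [Nat.card_eq_two_iff' (1 : G)]
  refine ⟨x, hx1, ?_⟩
  intro y hy1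
  have hyM : y ∈ M := by rw [htop]; trivial
  obtain ⟨c, hc⟩ := isConj_iff.mp (hoc y x ((h.orderOf_eq hyM hy1).trans (h.orderOf_eq hx hx1).symm))
  have hcM : c ∈ M := by rw [htop]; trivial
  rw [← hc, h.conj_eq hcM hyM]

theorem caseB {G : Type*} [Group G] [Finite G] {p : ℕ} {M : Subgroup G} (h : Good p M)
    (hoc : OC G) (hidx : M.index = 2) : Nonempty (G ≃* Equiv.Perm (Fin 3)) := by
  classical
  haveI := h.normal
  have hp := h.prime
  obtain ⟨t, ht⟩ : ∃ t : G, t ∉ M := by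
    by_contra hcon
    push_neg at hcon
    have : M = ⊤ := (Subgroup.eq_top_iff' M).mpr hcon
    rw [this, Subgroup.index_top] at hidx
    omega
  have htinv : t⁻¹ ∉ M := fun h1 => ht ((M.inv_mem_iff).mp h1)
  have hdich : ∀ g : G, g ∈ M ∨ g * t⁻¹ ∈ M := by
    intro g
    by_cases hg : g ∈ M
    · exact Or.inl hg
    · right
      rw [Subgroup.mul_mem_iff_of_index_two hidx]
      exact ⟨fun h1 => (hg h1).elim, fun h1 => (htinv h1).elim⟩
  by_cases hp2 : p = 2
  · subst hp2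
    exact (p2_false h hoc t ht (fun g _ => hdich g)).elim
  obtain ⟨x, hx, hx1⟩ := h.exists_ne_one
  have hxo : orderOf x = p := h.orderOf_eq hx hx1
  have hx2 : x ^ 2 ≠ 1 := by
    intro h1
    have := orderOf_dvd_of_pow_eq_one h1
    rw [hxo] at this
    exact hp2 ((Nat.prime_dvd_prime_iff_eq hp Nat.prime_two).mp this)
  have hx'M : t * x * t⁻¹ ∈ M := h.normal.conj_mem x hx t
  have hcl : ∀ y ∈ M, y ≠ 1 → y = x ∨ y = t * x * t⁻¹ := by
    intro y hy hy1
    obtain ⟨g, hg⟩ := isConj_iff.mp (hoc x y (hxo.trans (h.orderOf_eq hy hy1).symm))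
    rcases hdich g with h1 | h1
    · left; rw [← hg, h.conj_eq h1 hx]
    · right
      rw [← hg]
      calc g * x * g⁻¹ = (g * t⁻¹) * (t * x * t⁻¹) * (g * t⁻¹)⁻¹ := by group
        _ = t * x * t⁻¹ := h.conj_eq h1 hx'M
  have hxinv_ne : x⁻¹ ≠ x := by
    intro h1
    apply hx2
    calc x ^ 2 = x * x := pow_two x
      _ = x⁻¹ * x := by rw [h1]
      _ = 1 := inv_mul_cancel x
  have hxinv1 : x⁻¹ ≠ 1 := fun h1 => hx1 (inv_eq_one.mp h1)
  have hconj : t * x * t⁻¹ = x⁻¹ := by
    rcases hcl x⁻¹ (M.inv_mem hx) hxinv1 with h1 | h1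
    · exact (hxinv_ne h1).elim
    · exact h1.symm
  have hx3 : x ^ 3 = 1 := by
    rcases hcl (x ^ 2) (M.pow_mem hx 2) hx2 with h1 | h1
    · exfalso; apply hx1
      have : x * x = x := by rw [← pow_two]; exact h1
      exact mul_left_cancel (this.trans (mul_one x).symm)
    · rw [hconj] at h1
      calc x ^ 3 = x ^ 2 * x := pow_succ x 2
        _ = 1 := by rw [h1, inv_mul_cancel]
  have hMel : ∀ y ∈ M, y = 1 ∨ y = x ∨ y = x⁻¹ := by
    intro y hy
    by_cases hy1 : y = 1
    · exact Or.inl hy1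
    · rcases hcl y hy hy1 with h1 | h1
      · exact Or.inr (Or.inl h1)
      · exact Or.inr (Or.inr (h1.trans hconj))
  have htt : t * t ∈ M := by
    rcases hdich (t * t) with h1 | h1
    · exact h1
    · exfalso; apply ht
      have : t * t * t⁻¹ = t := by group
      rwa [this] at h1
  have htt1 : t * t = 1 := by
    rcases hMel _ htt with h1 | h1 | h1
    · exact h1
    · exfalso
      have h3 : t * x * t⁻¹ = x := by rw [← h1]; group
      exact hxinv_ne (hconj.symm.trans h3)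
    · exfalso
      have h2 : t * x⁻¹ * t⁻¹ = x := by
        calc t * x⁻¹ * t⁻¹ = (t * x * t⁻¹)⁻¹ := by group
          _ = x := by rw [hconj, inv_inv]
      have h3 : t * x⁻¹ * t⁻¹ = x⁻¹ := by rw [← h1]; group
      exact hxinv_ne (h3.symm.trans h2)
  have htinv_eq : t⁻¹ = t := inv_eq_of_mul_eq_one_left htt1
  have hd : t * t = 1 := htt1
  have he : (t * x) * (t * x) = 1 := by
    calc (t * x) * (t * x) = (t * x * t⁻¹) * (t * t) * x := by group
      _ = 1 := by rw [hconj, htt1, mul_one, inv_mul_cancel]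
  have hde : t * (t * x) = x := by rw [← mul_assoc, htt1, one_mul]
  have hed : (t * x) * t = x⁻¹ := by
    calc (t * x) * t = t * x * t⁻¹ := by rw [htinv_eq]
      _ = x⁻¹ := hconj
  have hc3 : (t * (t * x)) ^ 3 = 1 := by rw [hde]; exact hx3
  have hne : t * (t * x) ≠ (t * x) * t := by
    rw [hde, hed]; exact fun h1 => hxinv_ne h1.symm
  obtain ⟨e⟩ := Cfsg.Agent.Lib.Helper3.nonempty_mulEquiv_perm_fin_three hd he hc3 hne
  have htop : Subgroup.closure ({t, t * x} : Set G) = ⊤ := by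
    rw [eq_top_iff]
    intro g _
    have htc : t ∈ Subgroup.closure ({t, t * x} : Set G) := Subgroup.subset_closure (by simp)
    have htxc : t * x ∈ Subgroup.closure ({t, t * x} : Set G) := Subgroup.subset_closure (by simp)
    have hxc : x ∈ Subgroup.closure ({t, t * x} : Set G) := by
      have h9 := mul_mem htc htxc
      rwa [hde] at h9
    have hMc : ∀ y ∈ M, y ∈ Subgroup.closure ({t, t * x} : Set G) := by
      intro y hy
      rcases hMel y hy with rfl | rfl | rfl
      · exact one_mem _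
      · exact hxc
      · exact inv_mem hxc
    rcases hdich g with h1 | h1
    · exact hMc g h1
    · have : g = (g * t⁻¹) * t := by group
      rw [this]; exact mul_mem (hMc _ h1) htc
  exact ⟨(Subgroup.topEquiv.symm.trans (MulEquiv.subgroupCongr htop.symm)).trans e⟩

theorem card_le {G Q : Type*} [Group G] [Group Q] [Finite G] [Finite Q] {M : Subgroup G}
    (hcomm : ∀ x ∈ M, ∀ y ∈ M, x * y = y * x)
    (ψ : G →* Q) (hker : ∀ g, ψ g = 1 ↔ g ∈ M) (x : G) (hx : x ∈ M)
    (htr : ∀ y ∈ M, y ≠ 1 → ∃ g, g * x * g⁻¹ = y) : Nat.card M ≤ Nat.card Q + 1 := by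
  classical
  let s : Q → G := fun q => if h : ∃ g, ψ g = q then h.choose else 1
  have hs : ∀ g, ψ (s (ψ g)) = ψ g := fun g => by
    have h : ∃ g', ψ g' = ψ g := ⟨g, rfl⟩
    simp only [s, dif_pos h]; exact h.choose_spec
  have hsub : (M : Set G) ⊆ insert 1 (Set.range fun q => s q * x * (s q)⁻¹) := by
    intro y hy
    by_cases hy1 : y = 1
    · left; exact hy1
    · right
      obtain ⟨g, rfl⟩ := htr y hy hy1
      refine ⟨ψ g, ?_⟩
      have hm : (s (ψ g))⁻¹ * g ∈ M := by rw [← hker, map_mul, map_inv, hs, inv_mul_cancel]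
      have hc := hcomm _ hm x hx
      show s (ψ g) * x * (s (ψ g))⁻¹ = g * x * g⁻¹
      calc s (ψ g) * x * (s (ψ g))⁻¹
          = s (ψ g) * (x * ((s (ψ g))⁻¹ * g) * ((s (ψ g))⁻¹ * g)⁻¹) * (s (ψ g))⁻¹ := by group
        _ = s (ψ g) * (((s (ψ g))⁻¹ * g) * x * ((s (ψ g))⁻¹ * g)⁻¹) * (s (ψ g))⁻¹ := by rw [hc]
        _ = g * x * g⁻¹ := by group
  have h1 : Nat.card M = (M : Set G).ncard := rfl
  rw [h1]
  calc (M : Set G).ncard ≤ (insert 1 (Set.range fun q => s q * x * (s q)⁻¹)).ncard :=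
        Set.ncard_le_ncard hsub (Set.toFinite _)
    _ ≤ (Set.range fun q => s q * x * (s q)⁻¹).ncard + 1 := Set.ncard_insert_le _ _
    _ ≤ Nat.card Q + 1 := by
        apply Nat.add_le_add_right
        rw [← Set.image_univ, ← Set.ncard_univ]
        exact Set.ncard_image_le (Set.toFinite _)

theorem conj_iter {G : Type*} [Group G] {g x : G} {r : ℕ} (h : g * x * g⁻¹ = x ^ r) (k : ℕ) :
    g ^ k * x * (g ^ k)⁻¹ = x ^ (r ^ k) := by
  induction k with
  | zero => simp
  | succ k ih =>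
    calc g ^ (k + 1) * x * (g ^ (k + 1))⁻¹ = g * (g ^ k * x * (g ^ k)⁻¹) * g⁻¹ := by
          rw [pow_succ']; group
      _ = g * x ^ (r ^ k) * g⁻¹ := by rw [ih]
      _ = (g * x * g⁻¹) ^ (r ^ k) := (conj_pow).symm
      _ = x ^ (r ^ (k + 1)) := by rw [h, ← pow_mul, pow_succ']

abbrev τ : Equiv.Perm (Fin 3) := Equiv.swap 0 1
abbrev σ : Equiv.Perm (Fin 3) := Equiv.swap 0 1 * Equiv.swap 1 2

theorem s3_cent : ∀ π : Equiv.Perm (Fin 3), π * τ * π⁻¹ = τ → π = 1 ∨ π = τ := by decide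
theorem s3_pow : ∀ π : Equiv.Perm (Fin 3), π ^ 2 = 1 ∨ π ^ 3 = 1 := by decide
theorem s3_sq : ∀ π : Equiv.Perm (Fin 3), π * σ * π⁻¹ = σ ^ 2 → π ^ 2 = 1 := by decide
theorem s3_sigma : σ ^ 3 = 1 ∧ σ ≠ 1 ∧ τ ≠ 1 ∧ τ⁻¹ = τ := by decide

theorem caseC {G : Type*} [Group G] [Finite G] {p : ℕ} {M : Subgroup G} (h : Good p M)
    (hoc : OC G) (ψ : G →* Equiv.Perm (Fin 3)) (hψ : Function.Surjective ψ)
    (hker : ∀ g, ψ g = 1 ↔ g ∈ M) : False := by
  classical
  haveI := h.normal
  have hp := h.prime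
  obtain ⟨t, ht⟩ := hψ τ
  obtain ⟨c, hc⟩ := hψ σ
  have htM : t ∉ M := by
    rw [← hker, ht]; exact s3_sigma.2.2.1
  have hcM : c ∉ M := by
    rw [← hker, hc]; exact s3_sigma.2.1
  by_cases hp2 : p = 2
  · subst hp2
    refine p2_false h hoc t htM ?_
    intro g hg
    have h1 : ψ g * τ * (ψ g)⁻¹ = τ := by
      have := congrArg ψ hg
      rw [map_mul, map_mul, map_inv, map_inv, ht, s3_sigma.2.2.2] at this
      exact this
    rcases s3_cent _ h1 with h2 | h2
    · left; exact (hker g).mp h2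
    · right
      rw [← hker, map_mul, map_inv, ht, h2, s3_sigma.2.2.2]
      decide
  obtain ⟨x, hx, hx1⟩ := h.exists_ne_one
  have hxo : orderOf x = p := h.orderOf_eq hx hx1
  -- the `r`-trick
  have hr : ∀ r : ℕ, (orderOf x).Coprime r → x ^ (r ^ 2) = x ∨ x ^ (r ^ 3) = x := by
    intro r hcop
    have h1 : orderOf (x ^ r) = orderOf x := Nat.Coprime.orderOf_pow hcop
    obtain ⟨g, hg⟩ := isConj_iff.mp (hoc x (x ^ r) h1.symm)
    rcases s3_pow (ψ g) with h2 | h2
    · left
      have hgM : g ^ 2 ∈ M := by rw [← hker, map_pow]; exact h2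
      rw [← conj_iter hg 2]; exact h.conj_eq hgM hx
    · right
      have hgM : g ^ 3 ∈ M := by rw [← hker, map_pow]; exact h2
      rw [← conj_iter hg 3]; exact h.conj_eq hgM hx
  have hkill : ∀ n : ℕ, x ^ (n + 1) = x → p ∣ n := by
    intro n hn
    rw [← hxo]
    apply orderOf_dvd_of_pow_eq_one
    rw [pow_succ] at hn
    exact mul_right_cancel (hn.trans (one_mul x).symm)
  have hp3 : p = 3 := by
    have hcop2 : (orderOf x).Coprime 2 := by
      rw [hxo]; exact (Nat.coprime_primes hp Nat.prime_two).mpr hp2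
    rcases hr 2 hcop2 with h1 | h1
    · have := hkill 3 h1
      exact (Nat.prime_dvd_prime_iff_eq hp Nat.prime_three).mp this
    · have h7 : p ∣ 7 := hkill 7 h1
      have hp7 : p = 7 := (Nat.prime_dvd_prime_iff_eq hp (by norm_num)).mp h7
      exfalso
      have hcop3 : (orderOf x).Coprime 3 := by rw [hxo, hp7]; norm_num
      rcases hr 3 hcop3 with h2 | h2
      · have := hkill 8 h2
        rw [hp7] at this; omega
      · have := hkill 26 h2
        rw [hp7] at this; omega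
  subst hp3
  haveI : Fact (Nat.Prime 3) := ⟨Nat.prime_three⟩
  -- counting
  have hcardle : Nat.card M ≤ 7 := by
    have := card_le h.comm ψ hker x hx (fun y hy hy1 =>
      isConj_iff.mp (hoc x y (hxo.trans (h.orderOf_eq hy hy1).symm)))
    rw [Nat.card_perm, Nat.card_fin] at this
    have h6 : Nat.factorial 3 = 6 := rfl
    rw [h6] at this
    exact this
  have hMp : IsPGroup 3 M := fun m => ⟨1, by
    rw [pow_one]; exact Subtype.ext (h.exp m.1 m.2)⟩
  have hcard : Nat.card M = 3 := by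
    obtain ⟨k, hk⟩ := IsPGroup.iff_card.mp hMp
    have hk1 : 1 < Nat.card M := M.one_lt_card_iff_ne_bot.mpr h.ne_bot
    rcases Nat.lt_or_ge k 2 with h2 | h2
    · interval_cases k
      · rw [hk] at hk1; omega
      · rw [hk]; norm_num
    · have : 3 ^ 2 ≤ 3 ^ k := Nat.pow_le_pow_right (by norm_num) h2
      rw [hk] at hcardle; omega
  -- the element `c`
  have hc3M : c ^ 3 ∈ M := by rw [← hker, map_pow, hc]; exact s3_sigma.1
  have hc9 : c ^ 9 = 1 := by
    have := h.exp _ hc3M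
    rwa [← pow_mul] at this
  have hco : orderOf c = 9 := by
    have h1 : orderOf c ∣ 3 ^ 2 := orderOf_dvd_of_pow_eq_one hc9
    obtain ⟨k, hk2, hk⟩ := (Nat.dvd_prime_pow Nat.prime_three).mp h1
    interval_cases k
    · exfalso; apply hcM
      rw [pow_zero, orderOf_eq_one_iff] at hk
      rw [hk]; exact M.one_mem
    · exfalso; apply hcM
      rw [pow_one] at hk
      exact h.all c hk
    · rw [hk]; norm_num
  have hc31 : c ^ 3 ≠ 1 := by
    intro h1
    have := orderOf_dvd_of_pow_eq_one h1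
    rw [hco] at this; omega
  have hco2 : orderOf (c ^ 2) = orderOf c := Nat.Coprime.orderOf_pow (by rw [hco]; norm_num)
  obtain ⟨g, hg⟩ := isConj_iff.mp (hoc c (c ^ 2) hco2.symm)
  have hg2 : (ψ g) ^ 2 = 1 := by
    apply s3_sq
    have := congrArg ψ hg
    rw [map_mul, map_mul, map_inv, map_pow, hc] at this
    exact this
  have hg2M : g ^ 2 ∈ M := by rw [← hker, map_pow]; exact hg2
  -- `g ^ 2` is a power of `c ^ 3`
  have hpow : (⟨g ^ 2, hg2M⟩ : M) ∈ Submonoid.powers (⟨c ^ 3, hc3M⟩ : M) :=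
    mem_powers_of_prime_card hcard (fun h1 => hc31 (congrArg Subtype.val h1))
  obtain ⟨k, hk⟩ := hpow
  have hk' : (c ^ 3) ^ k = g ^ 2 := by
    have := congrArg Subtype.val hk
    simpa using this
  have hcomm : Commute (g ^ 2) c := by
    rw [← hk']
    exact ((Commute.refl c).pow_left 3).pow_left k
  have h4 := conj_iter hg 2
  have h5 : g ^ 2 * c * (g ^ 2)⁻¹ = c := by
    rw [hcomm.eq, mul_assoc, mul_inv_cancel, mul_one]
  rw [h5] at h4
  -- c = c ^ 4
  have h6 : c ^ 3 = 1 := by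
    have h7 : c ^ 3 * c = 1 * c := by
      rw [one_mul, ← pow_succ]; exact h4.symm
    exact mul_right_cancel h7
  exact hc31 h6

theorem main (n : ℕ) : ∀ (G : Type u) [Group G] [Finite G] [Group.IsSolvable G],
    Nat.card G = n → OC G →
    Nat.card G = 1 ∨ Nat.card G = 2 ∨ Nonempty (G ≃* Equiv.Perm (Fin 3)) := by
  induction n using Nat.strong_induction_on with
  | _ n ih =>
  intro G _ _ hsolv hn hoc
  rcases subsingleton_or_nontrivial G with hsub | hnt
  · left; exact Nat.card_unique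
  obtain ⟨p, M, h⟩ := exists_good hsolv hoc
  haveI := h.normal
  have hMcard : 1 < Nat.card M := M.one_lt_card_iff_ne_bot.mpr h.ne_bot
  have hQcard : Nat.card (G ⧸ M) < n := by
    rw [← hn, ← Subgroup.card_mul_index M, ← Subgroup.index_eq_card]
    have : 0 < M.index := Nat.pos_of_ne_zero Subgroup.index_ne_zero_of_finite
    nlinarith
  have hocQ : OC (G ⧸ M) := oc_quot h hoc
  rcases ih _ hQcard (G ⧸ M) rfl hocQ with h1 | h1 | ⟨⟨e⟩⟩
  · right; left
    rw [← Subgroup.index_eq_card, Subgroup.index_eq_one] at h1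
    exact caseA h hoc h1
  · right; right
    rw [← Subgroup.index_eq_card] at h1
    exact caseB h hoc h1
  · exfalso
    refine caseC h hoc (e.toMonoidHom.comp (QuotientGroup.mk' M)) ?_ ?_
    · exact e.surjective.comp (QuotientGroup.mk'_surjective M)
    · intro g
      rw [MonoidHom.comp_apply, MulEquiv.coe_toMonoidHom, MulEquiv.map_eq_one_iff,
        QuotientGroup.mk'_apply, QuotientGroup.eq_one_iff]

/-- A finite solvable group in which any two elements of the same order are conjugate has order 1 or 2 or is isomorphic to the symmetric group of degree 3. -/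
theorem result {G : Type*} [Group G] [Finite G] [Group.IsSolvable G]
    (h : ∀ x y : G, orderOf x = orderOf y → IsConj x y) :
    Nat.card G = 1 ∨ Nat.card G = 2 ∨ Nonempty (G ≃* Equiv.Perm (Fin 3)) := by
  exact main _ G rfl h

end Cfsg.Agent.S4062
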