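-- Statement S4066: element centralizers TI implies Sylow subgroups TI.
import Cfsg.Statements.S4066

set_option autoImplicit false
open Cfsg

namespace Cfsg.Agent.S4066

open Pointwise in
theorem result {G : Type*} [Group G] [Finite G] (hTI : ∀ x : G, Cfsg.IsTISubset (Subgroup.centralizer ({x} : Set G) : Set G))
    {p : ℕ} [Fact p.Prime] (P Q : Sylow p G) (hPQ : P ≠ Q) : (P : Subgroup G) ⊓ (Q : Subgroup G) = ⊥ := by
  classical
  by_contra hne
  -- a non-identity element in the intersection
  obtain ⟨x, hx, hx1⟩ : ∃ x ∈ (P : Subgroup G) ⊓ (Q : Subgroup G), x ≠ 1 := by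
    by_contra h
    apply hne
    rw [Subgroup.eq_bot_iff_forall]
    intro y hy
    by_contra hy1
    exact h ⟨y, hy, hy1⟩
  have hxP : x ∈ (P : Subgroup G) := hx.1
  have hxQ : x ∈ (Q : Subgroup G) := hx.2
  -- key consequence of the TI hypothesis
  have key : ∀ a g y : G, y ≠ 1 → Commute y a → Commute (g * y * g⁻¹) a →
      ∀ c : G, Commute c a → Commute (g * c * g⁻¹) a := by
    intro a g y hy1 hya hgya c hca
    have hg : g ∈ Subgroup.normalizer ((Subgroup.centralizer ({a} : Set G) : Subgroup G) : Set G) := by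
      by_contra hg
      apply hy1
      refine hTI a g hg y ?_ ?_
      · exact Subgroup.mem_centralizer_singleton_iff.mpr hya.eq
      · exact Subgroup.mem_centralizer_singleton_iff.mpr hgya.eq
    have := (Subgroup.mem_normalizer_iff.mp hg c).mp
      (Subgroup.mem_centralizer_singleton_iff.mpr hca.eq)
    exact Subgroup.mem_centralizer_singleton_iff.mp this
  -- a non-identity central element of `P`
  have hPnt : Nontrivial (P : Subgroup G) := ⟨⟨⟨x, hxP⟩, 1, fun h => hx1 (congrArg Subtype.val h)⟩⟩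
  have hZnt : Nontrivial (Subgroup.center (P : Subgroup G)) := P.2.center_nontrivial
  obtain ⟨z, hz1⟩ := exists_ne (1 : Subgroup.center (P : Subgroup G))
  set z' : G := ((z : (P : Subgroup G)) : G) with hz'
  have hz'1 : z' ≠ 1 := by
    intro h
    apply hz1
    apply Subtype.ext; apply Subtype.ext; exact h
  have hz'P : ∀ a ∈ (P : Subgroup G), Commute a z' := by
    intro a ha
    have := Subgroup.mem_center_iff.mp z.2 ⟨a, ha⟩
    exact congrArg Subtype.val this
  -- `Q` is a conjugate of `P`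
  obtain ⟨g, hg⟩ := MulAction.exists_smul_eq G P Q
  have hQmem : ∀ b : G, b ∈ (Q : Subgroup G) ↔ g⁻¹ * b * g ∈ (P : Subgroup G) := by
    intro b
    rw [← hg, Sylow.smul_def, Sylow.pointwise_smul_def, Subgroup.mem_pointwise_smul_iff_inv_smul_mem]
    simp [MulAut.smul_def]
  -- Step 1: `Q` centralizes `z'`
  have hQz : ∀ b ∈ (Q : Subgroup G), Commute b z' := by
    intro b hb
    have h1 : Commute (g⁻¹ * x * g) z' := hz'P _ ((hQmem x).mp hxQ)
    have h2 : Commute (g * (g⁻¹ * x * g) * g⁻¹) z' := by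
      have : g * (g⁻¹ * x * g) * g⁻¹ = x := by group
      rw [this]; exact hz'P x hxP
    have h3 := key z' g (g⁻¹ * x * g) (by
      intro h
      apply hx1
      have : x = g * (g⁻¹ * x * g) * g⁻¹ := by group
      rw [this, h]; group) h1 h2 (g⁻¹ * b * g) (hz'P _ ((hQmem b).mp hb))
    have : g * (g⁻¹ * b * g) * g⁻¹ = b := by group
    rwa [this] at h3
  -- Step 2: for `a ∈ P` and `k ∈ Q`, `a` commutes with `k a k⁻¹`
  have hcomm : ∀ a ∈ (P : Subgroup G), ∀ k ∈ (Q : Subgroup G), Commute (k * a * k⁻¹) a := by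
    intro a ha k hk
    have h1 : Commute z' a := (hz'P a ha).symm
    have h2 : Commute (k * z' * k⁻¹) a := by
      have : k * z' * k⁻¹ = z' := by
        have := (hQz k hk).eq
        rw [this]; group
      rw [this]; exact h1
    exact key a k z' hz'1 h1 h2 a (Commute.refl a)
  -- Step 3: every `a ∈ P` lies in `Q`
  have hPQle : (P : Subgroup G) ≤ (Q : Subgroup G) := by
    intro a ha
    set S : Set G := {y | ∃ k ∈ (Q : Subgroup G), y = k * a * k⁻¹} with hS
    have hSS : ∀ s ∈ S, ∀ t ∈ S, Commute s t := by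
      rintro _ ⟨k, hk, rfl⟩ _ ⟨l, hl, rfl⟩
      have h := hcomm a ha (l⁻¹ * k) (Subgroup.mul_mem _ (Subgroup.inv_mem _ hl) hk)
      have h' : Commute (l * ((l⁻¹ * k) * a * (l⁻¹ * k)⁻¹) * l⁻¹) (l * a * l⁻¹) := by
        have := h.eq
        unfold Commute SemiconjBy
        calc l * ((l⁻¹ * k) * a * (l⁻¹ * k)⁻¹) * l⁻¹ * (l * a * l⁻¹)
            = l * (((l⁻¹ * k) * a * (l⁻¹ * k)⁻¹) * a) * l⁻¹ := by group
          _ = l * (a * ((l⁻¹ * k) * a * (l⁻¹ * k)⁻¹)) * l⁻¹ := by rw [this]
          _ = l * a * l⁻¹ * (l * ((l⁻¹ * k) * a * (l⁻¹ * k)⁻¹) * l⁻¹) := by group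
      have e : l * ((l⁻¹ * k) * a * (l⁻¹ * k)⁻¹) * l⁻¹ = k * a * k⁻¹ := by group
      rwa [e] at h'
    set A : Subgroup G := Subgroup.closure S with hA
    have hAcomm : ∀ s ∈ A, ∀ t ∈ A, Commute s t := by
      intro s hs t ht
      have h1 : A ≤ Subgroup.centralizer S := by
        rw [hA, Subgroup.closure_le]
        intro t ht
        exact Subgroup.mem_centralizer_iff.mpr fun s hs => (hSS s hs t ht).eq
      have h2 : A ≤ Subgroup.centralizer (Subgroup.centralizer S : Set G) :=
        Subgroup.closure_le_centralizer_centralizer S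
      exact ((Subgroup.mem_centralizer_iff.mp (h2 hs)) t (h1 ht)).symm
    have hApow : ∀ s ∈ A, ∃ n : ℕ, s ^ p ^ n = 1 := by
      intro s hs
      induction hs using Subgroup.closure_induction with
      | mem y hy =>
        obtain ⟨k, hk, rfl⟩ := hy
        obtain ⟨n, hn⟩ := (IsPGroup.iff_orderOf.mp P.2) ⟨a, ha⟩
        refine ⟨n, ?_⟩
        have : a ^ p ^ n = 1 := by
          have := pow_orderOf_eq_one (⟨a, ha⟩ : (P : Subgroup G))
          rw [hn] at this
          exact congrArg Subtype.val this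
        rw [conj_pow, this]; group
      | one => exact ⟨0, one_pow _⟩
      | mul y w hy hw ihy ihw =>
        obtain ⟨n, hn⟩ := ihy
        obtain ⟨m, hm⟩ := ihw
        refine ⟨n + m, ?_⟩
        rw [(hAcomm y hy w hw).mul_pow, pow_add, pow_mul, hn, one_pow, one_mul, pow_mul', hm, one_pow]
      | inv y hy ihy =>
        obtain ⟨n, hn⟩ := ihy
        exact ⟨n, by rw [inv_pow, hn, inv_one]⟩
    have hAp : IsPGroup p A := by
      intro s
      obtain ⟨n, hn⟩ := hApow s.1 s.2
      exact ⟨n, Subtype.ext hn⟩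
    have hQnorm : (Q : Subgroup G) ≤ Subgroup.normalizer (A : Set G) := by
      intro k hk
      have hconj : ∀ k ∈ (Q : Subgroup G), ∀ s ∈ A, k * s * k⁻¹ ∈ A := by
        intro k hk s hs
        induction hs using Subgroup.closure_induction with
        | mem y hy =>
          obtain ⟨l, hl, rfl⟩ := hy
          apply Subgroup.subset_closure
          exact ⟨k * l, Subgroup.mul_mem _ hk hl, by group⟩
        | one => simp
        | mul y w _ _ ihy ihw =>
          have : k * (y * w) * k⁻¹ = (k * y * k⁻¹) * (k * w * k⁻¹) := by group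
          rw [this]; exact Subgroup.mul_mem _ ihy ihw
        | inv y _ ihy =>
          have : k * y⁻¹ * k⁻¹ = (k * y * k⁻¹)⁻¹ := by group
          rw [this]; exact Subgroup.inv_mem _ ihy
      rw [Subgroup.mem_normalizer_iff]
      intro s
      constructor
      · exact hconj k hk s
      · intro h
        have := hconj k⁻¹ (Subgroup.inv_mem _ hk) _ h
        have e : k⁻¹ * (k * s * k⁻¹) * k⁻¹⁻¹ = s := by group
        rwa [e] at this
    have hsup : IsPGroup p ((Q : Subgroup G) ⊔ A : Subgroup G) :=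
      IsPGroup.to_sup_of_normal_right' Q.2 hAp hQnorm
    have hQeq : (Q : Subgroup G) = (Q : Subgroup G) ⊔ A := (Q.3 hsup le_sup_left).symm
    have haA : a ∈ A := Subgroup.subset_closure ⟨1, Subgroup.one_mem _, by group⟩
    rw [hQeq]
    exact (le_sup_right : A ≤ (Q : Subgroup G) ⊔ A) haA
  exact hPQ (Sylow.ext (P.3 Q.2 hPQle).symm)

end Cfsg.Agent.S4066
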