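import Cfsg.Statements.S4071
import Mathlib
import Cfsg.Agent.Lib.Helper1.CoprimeStab
import Cfsg.Agent.Lib.Helper17.ClassTwoP

set_option autoImplicit false
open Cfsg

namespace Cfsg.Agent.S4071

open Subgroup

lemma isMulComm_iff {G : Type*} [Group G] {H : Subgroup G} :
    IsMulCommutative H ↔ ∀ a ∈ H, ∀ b ∈ H, a * b = b * a := by
  constructor
  · intro h a ha b hb
    have := h.is_comm.comm (⟨a, ha⟩ : H) ⟨b, hb⟩
    exact congrArg Subtype.val this
  · intro h
    exact ⟨⟨fun a b => Subtype.ext (h a a.2 b b.2)⟩⟩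

theorem backward {G : Type*} [Group G] [Finite G] (x : G) (A : Subgroup G) (p : ℕ) (hp : p.Prime)
    [hAn : A.Normal] (hAc : ∀ a ∈ A, ∀ b ∈ A, a * b = b * a) (k : ℕ) (hxo : orderOf x = p ^ k)
    (hcompl : (Subgroup.zpowers x).IsComplement' A) (hxp : x ^ p ∈ Subgroup.center G)
    (hfpf : ∀ a : G, a ∈ A → a ≠ 1 → x * a * x⁻¹ ≠ a)
    (H : Subgroup G) (hH : ∃ a ∈ H, ∃ b ∈ H, a * b ≠ b * a) : normalizer (H : Set G) = H := by
  obtain ⟨π, hπdef⟩ : ∃ π : G →* G ⧸ A, π = QuotientGroup.mk' A := ⟨_, rfl⟩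
  have hπA : ∀ a ∈ A, π a = 1 := by
    intro a ha
    rw [hπdef]
    exact (QuotientGroup.eq_one_iff a).mpr ha
  have hπeq : ∀ u v : G, π u = π v → u⁻¹ * v ∈ A := by
    intro u v h
    rw [hπdef] at h
    exact QuotientGroup.eq.mp h
  -- P0
  have hP0 : ∀ g : G, ∃ i : ℕ, π g = (π x) ^ i := by
    intro g
    have h1 : g ∈ ((Subgroup.zpowers x ⊔ A : Subgroup G) : Set G) := by
      rw [hcompl.sup_eq_top]; trivial
    rw [Subgroup.mul_normal] at h1
    obtain ⟨h, hh, a, ha, rfl⟩ := Set.mem_mul.mp h1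
    have hfin : IsOfFinOrder x := isOfFinOrder_of_finite x
    have hh' : h ∈ Submonoid.powers x := hfin.mem_powers_iff_mem_zpowers.mpr hh
    obtain ⟨i, rfl⟩ := (Submonoid.mem_powers_iff _ _).mp hh'
    refine ⟨i, ?_⟩
    rw [map_mul, map_pow, hπA a ha, mul_one]
  -- P1
  have hP1 : ∃ h ∈ H, ∃ i : ℕ, π h = (π x) ^ i ∧ ¬ p ∣ i := by
    by_contra hcon
    push_neg at hcon
    have key : ∀ h ∈ H, ∃ c ∈ center G, ∃ a ∈ A, h = c * a := by
      intro h hh
      obtain ⟨i, hi⟩ := hP0 h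
      obtain ⟨j, rfl⟩ := hcon h hh i hi
      refine ⟨(x ^ p) ^ j, pow_mem hxp j, ((x ^ p) ^ j)⁻¹ * h, ?_, by group⟩
      apply hπeq
      rw [hi, map_pow, map_pow, pow_mul]
    obtain ⟨u, hu, v, hv, huv⟩ := hH
    apply huv
    obtain ⟨c, hc, a, ha, rfl⟩ := key u hu
    obtain ⟨c', hc', a', ha', rfl⟩ := key v hv
    have h1 : ∀ g : G, g * c = c * g := fun g => Subgroup.mem_center_iff.mp hc g
    have h2 : ∀ g : G, g * c' = c' * g := fun g => Subgroup.mem_center_iff.mp hc' g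
    calc c * a * (c' * a') = c * (a * c') * a' := by group
      _ = c * (c' * a) * a' := by rw [h2 a]
      _ = c * c' * (a * a') := by group
      _ = c * c' * (a' * a) := by rw [hAc a ha a' ha']
      _ = (c * c') * a' * a := by group
      _ = (c' * c) * a' * a := by rw [h1 c']
      _ = c' * (c * a') * a := by group
      _ = c' * (a' * c) * a := by rw [h1 a']
      _ = c' * a' * (c * a) := by group
  -- P2
  obtain ⟨y, hyH, hyx⟩ : ∃ y ∈ H, π y = π x := by
    obtain ⟨h, hh, i, hi, hpi⟩ := hP1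
    have hord : orderOf (π x) ∣ p ^ k := by
      apply orderOf_dvd_of_pow_eq_one
      rw [← map_pow, ← hxo, pow_orderOf_eq_one, map_one]
    have hcop : i.Coprime (orderOf (π x)) := by
      apply Nat.Coprime.coprime_dvd_right hord
      apply Nat.Coprime.pow_right
      rw [Nat.coprime_comm]
      exact (Nat.Prime.coprime_iff_not_dvd hp).mpr hpi
    obtain ⟨m, hm⟩ := exists_pow_eq_self_of_coprime hcop
    refine ⟨h ^ m, pow_mem hh m, ?_⟩
    rw [map_pow, hi, hm]
  -- P3
  have ha' : x⁻¹ * y ∈ A := hπeq x y hyx.symm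
  have hconj : ∀ b ∈ A, y * b * y⁻¹ = x * b * x⁻¹ := by
    intro b hb
    have e : y = x * (x⁻¹ * y) := by group
    have hc := hAc (x⁻¹ * y) ha' b hb
    calc y * b * y⁻¹ = x * ((x⁻¹ * y) * b) * (x⁻¹ * y)⁻¹ * x⁻¹ := by group
      _ = x * (b * (x⁻¹ * y)) * (x⁻¹ * y)⁻¹ * x⁻¹ := by rw [hc]
      _ = x * b * x⁻¹ := by group
  have hcent : ∀ b ∈ A, b * y = y * b → b = 1 := by
    intro b hb hby
    by_contra hb1
    apply hfpf b hb hb1
    rw [← hconj b hb, ← hby, mul_inv_cancel_right]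
  have hinj : ∀ c ∈ A, ∀ d ∈ A, c * y * c⁻¹ * y⁻¹ = d * y * d⁻¹ * y⁻¹ → c = d := by
    intro c hc d hd h
    have h1 : c * y * c⁻¹ = d * y * d⁻¹ := mul_right_cancel h
    have h2 : (d⁻¹ * c) * y = y * (d⁻¹ * c) := by
      calc (d⁻¹ * c) * y = d⁻¹ * (c * y * c⁻¹) * c := by group
        _ = d⁻¹ * (d * y * d⁻¹) * c := by rw [h1]
        _ = y * (d⁻¹ * c) := by group
    have h3 := hcent _ (mul_mem (inv_mem hd) hc) h2
    calc c = d * (d⁻¹ * c) := by group
      _ = d := by rw [h3, mul_one]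
  -- P4
  apply le_antisymm _ Subgroup.le_normalizer
  intro g hg
  obtain ⟨j, hj⟩ := hP0 g
  have hb : (y ^ j)⁻¹ * g ∈ A := by
    apply hπeq
    rw [hj, map_pow, hyx]
  obtain ⟨b, hbdef⟩ : ∃ b : G, b = (y ^ j)⁻¹ * g := ⟨_, rfl⟩
  rw [← hbdef] at hb
  have hbn : b ∈ normalizer (H : Set G) := by
    rw [hbdef]
    exact mul_mem (inv_mem (Subgroup.le_normalizer (pow_mem hyH j))) hg
  have hbyH : b * y * b⁻¹ ∈ H := (Subgroup.mem_normalizer_iff.mp hbn y).mp hyH
  have hθ : ∀ c ∈ A, c * y * c⁻¹ * y⁻¹ ∈ A := by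
    intro c hc
    have : y * c⁻¹ * y⁻¹ ∈ A := hAn.conj_mem _ (inv_mem hc) y
    have e : c * y * c⁻¹ * y⁻¹ = c * (y * c⁻¹ * y⁻¹) := by group
    rw [e]
    exact mul_mem hc this
  have hθbH : b * y * b⁻¹ * y⁻¹ ∈ H := mul_mem hbyH (inv_mem hyH)
  have hθb : b * y * b⁻¹ * y⁻¹ ∈ H ⊓ A := Subgroup.mem_inf.mpr ⟨hθbH, hθ b hb⟩
  have hfmem : ∀ c : ↥(H ⊓ A), (c : G) * y * (c : G)⁻¹ * y⁻¹ ∈ H ⊓ A := by
    intro c
    have hcH : (c : G) ∈ H := (Subgroup.mem_inf.mp c.2).1
    have hcA : (c : G) ∈ A := (Subgroup.mem_inf.mp c.2).2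
    have h1 : (c : G) * y * (c : G)⁻¹ * y⁻¹ ∈ H :=
      mul_mem (mul_mem (mul_mem hcH hyH) (inv_mem hcH)) (inv_mem hyH)
    exact Subgroup.mem_inf.mpr ⟨h1, hθ c hcA⟩
  let f : ↥(H ⊓ A) → ↥(H ⊓ A) := fun c => ⟨(c : G) * y * (c : G)⁻¹ * y⁻¹, hfmem c⟩
  have hfinj : Function.Injective f := by
    intro c d h
    have h' : (c : G) * y * (c : G)⁻¹ * y⁻¹ = (d : G) * y * (d : G)⁻¹ * y⁻¹ :=
      congrArg Subtype.val h
    exact Subtype.ext (hinj c (Subgroup.mem_inf.mp c.2).2 d (Subgroup.mem_inf.mp d.2).2 h')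
  have hfsurj : Function.Surjective f := Finite.injective_iff_surjective.mp hfinj
  obtain ⟨b0, hb0⟩ := hfsurj ⟨_, hθb⟩
  have h' : (b0 : G) * y * (b0 : G)⁻¹ * y⁻¹ = b * y * b⁻¹ * y⁻¹ := congrArg Subtype.val hb0
  have hbb0 : (b0 : G) = b := hinj b0 (Subgroup.mem_inf.mp b0.2).2 b hb h'
  have hbH : b ∈ H := hbb0 ▸ (Subgroup.mem_inf.mp b0.2).1
  have : g = y ^ j * b := by rw [hbdef]; group
  rw [this]
  exact mul_mem (pow_mem hyH j) hbH

/-- A finite solvable nontrivial group has a normal abelian-or-not subgroup of prime index which is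
maximal among proper normal subgroups. -/
theorem exists_normal_prime_index {G : Type*} [Group G] [Finite G] [Group.IsSolvable G]
    [Nontrivial G] : ∃ M : Subgroup G, M.Normal ∧ M.index.Prime := by
  classical
  let S : Set (Subgroup G) := {K | K.Normal ∧ K ≠ ⊤}
  have hSne : S.Nonempty := ⟨⊥, inferInstance, bot_ne_top⟩
  obtain ⟨M, hMS, hMmax⟩ := WellFounded.has_min (wellFounded_gt (α := Subgroup G)) S hSne
  obtain ⟨hMn, hMt⟩ := hMS
  haveI := hMn
  refine ⟨M, hMn, ?_⟩
  have hπs : Function.Surjective (QuotientGroup.mk' M) := QuotientGroup.mk'_surjective M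
  haveI : Nontrivial (G ⧸ M) := by
    obtain ⟨g, hg⟩ : ∃ g : G, g ∉ M := by
      by_contra h
      push_neg at h
      exact hMt (eq_top_iff.mpr fun g _ => h g)
    exact ⟨⟨(g : G ⧸ M), 1, fun h => hg ((QuotientGroup.eq_one_iff g).mp h)⟩⟩
  haveI : IsSimpleGroup (G ⧸ M) := by
    refine { toNontrivial := inferInstance, eq_bot_or_eq_top_of_normal := ?_ }
    intro X hX
    haveI := hX
    by_cases hc : X.comap (QuotientGroup.mk' M) = ⊤
    · right
      rw [← Subgroup.map_comap_eq_self_of_surjective hπs X, hc,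
        Subgroup.map_top_of_surjective _ hπs]
    · left
      have hle : M ≤ X.comap (QuotientGroup.mk' M) := by
        intro m hm
        rw [Subgroup.mem_comap]
        have : (QuotientGroup.mk' M) m = 1 := (QuotientGroup.eq_one_iff m).mpr hm
        rw [this]; exact one_mem _
      have hnot := hMmax (X.comap (QuotientGroup.mk' M)) ⟨inferInstance, hc⟩
      have heq : X.comap (QuotientGroup.mk' M) = M := by
        by_contra hne
        exact hnot (lt_of_le_of_ne hle (Ne.symm hne))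
      rw [← Subgroup.map_comap_eq_self_of_surjective hπs X, heq, QuotientGroup.map_mk'_self]
  have hcomm : ∀ a b : G ⧸ M, a * b = b * a :=
    IsSimpleGroup.comm_iff_isSolvable.mpr inferInstance
  have hcard1 : Nat.card (G ⧸ M) ≠ 1 := by
    intro h
    have := (Nat.card_eq_one_iff_unique.mp h).1
    exact not_subsingleton (G ⧸ M) this
  obtain ⟨q, hqdef⟩ : ∃ q, q = (Nat.card (G ⧸ M)).minFac := ⟨_, rfl⟩
  haveI hqf : Fact q.Prime := ⟨hqdef ▸ Nat.minFac_prime hcard1⟩
  have hqd : q ∣ Nat.card (G ⧸ M) := hqdef ▸ Nat.minFac_dvd _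
  obtain ⟨g, hg⟩ := exists_prime_orderOf_dvd_card' q hqd
  haveI : (Subgroup.zpowers g).Normal := by
    refine ⟨fun n hn t => ?_⟩
    rw [hcomm t n, mul_inv_cancel_right]; exact hn
  have hz : Subgroup.zpowers g = ⊤ := by
    rcases IsSimpleGroup.eq_bot_or_eq_top_of_normal (Subgroup.zpowers g) inferInstance with h | h
    · exfalso
      have : g = 1 := by
        rw [← Subgroup.zpowers_eq_bot]; exact h
      rw [this, orderOf_one] at hg
      exact hqf.out.one_lt.ne hg
    · exact h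
  have : Nat.card (G ⧸ M) = q := by
    rw [← Nat.card_zpowers, hz] at hg
    rw [← hg]
    exact (Nat.card_congr (Subgroup.topEquiv (G := G ⧸ M)).toEquiv).symm
  show (Nat.card (G ⧸ M)).Prime
  rw [this]; exact hqf.out

theorem forward {G : Type*} [Group G] [Finite G] [Group.IsSolvable G]
    (hnn : ¬ Group.IsNilpotent G)
    (hS : ∀ H : Subgroup G, (∃ a ∈ H, ∃ b ∈ H, a * b ≠ b * a) → normalizer (H : Set G) = H) :
    ∃ (x : G) (A : Subgroup G) (p : ℕ), p.Prime ∧ A.Normal ∧ (∀ a ∈ A, ∀ b ∈ A, a * b = b * a) ∧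
      (∃ k : ℕ, orderOf x = p ^ k) ∧ ¬ p ∣ Nat.card A ∧ (Subgroup.zpowers x).IsComplement' A ∧
      x ^ p ∈ Subgroup.center G ∧ ∀ a : G, a ∈ A → a ≠ 1 → x * a * x⁻¹ ≠ a := by
  classical
  have hnorm : ∀ K : Subgroup G, K.Normal → K ≠ ⊤ → ∀ a ∈ K, ∀ b ∈ K, a * b = b * a := by
    intro K hK hKt
    by_contra hcon
    push_neg at hcon
    obtain ⟨a, ha, b, hb, hab⟩ := hcon
    have := hS K ⟨a, ha, b, hb, hab⟩
    rw [Subgroup.normalizer_eq_top] at this
    exact hKt this.symm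
  haveI : Nontrivial G := by
    by_contra h
    rw [not_nontrivial_iff_subsingleton] at h
    exact hnn inferInstance
  obtain ⟨M, hMn, hMp⟩ := exists_normal_prime_index (G := G)
  haveI := hMn
  obtain ⟨p, hpdef⟩ : ∃ p, p = M.index := ⟨_, rfl⟩
  have hp : p.Prime := hpdef ▸ hMp
  haveI hpf : Fact p.Prime := ⟨hp⟩
  have hMt : M ≠ ⊤ := by
    intro h
    rw [h, Subgroup.index_top] at hpdef
    exact hp.one_lt.ne hpdef.symm
  have hMc := hnorm M hMn hMt
  -- x ∈ P \ M
  obtain ⟨P⟩ : Nonempty (Sylow p G) := inferInstance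
  obtain ⟨x, hxP, hxM⟩ : ∃ x ∈ (P : Subgroup G), x ∉ M := by
    by_contra hcon
    push_neg at hcon
    have hle : (P : Subgroup G) ≤ M := hcon
    have := Subgroup.index_dvd_of_le hle
    rw [← hpdef] at this
    exact P.not_dvd_index this
  obtain ⟨k, hk⟩ : ∃ k : ℕ, orderOf x = p ^ k := by
    obtain ⟨k, hk⟩ := (IsPGroup.iff_orderOf.mp P.2) ⟨x, hxP⟩
    exact ⟨k, by rw [← hk, Subgroup.orderOf_mk]⟩
  -- G = M ⟨x⟩
  have hMx : M ⊔ Subgroup.zpowers x = ⊤ := by
    have hco : IsCoatom M := Cfsg.Agent.Lib.Helper17.isCoatom_of_index_prime' hp hpdef.symm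
    by_contra hne
    have hlt : M < M ⊔ Subgroup.zpowers x := by
      refine lt_of_le_of_ne le_sup_left ?_
      intro h
      apply hxM
      rw [h]
      exact le_sup_right (a := M) (Subgroup.mem_zpowers x)
    exact hne (hco.2 _ hlt)
  -- criterion for central elements
  have hcentral : ∀ c : G, (∀ m ∈ M, m * c = c * m) → x * c = c * x → c ∈ center G := by
    intro c h1 h2
    rw [Subgroup.mem_center_iff]
    intro g
    have hle : M ⊔ Subgroup.zpowers x ≤ centralizer ({c} : Set G) := by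
      rw [sup_le_iff]
      constructor
      · intro m hm
        rw [Subgroup.mem_centralizer_iff]
        intro t ht
        rw [Set.mem_singleton_iff.mp ht]
        exact (h1 m hm).symm
      · rw [Subgroup.zpowers_le, Subgroup.mem_centralizer_iff]
        intro t ht
        rw [Set.mem_singleton_iff.mp ht]
        exact h2.symm
    have : g ∈ centralizer ({c} : Set G) := hle (by rw [hMx]; trivial)
    rw [Subgroup.mem_centralizer_iff] at this
    exact (this c rfl).symm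
  -- the subgroup A
  let A : Subgroup G :=
    { carrier := {a | a ∈ M ∧ (orderOf a).Coprime p}
      one_mem' := ⟨one_mem _, by rw [orderOf_one]; exact Nat.coprime_one_left p⟩
      mul_mem' := by
        rintro a b ⟨ha, hao⟩ ⟨hb, hbo⟩
        refine ⟨mul_mem ha hb, ?_⟩
        have hc : Commute a b := hMc a ha b hb
        exact Nat.Coprime.coprime_dvd_left hc.orderOf_mul_dvd_mul_orderOf (Nat.Coprime.mul_left hao hbo)
      inv_mem' := by
        rintro a ⟨ha, hao⟩
        exact ⟨inv_mem ha, by rw [orderOf_inv]; exact hao⟩ }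
  have hAmem : ∀ a : G, a ∈ A ↔ a ∈ M ∧ (orderOf a).Coprime p := fun a => Iff.rfl
  have hAM : A ≤ M := fun a ha => ha.1
  have hAc : ∀ a ∈ A, ∀ b ∈ A, a * b = b * a := fun a ha b hb => hMc a ha.1 b hb.1
  haveI hAn : A.Normal := by
    refine ⟨fun a ha g => ?_⟩
    refine ⟨hMn.conj_mem a ha.1 g, ?_⟩
    have : orderOf (g * a * g⁻¹) = orderOf a := by
      have := MulEquiv.orderOf_eq (MulAut.conj g) a
      rwa [MulAut.conj_apply] at this
    rw [this]; exact ha.2
  have hpA : ¬ p ∣ Nat.card A := by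
    intro hd
    obtain ⟨a, ha⟩ := exists_prime_orderOf_dvd_card' p hd
    have h1 : orderOf (a : G) = p := by rw [Subgroup.orderOf_coe, ha]
    have h2 : (orderOf (a : G)).Coprime p := a.2.2
    rw [h1, Nat.coprime_self] at h2
    exact hp.one_lt.ne h2.symm
  have hcopA : ∀ a ∈ A, ∀ j : ℕ, (orderOf a).Coprime (p ^ j) := fun a ha j =>
    Nat.Coprime.pow_right j ha.2
  -- G/A is a p-group
  have hQ : IsPGroup p (G ⧸ A) := by
    intro q
    obtain ⟨y, rfl⟩ := QuotientGroup.mk_surjective q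
    have hyM : y ^ p ∈ M := by
      have := Subgroup.pow_index_mem M y
      rwa [← hpdef] at this
    have hn0 : orderOf (y ^ p) ≠ 0 := (orderOf_pos _).ne'
    obtain ⟨j, r, hr, hjr⟩ := Nat.exists_eq_pow_mul_and_not_dvd hn0 p hp.one_lt.ne'
    have hmem : (y ^ p) ^ (p ^ j) ∈ A := by
      refine ⟨pow_mem hyM _, ?_⟩
      have h1 : ((y ^ p) ^ (p ^ j)) ^ r = 1 := by
        rw [← pow_mul, ← hjr, pow_orderOf_eq_one]
      have h2 : orderOf ((y ^ p) ^ (p ^ j)) ∣ r := orderOf_dvd_of_pow_eq_one h1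
      exact Nat.Coprime.coprime_dvd_left h2 ((Nat.Prime.coprime_iff_not_dvd hp).mpr hr).symm
    refine ⟨j + 1, ?_⟩
    rw [← QuotientGroup.mk_pow, QuotientGroup.eq_one_iff, pow_succ', pow_mul]
    exact hmem
  -- x does not centralize A
  have hxA : ∃ a ∈ A, x * a ≠ a * x := by
    by_contra hcon
    push_neg at hcon
    apply hnn
    haveI : Group.IsNilpotent (G ⧸ A) := hQ.isNilpotent
    refine Subgroup.isNilpotent_of_ker_le_center (QuotientGroup.mk' A) ?_
    rw [QuotientGroup.ker_mk']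
    intro a ha
    exact hcentral a (fun m hm => hMc m hm a ha.1) (hcon a ha)
  -- step 7: A ⊔ ⟨x⟩ = ⊤
  have hsup : Subgroup.zpowers x ⊔ A = ⊤ := by
    obtain ⟨a, ha, hax⟩ := hxA
    have hHn : normalizer ((Subgroup.zpowers x ⊔ A : Subgroup G) : Set G) =
        Subgroup.zpowers x ⊔ A :=
      hS _ ⟨x, le_sup_left (a := Subgroup.zpowers x) (Subgroup.mem_zpowers x), a,
        le_sup_right (a := Subgroup.zpowers x) ha, hax⟩
    have hπs : Function.Surjective (QuotientGroup.mk' A) := QuotientGroup.mk'_surjective A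
    haveI : Group.IsNilpotent (G ⧸ A) := hQ.isNilpotent
    have hcm : ((Subgroup.zpowers x ⊔ A).map (QuotientGroup.mk' A)).comap (QuotientGroup.mk' A) =
        Subgroup.zpowers x ⊔ A := by
      rw [Subgroup.comap_map_eq, QuotientGroup.ker_mk', sup_assoc, sup_idem]
    have hbar : normalizer (((Subgroup.zpowers x ⊔ A).map (QuotientGroup.mk' A) :
        Subgroup (G ⧸ A)) : Set (G ⧸ A)) = (Subgroup.zpowers x ⊔ A).map (QuotientGroup.mk' A) := by
      apply Subgroup.comap_injective hπs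
      rw [Subgroup.comap_normalizer_eq_of_surjective _ hπs, hcm]
      exact hHn
    have htop : (Subgroup.zpowers x ⊔ A).map (QuotientGroup.mk' A) = ⊤ := by
      by_contra hne
      have := Group.normalizerCondition_of_isNilpotent (G := G ⧸ A) _ (lt_top_iff_ne_top.mpr hne)
      rw [hbar] at this
      exact lt_irrefl _ this
    rw [← hcm, htop, Subgroup.comap_top]
  have hdisj : Disjoint (Subgroup.zpowers x) A := by
    rw [Subgroup.disjoint_def]
    intro g hgx hgA
    have h1 : orderOf g ∣ p ^ k := hk ▸ orderOf_dvd_of_mem_zpowers hgx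
    have h2 := hcopA g hgA k
    have h3 : orderOf g = 1 := Nat.Coprime.eq_one_of_dvd h2 h1
    exact orderOf_eq_one_iff.mp h3
  have hcompl : (Subgroup.zpowers x).IsComplement' A := by
    apply Subgroup.isComplement'_of_disjoint_and_mul_eq_univ hdisj
    rw [← Subgroup.mul_normal, hsup, Subgroup.coe_top]
  -- x^p central
  have hxpM : x ^ p ∈ M := by
    have := Subgroup.pow_index_mem M x
    rwa [← hpdef] at this
  have hxpc : x ^ p ∈ center G := by
    apply hcentral
    · intro m hm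
      exact hMc m hm _ hxpM
    · rw [← pow_succ', pow_succ]
  -- normal closure of x is everything
  have hK : Subgroup.normalClosure ({x} : Set G) = ⊤ := by
    by_contra hne
    have hKc := hnorm _ inferInstance hne
    have hxK : x ∈ Subgroup.normalClosure ({x} : Set G) :=
      Subgroup.subset_normalClosure (Set.mem_singleton x)
    obtain ⟨a, ha, hax⟩ := hxA
    apply hax
    have hz : a * x * a⁻¹ * x⁻¹ ∈ A := by
      have : x * a⁻¹ * x⁻¹ ∈ A := hAn.conj_mem _ (inv_mem ha) x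
      have e : a * x * a⁻¹ * x⁻¹ = a * (x * a⁻¹ * x⁻¹) := by group
      rw [e]; exact mul_mem ha this
    have hzK : a * x * a⁻¹ * x⁻¹ ∈ Subgroup.normalClosure ({x} : Set G) :=
      mul_mem ((inferInstance : (Subgroup.normalClosure ({x} : Set G)).Normal).conj_mem x hxK a)
        (inv_mem hxK)
    have hcomm : Commute (a * x * a⁻¹ * x⁻¹) x := hKc _ hzK x hxK
    have hconj : a * x * a⁻¹ = (a * x * a⁻¹ * x⁻¹) * x := by group
    have hz1 := Cfsg.Agent.Lib.Helper1.eq_one_of_conj_eq_mul (orderOf x) x a (a * x * a⁻¹ * x⁻¹)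
      (pow_orderOf_eq_one x) hcomm hconj (hk ▸ hcopA _ hz k)
    rw [hz1, one_mul] at hconj
    calc x * a = (a * x * a⁻¹) * a := by rw [hconj]
      _ = a * x := by group
  -- fixed-point-freeness via transfer into A
  have hfpf : ∀ a : G, a ∈ A → a ≠ 1 → x * a * x⁻¹ ≠ a := by
    intro c hc hc1 hxc
    apply hc1
    have hxc' : x * c = c * x := by
      calc x * c = x * c * x⁻¹ * x := by group
        _ = c * x := by rw [hxc]
    have hcc : c ∈ center G := hcentral c (fun m hm => hMc m hm c hc.1) hxc'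
    haveI : IsMulCommutative A := isMulComm_iff.mpr hAc
    open scoped IsMulCommutative in
    let V : G →* A := MonoidHom.transfer (MonoidHom.id A)
    have hVx : V x = 1 := by
      have h1 : orderOf (V x) ∣ p ^ k := hk ▸ orderOf_map_dvd V x
      have h2 : orderOf (V x) ∣ Nat.card A := orderOf_dvd_natCard (V x)
      have h3 : (Nat.card A).Coprime (p ^ k) :=
        Nat.Coprime.pow_right k ((Nat.Prime.coprime_iff_not_dvd hp).mpr hpA).symm
      have h4 : orderOf (V x) = 1 := Nat.eq_one_of_dvd_coprimes h3 h2 h1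
      exact orderOf_eq_one_iff.mp h4
    have hker : V.ker = ⊤ := by
      rw [eq_top_iff, ← hK]
      apply Subgroup.normalClosure_le_normal
      intro t ht
      rw [Set.mem_singleton_iff.mp ht]
      exact hVx
    have key : ∀ (j : ℕ) (g₀ : G), g₀⁻¹ * c ^ j * g₀ ∈ A → g₀⁻¹ * c ^ j * g₀ = c ^ j := by
      intro j g₀ _
      have : g₀ * c ^ j = c ^ j * g₀ := Subgroup.mem_center_iff.mp (pow_mem hcc j) g₀
      rw [mul_assoc, ← this, inv_mul_cancel_left]
    have h1 : V c = (MonoidHom.id A) ⟨c ^ A.index, MonoidHom.transfer_eq_pow_aux c key⟩ :=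
      MonoidHom.transfer_eq_pow (MonoidHom.id A) c key
    have h2 : V c = 1 := by
      have : c ∈ V.ker := by rw [hker]; trivial
      exact this
    rw [h2] at h1
    have h3 : c ^ A.index = 1 := by
      have := congrArg Subtype.val h1
      simpa using this.symm
    have hidx : A.index = p ^ k := by
      rw [hcompl.index_eq_card, Nat.card_zpowers, hk]
    rw [hidx] at h3
    have h4 : orderOf c ∣ p ^ k := orderOf_dvd_of_pow_eq_one h3
    have h5 : orderOf c = 1 := Nat.Coprime.eq_one_of_dvd (hcopA c hc k) h4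
    exact orderOf_eq_one_iff.mp h5
  exact ⟨x, A, p, hp, hAn, hAc, ⟨k, hk⟩, hpA, hcompl, hxpc, hfpf⟩

theorem result {G : Type*} [Group G] [Finite G]
    [Group.IsSolvable G] (hnn : ¬ Group.IsNilpotent G) :
    (∀ H : Subgroup G, ¬ IsMulCommutative H → Subgroup.normalizer (H : Set G) = H) ↔
    ∃ (x : G) (A : Subgroup G) (p : ℕ), p.Prime ∧ A.Normal ∧ IsMulCommutative A ∧ (∃ k : ℕ, orderOf x = p ^ k) ∧
      ¬ p ∣ Nat.card A ∧ (Subgroup.zpowers x).IsComplement' A ∧ x ^ p ∈ Subgroup.center G ∧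
      ∀ a : G, a ∈ A → a ≠ 1 → x * a * x⁻¹ ≠ a := by
  constructor
  · intro hS
    have hS' : ∀ H : Subgroup G, (∃ a ∈ H, ∃ b ∈ H, a * b ≠ b * a) →
        normalizer (H : Set G) = H := by
      intro H ⟨a, ha, b, hb, hab⟩
      apply hS
      intro hc
      exact hab (isMulComm_iff.mp hc a ha b hb)
    obtain ⟨x, A, p, hp, hAn, hAc, hk, hpA, hcompl, hxpc, hfpf⟩ := forward hnn hS'
    exact ⟨x, A, p, hp, hAn, isMulComm_iff.mpr hAc, hk, hpA, hcompl, hxpc, hfpf⟩
  · rintro ⟨x, A, p, hp, hAn, hAc, ⟨k, hk⟩, hpA, hcompl, hxpc, hfpf⟩ H hH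
    haveI := hAn
    apply backward x A p hp (isMulComm_iff.mp hAc) k hk hcompl hxpc hfpf H
    by_contra hcon
    push_neg at hcon
    exact hH (isMulComm_iff.mpr hcon)

end Cfsg.Agent.S4071
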