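import Cfsg.Statements.S4072
import Mathlib
import Cfsg.Agent.Lib.Helper14.FrattiniQuot
import Cfsg.Agent.Lib.Helper17.ClassTwoP

set_option autoImplicit false
open Cfsg

namespace Cfsg.Agent.S4072

open Subgroup
open scoped commutatorElement

lemma isMulComm_iff {G : Type*} [Group G] {H : Subgroup G} :
    IsMulCommutative H ↔ ∀ a ∈ H, ∀ b ∈ H, a * b = b * a := by
  constructor
  · intro h a ha b hb
    have := h.is_comm.comm (⟨a, ha⟩ : H) ⟨b, hb⟩
    exact congrArg Subtype.val this
  · intro h
    exact ⟨⟨fun a b => Subtype.ext (h a a.2 b b.2)⟩⟩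

lemma mem_cent_singleton {G : Type*} [Group G] {x g : G} :
    g ∈ centralizer ({x} : Set G) ↔ g * x = x * g := by
  rw [Subgroup.mem_centralizer_iff]
  simp [eq_comm]

/-- In a finite `p`-group all of whose proper subgroups are commutative, a nontrivial element
of the commutator subgroup generates a subgroup containing all commutators. -/
theorem comm_mem_zpowers {E : Type*} [Group E] [Finite E] {p : ℕ} [Fact p.Prime]
    (hE : IsPGroup p E)
    (hmin : ∀ H : Subgroup E, H ≠ ⊤ → ∀ a ∈ H, ∀ b ∈ H, a * b = b * a)
    {z : E} (hz : z ∈ commutator E) (hz1 : z ≠ 1) (g h : E) :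
    ⁅g, h⁆ ∈ Subgroup.zpowers z := by
  have hp : p.Prime := Fact.out
  -- reduce to: some noncommuting pair
  obtain ⟨a, b, hab⟩ : ∃ a b : E, a * b ≠ b * a := by
    by_contra hcon
    push_neg at hcon
    apply hz1
    have : commutator E = ⊥ := by
      rw [_root_.commutator_def, Subgroup.commutator_eq_bot_iff_le_centralizer]
      intro x _
      rw [Subgroup.mem_centralizer_iff]
      intro y _
      exact hcon y x
    rw [this] at hz
    exact Subgroup.mem_bot.mp hz
  -- M1
  have hgen : Subgroup.closure ({a, b} : Set E) = ⊤ := by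
    by_contra hne
    exact hab (hmin _ hne a (Subgroup.subset_closure (by simp)) b (Subgroup.subset_closure (by simp)))
  -- M2
  have hcoatom : ∀ x : E, centralizer ({x} : Set E) ≠ ⊤ → IsCoatom (centralizer ({x} : Set E)) := by
    intro x hx
    refine ⟨hx, ?_⟩
    intro H hH
    by_contra hne
    have hxH : x ∈ H := hH.le (by rw [mem_cent_singleton])
    have : H ≤ centralizer ({x} : Set E) := by
      intro y hy
      rw [mem_cent_singleton]
      exact hmin H hne y hy x hxH
    exact (not_le_of_gt hH) this
  have hCa : centralizer ({a} : Set E) ≠ ⊤ := by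
    intro h
    have : b ∈ centralizer ({a} : Set E) := by rw [h]; trivial
    rw [mem_cent_singleton] at this
    exact hab this.symm
  have hCb : centralizer ({b} : Set E) ≠ ⊤ := by
    intro h
    have : a ∈ centralizer ({b} : Set E) := by rw [h]; trivial
    rw [mem_cent_singleton] at this
    exact hab this
  -- M3
  have hmem : ∀ x : E, centralizer ({x} : Set E) ≠ ⊤ →
      ∀ u v : E, ⁅u, v⁆ ∈ centralizer ({x} : Set E) ∧ u ^ p ∈ centralizer ({x} : Set E) := by
    intro x hx u v
    have hco := hcoatom x hx
    haveI hn : (centralizer ({x} : Set E)).Normal :=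
      Cfsg.Agent.Lib.Helper14.normal_of_isCoatom_of_isPGroup' hE hco
    have hidx : (centralizer ({x} : Set E)).index = p :=
      Cfsg.Agent.Lib.Helper14.index_of_isCoatom_of_isPGroup' hE hco
    constructor
    · have hcard : Nat.card (E ⧸ centralizer ({x} : Set E)) = p := hidx
      haveI : IsCyclic (E ⧸ centralizer ({x} : Set E)) := isCyclic_of_prime_card hcard
      rw [← QuotientGroup.eq_one_iff]
      show (QuotientGroup.mk' (centralizer ({x} : Set E))) ⁅u, v⁆ = 1
      rw [map_commutatorElement, commutatorElement_eq_one_iff_mul_comm]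
      exact IsCyclic.isMulCommutative.is_comm.comm _ _
    · have := Subgroup.pow_index_mem (centralizer ({x} : Set E)) u
      rwa [hidx] at this
  have hcenter : ∀ y : E, y ∈ centralizer ({a} : Set E) → y ∈ centralizer ({b} : Set E) →
      y ∈ center E := by
    intro y hya hyb
    rw [Subgroup.mem_center_iff]
    intro g
    have hle : Subgroup.closure ({a, b} : Set E) ≤ centralizer ({y} : Set E) := by
      rw [Subgroup.closure_le]
      intro t ht
      rcases ht with rfl | rfl
      · show t ∈ centralizer ({y} : Set E)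
        rw [mem_cent_singleton]; exact (mem_cent_singleton.mp hya).symm
      · show t ∈ centralizer ({y} : Set E)
        rw [mem_cent_singleton]; exact (mem_cent_singleton.mp hyb).symm
    have : g ∈ centralizer ({y} : Set E) := hle (by rw [hgen]; trivial)
    exact mem_cent_singleton.mp this
  have hcomm : ∀ u v : E, ⁅u, v⁆ ∈ center E := fun u v =>
    hcenter _ (hmem a hCa u v).1 (hmem b hCb u v).1
  have hpow : ∀ u : E, u ^ p ∈ center E := fun u =>
    hcenter _ (hmem a hCa u u).2 (hmem b hCb u u).2
  -- M4
  set c : E := ⁅a, b⁆ with hc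
  have hc1 : c ≠ 1 := by
    rw [hc, Ne, commutatorElement_eq_one_iff_mul_comm]; exact hab
  have hcp : c ^ p = 1 := by
    rw [hc, ← Cfsg.Agent.Lib.Helper17.commutatorElement_pow_left_of_central hcomm,
      commutatorElement_eq_one_iff_mul_comm]
    exact (Subgroup.mem_center_iff.mp (hpow a) b).symm
  -- M5
  have hM5 : ∀ u v : E, ⁅u, v⁆ ∈ Subgroup.zpowers c := by
    haveI : (Subgroup.zpowers c).Normal := by
      refine ⟨fun n hn g => ?_⟩
      have hnc : n ∈ center E := by
        obtain ⟨k, rfl⟩ := Subgroup.mem_zpowers_iff.mp hn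
        exact zpow_mem (hcomm a b) k
      have : g * n = n * g := Subgroup.mem_center_iff.mp hnc g
      rw [this, mul_inv_cancel_right]
      exact hn
    set π : E →* E ⧸ Subgroup.zpowers c := QuotientGroup.mk' _ with hπ
    have hπs : Function.Surjective π := QuotientGroup.mk'_surjective _
    have hab' : π a * π b = π b * π a := by
      rw [← commutatorElement_eq_one_iff_mul_comm, ← map_commutatorElement]
      exact (QuotientGroup.eq_one_iff _).mpr (Subgroup.mem_zpowers c)
    have hgen' : Subgroup.closure ({π a, π b} : Set (E ⧸ Subgroup.zpowers c)) = ⊤ := by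
      have := MonoidHom.map_closure π ({a, b} : Set E)
      rw [hgen, Subgroup.map_top_of_surjective π hπs, Set.image_pair] at this
      exact this.symm
    have hcen : ∀ q : E ⧸ Subgroup.zpowers c, (∀ t ∈ ({π a, π b} : Set (E ⧸ Subgroup.zpowers c)),
        t * q = q * t) → ∀ r, r * q = q * r := by
      intro q hq r
      have hle : Subgroup.closure ({π a, π b} : Set (E ⧸ Subgroup.zpowers c)) ≤
          centralizer ({q} : Set _) := by
        rw [Subgroup.closure_le]
        intro t ht
        show t ∈ centralizer ({q} : Set _)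
        rw [mem_cent_singleton]
        exact hq t ht
      have : r ∈ centralizer ({q} : Set _) := hle (by rw [hgen']; trivial)
      exact mem_cent_singleton.mp this
    have ha' : ∀ r, r * π a = π a * r := by
      apply hcen
      intro t ht
      rcases ht with rfl | rfl
      · rfl
      · exact hab'.symm
    have hb' : ∀ r, r * π b = π b * r := by
      apply hcen
      intro t ht
      rcases ht with rfl | rfl
      · exact hab'
      · rfl
    have hall : ∀ q r : E ⧸ Subgroup.zpowers c, r * q = q * r := by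
      intro q
      apply hcen
      intro t ht
      rcases ht with rfl | rfl
      · exact (ha' q).symm
      · exact (hb' q).symm
    intro u v
    rw [← QuotientGroup.eq_one_iff]
    show π ⁅u, v⁆ = 1
    rw [map_commutatorElement, commutatorElement_eq_one_iff_mul_comm]
    exact hall _ _
  have hle : commutator E ≤ Subgroup.zpowers c := by
    rw [_root_.commutator_def, Subgroup.commutator_le]
    intro u _ v _
    exact hM5 u v
  -- final
  have hzc : z ∈ Subgroup.zpowers c := hle hz
  have hoc : orderOf c = p := orderOf_eq_prime hcp hc1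
  have hzp : z ^ p = 1 := by
    obtain ⟨k, rfl⟩ := Subgroup.mem_zpowers_iff.mp hzc
    rw [← zpow_natCast, ← zpow_mul, mul_comm, zpow_mul, zpow_natCast, hcp, one_zpow]
  have hoz : orderOf z = p := orderOf_eq_prime hzp hz1
  have heq : Subgroup.zpowers z = Subgroup.zpowers c := by
    apply Subgroup.eq_of_le_of_card_ge (Subgroup.zpowers_le.mpr hzc)
    rw [Nat.card_zpowers, Nat.card_zpowers, hoz, hoc]
  rw [heq]
  exact hM5 g h

/-- A finite group in which every nontrivial subgroup is self-normalizing is commutative. -/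
theorem comm_of_all_selfnormalizing {S : Type*} [Group S] [Finite S]
    (h : ∀ X : Subgroup S, X ≠ ⊥ → normalizer (X : Set S) = X) : ∀ a b : S, a * b = b * a := by
  by_cases hS : Nat.card S = 1
  · have := (Nat.card_eq_one_iff_unique.mp hS).1
    intro a b; exact Subsingleton.elim _ _
  obtain ⟨q, hq⟩ : ∃ q, q = (Nat.card S).minFac := ⟨_, rfl⟩
  haveI : Fact q.Prime := ⟨hq ▸ Nat.minFac_prime hS⟩
  have hqd : q ∣ Nat.card S := hq ▸ Nat.minFac_dvd _
  obtain ⟨Q⟩ : Nonempty (Sylow q S) := inferInstance
  have hQne : (Q : Subgroup S) ≠ ⊥ := Sylow.ne_bot_of_dvd_card Q hqd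
  haveI : Nontrivial (Q : Subgroup S) := (Subgroup.nontrivial_iff_ne_bot _).mpr hQne
  haveI hZnt : Nontrivial (center (Q : Subgroup S)) := Q.2.center_nontrivial
  obtain ⟨X, hX⟩ : ∃ X : Subgroup S, X = (center (Q : Subgroup S)).map (Q : Subgroup S).subtype :=
    ⟨_, rfl⟩
  have hXmem : ∀ x : S, x ∈ X ↔ ∃ hx : x ∈ (Q : Subgroup S),
      (⟨x, hx⟩ : (Q : Subgroup S)) ∈ center (Q : Subgroup S) := by
    intro x
    rw [hX, Subgroup.mem_map]
    constructor
    · rintro ⟨w, hw, rfl⟩
      exact ⟨w.2, hw⟩
    · rintro ⟨hx, hw⟩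
      exact ⟨⟨x, hx⟩, hw, rfl⟩
  have hXne : X ≠ ⊥ := by
    obtain ⟨⟨w, hw⟩, hw1⟩ := exists_ne (1 : center (Q : Subgroup S))
    intro hXb
    have : (w : S) ∈ X := (hXmem _).mpr ⟨w.2, hw⟩
    rw [hXb, Subgroup.mem_bot] at this
    apply hw1
    ext
    exact this
  have key : ∀ y ∈ X, ∀ g ∈ (Q : Subgroup S), g * y * g⁻¹ = y := by
    intro y hy g hg
    obtain ⟨hyQ, hyc⟩ := (hXmem y).mp hy
    have := Subgroup.mem_center_iff.mp hyc ⟨g, hg⟩
    have h2 : g * y = y * g := congrArg Subtype.val this
    rw [h2, mul_inv_cancel_right]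
  have hQX : (Q : Subgroup S) ≤ X := by
    rw [← h X hXne]
    intro g hg
    rw [Subgroup.mem_normalizer_iff]
    intro x
    constructor
    · intro hx
      have hx' : x ∈ X := hx
      show g * x * g⁻¹ ∈ X
      rw [key x hx' g hg]; exact hx'
    · intro hx
      have hx' : g * x * g⁻¹ ∈ X := hx
      have := key _ hx' g⁻¹ (inv_mem hg)
      have e : g⁻¹ * (g * x * g⁻¹) * g⁻¹⁻¹ = x := by group
      rw [e] at this
      show x ∈ X
      rw [this]; exact hx'
  have hQcomm : ∀ a ∈ (Q : Subgroup S), ∀ b ∈ (Q : Subgroup S), a * b = b * a := by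
    intro a ha b hb
    obtain ⟨_, hac⟩ := (hXmem a).mp (hQX ha)
    have := Subgroup.mem_center_iff.mp hac ⟨b, hb⟩
    exact (congrArg Subtype.val this).symm
  have hle : normalizer ((Q : Subgroup S) : Set S) ≤ centralizer ((Q : Subgroup S) : Set S) := by
    rw [h _ hQne]
    intro g hg
    rw [Subgroup.mem_centralizer_iff]
    intro y hy
    exact hQcomm y hy g hg
  have hK := MonoidHom.ker_transferSylow_isComplement' Q hle
  obtain ⟨K, hKdef⟩ : ∃ K : Subgroup S, K = (MonoidHom.transferSylow Q hle).ker := ⟨_, rfl⟩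
  rw [← hKdef] at hK
  haveI : K.Normal := by rw [hKdef]; infer_instance
  have hQtop : (Q : Subgroup S) = ⊤ := by
    by_cases hKb : K = ⊥
    · have := hK.sup_eq_top
      rwa [hKb, bot_sup_eq] at this
    · exfalso
      have h1 := h K hKb
      rw [Subgroup.normalizer_eq_top] at h1
      have h2 := hK.disjoint
      rw [← h1, disjoint_iff, top_inf_eq] at h2
      exact hQne h2
  intro a b
  exact hQcomm a (by rw [hQtop]; trivial) b (by rw [hQtop]; trivial)

theorem result {G : Type*} [Group G] [Finite G] (hS : ∀ H : Subgroup G, ¬ IsMulCommutative H → Subgroup.normalizer (H : Set G) = H) :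
    Group.IsSolvable G ∨ IsSimpleGroup G := by
  classical
  by_contra hcon
  rw [not_or] at hcon
  obtain ⟨hns, hnsimp⟩ := hcon
  -- elementwise version
  have hS' : ∀ H : Subgroup G, (∃ a ∈ H, ∃ b ∈ H, a * b ≠ b * a) →
      normalizer (H : Set G) = H := by
    intro H ⟨a, ha, b, hb, hab⟩
    apply hS
    intro hc
    exact hab (isMulComm_iff.mp hc a ha b hb)
  have hnorm : ∀ K : Subgroup G, K.Normal → K ≠ ⊤ → ∀ a ∈ K, ∀ b ∈ K, a * b = b * a := by
    intro K hK hKt
    by_contra hcon
    push_neg at hcon
    obtain ⟨a, ha, b, hb, hab⟩ := hcon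
    have := hS' K ⟨a, ha, b, hb, hab⟩
    rw [Subgroup.normalizer_eq_top] at this
    exact hKt this.symm
  haveI : Nontrivial G := by
    by_contra h
    rw [not_nontrivial_iff_subsingleton] at h
    exact hns inferInstance
  obtain ⟨N0, hN0n, hN0b, hN0t⟩ : ∃ N0 : Subgroup G, N0.Normal ∧ N0 ≠ ⊥ ∧ N0 ≠ ⊤ := by
    by_contra h
    push_neg at h
    apply hnsimp
    refine { toNontrivial := inferInstance, eq_bot_or_eq_top_of_normal := ?_ }
    intro H hH
    by_cases hb : H = ⊥
    · left; exact hb
    · right; exact h H hH hb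
  by_cases hZ : center G = ⊥
  · -- Case B
    obtain ⟨N, hNdef⟩ : ∃ N : Subgroup G, N = centralizer (N0 : Set G) := ⟨_, rfl⟩
    haveI hNn : N.Normal := by rw [hNdef]; infer_instance
    have hNt : N ≠ ⊤ := by
      intro h
      rw [hNdef, Subgroup.centralizer_eq_top_iff_subset] at h
      apply hN0b
      rw [eq_bot_iff, ← hZ]
      exact h
    have hN0N : N0 ≤ N := by
      intro x hx
      rw [hNdef, Subgroup.mem_centralizer_iff]
      intro y hy
      exact hnorm N0 hN0n hN0t y hy x hx
    have hCN : centralizer (N : Set G) ≤ N := by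
      have h1 : (N0 : Set G) ⊆ (N : Set G) := hN0N
      have h2 := Subgroup.centralizer_le h1
      rw [← hNdef] at h2
      exact h2
    have hNcomm := hnorm N hNn hNt
    have hbig : ∀ H : Subgroup G, N ≤ H → H ≠ N → normalizer (H : Set G) = H := by
      intro H hNH hHN
      have : ∃ h ∈ H, h ∉ N := by
        by_contra hcon
        push_neg at hcon
        exact hHN (le_antisymm hcon hNH)
      obtain ⟨h, hhH, hhN⟩ := this
      by_contra hne
      apply hhN
      apply hCN
      rw [Subgroup.mem_centralizer_iff]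
      intro y hy
      by_contra hyh
      exact hne (hS' H ⟨y, hNH hy, h, hhH, hyh⟩)
    have hπs : Function.Surjective (QuotientGroup.mk' N) := QuotientGroup.mk'_surjective N
    have hall : ∀ X : Subgroup (G ⧸ N), X ≠ ⊥ → normalizer (X : Set (G ⧸ N)) = X := by
      intro X hX
      have h1 : N ≤ X.comap (QuotientGroup.mk' N) := by
        intro n hn
        rw [Subgroup.mem_comap]
        have : (QuotientGroup.mk' N) n = 1 := (QuotientGroup.eq_one_iff n).mpr hn
        rw [this]; exact one_mem _
      have h2 : X.comap (QuotientGroup.mk' N) ≠ N := by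
        intro h
        apply hX
        rw [← Subgroup.map_comap_eq_self_of_surjective hπs X, h, QuotientGroup.map_mk'_self]
      have h3 := hbig _ h1 h2
      apply Subgroup.comap_injective hπs
      rw [← h3]
      exact (Subgroup.comap_normalizer_eq_of_surjective X hπs)
    have hScomm := comm_of_all_selfnormalizing hall
    apply hns
    haveI : Group.IsSolvable N := Group.isSolvable_of_comm fun a b => Subtype.ext (hNcomm a a.2 b b.2)
    haveI : Group.IsSolvable (G ⧸ N) := Group.isSolvable_of_comm hScomm
    refine Group.isSolvable_of_ker_le_range N.subtype (QuotientGroup.mk' N) ?_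
    rw [QuotientGroup.ker_mk', Subgroup.range_subtype]
  · -- Case A
    -- G is perfect
    have hperf : _root_.commutator G = ⊤ := by
      by_contra hne
      have hc := hnorm (_root_.commutator G) inferInstance hne
      apply hns
      haveI : Group.IsSolvable (_root_.commutator G) :=
        Group.isSolvable_of_comm fun a b => Subtype.ext (hc a a.2 b b.2)
      refine Group.isSolvable_of_ker_le_range (_root_.commutator G).subtype
        (Abelianization.of : G →* Abelianization G) ?_
      rw [Abelianization.ker_of, Subgroup.range_subtype]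
    -- a central element of prime order
    haveI : Nontrivial (center G) := (Subgroup.nontrivial_iff_ne_bot _).mpr hZ
    have hcard1 : Nat.card (center G) ≠ 1 := by
      intro h
      have := (Nat.card_eq_one_iff_unique.mp h).1
      exact not_subsingleton (center G) this
    obtain ⟨p, hpdef⟩ : ∃ p, p = (Nat.card (center G)).minFac := ⟨_, rfl⟩
    haveI hpf : Fact p.Prime := ⟨hpdef ▸ Nat.minFac_prime hcard1⟩
    have hpd : p ∣ Nat.card (center G) := hpdef ▸ Nat.minFac_dvd _
    obtain ⟨z0, hz0⟩ := exists_prime_orderOf_dvd_card' p hpd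
    obtain ⟨z, hzdef⟩ : ∃ z : G, z = (z0 : G) := ⟨_, rfl⟩
    have hzc : z ∈ center G := hzdef ▸ z0.2
    have hzo : orderOf z = p := by rw [hzdef, Subgroup.orderOf_coe, hz0]
    have hz1 : z ≠ 1 := by
      intro h
      rw [h, orderOf_one] at hzo
      exact hpf.out.one_lt.ne hzo
    have hzcomm : ∀ g : G, g * z = z * g := fun g => Subgroup.mem_center_iff.mp hzc g
    -- Sylow subgroup containing z
    have hzp : IsPGroup p (Subgroup.zpowers z) := by
      apply IsPGroup.of_card (n := 1)
      rw [Nat.card_zpowers, hzo, pow_one]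
    obtain ⟨P, hzP⟩ := hzp.exists_le_sylow
    have hzP' : z ∈ (P : Subgroup G) := hzP (Subgroup.mem_zpowers z)
    -- transfer
    have htr : (⟨z, hzP'⟩ : (P : Subgroup G)) ∈ _root_.commutator (P : Subgroup G) := by
      set ϕ : (P : Subgroup G) →* Abelianization (P : Subgroup G) := Abelianization.of with hϕ
      have key : ∀ (k : ℕ) (g₀ : G), g₀⁻¹ * z ^ k * g₀ ∈ (P : Subgroup G) →
          g₀⁻¹ * z ^ k * g₀ = z ^ k := by
        intro k g₀ _
        have : g₀ * z ^ k = z ^ k * g₀ := Subgroup.mem_center_iff.mp (pow_mem hzc k) g₀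
        rw [mul_assoc, ← this, inv_mul_cancel_left]
      have h1 := MonoidHom.transfer_eq_pow ϕ z key
      have h2 : MonoidHom.transfer ϕ z = 1 := by
        have : z ∈ (MonoidHom.transfer ϕ).ker :=
          Abelianization.commutator_subset_ker _ (by rw [hperf]; trivial)
        exact this
      rw [h2] at h1
      have h3 : (⟨z ^ (P : Subgroup G).index, MonoidHom.transfer_eq_pow_aux z key⟩ :
          (P : Subgroup G)) ∈ _root_.commutator (P : Subgroup G) := by
        rw [← Abelianization.ker_of, MonoidHom.mem_ker]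
        exact h1.symm
      have hcop : ((P : Subgroup G).index).Coprime (orderOf z) := by
        rw [hzo, Nat.coprime_comm, Nat.Prime.coprime_iff_not_dvd hpf.out]
        exact P.not_dvd_index
      obtain ⟨m, hm⟩ := exists_pow_eq_self_of_coprime hcop
      have h4 := pow_mem h3 m
      have h5 : (⟨z ^ (P : Subgroup G).index, MonoidHom.transfer_eq_pow_aux z key⟩ :
          (P : Subgroup G)) ^ m = ⟨z, hzP'⟩ := by
        ext
        simpa using hm
      rwa [h5] at h4
    -- P is nonabelian
    have hPnc : ∃ a ∈ (P : Subgroup G), ∃ b ∈ (P : Subgroup G), a * b ≠ b * a := by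
      by_contra hcon
      push_neg at hcon
      have : _root_.commutator (P : Subgroup G) = ⊥ := by
        rw [_root_.commutator_def, Subgroup.commutator_eq_bot_iff_le_centralizer]
        intro x _
        rw [Subgroup.mem_centralizer_iff]
        intro y _
        exact Subtype.ext (hcon y y.2 x x.2)
      rw [this, Subgroup.mem_bot] at htr
      exact hz1 (congrArg Subtype.val htr)
    have hPbig : ∀ H : Subgroup G, (P : Subgroup G) ≤ H → normalizer (H : Set G) = H := by
      intro H hPH
      obtain ⟨a, ha, b, hb, hab⟩ := hPnc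
      exact hS' H ⟨a, hPH ha, b, hPH hb, hab⟩
    -- proper subgroups of P are abelian
    have hmin : ∀ H : Subgroup (P : Subgroup G), H ≠ ⊤ → ∀ a ∈ H, ∀ b ∈ H, a * b = b * a := by
      intro H hH a ha b hb
      by_contra hab
      haveI : Group.IsNilpotent (P : Subgroup G) := P.2.isNilpotent
      have hnc := Group.normalizerCondition_of_isNilpotent (G := (P : Subgroup G)) H
        (lt_top_iff_ne_top.mpr hH)
      obtain ⟨g, hgn, hgH⟩ := SetLike.exists_of_lt hnc
      have h1 : normalizer ((H.map (P : Subgroup G).subtype : Subgroup G) : Set G) =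
          H.map (P : Subgroup G).subtype := by
        apply hS'
        refine ⟨(a : G), ⟨a, ha, rfl⟩, (b : G), ⟨b, hb, rfl⟩, ?_⟩
        intro h
        exact hab (Subtype.ext h)
      have h2 : (g : G) ∈ normalizer ((H.map (P : Subgroup G).subtype : Subgroup G) : Set G) :=
        Subgroup.le_normalizer_map _ ⟨g, hgn, rfl⟩
      rw [h1] at h2
      obtain ⟨y, hy, hyg⟩ := h2
      have : y = g := Subtype.ext hyg
      exact hgH (this ▸ hy)
    have hcz : ∀ g h : (P : Subgroup G), ⁅g, h⁆ ∈ Subgroup.zpowers (⟨z, hzP'⟩ : (P : Subgroup G)) :=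
      comm_mem_zpowers P.2 hmin htr (fun h => hz1 (congrArg Subtype.val h))
    -- the quotient by M = ⟨z⟩
    obtain ⟨M, hMdef⟩ : ∃ M : Subgroup G, M = Subgroup.zpowers z := ⟨_, rfl⟩
    have hMc : M ≤ center G := by
      rw [hMdef, Subgroup.zpowers_le]; exact hzc
    haveI hMn : M.Normal := by
      refine ⟨fun n hn g => ?_⟩
      have : g * n = n * g := Subgroup.mem_center_iff.mp (hMc hn) g
      rw [this, mul_inv_cancel_right]
      exact hn
    have hMP : M ≤ (P : Subgroup G) := hMdef ▸ hzP
    have hczM : ∀ a ∈ (P : Subgroup G), ∀ b ∈ (P : Subgroup G), ⁅a, b⁆ ∈ M := by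
      intro a ha b hb
      obtain ⟨k, hk⟩ := Subgroup.mem_zpowers_iff.mp (hcz ⟨a, ha⟩ ⟨b, hb⟩)
      have : z ^ k = ⁅a, b⁆ := by
        have := congrArg Subtype.val hk
        simpa [commutatorElement_def] using this
      rw [hMdef, ← this]
      exact zpow_mem (Subgroup.mem_zpowers z) k
    obtain ⟨π, hπdef⟩ : ∃ π : G →* G ⧸ M, π = QuotientGroup.mk' M := ⟨_, rfl⟩
    have hπs : Function.Surjective π := hπdef ▸ QuotientGroup.mk'_surjective M
    have hπker : π.ker = M := hπdef ▸ QuotientGroup.ker_mk' M
    obtain ⟨Pb, hPbdef⟩ : ∃ Pb : Sylow p (G ⧸ M), Pb = P.mapSurjective hπs := ⟨_, rfl⟩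
    have hPbcoe : (Pb : Subgroup (G ⧸ M)) = (P : Subgroup G).map π := by
      rw [hPbdef, Sylow.coe_mapSurjective]
    have hPbcomm : ∀ x ∈ (Pb : Subgroup (G ⧸ M)), ∀ y ∈ (Pb : Subgroup (G ⧸ M)), x * y = y * x := by
      intro x hx y hy
      rw [hPbcoe] at hx hy
      obtain ⟨a, ha, rfl⟩ := hx
      obtain ⟨b, hb, rfl⟩ := hy
      rw [← commutatorElement_eq_one_iff_mul_comm, ← map_commutatorElement, ← MonoidHom.mem_ker,
        hπker]
      exact hczM a ha b hb
    have hPbnorm : normalizer ((Pb : Subgroup (G ⧸ M)) : Set (G ⧸ M)) = Pb := by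
      apply Subgroup.comap_injective hπs
      rw [Subgroup.comap_normalizer_eq_of_surjective _ hπs, hPbcoe, Subgroup.comap_map_eq, hπker,
        sup_eq_left.mpr hMP]
      exact hPbig _ le_rfl
    have hle : normalizer ((Pb : Subgroup (G ⧸ M)) : Set (G ⧸ M)) ≤
        centralizer ((Pb : Subgroup (G ⧸ M)) : Set (G ⧸ M)) := by
      rw [hPbnorm]
      intro g hg
      rw [Subgroup.mem_centralizer_iff]
      intro y hy
      exact hPbcomm y hy g hg
    have hK := MonoidHom.ker_transferSylow_isComplement' Pb hle
    have hKtop : (MonoidHom.transferSylow Pb hle).ker = ⊤ := by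
      rw [eq_top_iff]
      have h1 : _root_.commutator (G ⧸ M) = ⊤ := by
        rw [_root_.commutator_def]
        have := Subgroup.map_commutator (⊤ : Subgroup G) ⊤ π
        rw [Subgroup.map_top_of_surjective π hπs, ← _root_.commutator_def, hperf,
          Subgroup.map_top_of_surjective π hπs] at this
        exact this.symm
      rw [← h1, _root_.commutator_def, Subgroup.commutator_le]
      intro g₁ _ g₂ _
      rw [MonoidHom.mem_ker, map_commutatorElement, commutatorElement_eq_one_iff_mul_comm]
      exact Subtype.ext (hPbcomm _ (Subtype.mem _) _ (Subtype.mem _))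
    rw [hKtop] at hK
    have h2 := hK.disjoint
    rw [disjoint_iff, top_inf_eq, hPbcoe] at h2
    have h3 : (P : Subgroup G) ≤ M := by
      rw [← hπker]
      exact (Subgroup.map_eq_bot_iff _).mp h2
    obtain ⟨a, ha, b, hb, hab⟩ := hPnc
    apply hab
    exact (Subgroup.mem_center_iff.mp (hMc (h3 hb)) a)

end Cfsg.Agent.S4072
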