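import Mathlib
import Cfsg.Statements.S4074
import Cfsg.Agent.Lib.Lead.UniqueSubgroup
-- import your own Cfsg.Agent.* helpers here

set_option autoImplicit false
open Cfsg

namespace Cfsg.Agent.S4074

open DihedralGroup

/-- parity character for even `n` -/
def chi (n : ℕ) (hn : 2 ∣ n) : DihedralGroup n →* Multiplicative (ZMod 2) where
  toFun g := match g with
    | r i => Multiplicative.ofAdd (ZMod.castHom hn (ZMod 2) i)
    | sr i => Multiplicative.ofAdd (ZMod.castHom hn (ZMod 2) i)
  map_one' := by rw [one_def]; simp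
  map_mul' := by
    rintro (i | i) (j | j)
    · rw [r_mul_r]; simp only [map_add, ofAdd_add]
    · rw [r_mul_sr]; simp only [map_sub, CharTwo.sub_eq_add, ofAdd_add]; rw [mul_comm]
    · rw [sr_mul_r]; simp only [map_add, ofAdd_add]
    · rw [sr_mul_sr]; simp only [map_sub, CharTwo.sub_eq_add, ofAdd_add]; rw [mul_comm]

theorem chi_r (n : ℕ) (hn : 2 ∣ n) (i : ZMod n) :
    chi n hn (r i) = Multiplicative.ofAdd (ZMod.castHom hn (ZMod 2) i) := rfl

theorem chi_sr (n : ℕ) (hn : 2 ∣ n) (i : ZMod n) :
    chi n hn (sr i) = Multiplicative.ofAdd (ZMod.castHom hn (ZMod 2) i) := rfl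

theorem odd_case (n : ℕ) (hn : Odd n) (H : Subgroup (DihedralGroup n))
    (hH : ¬ IsMulCommutative H) :
    Subgroup.normalizer (H : Set (DihedralGroup n)) = H := by
  apply le_antisymm _ Subgroup.le_normalizer
  have hrefl : ∃ i, sr i ∈ H := by
    by_contra hne
    push Not at hne
    apply hH
    refine ⟨⟨fun a b => ?_⟩⟩
    apply Subtype.ext
    rw [Subgroup.coe_mul, Subgroup.coe_mul]
    obtain ⟨a, ha⟩ := a
    obtain ⟨b, hb⟩ := b
    cases a with
    | r i =>
      cases b with
      | r j => simp only; rw [r_mul_r, r_mul_r, add_comm]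
      | sr j => exact absurd hb (hne j)
    | sr i => exact absurd ha (hne i)
  obtain ⟨i, hi⟩ := hrefl
  have hrot : ∀ j, r j ∈ Subgroup.normalizer (H : Set (DihedralGroup n)) → r j ∈ H := by
    intro j hj
    rw [Subgroup.mem_normalizer_iff] at hj
    have h1 := (hj (sr i)).mp hi
    rw [inv_r, r_mul_sr, sr_mul_r] at h1
    have h2 := H.mul_mem hi h1
    rw [sr_mul_sr] at h2
    have h3 : r (2 * j) ∈ H := by
      have := H.inv_mem h2
      rw [inv_r] at this
      convert this using 2
      ring
    obtain ⟨k, hk⟩ := hn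
    have h4 : r j = (r (2 * j)) ^ (k + 1) := by
      rw [r_pow]
      congr 1
      have : ((2 * k + 1 : ℕ) : ZMod n) = 0 := by rw [← hk]; exact ZMod.natCast_self n
      push_cast at this ⊢
      linear_combination (-j) * this
    rw [h4]
    exact H.pow_mem h3 _
  intro g hg
  cases g with
  | r j => exact hrot j hg
  | sr j =>
    have h1 : sr j = sr i * r (j - i) := by rw [sr_mul_r]; congr 1; ring
    have h2 : r (j - i) ∈ Subgroup.normalizer (H : Set (DihedralGroup n)) := by
      have : r (j - i) = (sr i)⁻¹ * sr j := by rw [h1, inv_mul_cancel_left]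
      rw [this]
      exact Subgroup.mul_mem _ (Subgroup.inv_mem _ (Subgroup.le_normalizer hi)) hg
    rw [h1]
    exact H.mul_mem hi (hrot _ h2)

theorem four_case (H : Subgroup (DihedralGroup 4)) (hH : ¬ IsMulCommutative H) :
    Subgroup.normalizer (H : Set (DihedralGroup 4)) = H := by
  have hcard : Nat.card (DihedralGroup 4) = 2 ^ 3 := by rw [DihedralGroup.nat_card]; norm_num
  have hdvd : Nat.card H ∣ 2 ^ 3 := hcard ▸ Subgroup.card_subgroup_dvd_card H
  obtain ⟨k, hk, hk2⟩ := (Nat.dvd_prime_pow Nat.prime_two).mp hdvd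
  haveI : Fact (Nat.Prime 2) := ⟨Nat.prime_two⟩
  by_cases hk3 : k = 3
  · have htop : H = ⊤ := by
      apply Subgroup.eq_top_of_card_eq
      rw [hk2, hk3, hcard]
    rw [htop]
    exact Subgroup.normalizer_eq_top _
  · exfalso
    apply hH
    have := Cfsg.Agent.Lib.Lead.UniqueSubgroup.comm_of_card_le_sq (K := H) (p := 2) (n := k)
      (by omega) hk2
    exact ⟨⟨this⟩⟩

theorem even_case (n : ℕ) (hn : 6 ≤ n) (h2 : 2 ∣ n) :
    ∃ H : Subgroup (DihedralGroup n), ¬ IsMulCommutative H ∧
      Subgroup.normalizer (H : Set (DihedralGroup n)) ≠ H := by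
  refine ⟨(chi n h2).ker, ?_, ?_⟩
  · intro hc
    have hr : r (2 : ZMod n) ∈ (chi n h2).ker := by
      rw [MonoidHom.mem_ker, chi_r]
      have : (ZMod.castHom h2 (ZMod 2)) (2 : ZMod n) = 0 := by
        rw [map_ofNat]; rfl
      rw [this]; rfl
    have hs : sr (0 : ZMod n) ∈ (chi n h2).ker := by
      rw [MonoidHom.mem_ker, chi_sr, map_zero]; rfl
    have := hc.is_comm.comm (⟨_, hr⟩ : (chi n h2).ker) ⟨_, hs⟩
    have h3 := congrArg Subtype.val this
    rw [Subgroup.coe_mul, Subgroup.coe_mul] at h3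
    simp only at h3
    rw [r_mul_sr, sr_mul_r] at h3
    have h4 := sr.inj h3
    have h5 : ((4 : ℕ) : ZMod n) = 0 := by
      push_cast
      linear_combination -h4
    rw [ZMod.natCast_eq_zero_iff] at h5
    have := Nat.le_of_dvd (by norm_num) h5
    omega
  · rw [Subgroup.normalizer_eq_top _]
    intro htop
    have h1 : r (1 : ZMod n) ∈ (chi n h2).ker := htop ▸ Subgroup.mem_top _
    rw [MonoidHom.mem_ker, chi_r, map_one] at h1
    have : (1 : ZMod 2) = 0 := h1
    exact one_ne_zero this

/-- For n > 2, every non-abelian subgroup of the dihedral group of order 2n is self-normalizing if and only if n = 4 or n is odd. -/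
theorem result (n : ℕ) (hn : 2 < n) :
    (∀ H : Subgroup (DihedralGroup n), ¬ IsMulCommutative H → Subgroup.normalizer (H : Set (DihedralGroup n)) = H) ↔
    (n = 4 ∨ Odd n) := by
  constructor
  · intro h
    by_contra hcon
    push Not at hcon
    obtain ⟨h4, hodd⟩ := hcon
    rw [Nat.not_odd_iff_even] at hodd
    have heven : 2 ∣ n := even_iff_two_dvd.mp hodd
    have hn6 : 6 ≤ n := by
      obtain ⟨k, rfl⟩ := heven
      omega
    obtain ⟨H, hH1, hH2⟩ := even_case n hn6 heven
    exact hH2 (h H hH1)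
  · rintro (rfl | hodd) H hH
    · exact four_case H hH
    · exact odd_case n hodd H hH

end Cfsg.Agent.S4074
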