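-- Statement S4075: nilpotent groups whose non-abelian subgroups are self-normalizing.
import Cfsg.Statements.S4075

set_option autoImplicit false
open Cfsg

namespace Cfsg.Agent.S4075

theorem result {G : Type*} [Group G] [Finite G]
    [Group.IsNilpotent G] :
    (∀ H : Subgroup G, ¬ IsMulCommutative H → Subgroup.normalizer (H : Set G) = H) ↔
    (IsMulCommutative G ∨ (IsPrimePow (Nat.card G) ∧ ¬ IsMulCommutative G ∧ ∀ H : Subgroup G, H ≠ ⊤ → IsMulCommutative H)) := by
  classical
  constructor
  · intro hS
    -- every proper subgroup is abelian
    have hprop : ∀ H : Subgroup G, H ≠ ⊤ → IsMulCommutative H := by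
      intro H hH
      by_contra hna
      have h1 := hS H hna
      have h2 : H < Subgroup.normalizer (H : Set G) :=
        Group.normalizerCondition_of_isNilpotent H (lt_top_iff_ne_top.mpr hH)
      exact (ne_of_lt h2) h1.symm
    by_cases hc : IsMulCommutative G
    · exact Or.inl hc
    · refine Or.inr ⟨?_, hc, hprop⟩
      by_contra hpp
      apply hc
      -- all Sylow subgroups are proper, hence abelian
      have hsyl : ∀ (p : ℕ) [Fact p.Prime] (P : Sylow p G), IsMulCommutative (P : Subgroup G) := by
        intro p _ P
        apply hprop
        intro htop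
        apply hpp
        have hcard : Nat.card G = Nat.card (P : Subgroup G) := by
          rw [htop, Subgroup.card_top]
        obtain ⟨n, hn⟩ := IsPGroup.iff_card.mp P.2
        have hn0 : n ≠ 0 := by
          rintro rfl
          apply hc
          have h1 : Nat.card G = 1 := by rw [hcard, hn, pow_zero]
          have : Subsingleton G := (Nat.card_eq_one_iff_unique.mp h1).1
          exact ⟨⟨fun a b => Subsingleton.elim _ _⟩⟩
        rw [hcard, hn]
        exact (Fact.out : p.Prime).isPrimePow.pow hn0
      obtain ⟨e⟩ := ((Group.isNilpotent_of_finite_tfae (G := G)).out 0 4 rfl rfl).mp inferInstance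
      rw [isMulCommutative_iff]
      intro a b
      have hab : e.symm a * e.symm b = e.symm b * e.symm a := by
        funext p
        funext P
        have : Fact (p : ℕ).Prime := ⟨Nat.prime_of_mem_primeFactors p.2⟩
        have := hsyl p P
        exact (isMulCommutative_iff.mp this) _ _
      have := congrArg e hab
      simpa using this
  · rintro (hc | ⟨-, -, hprop⟩) H hH
    · exfalso
      apply hH
      rw [isMulCommutative_iff]
      intro a b
      exact Subtype.ext ((isMulCommutative_iff.mp hc) a.1 b.1)
    · have : H = ⊤ := by
        by_contra hne
        exact hH (hprop H hne)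
      rw [this]
      exact le_antisymm le_top (Subgroup.le_normalizer (H := ⊤))
  
end Cfsg.Agent.S4075
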