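import Cfsg.Statements.S4080
import Mathlib
import Cfsg.Agent.S0124
import Cfsg.Agent.Lib.Lead.MaxClass

set_option autoImplicit false
open Cfsg

namespace Cfsg.Agent.S4080

/-- an element of `ZMod (p ^ 2)` killed by `p` is a multiple of `p` -/
theorem exists_mul_of_smul_eq_zero {p : ℕ} [hp : Fact p.Prime] (u : ZMod (p ^ 2))
    (hu : p • u = 0) : ∃ k : ZMod (p ^ 2), p • k = u := by
  haveI : NeZero (p ^ 2) := ⟨pow_ne_zero 2 hp.out.ne_zero⟩
  have h1 : ((p * u.val : ℕ) : ZMod (p ^ 2)) = 0 := by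
    rw [Nat.cast_mul, ZMod.natCast_zmod_val, ← nsmul_eq_mul]; exact hu
  rw [ZMod.natCast_eq_zero_iff] at h1
  have h1' : p * p ∣ p * u.val := by rw [← pow_two]; exact h1
  have h2 : p ∣ u.val := Nat.dvd_of_mul_dvd_mul_left hp.out.pos h1'
  obtain ⟨k, hk⟩ := h2
  refine ⟨(k : ZMod (p ^ 2)), ?_⟩
  rw [nsmul_eq_mul, ← Nat.cast_mul, ← hk, ZMod.natCast_zmod_val]

/-- in a regular `p`-group an element of order `p` centralizes all `p`-th powers -/
theorem conj_pow_eq_of_regular {G : Type} [Group G] [Finite G] {p : ℕ} [Fact p.Prime]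
    (hreg : Cfsg.IsRegularPGroup p G) (A Y : G) (hAp : A ^ p = 1) : A * Y ^ p * A⁻¹ = Y ^ p := by
  have h1 : (A * Y * A⁻¹ * Y⁻¹) ^ p = 1 := by
    apply Cfsg.Agent.S0124.omega_exp_of_regular hreg
    have e : A * Y * A⁻¹ * Y⁻¹ = A * (Y * A * Y⁻¹)⁻¹ := by group
    rw [e]
    apply Subgroup.mul_mem
    · exact Subgroup.subset_closure hAp
    · apply Subgroup.inv_mem
      apply Subgroup.subset_closure
      show (Y * A * Y⁻¹) ^ p = 1
      rw [conj_pow, hAp, mul_one, mul_inv_cancel]
  have h2 := (Cfsg.Agent.Lib.Helper14.regular_pow_eq_iff p 1 (Nat.card G) G rfl hreg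
    (A * Y * A⁻¹) Y).mpr (by rw [pow_one]; exact h1)
  rw [pow_one, conj_pow] at h2
  exact h2

/-- Let p > 3 be a prime and L the direct product of two cyclic groups of order p². Every automorphism of L of order p fixes every element of order p of L. -/
theorem result {p : ℕ} [Fact p.Prime] (hp : 3 < p)
    (a : MulAut (Multiplicative (ZMod (p ^ 2) × ZMod (p ^ 2)))) (ha : orderOf a = p)
    (x : Multiplicative (ZMod (p ^ 2) × ZMod (p ^ 2))) (hx : orderOf x = p) : a x = x := by
  have hpp : p.Prime := Fact.out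
  have hp5 : 5 ≤ p := by
    rcases Nat.lt_or_ge p 5 with h | h
    · exfalso
      have h4 : p = 4 := by omega
      rw [h4] at hpp
      exact absurd hpp (by decide)
    · exact h
  haveI : NeZero (p ^ 2) := ⟨pow_ne_zero 2 hpp.ne_zero⟩
  -- `x` is a `p`-th power
  obtain ⟨y, hy⟩ : ∃ y : Multiplicative (ZMod (p ^ 2) × ZMod (p ^ 2)), y ^ p = x := by
    have hxp : x ^ p = 1 := by
      have := pow_orderOf_eq_one x
      rwa [hx] at this
    have h0 : p • Multiplicative.toAdd x = 0 := by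
      rw [← toAdd_pow, hxp]; rfl
    have h1 : p • (Multiplicative.toAdd x).1 = 0 := congrArg Prod.fst h0
    have h2 : p • (Multiplicative.toAdd x).2 = 0 := congrArg Prod.snd h0
    obtain ⟨k1, hk1⟩ := exists_mul_of_smul_eq_zero _ h1
    obtain ⟨k2, hk2⟩ := exists_mul_of_smul_eq_zero _ h2
    refine ⟨Multiplicative.ofAdd (k1, k2), ?_⟩
    rw [← ofAdd_nsmul]
    show Multiplicative.ofAdd (p • k1, p • k2) = x
    rw [hk1, hk2]
    rfl
  -- the semidirect product
  let Z := Subgroup.zpowers a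
  let φ : Z →* MulAut (Multiplicative (ZMod (p ^ 2) × ZMod (p ^ 2))) := Z.subtype
  let G := Multiplicative (ZMod (p ^ 2) × ZMod (p ^ 2)) ⋊[φ] Z
  have hcard : Nat.card G = p ^ 5 := by
    show Nat.card (Multiplicative (ZMod (p ^ 2) × ZMod (p ^ 2)) ⋊[φ] Z) = p ^ 5
    rw [SemidirectProduct.card]
    have h1 : Nat.card (Multiplicative (ZMod (p ^ 2) × ZMod (p ^ 2))) = p ^ 2 * p ^ 2 := by
      rw [Nat.card_congr Multiplicative.toAdd, Nat.card_prod, Nat.card_zmod]
    have h2 : Nat.card Z = p := by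
      show Nat.card (Subgroup.zpowers a) = p
      rw [Nat.card_zpowers, ha]
    rw [h1, h2]; ring
  haveI : Finite G := Nat.finite_of_card_ne_zero (by rw [hcard]; exact pow_ne_zero 5 hpp.ne_zero)
  have hPG : IsPGroup p G := IsPGroup.of_card hcard
  haveI : Group.IsNilpotent G := hPG.isNilpotent
  have hcl : (⊤ : Subgroup G).lowerCentralSeries (p - 1) = ⊥ := by
    rw [Subgroup.lowerCentralSeries_eq_bot_iff_nilpotencyClass_le]
    have := Cfsg.Agent.Lib.Lead.MaxClass.nilpotencyClass_le 5 G hcard (by norm_num)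
    omega
  have hreg : Cfsg.IsRegularPGroup p G :=
    ⟨hPG, fun u v n => Cfsg.Agent.S4209.regular_of_class_lt hpp hcl u v n⟩
  -- the elements
  let A : G := SemidirectProduct.inr ⟨a, Subgroup.mem_zpowers a⟩
  let Y : G := SemidirectProduct.inl y
  have hAp : A ^ p = 1 := by
    show (SemidirectProduct.inr (⟨a, Subgroup.mem_zpowers a⟩ : Z) : G) ^ p = 1
    rw [← map_pow]
    have : (⟨a, Subgroup.mem_zpowers a⟩ : Z) ^ p = 1 := by
      apply Subtype.ext
      show a ^ p = 1
      have := pow_orderOf_eq_one a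
      rwa [ha] at this
    rw [this, map_one]
  have hconj : A * Y * A⁻¹ = SemidirectProduct.inl (a y) := by
    have := SemidirectProduct.inl_aut (φ := φ) (⟨a, Subgroup.mem_zpowers a⟩ : Z) y
    show SemidirectProduct.inr (⟨a, Subgroup.mem_zpowers a⟩ : Z) * SemidirectProduct.inl y *
      (SemidirectProduct.inr (⟨a, Subgroup.mem_zpowers a⟩ : Z))⁻¹ = SemidirectProduct.inl (a y)
    rw [← map_inv]
    exact this.symm
  have h2 : A * Y ^ p * A⁻¹ = Y ^ p := conj_pow_eq_of_regular hreg A Y hAp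
  have h3 : Y ^ p = SemidirectProduct.inl x := by
    show (SemidirectProduct.inl y : G) ^ p = SemidirectProduct.inl x
    rw [← map_pow, hy]
  rw [h3] at h2
  have h4 := SemidirectProduct.inl_aut (φ := φ) (⟨a, Subgroup.mem_zpowers a⟩ : Z) x
  have h5 : (SemidirectProduct.inl (a x) : G) = SemidirectProduct.inl x := by
    have : A * SemidirectProduct.inl x * A⁻¹ = SemidirectProduct.inl (a x) := by
      show SemidirectProduct.inr (⟨a, Subgroup.mem_zpowers a⟩ : Z) * SemidirectProduct.inl x *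
        (SemidirectProduct.inr (⟨a, Subgroup.mem_zpowers a⟩ : Z))⁻¹ = SemidirectProduct.inl (a x)
      rw [← map_inv]
      exact h4.symm
    rw [← this]; exact h2
  exact SemidirectProduct.inl_injective h5

end Cfsg.Agent.S4080
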