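import Cfsg.Statements.S4084
import Mathlib

set_option autoImplicit false
open Cfsg

namespace Cfsg.Agent.S4084

/-- the centre of the centralizer of `x` -/
def zc {G : Type*} [Group G] (x : G) : Subgroup G :=
  Subgroup.centralizer ({x} : Set G) ⊓
    Subgroup.centralizer (Subgroup.centralizer ({x} : Set G) : Set G)

theorem mem_zc {G : Type*} [Group G] (x a : G) :
    a ∈ zc x ↔ Commute a x ∧ ∀ c : G, Commute c x → Commute a c := by
  unfold zc
  rw [Subgroup.mem_inf, Subgroup.mem_centralizer_iff, Subgroup.mem_centralizer_iff]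
  constructor
  · rintro ⟨h1, h2⟩
    refine ⟨(h1 x rfl).symm, fun c hc => ?_⟩
    have : c ∈ Subgroup.centralizer ({x} : Set G) := by
      rw [Subgroup.mem_centralizer_iff]
      intro y hy
      rw [Set.mem_singleton_iff] at hy
      subst hy
      exact hc.symm
    exact (h2 c this).symm
  · rintro ⟨h1, h2⟩
    refine ⟨fun y hy => ?_, fun c hc => ?_⟩
    · rw [Set.mem_singleton_iff] at hy
      subst hy
      exact h1.symm
    · have hc' : Commute c x := by
        have := (Subgroup.mem_centralizer_iff.mp hc) x rfl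
        exact this.symm
      exact (h2 c hc').symm

theorem one_direction {G H : Type*} [Group G] [Finite G] [Group H] [Finite H] (e : G ≃ H)
    (he : ∀ x y : G, Commute x y ↔ Commute (e x) (e y))
    {p q : ℕ} (hp : p.Prime) (hq : q.Prime) (hpq : p ≠ q) :
    (∃ g : G, orderOf g = p * q) → (∃ h : H, orderOf h = p * q) := by
  rintro ⟨g, hg⟩
  -- cardinalities agree
  have hcard : Nat.card (zc g) = Nat.card (zc (e g)) := by
    apply Nat.card_congr
    refine Equiv.subtypeEquiv e ?_
    intro a
    change a ∈ zc g ↔ e a ∈ zc (e g)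
    rw [mem_zc, mem_zc]
    constructor
    · rintro ⟨h1, h2⟩
      refine ⟨(he a g).mp h1, fun d hd => ?_⟩
      obtain ⟨c, rfl⟩ := e.surjective d
      exact (he a c).mp (h2 c ((he c g).mpr hd))
    · rintro ⟨h1, h2⟩
      refine ⟨(he a g).mpr h1, fun c hc => ?_⟩
      exact (he a c).mpr (h2 (e c) ((he c g).mp hc))
  -- g ∈ zc g
  have hgz : g ∈ zc g := by
    rw [mem_zc]
    exact ⟨Commute.refl g, fun c hc => hc.symm⟩
  have hle : Subgroup.zpowers g ≤ zc g := by
    rw [Subgroup.zpowers_le]; exact hgz
  have hdvd : p * q ∣ Nat.card (zc (e g)) := by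
    rw [← hcard, ← hg, ← Nat.card_zpowers]
    exact Subgroup.card_dvd_of_le hle
  haveI : Fact p.Prime := ⟨hp⟩
  haveI : Fact q.Prime := ⟨hq⟩
  obtain ⟨a, ha⟩ := exists_prime_orderOf_dvd_card' (G := zc (e g)) p ((dvd_mul_right p q).trans hdvd)
  obtain ⟨b, hb⟩ := exists_prime_orderOf_dvd_card' (G := zc (e g)) q ((dvd_mul_left q p).trans hdvd)
  have ha' : orderOf (a : H) = p := by rw [Subgroup.orderOf_coe]; exact ha
  have hb' : orderOf (b : H) = q := by rw [Subgroup.orderOf_coe]; exact hb
  have hcomm : Commute (a : H) (b : H) := by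
    have h1 := (mem_zc (e g) (a : H)).mp a.2
    have h2 := (mem_zc (e g) (b : H)).mp b.2
    exact h1.2 _ h2.1
  refine ⟨(a : H) * (b : H), ?_⟩
  rw [hcomm.orderOf_mul_eq_mul_orderOf_of_coprime, ha', hb']
  rw [ha', hb']
  exact (Nat.coprime_primes hp hq).mpr hpq

/-- Let G and H be finite groups whose commuting graphs are isomorphic: there is a bijection e : G → H with x, y commuting exactly when e(x), e(y) commute. Then G and H have the same prime graph: for distinct primes p, q, G has an element of order pq if and only if H does (and #G = #H, so the prime divisors agree). -/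
theorem result {G H : Type*} [Group G] [Finite G] [Group H] [Finite H] (e : G ≃ H)
    (he : ∀ x y : G, Commute x y ↔ Commute (e x) (e y))
    {p q : ℕ} (hp : p.Prime) (hq : q.Prime) (hpq : p ≠ q) :
    (∃ g : G, orderOf g = p * q) ↔ (∃ h : H, orderOf h = p * q) := by
  refine ⟨one_direction e he hp hq hpq, one_direction e.symm ?_ hp hq hpq⟩
  intro x y
  have := he (e.symm x) (e.symm y)
  simp only [Equiv.apply_symm_apply] at this
  exact this.symm

end Cfsg.Agent.S4084
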