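import Cfsg.Statements.S4086

set_option autoImplicit false
open Cfsg

namespace Cfsg.Agent.S4086

/-- In a cyclic group generated by `z` of order `n`, `z^a ∈ ⟨z^b⟩` as soon as `gcd b n ∣ a`. -/
theorem pow_mem_zpowers_pow {G : Type*} [Group G] (z : G) (a b : ℕ)
    (h : Nat.gcd b (orderOf z) ∣ a) : z ^ a ∈ Subgroup.zpowers (z ^ b) := by
  obtain ⟨t, rfl⟩ := h
  have hbez := Nat.gcd_eq_gcd_ab b (orderOf z)
  rw [Subgroup.mem_zpowers_iff]
  refine ⟨Nat.gcdA b (orderOf z) * t, ?_⟩
  have hg : z ^ ((Nat.gcd b (orderOf z) : ℕ) : ℤ) = (z ^ b) ^ (Nat.gcdA b (orderOf z)) := by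
    rw [hbez, zpow_add, zpow_mul, zpow_mul, zpow_natCast, zpow_natCast, pow_orderOf_eq_one,
      one_zpow, mul_one]
  rw [zpow_mul, ← hg, zpow_natCast, zpow_natCast, ← pow_mul]

theorem forward {G : Type*} [Group G] [Finite G]
    (h : ∀ g : G, g ≠ 1 → IsPrimePow (orderOf g)) (x y : G)
    (hc : IsCyclic ↥(Subgroup.closure ({x, y} : Set G))) :
    x ∈ Subgroup.zpowers y ∨ y ∈ Subgroup.zpowers x := by
  obtain ⟨g, hg⟩ := hc.exists_generator
  set z : G := (g : G) with hz
  have hmem : ∀ w : G, w ∈ Subgroup.closure ({x, y} : Set G) → w ∈ Subgroup.zpowers z := by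
    intro w hw
    obtain ⟨m, hm⟩ := Subgroup.mem_zpowers_iff.mp (hg ⟨w, hw⟩)
    rw [Subgroup.mem_zpowers_iff]
    refine ⟨m, ?_⟩
    have := congrArg Subtype.val hm
    simpa using this
  have hx : x ∈ Subgroup.zpowers z := hmem x (Subgroup.subset_closure (by simp))
  have hy : y ∈ Subgroup.zpowers z := hmem y (Subgroup.subset_closure (by simp))
  by_cases hz1 : z = 1
  · rw [hz1, Subgroup.zpowers_one_eq_bot, Subgroup.mem_bot] at hx
    left; rw [hx]; exact Subgroup.one_mem _
  · obtain ⟨p, k, hp, hk, hpk⟩ := h z hz1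
    obtain ⟨a, ha⟩ := (mem_powers_iff_mem_zpowers).mpr hx
    obtain ⟨b, hb⟩ := (mem_powers_iff_mem_zpowers).mpr hy
    have ha' : z ^ a = x := ha
    have hb' : z ^ b = y := hb
    obtain ⟨α, -, hα⟩ := (Nat.dvd_prime_pow hp.nat_prime).mp (hpk ▸ Nat.gcd_dvd_right a (orderOf z))
    obtain ⟨β, -, hβ⟩ := (Nat.dvd_prime_pow hp.nat_prime).mp (hpk ▸ Nat.gcd_dvd_right b (orderOf z))
    rcases le_total β α with hle | hle
    · left
      rw [← ha', ← hb']
      apply pow_mem_zpowers_pow
      rw [← hpk, hβ]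
      exact (pow_dvd_pow p hle).trans (hα ▸ Nat.gcd_dvd_left a (p ^ k))
    · right
      rw [← ha', ← hb']
      apply pow_mem_zpowers_pow
      rw [← hpk, hα]
      exact (pow_dvd_pow p hle).trans (hβ ▸ Nat.gcd_dvd_left b (p ^ k))

theorem backward {G : Type*} [Group G] [Finite G]
    (h : ∀ x y : G, IsCyclic ↥(Subgroup.closure ({x, y} : Set G)) →
      (x ∈ Subgroup.zpowers y ∨ y ∈ Subgroup.zpowers x)) (g : G) (hg : g ≠ 1) :
    IsPrimePow (orderOf g) := by
  set n := orderOf g with hn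
  have hn0 : n ≠ 0 := (orderOf_pos g).ne'
  have hn1 : n ≠ 1 := by rwa [hn, Ne, orderOf_eq_one_iff]
  set p := n.minFac with hp
  have hpp : p.Prime := Nat.minFac_prime hn1
  obtain ⟨k, m, hpm, hnm⟩ := Nat.exists_eq_pow_mul_and_not_dvd hn0 p hpp.ne_one
  by_cases hm1 : m = 1
  · rw [hm1, mul_one] at hnm
    have hk0 : k ≠ 0 := by
      rintro rfl
      rw [pow_zero] at hnm; exact hn1 hnm
    exact ⟨p, k, hpp.prime, Nat.pos_of_ne_zero hk0, hnm.symm⟩
  · exfalso
    have hk0 : k ≠ 0 := by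
      rintro rfl
      rw [pow_zero, one_mul] at hnm
      exact hpm (hnm ▸ Nat.minFac_dvd n)
    have hm0 : m ≠ 0 := by
      rintro rfl; rw [mul_zero] at hnm; exact hn0 hnm
    have hcop : Nat.Coprime (p ^ k) m := Nat.Coprime.pow_left k ((Nat.Prime.coprime_iff_not_dvd hpp).mpr hpm)
    have hpk1 : p ^ k ≠ 1 := by
      intro h1
      have := Nat.pow_eq_one.mp h1
      rcases this with h | h
      · exact hpp.ne_one h
      · exact hk0 h
    have hx : orderOf (g ^ (p ^ k)) = m := by
      rw [orderOf_pow_of_dvd (pow_ne_zero k hpp.ne_zero) (by rw [← hn, hnm]; exact dvd_mul_right _ _),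
        ← hn, hnm, Nat.mul_div_cancel_left _ (pow_pos hpp.pos k)]
    have hy : orderOf (g ^ m) = p ^ k := by
      rw [orderOf_pow_of_dvd hm0 (by rw [← hn, hnm]; exact dvd_mul_left _ _),
        ← hn, hnm, Nat.mul_div_cancel _ (Nat.pos_of_ne_zero hm0)]
    have hle : Subgroup.closure ({g ^ (p ^ k), g ^ m} : Set G) ≤ Subgroup.zpowers g := by
      rw [Subgroup.closure_le]
      rintro w (rfl | rfl)
      · exact Subgroup.pow_mem _ (Subgroup.mem_zpowers g) _
      · exact Subgroup.pow_mem _ (Subgroup.mem_zpowers g) _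
    have hcyc : IsCyclic ↥(Subgroup.closure ({g ^ (p ^ k), g ^ m} : Set G)) :=
      Subgroup.isCyclic_of_le hle
    rcases h _ _ hcyc with h1 | h1
    · have := orderOf_dvd_of_mem_zpowers h1
      rw [hx, hy] at this
      have : m ∣ Nat.gcd (p ^ k) m := Nat.dvd_gcd this dvd_rfl
      rw [hcop] at this
      exact hm1 (Nat.dvd_one.mp this)
    · have := orderOf_dvd_of_mem_zpowers h1
      rw [hx, hy] at this
      have : p ^ k ∣ Nat.gcd (p ^ k) m := Nat.dvd_gcd dvd_rfl this
      rw [hcop] at this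
      exact hpk1 (Nat.dvd_one.mp this)

/-- For a finite group G the following are equivalent: every non-identity element has prime-power order; whenever two elements generate a cyclic subgroup, one of them is a power of the other (the enhanced power graph of G coincides with its power graph). -/
theorem result {G : Type*} [Group G] [Finite G] :
    (∀ g : G, g ≠ 1 → IsPrimePow (orderOf g)) ↔
    (∀ x y : G, IsCyclic ↥(Subgroup.closure ({x, y} : Set G)) → (x ∈ Subgroup.zpowers y ∨ y ∈ Subgroup.zpowers x)) := by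
  exact ⟨fun h x y hc => forward h x y hc, fun h g hg => backward h g hg⟩

end Cfsg.Agent.S4086
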