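import Cfsg.Statements.S4089
import Mathlib
import Cfsg.Agent.Lib.Helper16.Subnormal
import Cfsg.Agent.Lib.Helper16.SubnormalPGroup
import Cfsg.Agent.S0010

set_option autoImplicit false
open Cfsg

namespace Cfsg.Agent.S4089

open Cfsg.Agent.Lib.Helper16

variable {G : Type*} [Group G] [Finite G] (p : ℕ) [Fact p.Prime]

/-- a `p`-subgroup `H ≤ L` is subnormal in `L` iff `H ≤ O_p(L)`. -/
theorem sn_iff {H L : Subgroup G} (hH : IsPGroup p H) (hHL : H ≤ L) :
    (H.subgroupOf L).IsSubnormal ↔ H ≤ opDown p L := by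
  constructor
  · intro hsn
    have h1 := le_pCore_of_isSubnormal_of_isPGroup p hsn hH.comap_subtype
    have h2 := Subgroup.map_mono (f := L.subtype) h1
    rwa [Subgroup.map_subgroupOf_eq_of_le hHL, map_pCore_eq_opDown] at h2
  · intro hle
    have hOL : opDown p L ≤ L := opDown_le p L
    have hOn : ((opDown p L).subgroupOf L).Normal :=
      (Subgroup.normal_subgroupOf_iff_le_normalizer hOL).mpr (le_normalizer_opDown p L)
    have hOp : IsPGroup p ((opDown p L).subgroupOf L) := (opDown_isPGroup p L).comap_subtype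
    have hle' : H.subgroupOf L ≤ (opDown p L).subgroupOf L := fun x hx => hle hx
    apply Subgroup.IsSubnormal.trans hle' _ hOn.isSubnormal
    exact isSubnormal_of_isPGroup hOp _

theorem le_normalizer_inf_self {R L : Subgroup G} (hLN : L ≤ Subgroup.normalizer (R : Set G)) :
    L ≤ Subgroup.normalizer ((R ⊓ L : Subgroup G) : Set G) := by
  intro x hx
  rw [Subgroup.mem_normalizer_iff]
  intro y
  have h1 := (Subgroup.mem_normalizer_iff.mp (hLN hx)) y
  have h2 : y ∈ L ↔ x * y * x⁻¹ ∈ L := by
    constructor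
    · intro hy
      exact L.mul_mem (L.mul_mem hx hy) (L.inv_mem hx)
    · intro hy
      have := L.mul_mem (L.mul_mem (L.inv_mem hx) hy) hx
      simpa [mul_assoc] using this
  rw [Subgroup.mem_inf, Subgroup.mem_inf, h1, h2]

theorem part1 (H : Subgroup G) (hH : IsPGroup p H) (g : G) :
    (H.subgroupOf (H ⊔ Subgroup.zpowers g)).IsSubnormal ↔
      ∃ R : Subgroup G, H ≤ R ∧ opDown p (Subgroup.normalizer (R : Set G)) = R ∧
        g ∈ Subgroup.normalizer (R : Set G) := by
  constructor
  · intro hsn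
    have hHL : H ≤ H ⊔ Subgroup.zpowers g := le_sup_left
    have hgL : g ∈ H ⊔ Subgroup.zpowers g :=
      (le_sup_right : Subgroup.zpowers g ≤ _) (Subgroup.mem_zpowers g)
    have h0 := (sn_iff p hH hHL).mp hsn
    let 𝓡 : Set (Subgroup G) :=
      {R | IsPGroup p R ∧ H ≤ R ∧ g ∈ Subgroup.normalizer (R : Set G)}
    have hne : 𝓡.Nonempty :=
      ⟨opDown p (H ⊔ Subgroup.zpowers g), opDown_isPGroup p _, h0,
        le_normalizer_opDown p _ hgL⟩
    obtain ⟨R, hR, hmax⟩ := Set.exists_max_image 𝓡 (fun R => Nat.card R) (Set.toFinite _) hne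
    have hle : R ≤ opDown p (Subgroup.normalizer (R : Set G)) :=
      le_opDown p Subgroup.le_normalizer le_rfl hR.1
    have hR' : opDown p (Subgroup.normalizer (R : Set G)) ∈ 𝓡 :=
      ⟨opDown_isPGroup p _, hR.2.1.trans hle, le_normalizer_opDown p _ hR.2.2⟩
    refine ⟨R, hR.2.1, ?_, hR.2.2⟩
    exact (Subgroup.eq_of_le_of_card_ge hle (hmax _ hR')).symm
  · rintro ⟨R, hHR, hrad, hg⟩
    have hRp : IsPGroup p R := hrad ▸ opDown_isPGroup p _
    have hLN : H ⊔ Subgroup.zpowers g ≤ Subgroup.normalizer (R : Set G) :=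
      sup_le (hHR.trans Subgroup.le_normalizer) (Subgroup.zpowers_le.mpr hg)
    apply (sn_iff p hH le_sup_left).mpr
    have : R ⊓ (H ⊔ Subgroup.zpowers g) ≤ opDown p (H ⊔ Subgroup.zpowers g) :=
      le_opDown p inf_le_right (le_normalizer_inf_self hLN) (hRp.to_le inf_le_left)
    exact (le_inf hHR le_sup_left).trans this

theorem rad_le (H R : Subgroup G) (hHR : H ≤ R)
    (hrad : opDown p (Subgroup.normalizer (R : Set G)) = R) :
    sInf {K : Subgroup G | ∃ Q : Sylow p G, H ≤ (Q : Subgroup G) ∧ K = (Q : Subgroup G)} ≤ R := by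
  have hRp : IsPGroup p R := hrad ▸ opDown_isPGroup p _
  have hRN : R ≤ Subgroup.normalizer (R : Set G) := Subgroup.le_normalizer
  have hQ : ∀ T : Sylow p (Subgroup.normalizer (R : Set G)),
      ∃ Q : Sylow p G, (T : Subgroup _).map (Subgroup.normalizer (R : Set G)).subtype ≤
        (Q : Subgroup G) := fun T => (T.2.map _).exists_le_sylow
  choose Q hQ using hQ
  have hRT : ∀ T : Sylow p (Subgroup.normalizer (R : Set G)),
      R ≤ (T : Subgroup _).map (Subgroup.normalizer (R : Set G)).subtype := by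
    intro T
    have hn : (R.subgroupOf (Subgroup.normalizer (R : Set G))).Normal :=
      (Subgroup.normal_subgroupOf_iff_le_normalizer hRN).mpr le_rfl
    have := normal_pgroup_le_sylow hn hRp.comap_subtype T
    have h2 := Subgroup.map_mono (f := (Subgroup.normalizer (R : Set G)).subtype) this
    rwa [Subgroup.map_subgroupOf_eq_of_le hRN] at h2
  set D : Subgroup G := ⨅ T : Sylow p (Subgroup.normalizer (R : Set G)), (Q T : Subgroup G) with hD
  have hID : sInf {K : Subgroup G | ∃ Q : Sylow p G, H ≤ (Q : Subgroup G) ∧ K = (Q : Subgroup G)}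
      ≤ D := by
    apply le_iInf
    intro T
    apply sInf_le
    exact ⟨Q T, (hHR.trans (hRT T)).trans (hQ T), rfl⟩
  have hRD : R ≤ D := le_iInf (fun T => (hRT T).trans (hQ T))
  have hDp : IsPGroup p D := (Q default).2.to_le (iInf_le _ default)
  have hDN : D ⊓ Subgroup.normalizer (R : Set G) ≤ R := by
    rintro x ⟨hxD, hxN⟩
    have hxT : ∀ T : Sylow p (Subgroup.normalizer (R : Set G)),
        (⟨x, hxN⟩ : Subgroup.normalizer (R : Set G)) ∈ (T : Subgroup _) := by
      intro T
      have hxQ : x ∈ (Q T : Subgroup G) := (iInf_le _ T : D ≤ _) hxD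
      have hp' : IsPGroup p ((Q T : Subgroup G).subgroupOf (Subgroup.normalizer (R : Set G))) :=
        (Q T).2.comap_subtype
      have hle : (T : Subgroup _) ≤
          (Q T : Subgroup G).subgroupOf (Subgroup.normalizer (R : Set G)) := by
        intro y hy
        exact hQ T ⟨y, hy, rfl⟩
      have := T.is_maximal' hp' hle
      rw [← this]
      exact hxQ
    have hcore : (⟨x, hxN⟩ : Subgroup.normalizer (R : Set G)) ∈
        Cfsg.pCore p (Subgroup.normalizer (R : Set G)) := by
      rw [Cfsg.Agent.S0010.result p]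
      exact Subgroup.mem_iInf.mpr hxT
    have : x ∈ (Cfsg.pCore p (Subgroup.normalizer (R : Set G))).map
        (Subgroup.normalizer (R : Set G)).subtype := ⟨⟨x, hxN⟩, hcore, rfl⟩
    rwa [map_pCore_eq_opDown, hrad] at this
  have hDR : D ≤ R := by
    by_contra hnot
    haveI : Group.IsNilpotent D := hDp.isNilpotent
    have hnc : NormalizerCondition D := Group.normalizerCondition_of_isNilpotent
    have hlt : R.subgroupOf D < ⊤ := by
      rw [lt_top_iff_ne_top]
      intro h
      apply hnot
      rwa [Subgroup.subgroupOf_eq_top] at h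
    have h1 := hnc _ hlt
    rw [← Subgroup.subgroupOf_normalizer_eq hRD] at h1
    have hle : (Subgroup.normalizer (R : Set G)).subgroupOf D ≤ R.subgroupOf D := by
      intro y hy
      exact hDN ⟨y.2, hy⟩
    exact absurd (lt_of_lt_of_le h1 hle) (lt_irrefl _)
  exact hID.trans hDR

end Cfsg.Agent.S4089

namespace Cfsg.Agent.S4089

open Cfsg.Agent.Lib.Helper16 in
/-- Let G be a finite group, p a prime and H a p-subgroup of G. Then the set of elements g of G such that H is subnormal in the subgroup generated by H and g is the union of the normalizers N_G(R) over the subgroups R of G containing H with R = O_p(N_G(R)); and this set does not change when H is replaced by the intersection of all Sylow p-subgroups of G containing H. -/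
theorem result {G : Type*} [Group G] [Finite G] (p : ℕ) [Fact p.Prime]
    (H : Subgroup G) (hH : IsPGroup p H) :
    {g : G | ((H).subgroupOf (H ⊔ Subgroup.zpowers g)).IsSubnormal} =
      {g : G | ∃ R : Subgroup G, H ≤ R ∧ (Cfsg.pCore p (Subgroup.normalizer (R : Set G))).map (Subgroup.normalizer (R : Set G)).subtype = R ∧ g ∈ Subgroup.normalizer (R : Set G)} ∧
    ∀ g : G, (((H).subgroupOf (H ⊔ Subgroup.zpowers g)).IsSubnormal ↔
      (((sInf {K : Subgroup G | ∃ Q : Sylow p G, H ≤ (Q : Subgroup G) ∧ K = (Q : Subgroup G)})).subgroupOf ((sInf {K : Subgroup G | ∃ Q : Sylow p G, H ≤ (Q : Subgroup G) ∧ K = (Q : Subgroup G)}) ⊔ Subgroup.zpowers g)).IsSubnormal) := by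
  constructor
  · ext g
    simp only [Set.mem_setOf_eq, map_pCore_eq_opDown]
    exact part1 p H hH g
  · intro g
    obtain ⟨Q0, hQ0⟩ := hH.exists_le_sylow
    have hIQ : sInf {K : Subgroup G | ∃ Q : Sylow p G, H ≤ (Q : Subgroup G) ∧ K = (Q : Subgroup G)}
        ≤ (Q0 : Subgroup G) := sInf_le ⟨Q0, hQ0, rfl⟩
    have hIp : IsPGroup p (sInf {K : Subgroup G | ∃ Q : Sylow p G, H ≤ (Q : Subgroup G) ∧
        K = (Q : Subgroup G)} : Subgroup G) := Q0.2.to_le hIQ
    have hHI : H ≤ sInf {K : Subgroup G | ∃ Q : Sylow p G, H ≤ (Q : Subgroup G) ∧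
        K = (Q : Subgroup G)} := by
      apply le_sInf
      rintro K ⟨Q, hQ, rfl⟩
      exact hQ
    rw [part1 p H hH g, part1 p _ hIp g]
    constructor
    · rintro ⟨R, hHR, hrad, hg⟩
      exact ⟨R, rad_le p H R hHR hrad, hrad, hg⟩
    · rintro ⟨R, hIR, hrad, hg⟩
      exact ⟨R, hHI.trans hIR, hrad, hg⟩

end Cfsg.Agent.S4089
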