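import Cfsg.Statements.S4090
import Cfsg.Agent.Lib.Helper23.SubnE

set_option autoImplicit false
open scoped BigOperators
open Cfsg

namespace Cfsg.Agent.S4090

/-- Let G be a finite p-solvable group, H a p-subgroup of G and P a Sylow p-subgroup, and fix a chain of normal subgroups 1 = M₀ ≤ M₁ ≤ ⋯ ≤ Mₙ = G of G each of whose factors is a p-group or a p'-group. Then the number of elements g of G such that H is subnormal in the subgroup generated by H and g equals the order of P times the product, over the factors Mᵢ₊₁/Mᵢ of order prime to p, of the order of the centralizer of H in Mᵢ₊₁/Mᵢ (counted as the number of u ∈ Mᵢ₊₁ with [h, u] ∈ Mᵢ for all h ∈ H, divided by the order of Mᵢ). -/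
theorem result {G : Type*} [Group G] [Finite G] (p : ℕ) [Fact p.Prime]
    (hG : Cfsg.IsPSolvable p G) (H : Subgroup G) (hH : IsPGroup p H) (P : Sylow p G)
    (n : ℕ) (M : Fin (n + 1) → Subgroup G) (h0 : M 0 = ⊥) (hn : M (Fin.last n) = ⊤) (hmono : Monotone M)
    (hnormal : ∀ i, (M i).Normal)
    (hfac : ∀ i : Fin n, (∃ m : ℕ, (M i.castSucc).relIndex (M i.succ) = p ^ m) ∨ ((M i.castSucc).relIndex (M i.succ)).Coprime p) :
    Nat.card {g : G // ((H).subgroupOf (H ⊔ Subgroup.zpowers g)).IsSubnormal} =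
      Nat.card (P : Subgroup G) *
        ∏ i : Fin n, (if ((M i.castSucc).relIndex (M i.succ)).Coprime p then
          Nat.card {u : G // u ∈ M i.succ ∧ ∀ h ∈ H, h * u * h⁻¹ * u⁻¹ ∈ M i.castSucc} / Nat.card (M i.castSucc)
          else 1) := by
  have hiff : ∀ g : G, ((H).subgroupOf (H ⊔ Subgroup.zpowers g)).IsSubnormal ↔
      ∃ R : Subgroup G, IsPGroup p R ∧ H ≤ R ∧ g ∈ Subgroup.normalizer (R : Set G) :=
    fun g => Cfsg.Agent.Lib.Helper23.SubnA.subn_iff p H hH g
  have hcard : Nat.card {g : G // ((H).subgroupOf (H ⊔ Subgroup.zpowers g)).IsSubnormal} =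
      Nat.card {g : G // ∃ R : Subgroup G, IsPGroup p R ∧ H ≤ R ∧
        g ∈ Subgroup.normalizer (R : Set G)} :=
    Nat.card_congr (Equiv.subtypeEquivRight hiff)
  obtain ⟨M', hM'⟩ : ∃ M' : ℕ → Subgroup G,
      M' = fun k => M ⟨min k n, Nat.lt_succ_of_le (min_le_right k n)⟩ := ⟨_, rfl⟩
  have hM'0 : M' 0 = ⊥ := by
    rw [hM', ← h0]
    show M ⟨min 0 n, _⟩ = M 0
    congr 1
    all_goals (first | (ext; simp) | simp)
  have hM'n : M' n = ⊤ := by
    rw [hM', ← hn]
    show M ⟨min n n, _⟩ = M (Fin.last n)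
    congr 1
    all_goals (first | (ext; simp) | simp)
  have hmono' : ∀ i < n, M' i ≤ M' (i + 1) := by
    intro i _
    rw [hM']
    apply hmono
    rw [Fin.le_def]
    exact min_le_min_right n (Nat.le_succ i)
  have hnormal' : ∀ i ≤ n, (M' i).Normal := by
    intro i _
    rw [hM']
    exact hnormal _
  have e1 : ∀ i : Fin n, M' (i : ℕ) = M i.castSucc := by
    intro i
    rw [hM']
    show M ⟨min (i : ℕ) n, _⟩ = M i.castSucc
    congr 1
    all_goals (first | (ext; simp) | simp)
  have e2 : ∀ i : Fin n, M' ((i : ℕ) + 1) = M i.succ := by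
    intro i
    rw [hM']
    show M ⟨min ((i : ℕ) + 1) n, _⟩ = M i.succ
    congr 1
    all_goals (first | (ext; simp) | simp)
  have hfac' : ∀ i < n, (∃ m : ℕ, (M' i).relIndex (M' (i + 1)) = p ^ m) ∨
      ((M' i).relIndex (M' (i + 1))).Coprime p := by
    intro i hi
    have := hfac ⟨i, hi⟩
    rw [← e1 ⟨i, hi⟩, ← e2 ⟨i, hi⟩] at this
    exact this
  have hmain := Cfsg.Agent.Lib.Helper23.SubnE.pSolvable_count (p := p) H P hH M' n hM'0 hM'n
    hmono' hnormal' hfac'
  rw [hcard, hmain]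
  congr 1
  rw [← Fin.prod_univ_eq_prod_range
    (fun j => Cfsg.Agent.Lib.Helper23.SubnE.fac (p := p) H (M' j) (M' (j + 1))) n]
  apply Finset.prod_congr rfl
  intro i _
  rw [e1 i, e2 i]
  rfl

end Cfsg.Agent.S4090
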