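import Cfsg.Statements.S4092
import Cfsg.Agent.Lib.Helper17.ThompsonOf
import Cfsg.Agent.Lib.Helper15.SylowIn
open Cfsg.Agent.Lib.Helper17

set_option autoImplicit false
open Cfsg

namespace Cfsg.Agent.S4092

/-- Let G be a finite group, p a prime and P a Sylow p-subgroup of G that is not normal in G. Then G has at least p·#P elements of p-power order (the identity included). -/
theorem result {G : Type*} [Group G] [Finite G] (p : ℕ) [Fact p.Prime]
    (P : Sylow p G) (hP : ¬ (P : Subgroup G).Normal) :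
    p * Nat.card (P : Subgroup G) ≤ Nat.card {g : G // ∃ k : ℕ, orderOf g = p ^ k} := by
  classical
  have hp : p.Prime := Fact.out
  haveI := Fintype.ofFinite G
  have hcardS : ∀ R : Sylow p G, Nat.card (R : Subgroup G) = Nat.card (P : Subgroup G) := fun R => by
    rw [Sylow.card_eq_multiplicity, Sylow.card_eq_multiplicity]
  have hlt : ∀ H K : Subgroup G, H < K → Nat.card H < Nat.card K := by
    intro H K hHK
    apply lt_of_le_of_ne (Subgroup.card_le_of_le hHK.le)
    intro h
    exact hHK.ne (Subgroup.eq_of_le_of_card_ge hHK.le h.ge)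
  -- another Sylow subgroup
  have hex : ∃ Q : Sylow p G, Q ≠ P := by
    by_contra hcon
    push_neg at hcon
    apply hP
    rw [← Subgroup.normalizer_eq_top_iff, eq_top_iff]
    intro g _
    exact Sylow.smul_eq_iff_mem_normalizer.mp (hcon (g • P))
  haveI : Nonempty {pq : Sylow p G × Sylow p G // pq.1 ≠ pq.2} :=
    let ⟨Q, hQ⟩ := hex; ⟨⟨(Q, P), hQ⟩⟩
  obtain ⟨⟨⟨P₁, P₂⟩, hne⟩, hmax⟩ := Finite.exists_max
    (fun pq : {pq : Sylow p G × Sylow p G // pq.1 ≠ pq.2} =>
      Nat.card ((pq.1.1 : Subgroup G) ⊓ (pq.1.2 : Subgroup G) : Subgroup G))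
  have hne' : P₁ ≠ P₂ := hne
  set D : Subgroup G := (P₁ : Subgroup G) ⊓ (P₂ : Subgroup G) with hD
  have hmax' : ∀ R R' : Sylow p G, R ≠ R' →
      Nat.card ((R : Subgroup G) ⊓ (R' : Subgroup G) : Subgroup G) ≤ Nat.card D :=
    fun R R' h => hmax ⟨(R, R'), h⟩
  have hD1 : D < (P₁ : Subgroup G) := by
    apply lt_of_le_of_ne inf_le_left
    intro h
    apply hne'
    have hle : (P₁ : Subgroup G) ≤ P₂ := by rw [← h]; exact inf_le_right
    exact Sylow.ext (P₁.3 P₂.2 hle).symm
  set A₁ : Subgroup G := (P₁ : Subgroup G) ⊓ Subgroup.normalizer (D : Set G) with hA₁def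
  have hA₁ : D < A₁ := Cfsg.Agent.Lib.Helper15.lt_inf_normalizer_of_lt _ _ P₁.2 hD1
  have hA₁p : IsPGroup p A₁ := P₁.2.to_le inf_le_left
  -- the action of A₁ on the Sylow subgroups containing D
  let sub : SubMulAction A₁ (Sylow p G) :=
    { carrier := {R | D ≤ (R : Subgroup G)}
      smul_mem' := by
        intro c R hR d hd
        have hc : (c : G) ∈ Subgroup.normalizer (D : Set G) := (Subgroup.mem_inf.mp c.2).2
        show d ∈ (((c : G) • R : Sylow p G) : Subgroup G)
        rw [mem_smul_sylow_iff]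
        apply hR
        have := (Subgroup.mem_normalizer_iff.mp hc ((c : G)⁻¹ * d * (c : G))).mpr
          (by simpa [mul_assoc] using hd)
        exact this }
  have hmod := hA₁p.card_modEq_card_fixedPoints sub
  have hfix : MulAction.fixedPoints A₁ sub = {⟨P₁, (inf_le_left : D ≤ P₁)⟩} := by
    ext ⟨R, hR⟩
    rw [MulAction.mem_fixedPoints, Set.mem_singleton_iff]
    constructor
    · intro h
      have h1 : R ∈ MulAction.fixedPoints A₁ (Sylow p G) := fun a => congrArg Subtype.val (h a)
      have h2 : A₁ ≤ R := hA₁p.sylow_mem_fixedPoints_iff.mp h1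
      by_contra hne''
      have hRne : R ≠ P₁ := fun h => hne'' (Subtype.ext h)
      have h3 := hmax' R P₁ hRne
      have h4 : A₁ ≤ (R : Subgroup G) ⊓ (P₁ : Subgroup G) := le_inf h2 inf_le_left
      have h5 := Subgroup.card_le_of_le h4
      have h6 := hlt D A₁ hA₁
      omega
    · intro h a
      have hRP : R = P₁ := congrArg Subtype.val h
      subst hRP
      have h1 : R ∈ MulAction.fixedPoints A₁ (Sylow p G) :=
        hA₁p.sylow_mem_fixedPoints_iff.mpr inf_le_left
      exact Subtype.ext (h1 a)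
  have hc1 : Nat.card (MulAction.fixedPoints A₁ sub) = 1 := by
    rw [hfix]; simp
  rw [hc1] at hmod
  have h2le : 2 ≤ Nat.card sub := by
    have hinj : Function.Injective (fun b : Bool =>
        (if b then ⟨P₁, (inf_le_left : D ≤ P₁)⟩ else ⟨P₂, (inf_le_right : D ≤ P₂)⟩ : sub)) := by
      intro a b hab
      cases a <;> cases b <;> simp at hab <;> first | rfl | (exfalso; exact hne' (by
        first | exact hab | exact hab.symm))
    have := Nat.card_le_card_of_injective _ hinj
    simpa using this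
  have hp1 : p + 1 ≤ Nat.card sub := by
    have h1 : Nat.card sub % p = 1 % p := hmod
    rw [Nat.mod_eq_of_lt hp.one_lt] at h1
    have h3 := Nat.div_add_mod (Nat.card sub) p
    rw [h1] at h3
    have h4 : 1 ≤ Nat.card sub / p := by
      by_contra hcon
      have h0 : Nat.card sub / p = 0 := Nat.lt_one_iff.mp (not_le.mp hcon)
      rw [h0, mul_zero, zero_add] at h3
      omega
    nlinarith
  -- counting
  haveI : Fintype sub := Fintype.ofFinite _
  have hcardF : ∀ H : Subgroup G, (Finset.univ.filter (· ∈ H)).card = Nat.card H := by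
    intro H
    rw [Nat.card_eq_fintype_card, Fintype.card_subtype]
  set m := Nat.card (P : Subgroup G) with hm
  set d := Nat.card D with hd
  set X : Finset G := Finset.univ.filter (fun g => ∃ k : ℕ, orderOf g = p ^ k) with hX
  have hXcard : X.card = Nat.card {g : G // ∃ k : ℕ, orderOf g = p ^ k} := by
    rw [Nat.card_eq_fintype_card, Fintype.card_subtype]
  have hpel : ∀ (R : Sylow p G) (g : G), g ∈ (R : Subgroup G) → ∃ k : ℕ, orderOf g = p ^ k := by
    intro R g hg
    obtain ⟨k, hk⟩ := (IsPGroup.iff_orderOf.mp R.2) ⟨g, hg⟩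
    exact ⟨k, by rw [← hk]; exact (Subgroup.orderOf_mk g hg).symm⟩
  set Df : Finset G := Finset.univ.filter (· ∈ D) with hDf
  let t : sub → Finset G := fun i => (Finset.univ.filter (· ∈ ((i : Sylow p G) : Subgroup G))) \ Df
  have htcard : ∀ i : sub, (t i).card = m - d := by
    intro i
    have hsub : Df ⊆ Finset.univ.filter (· ∈ ((i : Sylow p G) : Subgroup G)) := by
      intro g hg
      rw [Finset.mem_filter] at hg ⊢
      exact ⟨hg.1, i.2 hg.2⟩
    show ((Finset.univ.filter (· ∈ ((i : Sylow p G) : Subgroup G))) \ Df).card = m - d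
    rw [Finset.card_sdiff_of_subset hsub, hcardF, hcardF, hcardS]
  have hdisj : ∀ i ∈ (Finset.univ : Finset sub), ∀ j ∈ (Finset.univ : Finset sub), i ≠ j →
      Disjoint (t i) (t j) := by
    intro i _ j _ hij
    rw [Finset.disjoint_left]
    intro g hgi hgj
    simp only [t, Finset.mem_sdiff, Finset.mem_filter, Finset.mem_univ, true_and] at hgi hgj
    apply hgi.2
    have hij' : (i : Sylow p G) ≠ (j : Sylow p G) := fun h => hij (Subtype.ext h)
    have h3 := hmax' _ _ hij'
    have hDle : D ≤ ((i : Sylow p G) : Subgroup G) ⊓ ((j : Sylow p G) : Subgroup G) :=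
      le_inf i.2 j.2
    have heq := Subgroup.eq_of_le_of_card_ge hDle h3
    rw [hDf, Finset.mem_filter]
    refine ⟨Finset.mem_univ _, ?_⟩
    rw [heq]
    exact Subgroup.mem_inf.mpr ⟨hgi.1, hgj.1⟩
  have hbU : (Finset.univ : Finset sub).biUnion t ⊆ X \ Df := by
    intro g hg
    rw [Finset.mem_biUnion] at hg
    obtain ⟨i, _, hgi⟩ := hg
    simp only [t, Finset.mem_sdiff, Finset.mem_filter, Finset.mem_univ, true_and] at hgi
    rw [Finset.mem_sdiff, hX, Finset.mem_filter]
    exact ⟨⟨Finset.mem_univ _, hpel _ g hgi.1⟩, hgi.2⟩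
  have hDX : Df ⊆ X := by
    intro g hg
    rw [hDf, Finset.mem_filter] at hg
    rw [hX, Finset.mem_filter]
    exact ⟨Finset.mem_univ _, hpel P₁ g (inf_le_left (a := (P₁ : Subgroup G)) hg.2)⟩
  have hcount : Nat.card sub * (m - d) ≤ X.card - d := by
    have h1 := Finset.card_le_card hbU
    rw [Finset.card_biUnion hdisj, Finset.card_sdiff_of_subset hDX] at h1
    simp only [htcard, Finset.sum_const, Finset.card_univ, smul_eq_mul] at h1
    rw [hcardF, ← Nat.card_eq_fintype_card] at h1
    exact h1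
  have hdX : d ≤ X.card := by
    have := Finset.card_le_card hDX
    rwa [hcardF] at this
  -- m ≥ p * d
  have hmd : p * d ≤ m := by
    obtain ⟨a, ha⟩ := IsPGroup.iff_card.mp (P₁.2.to_le (inf_le_left : D ≤ P₁))
    obtain ⟨b, hb⟩ := IsPGroup.iff_card.mp P₁.2
    have h1 := hlt D P₁ hD1
    rw [ha, hb] at h1
    have hab : a < b := (Nat.pow_lt_pow_iff_right hp.one_lt).mp h1
    have : m = p ^ b := by rw [← hcardS P₁]; exact hb
    rw [this, hd, ha, ← pow_succ']
    exact Nat.pow_le_pow_right hp.pos hab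
  rw [← hXcard]
  have hdm : d ≤ m := le_trans (Nat.le_mul_of_pos_left d hp.pos) hmd
  have h7 : (p + 1) * (m - d) ≤ X.card - d :=
    le_trans (Nat.mul_le_mul_right _ hp1) hcount
  obtain ⟨e, he⟩ : ∃ e, m = d + e := ⟨m - d, by omega⟩
  have h8 : m - d = e := by omega
  rw [h8] at h7
  have h9 : (p + 1) * e + d ≤ X.card := by omega
  have h10 : p * m ≤ (p + 1) * e + d := by
    rw [he] at hmd ⊢
    nlinarith
  exact le_trans h10 h9

end Cfsg.Agent.S4092
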