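import Cfsg.Statements.S4153
import Mathlib

set_option autoImplicit false
open Cfsg
open scoped Pointwise

namespace Cfsg.Agent.S4153

theorem le_card_of_fibers {α β : Type*} [Finite α] [Finite β] (f : α → β) (k : ℕ)
    (h : ∀ b, k ≤ Nat.card {a : α // f a = b}) : Nat.card β * k ≤ Nat.card α := by
  classical
  haveI := Fintype.ofFinite β
  rw [Nat.card_congr (Equiv.sigmaFiberEquiv f).symm, Nat.card_sigma]
  calc Nat.card β * k = ∑ _b : β, k := by simp [Nat.card_eq_fintype_card]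
    _ ≤ _ := Finset.sum_le_sum (fun b _ => h b)

theorem card_eq_mul_of_fibers {α β : Type*} [Finite α] [Finite β] (f : α → β) (k : ℕ)
    (h : ∀ b, Nat.card {a : α // f a = b} = k) : Nat.card α = Nat.card β * k := by
  classical
  haveI := Fintype.ofFinite β
  rw [Nat.card_congr (Equiv.sigmaFiberEquiv f).symm, Nat.card_sigma]
  simp [h, Nat.card_eq_fintype_card]

section
variable {G : Type*} [Group G] (p : ℕ) [hp : Fact p.Prime]

/-- `p`-element predicate -/
def Pel (x : G) : Prop := ∃ k : ℕ, orderOf x = p ^ k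

variable {p}

theorem pel_of_pow {x : G} {a : ℕ} (h : x ^ (p ^ a) = 1) : Pel p x := by
  obtain ⟨j, _, hj⟩ := (Nat.dvd_prime_pow hp.out).1 (orderOf_dvd_of_pow_eq_one h)
  exact ⟨j, hj⟩

theorem pel_pow_eq {x : G} (h : Pel p x) : ∃ a : ℕ, x ^ (p ^ a) = 1 := by
  obtain ⟨k, hk⟩ := h
  exact ⟨k, by rw [← hk]; exact pow_orderOf_eq_one x⟩

theorem pel_map {H : Type*} [Group H] (f : G →* H) {x : G} (h : Pel p x) : Pel p (f x) := by
  obtain ⟨a, ha⟩ := pel_pow_eq h
  exact pel_of_pow (a := a) (by rw [← map_pow, ha, map_one])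

theorem pel_mul_of_commute {a b : G} (hc : Commute a b) (ha : Pel p a) (hb : Pel p b) :
    Pel p (a * b) := by
  obtain ⟨i, hi⟩ := pel_pow_eq ha
  obtain ⟨j, hj⟩ := pel_pow_eq hb
  apply pel_of_pow (a := i + j)
  rw [hc.mul_pow, pow_add, pow_mul, hi, one_pow, mul_comm (p ^ i) (p ^ j), pow_mul, hj, one_pow,
    one_mul]

theorem pel_inv {a : G} (ha : Pel p a) : Pel p a⁻¹ := by
  obtain ⟨k, hk⟩ := ha
  exact ⟨k, by rw [orderOf_inv, hk]⟩

variable [Finite G]

theorem pel_of_mem_sylow (Q : Sylow p G) {x : G} (hx : x ∈ Q) : Pel p x := by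
  obtain ⟨k, hk⟩ := (IsPGroup.iff_orderOf.mp Q.2) ⟨x, hx⟩
  exact ⟨k, by rw [← hk, Subgroup.orderOf_mk]⟩

theorem exists_sylow_mem {x : G} (hx : Pel p x) : ∃ Q : Sylow p G, x ∈ Q := by
  obtain ⟨k, hk⟩ := hx
  have h1 : IsPGroup p (Subgroup.zpowers x) :=
    IsPGroup.of_card (n := k) (by rw [Nat.card_zpowers, hk])
  obtain ⟨Q, hQ⟩ := h1.exists_le_sylow
  exact ⟨Q, hQ (Subgroup.mem_zpowers x)⟩

theorem mem_smul_sylow (g : G) (P : Sylow p G) (x : G) :
    x ∈ g • P ↔ g⁻¹ * x * g ∈ P := by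
  show x ∈ MulAut.conj g • (P : Subgroup G) ↔ _
  rw [Subgroup.mem_pointwise_smul_iff_inv_smul_mem, MulAut.smul_def, MulAut.conj_inv_apply]
  rfl

theorem central_pel_mem (P : Sylow p G) {n : G} (hn : n ∈ Subgroup.center G) (hpel : Pel p n) :
    n ∈ P := by
  obtain ⟨Q, hQ⟩ := exists_sylow_mem hpel
  obtain ⟨g, rfl⟩ := MulAction.exists_smul_eq G P Q
  rw [mem_smul_sylow] at hQ
  have h1 : g⁻¹ * n * g = n := by
    rw [mul_assoc, ← Subgroup.mem_center_iff.mp hn g, inv_mul_cancel_left]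
  rwa [h1] at hQ

theorem card_inf_conj (P Q : Sylow p G) (N : Subgroup G) [hN : N.Normal] :
    Nat.card ↥((Q : Subgroup G) ⊓ N) = Nat.card ↥((P : Subgroup G) ⊓ N) := by
  obtain ⟨g, rfl⟩ := MulAction.exists_smul_eq G P Q
  refine Nat.card_congr ⟨fun t => ⟨g⁻¹ * t.1 * g, ?_⟩, fun t => ⟨g * t.1 * g⁻¹, ?_⟩,
    fun t => ?_, fun t => ?_⟩
  · have ht := Subgroup.mem_inf.mp t.2
    refine Subgroup.mem_inf.mpr ⟨(mem_smul_sylow g P t.1).mp ht.1, ?_⟩
    have := hN.conj_mem t.1 ht.2 g⁻¹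
    simpa using this
  · have ht := Subgroup.mem_inf.mp t.2
    refine Subgroup.mem_inf.mpr ⟨(mem_smul_sylow g P _).mpr ?_, hN.conj_mem t.1 ht.2 g⟩
    have h1 : g⁻¹ * (g * t.1 * g⁻¹) * g = t.1 := by group
    rw [h1]; exact ht.1
  · apply Subtype.ext
    show g * (g⁻¹ * t.1 * g) * g⁻¹ = t.1
    group
  · apply Subtype.ext
    show g⁻¹ * (g * t.1 * g⁻¹) * g = t.1
    group

theorem lift_pel (N : Subgroup G) [N.Normal] (y : G ⧸ N) (hy : Pel p y) :
    ∃ x0 : G, Pel p x0 ∧ (x0 : G ⧸ N) = y := by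
  obtain ⟨x, rfl⟩ := QuotientGroup.mk_surjective y
  obtain ⟨a, m, hpm, ham⟩ :=
    Nat.exists_eq_pow_mul_and_not_dvd (orderOf_pos x).ne' p hp.out.ne_one
  obtain ⟨k, hk⟩ := hy
  have hcop : Nat.Coprime m (orderOf (x : G ⧸ N)) := by
    rw [hk]
    exact Nat.Coprime.pow_right k ((Nat.Prime.coprime_iff_not_dvd hp.out).2 hpm).symm
  obtain ⟨e, he⟩ := exists_pow_eq_self_of_coprime hcop
  refine ⟨(x ^ m) ^ e, pel_of_pow (a := a) ?_, ?_⟩
  · rw [← pow_mul, ← pow_mul, show m * (e * p ^ a) = orderOf x * e by rw [ham]; ring, pow_mul,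
      pow_orderOf_eq_one, one_pow]
  · rw [QuotientGroup.mk_pow, QuotientGroup.mk_pow]; exact he

theorem card_sylow_eq (P : Sylow p G) (N : Subgroup G) [N.Normal] (Pbar : Sylow p (G ⧸ N)) :
    Nat.card (P : Subgroup G) =
      Nat.card (Pbar : Subgroup (G ⧸ N)) * Nat.card ↥((P : Subgroup G) ⊓ N) := by
  have hπs : Function.Surjective (QuotientGroup.mk' N) := QuotientGroup.mk'_surjective N
  have h1 : Nat.card (Pbar : Subgroup (G ⧸ N)) =
      Nat.card ((P : Subgroup G).map (QuotientGroup.mk' N)) := by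
    have e1 := Sylow.card_eq_multiplicity Pbar
    have e2 := Sylow.card_eq_multiplicity (P.mapSurjective hπs)
    rw [Sylow.coe_mapSurjective] at e2
    exact e1.trans e2.symm
  rw [h1]
  apply card_eq_mul_of_fibers (fun x : (P : Subgroup G) =>
    (⟨(QuotientGroup.mk' N) x.1, Subgroup.mem_map_of_mem _ x.2⟩ :
      (P : Subgroup G).map (QuotientGroup.mk' N)))
  intro y
  obtain ⟨x1, hx1, hx1y⟩ := Subgroup.mem_map.mp y.2
  refine Nat.card_congr ⟨fun x => ⟨x1⁻¹ * x.1.1, ?_⟩, fun t => ⟨⟨x1 * t.1, ?_⟩, ?_⟩,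
    fun x => ?_, fun t => ?_⟩
  · refine Subgroup.mem_inf.mpr ⟨mul_mem (inv_mem hx1) x.1.2, ?_⟩
    have h2 : (QuotientGroup.mk' N) x.1.1 = y.1 := congrArg Subtype.val x.2
    rw [← QuotientGroup.eq_one_iff]
    show (QuotientGroup.mk' N) (x1⁻¹ * x.1.1) = 1
    rw [map_mul, map_inv, h2, hx1y, inv_mul_cancel]
  · exact mul_mem hx1 (Subgroup.mem_inf.mp t.2).1
  · apply Subtype.ext
    show (QuotientGroup.mk' N) (x1 * t.1) = y.1
    have h3 : (QuotientGroup.mk' N) t.1 = 1 :=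
      (QuotientGroup.eq_one_iff t.1).mpr (Subgroup.mem_inf.mp t.2).2
    rw [map_mul, h3, mul_one, hx1y]
  · apply Subtype.ext; apply Subtype.ext
    show x1 * (x1⁻¹ * x.1.1) = x.1.1
    group
  · apply Subtype.ext
    show x1⁻¹ * (x1 * t.1) = t.1
    group

end

theorem result {G : Type*} [Group G] [Finite G] (p : ℕ) [Fact p.Prime] (N : Subgroup G) [N.Normal]
    (P : Sylow p G) (Pbar : Sylow p (G ⧸ N)) :
    Nat.card {g : (G ⧸ N) // ∃ k : ℕ, orderOf g = p ^ k} * Nat.card (P : Subgroup G) ≤ Nat.card {g : G // ∃ k : ℕ, orderOf g = p ^ k} * Nat.card (Pbar : Subgroup (G ⧸ N)) ∧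
    (N ≤ Subgroup.center G → Nat.card {g : (G ⧸ N) // ∃ k : ℕ, orderOf g = p ^ k} * Nat.card (P : Subgroup G) = Nat.card {g : G // ∃ k : ℕ, orderOf g = p ^ k} * Nat.card (Pbar : Subgroup (G ⧸ N))) := by
  have hPcard := card_sylow_eq P N Pbar
  obtain ⟨s, hs⟩ : ∃ s, s = Nat.card ↥((P : Subgroup G) ⊓ N) := ⟨_, rfl⟩
  rw [← hs] at hPcard
  let f : {g : G // Pel p g} → {y : G ⧸ N // Pel p y} :=
    fun x => ⟨(QuotientGroup.mk' N) x.1, pel_map _ x.2⟩
  have hmk : ∀ t : G, t ∈ N → (QuotientGroup.mk' N) t = 1 :=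
    fun t ht => (QuotientGroup.eq_one_iff t).mpr ht
  constructor
  · have h1 : Nat.card {y : G ⧸ N // Pel p y} * s ≤ Nat.card {g : G // Pel p g} := by
      apply le_card_of_fibers f
      intro y
      obtain ⟨x0, hx0, hx0y⟩ := lift_pel N y.1 y.2
      obtain ⟨Q, hQ⟩ := exists_sylow_mem hx0
      rw [hs, ← card_inf_conj P Q N]
      apply Nat.card_le_card_of_injective (fun t : ↥((Q : Subgroup G) ⊓ N) =>
        (⟨⟨x0 * t.1, pel_of_mem_sylow Q (mul_mem hQ (Subgroup.mem_inf.mp t.2).1)⟩, by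
          apply Subtype.ext
          show (QuotientGroup.mk' N) (x0 * t.1) = y.1
          rw [map_mul, hmk t.1 (Subgroup.mem_inf.mp t.2).2, mul_one]
          exact hx0y⟩ : {x : {g : G // Pel p g} // f x = y}))
      intro t t' htt
      have h2 : x0 * t.1 = x0 * t'.1 :=
        congrArg (fun z : {x : {g : G // Pel p g} // f x = y} => z.1.1) htt
      exact Subtype.ext (mul_left_cancel h2)
    show Nat.card {y : G ⧸ N // Pel p y} * Nat.card (P : Subgroup G) ≤
      Nat.card {g : G // Pel p g} * Nat.card (Pbar : Subgroup (G ⧸ N))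
    rw [hPcard]
    calc Nat.card {y : G ⧸ N // Pel p y} * (Nat.card (Pbar : Subgroup (G ⧸ N)) * s)
        = Nat.card {y : G ⧸ N // Pel p y} * s * Nat.card (Pbar : Subgroup (G ⧸ N)) := by ring
      _ ≤ _ := Nat.mul_le_mul_right _ h1
  · intro hNc
    have h1 : Nat.card {g : G // Pel p g} = Nat.card {y : G ⧸ N // Pel p y} * s := by
      apply card_eq_mul_of_fibers f
      intro y
      obtain ⟨x0, hx0, hx0y⟩ := lift_pel N y.1 y.2
      rw [hs]
      refine Nat.card_congr ⟨fun x => ⟨x0⁻¹ * x.1.1, ?_⟩, fun t => ⟨⟨x0 * t.1, ?_⟩, ?_⟩,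
        fun x => ?_, fun t => ?_⟩
      · have h2 : (QuotientGroup.mk' N) x.1.1 = y.1 :=
          congrArg (fun z : {y : G ⧸ N // Pel p y} => z.1) x.2
        have hnN : x0⁻¹ * x.1.1 ∈ N := by
          rw [← QuotientGroup.eq_one_iff]
          show (QuotientGroup.mk' N) (x0⁻¹ * x.1.1) = 1
          rw [map_mul, map_inv, h2]
          show ((x0 : G ⧸ N))⁻¹ * y.1 = 1
          rw [hx0y, inv_mul_cancel]
        have hnc := hNc hnN
        refine Subgroup.mem_inf.mpr ⟨?_, hnN⟩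
        apply central_pel_mem P hnc
        have hcomm : Commute x0⁻¹ x.1.1 := by
          have h3 : x.1.1 = x0 * (x0⁻¹ * x.1.1) := by group
          have h4 : Commute x0 (x0⁻¹ * x.1.1) := (Subgroup.mem_center_iff.mp hnc x0)
          have h5 : Commute x0 x.1.1 := by
            rw [h3]; exact (Commute.refl x0).mul_right h4
          exact h5.inv_left
        exact pel_mul_of_commute hcomm (pel_inv hx0) x.1.2
      · have ht := Subgroup.mem_inf.mp t.2
        have hcomm : Commute x0 t.1 := (Subgroup.mem_center_iff.mp (hNc ht.2) x0)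
        exact pel_mul_of_commute hcomm hx0 (pel_of_mem_sylow P ht.1)
      · apply Subtype.ext
        show (QuotientGroup.mk' N) (x0 * t.1) = y.1
        rw [map_mul, hmk t.1 (Subgroup.mem_inf.mp t.2).2, mul_one]
        exact hx0y
      · apply Subtype.ext; apply Subtype.ext
        show x0 * (x0⁻¹ * x.1.1) = x.1.1
        group
      · apply Subtype.ext
        show x0⁻¹ * (x0 * t.1) = t.1
        group
    show Nat.card {y : G ⧸ N // Pel p y} * Nat.card (P : Subgroup G) =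
      Nat.card {g : G // Pel p g} * Nat.card (Pbar : Subgroup (G ⧸ N))
    rw [hPcard, h1]; ring

end Cfsg.Agent.S4153
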