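import Cfsg.Statements.S4093
import Cfsg.Agent.S4153
import Mathlib

set_option autoImplicit false
open Cfsg
open scoped Pointwise

namespace Cfsg.Agent.S4093

open Cfsg.Agent.S4153

theorem card_eq_finsum_fibers {α β : Type*} [Finite α] [Finite β] (f : α → β) :
    Nat.card α = ∑ᶠ b, Nat.card {a : α // f a = b} := by
  classical
  haveI := Fintype.ofFinite β
  rw [finsum_eq_sum_of_fintype, Nat.card_congr (Equiv.sigmaFiberEquiv f).symm, Nat.card_sigma]

theorem result {G : Type*} [Group G] [Finite G] (p : ℕ) [Fact p.Prime]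
    (P : Sylow p G) (N : Subgroup G) [N.Normal] (hNP : N.IsComplement' (P : Subgroup G)) :
    Nat.card {g : G // ∃ k : ℕ, orderOf g = p ^ k} =
      ∑ᶠ x : (P : Subgroup G), Nat.card N / Nat.card ↥(N ⊓ Subgroup.centralizer ({(x : G)} : Set G)) := by
  have hN : N.Normal := inferInstance
  have hC : Subgroup.IsComplement (N : Set G) ((P : Subgroup G) : Set G) := hNP
  -- the `P`-component
  let f : G → (P : Subgroup G) := fun g => (hC.equiv g).2
  have hf_mul : ∀ n : G, n ∈ N → ∀ x : (P : Subgroup G), f (n * x.1) = x := by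
    intro n hn x
    have h1 : hC.equiv.symm (⟨n, hn⟩, x) = n * x.1 := rfl
    show (hC.equiv (n * x.1)).2 = x
    rw [← h1, Equiv.apply_symm_apply]
  have hf_conj : ∀ n : G, n ∈ N → ∀ x : (P : Subgroup G), f (n * x.1 * n⁻¹) = x := by
    intro n hn x
    have h1 : n * x.1 * n⁻¹ = (n * (x.1 * n⁻¹ * x.1⁻¹)) * x.1 := by group
    rw [h1]
    exact hf_mul _ (mul_mem hn (hN.conj_mem _ (inv_mem hn) _)) x
  have hdecomp : ∀ h : G, ∃ n ∈ N, ∃ x : (P : Subgroup G), h = n * x.1 := by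
    intro h
    exact ⟨(hC.equiv h).1.1, (hC.equiv h).1.2, (hC.equiv h).2,
      (hC.equiv_fst_mul_equiv_snd h).symm⟩
  have hsurj : ∀ g : G, Pel p g → ∃ n ∈ N, g = n * (f g).1 * n⁻¹ := by
    intro g hg
    obtain ⟨Q, hQ⟩ := exists_sylow_mem hg
    obtain ⟨h, rfl⟩ := MulAction.exists_smul_eq G P Q
    rw [mem_smul_sylow] at hQ
    obtain ⟨n0, hn0, x0, rfl⟩ := hdecomp h
    have hx' : x0.1 * ((n0 * x0.1)⁻¹ * g * (n0 * x0.1)) * x0.1⁻¹ ∈ (P : Subgroup G) :=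
      mul_mem (mul_mem x0.2 hQ) (inv_mem x0.2)
    have hg' : g = n0 * (x0.1 * ((n0 * x0.1)⁻¹ * g * (n0 * x0.1)) * x0.1⁻¹) * n0⁻¹ := by group
    refine ⟨n0, hn0, ?_⟩
    have h2 := hf_conj n0 hn0 ⟨_, hx'⟩
    rw [← hg'] at h2
    rw [h2]
    exact hg'
  have hpel_conj : ∀ (n : G) (x : (P : Subgroup G)), Pel p (n * x.1 * n⁻¹) := by
    intro n x
    obtain ⟨a, ha⟩ := pel_pow_eq (pel_of_mem_sylow P x.2)
    exact pel_of_pow (a := a) (by rw [conj_pow, ha, mul_one, mul_inv_cancel])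
  -- sum over fibres
  show Nat.card {g : G // Pel p g} = _
  rw [card_eq_finsum_fibers (fun g : {g : G // Pel p g} => f g.1)]
  apply finsum_congr
  intro x
  -- orbit map
  let F : N → {g : {g : G // Pel p g} // f g.1 = x} :=
    fun n => ⟨⟨n.1 * x.1 * n.1⁻¹, hpel_conj n.1 x⟩, hf_conj n.1 n.2 x⟩
  have hFsurj : Function.Surjective F := by
    intro g
    obtain ⟨n, hn, hg⟩ := hsurj g.1.1 g.1.2
    have hfx : f g.1.1 = x := g.2
    rw [hfx] at hg
    exact ⟨⟨n, hn⟩, Subtype.ext (Subtype.ext hg.symm)⟩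
  have hcard : Nat.card N = Nat.card {g : {g : G // Pel p g} // f g.1 = x} *
      Nat.card ↥(N ⊓ Subgroup.centralizer ({(x : G)} : Set G)) := by
    apply card_eq_mul_of_fibers F
    intro g
    obtain ⟨n0, rfl⟩ := hFsurj g
    have hval : ∀ n : N, F n = F n0 ↔ n.1 * x.1 * n.1⁻¹ = n0.1 * x.1 * n0.1⁻¹ := by
      intro n
      constructor
      · intro h
        exact congrArg (fun z : {g : {g : G // Pel p g} // f g.1 = x} => z.1.1) h
      · intro h
        exact Subtype.ext (Subtype.ext h)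
    refine Nat.card_congr ⟨fun n => ⟨n0.1⁻¹ * n.1.1, ?_⟩, fun t => ⟨⟨n0.1 * t.1, ?_⟩, ?_⟩,
      fun n => ?_, fun t => ?_⟩
    · refine Subgroup.mem_inf.mpr ⟨mul_mem (inv_mem n0.2) n.1.2, ?_⟩
      rw [Subgroup.mem_centralizer_singleton_iff]
      have h1 := (hval n.1).mp n.2
      calc n0.1⁻¹ * n.1.1 * x.1 = n0.1⁻¹ * (n.1.1 * x.1 * n.1.1⁻¹) * n.1.1 := by group
        _ = n0.1⁻¹ * (n0.1 * x.1 * n0.1⁻¹) * n.1.1 := by rw [h1]
        _ = x.1 * (n0.1⁻¹ * n.1.1) := by group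
    · exact mul_mem n0.2 (Subgroup.mem_inf.mp t.2).1
    · rw [hval]
      have h1 : t.1 * x.1 = x.1 * t.1 :=
        Subgroup.mem_centralizer_singleton_iff.mp (Subgroup.mem_inf.mp t.2).2
      show n0.1 * t.1 * x.1 * (n0.1 * t.1)⁻¹ = n0.1 * x.1 * n0.1⁻¹
      calc n0.1 * t.1 * x.1 * (n0.1 * t.1)⁻¹ = n0.1 * (t.1 * x.1) * t.1⁻¹ * n0.1⁻¹ := by group
        _ = n0.1 * (x.1 * t.1) * t.1⁻¹ * n0.1⁻¹ := by rw [h1]
        _ = n0.1 * x.1 * n0.1⁻¹ := by group
    · apply Subtype.ext; apply Subtype.ext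
      show n0.1 * (n0.1⁻¹ * n.1.1) = n.1.1
      group
    · apply Subtype.ext
      show n0.1⁻¹ * (n0.1 * t.1) = t.1
      group
  rw [hcard]
  exact (Nat.mul_div_cancel _ Nat.card_pos).symm

end Cfsg.Agent.S4093
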