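import Cfsg.Statements.S4106
import Mathlib
import Cfsg.Agent.Lib.Helper2.NilpotentCoprime
import Cfsg.Agent.S0566

set_option autoImplicit false

namespace Cfsg.Agent.S4106

open Cfsg.Agent.Lib.Helper2

/-- the classes of `π`-elements -/
abbrev PiClasses (G : Type*) [Group G] (π : Set ℕ) : Type _ :=
  {C : ConjClasses G // ∀ q : ℕ, q.Prime →
    (∃ g : G, ConjClasses.mk g = C ∧ q ∣ orderOf g) → q ∈ π}

theorem orderOf_eq_of_mk_eq {G : Type*} [Group G] {g h : G}
    (e : ConjClasses.mk g = ConjClasses.mk h) : orderOf g = orderOf h := by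
  rw [ConjClasses.mk_eq_mk_iff_isConj, isConj_iff] at e
  obtain ⟨c, hc⟩ := e
  rw [← hc]
  exact (orderOf_injective (MulAut.conj c).toMonoidHom (MulAut.conj c).injective g).symm

theorem mk_mem {G : Type*} [Group G] {π : Set ℕ} {x : G}
    (hx : ∀ q : ℕ, q.Prime → q ∣ orderOf x → q ∈ π) :
    ∀ q : ℕ, q.Prime → (∃ g : G, ConjClasses.mk g = ConjClasses.mk x ∧ q ∣ orderOf g) → q ∈ π := by
  rintro q hq ⟨g, hg, hqg⟩
  rw [orderOf_eq_of_mk_eq hg] at hqg
  exact hx q hq hqg

/-- `[v] ↦ [u v]` from classes of `C_G(u)` to classes of `G` -/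
def phi {G : Type*} [Group G] (u : G) :
    ConjClasses ↥(Subgroup.centralizer ({u} : Set G)) → ConjClasses G :=
  Quotient.lift (fun v => ConjClasses.mk (u * (v : G))) (by
    intro v w hvw
    have hvw' : IsConj v w := hvw
    rw [ConjClasses.mk_eq_mk_iff_isConj]
    obtain ⟨c, hc⟩ := isConj_iff.mp hvw'
    rw [isConj_iff]
    refine ⟨(c : G), ?_⟩
    have hcu : (c : G) * u = u * (c : G) := Subgroup.mem_centralizer_singleton_iff.mp c.2
    have hc' : (c : G) * (v : G) * (c : G)⁻¹ = (w : G) := by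
      have := congrArg Subtype.val hc
      simpa using this
    calc (c : G) * (u * (v : G)) * (c : G)⁻¹
        = ((c : G) * u) * (v : G) * (c : G)⁻¹ := by group
      _ = (u * (c : G)) * (v : G) * (c : G)⁻¹ := by rw [hcu]
      _ = u * ((c : G) * (v : G) * (c : G)⁻¹) := by group
      _ = u * (w : G) := by rw [hc'])

theorem phi_mk {G : Type*} [Group G] (u : G) (v : ↥(Subgroup.centralizer ({u} : Set G))) :
    phi u (ConjClasses.mk v) = ConjClasses.mk (u * (v : G)) := rfl

theorem phi_mem {G : Type*} [Group G] [Finite G] (p : ℕ) (hp : p.Prime) (π : Set ℕ) (hpπ : p ∈ π)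
    (u : G) (hu : ∃ k, orderOf u = p ^ k)
    (C' : ConjClasses ↥(Subgroup.centralizer ({u} : Set G)))
    (hC' : ∀ q : ℕ, q.Prime → (∃ g, ConjClasses.mk g = C' ∧ q ∣ orderOf g) → q ∈ π \ {p}) :
    ∀ q : ℕ, q.Prime → (∃ g : G, ConjClasses.mk g = phi u C' ∧ q ∣ orderOf g) → q ∈ π := by
  obtain ⟨v, rfl⟩ := ConjClasses.exists_rep C'
  rw [phi_mk]
  apply mk_mem
  intro q hq hqd
  obtain ⟨k, hk⟩ := hu
  have hcomm : Commute u (v : G) := (Subgroup.mem_centralizer_singleton_iff.mp v.2).symm
  have hvπ : ∀ q : ℕ, q.Prime → q ∣ orderOf (v : G) → q ∈ π \ {p} := by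
    intro q hq hqv
    rw [Subgroup.orderOf_coe] at hqv
    exact hC' q hq ⟨v, rfl, hqv⟩
  have hcop : (orderOf u).Coprime (orderOf (v : G)) := by
    rw [hk]
    apply Nat.Coprime.pow_left
    rw [Nat.Prime.coprime_iff_not_dvd hp]
    intro hpv
    exact (hvπ p hp hpv).2 rfl
  rw [hcomm.orderOf_mul_eq_mul_orderOf_of_coprime hcop] at hqd
  rcases (Nat.Prime.dvd_mul hq).mp hqd with h | h
  · rw [hk] at h
    have := (Nat.prime_dvd_prime_iff_eq hq hp).mp (hq.dvd_of_dvd_pow h)
    rw [this]; exact hpπ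
  · exact (hvπ q hq h).1

theorem main.{u} : ∀ m : ℕ, ∀ (G : Type u) [Group G] [Finite G] (π : Set ℕ), 0 < m →
    (∀ q ∈ π, q.Prime → ∀ k : ℕ, q ^ k ∣ Nat.card G → q ^ k ∣ m) →
    Nat.card (PiClasses G π) ≤ m := by
  intro m
  induction m using Nat.strong_induction_on with
  | _ m ih =>
    intro G _ _ π hm hyp
    classical
    by_cases hex : ∃ p ∈ π, p.Prime ∧ p ∣ Nat.card G
    · obtain ⟨p, hpπ, hp, hpG⟩ := hex
      haveI : Fact p.Prime := ⟨hp⟩
      obtain ⟨P⟩ : Nonempty (Sylow p G) := inferInstance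
      have hPcard : Nat.card (P : Subgroup G) = p ^ (Nat.card G).factorization p :=
        Sylow.card_eq_multiplicity P
      have ha : (Nat.card G).factorization p ≠ 0 := by
        intro h0
        have := (Nat.factorization_eq_zero_iff _ _).mp h0
        rcases this with h | h | h
        · exact h hp
        · exact h hpG
        · exact Nat.card_pos.ne' h
      have hcm : Nat.card (P : Subgroup G) ∣ m := by
        rw [hPcard]
        apply hyp p hpπ hp
        rw [← hPcard]
        exact Subgroup.card_subgroup_dvd_card _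
      have hc2 : 1 < Nat.card (P : Subgroup G) := by
        rw [hPcard]; exact Nat.one_lt_pow ha hp.one_lt
      obtain ⟨m', hm'⟩ := hcm
      have hm'pos : 0 < m' := by
        rcases Nat.eq_zero_or_pos m' with h | h
        · rw [h, mul_zero] at hm'; omega
        · exact h
      have hm'lt : m' < m := by
        rw [hm']; nlinarith
      have hPelt : ∀ u : ↥(P : Subgroup G), ∃ k, orderOf (u : G) = p ^ k := by
        intro u
        obtain ⟨k, hk⟩ := P.2 u
        rw [Subgroup.orderOf_coe]
        exact (Nat.dvd_prime_pow hp).mp (orderOf_dvd_of_pow_eq_one hk) |>.imp fun j hj => hj.2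
      -- bound for centralizers
      have hbound : ∀ u : ↥(P : Subgroup G),
          Nat.card (PiClasses ↥(Subgroup.centralizer ({(u : G)} : Set G)) (π \ {p})) ≤ m' := by
        intro u
        apply ih m' hm'lt _ _ hm'pos
        intro q hq hqp k hqk
        have h1 : q ^ k ∣ Nat.card G := hqk.trans (Subgroup.card_subgroup_dvd_card _)
        have h2 : q ^ k ∣ Nat.card (P : Subgroup G) * m' := by
          rw [← hm']; exact hyp q hq.1 hqp k h1
        refine Nat.Coprime.dvd_of_dvd_mul_left ?_ h2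
        rw [hPcard]
        apply Nat.Coprime.pow
        rw [Nat.coprime_primes hqp hp]
        exact hq.2
      -- the surjection
      let Φ : (Σ u : ↥(P : Subgroup G),
          PiClasses ↥(Subgroup.centralizer ({(u : G)} : Set G)) (π \ {p})) → PiClasses G π :=
        fun x => ⟨phi (x.1 : G) x.2.1, phi_mem p hp π hpπ (x.1 : G) (hPelt x.1) x.2.1 x.2.2⟩
      have hΦ : Function.Surjective Φ := by
        rintro ⟨C, hC⟩
        obtain ⟨x, rfl⟩ := ConjClasses.exists_rep C
        have hxπ : ∀ q : ℕ, q.Prime → q ∣ orderOf x → q ∈ π := fun q hq hqx =>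
          hC q hq ⟨x, rfl, hqx⟩
        obtain ⟨a, b, ha, hb, hxab, ⟨k, hak⟩, hbp⟩ := exists_p_decomp x p hp
        have hab : a * b = b * a := by
          obtain ⟨i, rfl⟩ := Subgroup.mem_zpowers_iff.mp ha
          obtain ⟨j, rfl⟩ := Subgroup.mem_zpowers_iff.mp hb
          exact (Commute.zpow_zpow_self x i j).eq
        have hzp : IsPGroup p ↥(Subgroup.zpowers a) := by
          obtain ⟨j, _, hj⟩ := (Nat.dvd_prime_pow hp).mp hak
          apply IsPGroup.of_card (n := j)
          rw [Nat.card_zpowers, hj]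
        obtain ⟨Q, hQ⟩ := hzp.exists_le_sylow
        obtain ⟨g, hg⟩ := MulAction.exists_smul_eq G P Q
        have haQ : a ∈ (Q : Subgroup G) := hQ (Subgroup.mem_zpowers a)
        rw [← hg, Sylow.coe_subgroup_smul, Cfsg.Agent.S0566.mem_conj_smul] at haQ
        -- u = g⁻¹ a g, v = g⁻¹ b g
        have hv : g⁻¹ * b * g ∈ Subgroup.centralizer ({g⁻¹ * a * g} : Set G) := by
          rw [Subgroup.mem_centralizer_singleton_iff]
          calc g⁻¹ * b * g * (g⁻¹ * a * g) = g⁻¹ * (b * a) * g := by group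
            _ = g⁻¹ * (a * b) * g := by rw [hab]
            _ = g⁻¹ * a * g * (g⁻¹ * b * g) := by group
        have hvπ : ∀ q : ℕ, q.Prime →
            (∃ w, ConjClasses.mk w = ConjClasses.mk
              (⟨g⁻¹ * b * g, hv⟩ : ↥(Subgroup.centralizer ({g⁻¹ * a * g} : Set G))) ∧
              q ∣ orderOf w) → q ∈ π \ {p} := by
          apply mk_mem
          intro q hq hqv
          rw [← Subgroup.orderOf_coe] at hqv
          have hob : orderOf (g⁻¹ * b * g) = orderOf b := by
            have := orderOf_injective (MulAut.conj g⁻¹).toMonoidHom (MulAut.conj g⁻¹).injective b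
            simpa using this
          have hqv' : q ∣ orderOf b := by
            have : q ∣ orderOf (g⁻¹ * b * g) := hqv
            rwa [hob] at this
          refine ⟨hxπ q hq (hqv'.trans (orderOf_dvd_of_mem_zpowers hb)), ?_⟩
          intro hqp
          have hqp' : q = p := hqp
          rw [hqp'] at hqv'
          have := Nat.Coprime.eq_one_of_dvd hbp.symm hqv'
          exact hp.one_lt.ne' this
        refine ⟨⟨⟨g⁻¹ * a * g, haQ⟩, ⟨ConjClasses.mk ⟨g⁻¹ * b * g, hv⟩, hvπ⟩⟩, ?_⟩
        apply Subtype.ext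
        show phi (g⁻¹ * a * g) (ConjClasses.mk ⟨g⁻¹ * b * g, hv⟩) = ConjClasses.mk x
        rw [phi_mk, ConjClasses.mk_eq_mk_iff_isConj, isConj_iff]
        refine ⟨g, ?_⟩
        rw [hxab]
        group
      haveI : Fintype ↥(P : Subgroup G) := Fintype.ofFinite _
      calc Nat.card (PiClasses G π)
          ≤ Nat.card (Σ u : ↥(P : Subgroup G),
              PiClasses ↥(Subgroup.centralizer ({(u : G)} : Set G)) (π \ {p})) :=
            Nat.card_le_card_of_surjective Φ hΦ
        _ = ∑ u : ↥(P : Subgroup G),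
              Nat.card (PiClasses ↥(Subgroup.centralizer ({(u : G)} : Set G)) (π \ {p})) := by
            exact Nat.card_sigma
        _ ≤ ∑ _u : ↥(P : Subgroup G), m' := Finset.sum_le_sum (fun u _ => hbound u)
        _ = Nat.card (P : Subgroup G) * m' := by
            rw [Finset.sum_const, Finset.card_univ, smul_eq_mul, Nat.card_eq_fintype_card]
        _ = m := hm'.symm
    · -- no prime of π divides |G|
      have hsub : Subsingleton (PiClasses G π) := by
        have key : ∀ C : PiClasses G π, C.1 = ConjClasses.mk 1 := by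
          rintro ⟨C, hC⟩
          obtain ⟨x, rfl⟩ := ConjClasses.exists_rep C
          by_cases hx : x = 1
          · show ConjClasses.mk x = ConjClasses.mk 1
            rw [hx]
          · exfalso
            have ho : orderOf x ≠ 1 := fun h => hx (orderOf_eq_one_iff.mp h)
            obtain ⟨q, hq, hqx⟩ := Nat.exists_prime_and_dvd ho
            exact hex ⟨q, hC q hq ⟨x, rfl, hqx⟩, hq, hqx.trans (orderOf_dvd_natCard x)⟩
        exact ⟨fun a b => Subtype.ext ((key a).trans (key b).symm)⟩
      have := Finite.card_le_one_iff_subsingleton.mpr hsub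
      omega

theorem result {G : Type*} [Group G] [Finite G]
    (π : Set ℕ) (hπ : ∀ q ∈ π, q.Prime)
    (m : ℕ) (hm : m ∣ Nat.card G) (hmπ : ∀ q : ℕ, q.Prime → q ∣ m → q ∈ π)
    (hm' : ∀ q ∈ π, ¬ q ∣ Nat.card G / m) :
    Nat.card {C : ConjClasses G // ∀ q : ℕ, q.Prime → (∃ g : G, ConjClasses.mk g = C ∧ q ∣ orderOf g) → q ∈ π} ≤ m := by
  have hm0 : 0 < m := Nat.pos_of_dvd_of_pos hm Nat.card_pos
  apply main m G π hm0
  intro q hqπ hq k hqk
  have h1 : Nat.card G = m * (Nat.card G / m) := (Nat.mul_div_cancel' hm).symm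
  rw [h1] at hqk
  refine Nat.Coprime.dvd_of_dvd_mul_right ?_ hqk
  apply Nat.Coprime.pow_left
  rw [Nat.Prime.coprime_iff_not_dvd hq]
  exact hm' q hqπ

end Cfsg.Agent.S4106
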