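import Cfsg.Statements.S4107
-- import your own Cfsg.Agent.* helpers here

set_option autoImplicit false
open Cfsg

namespace Cfsg.Agent.S4107

/-- Let G be a finite group and N a proper non-trivial normal subgroup such that for every x outside N all elements of the coset xN have the same order as x. Then N ≤ F(G) or F(G) ≤ N, where F(G) is the Fitting subgroup; and if N is properly contained in F(G) then F(G) has prime-power order. -/
theorem result {G : Type*} [Group G] [Finite G] (N : Subgroup G) [N.Normal] (hN1 : N ≠ ⊥) (hN2 : N ≠ ⊤)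
    (heq : ∀ x : G, x ∉ N → ∀ n ∈ N, orderOf (x * n) = orderOf x) :
    (N ≤ Cfsg.fittingSubgroup G ∨ Cfsg.fittingSubgroup G ≤ N) ∧
    (N < Cfsg.fittingSubgroup G → IsPrimePow (Nat.card (Cfsg.fittingSubgroup G))) := by
  classical
  -- Lemma A: a normal q-subgroup not inside N forces N to be a q-group
  have hA : ∀ (q : ℕ) [Fact q.Prime] (P₀ : Subgroup G) [P₀.Normal], IsPGroup q P₀ →
      ∀ y ∈ P₀, y ∉ N → IsPGroup q N := by
    intro q _ P₀ _ hP₀ y hy hyN
    obtain ⟨i, hi⟩ := hP₀ ⟨y, hy⟩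
    have hyi : y ^ (q ^ i) = 1 := by simpa using congrArg Subtype.val hi
    intro n
    have h1 : orderOf (y * n) = orderOf y := heq y hyN n n.2
    have h2 : (y * (n : G)) ^ (q ^ i) = 1 := by
      rw [← orderOf_dvd_iff_pow_eq_one, h1, orderOf_dvd_iff_pow_eq_one]; exact hyi
    have h3 : ((n : G) ^ (q ^ i)) ∈ P₀ := by
      have h4 : (((y * (n : G)) ^ (q ^ i) : G) : G ⧸ P₀) = 1 := by rw [h2]; rfl
      rw [QuotientGroup.mk_pow, QuotientGroup.mk_mul, (QuotientGroup.eq_one_iff y).2 hy, one_mul,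
        ← QuotientGroup.mk_pow] at h4
      exact (QuotientGroup.eq_one_iff _).1 h4
    obtain ⟨j, hj⟩ := hP₀ ⟨_, h3⟩
    have hj' : ((n : G) ^ (q ^ i)) ^ (q ^ j) = 1 := by simpa using congrArg Subtype.val hj
    refine ⟨i + j, ?_⟩
    apply Subtype.ext
    simp only [Subgroup.coe_pow, Subgroup.coe_one]
    rw [pow_add, pow_mul]; exact hj'
  -- Lemma 2: extracting an element of prime power order outside N
  have hP : ∀ x : G, x ∉ N → ∃ q : ℕ, q.Prime ∧ ∃ k : ℕ, x ^ k ∉ N ∧ ∃ j : ℕ, orderOf (x ^ k) = q ^ j := by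
    intro x hx
    have hxbar : (x : G ⧸ N) ≠ 1 := fun h => hx ((QuotientGroup.eq_one_iff x).1 h)
    have ho : orderOf (x : G ⧸ N) ≠ 1 := fun h => hxbar (orderOf_eq_one_iff.1 h)
    obtain ⟨q, hq, hqd⟩ := Nat.exists_prime_and_dvd ho
    obtain ⟨a, m, hqm, hxm⟩ := Nat.exists_eq_pow_mul_and_not_dvd (orderOf_pos x).ne' q hq.one_lt.ne'
    refine ⟨q, hq, m, ?_, a, ?_⟩
    · intro hmem
      have h1 : (x : G ⧸ N) ^ m = 1 := by
        rw [← QuotientGroup.mk_pow]; exact (QuotientGroup.eq_one_iff _).2 hmem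
      have h2 : orderOf (x : G ⧸ N) ∣ m := orderOf_dvd_of_pow_eq_one h1
      exact hqm (hqd.trans h2)
    · have hm0 : m ≠ 0 := by
        rintro rfl
        rw [mul_zero] at hxm
        exact (orderOf_pos x).ne' hxm
      rw [orderOf_pow' x hm0, hxm, Nat.gcd_eq_right (Dvd.intro_left _ rfl)]
      exact Nat.mul_div_cancel _ (Nat.pos_of_ne_zero hm0)
  -- Lemma B
  have hBB : ∀ (L : Subgroup G) [L.Normal], Group.IsNilpotent L → ∀ (q : ℕ) [Fact q.Prime],
      ∀ y ∈ L, y ∉ N → (∃ j : ℕ, orderOf y = q ^ j) → IsPGroup q N := by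
    intro L _ hL q _ y hyL hyN ⟨j, hj⟩
    haveI := hL
    obtain ⟨P⟩ := (Sylow.nonempty : Nonempty (Sylow q L))
    haveI hPn : (P : Subgroup L).Normal := inferInstance
    haveI : (P : Subgroup L).Characteristic := P.characteristic_of_normal hPn
    have hyP : (⟨y, hyL⟩ : L) ∈ (P : Subgroup L) := by
      have hz : IsPGroup q (Subgroup.zpowers (⟨y, hyL⟩ : L)) := by
        apply IsPGroup.of_card (n := j)
        rw [Nat.card_zpowers, Subgroup.orderOf_mk, hj]
      obtain ⟨Q, hQ⟩ := hz.exists_le_sylow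
      haveI := P.unique_of_normal hPn
      have : Q = P := Subsingleton.elim _ _
      rw [← this]; exact hQ (Subgroup.mem_zpowers _)
    exact hA q ((P : Subgroup L).map L.subtype) (P.isPGroup'.map L.subtype) y
      (Subgroup.mem_map.2 ⟨⟨y, hyL⟩, hyP, rfl⟩) hyN
  have hkey : ¬ Cfsg.fittingSubgroup G ≤ N → ∃ q : ℕ, q.Prime ∧ IsPGroup q N := by
    intro hF
    have : ∃ L : Subgroup G, (L.Normal ∧ Group.IsNilpotent L) ∧ ¬ L ≤ N := by
      by_contra hcon
      push Not at hcon
      exact hF (sSup_le (fun L hL => hcon L hL))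
    obtain ⟨L, ⟨hLn, hLnil⟩, hLN⟩ := this
    obtain ⟨x, hxL, hxN⟩ := SetLike.not_le_iff_exists.1 hLN
    obtain ⟨q, hq, k, hk, j, hj⟩ := hP x hxN
    haveI : Fact q.Prime := ⟨hq⟩
    haveI := hLn
    exact ⟨q, hq, hBB L hLnil q (x ^ k) (L.pow_mem hxL k) hk ⟨j, hj⟩⟩
  constructor
  · by_cases hF : Cfsg.fittingSubgroup G ≤ N
    · right; exact hF
    · left
      obtain ⟨q, hq, hNq⟩ := hkey hF
      haveI : Fact q.Prime := ⟨hq⟩
      apply le_sSup
      exact ⟨inferInstance, hNq.isNilpotent⟩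
  · intro hlt
    have hF : ¬ Cfsg.fittingSubgroup G ≤ N := not_le_of_gt hlt
    obtain ⟨p, hp, hNp⟩ := hkey hF
    haveI : Fact p.Prime := ⟨hp⟩
    have hLp : ∀ L : Subgroup G, L.Normal ∧ Group.IsNilpotent L → IsPGroup p L := by
      rintro L ⟨hLn, hLnil⟩
      haveI := hLn
      intro g
      by_contra hcon
      have hex : ∃ q : ℕ, q.Prime ∧ q ≠ p ∧ q ∣ orderOf (g : G) := by
        by_contra h2
        push Not at h2
        have hne : orderOf (g : G) ≠ 0 := (orderOf_pos _).ne'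
        have h3 := Nat.eq_prime_pow_of_unique_prime_dvd hne (p := p)
          (fun {d} hd hdd => by
            by_contra hdp
            exact h2 d hd hdp hdd)
        apply hcon
        refine ⟨(orderOf (g : G)).primeFactorsList.length, ?_⟩
        apply Subtype.ext
        simp only [Subgroup.coe_pow, Subgroup.coe_one]
        rw [← h3]; exact pow_orderOf_eq_one _
      obtain ⟨q, hq, hqp, hqd⟩ := hex
      haveI : Fact q.Prime := ⟨hq⟩
      set y : G := (g : G) ^ (orderOf (g : G) / q) with hy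
      have hyord : orderOf y = q := orderOf_pow_orderOf_div (orderOf_pos _).ne' hqd
      have hyL : y ∈ L := L.pow_mem g.2 _
      by_cases hyN : y ∈ N
      · obtain ⟨k, hk⟩ := hNp ⟨y, hyN⟩
        have hk' : y ^ (p ^ k) = 1 := by simpa using congrArg Subtype.val hk
        have h4 : q ∣ p ^ k := by rw [← hyord]; exact orderOf_dvd_of_pow_eq_one hk'
        exact hqp ((Nat.prime_dvd_prime_iff_eq hq hp).1 (hq.dvd_of_dvd_pow h4))
      · have hNq : IsPGroup q N := hBB L hLnil q y hyL hyN ⟨1, by rw [hyord, pow_one]⟩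
        have hd := IsPGroup.disjoint_of_ne p q (Ne.symm hqp) N N hNp hNq
        exact hN1 (disjoint_self.1 hd)
    have hFp : IsPGroup p (Cfsg.fittingSubgroup G) :=
      Sylow.sSup_of_normal {L : Subgroup G | L.Normal ∧ Group.IsNilpotent L}
        (fun L hL => hLp L hL) (fun L hL => hL.1)
    obtain ⟨n, hn⟩ := IsPGroup.iff_card.1 hFp
    rw [hn]
    have hn0 : n ≠ 0 := by
      rintro rfl
      rw [pow_zero] at hn
      have hbot : Cfsg.fittingSubgroup G = ⊥ := Subgroup.card_eq_one.1 hn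
      rw [hbot] at hlt
      exact not_lt_bot hlt
    exact (Nat.Prime.prime hp).isPrimePow.pow hn0

end Cfsg.Agent.S4107
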