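import Cfsg.Statements.S4108
-- import your own Cfsg.Agent.* helpers here

set_option autoImplicit false
open Cfsg

namespace Cfsg.Agent.S4108

/-- Let G be a finite group, p a prime and N a proper non-trivial normal p-subgroup such that for every x outside N all elements of the coset xN have the same order as x. Then every non-trivial subgroup H of G of order prime to p acts fixed-point-freely on N: NH is a Frobenius group with complement H and kernel N. -/
theorem result {G : Type*} [Group G] [Finite G] (N : Subgroup G) [N.Normal] (hN1 : N ≠ ⊥) (hN2 : N ≠ ⊤)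
    (heq : ∀ x : G, x ∉ N → ∀ n ∈ N, orderOf (x * n) = orderOf x)
    (p : ℕ) [Fact p.Prime] (hNp : IsPGroup p N) :
    ∀ H : Subgroup G, H ≠ ⊥ → (Nat.card H).Coprime p →
      Cfsg.IsFrobeniusComplement (H.subgroupOf (N ⊔ H)) ∧ Cfsg.frobeniusKernel (H.subgroupOf (N ⊔ H)) = (N.subgroupOf (N ⊔ H) : Set ↥(N ⊔ H)) := by
  intro H hH1 hHp
  -- orders of elements of N are p-powers
  have hNord : ∀ n ∈ N, ∃ k : ℕ, orderOf n = p ^ k := by
    intro n hn
    obtain ⟨k, hk⟩ := hNp ⟨n, hn⟩
    have h1 : n ^ (p ^ k) = 1 := by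
      have := congrArg Subtype.val hk
      simp at this; exact this
    have h2 : orderOf n ∣ p ^ k := orderOf_dvd_of_pow_eq_one h1
    obtain ⟨j, _, hj⟩ := (Nat.dvd_prime_pow (Fact.out : p.Prime)).1 h2
    exact ⟨j, hj⟩
  have hHord : ∀ h ∈ H, (orderOf h).Coprime p := by
    intro h hh
    have h1 : orderOf (⟨h, hh⟩ : H) ∣ Nat.card H := orderOf_dvd_natCard _
    have h2 : orderOf (⟨h, hh⟩ : H) = orderOf h := by
      simpa using (Subgroup.orderOf_coe (⟨h, hh⟩ : H)).symm
    rw [h2] at h1
    exact Nat.Coprime.coprime_dvd_left h1 hHp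
  have hdisj : ∀ x : G, x ∈ H → x ∈ N → x = 1 := by
    intro x hxH hxN
    obtain ⟨k, hk⟩ := hNord x hxN
    have hc := hHord x hxH
    rw [hk] at hc
    rcases Nat.eq_zero_or_pos k with hk0 | hk0
    · subst hk0
      simpa using hk
    · have : p.Coprime p := Nat.Coprime.coprime_dvd_left (dvd_pow_self p hk0.ne') hc
      rw [Nat.coprime_self] at this
      exact absurd this (Fact.out : p.Prime).one_lt.ne'
  have hfpf : ∀ h ∈ H, h ≠ 1 → ∀ n ∈ N, h * n = n * h → n = 1 := by
    intro h hh hne n hn hcomm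
    have hhN : h ∉ N := fun hc => hne (hdisj h hh hc)
    have h1 := heq h hhN n hn
    obtain ⟨k, hk⟩ := hNord n hn
    have hcop : (orderOf h).Coprime (orderOf n) := by
      rw [hk]; exact Nat.Coprime.pow_right k (hHord h hh)
    have h2 : orderOf (h * n) = orderOf h * orderOf n :=
      Commute.orderOf_mul_eq_mul_orderOf_of_coprime hcomm hcop
    rw [h2] at h1
    have hpos : 0 < orderOf h := orderOf_pos h
    have : orderOf n = 1 := by
      have := Nat.eq_of_mul_eq_mul_left hpos (h1.trans (mul_one _).symm)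
      exact this
    exact orderOf_eq_one_iff.1 this
  have hsup : ∀ g : G, g ∈ N ⊔ H → ∃ n ∈ N, ∃ h ∈ H, g = n * h := by
    intro g hg
    have : g ∈ ((N ⊔ H : Subgroup G) : Set G) := hg
    rw [Subgroup.normal_mul] at this
    obtain ⟨n, hn, h, hh, rfl⟩ := this
    exact ⟨n, hn, h, hh, rfl⟩
  refine ⟨⟨?_, ?_, ?_⟩, ?_⟩
  · intro hbot
    rw [Subgroup.subgroupOf_eq_bot] at hbot
    apply hH1
    have : H ⊓ (N ⊔ H) = ⊥ := disjoint_iff.1 hbot
    rwa [inf_eq_left.2 le_sup_right] at this
  · intro htop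
    rw [Subgroup.subgroupOf_eq_top] at htop
    apply hN1
    rw [eq_bot_iff]
    intro x hx
    have hxH : x ∈ H := htop (Subgroup.mem_sup_left hx)
    simpa using hdisj x hxH hx
  · intro g hg
    rw [eq_bot_iff]
    intro x hx
    rw [Subgroup.mem_bot]
    obtain ⟨hx1, hx2⟩ := Subgroup.mem_inf.1 hx
    rw [Subgroup.mem_pointwise_smul_iff_inv_smul_mem] at hx2
    simp only [Subgroup.mem_subgroupOf, MulAut.smul_def, MulAut.conj_inv_apply] at hx1 hx2 hg
    obtain ⟨n, hn, h0, hh0, hgeq⟩ := hsup g g.2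
    -- y' = h0 * (g⁻¹ x g) * h0⁻¹
    set y : G := ((g⁻¹ * x * g : ↥(N ⊔ H)) : G) with hy
    have hyH : y ∈ H := hx2
    have hy2 : y = (g : G)⁻¹ * x * g := by simp [hy]
    set y' : G := h0 * y * h0⁻¹ with hy'
    have hy'H : y' ∈ H := H.mul_mem (H.mul_mem hh0 hyH) (H.inv_mem hh0)
    have hxy' : (x : G) = n * y' * n⁻¹ := by
      rw [hy', hy2, hgeq]; group
    have hmem : (x : G) * y'⁻¹ ∈ N := by
      rw [hxy']
      have : n * y' * n⁻¹ * y'⁻¹ = n * (y' * n⁻¹ * y'⁻¹) := by group
      rw [this]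
      exact N.mul_mem hn (Subgroup.Normal.conj_mem inferInstance _ (N.inv_mem hn) _)
    have hmemH : (x : G) * y'⁻¹ ∈ H := H.mul_mem hx1 (H.inv_mem hy'H)
    have hxeq : (x : G) = y' := by
      have := hdisj _ hmemH hmem
      exact mul_inv_eq_one.1 this
    by_contra hxne
    have hxne' : (x : G) ≠ 1 := fun h => hxne (Subtype.ext h)
    have hcomm : (x : G) * n = n * x := by
      have h1 : (x : G) = n * x * n⁻¹ := by rw [← hxeq] at hxy'; exact hxy'
      calc (x : G) * n = (n * x * n⁻¹) * n := by rw [← h1]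
        _ = n * x := by group
    have hn1 : n = 1 := hfpf x hx1 hxne' n hn hcomm
    apply hg
    rw [hgeq, hn1, one_mul]
    exact hh0
  · ext x
    simp only [Cfsg.frobeniusKernel, Set.mem_ofPred_eq, SetLike.mem_coe, Subgroup.mem_subgroupOf]
    constructor
    · rintro (rfl | hx)
      · simp
      · obtain ⟨n, hn, h, hh, hxeq⟩ := hsup x x.2
        by_cases hh1 : h = 1
        · rw [hxeq, hh1, mul_one]; exact hn
        · exfalso
          -- the map m ↦ m⁻¹ * (h m h⁻¹) on N is injective hence surjective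
          let φ : N → N := fun m => ⟨(m : G)⁻¹ * (h * m * h⁻¹),
            N.mul_mem (N.inv_mem m.2) (Subgroup.Normal.conj_mem inferInstance _ m.2 _)⟩
          have hinj : Function.Injective φ := by
            intro m1 m2 h12
            have h12' : (m1 : G)⁻¹ * (h * m1 * h⁻¹) = (m2 : G)⁻¹ * (h * m2 * h⁻¹) :=
              congrArg Subtype.val h12
            have hc : h * ((m2 : G) * (m1 : G)⁻¹) = ((m2 : G) * (m1 : G)⁻¹) * h := by
              have e1 : (m1 : G)⁻¹ * h * m1 = (m2 : G)⁻¹ * h * m2 := by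
                have := congrArg (fun z => z * h) h12'
                calc (m1 : G)⁻¹ * h * m1 = (m1 : G)⁻¹ * (h * m1 * h⁻¹) * h := by group
                  _ = (m2 : G)⁻¹ * (h * m2 * h⁻¹) * h := this
                  _ = (m2 : G)⁻¹ * h * m2 := by group
              calc h * ((m2 : G) * (m1 : G)⁻¹) = m2 * ((m2 : G)⁻¹ * h * m2) * (m1 : G)⁻¹ := by group
                _ = m2 * ((m1 : G)⁻¹ * h * m1) * (m1 : G)⁻¹ := by rw [e1]
                _ = ((m2 : G) * (m1 : G)⁻¹) * h := by group
            have := hfpf h hh hh1 ((m2 : G) * (m1 : G)⁻¹) (N.mul_mem m2.2 (N.inv_mem m1.2)) hc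
            have : (m2 : G) = m1 := mul_inv_eq_one.1 this
            exact (Subtype.ext this).symm
          have hsurj : Function.Surjective φ := Finite.injective_iff_surjective.1 hinj
          obtain ⟨m, hm⟩ := hsurj ⟨n, hn⟩
          have hm' : (m : G)⁻¹ * (h * m * h⁻¹) = n := congrArg Subtype.val hm
          have hxm : (x : G) = (m : G)⁻¹ * h * m := by
            rw [hxeq, ← hm']; group
          have hmG : (m : G)⁻¹ ∈ N ⊔ H := Subgroup.mem_sup_left (N.inv_mem m.2)
          apply hx ⟨(m : G)⁻¹, hmG⟩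
          rw [Subgroup.mem_pointwise_smul_iff_inv_smul_mem]
          simp only [Subgroup.mem_subgroupOf, MulAut.smul_def, MulAut.conj_inv_apply]
          have : (((⟨(m : G)⁻¹, hmG⟩ : ↥(N ⊔ H))⁻¹ * x * ⟨(m : G)⁻¹, hmG⟩ : ↥(N ⊔ H)) : G) = h := by
            simp [hxm]; group
          rw [this]; exact hh
    · intro hxN
      by_cases hx1 : x = 1
      · exact Or.inl hx1
      · right
        intro g hxg
        rw [Subgroup.mem_pointwise_smul_iff_inv_smul_mem] at hxg
        simp only [Subgroup.mem_subgroupOf, MulAut.smul_def, MulAut.conj_inv_apply] at hxg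
        have hyN : (((g⁻¹ * x * g : ↥(N ⊔ H))) : G) ∈ N := by
          have : (((g⁻¹ * x * g : ↥(N ⊔ H))) : G) = (g : G)⁻¹ * x * ((g : G)⁻¹)⁻¹ := by simp
          rw [this]
          exact Subgroup.Normal.conj_mem inferInstance _ hxN _
        have := hdisj _ hxg hyN
        apply hx1
        have h2 : (g⁻¹ * x * g : ↥(N ⊔ H)) = 1 := Subtype.ext this
        have : x = g * (g⁻¹ * x * g) * g⁻¹ := by group
        rw [this, h2]; group

end Cfsg.Agent.S4108
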