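import Cfsg.Statements.S4112
-- import your own Cfsg.Agent.* helpers here

set_option autoImplicit false
open Cfsg

namespace Cfsg.Agent.S4112

/-- If a prime `r` divides the order of `G` but not the index of the normal subgroup `N`, then `N` has
a proper supplement (Frattini argument plus Schur–Zassenhaus). -/
theorem exists_proper_supplement {G : Type*} [Group G] [Finite G] (N : Subgroup G) [N.Normal]
    (r : ℕ) [hr : Fact r.Prime] (hrG : r ∣ Nat.card G) (hrN : ¬ r ∣ N.index) :
    ∃ K : Subgroup G, K ≠ ⊤ ∧ K ⊔ N = ⊤ := by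
  have hrN' : r ∣ Nat.card N := by
    have h := N.card_mul_index
    rw [← h] at hrG
    rcases (Nat.Prime.dvd_mul hr.out).1 hrG with h1 | h1
    · exact h1
    · exact absurd h1 hrN
  obtain ⟨P⟩ := (Sylow.nonempty : Nonempty (Sylow r N))
  set R : Subgroup G := (P : Subgroup N).map N.subtype with hR
  have hRN : R ≤ N := Subgroup.map_subtype_le _
  have hFr : Subgroup.normalizer (R : Set G) ⊔ N = ⊤ := Sylow.normalizer_sup_eq_top P
  by_cases hnorm : Subgroup.normalizer (R : Set G) = ⊤
  · -- R is normal: use Schur–Zassenhaus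
    haveI : R.Normal := Subgroup.normalizer_eq_top_iff.1 hnorm
    have hcardR : Nat.card R = r ^ (Nat.card N).factorization r := by
      rw [← P.card_eq_multiplicity]
      exact Nat.card_congr ((P : Subgroup N).equivMapOfInjective N.subtype
        N.subtype_injective).symm.toEquiv
    have hpos : 0 < (Nat.card N).factorization r := by
      apply Nat.Prime.factorization_pos_of_dvd hr.out _ hrN'
      exact Nat.card_pos.ne'
    have hidx : R.index = (P : Subgroup N).index * N.index := Subgroup.index_map_subtype _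
    have hnd : ¬ r ∣ R.index := by
      rw [hidx]
      intro h
      rcases (Nat.Prime.dvd_mul hr.out).1 h with h1 | h1
      · exact P.not_dvd_index h1
      · exact hrN h1
    have hcop : Nat.Coprime (Nat.card R) R.index := by
      rw [hcardR]
      apply Nat.Coprime.pow_left
      exact (Nat.Prime.coprime_iff_not_dvd hr.out).2 hnd
    obtain ⟨K, hK⟩ := Subgroup.exists_right_complement'_of_coprime hcop
    refine ⟨K, ?_, ?_⟩
    · intro hKtop
      have h1 := hK.card_mul_card
      rw [hKtop, Subgroup.card_top] at h1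
      have hG : 0 < Nat.card G := Nat.card_pos
      have h2 : Nat.card R = 1 := by
        have : Nat.card R * Nat.card G = 1 * Nat.card G := by rw [h1, one_mul]
        exact Nat.eq_of_mul_eq_mul_right hG this
      rw [hcardR] at h2
      have : r ∣ 1 := by
        rw [← h2]; exact dvd_pow_self r hpos.ne'
      exact hr.out.one_lt.ne' (Nat.dvd_one.1 this)
    · rw [eq_top_iff, ← hK.sup_eq_top]
      exact sup_le (hRN.trans le_sup_right) le_sup_left
  · exact ⟨_, hnorm, hFr⟩

/-- A normal subgroup `N` of a finite group has a supplement all of whose prime divisors divide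
the index of `N`. -/
theorem exists_supplement_primes {G : Type*} [Group G] [Finite G] (N : Subgroup G) [N.Normal] :
    ∃ H : Subgroup G, H ⊔ N = ⊤ ∧ ∀ r : ℕ, r.Prime → r ∣ Nat.card H → r ∣ N.index := by
  obtain ⟨H, hH, hmin⟩ := (wellFounded_lt (α := Subgroup G)).has_min
    {H : Subgroup G | H ⊔ N = ⊤} ⟨⊤, top_sup_eq _⟩
  refine ⟨H, hH, ?_⟩
  intro r hr hrH
  by_contra hrN
  haveI : Fact r.Prime := ⟨hr⟩
  -- the index of N ∩ H in H is the index of N
  have hidx : (N.subgroupOf H).index = N.index := by
    have h1 : (N.subgroupOf H).index = N.relIndex H := rfl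
    rw [h1, ← Subgroup.relIndex_sup_right, hH, Subgroup.relIndex_top_right]
  have hrN' : ¬ r ∣ (N.subgroupOf H).index := by rwa [hidx]
  obtain ⟨K', hK'1, hK'2⟩ := exists_proper_supplement (N.subgroupOf H) r hrH hrN'
  set K : Subgroup G := K'.map H.subtype with hK
  have hKH : K ≤ H := Subgroup.map_subtype_le _
  have hKlt : K < H := by
    refine lt_of_le_of_ne hKH ?_
    intro heq
    apply hK'1
    rw [eq_top_iff]
    intro x _
    have hx : (x : G) ∈ K := by rw [heq]; exact x.2
    obtain ⟨y, hy, hyx⟩ := Subgroup.mem_map.1 hx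
    have : y = x := Subtype.ext hyx
    rw [← this]; exact hy
  have hKN : K ⊔ N = ⊤ := by
    rw [eq_top_iff, ← hH]
    apply sup_le _ le_sup_right
    intro x hx
    have hx' : (⟨x, hx⟩ : H) ∈ K' ⊔ N.subgroupOf H := by rw [hK'2]; trivial
    have hmap : x ∈ (K' ⊔ N.subgroupOf H).map H.subtype := Subgroup.mem_map.2 ⟨⟨x, hx⟩, hx', rfl⟩
    rw [Subgroup.map_sup] at hmap
    have hle : Subgroup.map H.subtype K' ⊔ Subgroup.map H.subtype (N.subgroupOf H) ≤ K ⊔ N := by
      apply sup_le_sup_left
      rw [Subgroup.subgroupOf_map_subtype]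
      exact inf_le_left
    exact hle hmap
  exact hmin K hKN hKlt

/-- Let G be a finite group and M ≤ N non-trivial proper normal subgroups such that for every g outside N the conjugacy class of g is a union of cosets of M (equivalently gm is conjugate to g for every m ∈ M). Then (1) and (2) below are equivalent, and they imply (3): (1) every g outside N acts fixed-point-freely on M, that is C_G(x) ≤ N for every x ∈ M, x ≠ 1; (2) the index of N in G is coprime to the order of M; (3) there is a subgroup H of G with HN = G and H ∩ M = 1. -/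
theorem result {G : Type*} [Group G] [Finite G] (N M : Subgroup G) [N.Normal] [M.Normal] (hMN : M ≤ N) (hM1 : M ≠ ⊥) (hN2 : N ≠ ⊤)
    (hcam : ∀ g : G, g ∉ N → ∀ m ∈ M, ∃ x : G, x * g * x⁻¹ = g * m) :
    ((∀ x ∈ M, x ≠ 1 → Subgroup.centralizer ({x} : Set G) ≤ N) ↔ N.index.Coprime (Nat.card M)) ∧
    ((∀ x ∈ M, x ≠ 1 → Subgroup.centralizer ({x} : Set G) ≤ N) → ∃ H : Subgroup G, H ⊔ N = ⊤ ∧ H ⊓ M = ⊥) := by
  have h12 : (∀ x ∈ M, x ≠ 1 → Subgroup.centralizer ({x} : Set G) ≤ N) → N.index.Coprime (Nat.card M) := by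
    intro hC
    apply Nat.coprime_of_dvd
    intro q hq hqN hqM
    haveI : Fact q.Prime := ⟨hq⟩
    obtain ⟨Q⟩ := (Sylow.nonempty : Nonempty (Sylow q G))
    letI act : MulAction ↥(Q : Subgroup G) ↥M :=
      MulAction.compHom ↥M ((MulAut.conjNormal (H := M)).comp (Q : Subgroup G).subtype)
    have hsmul : ∀ (g : ↥(Q : Subgroup G)) (m : ↥M), ((g • m : ↥M) : G) = (g : G) * m * (g : G)⁻¹ := by
      intro g m; rfl
    have hone : (1 : ↥M) ∈ MulAction.fixedPoints ↥(Q : Subgroup G) ↥M := by
      intro g
      apply Subtype.ext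
      rw [hsmul]; simp
    obtain ⟨b, hb, hb1⟩ := Q.2.exists_fixed_point_of_prime_dvd_card_of_fixed_point ↥M hqM hone
    have hbne : (b : G) ≠ 1 := fun h => hb1 (Subtype.ext h).symm
    have hQN : (Q : Subgroup G) ≤ N := by
      intro g hg
      apply hC b b.2 hbne
      rw [Subgroup.mem_centralizer_iff]
      intro z hz
      rw [Set.mem_singleton_iff] at hz
      have := congrArg Subtype.val (hb ⟨g, hg⟩)
      rw [hsmul] at this
      rw [hz]
      calc (b : G) * g = (g * b * g⁻¹) * g := by rw [this]
        _ = g * b := by group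
    have hdvd : N.index ∣ (Q : Subgroup G).index := Subgroup.index_dvd_of_le hQN
    exact Q.not_dvd_index (hqN.trans hdvd)
  have h21 : N.index.Coprime (Nat.card M) → (∀ x ∈ M, x ≠ 1 → Subgroup.centralizer ({x} : Set G) ≤ N) := by
    intro hcop x hxM hx1 g hg
    rw [Subgroup.mem_centralizer_iff] at hg
    have hgx : x * g = g * x := hg x (Set.mem_singleton x)
    by_contra hgN
    -- a prime q dividing the order of x
    have hox : orderOf x ≠ 1 := fun h => hx1 (orderOf_eq_one_iff.1 h)
    obtain ⟨q, hq, hqx⟩ := Nat.exists_prime_and_dvd hox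
    haveI : Fact q.Prime := ⟨hq⟩
    set x' : G := x ^ (orderOf x / q) with hx'
    have hx'ord : orderOf x' = q := orderOf_pow_orderOf_div (orderOf_pos x).ne' hqx
    have hx'M : x' ∈ M := M.pow_mem hxM _
    have hqM : q ∣ Nat.card M := by
      have := Subgroup.orderOf_dvd_natCard M hx'M
      rwa [hx'ord] at this
    have hqN : ¬ q ∣ N.index := by
      intro h
      have := Nat.dvd_gcd h hqM
      rw [Nat.Coprime.gcd_eq_one hcop] at this
      exact hq.one_lt.ne' (Nat.dvd_one.1 this)
    obtain ⟨a, r, hqr, hk⟩ := Nat.exists_eq_pow_mul_and_not_dvd (orderOf_pos g).ne' q hq.one_lt.ne'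
    set g' : G := g ^ (q ^ a) with hg'
    have hg'ord : orderOf g' = r := by
      rw [hg', orderOf_pow' g (pow_pos hq.pos a).ne', hk]
      rw [Nat.gcd_eq_right (Dvd.intro _ rfl)]
      exact Nat.mul_div_cancel_left r (pow_pos hq.pos a)
    have hg'N : g' ∉ N := by
      intro hmem
      apply hgN
      have h1 : ((g : G ⧸ N)) ^ (q ^ a) = 1 := by
        rw [← QuotientGroup.mk_pow]
        exact (QuotientGroup.eq_one_iff _).2 hmem
      have h2 : orderOf (g : G ⧸ N) ∣ q ^ a := orderOf_dvd_of_pow_eq_one h1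
      have h3 : orderOf (g : G ⧸ N) ∣ N.index := by
        rw [Subgroup.index_eq_card]; exact orderOf_dvd_natCard _
      have h4 : Nat.Coprime (q ^ a) N.index :=
        Nat.Coprime.pow_left a ((Nat.Prime.coprime_iff_not_dvd hq).2 hqN)
      have h5 : orderOf (g : G ⧸ N) ∣ 1 := by
        rw [← Nat.Coprime.gcd_eq_one h4]; exact Nat.dvd_gcd h2 h3
      have h6 : (g : G ⧸ N) = 1 := orderOf_eq_one_iff.1 (Nat.dvd_one.1 h5)
      exact (QuotientGroup.eq_one_iff _).1 h6
    have hcomm : Commute g' x' := by
      have : Commute g x := hgx.symm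
      exact (this.pow_left _).pow_right _
    have hcop' : (orderOf g').Coprime (orderOf x') := by
      rw [hg'ord, hx'ord]
      exact ((Nat.Prime.coprime_iff_not_dvd hq).2 hqr).symm
    have hmul : orderOf (g' * x') = r * q := by
      rw [hcomm.orderOf_mul_eq_mul_orderOf_of_coprime hcop', hg'ord, hx'ord]
    obtain ⟨y, hy⟩ := hcam g' hg'N x' hx'M
    have hsc : SemiconjBy y g' (g' * x') := by
      unfold SemiconjBy
      rw [← hy]; group
    have hord := hsc.orderOf_eq
    rw [hmul, hg'ord] at hord
    have hrpos : 0 < r := by rw [← hg'ord]; exact orderOf_pos g'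
    have : q = 1 := by
      have : r * 1 = r * q := by rw [mul_one]; exact hord
      exact (Nat.eq_of_mul_eq_mul_left hrpos this).symm
    exact hq.one_lt.ne' this
  refine ⟨⟨h12, h21⟩, ?_⟩
  intro hC
  have hcop := h12 hC
  obtain ⟨H, hH, hprimes⟩ := exists_supplement_primes N
  refine ⟨H, hH, ?_⟩
  by_contra hne
  have hcard : Nat.card ↥(H ⊓ M) ≠ 1 := by
    intro h
    exact hne ((Subgroup.card_eq_one).1 h)
  obtain ⟨q, hq, hqd⟩ := Nat.exists_prime_and_dvd hcard
  have hqH : q ∣ Nat.card H := hqd.trans (Subgroup.card_dvd_of_le inf_le_left)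
  have hqM : q ∣ Nat.card M := hqd.trans (Subgroup.card_dvd_of_le inf_le_right)
  have hqN := hprimes q hq hqH
  have := Nat.dvd_gcd hqN hqM
  rw [Nat.Coprime.gcd_eq_one hcop] at this
  exact hq.one_lt.ne' (Nat.dvd_one.1 this)

end Cfsg.Agent.S4112
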