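import Cfsg.Statements.S4113
-- import your own Cfsg.Agent.* helpers here

set_option autoImplicit false
open Cfsg

namespace Cfsg.Agent.S4113

/-- Let G be a finite group, M ≤ N non-trivial proper normal subgroups, and H a subgroup with HM = G and H ∩ M = 1. Then every element of G outside N acts fixed-point-freely on M (C_G(x) ≤ N for every x ∈ M, x ≠ 1) if and only if H ∩ gHg⁻¹ ≤ H ∩ N for every g outside H, with H proper and non-trivial and H ∩ N proper in H. -/
theorem result {G : Type*} [Group G] [Finite G] (N M : Subgroup G) [N.Normal] [M.Normal] (hMN : M ≤ N) (hM1 : M ≠ ⊥) (hN2 : N ≠ ⊤)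
    (H : Subgroup G) (hHM : H ⊔ M = ⊤) (hHM' : H ⊓ M = ⊥) :
    (∀ x ∈ M, x ≠ 1 → Subgroup.centralizer ({x} : Set G) ≤ N) ↔
      (H ≠ ⊥ ∧ H ≠ ⊤ ∧ H ⊓ N < H ∧ ∀ g : G, g ∉ H → H ⊓ H.map (MulAut.conj g).toMonoidHom ≤ N) := by
  have hdisj : ∀ x : G, x ∈ H → x ∈ M → x = 1 := by
    intro x hxH hxM
    have : x ∈ H ⊓ M := ⟨hxH, hxM⟩
    rw [hHM'] at this
    exact Subgroup.mem_bot.1 this
  have hdecL : ∀ g : G, ∃ m ∈ M, ∃ h ∈ H, g = m * h := by
    intro g
    have : g ∈ ((M ⊔ H : Subgroup G) : Set G) := by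
      rw [sup_comm, hHM]; trivial
    rw [Subgroup.normal_mul] at this
    obtain ⟨m, hm, h, hh, rfl⟩ := this
    exact ⟨m, hm, h, hh, rfl⟩
  have hdecR : ∀ g : G, ∃ h ∈ H, ∃ m ∈ M, g = h * m := by
    intro g
    have : g ∈ ((H ⊔ M : Subgroup G) : Set G) := by
      rw [hHM]; trivial
    rw [Subgroup.mul_normal] at this
    obtain ⟨h, hh, m, hm, rfl⟩ := this
    exact ⟨h, hh, m, hm, rfl⟩
  constructor
  · intro hC
    refine ⟨?_, ?_, ?_, ?_⟩
    · intro hbot
      apply hN2
      rw [hbot, bot_sup_eq] at hHM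
      rw [eq_top_iff, ← hHM]; exact hMN
    · intro htop
      apply hM1
      rw [htop, top_inf_eq] at hHM'
      exact hHM'
    · refine lt_of_le_of_ne inf_le_left ?_
      intro heq
      apply hN2
      have hHN : H ≤ N := by rw [← heq]; exact inf_le_right
      rw [eq_top_iff, ← hHM]
      exact sup_le hHN hMN
    · intro g hg x hx
      obtain ⟨hx1, hx2⟩ := Subgroup.mem_inf.1 hx
      obtain ⟨y, hy, hyx⟩ := Subgroup.mem_map.1 hx2
      simp only [MulEquiv.coe_toMonoidHom, MulAut.conj_apply] at hyx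
      obtain ⟨m, hm, h, hh, hgeq⟩ := hdecL g
      have hm1 : m ≠ 1 := by
        intro h1
        apply hg
        rw [hgeq, h1, one_mul]; exact hh
      set y' : G := h * y * h⁻¹ with hy'
      have hy'H : y' ∈ H := H.mul_mem (H.mul_mem hh hy) (H.inv_mem hh)
      have hxy' : x = m * y' * m⁻¹ := by
        rw [← hyx, hy', hgeq]; group
      have hmemM : x * y'⁻¹ ∈ M := by
        rw [hxy']
        have : m * y' * m⁻¹ * y'⁻¹ = m * (y' * m⁻¹ * y'⁻¹) := by group
        rw [this]
        exact M.mul_mem hm (Subgroup.Normal.conj_mem inferInstance _ (M.inv_mem hm) _)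
      have hmemH : x * y'⁻¹ ∈ H := H.mul_mem hx1 (H.inv_mem hy'H)
      have hxeq : x = y' := mul_inv_eq_one.1 (hdisj _ hmemH hmemM)
      have hcomm : m * x = x * m := by
        have h1 : x = m * x * m⁻¹ := by rw [← hxeq] at hxy'; exact hxy'
        calc m * x = (m * x * m⁻¹) * m := by group
          _ = x * m := by rw [← h1]
      apply hC m hm hm1
      rw [Subgroup.mem_centralizer_iff]
      intro z hz
      rw [Set.mem_singleton_iff] at hz
      rw [hz]; exact hcomm
  · rintro ⟨_, _, _, h4⟩ x hxM hx1 g hg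
    rw [Subgroup.mem_centralizer_iff] at hg
    have hgx : x * g = g * x := hg x (Set.mem_singleton x)
    obtain ⟨h, hh, m', hm', hgeq⟩ := hdecR g
    by_cases hhN : h ∈ N
    · rw [hgeq]; exact N.mul_mem hhN (hMN hm')
    · exfalso
      -- h acts fixed-point-freely on M
      have hfpf : ∀ u ∈ M, u * h = h * u → u = 1 := by
        intro u hu hcomm
        by_contra hu1
        have huH : u ∉ H := fun hc => hu1 (hdisj u hc hu)
        apply hhN
        apply h4 u huH
        refine ⟨hh, Subgroup.mem_map.2 ⟨h, hh, ?_⟩⟩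
        simp only [MulEquiv.coe_toMonoidHom, MulAut.conj_apply]
        rw [hcomm]; group
      let φ : M → M := fun u => ⟨h⁻¹ * (u : G) * h * (u : G)⁻¹,
        M.mul_mem (by
          have := Subgroup.Normal.conj_mem (inferInstance : M.Normal) _ u.2 h⁻¹
          simpa [mul_assoc] using this) (M.inv_mem u.2)⟩
      have hinj : Function.Injective φ := by
        intro u v huv
        have huv' : h⁻¹ * (u : G) * h * (u : G)⁻¹ = h⁻¹ * (v : G) * h * (v : G)⁻¹ :=
          congrArg Subtype.val huv
        have hc : ((v : G)⁻¹ * u) * h = h * ((v : G)⁻¹ * u) := by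
          have e1 : (u : G) * h * (u : G)⁻¹ = (v : G) * h * (v : G)⁻¹ := by
            calc (u : G) * h * (u : G)⁻¹ = h * (h⁻¹ * (u : G) * h * (u : G)⁻¹) := by group
              _ = h * (h⁻¹ * (v : G) * h * (v : G)⁻¹) := by rw [huv']
              _ = (v : G) * h * (v : G)⁻¹ := by group
          calc ((v : G)⁻¹ * u) * h = (v : G)⁻¹ * ((u : G) * h * (u : G)⁻¹) * u := by group
            _ = (v : G)⁻¹ * ((v : G) * h * (v : G)⁻¹) * u := by rw [e1]
            _ = h * ((v : G)⁻¹ * u) := by group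
        have := hfpf ((v : G)⁻¹ * u) (M.mul_mem (M.inv_mem v.2) u.2) hc
        have : (u : G) = v := by
          have h2 := inv_mul_eq_one.1 this
          exact h2.symm
        exact Subtype.ext this
      have hsurj : Function.Surjective φ := Finite.injective_iff_surjective.1 hinj
      obtain ⟨u, hu⟩ := hsurj ⟨m', hm'⟩
      have hu' : h⁻¹ * (u : G) * h * (u : G)⁻¹ = m' := congrArg Subtype.val hu
      have hgu : g = (u : G) * h * (u : G)⁻¹ := by
        rw [hgeq, ← hu']; group
      -- then h commutes with u⁻¹ x u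
      have hx' : (u : G)⁻¹ * x * u ∈ M := by
        have := Subgroup.Normal.conj_mem (inferInstance : M.Normal) _ hxM (u : G)⁻¹
        simpa using this
      have hcomm : ((u : G)⁻¹ * x * u) * h = h * ((u : G)⁻¹ * x * u) := by
        have e : x * ((u : G) * h * (u : G)⁻¹) = ((u : G) * h * (u : G)⁻¹) * x := by
          rw [← hgu]; exact hgx
        calc ((u : G)⁻¹ * x * u) * h = (u : G)⁻¹ * (x * ((u : G) * h * (u : G)⁻¹)) * u := by group
          _ = (u : G)⁻¹ * (((u : G) * h * (u : G)⁻¹) * x) * u := by rw [e]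
          _ = h * ((u : G)⁻¹ * x * u) := by group
      have := hfpf _ hx' hcomm
      apply hx1
      have h3 : x = (u : G) * ((u : G)⁻¹ * x * u) * (u : G)⁻¹ := by group
      rw [h3, this]; group

end Cfsg.Agent.S4113
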