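import Cfsg.Statements.S4116
-- import your own Cfsg.Agent.* helpers here

set_option autoImplicit false
open Cfsg

namespace Cfsg.Agent.S4116

open MulAction in
/-- Let G be a finite group with a subgroup H whose order is coprime to its index (a Hall subgroup) and which meets each of its conjugates by elements outside N_G(H) trivially. Then every subgroup of G whose order is divisible only by primes dividing the order of H lies in a conjugate of H. -/
theorem result {G : Type*} [Group G] [Finite G] (H : Subgroup G)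
    (hHall : (Nat.card H).Coprime H.index) (hTI : Cfsg.IsTISubset (H : Set G))
    (K : Subgroup G) (hK : ∀ q : ℕ, q.Prime → q ∣ Nat.card K → q ∣ Nat.card H) :
    ∃ g : G, K ≤ H.map (MulAut.conj g).toMonoidHom := by
  classical
  set NH : Subgroup G := Subgroup.normalizer (H : Set G) with hNH
  have hHNH : H ≤ NH := Subgroup.le_normalizer
  -- coprimality
  have hcopK : (Nat.card K).Coprime H.index := by
    apply Nat.coprime_of_dvd
    intro q hq hqK hqI
    have := Nat.dvd_gcd (hK q hq hqK) hqI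
    rw [Nat.Coprime.gcd_eq_one hHall] at this
    exact hq.one_lt.ne' (Nat.dvd_one.1 this)
  -- Claim 1: elements of the normalizer of order coprime to the index lie in H
  have hclaim1 : ∀ y ∈ NH, (orderOf y).Coprime H.index → y ∈ H := by
    intro y hy hcop
    haveI : (H.subgroupOf NH).Normal := Subgroup.normal_in_normalizer
    set ybar : NH ⧸ H.subgroupOf NH := QuotientGroup.mk ⟨y, hy⟩ with hybar
    have h1 : orderOf ybar ∣ orderOf y := by
      apply orderOf_dvd_of_pow_eq_one
      rw [hybar, ← QuotientGroup.mk_pow]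
      have : (⟨y, hy⟩ : NH) ^ orderOf y = 1 := by
        apply Subtype.ext; simp [pow_orderOf_eq_one]
      rw [this]; rfl
    have h2 : orderOf ybar ∣ H.index := by
      have h3 : orderOf ybar ∣ Nat.card (NH ⧸ H.subgroupOf NH) := orderOf_dvd_natCard _
      rw [← Subgroup.index_eq_card] at h3
      have h4 : (H.subgroupOf NH).index = H.relIndex NH := rfl
      rw [h4] at h3
      exact h3.trans (Dvd.intro _ (Subgroup.relIndex_mul_index hHNH))
    have h5 : orderOf ybar ∣ 1 := by
      rw [← Nat.Coprime.gcd_eq_one hcop]; exact Nat.dvd_gcd h1 h2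
    have h6 : ybar = 1 := orderOf_eq_one_iff.1 (Nat.dvd_one.1 h5)
    have h7 : (⟨y, hy⟩ : NH) ∈ H.subgroupOf NH := (QuotientGroup.eq_one_iff _).1 h6
    exact h7
  have hclaim1' : ∀ k ∈ K, ∀ g : G, g⁻¹ * k * g ∈ NH → g⁻¹ * k * g ∈ H := by
    intro k hk g hmem
    apply hclaim1 _ hmem
    have hsc : SemiconjBy g⁻¹ k (g⁻¹ * k * g) := by
      unfold SemiconjBy; group
    rw [← hsc.orderOf_eq]
    exact Nat.Coprime.coprime_dvd_left (Subgroup.orderOf_dvd_natCard K hk) hcopK
  -- the action of K on the cosets of NH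
  have hfix : ∀ (k : K) (g : G), k • (g : G ⧸ NH) = (g : G ⧸ NH) ↔ g⁻¹ * (k : G) * g ∈ NH := by
    intro k g
    have h0 : k • (g : G ⧸ NH) = (((k : G) * g : G) : G ⧸ NH) := rfl
    rw [h0, QuotientGroup.eq, ← Subgroup.inv_mem_iff]
    have : (((k : G) * g)⁻¹ * g)⁻¹ = g⁻¹ * (k : G) * g := by group
    rw [this]
  have hsub : ∀ k : K, k ≠ 1 → ∀ x y : G ⧸ NH, k • x = x → k • y = y → x = y := by
    intro k hk x y hx hy
    obtain ⟨g₁, rfl⟩ := QuotientGroup.mk_surjective x
    obtain ⟨g₂, rfl⟩ := QuotientGroup.mk_surjective y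
    rw [hfix] at hx hy
    have ha := hclaim1' k k.2 g₁ hx
    have hb := hclaim1' k k.2 g₂ hy
    rw [QuotientGroup.eq]
    by_contra hcon
    have := hTI (g₁⁻¹ * g₂) hcon (g₂⁻¹ * (k : G) * g₂) hb (by
      have : g₁⁻¹ * g₂ * (g₂⁻¹ * (k : G) * g₂) * (g₁⁻¹ * g₂)⁻¹ = g₁⁻¹ * (k : G) * g₁ := by group
      rw [this]; exact ha)
    apply hk
    apply Subtype.ext
    have h2 : (k : G) = g₂ * (g₂⁻¹ * (k : G) * g₂) * g₂⁻¹ := by group
    rw [h2, this]; simp
  -- counting
  set X := G ⧸ NH with hX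
  set Ω := orbitRel.Quotient K X with hΩ
  haveI : Fintype K := Fintype.ofFinite K
  haveI : Fintype Ω := Fintype.ofFinite Ω
  have hB : ∑ k : K, Nat.card (fixedBy X k) = Nat.card Ω * Nat.card K := by
    rw [← Nat.card_prod, ← Nat.card_sigma]
    exact Nat.card_congr (sigmaFixedByEquivOrbitsProdGroup K X)
  have hC : Nat.card X = ∑ ω : Ω, (stabilizer K ω.out).index := by
    rw [Nat.card_congr (selfEquivSigmaOrbitsQuotientStabilizer K X), Nat.card_sigma]
    rfl
  have hB' : Nat.card Ω * Nat.card K ≤ Nat.card X + (Nat.card K - 1) := by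
    rw [← hB, ← Finset.add_sum_erase Finset.univ _ (Finset.mem_univ (1 : K))]
    apply Nat.add_le_add
    · exact Nat.card_le_card_of_injective Subtype.val Subtype.val_injective
    · calc ∑ k ∈ Finset.univ.erase (1 : K), Nat.card (fixedBy X k)
          ≤ ∑ k ∈ Finset.univ.erase (1 : K), 1 := by
            apply Finset.sum_le_sum
            intro k hk
            have hk1 : k ≠ 1 := Finset.ne_of_mem_erase hk
            haveI : Subsingleton (fixedBy X k) :=
              ⟨fun a b => Subtype.ext (hsub k hk1 a b a.2 b.2)⟩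
            exact Finite.card_le_one_iff_subsingleton.2 inferInstance
        _ = Nat.card K - 1 := by
            rw [Finset.sum_const, smul_eq_mul, mul_one,
              Finset.card_erase_of_mem (Finset.mem_univ _), Finset.card_univ,
              Nat.card_eq_fintype_card]
  set n := Nat.card K with hn
  have hnpos : 0 < n := Nat.card_pos
  set i : Ω → ℕ := fun ω => (stabilizer K ω.out).index with hi
  have hidvd : ∀ ω, i ω ∣ n := fun ω => Subgroup.index_dvd_card _
  have hile : ∀ ω, i ω ≤ n := fun ω => Nat.le_of_dvd hnpos (hidvd ω)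
  have hihalf : ∀ ω, i ω ≠ n → 2 * i ω ≤ n := by
    intro ω hne
    obtain ⟨c, hc⟩ := hidvd ω
    have hc0 : c ≠ 0 := by
      rintro rfl
      rw [mul_zero] at hc
      omega
    have hc1 : c ≠ 1 := by
      rintro rfl
      rw [mul_one] at hc
      exact hne hc.symm
    have h2 : 2 ≤ c := by omega
    calc 2 * i ω ≤ c * i ω := Nat.mul_le_mul_right _ h2
      _ = n := by rw [hc, mul_comm]
  have hm : Nat.card X = ∑ ω : Ω, i ω := hC
  have hsum : ∑ ω : Ω, (n - i ω) + ∑ ω : Ω, i ω = Nat.card Ω * n := by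
    rw [← Finset.sum_add_distrib]
    rw [Finset.sum_congr rfl (fun ω _ => Nat.sub_add_cancel (hile ω))]
    rw [Finset.sum_const, smul_eq_mul, Finset.card_univ, Nat.card_eq_fintype_card]
  have hdef : ∑ ω : Ω, (n - i ω) ≤ n - 1 := by
    have h := hB'
    rw [← hsum, hm] at h
    omega
  have ha : ∀ ω₁ ω₂ : Ω, ω₁ ≠ ω₂ → i ω₁ = n ∨ i ω₂ = n := by
    intro ω₁ ω₂ hne
    by_contra hcon
    push_neg at hcon
    have h1 := hihalf ω₁ hcon.1
    have h2 := hihalf ω₂ hcon.2
    have h3 : ∑ ω ∈ ({ω₁, ω₂} : Finset Ω), (n - i ω) ≤ ∑ ω : Ω, (n - i ω) :=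
      Finset.sum_le_sum_of_subset (Finset.subset_univ _)
    rw [Finset.sum_pair hne] at h3
    omega
  have hcopX : n.Coprime (Nat.card X) := by
    have h1 : Nat.card X = NH.index := (Subgroup.index_eq_card NH).symm
    rw [h1]
    exact Nat.Coprime.coprime_dvd_right (Subgroup.index_dvd_of_le hHNH) hcopK
  have hb : ∀ q : ℕ, q.Prime → q ∣ n → ∃ ω, ¬ q ∣ i ω := by
    intro q hq hqn
    by_contra hcon
    push_neg at hcon
    have h1 : q ∣ Nat.card X := by rw [hm]; exact Finset.dvd_sum (fun ω _ => hcon ω)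
    have h2 := Nat.dvd_gcd hqn h1
    rw [Nat.Coprime.gcd_eq_one hcopX] at h2
    exact hq.one_lt.ne' (Nat.dvd_one.1 h2)
  by_cases hn1 : n = 1
  · refine ⟨1, ?_⟩
    have : K = ⊥ := Subgroup.card_eq_one.1 hn1
    rw [this]; exact bot_le
  · obtain ⟨q₀, hq₀, hq₀n⟩ := Nat.exists_prime_and_dvd hn1
    obtain ⟨ω₀, hω₀⟩ := hb q₀ hq₀ hq₀n
    have hω₀n : i ω₀ ≠ n := fun h => hω₀ (h ▸ hq₀n)
    have hone : i ω₀ = 1 := by
      by_contra hne
      obtain ⟨q, hq, hqi⟩ := Nat.exists_prime_and_dvd hne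
      have hqn : q ∣ n := hqi.trans (hidvd ω₀)
      obtain ⟨ω₁, hω₁⟩ := hb q hq hqn
      have hne' : ω₀ ≠ ω₁ := by
        rintro rfl
        exact hω₁ hqi
      have hω₁n : i ω₁ ≠ n := fun h => hω₁ (h ▸ hqn)
      rcases ha ω₀ ω₁ hne' with h | h
      · exact hω₀n h
      · exact hω₁n h
    have htop : stabilizer K ω₀.out = ⊤ := Subgroup.index_eq_one.1 hone
    obtain ⟨g, hg⟩ := QuotientGroup.mk_surjective (ω₀.out : G ⧸ NH)
    refine ⟨g, ?_⟩
    intro k hk
    have hmem : (⟨k, hk⟩ : K) ∈ stabilizer K ω₀.out := by rw [htop]; trivial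
    rw [mem_stabilizer_iff, ← hg, hfix] at hmem
    have hH := hclaim1' k hk g hmem
    refine Subgroup.mem_map.2 ⟨g⁻¹ * k * g, hH, ?_⟩
    simp only [MulEquiv.coe_toMonoidHom, MulAut.conj_apply]
    group

end Cfsg.Agent.S4116
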