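import Cfsg.Statements.S4117
import Mathlib
import Cfsg.Agent.Lib.Helper6.ZGroupCoprime

set_option autoImplicit false
open Cfsg

namespace Cfsg.Agent.S4117

open SemidirectProduct
open scoped commutatorElement

/-- Let A be a finite group acting on the finite group G by automorphisms with the orders of A and G coprime, and suppose every Sylow subgroup of G is cyclic. Then the fixed-point subgroup C_G(A) is a Hall subgroup of G (its order is coprime to its index), the subgroup [G, A] generated by the elements g⁻¹·a(g) is cyclic and normal with [G, A] ∩ C_G(A) = 1 and [G, A]·C_G(A) = G. -/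
theorem result {G A : Type*} [Group G] [Finite G] [Group A] [Finite A]
    [MulDistribMulAction A G] (hcop : (Nat.card A).Coprime (Nat.card G))
    (hcyc : ∀ (p : ℕ) [Fact p.Prime] (P : Sylow p G), IsCyclic (P : Subgroup G)) :
    (Nat.card (MulAction.fixedPoints A G : Set G)).Coprime (Nat.card G / Nat.card (MulAction.fixedPoints A G : Set G)) ∧
    IsCyclic (Subgroup.closure {y : G | ∃ (a : A) (g : G), y = g⁻¹ * a • g}) ∧
    (Subgroup.closure {y : G | ∃ (a : A) (g : G), y = g⁻¹ * a • g}).Normal ∧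
    (Subgroup.closure {y : G | ∃ (a : A) (g : G), y = g⁻¹ * a • g} : Set G) ∩ MulAction.fixedPoints A G = {1} ∧
    Subgroup.closure {y : G | ∃ (a : A) (g : G), y = g⁻¹ * a • g} ⊔ Subgroup.closure (MulAction.fixedPoints A G) = ⊤ := by
  classical
  let φ : A →* MulAut G := MulDistribMulAction.toMulAut A G
  let Γ := G ⋊[φ] A
  haveI : Finite Γ := Finite.of_equiv _ (SemidirectProduct.equivProd (φ := φ)).symm
  let iG : G →* Γ := inl
  let iA : A →* Γ := inr
  have hiG : Function.Injective iG := inl_injective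
  have hiA : Function.Injective iA := inr_injective
  have hact : ∀ (a : A) (g : G), iG (a • g) = iA a * iG g * (iA a)⁻¹ := by
    intro a g
    have h := inl_aut (φ := φ) a g
    rw [map_inv] at h
    exact h
  set N : Subgroup Γ := iG.range with hN
  set B : Subgroup Γ := iA.range with hB
  haveI : N.Normal := by
    rw [hN]; show (inl : G →* Γ).range.Normal
    rw [range_inl_eq_ker_rightHom]; infer_instance
  have hcardN : Nat.card N = Nat.card G :=
    (Nat.card_congr (MonoidHom.ofInjective hiG).toEquiv).symm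
  have hcardB : Nat.card B = Nat.card A :=
    (Nat.card_congr (MonoidHom.ofInjective hiA).toEquiv).symm
  haveI : IsZGroup G := ⟨fun p hp P => by haveI : Fact p.Prime := ⟨hp⟩; exact hcyc p P⟩
  haveI : IsZGroup ↥N :=
    IsZGroup.of_surjective (f := iG.rangeRestrict) iG.rangeRestrict_surjective
  have hBN : B ≤ Subgroup.normalizer (N : Set Γ) := by
    rw [Subgroup.normalizer_eq_top]; exact le_top
  obtain ⟨hKcyc, hinf, hsup, hcard, hcopCK⟩ :=
    Lib.Helper6.zgroup_coprime B N hBN (by rw [hcardN, hcardB]; exact hcop)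
  set S : Set G := {y : G | ∃ (a : A) (g : G), y = g⁻¹ * a • g} with hS
  set K₀ : Subgroup G := Subgroup.closure S with hK₀
  set FP : Set G := MulAction.fixedPoints A G with hFP
  set C : Subgroup Γ := N ⊓ Subgroup.centralizer (B : Set Γ) with hC
  have hcomm : ∀ (a : A) (g : G), iG (g⁻¹ * a • g) = ⁅iG g⁻¹, iA a⁆ := by
    intro a g
    rw [commutatorElement_def, map_mul, hact, map_inv, inv_inv]
    simp only [mul_assoc]
  have hmapK : K₀.map iG = ⁅N, B⁆ := by
    rw [hK₀, MonoidHom.map_closure]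
    apply le_antisymm
    · rw [Subgroup.closure_le]
      rintro _ ⟨_, ⟨a, g, rfl⟩, rfl⟩
      rw [hcomm]
      exact Subgroup.commutator_mem_commutator ⟨_, rfl⟩ ⟨_, rfl⟩
    · rw [Subgroup.commutator_le]
      rintro _ ⟨g, rfl⟩ _ ⟨a, rfl⟩
      apply Subgroup.subset_closure
      refine ⟨g * a • g⁻¹, ⟨a, g⁻¹, by rw [inv_inv]⟩, ?_⟩
      have := hcomm a g⁻¹
      rw [inv_inv] at this
      exact this
  have hfp : ∀ g : G, g ∈ FP ↔ iG g ∈ Subgroup.centralizer (B : Set Γ) := by
    intro g
    rw [Subgroup.mem_centralizer_iff]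
    constructor
    · rintro hg _ ⟨a, rfl⟩
      have h1 : a • g = g := hg a
      have h2 := hact a g
      rw [h1] at h2
      calc iA a * iG g = (iA a * iG g * (iA a)⁻¹) * iA a := by rw [inv_mul_cancel_right]
        _ = iG g * iA a := by rw [← h2]
    · intro h a
      apply hiG
      rw [hact, h (iA a) ⟨a, rfl⟩, mul_inv_cancel_right]
  have hCpos : 0 < Nat.card C := Nat.card_pos
  have hcardFP : Nat.card FP = Nat.card C := by
    refine Nat.card_congr (Equiv.ofBijective
      (fun x : FP => (⟨iG x, ⟨⟨x, rfl⟩, (hfp x).mp x.2⟩⟩ : ↥C)) ⟨?_, ?_⟩)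
    · intro x y hxy
      apply Subtype.ext
      apply hiG
      exact congrArg Subtype.val hxy
    · rintro ⟨_, ⟨g, rfl⟩, hc⟩
      exact ⟨⟨g, (hfp g).mpr hc⟩, rfl⟩
  refine ⟨?_, ?_, ?_, ?_, ?_⟩
  · rw [hcardFP, ← hcardN, hcard, Nat.mul_div_cancel _ hCpos]
    exact hcopCK
  · haveI : IsCyclic ↥(K₀.map iG) := by rw [hmapK]; exact hKcyc
    exact isCyclic_of_surjective (K₀.equivMapOfInjective iG hiG).symm (MulEquiv.surjective _)
  · constructor
    intro x hx g
    have h1 : iG x ∈ ⁅N, B⁆ := by rw [← hmapK]; exact Subgroup.mem_map_of_mem _ hx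
    have h2 : iG g ∈ Subgroup.normalizer ((⁅N, B⁆ : Subgroup Γ) : Set Γ) :=
      (Lib.Helper13.le_normalizer_commutator N B) (Subgroup.mem_sup_left ⟨g, rfl⟩)
    have h3 : iG (g * x * g⁻¹) ∈ K₀.map iG := by
      rw [hmapK, map_mul, map_mul, map_inv]
      exact (Subgroup.mem_normalizer_iff.mp h2 _).mp h1
    exact (Subgroup.mem_map_iff_mem hiG).mp h3
  · ext x
    constructor
    · rintro ⟨hx1, hx2⟩
      have h1 : iG x ∈ ⁅N, B⁆ := by rw [← hmapK]; exact Subgroup.mem_map_of_mem _ hx1
      have h2 : iG x ∈ C := ⟨⟨x, rfl⟩, (hfp x).mp hx2⟩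
      have h3 : iG x ∈ ⁅N, B⁆ ⊓ C := ⟨h1, h2⟩
      rw [hinf, Subgroup.mem_bot] at h3
      rw [Set.mem_singleton_iff]
      apply hiG
      rw [h3, map_one]
    · intro hx
      rw [Set.mem_singleton_iff] at hx
      subst hx
      exact ⟨K₀.one_mem, fun a => smul_one a⟩
  · rw [eq_top_iff]
    intro g _
    have h1 : iG g ∈ (K₀ ⊔ Subgroup.closure FP).map iG := by
      rw [Subgroup.map_sup, hmapK]
      have h2 : iG g ∈ N := ⟨g, rfl⟩
      rw [← hsup] at h2
      have h3 : C ≤ (Subgroup.closure FP).map iG := by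
        rintro _ ⟨⟨g', rfl⟩, hc⟩
        exact Subgroup.mem_map_of_mem _ (Subgroup.subset_closure ((hfp g').mpr hc))
      exact (sup_le_sup_left h3 ⁅N, B⁆ : ⁅N, B⁆ ⊔ C ≤ _) h2
    exact (Subgroup.mem_map_iff_mem hiG).mp h1

end Cfsg.Agent.S4117
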