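import Cfsg.Statements.S4126
import Mathlib
import Cfsg.Agent.Lib.Helper25.PowerClass
import Cfsg.Agent.Lib.Helper11.FrobeniusLocal
-- import your own Cfsg.Agent.* helpers here

set_option autoImplicit false
open Cfsg

namespace Cfsg.Agent.S4126

open Cfsg.Agent.Lib.Helper25

section
variable {G : Type*} [Group G] [Finite G]

/-- all `r`-elements (`r ≠ p`) centralize every normal subgroup contained in a Sylow `p`-subgroup -/
theorem main_claim (p : ℕ) [Fact p.Prime] (P : Sylow p G)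
    (hw : ∀ x : G, wsm p x → ∃ a : ℕ, (Subgroup.centralizer ({x} : Set G)).index = p ^ a) :
    ∀ (n : ℕ) (Y : Subgroup G), Nat.card Y = n → Y.Normal → Y ≤ (P : Subgroup G) →
      ∀ (r : ℕ), r.Prime → r ≠ p → ∀ (g : G) (k : ℕ), g ^ (r ^ k) = 1 → ∀ y ∈ Y, g * y * g⁻¹ = y := by
  have hp : p.Prime := Fact.out
  intro n
  induction n using Nat.strong_induction_on with
  | _ n ih =>
  intro Y hn hYn hYP
  by_cases hne : Y = ⊥
  · intro r _ _ g k _ y hy
    rw [hne, Subgroup.mem_bot] at hy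
    rw [hy]
    group
  have hYp : IsPGroup p Y := P.2.to_le hYP
  have hcop : ∀ (r : ℕ), r.Prime → r ≠ p → ∀ k : ℕ, (r ^ k).Coprime p := fun r hr hrp k =>
    Nat.Coprime.pow_left k ((Nat.coprime_primes hr hp).2 hrp)
  -- the Frattini-like subgroup
  obtain ⟨K, hKY, hKlt, hKcomm, hKpow⟩ := exists_proper_frattini_like Y hYp hne
  obtain ⟨N, hNdef⟩ : ∃ N : Subgroup G, N = Subgroup.closure (frGens p Y) := ⟨_, rfl⟩
  have hgensN : ∀ z ∈ frGens p Y, z ∈ N := fun z hz => hNdef ▸ Subgroup.subset_closure hz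
  have hNK : N ≤ K := by
    rw [hNdef, Subgroup.closure_le]
    rintro z (⟨a, ha, b, hb, rfl⟩ | ⟨a, ha, rfl⟩)
    · exact hKcomm a ha b hb
    · exact hKpow a ha
  have hNY : N ≤ Y := hNK.trans hKY
  have hNcard : Nat.card N < Nat.card Y := lt_of_le_of_lt (Subgroup.card_le_of_le hNK) hKlt
  have hNn : N.Normal := by
    rw [hNdef]
    apply closure_normal_of_conj
    rintro z (⟨a, ha, b, hb, rfl⟩ | ⟨a, ha, rfl⟩) g
    · left
      refine ⟨g * a * g⁻¹, hYn.conj_mem a ha g, g * b * g⁻¹, hYn.conj_mem b hb g, ?_⟩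
      group
    · right
      refine ⟨g * a * g⁻¹, hYn.conj_mem a ha g, ?_⟩
      rw [conj_pow]
  have hNgood := ih (Nat.card N) (hn ▸ hNcard) N rfl hNn (hNY.trans hYP)
  have hNYn : ∀ y ∈ Y, ∀ z ∈ N, y * z * y⁻¹ ∈ N := fun y _ z hz => hNn.conj_mem z hz y
  -- the subgroup generated by the `y⁻¹ y^g`
  obtain ⟨Y₁, hY₁def⟩ : ∃ Y₁ : Subgroup G, Y₁ = Subgroup.closure
      {d | ∃ (r : ℕ) (g : G) (k : ℕ) (y : G), r.Prime ∧ r ≠ p ∧ g ^ (r ^ k) = 1 ∧ y ∈ Y ∧
        d = y⁻¹ * (g * y * g⁻¹)} := ⟨_, rfl⟩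
  have hDY₁ : ∀ (r : ℕ) (g : G) (k : ℕ) (y : G), r.Prime → r ≠ p → g ^ (r ^ k) = 1 → y ∈ Y →
      y⁻¹ * (g * y * g⁻¹) ∈ Y₁ := fun r g k y hr hrp hg hy =>
    hY₁def ▸ Subgroup.subset_closure ⟨r, g, k, y, hr, hrp, hg, hy, rfl⟩
  have hY₁Y : Y₁ ≤ Y := by
    rw [hY₁def, Subgroup.closure_le]
    rintro _ ⟨r, g, k, y, _, _, _, hy, rfl⟩
    exact Y.mul_mem (Y.inv_mem hy) (hYn.conj_mem y hy g)
  have hY₁n : Y₁.Normal := by
    rw [hY₁def]
    apply closure_normal_of_conj
    rintro _ ⟨r, g, k, y, hr, hrp, hg, hy, rfl⟩ h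
    refine ⟨r, h * g * h⁻¹, k, h * y * h⁻¹, hr, hrp, ?_, hYn.conj_mem y hy h, ?_⟩
    · rw [conj_pow, hg, mul_one, mul_inv_cancel]
    · group
  by_cases hlt1 : Nat.card Y₁ < Nat.card Y
  · have hY₁good := ih (Nat.card Y₁) (hn ▸ hlt1) Y₁ rfl hY₁n (hY₁Y.trans hYP)
    intro r hr hrp g k hg y hy
    have hnY₁ := hDY₁ r g k y hr hrp hg hy
    have hfix := hY₁good r hr hrp g k hg _ hnY₁
    obtain ⟨j, hj⟩ := hYp ⟨y⁻¹ * (g * y * g⁻¹), hY₁Y hnY₁⟩
    have hj' : (y⁻¹ * (g * y * g⁻¹)) ^ (p ^ j) = 1 := congrArg Subtype.val hj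
    have h1 := eq_one_of_fixed_comm (p := p) (MulAut.conj g) (conj_pow_eq_one hg) (hcop r hr hrp k)
      (y := y) (n := y⁻¹ * (g * y * g⁻¹)) (by rw [MulAut.conj_apply]; group)
      (by rw [MulAut.conj_apply]; exact hfix) hj'
    have h2 : y * (y⁻¹ * (g * y * g⁻¹)) = y * 1 := by rw [h1]
    rw [mul_inv_cancel_left, mul_one] at h2
    exact h2
  have hYeq : Y₁ = Y := Subgroup.eq_of_le_of_card_ge hY₁Y (not_lt.1 hlt1)
  -- `N` is central in `Y`
  have hcent : ∀ z ∈ N, ∀ y ∈ Y, z * y = y * z := by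
    intro z hz y hy
    have h1 : Y₁ ≤ Subgroup.centralizer {z} := by
      rw [hY₁def, Subgroup.closure_le]
      rintro _ ⟨r, g, k, y', hr, hrp, hg, hy', rfl⟩
      rw [SetLike.mem_coe, Subgroup.mem_centralizer_iff]
      intro h hh
      rw [Set.mem_singleton_iff] at hh
      rw [hh]
      have hfixN : ∀ z' ∈ N, (MulAut.conj g) z' = z' := fun z' hz' => by
        rw [MulAut.conj_apply]
        exact hNgood r hr hrp g k hg z' hz'
      have h2 := comm_of_fix_normal (MulAut.conj g) hfixN hz (hNYn y' hy' z hz)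
      rw [MulAut.conj_apply] at h2
      exact h2.symm
    have h2 := h1 (hYeq ▸ hy)
    rw [Subgroup.mem_centralizer_iff] at h2
    exact h2 z rfl
  -- the subgroup generated by the small elements
  obtain ⟨T, hTdef⟩ : ∃ T : Subgroup G, T = Subgroup.closure {y | y ∈ Y ∧ wsm p y} := ⟨_, rfl⟩
  have hTY : T ≤ Y := by
    rw [hTdef, Subgroup.closure_le]
    rintro y ⟨hy, _⟩
    exact hy
  have hTn : T.Normal := by
    rw [hTdef]
    apply closure_normal_of_conj
    rintro y ⟨hy, hs⟩ g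
    exact ⟨hYn.conj_mem y hy g, wsm_conj hs g⟩
  by_cases hlt2 : Nat.card T < Nat.card Y
  · have hTgood := ih (Nat.card T) (hn ▸ hlt2) T rfl hTn (hTY.trans hYP)
    intro r hr hrp g k hg y hy
    have h1 := fix_of_fix_small (p := p) (MulAut.conj g) (conj_pow_eq_one hg) (hcop r hr hrp k)
      (Nat.card Y) Y rfl inferInstance hYp
      (fun y hy => by rw [MulAut.conj_apply]; exact hYn.conj_mem y hy g)
      (fun y hy hs => by
        rw [MulAut.conj_apply]
        exact hTgood r hr hrp g k hg y (hTdef ▸ Subgroup.subset_closure ⟨hy, hs⟩))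
      y hy
    rw [MulAut.conj_apply] at h1
    exact h1
  have hTeq : T = Y := Subgroup.eq_of_le_of_card_ge hTY (not_lt.1 hlt2)
  -- all elements of `Y` are small
  have hall' : ∀ y, y ∈ Subgroup.closure {y | y ∈ Y ∧ wsm p y} → y ∈ Y ∧ wsm p y := by
    intro y h1
    induction h1 using Subgroup.closure_induction with
    | mem x hx => exact hx
    | one => exact ⟨Y.one_mem, wsm_one p⟩
    | mul a b _ _ ha hb =>
      refine ⟨Y.mul_mem ha.1 hb.1, ?_⟩
      rw [wsm_iff_qq]
      have hzN : b⁻¹ * a⁻¹ * b * a ∈ N := by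
        apply hgensN
        left
        refine ⟨b⁻¹, Y.inv_mem hb.1, a⁻¹, Y.inv_mem ha.1, ?_⟩
        rw [inv_inv, inv_inv]
      have hbpN : b ^ p ∈ N := hgensN _ (Or.inr ⟨b, hb.1, rfl⟩)
      rw [mul_pow_qq (hcent _ hzN a ha.1) (hcent _ hzN b hb.1) (hcent _ hbpN a ha.1),
        (wsm_iff_qq p a).1 ha.2, (wsm_iff_qq p b).1 hb.2, one_mul]
    | inv a _ ha => exact ⟨Y.inv_mem ha.1, wsm_inv ha.2⟩
  have hall : ∀ y ∈ Y, wsm p y := by
    intro y hy
    have h1 : y ∈ T := by rw [hTeq]; exact hy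
    rw [hTdef] at h1
    exact (hall' y h1).2
  -- conclusion by the covering argument
  intro r hr hrp g k hg
  by_contra hcon
  push Not at hcon
  obtain ⟨y₀, hy₀Y, hy₀⟩ := hcon
  have hClt : Y ⊓ Subgroup.centralizer {g} < Y := by
    refine lt_of_le_of_ne inf_le_left ?_
    intro heq
    have h1 : y₀ ∈ Y ⊓ Subgroup.centralizer {g} := by rw [heq]; exact hy₀Y
    have h2 := Subgroup.mem_centralizer_iff.1 h1.2 g rfl
    apply hy₀
    rw [h2, mul_inv_cancel_right]
  obtain ⟨y', hy'Y, hy'⟩ := exists_not_conj_mem P.2 (Nat.card Y) Y (Y ⊓ Subgroup.centralizer {g}) rfl hYP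
    (fun u _ => by
      have := hYn
      rw [Subgroup.normalizer_eq_top]
      exact Subgroup.mem_top u) hClt
  obtain ⟨a, ha⟩ := hw y' (hall y' hy'Y)
  obtain ⟨u, hu, hcomm⟩ := exists_conj_comm P ha hr hrp hg
  refine hy' u hu ⟨hYn.conj_mem y' hy'Y u, Subgroup.mem_centralizer_iff.2 ?_⟩
  intro h hh
  rw [Set.mem_singleton_iff] at hh
  rw [hh]
  exact hcomm

/-- elements of order prime to `p` centralize what all elements of prime power order prime to `p` centralize -/
theorem comm_of_coprime (p : ℕ) [Fact p.Prime] {x : G}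
    (hx : ∀ (r : ℕ), r.Prime → r ≠ p → ∀ (g : G) (k : ℕ), g ^ (r ^ k) = 1 → g * x * g⁻¹ = x) :
    ∀ (m : ℕ) (g : G), g ^ m = 1 → m.Coprime p → Commute g x := by
  have hp : p.Prime := Fact.out
  intro m
  induction m using Nat.strong_induction_on with
  | _ m ih =>
  intro g hg hcop
  by_cases hm0 : m = 0
  · subst hm0
    rw [Nat.coprime_zero_left] at hcop
    exact absurd hcop hp.one_lt.ne'
  by_cases hm1 : m = 1
  · subst hm1
    rw [pow_one] at hg
    rw [hg]
    exact Commute.one_left x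
  obtain ⟨r, hr, hrm⟩ : ∃ r : ℕ, r.Prime ∧ r ∣ m := ⟨m.minFac, Nat.minFac_prime hm1, Nat.minFac_dvd m⟩
  obtain ⟨e, n', hn'dvd, hmeq⟩ := Nat.exists_eq_pow_mul_and_not_dvd hm0 r hr.one_lt.ne'
  have hrp : r ≠ p := by
    intro h
    have h1 : p ∣ m := h ▸ hrm
    have h2 := Nat.Coprime.eq_one_of_dvd hcop.symm h1
    exact hp.one_lt.ne' h2
  have he : e ≠ 0 := by
    rintro rfl
    rw [pow_zero, one_mul] at hmeq
    rw [← hmeq] at hn'dvd
    exact hn'dvd hrm
  have hn'pos : 0 < n' := by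
    rcases Nat.eq_zero_or_pos n' with h | h
    · rw [h, mul_zero] at hmeq
      exact absurd hmeq hm0
    · exact h
  have hn'lt : n' < m := by
    have h1 : 2 ≤ r ^ e := by
      calc 2 ≤ r := hr.two_le
        _ = r ^ 1 := (pow_one _).symm
        _ ≤ r ^ e := Nat.pow_le_pow_right hr.pos (Nat.one_le_iff_ne_zero.2 he)
    calc n' < 2 * n' := by omega
      _ ≤ r ^ e * n' := Nat.mul_le_mul_right _ h1
      _ = m := hmeq.symm
  have hn'cop : n'.Coprime p := Nat.Coprime.coprime_dvd_left ⟨r ^ e, by rw [hmeq, mul_comm]⟩ hcop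
  -- the two parts
  have h1 : Commute (g ^ n') x := by
    have h2 : (g ^ n') ^ (r ^ e) = 1 := by rw [← pow_mul, mul_comm, ← hmeq, hg]
    have h3 := hx r hr hrp (g ^ n') e h2
    show g ^ n' * x = x * g ^ n'
    calc g ^ n' * x = (g ^ n' * x * (g ^ n')⁻¹) * g ^ n' := by group
      _ = x * g ^ n' := by rw [h3]
  have h2 : Commute (g ^ (r ^ e)) x := by
    apply ih n' hn'lt
    · rw [← pow_mul, ← hmeq, hg]
    · exact hn'cop
  have hcop2 : IsCoprime (n' : ℤ) ((r ^ e : ℕ) : ℤ) := by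
    rw [Nat.isCoprime_iff_coprime]
    exact Nat.Coprime.pow_right e ((Nat.Coprime.symm ((Nat.Prime.coprime_iff_not_dvd hr).2 hn'dvd)))
  obtain ⟨s, t, hst⟩ := hcop2
  have hgdec : g = (g ^ n') ^ s * (g ^ (r ^ e)) ^ t := by
    rw [← zpow_natCast g n', ← zpow_natCast g (r ^ e), ← zpow_mul, ← zpow_mul, ← zpow_add]
    have : (n' : ℤ) * s + ((r ^ e : ℕ) : ℤ) * t = 1 := by
      rw [← hst]
      ring
    rw [this, zpow_one]
  rw [hgdec]
  exact (h1.zpow_left s).mul_left (h2.zpow_left t)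

end

/-- Let G be a finite group and p a prime. Suppose every element of order p, and when p = 2 also every element of order 4, has a conjugacy class of p-power size. Then G has a normal p-complement. -/
theorem result {G : Type*} [Group G] [Finite G] (p : ℕ) [Fact p.Prime]
    (h : ∀ x : G, (orderOf x = p ∨ (p = 2 ∧ orderOf x = 4)) → ∃ a : ℕ, (Subgroup.centralizer ({x} : Set G)).index = p ^ a) :
    Cfsg.HasNormalPComplement p G := by
  have hp : p.Prime := Fact.out
  -- reformulate the hypothesis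
  have hw : ∀ x : G, wsm p x → ∃ a : ℕ, (Subgroup.centralizer ({x} : Set G)).index = p ^ a := by
    intro x hx
    by_cases hx1 : x = 1
    · refine ⟨0, ?_⟩
      rw [pow_zero, Subgroup.index_eq_one, eq_top_iff]
      intro g _
      rw [Subgroup.mem_centralizer_iff]
      intro t ht
      rw [Set.mem_singleton_iff] at ht
      rw [ht, hx1, one_mul, mul_one]
    rcases hx with hx | ⟨h2, hx⟩
    · exact h x (Or.inl (orderOf_eq_prime hx hx1))
    · have h3 : orderOf x ∣ 2 ^ 2 := orderOf_dvd_of_pow_eq_one (by norm_num; exact hx)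
      obtain ⟨j, hj, hj'⟩ := (Nat.dvd_prime_pow Nat.prime_two).1 h3
      interval_cases j
      · rw [pow_zero, orderOf_eq_one_iff] at hj'
        exact absurd hj' hx1
      · apply h x
        left
        rw [hj', h2, pow_one]
      · apply h x
        right
        exact ⟨h2, by rw [hj']; norm_num⟩
  let P : Sylow p G := default
  -- the subgroup generated by the small elements
  obtain ⟨V, hVdef⟩ : ∃ V : Subgroup G, V = Subgroup.closure {y : G | wsm p y} := ⟨_, rfl⟩
  have hVn : V.Normal := by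
    rw [hVdef]
    apply closure_normal_of_conj
    intro y hs g
    exact wsm_conj hs g
  have hVP : V ≤ (P : Subgroup G) := by
    rw [hVdef, Subgroup.closure_le]
    intro y hs
    obtain ⟨a, ha⟩ := hw y hs
    exact mem_sylow_of_index_pow P ha (wsm_pow_sq hs)
  have hclaim := main_claim p P hw (Nat.card V) V rfl hVn hVP
  have hcomm : ∀ (x : G), wsm p x → ∀ (g : G), (orderOf g).Coprime p → g * x * g⁻¹ = x := by
    intro x hs g hg
    have h1 := comm_of_coprime p (x := x)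
      (fun r hr hrp g' k hg' => hclaim r hr hrp g' k hg' x (hVdef ▸ Subgroup.subset_closure hs))
      (orderOf g) g (pow_orderOf_eq_one g) hg
    rw [h1.eq, mul_inv_cancel_right]
  have hloc : Cfsg.Agent.Lib.Helper11.LocalPNilpotent p G := by
    intro D hD g hg hgo
    rw [Subgroup.mem_centralizer_iff]
    have h1 := fix_of_fix_small (p := p) (MulAut.conj g) (conj_pow_eq_one (pow_orderOf_eq_one g)) hgo
      (Nat.card D) D rfl inferInstance hD
      (fun y hy => by rw [MulAut.conj_apply]; exact (Subgroup.mem_normalizer_iff.1 hg y).1 hy)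
      (fun y _ hs => by rw [MulAut.conj_apply]; exact hcomm y hs g hgo)
    intro d hd
    have h2 := h1 d hd
    rw [MulAut.conj_apply] at h2
    have h3 : g * d = d * g := by
      calc g * d = (g * d * g⁻¹) * g := by group
        _ = d * g := by rw [h2]
    exact h3.symm
  obtain ⟨K, hKn, hKc⟩ := Cfsg.Agent.Lib.Helper11.exists_normal_complement_of_local hloc P
  exact ⟨P, K, hKn, hKc⟩

end Cfsg.Agent.S4126
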