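import Cfsg.Statements.S4127
import Mathlib
import Cfsg.Agent.Lib.Helper13.PQLemma
import Cfsg.Agent.Lib.Helper14.ConjUnion
import Cfsg.Agent.Lib.Helper17.NormalHall
import Cfsg.Agent.Lib.Helper2.HallNormal
import Cfsg.Agent.Lib.Helper2.SylowCount

set_option autoImplicit false
open Cfsg

namespace Cfsg.Agent.S4127

open Cfsg.Agent.Lib.Helper2
open scoped Pointwise

/-- `p`/`p'` decomposition of an element. -/
theorem pdecomp {H : Type*} [Group H] [Finite H] (p : ℕ) [hp : Fact p.Prime] (g : H) :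
    ∃ u y : H, u * y = g ∧ Commute u y ∧ (∃ k : ℕ, orderOf u = p ^ k) ∧
      (orderOf y).Coprime p := by
  have hpp := hp.out
  have hpos : orderOf g ≠ 0 := (orderOf_pos g).ne'
  obtain ⟨k, m, hm, hkm⟩ := Nat.exists_eq_pow_mul_and_not_dvd hpos p hpp.ne_one
  have hcop : (p ^ k).Coprime m :=
    Nat.Coprime.pow_left k ((Nat.Prime.coprime_iff_not_dvd hpp).2 hm)
  obtain ⟨n1, h11, h12⟩ := Nat.chineseRemainder hcop 1 0
  obtain ⟨n2, h21, h22⟩ := Nat.chineseRemainder hcop 0 1
  refine ⟨g ^ n1, g ^ n2, ?_, (Commute.refl g).pow_pow n1 n2, ?_, ?_⟩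
  · rw [← pow_add]
    have h1 : n1 + n2 ≡ 1 [MOD p ^ k] := by simpa using h11.add h21
    have h2 : n1 + n2 ≡ 1 [MOD m] := by simpa using h12.add h22
    have h3 : n1 + n2 ≡ 1 [MOD orderOf g] := by
      rw [hkm]; exact (Nat.modEq_and_modEq_iff_modEq_mul hcop).1 ⟨h1, h2⟩
    have := (pow_eq_pow_iff_modEq (x := g)).2 h3
    rwa [pow_one] at this
  · have hd : m ∣ n1 := (Nat.modEq_zero_iff_dvd).1 h12
    obtain ⟨t, ht⟩ := hd
    have h1 : (g ^ n1) ^ (p ^ k) = 1 := by
      rw [← pow_mul, ht, show m * t * p ^ k = orderOf g * t by rw [hkm]; ring, pow_mul,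
        pow_orderOf_eq_one, one_pow]
    have h2 : orderOf (g ^ n1) ∣ p ^ k := orderOf_dvd_of_pow_eq_one h1
    obtain ⟨j, -, hj⟩ := (Nat.dvd_prime_pow hpp).1 h2
    exact ⟨j, hj⟩
  · have hd : p ^ k ∣ n2 := (Nat.modEq_zero_iff_dvd).1 h21
    obtain ⟨t, ht⟩ := hd
    have h1 : (g ^ n2) ^ m = 1 := by
      rw [← pow_mul, ht, show p ^ k * t * m = orderOf g * t by rw [hkm]; ring, pow_mul,
        pow_orderOf_eq_one, one_pow]
    have h2 : orderOf (g ^ n2) ∣ m := orderOf_dvd_of_pow_eq_one h1
    exact Nat.Coprime.coprime_dvd_left h2 ((Nat.Prime.coprime_iff_not_dvd hpp).2 hm).symm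

/-- Centraliser of a product of commuting elements of coprime orders. -/
theorem centralizer_mul_of_coprime {G : Type*} [Group G] {x y : G} (hc : Commute x y)
    (hco : (orderOf x).Coprime (orderOf y)) :
    Subgroup.centralizer ({x * y} : Set G) =
      Subgroup.centralizer ({x} : Set G) ⊓ Subgroup.centralizer ({y} : Set G) := by
  obtain ⟨n1, h11, h12⟩ := Nat.chineseRemainder hco 1 0
  obtain ⟨n2, h21, h22⟩ := Nat.chineseRemainder hco 0 1
  have e1 : (x * y) ^ n1 = x := by
    rw [hc.mul_pow, (pow_eq_pow_iff_modEq (x := x)).2 h11, (pow_eq_pow_iff_modEq (x := y)).2 h12,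
      pow_one, pow_zero, mul_one]
  have e2 : (x * y) ^ n2 = y := by
    rw [hc.mul_pow, (pow_eq_pow_iff_modEq (x := x)).2 h21, (pow_eq_pow_iff_modEq (x := y)).2 h22,
      pow_one, pow_zero, one_mul]
  ext g
  simp only [Subgroup.mem_inf, Subgroup.mem_centralizer_singleton_iff]
  constructor
  · intro h
    have hcm : Commute g (x * y) := h
    refine ⟨?_, ?_⟩
    · have := hcm.pow_right n1
      rw [e1] at this
      exact this
    · have := hcm.pow_right n2
      rw [e2] at this
      exact this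
  · rintro ⟨h1, h2⟩
    have c1 : Commute g x := h1
    have c2 : Commute g y := h2
    exact c1.mul_right c2

/-- Subgroups of coprime indices: `G = A B`. -/
theorem exists_mul_of_coprime_index {G : Type*} [Group G] [Finite G] (A B : Subgroup G)
    (h : A.index.Coprime B.index) (g : G) : ∃ a ∈ A, ∃ b ∈ B, g = a * b := by
  have h1 : (A ⊓ B).relIndex A * A.index = (A ⊓ B).index :=
    Subgroup.relIndex_mul_index inf_le_left
  have h2 : (A ⊓ B).relIndex B * B.index = (A ⊓ B).index :=
    Subgroup.relIndex_mul_index inf_le_right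
  rw [Subgroup.inf_relIndex_left] at h1
  rw [Subgroup.inf_relIndex_right] at h2
  have h3 : B.index ∣ B.relIndex A := by
    have : B.index ∣ B.relIndex A * A.index := by rw [h1, ← h2]; exact dvd_mul_left _ _
    exact Nat.Coprime.dvd_of_dvd_mul_right h.symm this
  have hst : MulAction.stabilizer A (((1 : G) : G ⧸ B)) = B.subgroupOf A := by
    ext s
    rw [MulAction.mem_stabilizer_iff, Subgroup.mem_subgroupOf]
    have h5 : (s : G) ∈ MulAction.stabilizer G (((1 : G) : G ⧸ B)) ↔ (s : G) ∈ B := by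
      rw [MulAction.stabilizer_quotient]
    rw [← h5, MulAction.mem_stabilizer_iff]
    rfl
  have horb : (MulAction.orbit A (((1 : G) : G ⧸ B))).ncard = B.relIndex A := by
    rw [← MulAction.index_stabilizer, hst]; rfl
  have huniv : MulAction.orbit A (((1 : G) : G ⧸ B)) = Set.univ := by
    rw [Set.eq_univ_iff_ncard]
    apply le_antisymm (Set.ncard_le_card _)
    rw [horb, ← Subgroup.index_eq_card]
    exact Nat.le_of_dvd (Nat.pos_of_ne_zero Subgroup.index_ne_zero_of_finite) h3
  have hg : ((g : G) : G ⧸ B) ∈ MulAction.orbit A (((1 : G) : G ⧸ B)) := by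
    rw [huniv]; trivial
  obtain ⟨s, hs⟩ := hg
  have hs' : (((s : G) * 1 : G) : G ⧸ B) = ((g : G) : G ⧸ B) := hs
  rw [mul_one] at hs'
  have := QuotientGroup.eq.1 hs'
  exact ⟨s, s.2, (s : G)⁻¹ * g, this, by group⟩

/-- Key step of Camina's lemma. -/
theorem camina_top {H : Type*} [Group H] [Finite H] (p : ℕ) [hp : Fact p.Prime]
    (hH : ∀ y : H, (orderOf y).Coprime p →
      ¬ p ∣ (Subgroup.centralizer ({y} : Set H)).index)
    (P : Sylow p H) :
    (P : Subgroup H) ⊔ Subgroup.centralizer ((P : Subgroup H) : Set H) = ⊤ := by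
  have hpp := hp.out
  by_contra hM
  obtain ⟨g, hg⟩ := Cfsg.Agent.Lib.Helper14.exists_not_mem_conj _ hM
  obtain ⟨u, y, huy, hcomm, ⟨k, hk⟩, hy⟩ := pdecomp p g
  obtain ⟨D, hD⟩ : ∃ D : Subgroup H, D = Subgroup.centralizer ({y} : Set H) := ⟨_, rfl⟩
  have hDi : ¬ p ∣ D.index := by rw [hD]; exact hH y hy
  have huD : u ∈ D := by
    rw [hD, Subgroup.mem_centralizer_singleton_iff]; exact hcomm.eq
  have hup : IsPGroup p (Subgroup.zpowers (⟨u, huD⟩ : D)) := by
    apply IsPGroup.of_card (n := k)
    rw [Nat.card_zpowers, Subgroup.orderOf_mk, hk]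
  obtain ⟨Q, hQ⟩ := hup.exists_le_sylow
  have hfac : (Nat.card D).factorization p = (Nat.card H).factorization p := by
    have h1 : Nat.card D * D.index = Nat.card H := Subgroup.card_mul_index D
    have hi0 : D.index ≠ 0 := Subgroup.index_ne_zero_of_finite
    rw [← h1, Nat.factorization_mul Nat.card_pos.ne' hi0]
    simp [Nat.factorization_eq_zero_of_not_dvd hDi]
  have hcard : Nat.card ((Q : Subgroup D).map D.subtype) =
      p ^ (Nat.card H).factorization p := by
    rw [Subgroup.card_map_of_injective D.subtype_injective, ← hfac]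
    exact Q.card_eq_multiplicity
  obtain ⟨Q', hQ'⟩ : ∃ Q' : Sylow p H, (Q' : Subgroup H) = (Q : Subgroup D).map D.subtype :=
    ⟨Sylow.ofCard _ hcard, Sylow.coe_ofCard _ hcard⟩
  obtain ⟨t, ht⟩ := MulAction.exists_smul_eq H Q' P
  have hPmem : ∀ z : H, z ∈ (P : Subgroup H) ↔ t⁻¹ * z * t ∈ (Q' : Subgroup H) := by
    intro z
    rw [← ht, Sylow.coe_subgroup_smul, Subgroup.mem_pointwise_smul_iff_inv_smul_mem,
      MulAut.smul_def, MulAut.conj_inv_apply]
  have huQ : u ∈ (Q' : Subgroup H) := by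
    rw [hQ']
    exact Subgroup.mem_map.2 ⟨⟨u, huD⟩, hQ (Subgroup.mem_zpowers _), rfl⟩
  have hQD : ∀ w ∈ (Q' : Subgroup H), w * y = y * w := by
    intro w hw
    rw [hQ'] at hw
    obtain ⟨w', -, rfl⟩ := Subgroup.mem_map.1 hw
    have hDle : D ≤ Subgroup.centralizer ({y} : Set H) := hD.le
    have := hDle w'.2
    rw [Subgroup.mem_centralizer_singleton_iff] at this
    exact this
  apply hg t⁻¹
  rw [inv_inv, ← huy]
  have e : t * (u * y) * t⁻¹ = (t * u * t⁻¹) * (t * y * t⁻¹) := by group
  rw [e]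
  apply Subgroup.mul_mem_sup
  · rw [hPmem]
    have : t⁻¹ * (t * u * t⁻¹) * t = u := by group
    rw [this]; exact huQ
  · rw [Subgroup.mem_centralizer_iff]
    intro z hz
    rw [SetLike.mem_coe, hPmem] at hz
    have h1 := hQD _ hz
    have e1 : z * (t * y * t⁻¹) = t * ((t⁻¹ * z * t) * y) * t⁻¹ := by group
    have e2 : t * y * t⁻¹ * z = t * (y * (t⁻¹ * z * t)) * t⁻¹ := by group
    rw [e1, e2, h1]

/-- **Camina's lemma**: if every `p'`-element has class size prime to `p`, then `p`-elements
commute with `p'`-elements. -/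
theorem camina {H : Type*} [Group H] [Finite H] (p : ℕ) [hp : Fact p.Prime]
    (hH : ∀ y : H, (orderOf y).Coprime p →
      ¬ p ∣ (Subgroup.centralizer ({y} : Set H)).index)
    (u y : H) (hu : ∃ k : ℕ, orderOf u = p ^ k) (hy : (orderOf y).Coprime p) :
    u * y = y * u := by
  obtain ⟨k, hk⟩ := hu
  have hup : IsPGroup p (Subgroup.zpowers u) := by
    apply IsPGroup.of_card (n := k); rw [Nat.card_zpowers, hk]
  obtain ⟨P, hP⟩ := hup.exists_le_sylow
  have htop := camina_top p hH P
  have hnorm : (P : Subgroup H).Normal := by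
    rw [← Subgroup.normalizer_eq_top_iff, eq_top_iff, ← htop]
    exact sup_le Subgroup.le_normalizer (Subgroup.centralizer_le_normalizer _)
  haveI := hnorm
  have hidx : (Subgroup.centralizer ((P : Subgroup H) : Set H)).index ∣
      Nat.card (P : Subgroup H) :=
    index_dvd_card_of_sup_eq_top _ _ (by rw [sup_comm]; exact htop)
  have hy' : y ∈ Subgroup.centralizer ((P : Subgroup H) : Set H) := by
    apply Cfsg.Agent.Lib.Helper17.mem_of_coprime_index
    obtain ⟨n, hn⟩ := IsPGroup.iff_card.1 P.2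
    rw [hn] at hidx
    obtain ⟨j, -, hj⟩ := (Nat.dvd_prime_pow hp.out).1 hidx
    rw [hj]; exact Nat.Coprime.pow_right j hy
  rw [Subgroup.mem_centralizer_iff] at hy'
  exact hy' u (hP (Subgroup.mem_zpowers u))

/-- Let G be a finite group, p a prime and p^a the largest power of p dividing the size of any conjugacy class of G. If some element of p-power order has a conjugacy class of size exactly p^a, then G has a normal p-complement. -/
theorem result {G : Type*} [Group G] [Finite G] (p : ℕ) [Fact p.Prime]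
    (a : ℕ) (hmax : ∀ y : G, ¬ p ^ (a + 1) ∣ (Subgroup.centralizer ({y} : Set G)).index)
    (hx : ∃ x : G, (∃ k : ℕ, orderOf x = p ^ k) ∧ (Subgroup.centralizer ({x} : Set G)).index = p ^ a) :
    Cfsg.HasNormalPComplement p G := by
  have hpp : p.Prime := Fact.out
  obtain ⟨x, ⟨k, hk⟩, hxa⟩ := hx
  obtain ⟨C, hC⟩ : ∃ C : Subgroup G, C = Subgroup.centralizer ({x} : Set G) := ⟨_, rfl⟩
  rw [← hC] at hxa
  have memC : ∀ g : G, g ∈ C ↔ g * x = x * g := by
    intro g; rw [hC, Subgroup.mem_centralizer_singleton_iff]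
  -- Step 1
  have step1 : ∀ y ∈ C, (orderOf y).Coprime p →
      ¬ p ∣ (Subgroup.centralizer ({y} : Set G)).relIndex C := by
    intro y hyC hy hdiv
    have hcomm : Commute x y := ((memC y).1 hyC).symm
    have hco : (orderOf x).Coprime (orderOf y) := by
      rw [hk]; exact Nat.Coprime.pow_left k hy.symm
    have hcent : Subgroup.centralizer ({x * y} : Set G) =
        C ⊓ Subgroup.centralizer ({y} : Set G) := by
      rw [hC]; exact centralizer_mul_of_coprime hcomm hco
    have h1 := Subgroup.relIndex_mul_index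
      (inf_le_left : C ⊓ Subgroup.centralizer ({y} : Set G) ≤ C)
    rw [Subgroup.inf_relIndex_left, hxa] at h1
    apply hmax (x * y)
    rw [hcent, ← h1, pow_succ' p a]
    exact mul_dvd_mul hdiv (dvd_refl _)
  -- Camina in `C`
  have hcam : ∀ y : C, (orderOf y).Coprime p →
      ¬ p ∣ (Subgroup.centralizer ({y} : Set C)).index := by
    intro y hy
    have e : Subgroup.centralizer ({y} : Set C) =
        (Subgroup.centralizer ({(y : G)} : Set G)).subgroupOf C := by
      ext g
      simp only [Subgroup.mem_subgroupOf, Subgroup.mem_centralizer_singleton_iff,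
        Subtype.ext_iff, Subgroup.coe_mul]
    rw [e]
    exact step1 (y : G) y.2 (by rwa [Subgroup.orderOf_coe])
  have camC : ∀ u y : G, u ∈ C → y ∈ C → (∃ k : ℕ, orderOf u = p ^ k) →
      (orderOf y).Coprime p → u * y = y * u := by
    intro u y hu hy hup hyp
    have := camina p hcam ⟨u, hu⟩ ⟨y, hy⟩ (by simpa [Subgroup.orderOf_mk] using hup)
      (by simpa [Subgroup.orderOf_mk] using hyp)
    exact congrArg Subtype.val this
  -- a Sylow subgroup containing `x`, and the normal closure of `x`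
  have hxp : IsPGroup p (Subgroup.zpowers x) := by
    apply IsPGroup.of_card (n := k); rw [Nat.card_zpowers, hk]
  obtain ⟨S, hS⟩ := hxp.exists_le_sylow
  have hxS : x ∈ (S : Subgroup G) := hS (Subgroup.mem_zpowers x)
  have hcopi : (S : Subgroup G).index.Coprime C.index := by
    rw [hxa]
    exact Nat.Coprime.pow_right a ((Nat.Prime.coprime_iff_not_dvd hpp).2 S.not_dvd_index).symm
  have hconj : ∀ g : G, g * x * g⁻¹ ∈ (S : Subgroup G) := by
    intro g
    obtain ⟨s, hs, c, hc, rfl⟩ := exists_mul_of_coprime_index (S : Subgroup G) C hcopi g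
    have hcx : c * x = x * c := (memC c).1 hc
    have : s * c * x * (s * c)⁻¹ = s * x * s⁻¹ := by
      rw [mul_inv_rev, mul_assoc s c x, hcx]; group
    rw [this]
    exact (S : Subgroup G).mul_mem ((S : Subgroup G).mul_mem hs hxS) ((S : Subgroup G).inv_mem hs)
  obtain ⟨N, hN⟩ : ∃ N : Subgroup G, N = Subgroup.normalClosure ({x} : Set G) := ⟨_, rfl⟩
  have hNn : N.Normal := by rw [hN]; exact Subgroup.normalClosure_normal
  have hNS : N ≤ (S : Subgroup G) := by
    rw [hN, Subgroup.normalClosure, Subgroup.closure_le]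
    intro z hz
    obtain ⟨b, hb, hbz⟩ := Group.mem_conjugatesOfSet_iff.1 hz
    rw [Set.mem_singleton_iff] at hb
    subst hb
    obtain ⟨g, hg⟩ := isConj_iff.1 hbz
    rw [← hg]; exact hconj g
  have hNp : IsPGroup p N := S.2.to_le hNS
  have hxN : x ∈ N := by
    rw [hN]; exact Subgroup.subset_normalClosure (Set.mem_singleton x)
  obtain ⟨L, hL⟩ : ∃ L : Subgroup G, L = Subgroup.centralizer (N : Set G) := ⟨_, rfl⟩
  have hLn : L.Normal := by rw [hL]; haveI := hNn; exact Subgroup.normal_centralizer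
  have hLC : L ≤ C := by
    rw [hL, hC]; exact Subgroup.centralizer_le (Set.singleton_subset_iff.2 hxN)
  have hnt : Subgroup.normalizer (N : Set G) = ⊤ := Subgroup.normalizer_eq_top_iff.2 hNn
  -- `p'`-elements of `C` centralise `N`
  have hE : ∀ y ∈ C, (orderOf y).Coprime p → y ∈ L := by
    intro y hyC hy
    have hcomm : Commute y x := (memC y).1 hyC
    have hDrel := step1 y hyC hy
    obtain ⟨Cy, hCy⟩ : ∃ Cy : Subgroup G, Cy = Subgroup.centralizer ({y} : Set G) := ⟨_, rfl⟩
    rw [← hCy] at hDrel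
    have hM : N ⊓ C ≤ Cy := by
      obtain ⟨D, hD⟩ : ∃ D : Subgroup G, D = C ⊓ Cy := ⟨_, rfl⟩
      have hDC : D ≤ C := hD ▸ inf_le_left
      have hnorm : D ≤ Subgroup.normalizer ((N ⊓ C : Subgroup G) : Set G) := by
        intro d hd
        have hdC := hDC hd
        rw [Subgroup.mem_normalizer_iff]
        intro n
        rw [Subgroup.mem_inf, Subgroup.mem_inf]
        constructor
        · rintro ⟨h1, h2⟩
          exact ⟨hNn.conj_mem n h1 d, C.mul_mem (C.mul_mem hdC h2) (C.inv_mem hdC)⟩
        · rintro ⟨h1, h2⟩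
          refine ⟨?_, ?_⟩
          · have := hNn.conj_mem _ h1 d⁻¹
            simpa [mul_assoc] using this
          · have := C.mul_mem (C.mul_mem (C.inv_mem hdC) h2) hdC
            simpa [mul_assoc] using this
      have h1 := relIndex_sup_of_le_normalizer D (N ⊓ C) hnorm
      have hle : D ⊔ (N ⊓ C) ≤ C := sup_le hDC inf_le_right
      have h2 : D.relIndex (D ⊔ (N ⊓ C)) ∣ D.relIndex C :=
        Dvd.intro _ (Subgroup.relIndex_mul_relIndex D _ C le_sup_left hle)
      have h3 : D.relIndex C = Cy.relIndex C := by rw [hD, Subgroup.inf_relIndex_left]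
      have h4 : D.relIndex (N ⊓ C) ∣ Nat.card (N ⊓ C : Subgroup G) :=
        Subgroup.relIndex_dvd_card _ _
      have hMp : IsPGroup p (N ⊓ C : Subgroup G) := hNp.to_le inf_le_left
      obtain ⟨j, hj⟩ := IsPGroup.iff_card.1 hMp
      rw [hj] at h4
      obtain ⟨i, -, hi⟩ := (Nat.dvd_prime_pow hpp).1 h4
      have hi0 : i = 0 := by
        by_contra hne
        apply hDrel
        rw [← h3]
        refine dvd_trans ?_ h2
        rw [h1, hi]
        exact dvd_pow_self p hne
      rw [hi0, pow_zero] at hi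
      have := Subgroup.relIndex_eq_one.1 hi
      exact this.trans (hD ▸ inf_le_right)
    have hQ : (Nat.card (Subgroup.zpowers y)).Coprime p := by
      rw [Nat.card_zpowers]; exact hy
    have hPQc : Subgroup.zpowers x ≤
        Subgroup.centralizer ((Subgroup.zpowers y : Subgroup G) : Set G) := by
      rw [Subgroup.zpowers_le, Subgroup.mem_centralizer_iff]
      intro h hh
      obtain ⟨n, rfl⟩ := Subgroup.mem_zpowers_iff.1 hh
      exact (hcomm.zpow_left n).eq
    have hCC : N ⊓ Subgroup.centralizer ((Subgroup.zpowers x : Subgroup G) : Set G) ≤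
        Subgroup.centralizer ((Subgroup.zpowers y : Subgroup G) : Set G) := by
      intro n hn
      obtain ⟨hnN, hnx⟩ := Subgroup.mem_inf.1 hn
      rw [Subgroup.mem_centralizer_iff] at hnx
      have hnC : n ∈ C := by
        rw [memC]; exact (hnx x (Subgroup.mem_zpowers x)).symm
      have hny : n ∈ Cy := hM ⟨hnN, hnC⟩
      rw [hCy, Subgroup.mem_centralizer_singleton_iff] at hny
      rw [Subgroup.mem_centralizer_iff]
      intro h hh
      obtain ⟨m, rfl⟩ := Subgroup.mem_zpowers_iff.1 hh
      have c : Commute n y := hny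
      exact (c.zpow_right m).eq.symm
    have hfin := Cfsg.Agent.Lib.Helper13.thompson_PQ p (Subgroup.zpowers x) (Subgroup.zpowers y)
      hxp hQ hPQc _ N rfl hNp (by rw [hnt]; exact le_top) (by rw [hnt]; exact le_top) hCC
    rw [hL]; exact hfin (Subgroup.mem_zpowers y)
  -- the index of `L` is a power of `p`
  haveI := hLn
  have hLidx : ∃ j : ℕ, L.index = p ^ j := by
    have hq : IsPGroup p (C ⧸ L.subgroupOf C) := by
      apply Cfsg.Agent.Lib.Helper17.isPGroup_quotient_of_forall_coprime
      intro g hg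
      rw [Subgroup.mem_subgroupOf]
      exact hE g g.2 (by rwa [Subgroup.orderOf_coe])
    obtain ⟨j, hj⟩ := IsPGroup.iff_card.1 hq
    have h1 : L.relIndex C * C.index = L.index := Subgroup.relIndex_mul_index hLC
    refine ⟨j + a, ?_⟩
    have h6 : L.relIndex C = p ^ j := by rw [← hj]; rfl
    rw [← h1, hxa, pow_add, h6]
  have hall : ∀ y : G, (orderOf y).Coprime p → y ∈ L := by
    intro y hy
    obtain ⟨j, hj⟩ := hLidx
    apply Cfsg.Agent.Lib.Helper17.mem_of_coprime_index
    rw [hj]; exact Nat.Coprime.pow_right j hy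
  -- the subgroup generated by the `p'`-elements
  obtain ⟨E, hE'⟩ : ∃ E : Subgroup G,
      E = Subgroup.normalClosure {g : G | (orderOf g).Coprime p} := ⟨_, rfl⟩
  have hEn : E.Normal := by rw [hE']; exact Subgroup.normalClosure_normal
  have hEall : ∀ g : G, (orderOf g).Coprime p → g ∈ E := fun g hg => by
    rw [hE']; exact Subgroup.subset_normalClosure hg
  haveI := hEn
  have hquot : IsPGroup p (G ⧸ E) :=
    Cfsg.Agent.Lib.Helper17.isPGroup_quotient_of_forall_coprime E hEall
  have hEL : E ≤ L := by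
    rw [hE']; exact Subgroup.normalClosure_le_normal (fun g hg => hall g hg)
  have hEcent : ∀ q ∈ C, (∃ k : ℕ, orderOf q = p ^ k) →
      E ≤ Subgroup.centralizer ({q} : Set G) := by
    intro q hqC hq
    rw [hE', Subgroup.normalClosure, Subgroup.closure_le]
    intro z hz
    obtain ⟨b, hb, hbz⟩ := Group.mem_conjugatesOfSet_iff.1 hz
    have hzo : (orderOf z).Coprime p := by
      obtain ⟨g, rfl⟩ := isConj_iff.1 hbz
      have : orderOf (g * b * g⁻¹) = orderOf b := (MulAut.conj g).orderOf_eq b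
      rw [this]
      exact hb
    have hzC : z ∈ C := hLC (hall z hzo)
    rw [SetLike.mem_coe, Subgroup.mem_centralizer_singleton_iff]
    exact (camC q z hqC hzC hq hzo).symm
  apply Cfsg.Agent.Lib.Helper17.hasNormalPComplement_of_central_sylow_of_normal S E hquot
  intro q hqS hqE c hcE
  have hqC : q ∈ C := hLC (hEL hqE)
  have hqp : ∃ k : ℕ, orderOf q = p ^ k := by
    obtain ⟨k, hk⟩ := (IsPGroup.iff_orderOf.1 S.2) ⟨q, hqS⟩
    exact ⟨k, by rw [← hk, Subgroup.orderOf_mk]⟩
  have := hEcent q hqC hqp hcE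
  rw [Subgroup.mem_centralizer_singleton_iff] at this
  exact this.symm

end Cfsg.Agent.S4127
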