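import Cfsg.Statements.S4140
import Mathlib

set_option autoImplicit false
open Cfsg

namespace Cfsg.Agent.S4140


open Subgroup

/-- Camina condition -/
def Cam {G : Type*} [Group G] (N : Subgroup G) : Prop :=
  ∀ g : G, g ∉ N → ∀ n ∈ N, ∃ x : G, x * g * x⁻¹ = g * n

theorem cam_coprime {G : Type*} [Group G] [Finite G] {N : Subgroup G} (h : Cam N) {g n : G}
    (hg : g ∉ N) (hn : n ∈ N) (hc : Commute g n)
    (hcop : Nat.Coprime (orderOf g) (orderOf n)) : n = 1 := by
  obtain ⟨x, hx⟩ := h g hg n hn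
  have h1 : orderOf (g * n) = orderOf g := by
    rw [← hx]
    have := (MulAut.conj x).orderOf_eq g
    simpa [MulAut.conj_apply] using this
  have h2 : orderOf (g * n) = orderOf g * orderOf n :=
    hc.orderOf_mul_eq_mul_orderOf_of_coprime hcop
  have h3 : 0 < orderOf g := orderOf_pos g
  have h4 : orderOf n = 1 := by
    have : orderOf g * orderOf n = orderOf g * 1 := by rw [← h2, h1, mul_one]
    exact Nat.eq_of_mul_eq_mul_left h3 this
  exact orderOf_eq_one_iff.mp h4

theorem mem_of_pow_mem_coprime {G : Type*} [Group G] {N : Subgroup G} {g : G} {a b : ℕ}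
    (ha : g ^ a ∈ N) (hb : g ^ b ∈ N) (hab : Nat.Coprime a b) : g ∈ N := by
  have h1 : (Nat.gcd a b : ℤ) = a * Nat.gcdA a b + b * Nat.gcdB a b := Nat.gcd_eq_gcd_ab a b
  rw [hab] at h1
  have h2 : g = (g ^ a) ^ (Nat.gcdA a b) * (g ^ b) ^ (Nat.gcdB a b) := by
    rw [← zpow_natCast g a, ← zpow_natCast g b, ← zpow_mul, ← zpow_mul, ← zpow_add, ← h1]
    simp
  rw [h2]
  exact N.mul_mem (N.zpow_mem ha _) (N.zpow_mem hb _)

/-- refined: relative p-power order -/
theorem cam_coprime' {G : Type*} [Group G] [Finite G] {N : Subgroup G} (h : Cam N) {p : ℕ}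
    (hp : p.Prime) {g n : G} {e : ℕ}
    (hg : g ∉ N) (hge : g ^ (p ^ e) ∈ N) (hn : n ∈ N) (hc : Commute g n)
    (hcop : Nat.Coprime (orderOf n) p) : n = 1 := by
  obtain ⟨a, m, hm, hom⟩ := Nat.exists_eq_pow_mul_and_not_dvd (orderOf_pos g).ne' p hp.ne_one
  have hmpos : 0 < m := by
    rcases Nat.eq_zero_or_pos m with h0 | h0
    · exact absurd (h0 ▸ dvd_zero p) hm
    · exact h0
  have hg1 : g ^ m ∉ N := by
    intro hgm
    apply hg
    refine mem_of_pow_mem_coprime hgm hge ?_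
    exact Nat.Coprime.pow_right _ ((Nat.Prime.coprime_iff_not_dvd hp).mpr hm).symm
  have ho1 : orderOf (g ^ m) = p ^ a := by
    rw [orderOf_pow' g hmpos.ne', hom, Nat.gcd_mul_left_left, Nat.mul_div_cancel _ hmpos]
  apply cam_coprime h hg1 hn (hc.pow_left m)
  rw [ho1]
  exact (Nat.Coprime.pow_right _ hcop).symm

theorem cam_dvd_index {G : Type*} [Group G] [Finite G] {N : Subgroup G} [N.Normal] (h : Cam N) {p : ℕ}
    (hp : p.Prime) {g n : G} (hg : g ∉ N) (hn : n ∈ N) (hc : Commute g n) (ho : orderOf n = p) :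
    p ∣ N.index := by
  by_contra hnd
  obtain ⟨a, m, hm, hom⟩ := Nat.exists_eq_pow_mul_and_not_dvd (orderOf_pos g).ne' p hp.ne_one
  have hmpos : 0 < m := by
    rcases Nat.eq_zero_or_pos m with h0 | h0
    · exact absurd (h0 ▸ dvd_zero p) hm
    · exact h0
  have hg1 : g ^ (p ^ a) ∉ N := by
    intro hgm
    apply hg
    refine mem_of_pow_mem_coprime hgm (Subgroup.pow_index_mem N g) ?_
    exact Nat.Coprime.pow_left _ ((Nat.Prime.coprime_iff_not_dvd hp).mpr hnd)
  have ho1 : orderOf (g ^ (p ^ a)) = m := by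
    rw [orderOf_pow' g (pow_pos hp.pos a).ne', hom, Nat.gcd_mul_right_left,
      Nat.mul_div_cancel_left _ (pow_pos hp.pos a)]
  have := cam_coprime h hg1 hn (hc.pow_left _) (by
    rw [ho1, ho]; exact ((Nat.Prime.coprime_iff_not_dvd hp).mpr hm).symm)
  rw [this, orderOf_one] at ho
  exact hp.ne_one ho.symm

/-- abstract unique fixed point -/
theorem unique_fixed {G Ω : Type*} [Group G] [MulAction G Ω] [Finite G] [Finite Ω] [Nonempty Ω]
    (N : Subgroup G) (htr : ∀ a b : Ω, ∃ n ∈ N, n • a = b) (g : G)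
    (hcam : ∀ n ∈ N, ∃ t : G, t * g * t⁻¹ = g * n) :
    Nat.card {ω : Ω // g • ω = ω} = 1 := by
  classical
  haveI := Fintype.ofFinite Ω
  haveI := Fintype.ofFinite N
  have hA : ∀ n : N, Nat.card {ω : Ω // (g * (n : G)) • ω = ω} = Nat.card {ω : Ω // g • ω = ω} := by
    intro n
    obtain ⟨t, ht⟩ := hcam n n.2
    have k1 : ∀ w : Ω, (g * (n : G)) • w = w → g • t⁻¹ • w = t⁻¹ • w := by
      intro w h1
      rw [← ht] at h1
      calc g • t⁻¹ • w = t⁻¹ • ((t * g * t⁻¹) • w) := by simp [mul_smul]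
        _ = t⁻¹ • w := by rw [h1]
    have k2 : ∀ w : Ω, g • w = w → (g * (n : G)) • t • w = t • w := by
      intro w h1
      rw [← ht]
      calc (t * g * t⁻¹) • t • w = t • (g • w) := by simp [mul_smul]
        _ = t • w := by rw [h1]
    refine Nat.card_congr ⟨fun ω => ⟨t⁻¹ • ω.1, k1 _ ω.2⟩, fun ω => ⟨t • ω.1, k2 _ ω.2⟩, ?_, ?_⟩
    · intro ω; simp
    · intro ω; simp
  have hB : ∀ ω : Ω, Nat.card {n : N // (g * (n : G)) • ω = ω} * Nat.card Ω = Nat.card N := by
    intro ω
    obtain ⟨n0, hn0N, hn0⟩ := htr ω (g⁻¹ • ω)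
    have k1 : ∀ n : N, (g * (n : G)) • ω = ω → (⟨n0, hn0N⟩⁻¹ * n : N) ∈ MulAction.stabilizer N ω := by
      intro n h1
      rw [MulAction.mem_stabilizer_iff]
      rw [mul_smul] at h1
      have h2 : (n : G) • ω = g⁻¹ • ω := by rw [eq_inv_smul_iff]; exact h1
      show ((⟨n0, hn0N⟩⁻¹ * n : N) : G) • ω = ω
      simp only [Subgroup.coe_mul, Subgroup.coe_inv, mul_smul]
      rw [h2, ← hn0]; simp
    have k2 : ∀ s : N, s ∈ MulAction.stabilizer N ω → (g * ((⟨n0, hn0N⟩ * s : N) : G)) • ω = ω := by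
      intro s hs
      rw [MulAction.mem_stabilizer_iff] at hs
      have h1 : (s : G) • ω = ω := hs
      simp only [Subgroup.coe_mul, mul_smul]
      rw [h1, hn0]; simp
    have e : {n : N // (g * (n : G)) • ω = ω} ≃ MulAction.stabilizer N ω := by
      refine ⟨fun n => ⟨⟨n0, hn0N⟩⁻¹ * n.1, k1 _ n.2⟩, fun s => ⟨⟨n0, hn0N⟩ * s.1, k2 _ s.2⟩, ?_, ?_⟩
      · intro n; simp
      · intro s; simp
    rw [Nat.card_congr e]
    have h1 := MulAction.index_stabilizer N ω
    have h2 : MulAction.orbit N ω = Set.univ := by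
      ext b
      simp only [Set.mem_univ, iff_true]
      obtain ⟨n, hn, hb⟩ := htr ω b
      exact ⟨⟨n, hn⟩, hb⟩
    rw [h2, Set.ncard_univ] at h1
    rw [← h1]
    exact Subgroup.card_mul_index _
  -- double count
  have e2 : (Σ n : N, {ω : Ω // (g * (n : G)) • ω = ω}) ≃ (Σ ω : Ω, {n : N // (g * (n : G)) • ω = ω}) :=
    ⟨fun x => ⟨x.2.1, x.1, x.2.2⟩, fun x => ⟨x.2.1, x.1, x.2.2⟩, fun x => rfl, fun x => rfl⟩
  have h3 := Nat.card_congr e2
  rw [Nat.card_sigma, Nat.card_sigma] at h3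
  simp only [hA] at h3
  rw [Finset.sum_const, Finset.card_univ, smul_eq_mul, ← Nat.card_eq_fintype_card] at h3
  have h4 : (∑ ω : Ω, Nat.card {n : N // (g * (n : G)) • ω = ω}) * Nat.card Ω = Nat.card Ω * Nat.card N := by
    rw [Finset.sum_mul]
    simp only [hB]
    rw [Finset.sum_const, Finset.card_univ, smul_eq_mul, ← Nat.card_eq_fintype_card]
  have hΩ : 0 < Nat.card Ω := Nat.card_pos
  have hN : 0 < Nat.card N := Nat.card_pos
  rw [← h3, mul_comm] at h4
  have h5 : Nat.card N * Nat.card {ω : Ω // g • ω = ω} = Nat.card N * 1 := by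
    rw [mul_one]
    exact Nat.eq_of_mul_eq_mul_left hΩ h4
  exact Nat.eq_of_mul_eq_mul_left hN h5



open Subgroup

theorem trans_quot {G : Type*} [Group G] {N L : Subgroup G} [N.Normal] (hsup : L ⊔ N = ⊤)
    (a b : G ⧸ L) : ∃ n ∈ N, n • a = b := by
  induction a using QuotientGroup.induction_on with
  | H s =>
  induction b using QuotientGroup.induction_on with
  | H t =>
  have h1 : s⁻¹ * t ∈ L ⊔ N := by rw [hsup]; trivial
  rw [mem_sup_of_normal_right] at h1
  obtain ⟨l0, hl0, n0, hn0, h2⟩ := h1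
  refine ⟨(s * l0) * n0 * (s * l0)⁻¹, ?_, ?_⟩
  · exact ‹N.Normal›.conj_mem n0 hn0 _
  · rw [MulAction.Quotient.smul_mk, QuotientGroup.eq, smul_eq_mul]
    have : ((s * l0) * n0 * (s * l0)⁻¹ * s)⁻¹ * t = l0 := by
      have h3 : t = s * (l0 * n0) := by rw [h2]; group
      rw [h3]; group
    rw [this]; exact hl0

theorem fixed_coset {G : Type*} [Group G] [Finite G] {N L : Subgroup G} [N.Normal] (h : Cam N)
    (hsup : L ⊔ N = ⊤) {g : G} (hgL : g ∈ L) (hgN : g ∉ N) {t : G} (ht : t⁻¹ * g * t ∈ L) :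
    t ∈ L := by
  have h1 := unique_fixed (Ω := G ⧸ L) N (trans_quot hsup) g (fun n hn => h g hgN n hn)
  rw [Nat.card_eq_one_iff_unique] at h1
  obtain ⟨hs, -⟩ := h1
  have f1 : g • ((1 : G) : G ⧸ L) = ((1 : G) : G ⧸ L) := by
    rw [MulAction.Quotient.smul_mk, QuotientGroup.eq, smul_eq_mul]
    simpa using hgL
  have f2 : g • ((t : G) : G ⧸ L) = ((t : G) : G ⧸ L) := by
    rw [MulAction.Quotient.smul_mk, QuotientGroup.eq, smul_eq_mul]
    have : (g * t)⁻¹ * t = (t⁻¹ * g * t)⁻¹ * 1 := by group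
    have h2 : (t⁻¹ * g⁻¹ * t) = (t⁻¹ * g * t)⁻¹ := by group
    have h3 : (g * t)⁻¹ * t = (t⁻¹ * g⁻¹ * t) := by group
    rw [h3, h2]; exact L.inv_mem ht
  have h4 := @Subsingleton.elim _ hs (⟨_, f1⟩ : {ω : G ⧸ L // g • ω = ω}) ⟨_, f2⟩
  have h5 : ((1 : G) : G ⧸ L) = ((t : G) : G ⧸ L) := congrArg Subtype.val h4
  rw [QuotientGroup.eq] at h5
  simpa using h5

theorem index_modEq {G : Type*} [Group G] [Finite G] {N L : Subgroup G} [N.Normal] (h : Cam N)
    (hsup : L ⊔ N = ⊤) {g : G} (hgL : g ∈ L) (hgN : g ∉ N) {p k : ℕ} [hp : Fact p.Prime]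
    (hgp : g ^ (p ^ k) = 1) : L.index ≡ 1 [MOD p] := by
  have h1 := unique_fixed (Ω := G ⧸ L) N (trans_quot hsup) g (fun n hn => h g hgN n hn)
  have hP : IsPGroup p (zpowers g) := by
    intro x
    obtain ⟨x, hx⟩ := x
    rw [mem_zpowers_iff] at hx
    obtain ⟨j, rfl⟩ := hx
    refine ⟨k, ?_⟩
    apply Subtype.ext
    simp only [SubmonoidClass.mk_pow, OneMemClass.coe_one]
    rw [← zpow_natCast, ← zpow_mul, mul_comm, zpow_mul, zpow_natCast, hgp, one_zpow]
  have h2 := hP.card_modEq_card_fixedPoints (G ⧸ L)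
  have e : MulAction.fixedPoints (zpowers g) (G ⧸ L) ≃ {ω : G ⧸ L // g • ω = ω} := by
    refine ⟨fun ω => ⟨ω.1, ?_⟩, fun ω => ⟨ω.1, ?_⟩, fun ω => rfl, fun ω => rfl⟩
    · have := ω.2
      rw [MulAction.mem_fixedPoints] at this
      exact this ⟨g, mem_zpowers g⟩
    · rw [MulAction.mem_fixedPoints]
      intro x
      obtain ⟨x, hx⟩ := x
      have h3 : zpowers g ≤ MulAction.stabilizer G ω.1 := by
        rw [zpowers_le]
        exact ω.2
      exact h3 hx
  rw [Nat.card_congr e, h1] at h2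
  rw [Subgroup.index]
  exact h2

/-- the sub-pair is Camina -/
theorem cam_sub {G : Type*} [Group G] [Finite G] {N L : Subgroup G} [N.Normal] (h : Cam N)
    (hsup : L ⊔ N = ⊤) : Cam (N.subgroupOf L) := by
  intro g hg n hn
  rw [mem_subgroupOf] at hg hn
  obtain ⟨t, ht⟩ := h g hg n hn
  have h1 : (t⁻¹)⁻¹ * (g : G) * t⁻¹ ∈ L := by
    rw [inv_inv, ht]
    exact L.mul_mem g.2 n.2
  have h2 : t⁻¹ ∈ L := fixed_coset h hsup g.2 hg h1
  have h3 : t ∈ L := by simpa using L.inv_mem h2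
  refine ⟨⟨t, h3⟩, ?_⟩
  apply Subtype.ext
  simpa using ht

/-- a p-element of L outside N -/
theorem exists_pelt {G : Type*} [Group G] [Finite G] {N L : Subgroup G} {p : ℕ} [hp : Fact p.Prime]
    (hd : p ∣ N.relIndex L) : ∃ g ∈ L, g ∉ N ∧ ∃ k : ℕ, g ^ (p ^ k) = 1 := by
  by_contra hcon
  push Not at hcon
  obtain ⟨S⟩ : Nonempty (Sylow p L) := inferInstance
  have h1 : (S : Subgroup L) ≤ N.subgroupOf L := by
    intro x hx
    rw [mem_subgroupOf]
    by_contra hxN
    obtain ⟨k, hk⟩ := (S.2 ⟨x, hx⟩)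
    have h2 : (x : G) ^ (p ^ k) = 1 := by
      have := congrArg Subtype.val hk
      have h3 := congrArg Subtype.val this
      simpa using h3
    exact (hcon x x.2 hxN k) h2
  have h2 : (N.subgroupOf L).index ∣ (S : Subgroup L).index := index_dvd_of_le h1
  have h3 : ¬ p ∣ (S : Subgroup L).index := S.not_dvd_index
  exact h3 (dvd_trans hd h2)

/-- numerics for the sub-pair -/
theorem sub_index {G : Type*} [Group G] {N L : Subgroup G} [N.Normal] (hsup : L ⊔ N = ⊤) :
    (N.subgroupOf L).index = N.index := by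
  have h1 : N.relIndex (L ⊔ N) = N.relIndex L := relIndex_sup_right L N
  rw [hsup, relIndex_top_right] at h1
  exact h1.symm

theorem sub_card {G : Type*} [Group G] [Finite G] {N L : Subgroup G} [N.Normal] (hsup : L ⊔ N = ⊤) :
    Nat.card (N.subgroupOf L) * L.index = Nat.card N := by
  have h1 : Nat.card (N.subgroupOf L) * (N.subgroupOf L).index = Nat.card L := card_mul_index _
  have h2 : Nat.card L * L.index = Nat.card G := card_mul_index _
  have h3 : Nat.card N * N.index = Nat.card G := card_mul_index _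
  rw [sub_index hsup] at h1
  have h4 : 0 < N.index := Nat.pos_of_ne_zero (index_ne_zero_of_finite)
  have h5 : N.index * (Nat.card (N.subgroupOf L) * L.index) = N.index * Nat.card N := by
    calc N.index * (Nat.card (N.subgroupOf L) * L.index)
        = (Nat.card (N.subgroupOf L) * N.index) * L.index := by ring
      _ = Nat.card G := by rw [h1, h2]
      _ = N.index * Nat.card N := by rw [← h3]; ring
  exact Nat.eq_of_mul_eq_mul_left h4 h5



open Subgroup

section RingPart
variable {M : Type*} [AddCommGroup M]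

theorem end_mul_apply (f g : AddMonoid.End M) (m : M) : (f * g) m = f (g m) := rfl
theorem end_one_apply (m : M) : (1 : AddMonoid.End M) m = m := rfl
theorem end_zero_apply (m : M) : (0 : AddMonoid.End M) m = 0 := rfl
theorem end_sub_apply (f g : AddMonoid.End M) (m : M) : (f - g) m = f m - g m := rfl

/-- evaluation as an additive hom -/
def evalHom (m : M) : AddMonoid.End M →+ M where
  toFun f := f m
  map_zero' := rfl
  map_add' _ _ := rfl

theorem end_sum_apply {ι : Type*} (s : Finset ι) (f : ι → AddMonoid.End M) (m : M) :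
    (∑ i ∈ s, f i) m = ∑ i ∈ s, f i m := map_sum (evalHom m) f s

theorem norm_zero (C : AddMonoid.End M) (n : ℕ) (hC : C ^ n = 1) (hfix : ∀ m, C m = m → m = 0) :
    ∑ i ∈ Finset.range n, C ^ i = 0 := by
  have h1 : (C - 1) * ∑ i ∈ Finset.range n, C ^ i = 0 := by
    rw [mul_geom_sum, hC, sub_self]
  ext m
  have h2 := congrArg (fun f : AddMonoid.End M => f m) h1
  simp only [end_mul_apply, end_sub_apply, end_one_apply, end_zero_apply] at h2
  have h3 := hfix _ (sub_eq_zero.mp h2)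
  rw [end_zero_apply]
  exact h3

theorem cpcp (p : ℕ) (hp : 1 < p) (A B : AddMonoid.End M) (hAB : Commute A B) (hA : A ^ p = 1)
    (hB : B ^ p = 1)
    (hfix : ∀ i k, i < p → k < p → (i ≠ 0 ∨ k ≠ 0) → ∀ m, (A ^ i * B ^ k) m = m → m = 0) :
    ∀ m : M, p • m = 0 := by
  have h1 : ∀ i ∈ Finset.range p, ∑ k ∈ Finset.range p, (A ^ i * B) ^ k = 0 := by
    intro i hi
    rw [Finset.mem_range] at hi
    apply norm_zero
    · rw [(hAB.pow_left i).mul_pow, ← pow_mul, mul_comm, pow_mul, hA, one_pow, hB, one_mul]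
    · intro m hm
      apply hfix i 1 hi hp (Or.inr one_ne_zero) m
      rwa [pow_one]
  have h2 : ∀ k ∈ Finset.range p, k ≠ 0 → ∑ i ∈ Finset.range p, (A ^ k) ^ i = 0 := by
    intro k hk hk0
    rw [Finset.mem_range] at hk
    apply norm_zero
    · rw [← pow_mul, mul_comm, pow_mul, hA, one_pow]
    · intro m hm
      apply hfix k 0 hk (by omega) (Or.inl hk0) m
      rwa [pow_zero, mul_one]
  have h3 : ∑ i ∈ Finset.range p, ∑ k ∈ Finset.range p, (A ^ i * B) ^ k = 0 :=
    Finset.sum_eq_zero h1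
  have h4 : ∀ i k : ℕ, (A ^ i * B) ^ k = (A ^ k) ^ i * B ^ k := by
    intro i k
    rw [(hAB.pow_left i).mul_pow, ← pow_mul, ← pow_mul, mul_comm i k]
  simp only [h4] at h3
  rw [Finset.sum_comm] at h3
  simp only [← Finset.sum_mul] at h3
  rw [Finset.sum_eq_single 0] at h3
  · simp only [pow_zero, one_pow, Finset.sum_const, Finset.card_range, mul_one] at h3
    intro m
    have h5 := congrArg (fun f : AddMonoid.End M => f m) h3
    simp only [end_zero_apply] at h5
    rw [← h5]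
    rfl
  · intro k hk hk0
    rw [h2 k hk hk0, zero_mul]
  · intro h0
    exact absurd (Finset.mem_range.mpr (by omega)) h0

theorem frob_trace {G : Type*} [Group G] (ρ : G →* AddMonoid.End M) (F : Subgroup G) [Finite F]
    (y : G) (r : ℕ) (hr0 : 0 < r) (hr : y ^ r = 1)
    (hnorm : ∀ f ∈ F, y * f * y⁻¹ ∈ F)
    (hCF : ∀ k, 0 < k → k < r → ∀ f ∈ F, y ^ k * f = f * y ^ k → f = 1)
    (hfixF : ∀ m : M, (∀ f ∈ F, ρ f m = m) → m = 0)
    (hfixy : ∀ f ∈ F, ∀ m, ρ (f * y * f⁻¹) m = m → m = 0) : ∀ m : M, Nat.card F • m = 0 := by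
  classical
  haveI := Fintype.ofFinite F
  have hSF : ∑ f : F, ρ (f : G) = 0 := by
    ext m
    rw [end_zero_apply]
    apply hfixF
    intro f' hf'
    have h1 : ρ f' ((∑ f : F, ρ (f : G)) m) = (∑ f : F, ρ ((⟨f', hf'⟩ * f : F) : G)) m := by
      rw [end_sum_apply, end_sum_apply, map_sum]
      apply Finset.sum_congr rfl
      intro f _
      rw [Subgroup.coe_mul, map_mul, end_mul_apply]
    rw [h1]
    congr 1
    exact Equiv.sum_comp (Equiv.mulLeft (⟨f', hf'⟩ : F)) (fun f : F => ρ (f : G))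
  have hyk : ∀ k : ℕ, ∀ f ∈ F, y ^ k * f * (y ^ k)⁻¹ ∈ F := by
    intro k
    induction k with
    | zero => intro f hf; simpa using hf
    | succ k ih =>
      intro f hf
      have := hnorm _ (ih f hf)
      have h2 : y ^ (k + 1) * f * (y ^ (k + 1))⁻¹ = y * (y ^ k * f * (y ^ k)⁻¹) * y⁻¹ := by
        rw [pow_succ']; group
      rw [h2]; exact this
  have hT : ∀ f : F, ∑ k ∈ Finset.range r, ρ ((f : G) * y ^ k * (f : G)⁻¹) = 0 := by
    intro f
    have h1 := norm_zero (ρ ((f : G) * y * (f : G)⁻¹)) r (by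
      rw [← map_pow, conj_pow, hr]; simp) (hfixy f f.2)
    have h2 : ∀ k : ℕ, ρ ((f : G) * y * (f : G)⁻¹) ^ k = ρ ((f : G) * y ^ k * (f : G)⁻¹) := by
      intro k; rw [← map_pow, conj_pow]
    simpa only [h2] using h1
  have h3 : ∑ f : F, ∑ k ∈ Finset.range r, ρ ((f : G) * y ^ k * (f : G)⁻¹) = 0 :=
    Finset.sum_eq_zero (fun f _ => hT f)
  rw [Finset.sum_comm] at h3
  have h4 : ∀ k ∈ Finset.range r, k ≠ 0 → ∑ f : F, ρ ((f : G) * y ^ k * (f : G)⁻¹) = 0 := by
    intro k hk hk0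
    rw [Finset.mem_range] at hk
    have hφ : ∀ f : F, (f : G) * (y ^ k * (f : G)⁻¹ * (y ^ k)⁻¹) ∈ F := fun f =>
      F.mul_mem f.2 (hyk k _ (F.inv_mem f.2))
    have hinj : Function.Injective (fun f : F => (⟨_, hφ f⟩ : F)) := by
      intro f1 f2 h12
      have h5 : (f1 : G) * (y ^ k * (f1 : G)⁻¹ * (y ^ k)⁻¹) = (f2 : G) * (y ^ k * (f2 : G)⁻¹ * (y ^ k)⁻¹) :=
        congrArg Subtype.val h12
      have h6 : (f1 : G) * y ^ k * (f1 : G)⁻¹ = (f2 : G) * y ^ k * (f2 : G)⁻¹ := by
        have : (f1 : G) * y ^ k * (f1 : G)⁻¹ = ((f1 : G) * (y ^ k * (f1 : G)⁻¹ * (y ^ k)⁻¹)) * y ^ k := by group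
        rw [this, h5]; group
      have h7 : y ^ k * ((f2 : G)⁻¹ * (f1 : G)) = ((f2 : G)⁻¹ * (f1 : G)) * y ^ k := by
        have : y ^ k = (f2 : G)⁻¹ * ((f1 : G) * y ^ k * (f1 : G)⁻¹) * (f2 : G) := by rw [h6]; group
        calc y ^ k * ((f2 : G)⁻¹ * (f1 : G))
            = ((f2 : G)⁻¹ * ((f1 : G) * y ^ k * (f1 : G)⁻¹) * (f2 : G)) * ((f2 : G)⁻¹ * (f1 : G)) := by
              rw [← this]
          _ = ((f2 : G)⁻¹ * (f1 : G)) * y ^ k := by group
      have h8 := hCF k (Nat.pos_of_ne_zero hk0) hk _ (F.mul_mem (F.inv_mem f2.2) f1.2) h7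
      apply Subtype.ext
      have : (f1 : G) = (f2 : G) * ((f2 : G)⁻¹ * (f1 : G)) := by group
      rw [this, h8, mul_one]
    have hbij : Function.Bijective (fun f : F => (⟨_, hφ f⟩ : F)) :=
      Finite.injective_iff_bijective.mp hinj
    have h9 : ∀ f : F, ρ ((f : G) * y ^ k * (f : G)⁻¹)
        = ρ (((⟨_, hφ f⟩ : F) : G)) * ρ (y ^ k) := by
      intro f
      rw [← map_mul]
      congr 1
      group
    simp only [h9]
    rw [← Finset.sum_mul]
    have h10 : ∑ f : F, ρ (((⟨_, hφ f⟩ : F) : G)) = ∑ f : F, ρ (f : G) :=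
      Equiv.sum_comp (Equiv.ofBijective _ hbij) (fun f : F => ρ (f : G))
    rw [h10, hSF, zero_mul]
  rw [Finset.sum_eq_single 0] at h3
  · simp only [pow_zero, mul_one, mul_inv_cancel, map_one, Finset.sum_const, Finset.card_univ] at h3
    intro m
    have h5 := congrArg (fun f : AddMonoid.End M => f m) h3
    simp only [end_zero_apply] at h5
    rw [Nat.card_eq_fintype_card]
    rw [← h5]
    rfl
  · intro k hk hk0
    exact h4 k hk hk0
  · intro h0
    exact absurd (Finset.mem_range.mpr hr0) h0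

end RingPart



open Subgroup
open scoped IsMulCommutative

section Rho
variable {G : Type*} [Group G] (V : Subgroup G) [hVn : V.Normal] [IsMulCommutative V]

/-- conjugation action on a normal commutative subgroup, additively -/
noncomputable def rho : G →* AddMonoid.End (Additive V) where
  toFun g :=
    { toFun := fun v => Additive.ofMul (⟨g * ((Additive.toMul v : V) : G) * g⁻¹,
        hVn.conj_mem _ (Additive.toMul v : V).2 g⟩ : V)
      map_zero' := by
        apply Additive.toMul.injective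
        apply Subtype.ext
        simp
      map_add' := by
        intro a b
        apply Additive.toMul.injective
        apply Subtype.ext
        simp }
  map_one' := by
    refine AddMonoidHom.ext fun v => ?_
    apply Additive.toMul.injective
    apply Subtype.ext
    show (1 : G) * ((Additive.toMul v : V) : G) * (1 : G)⁻¹ = ((Additive.toMul v : V) : G)
    simp
  map_mul' := by
    intro a b
    refine AddMonoidHom.ext fun v => ?_
    apply Additive.toMul.injective
    apply Subtype.ext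
    show a * b * ((Additive.toMul v : V) : G) * (a * b)⁻¹
      = a * (b * ((Additive.toMul v : V) : G) * b⁻¹) * a⁻¹
    group

theorem rho_apply (g : G) (v : V) :
    ((Additive.toMul (rho V g (Additive.ofMul v)) : V) : G) = g * (v : G) * g⁻¹ := rfl

theorem rho_fix {g : G} {m : Additive V} (h : rho V g m = m) :
    g * ((Additive.toMul m : V) : G) = ((Additive.toMul m : V) : G) * g := by
  have h1 := congrArg (fun x : Additive V => ((Additive.toMul x : V) : G)) h
  have h2 : g * ((Additive.toMul m : V) : G) * g⁻¹ = ((Additive.toMul m : V) : G) := h1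
  calc g * ((Additive.toMul m : V) : G) = (g * ((Additive.toMul m : V) : G) * g⁻¹) * g := by group
    _ = ((Additive.toMul m : V) : G) * g := by rw [h2]

theorem rho_eq_one_of_central {g : G} (h : ∀ v ∈ V, g * v = v * g) : rho V g = 1 := by
  refine AddMonoidHom.ext fun m => ?_
  apply Additive.toMul.injective
  apply Subtype.ext
  show g * ((Additive.toMul m : V) : G) * g⁻¹ = ((Additive.toMul m : V) : G)
  rw [h _ (Additive.toMul m : V).2]; group

theorem nsmul_zero_pow {n : ℕ} {m : Additive V} (h : n • m = 0) :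
    ((Additive.toMul m : V) : G) ^ n = 1 := by
  have h1 := congrArg (fun x : Additive V => ((Additive.toMul x : V) : G)) h
  simpa using h1

end Rho



open Subgroup
open scoped IsMulCommutative

theorem isPGroup_zpowers {G : Type*} [Group G] {p k : ℕ} {g : G} (hgp : g ^ (p ^ k) = 1) :
    IsPGroup p (zpowers g) := by
  intro x
  obtain ⟨x, hx⟩ := x
  rw [mem_zpowers_iff] at hx
  obtain ⟨j, rfl⟩ := hx
  refine ⟨k, ?_⟩
  apply Subtype.ext
  simp only [SubmonoidClass.mk_pow, OneMemClass.coe_one]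
  rw [← zpow_natCast, ← zpow_mul, mul_comm, zpow_mul, zpow_natCast, hgp, one_zpow]

theorem isPGroup_of_forall {G : Type*} [Group G] {p : ℕ} (P0 : Subgroup G)
    (hP0p : ∀ f ∈ P0, ∃ k : ℕ, f ^ (p ^ k) = 1) : IsPGroup p P0 := by
  intro f
  obtain ⟨k, hk⟩ := hP0p f f.2
  exact ⟨k, Subtype.ext (by simpa using hk)⟩

/-- U2 -/
theorem exists_pow_mem {G : Type*} [Group G] [Finite G] {p : ℕ} [hp : Fact p.Prime] (H K : Subgroup G)
    (hnorm : ∀ k ∈ K, ∀ h ∈ H, k * h * k⁻¹ ∈ H) (hd : p ∣ H.relIndex K) :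
    ∃ u ∈ K, u ∉ H ∧ u ^ p ∈ H := by
  haveI : (H.subgroupOf K).Normal := by
    constructor
    intro n hn g
    rw [mem_subgroupOf] at hn ⊢
    simpa using hnorm g g.2 n hn
  have h1 : p ∣ Nat.card (K ⧸ H.subgroupOf K) := hd
  obtain ⟨u', hu'⟩ := exists_prime_orderOf_dvd_card' p h1
  obtain ⟨u, rfl⟩ := QuotientGroup.mk_surjective u'
  refine ⟨u, u.2, ?_, ?_⟩
  · intro hu
    have h2 : (u : K ⧸ H.subgroupOf K) = 1 := by
      rw [QuotientGroup.eq_one_iff, mem_subgroupOf]; exact hu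
    rw [h2, orderOf_one] at hu'
    exact hp.out.ne_one hu'.symm
  · have h2 : ((u ^ p : K) : K ⧸ H.subgroupOf K) = 1 := by
      rw [QuotientGroup.mk_pow, ← hu', pow_orderOf_eq_one]
    rw [QuotientGroup.eq_one_iff, mem_subgroupOf] at h2
    simpa using h2

/-- U3 -/
theorem exists_fixed_in_normal_p {G : Type*} [Group G] [Finite G] {p : ℕ} [hp : Fact p.Prime]
    (P0 : Subgroup G) [P0.Normal]
    (hP0p : ∀ f ∈ P0, ∃ k : ℕ, f ^ (p ^ k) = 1) (hP01 : P0 ≠ ⊥) (x : G) (b : ℕ)
    (hx : x ^ (p ^ b) = 1) :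
    ∃ c ∈ P0, c ≠ 1 ∧ x * c = c * x := by
  have hZ : IsPGroup p (zpowers x) := isPGroup_zpowers hx
  letI : MulAction (zpowers x) P0 :=
    MulAction.compHom P0 ((MulAut.conjNormal (H := P0)).comp (zpowers x).subtype)
  have hsm : ∀ (s : zpowers x) (c : P0), ((s • c : P0) : G) = (s : G) * (c : G) * (s : G)⁻¹ := by
    intro s c
    rfl
  have h2 := hZ.card_modEq_card_fixedPoints P0
  have hP : IsPGroup p P0 := isPGroup_of_forall P0 hP0p
  haveI : Nontrivial P0 := (Subgroup.nontrivial_iff_ne_bot P0).mpr hP01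
  obtain ⟨j, hj0, hj⟩ := (hP.nontrivial_iff_card).mp inferInstance
  have h3 : p ∣ Nat.card (MulAction.fixedPoints (zpowers x) P0) := by
    have h4 : Nat.card P0 ≡ 0 [MOD p] := by
      rw [hj]
      exact (Nat.modEq_zero_iff_dvd).mpr (dvd_pow_self p hj0.ne')
    exact (Nat.modEq_zero_iff_dvd).mp (h2.symm.trans h4)
  by_contra hcon
  push Not at hcon
  have hall : ∀ c : MulAction.fixedPoints (zpowers x) P0, c.1 = 1 := by
    intro c
    by_contra hc
    have h5 : ((c.1 : P0) : G) ≠ 1 := fun h => hc (Subtype.ext h)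
    apply hcon (c.1 : P0) (c.1 : P0).2 h5
    have h6 := c.2
    rw [MulAction.mem_fixedPoints] at h6
    have h7 := h6 ⟨x, mem_zpowers x⟩
    have h8 := congrArg (fun z : P0 => (z : G)) h7
    simp only [hsm] at h8
    calc x * ((c.1 : P0) : G) = (x * ((c.1 : P0) : G) * x⁻¹) * x := by group
      _ = ((c.1 : P0) : G) * x := by rw [h8]
  haveI : Subsingleton (MulAction.fixedPoints (zpowers x) P0) :=
    ⟨fun a b => Subtype.ext (by rw [hall a, hall b])⟩
  have h9 : Nat.card (MulAction.fixedPoints (zpowers x) P0) ≤ 1 :=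
    Finite.card_le_one_iff_subsingleton.mpr inferInstance
  haveI : Nonempty (MulAction.fixedPoints (zpowers x) P0) := ⟨⟨1, by
    rw [MulAction.mem_fixedPoints]
    intro s
    apply Subtype.ext
    rw [hsm]; simp⟩⟩
  have h10 : 0 < Nat.card (MulAction.fixedPoints (zpowers x) P0) := Nat.card_pos
  have h11 : Nat.card (MulAction.fixedPoints (zpowers x) P0) = 1 := by omega
  rw [h11] at h3
  exact hp.out.one_lt.ne' (Nat.dvd_one.mp h3)

/-- Camina count: the preimage of the centralizer of the image -/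
theorem cam_count {G : Type*} [Group G] [Finite G] {N : Subgroup G} [N.Normal] (h : Cam N)
    {x : G} (hx : x ∉ N) :
    Nat.card {t : G // x⁻¹ * (t * x * t⁻¹) ∈ N} = Nat.card N * Nat.card (centralizer ({x} : Set G)) := by
  classical
  haveI := Fintype.ofFinite N
  have e1 : {t : G // x⁻¹ * (t * x * t⁻¹) ∈ N} ≃ {q : N × G // q.2 * x * q.2⁻¹ = x * (q.1 : G)} :=
    ⟨fun t => ⟨(⟨_, t.2⟩, t.1), by simp⟩, fun q => ⟨q.1.2, by rw [q.2]; simpa using q.1.1.2⟩,
      fun t => rfl, fun q => by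
        apply Subtype.ext
        apply Prod.ext
        · apply Subtype.ext
          simp [q.2]
        · rfl⟩
  have e2 := Equiv.subtypeProdEquivSigmaSubtype (fun (n : N) (t : G) => t * x * t⁻¹ = x * (n : G))
  rw [Nat.card_congr e1, Nat.card_congr e2, Nat.card_sigma]
  have h2 : ∀ n : N, Nat.card {t : G // t * x * t⁻¹ = x * (n : G)} = Nat.card (centralizer ({x} : Set G)) := by
    intro n
    obtain ⟨t0, ht0⟩ := h x hx n n.2
    have k1 : ∀ t : G, t * x * t⁻¹ = x * (n : G) → t0⁻¹ * t ∈ centralizer ({x} : Set G) := by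
      intro t ht
      rw [mem_centralizer_singleton_iff]
      have : t0⁻¹ * (t * x * t⁻¹) * t0 = x := by
        rw [ht, ← ht0]; group
      calc t0⁻¹ * t * x = (t0⁻¹ * (t * x * t⁻¹) * t0) * (t0⁻¹ * t) := by group
        _ = x * (t0⁻¹ * t) := by rw [this]
    have k2 : ∀ c : G, c ∈ centralizer ({x} : Set G) → (t0 * c) * x * (t0 * c)⁻¹ = x * (n : G) := by
      intro c hc
      rw [mem_centralizer_singleton_iff] at hc
      rw [← ht0]
      calc (t0 * c) * x * (t0 * c)⁻¹ = t0 * (c * x) * c⁻¹ * t0⁻¹ := by group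
        _ = t0 * (x * c) * c⁻¹ * t0⁻¹ := by rw [hc]
        _ = t0 * x * t0⁻¹ := by group
    refine Nat.card_congr ⟨fun t => ⟨t0⁻¹ * t.1, k1 _ t.2⟩, fun c => ⟨t0 * c.1, k2 _ c.2⟩, ?_, ?_⟩
    · intro t; simp
    · intro c; simp
  simp only [h2]
  rw [Finset.sum_const, Finset.card_univ, smul_eq_mul, ← Nat.card_eq_fintype_card]



open Subgroup
open scoped IsMulCommutative

theorem eq_one_of_pow_coprime {G : Type*} [Group G] {v : G} {a b : ℕ} (ha : v ^ a = 1)
    (hb : v ^ b = 1) (hab : Nat.Coprime a b) : v = 1 := by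
  have h1 : v ∈ (⊥ : Subgroup G) :=
    mem_of_pow_mem_coprime (N := ⊥) (by rw [ha]; exact one_mem _) (by rw [hb]; exact one_mem _) hab
  simpa using h1

theorem case3b {G : Type*} [Group G] [Finite G] {N : Subgroup G} [N.Normal] (h : Cam N)
    {p q r : ℕ} (hp : p.Prime) (hq : q.Prime) (hr : r.Prime) (hqp : q ≠ p) (hrp : r ≠ p)
    (P0 M : Subgroup G) (hP0N : P0 ≤ N) (hP0p : ∀ f ∈ P0, ∃ k : ℕ, f ^ (p ^ k) = 1)
    (hP0M : P0 ≤ M)
    (hM : ∀ m ∈ M, ∀ f ∈ P0, m * f * m⁻¹ ∈ P0)
    (hM' : ∀ t : G, (∀ f ∈ P0, t * f = f * t) → t ∈ M)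
    (hsup : M ⊔ N = ⊤)
    (hMN : ∀ v ∈ M, v ∈ N → ∀ s : ℕ, s.Prime → s ≠ p → orderOf v ≠ s)
    (hrM : r ∣ Nat.card M)
    (V : Subgroup G) [V.Normal] [IsMulCommutative V] (hVN : V ≤ N)
    (hVq : ∀ v ∈ V, ∃ k : ℕ, v ^ (q ^ k) = 1) (hV1 : V ≠ ⊥) : False := by
  haveI : Fact p.Prime := ⟨hp⟩
  haveI : Fact r.Prime := ⟨hr⟩
  -- V ∩ M = 1
  have hVM : ∀ v ∈ V, v ∈ M → v = 1 := by
    intro v hvV hvM
    by_contra hv1
    obtain ⟨k, hk⟩ := hVq v hvV
    have h1 : orderOf v ∣ q ^ k := orderOf_dvd_of_pow_eq_one hk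
    have h2 : orderOf v ≠ 1 := fun h => hv1 (orderOf_eq_one_iff.mp h)
    obtain ⟨e, he, he2⟩ := (Nat.dvd_prime_pow hq).mp h1
    have h3 : q ∣ orderOf v := by
      rw [he2]
      apply dvd_pow_self
      intro h0; rw [h0, pow_zero] at he2; exact h2 he2
    have h4 : orderOf (v ^ (orderOf v / q)) = q :=
      orderOf_pow_orderOf_div (orderOf_pos v).ne' h3
    exact hMN _ (M.pow_mem hvM _) (N.pow_mem (hVN hvV) _) q hq hqp h4
  -- the element y
  obtain ⟨y, hy⟩ := exists_prime_orderOf_dvd_card' r hrM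
  have hyo : orderOf (y : G) = r := by rw [Subgroup.orderOf_coe]; exact hy
  have hyM : (y : G) ∈ M := y.2
  have hyN : (y : G) ∉ N := fun hN => hMN _ hyM hN r hr hrp hyo
  have hyr : (y : G) ^ r = 1 := by rw [← hyo]; exact pow_orderOf_eq_one _
  have hP : IsPGroup p P0 := isPGroup_of_forall P0 hP0p
  obtain ⟨j, hj⟩ := (IsPGroup.iff_card).mp hP
  have key := frob_trace (rho V) P0 (y : G) r hr.pos hyr (hM _ hyM) ?_ ?_ ?_
  · -- conclude
    obtain ⟨v, hvV, hv1⟩ := (Subgroup.ne_bot_iff_exists_ne_one).mp hV1 |> fun ⟨v, hv⟩ =>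
      (⟨(v : G), v.2, fun h => hv (Subtype.ext h)⟩ : ∃ v : G, v ∈ V ∧ v ≠ 1)
    have h1 := key (Additive.ofMul (⟨v, hvV⟩ : V))
    have h2 := nsmul_zero_pow V h1
    have h3 : v ^ Nat.card P0 = 1 := h2
    obtain ⟨k, hk⟩ := hVq v hvV
    rw [hj] at h3
    apply hv1
    apply eq_one_of_pow_coprime h3 hk
    apply Nat.Coprime.pow
    exact (Nat.coprime_primes hp hq).mpr (Ne.symm hqp)
  · -- hCF
    intro k hk0 hkr f hf hcomm
    have hcop : Nat.Coprime k r :=
      ((Nat.Prime.coprime_iff_not_dvd hr).mpr (Nat.not_dvd_of_pos_of_lt hk0 hkr)).symm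
    have hykN : (y : G) ^ k ∉ N := by
      intro hN
      apply hyN
      exact mem_of_pow_mem_coprime hN (by rw [hyr]; exact one_mem _) hcop
    apply cam_coprime h hykN (hP0N hf) hcomm
    obtain ⟨e, he⟩ := hP0p f hf
    have h1 : orderOf ((y : G) ^ k) ∣ r := by
      apply orderOf_dvd_of_pow_eq_one
      rw [← pow_mul, mul_comm, pow_mul, hyr, one_pow]
    have h2 : orderOf f ∣ p ^ e := orderOf_dvd_of_pow_eq_one he
    apply Nat.Coprime.coprime_dvd_left h1
    apply Nat.Coprime.coprime_dvd_right h2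
    apply Nat.Coprime.pow_right
    exact (Nat.coprime_primes hr hp).mpr hrp
  · -- hfixF
    intro m hm
    have h1 : ((Additive.toMul m : V) : G) ∈ M := by
      apply hM'
      intro f hf
      exact (rho_fix V (hm f hf)).symm
    have h2 := hVM _ (Additive.toMul m : V).2 h1
    apply Additive.toMul.injective
    apply Subtype.ext
    exact h2
  · -- hfixy
    intro f hf m hm
    have hu1 : f * (y : G) * f⁻¹ ∈ M := M.mul_mem (M.mul_mem (hP0M hf) hyM) (M.inv_mem (hP0M hf))
    have hu2 : f * (y : G) * f⁻¹ ∉ N := by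
      intro hN
      apply hyN
      have := ‹N.Normal›.conj_mem _ hN f⁻¹
      simpa [mul_assoc] using this
    have h1 := rho_fix V hm
    have h2 : ((Additive.toMul m : V) : G)⁻¹ * (f * (y : G) * f⁻¹) * ((Additive.toMul m : V) : G) ∈ M := by
      rw [mul_assoc, h1, ← mul_assoc, inv_mul_cancel, one_mul]
      exact hu1
    have h3 := fixed_coset h hsup hu1 hu2 h2
    have h4 := hVM _ (Additive.toMul m : V).2 h3
    apply Additive.toMul.injective
    apply Subtype.ext
    exact h4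



open Subgroup
open scoped IsMulCommutative

theorem no_cpcp {G : Type*} [Group G] [Finite G] {N : Subgroup G} [N.Normal] (h : Cam N)
    {p q : ℕ} (hp : p.Prime) (hq : q.Prime) (hqp : q ≠ p)
    (V : Subgroup G) [V.Normal] [IsMulCommutative V] (hVN : V ≤ N)
    (hVq : ∀ v ∈ V, ∃ k : ℕ, v ^ (q ^ k) = 1) (hV1 : V ≠ ⊥)
    (hNV : ∀ n ∈ N, ∀ v ∈ V, n * v = v * n) :
    ∀ a b : G ⧸ N, Commute a b → a ^ p = 1 → b ^ p = 1 → b ≠ 1 → a ∈ zpowers b := by
  intro a b hab ha hb hb1
  by_contra hnot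
  obtain ⟨w, rfl⟩ := QuotientGroup.mk_surjective a
  obtain ⟨z, rfl⟩ := QuotientGroup.mk_surjective b
  have hwp : w ^ p ∈ N := by
    rw [← QuotientGroup.eq_one_iff, QuotientGroup.mk_pow]; exact ha
  have hzp : z ^ p ∈ N := by
    rw [← QuotientGroup.eq_one_iff, QuotientGroup.mk_pow]; exact hb
  have hc : (z * w)⁻¹ * (w * z) ∈ N := by
    rw [← QuotientGroup.eq, QuotientGroup.mk_mul, QuotientGroup.mk_mul]
    exact hab.eq.symm
  have hρN : ∀ n ∈ N, rho V n = 1 := fun n hn => rho_eq_one_of_central V (hNV n hn)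
  have hAB : Commute (rho V w) (rho V z) := by
    show rho V w * rho V z = rho V z * rho V w
    rw [← map_mul, ← map_mul]
    have : w * z = (z * w) * ((z * w)⁻¹ * (w * z)) := by group
    rw [this, map_mul (rho V) (z * w), hρN _ hc, mul_one]
  have hA : rho V w ^ p = 1 := by rw [← map_pow]; exact hρN _ hwp
  have hB : rho V z ^ p = 1 := by rw [← map_pow]; exact hρN _ hzp
  have key := cpcp p hp.one_lt (rho V w) (rho V z) hAB hA hB ?_
  · obtain ⟨v, hvV, hv1⟩ := (Subgroup.ne_bot_iff_exists_ne_one).mp hV1 |> fun ⟨v, hv⟩ =>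
      (⟨(v : G), v.2, fun h => hv (Subtype.ext h)⟩ : ∃ v : G, v ∈ V ∧ v ≠ 1)
    have h1 := key (Additive.ofMul (⟨v, hvV⟩ : V))
    have h2 : v ^ p = 1 := nsmul_zero_pow V h1
    obtain ⟨k, hk⟩ := hVq v hvV
    apply hv1
    apply eq_one_of_pow_coprime h2 hk
    apply Nat.Coprime.pow_right
    exact (Nat.coprime_primes hp hq).mpr (Ne.symm hqp)
  · intro i k hi hk hik m hm
    have hm' : rho V (w ^ i * z ^ k) m = m := by rw [map_mul, map_pow, map_pow]; exact hm
    have hcomm := rho_fix V hm'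
    have hgN : w ^ i * z ^ k ∉ N := by
      intro hN
      have h1 : ((w : G ⧸ N)) ^ i * (z : G ⧸ N) ^ k = 1 := by
        rw [← QuotientGroup.mk_pow, ← QuotientGroup.mk_pow, ← QuotientGroup.mk_mul,
          QuotientGroup.eq_one_iff]
        exact hN
      rcases Nat.eq_zero_or_pos i with hi0 | hi0
      · subst hi0
        have hk0 : k ≠ 0 := by
          rcases hik with h | h
          · exact absurd rfl h
          · exact h
        rw [pow_zero, one_mul] at h1
        have h2 : orderOf (z : G ⧸ N) ∣ p := orderOf_dvd_of_pow_eq_one hb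
        have h3 : orderOf (z : G ⧸ N) = p := by
          rcases (Nat.dvd_prime hp).mp h2 with h | h
          · exact absurd (orderOf_eq_one_iff.mp h) hb1
          · exact h
        have h4 : p ∣ k := by rw [← h3]; exact orderOf_dvd_of_pow_eq_one h1
        exact absurd (Nat.le_of_dvd (Nat.pos_of_ne_zero hk0) h4) (by omega)
      · apply hnot
        have h2 : (w : G ⧸ N) ^ i ∈ zpowers (z : G ⧸ N) := by
          have : (w : G ⧸ N) ^ i = ((z : G ⧸ N) ^ k)⁻¹ := eq_inv_of_mul_eq_one_left h1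
          rw [this]
          exact (zpowers _).inv_mem ((zpowers _).pow_mem (mem_zpowers _) k)
        have hcop : Nat.Coprime i p :=
          ((Nat.Prime.coprime_iff_not_dvd hp).mpr (Nat.not_dvd_of_pos_of_lt hi0 hi)).symm
        exact mem_of_pow_mem_coprime h2 (by rw [ha]; exact one_mem _) hcop
    have hgp : (w ^ i * z ^ k) ^ (p ^ 1) ∈ N := by
      rw [pow_one, ← QuotientGroup.eq_one_iff, QuotientGroup.mk_pow, QuotientGroup.mk_mul,
        QuotientGroup.mk_pow, QuotientGroup.mk_pow]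
      rw [(hab.pow_pow i k).mul_pow, ← pow_mul, ← pow_mul, mul_comm i p, mul_comm k p, pow_mul,
        pow_mul, ha, hb, one_pow, one_pow, one_mul]
    have hv := (Additive.toMul m : V).2
    obtain ⟨e, he⟩ := hVq _ hv
    have h5 := cam_coprime' h hp hgN hgp (hVN hv) hcomm (by
      apply Nat.Coprime.coprime_dvd_left (orderOf_dvd_of_pow_eq_one he)
      apply Nat.Coprime.pow_left
      exact (Nat.coprime_primes hq hp).mpr hqp)
    apply Additive.toMul.injective
    apply Subtype.ext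
    exact h5



open Subgroup
open scoped IsMulCommutative

theorem case3a {G : Type*} [Group G] [Finite G] {N : Subgroup G} [N.Normal] (h : Cam N)
    {p q : ℕ} (hp : p.Prime) (hq : q.Prime) (hqp : q ≠ p) (hpi : p ∣ N.index)
    (P0 : Subgroup G) [P0.Normal] (hP0N : P0 ≤ N) (hP0p : ∀ f ∈ P0, ∃ k : ℕ, f ^ (p ^ k) = 1)
    (hP01 : P0 ≠ ⊥)
    (V : Subgroup G) [V.Normal] [IsMulCommutative V] (hVN : V ≤ N)
    (hVq : ∀ v ∈ V, ∃ k : ℕ, v ^ (q ^ k) = 1) (hV1 : V ≠ ⊥)
    (hNV : ∀ n ∈ N, ∀ v ∈ V, n * v = v * n) : False := by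
  haveI : Fact p.Prime := ⟨hp⟩
  have hi' := no_cpcp h hp hq hqp V hVN hVq hV1 hNV
  have hcard : p ∣ Nat.card (G ⧸ N) := by rw [← Subgroup.index_eq_card]; exact hpi
  obtain ⟨c0, hc0⟩ := exists_prime_orderOf_dvd_card' p hcard
  haveI : Nonempty {g : G ⧸ N // ∃ e : ℕ, orderOf g = p ^ e} := ⟨⟨1, 0, by simp⟩⟩
  obtain ⟨⟨xb, a, hxa⟩, hmax⟩ :=
    Finite.exists_max (fun s : {g : G ⧸ N // ∃ e : ℕ, orderOf g = p ^ e} => orderOf s.1)
  have hmax' : ∀ g : G ⧸ N, ∀ e : ℕ, orderOf g = p ^ e → p ^ e ≤ p ^ a := by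
    intro g e he
    have := hmax ⟨g, e, he⟩
    simp only at this
    rw [he, hxa] at this
    exact this
  have ha1 : 1 ≤ a := by
    have := hmax' c0 1 (by rw [hc0, pow_one])
    exact (Nat.pow_le_pow_iff_right hp.one_lt).mp this
  -- (ii)
  have hii : ∀ u : G ⧸ N, Commute u xb → u ^ p ∈ zpowers xb → u ∈ zpowers xb := by
    intro u hux hup
    rw [mem_zpowers_iff] at hup
    obtain ⟨j, hj⟩ := hup
    by_cases hpj : (p : ℤ) ∣ j
    · obtain ⟨j', rfl⟩ := hpj
      have hw1 : Commute u (xb ^ (-j')) := hux.zpow_right _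
      have hwp : (u * xb ^ (-j')) ^ p = 1 := by
        rw [hw1.mul_pow, ← hj, ← zpow_natCast (xb ^ (-j')) p, ← zpow_mul, ← zpow_add]
        have : (p : ℤ) * j' + -j' * (p : ℤ) = 0 := by ring
        rw [this, zpow_zero]
      have hz1 : (xb ^ (p ^ (a - 1))) ^ p = 1 := by
        rw [← pow_mul, ← pow_succ, Nat.sub_add_cancel ha1, ← hxa, pow_orderOf_eq_one]
      have hz2 : xb ^ (p ^ (a - 1)) ≠ 1 := by
        intro h0
        have h1 := orderOf_dvd_of_pow_eq_one h0
        rw [hxa] at h1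
        have h2 := (Nat.pow_dvd_pow_iff_le_right hp.one_lt).mp h1
        omega
      have hcomm : Commute (u * xb ^ (-j')) (xb ^ (p ^ (a - 1))) :=
        (hux.pow_right _).mul_left (((Commute.refl xb).zpow_left _).pow_right _)
      have h1 := hi' _ _ hcomm hwp hz1 hz2
      have h2 : zpowers (xb ^ (p ^ (a - 1))) ≤ zpowers xb :=
        (zpowers_le).mpr ((zpowers xb).pow_mem (mem_zpowers xb) _)
      have h3 : u = (u * xb ^ (-j')) * xb ^ j' := by rw [mul_assoc, ← zpow_add]; simp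
      rw [h3]
      exact (zpowers xb).mul_mem (h2 h1) ((zpowers xb).zpow_mem (mem_zpowers xb) _)
    · exfalso
      have h1 : u ^ (p ^ (a + 1)) = 1 := by
        rw [pow_succ', pow_mul, ← hj, ← zpow_natCast, ← zpow_mul, mul_comm, zpow_mul, zpow_natCast,
          ← hxa, pow_orderOf_eq_one, one_zpow]
      obtain ⟨e, he1, he2⟩ := (Nat.dvd_prime_pow hp).mp (orderOf_dvd_of_pow_eq_one h1)
      have h2 := hmax' u e he2
      have h3 : e ≤ a := (Nat.pow_le_pow_iff_right hp.one_lt).mp h2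
      have h4 : u ^ (p ^ a) = 1 := by
        apply orderOf_dvd_iff_pow_eq_one.mp
        rw [he2]
        exact pow_dvd_pow p h3
      have h5 : xb ^ (j * ((p ^ (a - 1) : ℕ) : ℤ)) = 1 := by
        rw [zpow_mul, hj, zpow_natCast, ← pow_mul, ← pow_succ', Nat.sub_add_cancel ha1]
        exact h4
      have h6 : (orderOf xb : ℤ) ∣ j * ((p ^ (a - 1) : ℕ) : ℤ) := orderOf_dvd_iff_zpow_eq_one.mpr h5
      rw [hxa] at h6
      have h7 : ((p : ℤ) * ((p ^ (a - 1) : ℕ) : ℤ)) ∣ j * ((p ^ (a - 1) : ℕ) : ℤ) := by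
        have : ((p ^ a : ℕ) : ℤ) = (p : ℤ) * ((p ^ (a - 1) : ℕ) : ℤ) := by
          rw [← Nat.cast_mul, ← pow_succ', Nat.sub_add_cancel ha1]
        rw [← this]; exact h6
      have h8 : ((p ^ (a - 1) : ℕ) : ℤ) ≠ 0 := by
        have := pow_pos hp.pos (a - 1)
        exact_mod_cast this.ne'
      exact hpj (Int.dvd_of_mul_dvd_mul_right h8 h7)
  -- Step c
  have hc : ¬ p ∣ (zpowers xb).relIndex (centralizer ({xb} : Set (G ⧸ N))) := by
    intro hd
    have hnrm : ∀ k ∈ centralizer ({xb} : Set (G ⧸ N)), ∀ z ∈ zpowers xb, k * z * k⁻¹ ∈ zpowers xb := by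
      intro k hk z hz
      rw [mem_centralizer_singleton_iff] at hk
      rw [mem_zpowers_iff] at hz ⊢
      obtain ⟨i, rfl⟩ := hz
      refine ⟨i, ?_⟩
      have h1 : Commute k (xb ^ i) := (show Commute k xb from hk).zpow_right i
      rw [h1.eq]; group
    obtain ⟨u, huK, huH, hup⟩ := exists_pow_mem (zpowers xb) (centralizer {xb}) hnrm hd
    apply huH
    apply hii u _ hup
    rw [mem_centralizer_singleton_iff] at huK
    exact huK
  -- Step d
  obtain ⟨x, rfl⟩ := QuotientGroup.mk_surjective xb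
  have hxN : x ∉ N := by
    intro hN
    have h1 : (x : G ⧸ N) = 1 := (QuotientGroup.eq_one_iff x).mpr hN
    rw [h1, orderOf_one] at hxa
    have h2 : 1 < p ^ a := Nat.one_lt_pow (by omega) hp.one_lt
    omega
  have hxpa : x ^ (p ^ a) ∈ N := by
    rw [← QuotientGroup.eq_one_iff, QuotientGroup.mk_pow, ← hxa, pow_orderOf_eq_one]
  obtain ⟨b, m', hm', hom⟩ := Nat.exists_eq_pow_mul_and_not_dvd (orderOf_pos x).ne' p hp.ne_one
  have hm'pos : 0 < m' := by
    rcases Nat.eq_zero_or_pos m' with h0 | h0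
    · exact absurd (h0 ▸ dvd_zero p) hm'
    · exact h0
  have hxb : x ^ (p ^ b) = 1 := by
    have h1 : orderOf (x : G ⧸ N) ∣ orderOf x := by
      apply orderOf_dvd_of_pow_eq_one
      rw [← QuotientGroup.mk_pow, pow_orderOf_eq_one, QuotientGroup.mk_one]
    rw [hxa, hom] at h1
    have h2 : p ^ a ∣ p ^ b :=
      Nat.Coprime.dvd_of_dvd_mul_right
        (Nat.Coprime.pow_left _ ((Nat.Prime.coprime_iff_not_dvd hp).mpr hm')) h1
    have hnN : x ^ (p ^ b) ∈ N := by
      obtain ⟨d, hd⟩ := h2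
      rw [hd, pow_mul]
      exact N.pow_mem hxpa _
    have ho : orderOf (x ^ (p ^ b)) = m' := by
      rw [orderOf_pow' x (pow_pos hp.pos b).ne', hom, Nat.gcd_mul_right_left,
        Nat.mul_div_cancel_left _ (pow_pos hp.pos b)]
    apply cam_coprime' h hp hxN hxpa hnN (Commute.pow_right (Commute.refl x) _)
    rw [ho]
    exact ((Nat.Prime.coprime_iff_not_dvd hp).mpr hm').symm
  obtain ⟨c, hcP, hc1, hcx⟩ := exists_fixed_in_normal_p P0 hP0p hP01 x b hxb
  -- an element of order p in C_N(x)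
  obtain ⟨c', hc'N, hc'o, hc'x⟩ : ∃ c' ∈ N, orderOf c' = p ∧ x * c' = c' * x := by
    obtain ⟨k, hk⟩ := hP0p c hcP
    have h1 : orderOf c ∣ p ^ k := orderOf_dvd_of_pow_eq_one hk
    have h2 : orderOf c ≠ 1 := fun h => hc1 (orderOf_eq_one_iff.mp h)
    obtain ⟨e, he, he2⟩ := (Nat.dvd_prime_pow hp).mp h1
    have h3 : p ∣ orderOf c := by
      rw [he2]
      apply dvd_pow_self
      intro h0; rw [h0, pow_zero] at he2; exact h2 he2
    refine ⟨c ^ (orderOf c / p), N.pow_mem (hP0N hcP) _,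
      orderOf_pow_orderOf_div (orderOf_pos c).ne' h3, ?_⟩
    exact ((show Commute x c from hcx).pow_right _).eq
  -- numerics
  have hT := cam_count h hxN
  have hT2 : Nat.card {t : G // x⁻¹ * (t * x * t⁻¹) ∈ N}
      = Nat.card ((centralizer ({(x : G ⧸ N)} : Set (G ⧸ N))).comap (QuotientGroup.mk' N)) := by
    apply Nat.card_congr
    apply Equiv.subtypeEquivRight
    intro t
    rw [mem_comap, mem_centralizer_singleton_iff, QuotientGroup.mk'_apply, ← QuotientGroup.mk_mul,
      ← QuotientGroup.mk_mul, eq_comm, QuotientGroup.eq]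
    have h1 : x⁻¹ * (t * x * t⁻¹) = (x⁻¹ * t * x) * t⁻¹ := by group
    have h2 : (x * t)⁻¹ * (t * x) = t⁻¹ * (x⁻¹ * t * x) := by group
    rw [h1, h2]
    exact ‹N.Normal›.mem_comm_iff
  have hT3 : Nat.card ((centralizer ({(x : G ⧸ N)} : Set (G ⧸ N))).comap (QuotientGroup.mk' N))
      = Nat.card N * Nat.card (centralizer ({(x : G ⧸ N)} : Set (G ⧸ N))) := by
    have h1 := Subgroup.index_comap_of_surjective (centralizer ({(x : G ⧸ N)} : Set (G ⧸ N)))
      (QuotientGroup.mk'_surjective N)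
    have h2 := Subgroup.card_mul_index
      ((centralizer ({(x : G ⧸ N)} : Set (G ⧸ N))).comap (QuotientGroup.mk' N))
    have h3 := Subgroup.card_mul_index (centralizer ({(x : G ⧸ N)} : Set (G ⧸ N)))
    have h4 := Subgroup.card_eq_card_quotient_mul_card_subgroup N
    rw [h1] at h2
    have h5 : 0 < (centralizer ({(x : G ⧸ N)} : Set (G ⧸ N))).index :=
      Nat.pos_of_ne_zero index_ne_zero_of_finite
    have h6 : (centralizer ({(x : G ⧸ N)} : Set (G ⧸ N))).index *
        Nat.card ((centralizer ({(x : G ⧸ N)} : Set (G ⧸ N))).comap (QuotientGroup.mk' N))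
        = (centralizer ({(x : G ⧸ N)} : Set (G ⧸ N))).index *
          (Nat.card N * Nat.card (centralizer ({(x : G ⧸ N)} : Set (G ⧸ N)))) := by
      rw [mul_comm, h2, h4, ← h3]; ring
    exact Nat.eq_of_mul_eq_mul_left h5 h6
  have hCC : Nat.card (centralizer ({x} : Set G))
      = Nat.card (centralizer ({(x : G ⧸ N)} : Set (G ⧸ N))) := by
    have h1 : Nat.card N * Nat.card (centralizer ({x} : Set G))
        = Nat.card N * Nat.card (centralizer ({(x : G ⧸ N)} : Set (G ⧸ N))) := by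
      rw [← hT, hT2, hT3]
    exact Nat.eq_of_mul_eq_mul_left Nat.card_pos h1
  -- the restricted quotient map
  obtain ⟨φ, hφ⟩ : ∃ φ : (centralizer ({x} : Set G)) →* G ⧸ N, ∀ t, φ t = ((t : G) : G ⧸ N) :=
    ⟨(QuotientGroup.mk' N).comp (centralizer ({x} : Set G)).subtype, fun t => rfl⟩
  have hk1 : Nat.card (centralizer ({x} : Set G)) = Nat.card φ.range * Nat.card φ.ker := by
    rw [Subgroup.card_eq_card_quotient_mul_card_subgroup φ.ker,
      Nat.card_congr (QuotientGroup.quotientKerEquivRange φ).toEquiv]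
  have hk2 : p ∣ Nat.card φ.ker := by
    have hc'C : c' ∈ centralizer ({x} : Set G) := by
      rw [mem_centralizer_singleton_iff]; exact hc'x.symm
    have h1 : (⟨c', hc'C⟩ : centralizer ({x} : Set G)) ∈ φ.ker := by
      rw [MonoidHom.mem_ker, hφ]
      exact (QuotientGroup.eq_one_iff c').mpr hc'N
    have h2 := Subgroup.orderOf_dvd_natCard φ.ker h1
    rw [Subgroup.orderOf_mk, hc'o] at h2
    exact h2
  have hR1 : φ.range ≤ centralizer ({(x : G ⧸ N)} : Set (G ⧸ N)) := by
    rintro _ ⟨t, rfl⟩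
    rw [mem_centralizer_singleton_iff, hφ, ← QuotientGroup.mk_mul, ← QuotientGroup.mk_mul]
    have := t.2
    rw [mem_centralizer_singleton_iff] at this
    rw [this]
  have hR2 : zpowers (x : G ⧸ N) ≤ φ.range := by
    rw [zpowers_le]
    refine ⟨⟨x, ?_⟩, hφ _⟩
    rw [mem_centralizer_singleton_iff]
  have hR3 : Nat.card φ.range * φ.range.relIndex (centralizer ({(x : G ⧸ N)} : Set (G ⧸ N)))
      = Nat.card (centralizer ({(x : G ⧸ N)} : Set (G ⧸ N))) := by
    have h1 := Subgroup.card_mul_index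
      (φ.range.subgroupOf (centralizer ({(x : G ⧸ N)} : Set (G ⧸ N))))
    rw [Nat.card_congr (Subgroup.subgroupOfEquivOfLe hR1).toEquiv] at h1
    exact h1
  have hR4 : φ.range.relIndex (centralizer ({(x : G ⧸ N)} : Set (G ⧸ N))) = Nat.card φ.ker := by
    have h1 : Nat.card φ.range * φ.range.relIndex (centralizer ({(x : G ⧸ N)} : Set (G ⧸ N)))
        = Nat.card φ.range * Nat.card φ.ker := by rw [hR3, ← hCC, hk1]
    exact Nat.eq_of_mul_eq_mul_left Nat.card_pos h1
  apply hc
  rw [← relIndex_mul_relIndex _ _ _ hR2 hR1, hR4]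
  exact Dvd.dvd.mul_left hk2 _



open Subgroup
open scoped IsMulCommutative

theorem exists_V {G : Type*} [Group G] [Finite G] {q : ℕ} [Fact q.Prime] (Q0 : Subgroup G) [Q0.Normal]
    (hQq : IsPGroup q Q0) (hQ1 : Q0 ≠ ⊥) :
    ∃ V : Subgroup G, V.Normal ∧ IsMulCommutative V ∧ V ≤ Q0 ∧ V ≠ ⊥ ∧
      ∀ v ∈ V, ∀ u ∈ Q0, u * v = v * u := by
  refine ⟨Q0 ⊓ centralizer (Q0 : Set G), inferInstance, ?_, inf_le_left, ?_, ?_⟩
  · refine ⟨⟨fun a b => Subtype.ext ?_⟩⟩
    have ha : (a : G) ∈ Q0 := a.2.1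
    have hb : (b : G) ∈ centralizer (Q0 : Set G) := b.2.2
    rw [mem_centralizer_iff] at hb
    exact hb _ ha
  · haveI : Nontrivial Q0 := (Subgroup.nontrivial_iff_ne_bot Q0).mpr hQ1
    have h1 := hQq.center_nontrivial
    obtain ⟨z, hz⟩ := (Subgroup.ne_bot_iff_exists_ne_one).mp
      ((Subgroup.nontrivial_iff_ne_bot _).mp h1)
    intro hbot
    have h2 : ((z : Q0) : G) ∈ Q0 ⊓ centralizer (Q0 : Set G) := by
      rw [Subgroup.mem_inf]
      refine ⟨(z : Q0).2, ?_⟩
      rw [mem_centralizer_iff]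
      intro u hu
      have h3 := z.2
      rw [Subgroup.mem_center_iff] at h3
      have h4 := h3 ⟨u, hu⟩
      exact congrArg Subtype.val h4
    rw [hbot, mem_bot] at h2
    apply hz
    apply Subtype.ext
    apply Subtype.ext
    exact h2
  · intro v hv u hu
    have := (Subgroup.mem_inf.mp hv).2
    rw [mem_centralizer_iff] at this
    exact this u hu

universe u

theorem ML (p : ℕ) (hp : p.Prime) : ∀ (k : ℕ) (G : Type u) [Group G] [Finite G] (N : Subgroup G)
    [N.Normal], Nat.card G = k → Cam N → p ∣ Nat.card N → p ∣ N.index →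
    ∀ q r : ℕ, q.Prime → r.Prime → q ≠ p → r ≠ p → q ∣ Nat.card N → r ∣ N.index → False := by
  intro k
  induction k using Nat.strong_induction_on with
  | _ k IH =>
  intro G _ _ N _ hk hcam hpN hpi q r hq hr hqp hrp hqN hri
  haveI : Fact p.Prime := ⟨hp⟩
  haveI : Fact q.Prime := ⟨hq⟩
  have sub_step : ∀ L : Subgroup G, L ⊔ N = ⊤ → L ≠ ⊤ → ∀ s : ℕ, s.Prime → s ≠ p →
      ¬ s ∣ Nat.card (N.subgroupOf L) := by
    intro L hsup hL s hs hsp hsd
    have hlt : Nat.card L < k := by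
      rw [← hk]
      have h1 : Nat.card L ≤ Nat.card G := Subgroup.card_le_card_group L
      have h2 : Nat.card L ≠ Nat.card G := fun h => hL ((Subgroup.card_eq_iff_eq_top L).mp h)
      omega
    have hidx := sub_index (N := N) (L := L) hsup
    have hcard := sub_card (N := N) (L := L) hsup
    have hrel : p ∣ N.relIndex L := by
      show p ∣ (N.subgroupOf L).index
      rw [hidx]; exact hpi
    obtain ⟨g, hgL, hgN, e, hge⟩ := exists_pelt (N := N) (L := L) hrel
    have hmod := index_modEq hcam hsup hgL hgN hge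
    have hnd : ¬ p ∣ L.index := by
      intro hd
      have h0 : L.index ≡ 0 [MOD p] := (Nat.modEq_zero_iff_dvd).mpr hd
      have h1 : 1 ≡ 0 [MOD p] := hmod.symm.trans h0
      have h2 := (Nat.modEq_zero_iff_dvd).mp h1
      exact hp.one_lt.ne' (Nat.dvd_one.mp h2)
    have hpN' : p ∣ Nat.card (N.subgroupOf L) := by
      rw [← hcard] at hpN
      exact ((Nat.Prime.dvd_mul hp).mp hpN).resolve_right hnd
    exact IH (Nat.card L) hlt L (N.subgroupOf L) rfl (cam_sub hcam hsup) hpN'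
      (by rw [hidx]; exact hpi) s r hs hr hsp hrp hsd (by rw [hidx]; exact hri)
  -- elements of prime order s ≠ p do not exist in N ∩ L
  have sub_elt : ∀ L : Subgroup G, L ⊔ N = ⊤ → L ≠ ⊤ → ∀ v ∈ L, v ∈ N → ∀ s : ℕ, s.Prime → s ≠ p →
      orderOf v ≠ s := by
    intro L hsup hL v hvL hvN s hs hsp hvo
    apply sub_step L hsup hL s hs hsp
    have h1 : (⟨v, hvL⟩ : L) ∈ N.subgroupOf L := by rw [mem_subgroupOf]; exact hvN
    have h2 := Subgroup.orderOf_dvd_natCard (N.subgroupOf L) h1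
    rw [Subgroup.orderOf_mk, hvo] at h2
    exact h2
  -- step 1
  have step1 : ∀ s : ℕ, s.Prime → s ≠ p → s ∣ Nat.card N → ∀ S : Sylow s N,
      normalizer (((S : Subgroup N).map N.subtype : Subgroup G) : Set G) = ⊤ := by
    intro s hs hsp hsN S
    haveI : Fact s.Prime := ⟨hs⟩
    by_contra hne
    have hsup := Sylow.normalizer_sup_eq_top S
    have hS : s ∣ Nat.card S := S.dvd_card_of_dvd_card hsN
    obtain ⟨b, hb⟩ := exists_prime_orderOf_dvd_card' s hS
    have hbmem : ((b : N) : G) ∈ ((S : Subgroup N).map N.subtype : Subgroup G) :=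
      mem_map_of_mem _ b.2
    refine sub_elt _ hsup hne ((b : N) : G) (le_normalizer hbmem) (b : N).2 s hs hsp ?_
    rw [Subgroup.orderOf_coe, Subgroup.orderOf_coe]; exact hb
  -- the q-Sylow
  obtain ⟨Q⟩ : Nonempty (Sylow q N) := inferInstance
  have hQn := step1 q hq hqp hqN Q
  haveI hQnorm : ((Q : Subgroup N).map N.subtype : Subgroup G).Normal := normalizer_eq_top_iff.mp hQn
  have hQq : IsPGroup q ((Q : Subgroup N).map N.subtype : Subgroup G) := Q.2.map _
  have hQ1 : ((Q : Subgroup N).map N.subtype : Subgroup G) ≠ ⊥ := by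
    intro hbot
    have hS : q ∣ Nat.card Q := Q.dvd_card_of_dvd_card hqN
    obtain ⟨b, hb⟩ := exists_prime_orderOf_dvd_card' q hS
    have hbmem : ((b : N) : G) ∈ ((Q : Subgroup N).map N.subtype : Subgroup G) :=
      mem_map_of_mem _ b.2
    rw [hbot, mem_bot] at hbmem
    have h1 : orderOf ((b : N) : G) = q := by
      rw [Subgroup.orderOf_coe, Subgroup.orderOf_coe]; exact hb
    rw [hbmem, orderOf_one] at h1
    exact hq.ne_one h1.symm
  have hQN : ((Q : Subgroup N).map N.subtype : Subgroup G) ≤ N := by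
    rintro _ ⟨n, -, rfl⟩
    exact n.2
  obtain ⟨V, hVn, hVc, hVQ, hV1, hVcent⟩ := exists_V _ hQq hQ1
  haveI := hVn
  haveI := hVc
  have hVN : V ≤ N := le_trans hVQ hQN
  have hVq : ∀ v ∈ V, ∃ k : ℕ, v ^ (q ^ k) = 1 := by
    intro v hv
    obtain ⟨k, hk⟩ := hQq ⟨v, hVQ hv⟩
    exact ⟨k, by simpa using congrArg Subtype.val hk⟩
  -- the p-Sylow
  obtain ⟨P⟩ : Nonempty (Sylow p N) := inferInstance
  have hPp : IsPGroup p ((P : Subgroup N).map N.subtype : Subgroup G) := P.2.map _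
  have hP0p : ∀ f ∈ ((P : Subgroup N).map N.subtype : Subgroup G), ∃ k : ℕ, f ^ (p ^ k) = 1 := by
    intro f hf
    obtain ⟨k, hk⟩ := hPp ⟨f, hf⟩
    exact ⟨k, by simpa using congrArg Subtype.val hk⟩
  have hP0N : ((P : Subgroup N).map N.subtype : Subgroup G) ≤ N := by
    rintro _ ⟨n, -, rfl⟩
    exact n.2
  have hP01 : ((P : Subgroup N).map N.subtype : Subgroup G) ≠ ⊥ := by
    intro hbot
    have hS : p ∣ Nat.card P := P.dvd_card_of_dvd_card hpN
    obtain ⟨b, hb⟩ := exists_prime_orderOf_dvd_card' p hS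
    have hbmem : ((b : N) : G) ∈ ((P : Subgroup N).map N.subtype : Subgroup G) :=
      mem_map_of_mem _ b.2
    rw [hbot, mem_bot] at hbmem
    have h1 : orderOf ((b : N) : G) = p := by
      rw [Subgroup.orderOf_coe, Subgroup.orderOf_coe]; exact hb
    rw [hbmem, orderOf_one] at h1
    exact hp.ne_one h1.symm
  have hsupM := Sylow.normalizer_sup_eq_top P
  by_cases hM : normalizer (((P : Subgroup N).map N.subtype : Subgroup G) : Set G) = ⊤
  · -- case 3a
    haveI hPnorm : ((P : Subgroup N).map N.subtype : Subgroup G).Normal := normalizer_eq_top_iff.mp hM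
    apply case3a hcam hp hq hqp hpi _ hP0N hP0p hP01 V hVN hVq hV1
    -- N centralizes V
    intro n hn v hv
    have hK : (centralizer ({v} : Set G)).subgroupOf N = ⊤ := by
      rw [← Subgroup.index_eq_one]
      apply Nat.eq_one_iff_not_exists_prime_dvd.mpr
      intro s hs hsd
      haveI : Fact s.Prime := ⟨hs⟩
      have hsN : s ∣ Nat.card N := dvd_trans hsd (Subgroup.index_dvd_card _)
      -- find a Sylow s-subgroup of N inside
      have key : ∃ S : Sylow s N, ∀ x ∈ ((S : Subgroup N).map N.subtype : Subgroup G), x * v = v * x := by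
        by_cases hsq : s = q
        · subst hsq
          exact ⟨Q, fun x hx => hVcent v hv x hx⟩
        · by_cases hsp : s = p
          · subst hsp
            refine ⟨P, fun x hx => ?_⟩
            have hdis := IsPGroup.disjoint_of_ne s q hsq _ _ hPp hQq
            exact (commute_of_normal_of_disjoint _ _ hPnorm hQnorm hdis x v hx (hVQ hv)).eq
          · obtain ⟨S⟩ : Nonempty (Sylow s N) := inferInstance
            refine ⟨S, fun x hx => ?_⟩
            have hSn := step1 s hs hsp hsN S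
            have hSnorm : ((S : Subgroup N).map N.subtype : Subgroup G).Normal :=
              normalizer_eq_top_iff.mp hSn
            have hSs : IsPGroup s ((S : Subgroup N).map N.subtype : Subgroup G) := S.2.map _
            have hdis := IsPGroup.disjoint_of_ne s q hsq _ _ hSs hQq
            exact (commute_of_normal_of_disjoint _ _ hSnorm hQnorm hdis x v hx (hVQ hv)).eq
      obtain ⟨S, hS⟩ := key
      have hle : (S : Subgroup N) ≤ (centralizer ({v} : Set G)).subgroupOf N := by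
        intro x hx
        rw [mem_subgroupOf, mem_centralizer_singleton_iff]
        exact hS _ (mem_map_of_mem _ hx)
      have h1 : ((centralizer ({v} : Set G)).subgroupOf N).index ∣ (S : Subgroup N).index :=
        index_dvd_of_le hle
      exact S.not_dvd_index (dvd_trans hsd h1)
    have h2 : (⟨n, hn⟩ : N) ∈ (centralizer ({v} : Set G)).subgroupOf N := by rw [hK]; trivial
    rw [mem_subgroupOf, mem_centralizer_singleton_iff] at h2
    exact h2
  · -- case 3b
    apply case3b hcam hp hq hr hqp hrp _ _ hP0N hP0p le_normalizer ?_ ?_ hsupM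
      (sub_elt _ hsupM hM) ?_ V hVN hVq hV1
    · intro m hm f hf
      rw [mem_normalizer_iff] at hm
      exact (hm f).mp hf
    · intro t ht
      rw [mem_normalizer_iff]
      intro f
      constructor
      · intro hf
        rw [ht f hf]
        simpa using hf
      · intro hf
        have h1 := ht _ hf
        have h2 : f = t * f * t⁻¹ := by
          have : t * f * t⁻¹ = t⁻¹ * (t * (t * f * t⁻¹)) := by group
          rw [this, h1]; group
        rw [h2]; exact hf
    · have h1 : (N.subgroupOf (normalizer (((P : Subgroup N).map N.subtype : Subgroup G) : Set G))).index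
          ∣ Nat.card (normalizer (((P : Subgroup N).map N.subtype : Subgroup G) : Set G)) :=
        Subgroup.index_dvd_card _
      rw [sub_index hsupM] at h1
      exact dvd_trans hri h1



open Subgroup
open scoped IsMulCommutative

theorem isPrimePow_of_unique {n p : ℕ} (hn : n ≠ 0) (hp : p.Prime) (hpn : p ∣ n)
    (h : ∀ q : ℕ, q.Prime → q ≠ p → ¬ q ∣ n) : IsPrimePow n := by
  have h1 := Nat.eq_prime_pow_of_unique_prime_dvd hn (p := p) (fun {d} hd hdn => by
    by_contra hne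
    exact h d hd hne hdn)
  rw [isPrimePow_nat_iff]
  refine ⟨p, n.primeFactorsList.length, hp, ?_, h1.symm⟩
  rcases Nat.eq_zero_or_pos n.primeFactorsList.length with h0 | h0
  · rw [h0, pow_zero] at h1
    rw [h1] at hpn
    exact absurd (Nat.dvd_one.mp hpn) hp.ne_one
  · exact h0


/-- Let G be a finite group and N a proper non-trivial normal subgroup such that for every g outside N the conjugacy class of g is a union of cosets of N (equivalently gn is conjugate to g for every n ∈ N). Then either every element of G outside N acts fixed-point-freely on N (C_G(x) ≤ N for all x ∈ N, x ≠ 1, so G is a Frobenius group with kernel N), or N has prime-power order, or G/N has prime-power order. -/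
theorem result {G : Type*} [Group G] [Finite G] (N : Subgroup G) [N.Normal] (hN1 : N ≠ ⊥) (hN2 : N ≠ ⊤)
    (hcam : ∀ g : G, g ∉ N → ∀ n ∈ N, ∃ x : G, x * g * x⁻¹ = g * n) :
    (∀ x ∈ N, x ≠ 1 → Subgroup.centralizer ({x} : Set G) ≤ N) ∨ IsPrimePow (Nat.card N) ∨ IsPrimePow N.index := by
  by_contra hcon
  push Not at hcon
  obtain ⟨⟨x, hxN, hx1, hxc⟩, hnp1, hnp2⟩ := hcon
  have hC : Cam N := hcam
  obtain ⟨g, hgc, hgN⟩ := SetLike.not_le_iff_exists.mp hxc
  rw [mem_centralizer_singleton_iff] at hgc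
  have hox : orderOf x ≠ 1 := fun h => hx1 (orderOf_eq_one_iff.mp h)
  obtain ⟨p, hp, hpd⟩ := Nat.exists_prime_and_dvd hox
  have hx'o : orderOf (x ^ (orderOf x / p)) = p :=
    orderOf_pow_orderOf_div (orderOf_pos x).ne' hpd
  have hx'N : x ^ (orderOf x / p) ∈ N := N.pow_mem hxN _
  have hcomm : Commute g (x ^ (orderOf x / p)) := (show Commute g x from hgc).pow_right _
  have hpi : p ∣ N.index := cam_dvd_index hC hp hgN hx'N hcomm hx'o
  have hpN : p ∣ Nat.card N := by
    have := Subgroup.orderOf_dvd_natCard N hx'N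
    rwa [hx'o] at this
  have hq : ∃ q : ℕ, q.Prime ∧ q ≠ p ∧ q ∣ Nat.card N := by
    by_contra hno
    push Not at hno
    exact hnp1 (isPrimePow_of_unique Nat.card_pos.ne' hp hpN (fun q hq hqp hqd => hno q hq hqp hqd))
  have hr : ∃ r : ℕ, r.Prime ∧ r ≠ p ∧ r ∣ N.index := by
    by_contra hno
    push Not at hno
    exact hnp2 (isPrimePow_of_unique index_ne_zero_of_finite hp hpi
      (fun q hq hqp hqd => hno q hq hqp hqd))
  obtain ⟨q, hq, hqp, hqN⟩ := hq
  obtain ⟨r, hr, hrp, hri⟩ := hr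
  exact ML p hp (Nat.card G) G N rfl hC hpN hpi q r hq hr hqp hrp hqN hri

end Cfsg.Agent.S4140
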