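import Cfsg.Statements.S4142
import Mathlib

set_option autoImplicit false
open Cfsg

namespace Cfsg.Agent.S4142

open Subgroup

/-- For a fixed `g`, the local equivalence. -/
theorem local_iff {G : Type*} [Group G] [Finite G] (N : Subgroup G) [N.Normal] (g : G) :
    (∀ n ∈ N, ∃ x : G, x * g * x⁻¹ = g * n) ↔
      Nat.card (Subgroup.centralizer ({g} : Set G)) =
        Nat.card (Subgroup.centralizer ({(QuotientGroup.mk g : G ⧸ N)} : Set (G ⧸ N))) := by
  classical
  obtain ⟨π, hπdef⟩ : ∃ π : G →* G ⧸ N, π = QuotientGroup.mk' N := ⟨_, rfl⟩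
  have hπs : Function.Surjective π := hπdef ▸ QuotientGroup.mk'_surjective N
  have hπg : π g = (QuotientGroup.mk g : G ⧸ N) := by rw [hπdef]; rfl
  have hπN : ∀ y : G, π y = 1 ↔ y ∈ N := by
    intro y; rw [hπdef]; exact QuotientGroup.eq_one_iff y
  obtain ⟨Cb, hCb⟩ : ∃ Cb : Subgroup (G ⧸ N), Cb = Subgroup.centralizer ({π g} : Set (G ⧸ N)) :=
    ⟨_, rfl⟩
  obtain ⟨C, hC⟩ : ∃ C : Subgroup G, C = Subgroup.centralizer ({g} : Set G) := ⟨_, rfl⟩
  obtain ⟨D, hD⟩ : ∃ D : Subgroup G, D = Cb.comap π := ⟨_, rfl⟩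
  rw [← hπg, ← hCb, ← hC]
  have hmemC : ∀ x : G, x ∈ C ↔ x * g = g * x := by
    intro x
    rw [hC, Subgroup.mem_centralizer_iff]
    simp [eq_comm]
  have hmemD : ∀ x : G, x ∈ D ↔ x * g * x⁻¹ * g⁻¹ ∈ N := by
    intro x
    rw [hD, Subgroup.mem_comap, hCb, Subgroup.mem_centralizer_iff, ← hπN]
    simp only [Set.mem_singleton_iff, forall_eq, map_mul, map_inv]
    constructor
    · intro h
      rw [← h]; group
    · intro h
      have : π x * π g = π x * π g * (π x)⁻¹ * (π g)⁻¹ * π g * π x := by group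
      rw [this, h, one_mul]
  have hCD : C ≤ D := by
    intro x hx
    rw [hmemD]
    rw [hmemC] at hx
    rw [hx]
    have : g * x * x⁻¹ * g⁻¹ = 1 := by group
    rw [this]; exact one_mem _
  -- cardinalities
  have hcardD : Nat.card D = Nat.card N * Nat.card Cb := by
    have h1 := Subgroup.card_mul_index D
    have h2 : D.index = Cb.index := by rw [hD]; exact Subgroup.index_comap_of_surjective Cb hπs
    have h3 := Subgroup.card_mul_index Cb
    have h4 := Subgroup.card_eq_card_quotient_mul_card_subgroup N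
    have hpos : 0 < Cb.index := Nat.pos_of_ne_zero Subgroup.index_ne_zero_of_finite
    rw [h2] at h1
    have : Nat.card D * Cb.index = Nat.card N * Nat.card Cb * Cb.index := by
      rw [h1, h4, ← h3]; ring
    exact Nat.eq_of_mul_eq_mul_right hpos this
  have hcardCx : Nat.card (C.subgroupOf D) = Nat.card C := by
    exact Nat.card_congr (Subgroup.subgroupOfEquivOfLe hCD).toEquiv
  have hcardD2 : Nat.card D = Nat.card (D ⧸ (C.subgroupOf D)) * Nat.card C := by
    rw [← hcardCx]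
    exact Subgroup.card_eq_card_quotient_mul_card_subgroup (C.subgroupOf D)
  have hposC : 0 < Nat.card C := Nat.card_pos
  have hposN : 0 < Nat.card N := Nat.card_pos
  -- (A) injection (D ⧸ (C.subgroupOf D)) → N
  have hΦmem : ∀ q : D ⧸ (C.subgroupOf D), ((q.out : D) : G) * g * ((q.out : D) : G)⁻¹ * g⁻¹ ∈ N :=
    fun q => (hmemD _).mp (q.out : D).2
  let Φ : D ⧸ (C.subgroupOf D) → N := fun q => ⟨_, hΦmem q⟩
  have hconj_eq : ∀ x y : G, x * g * x⁻¹ = y * g * y⁻¹ → y⁻¹ * x ∈ C := by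
    intro x y h
    rw [hmemC]
    calc y⁻¹ * x * g = y⁻¹ * (x * g * x⁻¹) * x := by group
      _ = y⁻¹ * (y * g * y⁻¹) * x := by rw [h]
      _ = g * (y⁻¹ * x) := by group
  have hΦinj : Function.Injective Φ := by
    intro q q' h
    have h1 : ((q.out : D) : G) * g * ((q.out : D) : G)⁻¹ * g⁻¹ =
        ((q'.out : D) : G) * g * ((q'.out : D) : G)⁻¹ * g⁻¹ := congrArg Subtype.val h
    have h2 := hconj_eq _ _ (mul_right_cancel h1)
    rw [← QuotientGroup.out_eq' q, ← QuotientGroup.out_eq' q']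
    symm
    apply QuotientGroup.eq.mpr
    show (q'.out)⁻¹ * q.out ∈ C.subgroupOf D
    rw [Subgroup.mem_subgroupOf]
    simpa using h2
  have hA : Nat.card (D ⧸ (C.subgroupOf D)) ≤ Nat.card N := Nat.card_le_card_of_injective Φ hΦinj
  constructor
  · -- Camina at g ⇒ equality
    intro hcam
    -- (B) injection N → D ⧸ (C.subgroupOf D)
    choose! xf hxf using hcam
    have hxD : ∀ n : N, xf n ∈ D := by
      intro n
      rw [hmemD, hxf n n.2]
      have : g * (n : G) * g⁻¹ ∈ N := (inferInstance : N.Normal).conj_mem _ n.2 g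
      exact this
    let Ψ : N → D ⧸ (C.subgroupOf D) := fun n => QuotientGroup.mk (⟨xf n, hxD n⟩ : D)
    have hΨinj : Function.Injective Ψ := by
      intro n m h
      have h1 : (⟨xf n, hxD n⟩ : D)⁻¹ * ⟨xf m, hxD m⟩ ∈ (C.subgroupOf D) := QuotientGroup.eq.mp h
      rw [Subgroup.mem_subgroupOf] at h1
      have h2 : (xf n)⁻¹ * xf m ∈ C := by simpa using h1
      rw [hmemC] at h2
      have h3 : xf m * g * (xf m)⁻¹ = xf n * g * (xf n)⁻¹ := by
        calc xf m * g * (xf m)⁻¹ = xf n * ((xf n)⁻¹ * xf m * g) * (xf m)⁻¹ := by group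
          _ = xf n * (g * ((xf n)⁻¹ * xf m)) * (xf m)⁻¹ := by rw [h2]
          _ = xf n * g * (xf n)⁻¹ := by group
      rw [hxf n n.2, hxf m m.2] at h3
      exact Subtype.ext (mul_left_cancel h3).symm
    have hB : Nat.card N ≤ Nat.card (D ⧸ (C.subgroupOf D)) := Nat.card_le_card_of_injective Ψ hΨinj
    have heq : Nat.card (D ⧸ (C.subgroupOf D)) = Nat.card N := le_antisymm hA hB
    rw [heq, hcardD] at hcardD2
    exact (Nat.eq_of_mul_eq_mul_left hposN hcardD2).symm
  · intro hcard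
    have heq : Nat.card (D ⧸ (C.subgroupOf D)) = Nat.card N := by
      rw [hcardD, ← hcard] at hcardD2
      exact (Nat.eq_of_mul_eq_mul_right hposC hcardD2).symm
    have hΦbij : Function.Bijective Φ :=
      (Nat.bijective_iff_injective_and_card Φ).mpr ⟨hΦinj, heq⟩
    intro n hn
    have hm : g * n * g⁻¹ ∈ N := (inferInstance : N.Normal).conj_mem _ hn g
    obtain ⟨q, hq⟩ := hΦbij.2 ⟨_, hm⟩
    refine ⟨((q.out : D) : G), ?_⟩
    have h1 : ((q.out : D) : G) * g * ((q.out : D) : G)⁻¹ * g⁻¹ = g * n * g⁻¹ :=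
      congrArg Subtype.val hq
    exact mul_right_cancel h1

theorem result {G : Type*} [Group G] [Finite G] (N : Subgroup G) [N.Normal] :
    (∀ g : G, g ∉ N → ∀ n ∈ N, ∃ x : G, x * g * x⁻¹ = g * n) ↔
      ∀ g : G, g ∉ N → Nat.card (Subgroup.centralizer ({g} : Set G)) =
        Nat.card (Subgroup.centralizer ({(QuotientGroup.mk g : G ⧸ N)} : Set (G ⧸ N))) := by
  constructor
  · intro h g hg
    exact (local_iff N g).mp (h g hg)
  · intro h g hg
    exact (local_iff N g).mpr (h g hg)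

end Cfsg.Agent.S4142
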