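import Cfsg.Statements.S4152
import Mathlib

set_option autoImplicit false
open Cfsg

namespace Cfsg.Agent.S4152

open scoped Classical

/-- `π`-element. -/
def IsPi (π : Set ℕ) {X : Type*} [Monoid X] (x : X) : Prop :=
  ∀ q : ℕ, q.Prime → q ∣ orderOf x → q ∈ π

/-- the statement's predicate on classes -/
abbrev PC (π : Set ℕ) {X : Type*} [Group X] (C : ConjClasses X) : Prop :=
  ∀ q : ℕ, q.Prime → (∃ g : X, ConjClasses.mk g = C ∧ q ∣ orderOf g) → q ∈ π

abbrev PiCl (π : Set ℕ) (X : Type*) [Group X] := {C : ConjClasses X // PC π C}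

theorem orderOf_conj' {X : Type*} [Group X] (c x : X) : orderOf (c * x * c⁻¹) = orderOf x := by
  have := MulEquiv.orderOf_eq (MulAut.conj c) x
  simpa [MulAut.conj_apply] using this

theorem pc_mk {π : Set ℕ} {X : Type*} [Group X] (x : X) : PC π (ConjClasses.mk x) ↔ IsPi π x := by
  constructor
  · intro h q hq hd
    exact h q hq ⟨x, rfl, hd⟩
  · rintro h q hq ⟨g, hg, hd⟩
    rw [ConjClasses.mk_eq_mk_iff_isConj, isConj_iff] at hg
    obtain ⟨c, hc⟩ := hg
    have : orderOf g = orderOf x := by rw [← hc, orderOf_conj']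
    exact h q hq (this ▸ hd)

theorem nat_pi_decomp (π : Set ℕ) : ∀ n : ℕ, n ≠ 0 → ∃ a b : ℕ, n = a * b ∧
    (∀ q : ℕ, q.Prime → q ∣ a → q ∈ π) ∧ (∀ q : ℕ, q.Prime → q ∣ b → q ∉ π) := by
  intro n
  induction n using Nat.recOnMul with
  | zero => intro h; exact absurd rfl h
  | one =>
    intro _
    exact ⟨1, 1, rfl, fun q hq h => absurd (Nat.dvd_one.mp h) hq.ne_one,
      fun q hq h => absurd (Nat.dvd_one.mp h) hq.ne_one⟩
  | prime p hp =>
    intro _
    by_cases hpπ : p ∈ π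
    · refine ⟨p, 1, (mul_one p).symm, fun q hq h => ?_,
        fun q hq h => absurd (Nat.dvd_one.mp h) hq.ne_one⟩
      rwa [(Nat.prime_dvd_prime_iff_eq hq hp).mp h]
    · refine ⟨1, p, (one_mul p).symm, fun q hq h => absurd (Nat.dvd_one.mp h) hq.ne_one,
        fun q hq h => ?_⟩
      rwa [(Nat.prime_dvd_prime_iff_eq hq hp).mp h]
  | mul a b iha ihb =>
    intro hab
    obtain ⟨a1, b1, h1, h1a, h1b⟩ := iha (left_ne_zero_of_mul hab)
    obtain ⟨a2, b2, h2, h2a, h2b⟩ := ihb (right_ne_zero_of_mul hab)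
    refine ⟨a1 * a2, b1 * b2, by rw [h1, h2]; ring, fun q hq h => ?_, fun q hq h => ?_⟩
    · rcases (Nat.Prime.dvd_mul hq).mp h with h | h
      · exact h1a q hq h
      · exact h2a q hq h
    · rcases (Nat.Prime.dvd_mul hq).mp h with h | h
      · exact h1b q hq h
      · exact h2b q hq h

theorem exists_decomp (π : Set ℕ) {X : Type*} [Group X] [Finite X] (x : X) :
    ∃ u v : X, u ∈ Subgroup.zpowers x ∧ v ∈ Subgroup.zpowers x ∧ x = u * v ∧
      IsPi π u ∧ IsPi πᶜ v := by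
  obtain ⟨a, b, hab, ha, hb⟩ := nat_pi_decomp π (orderOf x) (orderOf_pos x).ne'
  have hcop : Nat.Coprime a b :=
    Nat.coprime_of_dvd (fun k hk hka hkb => hb k hk hkb (ha k hk hka))
  obtain ⟨k, hk1, hk0⟩ := Nat.chineseRemainder hcop 1 0
  obtain ⟨l, hl0, hl1⟩ := Nat.chineseRemainder hcop 0 1
  have hbk : b ∣ k := (Nat.modEq_zero_iff_dvd).mp hk0
  have hal : a ∣ l := (Nat.modEq_zero_iff_dvd).mp hl0
  refine ⟨x ^ k, x ^ l, ⟨k, by simp⟩, ⟨l, by simp⟩, ?_, ?_, ?_⟩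
  · rw [← pow_add]
    have : k + l ≡ 1 [MOD orderOf x] := by
      rw [hab]
      apply (Nat.modEq_and_modEq_iff_modEq_mul hcop).mp
      constructor
      · simpa using Nat.ModEq.add hk1 hl0
      · simpa using Nat.ModEq.add hk0 hl1
    conv_lhs => rw [← pow_one x]
    exact (pow_eq_pow_iff_modEq.mpr this).symm
  · intro q hq hd
    apply ha q hq
    apply hd.trans
    apply orderOf_dvd_of_pow_eq_one
    rw [← pow_mul]
    obtain ⟨c, rfl⟩ := hbk
    rw [show b * c * a = orderOf x * c by rw [hab]; ring, pow_mul, pow_orderOf_eq_one, one_pow]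
  · intro q hq hd
    apply hb q hq
    apply hd.trans
    apply orderOf_dvd_of_pow_eq_one
    rw [← pow_mul]
    obtain ⟨c, rfl⟩ := hal
    rw [show a * c * b = orderOf x * c by rw [hab]; ring, pow_mul, pow_orderOf_eq_one, one_pow]

theorem coprime_of_pi {π : Set ℕ} {a b : ℕ} (ha : ∀ q : ℕ, q.Prime → q ∣ a → q ∈ π)
    (hb : ∀ q : ℕ, q.Prime → q ∣ b → q ∈ πᶜ) : Nat.Coprime a b :=
  Nat.coprime_of_dvd (fun k hk hka hkb => hb k hk hkb (ha k hk hka))

theorem decomp_unique {π : Set ℕ} {X : Type*} [Group X] [Finite X] {u v u' v' : X}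
    (hu : IsPi π u) (hv : IsPi πᶜ v) (hu' : IsPi π u') (hv' : IsPi πᶜ v')
    (huv : Commute u v) (huv' : Commute u' v') (h : u * v = u' * v') : u = u' := by
  have hc : Nat.Coprime (orderOf u) (orderOf v) := coprime_of_pi hu hv
  have hc' : Nat.Coprime (orderOf u') (orderOf v') := coprime_of_pi hu' hv'
  have hcx : Nat.Coprime (orderOf u) (orderOf v') := coprime_of_pi hu hv'
  have hcy : Nat.Coprime (orderOf u') (orderOf v) := coprime_of_pi hu' hv
  have ho := huv.orderOf_mul_eq_mul_orderOf_of_coprime hc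
  have ho' := huv'.orderOf_mul_eq_mul_orderOf_of_coprime hc'
  rw [h, ho'] at ho
  have e1 : orderOf u = orderOf u' := by
    apply Nat.dvd_antisymm
    · exact hcx.dvd_of_dvd_mul_right (ho ▸ dvd_mul_right _ _)
    · exact hcy.dvd_of_dvd_mul_right (ho.symm ▸ dvd_mul_right _ _)
  have e2 : orderOf v = orderOf v' := by
    rw [e1] at ho
    exact (Nat.eq_of_mul_eq_mul_left (orderOf_pos u') ho).symm
  obtain ⟨k, hk1, hk0⟩ := Nat.chineseRemainder hc 1 0
  have hvk : orderOf v ∣ k := (Nat.modEq_zero_iff_dvd).mp hk0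
  have p1 : (u * v) ^ k = u := by
    rw [huv.mul_pow, orderOf_dvd_iff_pow_eq_one.mp hvk, mul_one]
    conv_rhs => rw [← pow_one u]
    exact pow_eq_pow_iff_modEq.mpr hk1
  have p2 : (u' * v') ^ k = u' := by
    have hvk' : orderOf v' ∣ k := e2 ▸ hvk
    rw [huv'.mul_pow, orderOf_dvd_iff_pow_eq_one.mp hvk', mul_one]
    conv_rhs => rw [← pow_one u']
    exact pow_eq_pow_iff_modEq.mpr (e1 ▸ hk1)
  rw [← p1, h, p2]

theorem isPi_coe {π : Set ℕ} {G : Type*} [Group G] (N : Subgroup G) (m : N) :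
    IsPi π (m : G) ↔ IsPi π m := by
  unfold IsPi
  rw [Subgroup.orderOf_coe]

theorem F2 {G : Type*} [Group G] [Finite G] (N : Subgroup G) (π : Set ℕ) :
    Nat.card {p : G × G // p.1 ∈ N ∧ IsPi π p.1 ∧ p.2 ∈ N ∧ Commute p.1 p.2} ≤
      Nat.card (PiCl π N) * Nat.card N := by
  rw [← Nat.card_prod]
  have hrep : ∀ d : PiCl π N, ∃ t : N, ConjClasses.mk t = d.1 := fun d => ConjClasses.exists_rep d.1
  choose t ht using hrep
  let cls : ∀ m : G, m ∈ N → IsPi π m → PiCl π N := fun m hm hpi =>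
    ⟨ConjClasses.mk ⟨m, hm⟩, (pc_mk _).mpr ((isPi_coe N ⟨m, hm⟩).mp hpi)⟩
  have hr : ∀ (m : G) (hm : m ∈ N) (hpi : IsPi π m),
      ∃ r : N, r * t (cls m hm hpi) * r⁻¹ = ⟨m, hm⟩ := by
    intro m hm hpi
    have := ht (cls m hm hpi)
    rw [ConjClasses.mk_eq_mk_iff_isConj, isConj_iff] at this
    exact this
  choose r hr using hr
  apply Nat.card_le_card_of_injective
    (fun p : {p : G × G // p.1 ∈ N ∧ IsPi π p.1 ∧ p.2 ∈ N ∧ Commute p.1 p.2} =>
      ((cls p.1.1 p.2.1 p.2.2.1, (⟨p.1.2, p.2.2.2.1⟩ : N) * r p.1.1 p.2.1 p.2.2.1) : PiCl π N × N))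
  rintro ⟨⟨m, k⟩, hm, hpi, hk, hcomm⟩ ⟨⟨m', k'⟩, hm', hpi', hk', hcomm'⟩ h
  simp only [Prod.mk.injEq] at h
  obtain ⟨hc, hκ⟩ := h
  have key : ∀ (m k : G) (hm : m ∈ N) (hpi : IsPi π m) (hk : k ∈ N) (hcomm : Commute m k),
      (⟨m, hm⟩ : N) = ((⟨k, hk⟩ : N) * r m hm hpi) * t (cls m hm hpi) * ((⟨k, hk⟩ : N) * r m hm hpi)⁻¹ := by
    intro m k hm hpi hk hcomm
    have h1 : ((⟨k, hk⟩ : N) * r m hm hpi) * t (cls m hm hpi) * ((⟨k, hk⟩ : N) * r m hm hpi)⁻¹
        = (⟨k, hk⟩ : N) * (r m hm hpi * t (cls m hm hpi) * (r m hm hpi)⁻¹) * (⟨k, hk⟩ : N)⁻¹ := by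
      group
    rw [h1, hr m hm hpi]
    apply Subtype.ext
    simp only [Subgroup.coe_mul, Subgroup.coe_inv]
    rw [← hcomm.eq, mul_inv_cancel_right]
  have hmm : m = m' := by
    have e1 := key m k hm hpi hk hcomm
    have e2 := key m' k' hm' hpi' hk' hcomm'
    rw [hc, hκ] at e1
    have := e1.trans e2.symm
    exact congrArg Subtype.val this
  subst hmm
  have hkk : (⟨k, hk⟩ : N) = ⟨k', hk'⟩ := mul_right_cancel hκ
  have : k = k' := congrArg Subtype.val hkk
  subst this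
  rfl

theorem isPi_map {π : Set ℕ} {X Y : Type*} [Group X] [Group Y] (f : X →* Y) {x : X}
    (h : IsPi π x) : IsPi π (f x) :=
  fun q hq hd => h q hq (hd.trans (orderOf_map_dvd f x))

theorem isPi_conj {π : Set ℕ} {X : Type*} [Group X] (c : X) {x : X}
    (h : IsPi π x) : IsPi π (c * x * c⁻¹) := by
  unfold IsPi
  rw [orderOf_conj']
  exact h

/-- the map on `π`-classes induced by `G → G ⧸ N` -/
noncomputable def phi {G : Type*} [Group G] (N : Subgroup G) [N.Normal] (π : Set ℕ) :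
    PiCl π G → PiCl π (G ⧸ N) := fun C =>
  ⟨ConjClasses.map (QuotientGroup.mk' N) C.1, by
    obtain ⟨C, hC⟩ := C
    obtain ⟨x, rfl⟩ := ConjClasses.exists_rep C
    exact (pc_mk _).mpr (isPi_map _ ((pc_mk x).mp hC))⟩

theorem F1 {G : Type*} [Group G] [Finite G] (N : Subgroup G) [N.Normal] (π : Set ℕ) (g : G)
    (b : PiCl π (G ⧸ N)) (hg : ConjClasses.mk (QuotientGroup.mk' N g) = b.1) :
    Nat.card {a : PiCl π G // phi N π a = b} * Nat.card N ≤
      Nat.card {p : G × G // QuotientGroup.mk' N p.1 = QuotientGroup.mk' N g ∧ IsPi π p.1 ∧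
        p.2 ∈ N ∧ Commute p.1 p.2} := by
  rw [← Nat.card_prod]
  have hrep : ∀ a : {a : PiCl π G // phi N π a = b}, ∃ t : G, ConjClasses.mk t = a.1.1 ∧
      QuotientGroup.mk' N t = QuotientGroup.mk' N g := by
    rintro ⟨⟨C, hC⟩, ha⟩
    obtain ⟨x, rfl⟩ := ConjClasses.exists_rep C
    have h1 : ConjClasses.mk (QuotientGroup.mk' N x) = ConjClasses.mk (QuotientGroup.mk' N g) := by
      rw [hg, ← ha]
      rfl
    rw [ConjClasses.mk_eq_mk_iff_isConj, isConj_iff] at h1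
    obtain ⟨c', hc'⟩ := h1
    obtain ⟨c, rfl⟩ := QuotientGroup.mk'_surjective N c'
    refine ⟨c * x * c⁻¹, ?_, ?_⟩
    · show ConjClasses.mk (c * x * c⁻¹) = ConjClasses.mk x
      rw [ConjClasses.mk_eq_mk_iff_isConj, isConj_iff]
      exact ⟨c⁻¹, by group⟩
    · rw [← hc']
      simp
  choose t ht using hrep
  have htpi : ∀ a, IsPi π (t a) := fun a => (pc_mk _).mp ((ht a).1 ▸ a.1.2)
  let rep : {a : PiCl π G // phi N π a = b} → G → N := fun a x =>
    if h : ∃ n : N, (n : G) * t a * (n : G)⁻¹ = x then h.choose else 1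
  have hrep' : ∀ a (n : N), ((rep a ((n : G) * t a * (n : G)⁻¹) : N) : G) * t a *
      ((rep a ((n : G) * t a * (n : G)⁻¹) : N) : G)⁻¹ = (n : G) * t a * (n : G)⁻¹ := by
    intro a n
    have h : ∃ n' : N, (n' : G) * t a * (n' : G)⁻¹ = (n : G) * t a * (n : G)⁻¹ := ⟨n, rfl⟩
    simp only [rep, dif_pos h]
    exact h.choose_spec
  apply Nat.card_le_card_of_injective
    (fun q : {a : PiCl π G // phi N π a = b} × N =>
      (⟨((q.2 : G) * t q.1 * (q.2 : G)⁻¹,
          ((q.2 * (rep q.1 ((q.2 : G) * t q.1 * (q.2 : G)⁻¹))⁻¹ : N) : G)), by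
        refine ⟨?_, isPi_conj _ (htpi q.1),
          (q.2 * (rep q.1 ((q.2 : G) * t q.1 * (q.2 : G)⁻¹))⁻¹ : N).2, ?_⟩
        · have : QuotientGroup.mk' N (q.2 : G) = 1 := by
            rw [QuotientGroup.mk'_apply, QuotientGroup.eq_one_iff]
            exact q.2.2
          rw [map_mul, map_mul, map_inv, this, (ht q.1).2]
          simp
        · have h := hrep' q.1 q.2
          set r := rep q.1 ((q.2 : G) * t q.1 * (q.2 : G)⁻¹) with hr
          show (q.2 : G) * t q.1 * (q.2 : G)⁻¹ * ((q.2 * r⁻¹ : N) : G) =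
            ((q.2 * r⁻¹ : N) : G) * ((q.2 : G) * t q.1 * (q.2 : G)⁻¹)
          simp only [Subgroup.coe_mul, Subgroup.coe_inv]
          have h' : t q.1 = (r : G)⁻¹ * ((q.2 : G) * t q.1 * (q.2 : G)⁻¹) * (r : G) := by
            rw [← h]; group
          have e : (q.2 : G) * (r : G)⁻¹ * ((q.2 : G) * t q.1 * (q.2 : G)⁻¹) =
              (q.2 : G) * ((r : G)⁻¹ * ((q.2 : G) * t q.1 * (q.2 : G)⁻¹) * (r : G)) * (r : G)⁻¹ := by
            group
          rw [e, ← h']
          group⟩ :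
        {p : G × G // QuotientGroup.mk' N p.1 = QuotientGroup.mk' N g ∧ IsPi π p.1 ∧
          p.2 ∈ N ∧ Commute p.1 p.2}))
  rintro ⟨a, n⟩ ⟨a', n'⟩ h
  simp only [Subtype.mk.injEq, Prod.mk.injEq] at h
  obtain ⟨hx, hn⟩ := h
  have haa : a = a' := by
    apply Subtype.ext
    apply Subtype.ext
    rw [← (ht a).1, ← (ht a').1]
    have e1 : ConjClasses.mk (t a) = ConjClasses.mk ((n : G) * t a * (n : G)⁻¹) := by
      rw [ConjClasses.mk_eq_mk_iff_isConj, isConj_iff]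
      exact ⟨n, rfl⟩
    have e2 : ConjClasses.mk (t a') = ConjClasses.mk ((n' : G) * t a' * (n' : G)⁻¹) := by
      rw [ConjClasses.mk_eq_mk_iff_isConj, isConj_iff]
      exact ⟨n', rfl⟩
    rw [e1, e2, hx]
  subst haa
  rw [hx] at hn
  have : n * (rep a ((n' : G) * t a * (n' : G)⁻¹))⁻¹ = n' * (rep a ((n' : G) * t a * (n' : G)⁻¹))⁻¹ :=
    Subtype.ext hn
  rw [mul_right_cancel this]

theorem commute_of_mem_zpowers {X : Type*} [Group X] {x n m : X} (h : Commute x n)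
    (hm : m ∈ Subgroup.zpowers n) : Commute x m := by
  obtain ⟨i, rfl⟩ := hm
  exact h.zpow_right i

theorem mid {G : Type*} [Group G] [Finite G] (N : Subgroup G) [N.Normal] (π : Set ℕ) (g : G) :
    Nat.card {p : G × G // QuotientGroup.mk' N p.1 = QuotientGroup.mk' N g ∧ IsPi π p.1 ∧
        p.2 ∈ N ∧ Commute p.1 p.2} ≤
      Nat.card {p : G × G // p.1 ∈ N ∧ IsPi π p.1 ∧ p.2 ∈ N ∧ Commute p.1 p.2} := by
  have hdec : ∀ n : G, ∃ u v : G, u ∈ Subgroup.zpowers n ∧ v ∈ Subgroup.zpowers n ∧ n = u * v ∧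
      IsPi π u ∧ IsPi πᶜ v := exists_decomp π
  choose pp pq hpp hpq hmul hppi hpqi using hdec
  let y0 : G → G := fun m =>
    if h : ∃ y : G, QuotientGroup.mk' N y = QuotientGroup.mk' N g ∧ Commute y m then h.choose else 1
  have hy0 : ∀ m y : G, QuotientGroup.mk' N y = QuotientGroup.mk' N g → Commute y m →
      QuotientGroup.mk' N (y0 m) = QuotientGroup.mk' N g ∧ Commute (y0 m) m := by
    intro m y h1 h2
    have h : ∃ y : G, QuotientGroup.mk' N y = QuotientGroup.mk' N g ∧ Commute y m := ⟨y, h1, h2⟩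
    simp only [y0, dif_pos h]
    exact h.choose_spec
  -- facts about a pair in the source
  have facts : ∀ p : {p : G × G // QuotientGroup.mk' N p.1 = QuotientGroup.mk' N g ∧ IsPi π p.1 ∧
        p.2 ∈ N ∧ Commute p.1 p.2},
      pp p.1.2 ∈ N ∧ pq p.1.2 ∈ N ∧ Commute p.1.1 (pp p.1.2) ∧ Commute p.1.1 (pq p.1.2) ∧
      Commute (pp p.1.2) (pq p.1.2) ∧
      QuotientGroup.mk' N (p.1.1 * pq p.1.2) = QuotientGroup.mk' N g ∧
      Commute (p.1.1 * pq p.1.2) (pp p.1.2) := by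
    rintro ⟨⟨x, n⟩, hx, hxpi, hn, hcomm⟩
    have hzN : Subgroup.zpowers n ≤ N := Subgroup.zpowers_le.mpr hn
    have c1 : Commute x (pp n) := commute_of_mem_zpowers hcomm (hpp n)
    have c2 : Commute x (pq n) := commute_of_mem_zpowers hcomm (hpq n)
    have c3 : Commute (pp n) (pq n) := by
      have : Commute n (pq n) := commute_of_mem_zpowers (Commute.refl n) (hpq n)
      exact (commute_of_mem_zpowers this.symm (hpp n)).symm
    refine ⟨hzN (hpp n), hzN (hpq n), c1, c2, c3, ?_, ?_⟩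
    · have : QuotientGroup.mk' N (pq n) = 1 := by
        rw [QuotientGroup.mk'_apply, QuotientGroup.eq_one_iff]
        exact hzN (hpq n)
      rw [map_mul, this, mul_one]
      exact hx
    · exact Commute.mul_left c1 c3.symm
  apply Nat.card_le_card_of_injective
    (fun p : {p : G × G // QuotientGroup.mk' N p.1 = QuotientGroup.mk' N g ∧ IsPi π p.1 ∧
        p.2 ∈ N ∧ Commute p.1 p.2} =>
      (⟨(pp p.1.2, (y0 (pp p.1.2))⁻¹ * (p.1.1 * pq p.1.2)), by
        obtain ⟨f1, f2, f3, f4, f5, f6, f7⟩ := facts p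
        obtain ⟨g1, g2⟩ := hy0 (pp p.1.2) (p.1.1 * pq p.1.2) f6 f7
        refine ⟨f1, hppi _, ?_, ?_⟩
        · show (y0 (pp p.1.2))⁻¹ * (p.1.1 * pq p.1.2) ∈ N
          rw [← QuotientGroup.eq_one_iff, ← QuotientGroup.mk'_apply, map_mul, map_inv, g1, f6]
          simp
        · show Commute (pp p.1.2) ((y0 (pp p.1.2))⁻¹ * (p.1.1 * pq p.1.2))
          exact Commute.mul_right g2.symm.inv_right f7.symm⟩ :
        {p : G × G // p.1 ∈ N ∧ IsPi π p.1 ∧ p.2 ∈ N ∧ Commute p.1 p.2}))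
  rintro ⟨⟨x, n⟩, hx, hxpi, hn, hcomm⟩ ⟨⟨x', n'⟩, hx', hxpi', hn', hcomm'⟩ h
  simp only [Subtype.mk.injEq, Prod.mk.injEq] at h
  obtain ⟨hm, hy⟩ := h
  rw [hm] at hy
  have hy' : x * pq n = x' * pq n' := mul_left_cancel hy
  obtain ⟨_, _, _, f4, _, _, _⟩ := facts ⟨⟨x, n⟩, hx, hxpi, hn, hcomm⟩
  obtain ⟨_, _, _, f4', _, _, _⟩ := facts ⟨⟨x', n'⟩, hx', hxpi', hn', hcomm'⟩
  have hxx : x = x' := decomp_unique hxpi (hpqi n) hxpi' (hpqi n') f4 f4' hy'
  subst hxx
  have hqq : pq n = pq n' := mul_left_cancel hy'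
  have hnn : n = n' := by rw [hmul n, hmul n', hm, hqq]
  subst hnn
  rfl

theorem fiber_le {G : Type*} [Group G] [Finite G] (N : Subgroup G) [N.Normal] (π : Set ℕ)
    (b : PiCl π (G ⧸ N)) :
    Nat.card {a : PiCl π G // phi N π a = b} ≤ Nat.card (PiCl π N) := by
  obtain ⟨g', hg'⟩ := ConjClasses.exists_rep b.1
  obtain ⟨g, rfl⟩ := QuotientGroup.mk'_surjective N g'
  have h1 := F1 N π g b hg'
  have h2 := mid N π g
  have h3 := F2 N π
  exact Nat.le_of_mul_le_mul_right (h1.trans (h2.trans h3)) Nat.card_pos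

theorem main {G : Type*} [Group G] [Finite G] (N : Subgroup G) [N.Normal] (π : Set ℕ) :
    Nat.card (PiCl π G) ≤ Nat.card (PiCl π N) * Nat.card (PiCl π (G ⧸ N)) := by
  haveI : Fintype (PiCl π (G ⧸ N)) := Fintype.ofFinite _
  rw [Nat.card_congr (Equiv.sigmaFiberEquiv (phi N π)).symm, Nat.card_sigma]
  calc ∑ b : PiCl π (G ⧸ N), Nat.card {a : PiCl π G // phi N π a = b}
      ≤ ∑ _b : PiCl π (G ⧸ N), Nat.card (PiCl π N) :=
        Finset.sum_le_sum (fun b _ => fiber_le N π b)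
    _ = Nat.card (PiCl π N) * Nat.card (PiCl π (G ⧸ N)) := by
        rw [Finset.sum_const, Finset.card_univ, Nat.card_eq_fintype_card (α := PiCl π (G ⧸ N)),
          smul_eq_mul, mul_comm]

end Cfsg.Agent.S4152

namespace Cfsg.Agent.S4152

/-- Let G be a finite group, N a normal subgroup and π a set of primes. Then the number of conjugacy classes of π-elements of G (elements whose order is divisible only by primes in π) is at most the number of conjugacy classes of π-elements of N (under conjugation by N) times the number of conjugacy classes of π-elements of G/N. -/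
theorem result {G : Type*} [Group G] [Finite G] (N : Subgroup G) [N.Normal] (π : Set ℕ) :
    Nat.card {C : ConjClasses G // ∀ q : ℕ, q.Prime → (∃ g : G, ConjClasses.mk g = C ∧ q ∣ orderOf g) → q ∈ π} ≤ Nat.card {C : ConjClasses N // ∀ q : ℕ, q.Prime → (∃ g : N, ConjClasses.mk g = C ∧ q ∣ orderOf g) → q ∈ π} * Nat.card {C : ConjClasses (G ⧸ N) // ∀ q : ℕ, q.Prime → (∃ g : (G ⧸ N), ConjClasses.mk g = C ∧ q ∣ orderOf g) → q ∈ π} := by
  exact main N π

end Cfsg.Agent.S4152
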