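import Cfsg.Statements.S4154
-- import your own Cfsg.Agent.* helpers here

set_option autoImplicit false
open Cfsg

namespace Cfsg.Agent.S4154

/-- Let G be a finite group and α an automorphism of G such that every element of G is the product of an element fixed by α and an element of the form g⁻¹α(g). If N is a normal α-invariant subgroup, then the automorphism ᾱ induced on G/N has the same property, and every coset fixed by ᾱ contains an element fixed by α (so the fixed points of ᾱ are the images of the fixed points of α). -/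
theorem result {G : Type*} [Group G] [Finite G] (α : MulAut G)
    (hccp : ∀ x : G, ∃ c g : G, α c = c ∧ x = c * (g⁻¹ * α g))
    (N : Subgroup G) [N.Normal] (hN : ∀ n ∈ N, α n ∈ N) :
    (∀ x : G, ∃ c g : G, c⁻¹ * α c ∈ N ∧ x⁻¹ * (c * (g⁻¹ * α g)) ∈ N) ∧
    (∀ x : G, x⁻¹ * α x ∈ N → ∃ c : G, α c = c ∧ c⁻¹ * x ∈ N) := by
  classical
  refine ⟨?_, ?_⟩
  · intro x
    obtain ⟨c, g, hc, hx⟩ := hccp x
    refine ⟨c, g, ?_, ?_⟩
    · rw [hc, inv_mul_cancel]; exact N.one_mem
    · rw [← hx, inv_mul_cancel]; exact N.one_mem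
  · -- the fixed-point subgroup
    let C : Subgroup G :=
      { carrier := {c | α c = c}
        mul_mem' := fun {a b} ha hb => by
          simp only [Set.mem_ofPred_eq] at ha hb ⊢
          rw [map_mul, ha, hb]
        one_mem' := map_one α
        inv_mem' := fun {a} ha => by
          simp only [Set.mem_ofPred_eq] at ha ⊢
          rw [map_inv, ha] }
    -- the subgroup of elements fixed modulo N
    let D : Subgroup G :=
      { carrier := {x | x⁻¹ * α x ∈ N}
        mul_mem' := fun {a b} ha hb => by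
          simp only [Set.mem_ofPred_eq] at ha hb ⊢
          have h1 : b⁻¹ * (a⁻¹ * α a) * b⁻¹⁻¹ ∈ N := ‹N.Normal›.conj_mem _ ha b⁻¹
          have h2 := N.mul_mem h1 hb
          have : (a * b)⁻¹ * α (a * b) = b⁻¹ * (a⁻¹ * α a) * b⁻¹⁻¹ * (b⁻¹ * α b) := by
            rw [map_mul]; group
          rw [this]; exact h2
        one_mem' := by
          simp only [Set.mem_ofPred_eq, map_one, inv_one, mul_one]
          exact N.one_mem
        inv_mem' := fun {a} ha => by
          simp only [Set.mem_ofPred_eq] at ha ⊢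
          have h1 : a * (a⁻¹ * α a)⁻¹ * a⁻¹ ∈ N := ‹N.Normal›.conj_mem _ (N.inv_mem ha) a
          have : a⁻¹⁻¹ * α a⁻¹ = a * (a⁻¹ * α a)⁻¹ * a⁻¹ := by
            rw [map_inv]; group
          rw [this]; exact h1 }
    have hCD : C ≤ D := by
      intro c hc
      change c⁻¹ * α c ∈ N
      rw [show α c = c from hc, inv_mul_cancel]; exact N.one_mem
    have hND : N ≤ D := by
      intro n hn
      change n⁻¹ * α n ∈ N
      exact N.mul_mem (N.inv_mem hn) (hN n hn)
    have hle : C ⊔ N ≤ D := sup_le hCD hND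
    -- a surjection (C ⊔ N) × (G ⧸ D) → G
    have hsurj : Function.Surjective
        (fun (uq : ↥(C ⊔ N) × (G ⧸ D)) => (uq.1 : G) * (uq.2.out * (α uq.2.out)⁻¹)) := by
      intro x
      obtain ⟨c, g, hc, hx⟩ := hccp x
      obtain ⟨q, hq⟩ : ∃ q : G ⧸ D, q = QuotientGroup.mk g⁻¹ := ⟨_, rfl⟩
      obtain ⟨t, ht⟩ : ∃ t : G, t = q.out := ⟨_, rfl⟩
      have hd : t⁻¹ * g⁻¹ ∈ D := by
        rw [← QuotientGroup.eq, ht, QuotientGroup.out_eq', hq]
      have hd' : (t⁻¹ * g⁻¹)⁻¹ ∈ D := D.inv_mem hd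
      have hdN : (t⁻¹ * g⁻¹) * (α (t⁻¹ * g⁻¹))⁻¹ ∈ N := by
        have : ((t⁻¹ * g⁻¹)⁻¹)⁻¹ * α ((t⁻¹ * g⁻¹)⁻¹) ∈ N := hd'
        rwa [inv_inv, map_inv] at this
      have hn : t * ((t⁻¹ * g⁻¹) * (α (t⁻¹ * g⁻¹))⁻¹) * t⁻¹ ∈ N := ‹N.Normal›.conj_mem _ hdN t
      have hcn : c * (t * ((t⁻¹ * g⁻¹) * (α (t⁻¹ * g⁻¹))⁻¹) * t⁻¹) ∈ C ⊔ N :=
        Subgroup.mul_mem_sup (show c ∈ C from hc) hn
      refine ⟨(⟨_, hcn⟩, q), ?_⟩
      simp only
      rw [← ht, hx, map_mul, map_inv, map_inv]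
      group
    have hcard : Nat.card G ≤ Nat.card ↥(C ⊔ N) * D.index := by
      have := Nat.card_le_card_of_surjective _ hsurj
      rwa [Nat.card_prod] at this
    have hDcard : Nat.card D ≤ Nat.card ↥(C ⊔ N) := by
      rw [← D.card_mul_index] at hcard
      exact Nat.le_of_mul_le_mul_right hcard (Nat.pos_of_ne_zero Subgroup.index_ne_zero_of_finite)
    have heq : C ⊔ N = D := Subgroup.eq_of_le_of_card_ge hle hDcard
    intro x hx
    have hxD : x ∈ D := hx
    rw [← heq] at hxD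
    obtain ⟨c, hc, n, hn, hcn⟩ := Subgroup.mem_sup_of_normal_right.mp hxD
    refine ⟨c, hc, ?_⟩
    rw [← hcn, inv_mul_cancel_left]
    exact hn

end Cfsg.Agent.S4154
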