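import Cfsg.Statements.S4155
import Mathlib
import Cfsg.Agent.S0016
import Cfsg.Agent.S0040
import Cfsg.Agent.Lib.Helper6.FrobTools
import Cfsg.Agent.Lib.Helper2.Cores
import Cfsg.Agent.Lib.Helper13.FpfCyclic
import Cfsg.Agent.Lib.Helper29.SylowSub

set_option autoImplicit false
open Cfsg
open Cfsg.Agent.Lib.Helper6.FrobTools

universe u

namespace Cfsg.Agent.S4155

/-- a `q`-group acting fixed-point-freely on a nontrivial normal subgroup is cyclic or generalized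
quaternion -/
theorem cyclic_or_quat_of_fpf {X : Type u} [Group X] [Finite X] (q : ℕ) [hq : Fact q.Prime]
    (K E : Subgroup X) [hKn : K.Normal] (hK : K ≠ ⊥) (hEq : IsPGroup q E)
    (hfpf : ∀ a ∈ E, a ≠ 1 → ∀ x ∈ K, a * x = x * a → x = 1) :
    IsCyclic E ∨ ∃ n : ℕ, Nonempty (E ≃* QuaternionGroup (2 ^ n)) := by
  have hfpf' : ∀ a ∈ E, a ≠ 1 → K ⊓ Subgroup.centralizer {a} = ⊥ := by
    intro a ha ha1
    rw [eq_bot_iff]
    intro x hx
    rw [Subgroup.mem_bot]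
    obtain ⟨hxK, hxC⟩ := Subgroup.mem_inf.mp hx
    exact hfpf a ha ha1 x hxK (Subgroup.mem_centralizer_iff.mp hxC a rfl)
  have huniq' := Cfsg.Agent.S0040.unique_order_p (P := ↥E) q hEq (by
    intro A hA
    have hle : A.map E.subtype ≤ E := Subgroup.map_subtype_le _
    have hcyc : IsCyclic (A.map E.subtype) := by
      apply Cfsg.Agent.Lib.Helper13.fpf_cyclic (A.map E.subtype) K hK
      · rw [Subgroup.normalizer_eq_top]; exact le_top
      · intro a ha ha1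
        exact hfpf' a (hle ha) ha1
      · left
        infer_instance
    exact isCyclic_of_surjective (A.equivMapOfInjective E.subtype E.subtype_injective).symm
      (A.equivMapOfInjective E.subtype E.subtype_injective).symm.surjective)
  rcases Cfsg.Agent.S0016.result q hEq huniq' with h | ⟨-, h⟩
  · exact Or.inl h
  · exact Or.inr h

/-- the key consequence of the equal-order hypothesis -/
theorem key {G : Type*} [Group G] (N : Subgroup G)
    (heq : ∀ x : G, x ∉ N → ∀ n ∈ N, orderOf (x * n) = orderOf x)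
    (x : G) (hx : x ∉ N) (n : G) (hn : n ∈ N) (hc : Commute x n)
    (hcop : (orderOf x).Coprime (orderOf n)) (hfin : orderOf x ≠ 0) : n = 1 := by
  have h1 := heq x hx n hn
  rw [hc.orderOf_mul_eq_mul_orderOf_of_coprime hcop] at h1
  have h2 : orderOf n = 1 := by
    have hpos : 0 < orderOf x := Nat.pos_of_ne_zero hfin
    have : orderOf x * orderOf n = orderOf x * 1 := by rw [h1, mul_one]
    exact Nat.eq_of_mul_eq_mul_left hpos this
  exact orderOf_eq_one_iff.mp h2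

theorem exists_other_prime {m : ℕ} (hm1 : m ≠ 1) (hm0 : m ≠ 0) (hnpp : ¬ IsPrimePow m) (q : ℕ) :
    ∃ p : ℕ, p.Prime ∧ p ∣ m ∧ p ≠ q := by
  by_contra hcon
  push Not at hcon
  obtain ⟨p₁, hp₁, hp₁m⟩ := Nat.exists_prime_and_dvd hm1
  have hq : p₁ = q := hcon p₁ hp₁ hp₁m
  subst hq
  apply hnpp
  have h := Nat.eq_prime_pow_of_unique_prime_dvd hm0 (fun {d} hd hdm => hcon d hd hdm)
  rw [h]
  refine ⟨p₁, _, hp₁.prime, ?_, rfl⟩
  rcases Nat.eq_zero_or_pos m.primeFactorsList.length with h0 | h0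
  · exfalso
    rw [h0, pow_zero] at h
    exact hm1 h
  · exact h0

theorem part1 {G : Type u} [Group G] [Finite G] (N : Subgroup G) [hNn : N.Normal] (hN1 : N ≠ ⊥)
    (heq : ∀ x : G, x ∉ N → ∀ n ∈ N, orderOf (x * n) = orderOf x)
    (hnil : Group.IsNilpotent N) (hnpp : ¬ IsPrimePow (Nat.card N)) :
    N = fittingSubgroup G := by
  have hFnil : Group.IsNilpotent (fittingSubgroup G) :=
    Cfsg.Agent.Lib.Helper2.fittingSubgroup_isNilpotent
  have hNF : N ≤ fittingSubgroup G := Cfsg.Agent.Lib.Helper2.le_fittingSubgroup hNn hnil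
  by_contra hne
  have hlt : N < fittingSubgroup G := lt_of_le_of_ne hNF hne
  obtain ⟨x₀, hx₀F, hx₀N⟩ := SetLike.exists_of_lt hlt
  obtain ⟨x, ⟨hxF, hxN⟩, hmin⟩ := Set.exists_min_image
    {y : G | y ∈ fittingSubgroup G ∧ y ∉ N} orderOf (Set.toFinite _) ⟨x₀, hx₀F, hx₀N⟩
  have hx1 : x ≠ 1 := fun h => hxN (h ▸ N.one_mem)
  have hox1 : orderOf x ≠ 1 := fun h => hx1 (orderOf_eq_one_iff.mp h)
  obtain ⟨q, hq, hqx⟩ := Nat.exists_prime_and_dvd hox1
  have hpowN : ∀ r : ℕ, r.Prime → r ∣ orderOf x → x ^ r ∈ N := by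
    intro r hr hrx
    by_contra hcon
    have h1 := hmin (x ^ r) ⟨Subgroup.pow_mem _ hxF r, hcon⟩
    rw [orderOf_pow_of_dvd hr.ne_zero hrx] at h1
    have hpos := orderOf_pos x
    have : orderOf x / r < orderOf x := Nat.div_lt_self hpos hr.one_lt
    omega
  have hall : ∀ {r : ℕ}, r.Prime → r ∣ orderOf x → r = q := by
    intro r hr hrx
    by_contra hrq
    have h1 := hpowN q hq hqx
    have h2 := hpowN r hr hrx
    have hcop : Nat.Coprime q r := (Nat.coprime_primes hq hr).mpr (Ne.symm hrq)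
    have hb := Nat.gcd_eq_gcd_ab q r
    rw [hcop.gcd_eq_one] at hb
    apply hxN
    have : x = (x ^ q) ^ (Nat.gcdA q r) * (x ^ r) ^ (Nat.gcdB q r) := by
      rw [← zpow_natCast x q, ← zpow_natCast x r, ← zpow_mul, ← zpow_mul, ← zpow_add, ← hb]
      simp
    rw [this]
    exact N.mul_mem (N.zpow_mem h1 _) (N.zpow_mem h2 _)
  have hoq : orderOf x = q ^ (orderOf x).primeFactorsList.length :=
    Nat.eq_prime_pow_of_unique_prime_dvd (orderOf_pos x).ne' hall
  have hNc1 : Nat.card N ≠ 1 := fun h => hN1 (Subgroup.card_eq_one.mp h)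
  obtain ⟨p, hp, hpN, hpq⟩ := exists_other_prime hNc1 Nat.card_pos.ne' hnpp q
  haveI : Fact p.Prime := ⟨hp⟩
  obtain ⟨y', hy'⟩ := exists_prime_orderOf_dvd_card' p hpN
  have hyN : (y' : G) ∈ N := y'.2
  have hoy : orderOf (y' : G) = p := by rw [Subgroup.orderOf_coe]; exact hy'
  haveI := hFnil
  have hc := commute_of_nilpotent_of_prime_pow (N := ↥(fittingSubgroup G)) q p hq hp hpq.symm
    ⟨x, hxF⟩ ⟨(y' : G), hNF hyN⟩ _ 1 (by rw [Subgroup.orderOf_mk]; exact hoq)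
    (by rw [Subgroup.orderOf_mk, hoy, pow_one])
  have hc' : Commute x (y' : G) := congrArg Subtype.val hc.eq
  have hcop : (orderOf x).Coprime (orderOf (y' : G)) := by
    rw [hoq, hoy]
    exact Nat.Coprime.pow_left _ ((Nat.coprime_primes hq hp).mpr hpq.symm)
  have h1 := key N heq x hxN y' hyN hc' hcop (orderOf_pos x).ne'
  rw [h1, orderOf_one] at hoy
  exact hp.one_lt.ne hoy

theorem orderOf_dvd_pow_of_isPGroup {G : Type*} [Group G] {p : ℕ} {K : Subgroup G}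
    (hK : IsPGroup p K) {x : G} (hx : x ∈ K) : ∃ k : ℕ, orderOf x ∣ p ^ k := by
  obtain ⟨k, hk⟩ := hK ⟨x, hx⟩
  have hk' : x ^ p ^ k = 1 := by
    have := congrArg Subtype.val hk
    simpa using this
  exact ⟨k, orderOf_dvd_of_pow_eq_one hk'⟩

theorem part2 {G : Type u} [Group G] [Finite G] (N : Subgroup G) [hNn : N.Normal] (hN1 : N ≠ ⊥)
    (heq : ∀ x : G, x ∉ N → ∀ n ∈ N, orderOf (x * n) = orderOf x)
    (hnil : Group.IsNilpotent N) (hnpp : ¬ IsPrimePow (Nat.card N))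
    (q : ℕ) [hq : Fact q.Prime] (Qb : Sylow q (G ⧸ N)) :
    IsCyclic (Qb : Subgroup (G ⧸ N)) ∨
      ∃ n : ℕ, Nonempty ((Qb : Subgroup (G ⧸ N)) ≃* QuaternionGroup (2 ^ n)) := by
  have hNc1 : Nat.card N ≠ 1 := fun h => hN1 (Subgroup.card_eq_one.mp h)
  obtain ⟨p, hp, hpN, hpq⟩ := exists_other_prime hNc1 Nat.card_pos.ne' hnpp q
  haveI : Fact p.Prime := ⟨hp⟩
  have hsylN := ((Group.isNilpotent_of_finite_tfae (G := ↥N)).out 0 3).mp hnil
  -- P
  obtain ⟨Rp⟩ : Nonempty (Sylow p ↥N) := inferInstance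
  haveI hRpn : (Rp : Subgroup ↥N).Normal := hsylN p ‹_› Rp
  haveI : (Rp : Subgroup ↥N).Characteristic := Rp.characteristic_of_normal hRpn
  obtain ⟨P, hPd⟩ : ∃ P : Subgroup G, P = (Rp : Subgroup ↥N).map N.subtype := ⟨_, rfl⟩
  haveI hPn : P.Normal := by rw [hPd]; exact ConjAct.normal_of_characteristic_of_normal
  have hPp : IsPGroup p P := by rw [hPd]; exact Rp.isPGroup'.map _
  have hPN : P ≤ N := by rw [hPd]; exact Subgroup.map_subtype_le _
  have hP1 : P ≠ ⊥ := by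
    rw [hPd]
    intro h
    rw [Subgroup.map_eq_bot_iff_of_injective _ N.subtype_injective] at h
    exact Rp.ne_bot_of_dvd_card hpN h
  -- N_q
  obtain ⟨Rq⟩ : Nonempty (Sylow q ↥N) := inferInstance
  haveI hRqn : (Rq : Subgroup ↥N).Normal := hsylN q ‹_› Rq
  haveI : (Rq : Subgroup ↥N).Characteristic := Rq.characteristic_of_normal hRqn
  obtain ⟨Nq, hNqd⟩ : ∃ Nq : Subgroup G, Nq = (Rq : Subgroup ↥N).map N.subtype := ⟨_, rfl⟩
  haveI hNqn : Nq.Normal := by rw [hNqd]; exact ConjAct.normal_of_characteristic_of_normal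
  have hNqq : IsPGroup q Nq := by rw [hNqd]; exact Rq.isPGroup'.map _
  have hNqN : Nq ≤ N := by rw [hNqd]; exact Subgroup.map_subtype_le _
  have hNQ : ∀ Q : Subgroup G, IsPGroup q Q → N ⊓ Q ≤ Nq := by
    intro Q hQ
    have h1 : IsPGroup q ((N ⊓ Q).subgroupOf N) := (hQ.to_le inf_le_right).comap_subtype
    obtain ⟨R', hR'⟩ := h1.exists_le_sylow
    have hRR : R' = Rq := by
      obtain ⟨g, hg⟩ := MulAction.exists_smul_eq ↥N Rq R'
      rw [← hg, Sylow.smul_eq_of_normal]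
    intro x hx
    have hxN : x ∈ N := hx.1
    have h2 : (⟨x, hxN⟩ : ↥N) ∈ (Rq : Subgroup ↥N) := by
      rw [← hRR]; exact hR' (Subgroup.mem_subgroupOf.mpr hx)
    rw [hNqd]; exact ⟨⟨x, hxN⟩, h2, rfl⟩
  have hdisj : ∀ c : G, c ∈ P → c ∈ Nq → c = 1 := by
    intro c hcP hcN
    have := IsPGroup.disjoint_of_ne p q hpq P Nq hPp hNqq
    rw [Subgroup.disjoint_def] at this
    exact this hcP hcN
  -- a Sylow q-subgroup of G over Qb
  obtain ⟨Q, hQ⟩ := Sylow.mapSurjective_surjective (QuotientGroup.mk'_surjective N) q Qb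
  have hQmap : (Q : Subgroup G).map (QuotientGroup.mk' N) = (Qb : Subgroup (G ⧸ N)) := by
    rw [← hQ]; rfl
  have hQq : IsPGroup q (Q : Subgroup G) := Q.2
  -- the quotient by N_q
  obtain ⟨E, hEd⟩ : ∃ E : Subgroup (G ⧸ Nq), E = (Q : Subgroup G).map (QuotientGroup.mk' Nq) :=
    ⟨_, rfl⟩
  obtain ⟨K, hKd⟩ : ∃ K : Subgroup (G ⧸ Nq), K = P.map (QuotientGroup.mk' Nq) := ⟨_, rfl⟩
  haveI hKn : K.Normal := by
    rw [hKd]; exact Subgroup.Normal.map hPn _ (QuotientGroup.mk'_surjective Nq)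
  have hK1 : K ≠ ⊥ := by
    rw [hKd]
    intro h
    apply hP1
    rw [eq_bot_iff]
    intro c hc
    rw [Subgroup.mem_bot]
    have h1 : QuotientGroup.mk' Nq c ∈ P.map (QuotientGroup.mk' Nq) := Subgroup.mem_map_of_mem _ hc
    rw [h, Subgroup.mem_bot] at h1
    exact hdisj c hc ((QuotientGroup.eq_one_iff c).mp h1)
  have hEq : IsPGroup q E := by rw [hEd]; exact hQq.map _
  have hfpf : ∀ a ∈ E, a ≠ 1 → ∀ x ∈ K, a * x = x * a → x = 1 := by
    intro a ha ha1 x hx hax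
    rw [hEd] at ha
    rw [hKd] at hx
    obtain ⟨s, hsQ, rfl⟩ := ha
    obtain ⟨v, hvP, rfl⟩ := hx
    have hsN : s ∉ N := by
      intro h
      apply ha1
      exact (QuotientGroup.eq_one_iff s).mpr (hNQ _ hQq ⟨h, hsQ⟩)
    have hcP : s * v * s⁻¹ * v⁻¹ ∈ P := P.mul_mem (hPn.conj_mem v hvP s) (P.inv_mem hvP)
    have hcN : s * v * s⁻¹ * v⁻¹ ∈ Nq := by
      rw [← QuotientGroup.eq_one_iff]
      have : (QuotientGroup.mk' Nq) (s * v * s⁻¹ * v⁻¹) =
          (QuotientGroup.mk' Nq s) * (QuotientGroup.mk' Nq v) * (QuotientGroup.mk' Nq s)⁻¹ *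
            (QuotientGroup.mk' Nq v)⁻¹ := by
        simp only [map_mul, map_inv]
      show (QuotientGroup.mk' Nq) (s * v * s⁻¹ * v⁻¹) = 1
      rw [this, hax]; group
    have hc1 := hdisj _ hcP hcN
    have hcomm : Commute s v := by
      show s * v = v * s
      calc s * v = (s * v * s⁻¹ * v⁻¹) * (v * s) := by group
        _ = v * s := by rw [hc1, one_mul]
    obtain ⟨k, hk⟩ := orderOf_dvd_pow_of_isPGroup hQq hsQ
    obtain ⟨l, hl⟩ := orderOf_dvd_pow_of_isPGroup hPp hvP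
    have hcop : (orderOf s).Coprime (orderOf v) :=
      Nat.Coprime.coprime_dvd_left hk (Nat.Coprime.coprime_dvd_right hl
        (Nat.Coprime.pow k l ((Nat.coprime_primes hq.out hp).mpr hpq.symm)))
    have hv1 := key N heq s hsN v (hPN hvP) hcomm hcop (orderOf_pos s).ne'
    rw [hv1, map_one]
  have hEres := cyclic_or_quat_of_fpf q K E hK1 hEq hfpf
  -- E ≃* Qb
  obtain ⟨θ, hθd⟩ : ∃ θ : G ⧸ Nq →* G ⧸ N, θ = QuotientGroup.map Nq N (MonoidHom.id G) hNqN :=
    ⟨_, rfl⟩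
  have hθmk : ∀ g : G, θ (QuotientGroup.mk' Nq g) = QuotientGroup.mk' N g := by
    intro g; rw [hθd]; rfl
  have hθE : ∀ e : ↥E, θ (e : G ⧸ Nq) ∈ (Qb : Subgroup (G ⧸ N)) := by
    rintro ⟨e, he⟩
    rw [hEd] at he
    obtain ⟨s, hsQ, rfl⟩ := he
    show θ (QuotientGroup.mk' Nq s) ∈ _
    rw [hθmk, ← hQmap]
    exact Subgroup.mem_map_of_mem _ hsQ
  obtain ⟨f, hfd⟩ : ∃ f : ↥E →* ↥(Qb : Subgroup (G ⧸ N)),
      ∀ e : ↥E, ((f e : ↥(Qb : Subgroup (G ⧸ N))) : G ⧸ N) = θ (e : G ⧸ Nq) :=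
    ⟨(θ.comp E.subtype).codRestrict _ hθE, fun e => rfl⟩
  have hfinj : Function.Injective f := by
    rw [injective_iff_map_eq_one]
    rintro ⟨e, he⟩ hfe
    have h1 : θ e = 1 := by
      have := congrArg Subtype.val hfe
      rw [hfd] at this
      exact this
    rw [hEd] at he
    obtain ⟨s, hsQ, rfl⟩ := he
    rw [hθmk] at h1
    have hsN : s ∈ N := (QuotientGroup.eq_one_iff s).mp h1
    apply Subtype.ext
    exact (QuotientGroup.eq_one_iff s).mpr (hNQ _ hQq ⟨hsN, hsQ⟩)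
  have hfsurj : Function.Surjective f := by
    rintro ⟨y, hy⟩
    rw [← hQmap] at hy
    obtain ⟨s, hsQ, rfl⟩ := hy
    refine ⟨⟨QuotientGroup.mk' Nq s, by rw [hEd]; exact Subgroup.mem_map_of_mem _ hsQ⟩, ?_⟩
    apply Subtype.ext
    rw [hfd]
    exact hθmk s
  obtain ⟨e⟩ : Nonempty (↥E ≃* ↥(Qb : Subgroup (G ⧸ N))) :=
    ⟨MulEquiv.ofBijective f ⟨hfinj, hfsurj⟩⟩
  rcases hEres with h | ⟨n, ⟨e'⟩⟩
  · left
    haveI := h
    exact isCyclic_of_surjective e e.surjective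
  · right
    exact ⟨n, ⟨e.symm.trans e'⟩⟩

end Cfsg.Agent.S4155

namespace Cfsg.Agent.S4155

/-- Let G be a finite group and N a proper non-trivial normal nilpotent subgroup whose order is not a prime power, such that for every x outside N all elements of the coset xN have the same order as x. Then N is the Fitting subgroup of G, and for every prime q every Sylow q-subgroup of G/N is cyclic or generalized quaternion. -/
theorem result {G : Type*} [Group G] [Finite G] (N : Subgroup G) [N.Normal] (hN1 : N ≠ ⊥) (hN2 : N ≠ ⊤)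
    (heq : ∀ x : G, x ∉ N → ∀ n ∈ N, orderOf (x * n) = orderOf x)
    (hnil : Group.IsNilpotent N) (hnpp : ¬ IsPrimePow (Nat.card N)) :
    N = Cfsg.fittingSubgroup G ∧
    ∀ (q : ℕ) [Fact q.Prime] (Q : Sylow q (G ⧸ N)), IsCyclic (Q : Subgroup (G ⧸ N)) ∨ ∃ n : ℕ, Nonempty ((Q : Subgroup (G ⧸ N)) ≃* QuaternionGroup (2 ^ n)) := by
  refine ⟨part1 N hN1 heq hnil hnpp, ?_⟩
  intro q _ Q
  exact part2 N hN1 heq hnil hnpp q Q

end Cfsg.Agent.S4155
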