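import Mathlib
import Cfsg.Statements.S4156

set_option autoImplicit false
open Cfsg

namespace Cfsg.Agent.S4156

open Equiv

set_option linter.unusedVariables false
set_option linter.unusedSectionVars false

section

variable {n : ℕ} {F : Type*} [Field F]

/-- Kronecker delta. -/
def dl (a b : Fin (n + 1)) : F := if a = b then 1 else 0

/-- deleted permutation matrices. -/
def Mm (σ : Perm (Fin (n + 1))) : Matrix (Fin n) (Fin n) F :=
  Matrix.of fun j i => dl (F := F) j.castSucc (σ i.castSucc) - dl j.castSucc (σ (Fin.last n))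

theorem sum_castSucc_ite (p : Fin (n + 1)) (g : Fin (n + 1) → F) :
    ∑ k : Fin n, (if k.castSucc = p then g k.castSucc else 0)
      = if p = Fin.last n then 0 else g p := by
  induction p using Fin.lastCases with
  | last =>
    rw [if_pos rfl]
    apply Finset.sum_eq_zero
    intro k _
    rw [if_neg (Fin.castSucc_ne_last k)]
  | cast p₀ =>
    rw [if_neg (Fin.castSucc_ne_last p₀)]
    have : ∀ k : Fin n, (if k.castSucc = p₀.castSucc then g k.castSucc else 0)
        = if k = p₀ then g k.castSucc else 0 := by
      intro k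
      by_cases h : k = p₀
      · rw [if_pos h, if_pos (by rw [h])]
      · rw [if_neg h, if_neg (fun h' => h (Fin.castSucc_injective n h'))]
    simp only [this]
    rw [Finset.sum_ite_eq' Finset.univ p₀ (fun k => g k.castSucc), if_pos (Finset.mem_univ _)]

theorem Mm_mul (σ τ : Perm (Fin (n + 1))) : Mm (F := F) (σ * τ) = Mm σ * Mm τ := by
  ext j i
  rw [Matrix.mul_apply]
  simp only [Mm, Matrix.of_apply, Perm.mul_apply]
  have hterm : ∀ k : Fin n,
      (dl (F := F) j.castSucc (σ k.castSucc) - dl j.castSucc (σ (Fin.last n)))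
        * (dl k.castSucc (τ i.castSucc) - dl k.castSucc (τ (Fin.last n)))
      = (if k.castSucc = τ i.castSucc then dl (F := F) j.castSucc (σ k.castSucc) else 0)
        - (if k.castSucc = τ (Fin.last n) then dl (F := F) j.castSucc (σ k.castSucc) else 0)
        - (if k.castSucc = τ i.castSucc then dl (F := F) j.castSucc (σ (Fin.last n)) else 0)
        + (if k.castSucc = τ (Fin.last n) then dl (F := F) j.castSucc (σ (Fin.last n)) else 0) := by
    intro k
    simp only [dl]
    split_ifs <;> ring
  simp only [hterm]
  rw [Finset.sum_add_distrib, Finset.sum_sub_distrib, Finset.sum_sub_distrib,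
    sum_castSucc_ite (τ i.castSucc) (fun q => dl (F := F) j.castSucc (σ q)),
    sum_castSucc_ite (τ (Fin.last n)) (fun q => dl (F := F) j.castSucc (σ q)),
    sum_castSucc_ite (τ i.castSucc) (fun _ => dl (F := F) j.castSucc (σ (Fin.last n))),
    sum_castSucc_ite (τ (Fin.last n)) (fun _ => dl (F := F) j.castSucc (σ (Fin.last n)))]
  by_cases h1 : τ i.castSucc = Fin.last n
  · have h2 : τ (Fin.last n) ≠ Fin.last n := by
      intro h2
      have := τ.injective (h1.trans h2.symm)
      exact Fin.castSucc_ne_last i this
    rw [if_pos h1, if_pos h1, if_neg h2, if_neg h2, h1]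
    ring
  · by_cases h2 : τ (Fin.last n) = Fin.last n
    · rw [if_neg h1, if_neg h1, if_pos h2, if_pos h2, h2]
      ring
    · rw [if_neg h1, if_neg h1, if_neg h2, if_neg h2]
      ring

theorem Mm_one : Mm (F := F) (1 : Perm (Fin (n + 1))) = 1 := by
  ext j i
  simp only [Mm, Matrix.of_apply, Perm.one_apply]
  simp only [dl]
  rw [if_neg (Fin.castSucc_ne_last j), sub_zero, Matrix.one_apply]
  by_cases h : j = i
  · rw [if_pos h, if_pos (by rw [h])]
  · rw [if_neg h, if_neg (fun h' => h (Fin.castSucc_injective n h'))]

/-- the deleted permutation representation as a monoid hom. -/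
def MmHom (n : ℕ) (F : Type*) [Field F] : Perm (Fin (n + 1)) →* Matrix (Fin n) (Fin n) F where
  toFun := Mm
  map_one' := Mm_one
  map_mul' := Mm_mul

theorem det_Mm_eq_one (hn : 5 ≤ n) (σ : alternatingGroup (Fin (n + 1))) :
    (Mm (F := F) (σ : Perm (Fin (n + 1)))).det = 1 := by
  let d : alternatingGroup (Fin (n + 1)) →* Fˣ :=
    ((Matrix.detMonoidHom.comp (MmHom n F)).toHomUnits).comp (alternatingGroup (Fin (n + 1))).subtype
  have hk : commutator (alternatingGroup (Fin (n + 1))) ≤ d.ker :=
    Abelianization.commutator_subset_ker d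
  rw [commutator_alternatingGroup_eq_top (by rw [Nat.card_fin]; omega)] at hk
  have : d σ = 1 := MonoidHom.mem_ker.1 (hk (Subgroup.mem_top σ))
  have h2 := congrArg Units.val this
  exact h2

/-- the hom to `SL`. -/
def toSL (hn : 5 ≤ n) : alternatingGroup (Fin (n + 1)) →* Matrix.SpecialLinearGroup (Fin n) F where
  toFun σ := ⟨Mm (σ : Perm (Fin (n + 1))), det_Mm_eq_one hn σ⟩
  map_one' := Subtype.ext Mm_one
  map_mul' σ τ := Subtype.ext (Mm_mul _ _)

theorem main (hn : 5 ≤ n) :
    ∃ f : alternatingGroup (Fin (n + 1)) →* Matrix.ProjectiveSpecialLinearGroup (Fin n) F,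
      Function.Injective f := by
  refine ⟨(QuotientGroup.mk' (Subgroup.center (Matrix.SpecialLinearGroup (Fin n) F))).comp (toSL (F := F) hn), ?_⟩
  rw [← MonoidHom.ker_eq_bot_iff]
  haveI : IsSimpleGroup (alternatingGroup (Fin (n + 1))) :=
    alternatingGroup.isSimpleGroup (by rw [Nat.card_fin]; omega)
  rcases (MonoidHom.normal_ker ((QuotientGroup.mk' (Subgroup.center (Matrix.SpecialLinearGroup (Fin n) F))).comp (toSL (F := F) hn))).eq_bot_or_eq_top
    with h | h
  · exact h
  · exfalso
    -- a 3-cycle
    let a : Fin n := ⟨0, by omega⟩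
    let b : Fin n := ⟨1, by omega⟩
    let c : Fin n := ⟨2, by omega⟩
    have hab : a.castSucc ≠ b.castSucc := by
      intro e; have := congrArg Fin.val e; simp [a, b] at this
    have hac : a.castSucc ≠ c.castSucc := by
      intro e; have := congrArg Fin.val e; simp [a, c] at this
    have hbc : b.castSucc ≠ c.castSucc := by
      intro e; have := congrArg Fin.val e; simp [b, c] at this
    have hca : c ≠ a := by
      intro e; have := congrArg Fin.val e; simp [a, c] at this
    have h3 : (swap a.castSucc b.castSucc * swap a.castSucc c.castSucc).IsThreeCycle :=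
      Perm.isThreeCycle_swap_mul_swap_same hab hac hbc
    have hmem := h3.mem_alternatingGroup
    have hker : (⟨_, hmem⟩ : alternatingGroup (Fin (n + 1))) ∈
        ((QuotientGroup.mk' (Subgroup.center (Matrix.SpecialLinearGroup (Fin n) F))).comp (toSL (F := F) hn)).ker := by
      rw [h]; exact Subgroup.mem_top _
    rw [MonoidHom.mem_ker, MonoidHom.comp_apply, QuotientGroup.mk'_apply,
      QuotientGroup.eq_one_iff, Matrix.SpecialLinearGroup.mem_center_iff] at hker
    obtain ⟨r, -, hr⟩ := hker
    have hentry := congrFun (congrFun hr c) a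
    rw [Matrix.scalar_apply, Matrix.diagonal_apply_ne _ hca] at hentry
    have hval : (toSL (F := F) hn ⟨_, hmem⟩ : Matrix (Fin n) (Fin n) F) c a = 1 := by
      change Mm (F := F) (swap a.castSucc b.castSucc * swap a.castSucc c.castSucc) c a = 1
      simp only [Mm, Matrix.of_apply, Perm.mul_apply]
      rw [swap_apply_left, swap_apply_of_ne_of_ne hac.symm hbc.symm,
        swap_apply_of_ne_of_ne (Fin.castSucc_ne_last a).symm (Fin.castSucc_ne_last c).symm,
        swap_apply_of_ne_of_ne (Fin.castSucc_ne_last a).symm (Fin.castSucc_ne_last b).symm]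
      simp only [dl]
      rw [if_pos trivial, if_neg (Fin.castSucc_ne_last c), sub_zero]
    rw [hval] at hentry
    exact zero_ne_one hentry

end

/-- Let n ≥ 5 and F a finite field. Then the projective special linear group PSL_n(F) contains a subgroup isomorphic to the alternating group of degree n + 1. -/
theorem result (n : ℕ) (hn : 5 ≤ n) (F : Type*) [Field F] [Finite F] :
    ∃ f : alternatingGroup (Fin (n + 1)) →* Matrix.ProjectiveSpecialLinearGroup (Fin n) F, Function.Injective f := by
  exact main hn

end Cfsg.Agent.S4156
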