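import Cfsg.Statements.S4160
import Mathlib
import Cfsg.Agent.S0598
import Cfsg.Agent.Lib.Helper14.ClassSize1

set_option autoImplicit false
open Cfsg

namespace Cfsg.Agent.S4160

open Subgroup Cfsg.Agent.Lib.Helper14.ClassSize

theorem normalizer_le_normalizer_centralizer {G : Type*} [Group G] (P : Subgroup G) :
    normalizer (P : Set G) ≤ normalizer ((centralizer (P : Set G) : Subgroup G) : Set G) := by
  have key : ∀ n ∈ normalizer (P : Set G), ∀ c ∈ centralizer (P : Set G),
      n * c * n⁻¹ ∈ centralizer (P : Set G) := by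
    intro n hn c hc
    rw [Subgroup.mem_centralizer_iff]
    intro u hu
    have hu' : n⁻¹ * u * n ∈ P := by
      have := (Subgroup.mem_normalizer_iff.mp (inv_mem hn) u).mp hu
      rwa [inv_inv] at this
    have h1 := Subgroup.mem_centralizer_iff.mp hc _ hu'
    calc u * (n * c * n⁻¹) = n * (n⁻¹ * u * n * c) * n⁻¹ := by group
      _ = n * (c * (n⁻¹ * u * n)) * n⁻¹ := by rw [h1]
      _ = n * c * n⁻¹ * u := by group
  intro n hn
  rw [Subgroup.mem_normalizer_iff]
  intro c
  constructor
  · exact key n hn c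
  · intro h
    have := key n⁻¹ (inv_mem hn) _ h
    have e : n⁻¹ * (n * c * n⁻¹) * n⁻¹⁻¹ = c := by group
    rwa [e] at this

/-- the counting bound for one prime -/
theorem bound {G : Type*} [Group G] [Finite G] {p : ℕ} [Fact p.Prime] (P : Sylow p G)
    (hP : ¬ normalizer ((P : Subgroup G) : Set G) ≤ centralizer ((P : Subgroup G) : Set G)) :
    2 * ({x : G | ¬ p ∣ (centralizer ({x} : Set G)).index} \ {1}).ncard + 2 ≤ Nat.card G := by
  set NP := normalizer ((P : Subgroup G) : Set G) with hNP
  set CP := centralizer ((P : Subgroup G) : Set G) with hCP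
  have hle : CP ≤ NP := Subgroup.centralizer_le_normalizer _
  have h1 := ncard_cover_le NP CP (normalizer_le_normalizer_centralizer (P : Subgroup G))
    {x : G | ¬ p ∣ (centralizer ({x} : Set G)).index}
    (fun x hx => exists_conj_mem_centralizer P x hx)
  have h2 := Cfsg.Agent.S0598.card_mul_relIndex hle
  have h3 : 2 ≤ CP.relIndex NP := by
    have h0 : CP.relIndex NP ≠ 0 := by
      intro h0
      rw [h0, mul_zero] at h2
      exact (Nat.card_pos (α := NP)).ne' h2.symm
    have h1' : CP.relIndex NP ≠ 1 := fun h => hP (Subgroup.relIndex_eq_one.mp h)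
    omega
  have h4 : NP.index * Nat.card NP = Nat.card G := Subgroup.index_mul_card NP
  have hi : 1 ≤ NP.index := Nat.pos_of_ne_zero (Subgroup.index_ne_zero_of_finite)
  have hc : 1 ≤ Nat.card CP := Nat.card_pos
  have h5 : 2 * Nat.card CP ≤ Nat.card NP := by
    rw [← h2, mul_comm]; exact Nat.mul_le_mul_left _ h3
  obtain ⟨c', hc'⟩ : ∃ c', Nat.card CP = c' + 1 := ⟨Nat.card CP - 1, by omega⟩
  rw [hc'] at h1 h5
  simp only [Nat.add_sub_cancel] at h1
  have h6 : 2 * (NP.index * c') + 2 * NP.index ≤ Nat.card G := by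
    rw [← h4]
    calc 2 * (NP.index * c') + 2 * NP.index = NP.index * (2 * (c' + 1)) := by ring
      _ ≤ NP.index * Nat.card NP := Nat.mul_le_mul_left _ h5
  omega

/-- Let G be a finite group and p ≠ q primes each dividing the size of some conjugacy class of G, such that no conjugacy class size is divisible by pq. Then G has a normal p-complement or a normal q-complement. -/
theorem result {G : Type*} [Group G] [Finite G] (p q : ℕ) (hp : p.Prime) (hq : q.Prime) (hpq : p ≠ q)
    (hp' : ∃ x : G, p ∣ (Subgroup.centralizer ({x} : Set G)).index) (hq' : ∃ x : G, q ∣ (Subgroup.centralizer ({x} : Set G)).index) (h : ∀ x : G, ¬ p * q ∣ (Subgroup.centralizer ({x} : Set G)).index) :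
    Cfsg.HasNormalPComplement p G ∨ Cfsg.HasNormalPComplement q G := by
  haveI : Fact p.Prime := ⟨hp⟩
  haveI : Fact q.Prime := ⟨hq⟩
  obtain ⟨P⟩ : Nonempty (Sylow p G) := inferInstance
  obtain ⟨Q⟩ : Nonempty (Sylow q G) := inferInstance
  by_cases hP : normalizer ((P : Subgroup G) : Set G) ≤ centralizer ((P : Subgroup G) : Set G)
  · left
    exact ⟨P, (MonoidHom.transferSylow P hP).ker, inferInstance,
      MonoidHom.ker_transferSylow_isComplement' P hP⟩
  by_cases hQ : normalizer ((Q : Subgroup G) : Set G) ≤ centralizer ((Q : Subgroup G) : Set G)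
  · right
    exact ⟨Q, (MonoidHom.transferSylow Q hQ).ker, inferInstance,
      MonoidHom.ker_transferSylow_isComplement' Q hQ⟩
  exfalso
  have b1 := bound P hP
  have b2 := bound Q hQ
  set Xp := {x : G | ¬ p ∣ (centralizer ({x} : Set G)).index} with hXp
  set Xq := {x : G | ¬ q ∣ (centralizer ({x} : Set G)).index} with hXq
  have hcov : (Set.univ : Set G) \ {1} ⊆ (Xp \ {1}) ∪ (Xq \ {1}) := by
    rintro x ⟨-, hx1⟩
    by_cases hxp : p ∣ (centralizer ({x} : Set G)).index
    · right
      refine ⟨?_, hx1⟩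
      intro hxq
      exact h x ((Nat.coprime_primes hp hq).mpr hpq |>.mul_dvd_of_dvd_of_dvd hxp hxq)
    · left
      exact ⟨hxp, hx1⟩
  have h1 : ((Set.univ : Set G) \ {1}).ncard ≤ (Xp \ {1}).ncard + (Xq \ {1}).ncard :=
    (Set.ncard_le_ncard hcov (Set.toFinite _)).trans (Set.ncard_union_le _ _)
  have h2 : ((Set.univ : Set G) \ {1}).ncard = Nat.card G - 1 := by
    rw [Set.ncard_diff (by simp), Set.ncard_univ, Set.ncard_singleton]
  have hpos : 1 ≤ Nat.card G := Nat.card_pos
  omega

end Cfsg.Agent.S4160
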