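import Cfsg.Statements.S4163
import Mathlib
import Cfsg.Agent.Lib.Helper22.SmallClasses

set_option autoImplicit false
open Cfsg

namespace Cfsg.Agent.S4163

/-- Let G be a finite group with a normal abelian subgroup A satisfying C_G(A) = A. Suppose some conjugacy class of G has size greater than 1, let m be the smallest such size, and let M be the subgroup generated by the elements whose class has size 1 or m. Then M is nilpotent of class at most 3. -/
theorem result {G : Type*} [Group G] [Finite G]
    (A : Subgroup G) [A.Normal] (hA : IsMulCommutative A) (hCA : Subgroup.centralizer (A : Set G) = A)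
    (m : ℕ) (hm1 : 1 < m) (hm : ∃ x : G, (Subgroup.centralizer ({x} : Set G)).index = m) (hmin : ∀ x : G, 1 < (Subgroup.centralizer ({x} : Set G)).index → m ≤ (Subgroup.centralizer ({x} : Set G)).index) :
    Subgroup.upperCentralSeries ↥(Subgroup.closure {x : G | (Subgroup.centralizer ({x} : Set G)).index = 1 ∨ (Subgroup.centralizer ({x} : Set G)).index = m}) 3 = ⊤ := by
  classical
  have hAab : ∀ a ∈ A, ∀ b ∈ A, a * b = b * a := by
    intro a ha b hb
    have := hA.is_comm.comm (⟨a, ha⟩ : ↥A) ⟨b, hb⟩
    exact congrArg Subtype.val this
  have hX : ∀ x ∈ {x : G | (Subgroup.centralizer ({x} : Set G)).index = 1 ∨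
      (Subgroup.centralizer ({x} : Set G)).index = m},
      x ∈ Lib.Helper22.Breadth.twoStep A (Subgroup.center G) := by
    intro x hx
    apply Lib.Helper22.SmallClasses.mem_twoStep_of_min A hAab x
    intro y hy
    rcases hx with hx | hx
    · rw [hx]; omega
    · rw [hx]; exact hmin y hy
  have hM : Subgroup.closure {x : G | (Subgroup.centralizer ({x} : Set G)).index = 1 ∨
      (Subgroup.centralizer ({x} : Set G)).index = m} ≤
      Lib.Helper22.Breadth.twoStep A (Subgroup.center G) :=
    (Subgroup.closure_le _).mpr hX
  rw [eq_top_iff]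
  intro u _
  rw [Subgroup.mem_upperCentralSeries_succ_iff]
  intro v
  rw [Subgroup.mem_upperCentralSeries_succ_iff]
  intro w
  rw [Subgroup.mem_upperCentralSeries_succ_iff]
  intro t
  rw [Subgroup.upperCentralSeries_zero, Subgroup.mem_bot]
  have h := Lib.Helper22.SmallClasses.four_comm A hCA (hM u.2) (hM v.2) (hM w.2) (t : G)
  apply Subtype.ext
  simpa [commutatorElement_def] using h

end Cfsg.Agent.S4163
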