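import Cfsg.Statements.S4168
-- import your own Cfsg.Agent.* helpers here

set_option autoImplicit false
open Cfsg

namespace Cfsg.Agent.S4168

/-- Let L be a finite quasisimple group (perfect with L/Z(L) simple). Then every prime dividing the order of the centre Z(L) also divides the order of L/Z(L). -/
theorem result {L : Type*} [Group L] [Finite L] (hL : Cfsg.IsQuasisimple L)
    (p : ℕ) (hp : p.Prime) (hdiv : p ∣ Nat.card (Subgroup.center L)) : p ∣ (Subgroup.center L).index := by
  classical
  by_contra hnd
  have : Fact p.Prime := ⟨hp⟩
  obtain ⟨hperf, -⟩ := hL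
  let P : Sylow p L := default
  -- P is central
  have hPZ : (P : Subgroup L) ≤ Subgroup.center L := by
    let π := QuotientGroup.mk' (Subgroup.center L)
    have hpg : IsPGroup p ((P : Subgroup L).map π) := P.isPGroup'.map π
    obtain ⟨n, hn⟩ := IsPGroup.iff_card.mp hpg
    have hdvd : Nat.card ((P : Subgroup L).map π) ∣ (Subgroup.center L).index :=
      Subgroup.card_subgroup_dvd_card _
    have hn0 : n = 0 := by
      by_contra h
      apply hnd
      refine dvd_trans ?_ hdvd
      rw [hn]
      exact dvd_pow_self p h
    rw [hn0, pow_zero] at hn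
    have hbot : (P : Subgroup L).map π = ⊥ := Subgroup.card_eq_one.mp hn
    rw [Subgroup.map_eq_bot_iff, QuotientGroup.ker_mk'] at hbot
    exact hbot
  have hcent : Subgroup.centralizer ((P : Subgroup L) : Set L) = ⊤ :=
    Subgroup.centralizer_eq_top_iff_subset.mpr hPZ
  have hP : Subgroup.normalizer ((P : Subgroup L) : Set L) ≤ Subgroup.centralizer ((P : Subgroup L) : Set L) := by
    rw [hcent]; exact le_top
  have hcomp := MonoidHom.ker_transferSylow_isComplement' P hP
  -- the transfer into the abelian group P kills the perfect group L
  have hker : (MonoidHom.transferSylow P hP).ker = ⊤ := by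
    rw [eq_top_iff, ← hperf.commutator_eq_top, _root_.commutator_def, Subgroup.commutator_le]
    intro a _ b _
    rw [MonoidHom.mem_ker, map_commutatorElement, commutatorElement_eq_one_iff_commute]
    have hab : ∀ x y : (P : Subgroup L), x * y = y * x := by
      intro x y
      apply Subtype.ext
      have := Subgroup.mem_center_iff.mp (hPZ y.2) x
      simpa using this
    exact hab _ _
  rw [hker, Subgroup.isComplement'_top_left] at hcomp
  have hpL : p ∣ Nat.card L := dvd_trans hdiv (Subgroup.card_subgroup_dvd_card _)
  exact P.ne_bot_of_dvd_card hpL hcomp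

end Cfsg.Agent.S4168
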