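import Cfsg.Statements.S4169
import Mathlib
import Cfsg.Agent.Lib.Helper22.SmallClasses
import Cfsg.Agent.Lib.Helper10.PGroupCentral

set_option autoImplicit false
open Cfsg

namespace Cfsg.Agent.S4169

/-- Let P be a finite p-group whose conjugacy classes have exactly two sizes (1 and one other value). Then P has nilpotency class at most 3. -/
theorem result {P : Type*} [Group P] [Finite P] {p : ℕ} [Fact p.Prime] (hP : IsPGroup p P)
    (m : ℕ) (hm : 1 < m) (h : ∀ x : P, (Subgroup.centralizer ({x} : Set P)).index = 1 ∨ (Subgroup.centralizer ({x} : Set P)).index = m) :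
    upperCentralSeries P 3 = ⊤ := by
  classical
  obtain ⟨A, -, hAn, hAab, hCA⟩ :=
    Cfsg.Agent.Lib.Helper10.exists_normal_abelian_self_centralizing hP (⊥ : Subgroup P)
      (by
        intro a ha b hb
        rw [Subgroup.mem_bot] at ha hb
        rw [ha, hb])
  haveI := hAn
  have hX : ∀ x : P, x ∈ Lib.Helper22.Breadth.twoStep A (Subgroup.center P) := by
    intro x
    apply Lib.Helper22.SmallClasses.mem_twoStep_of_min A hAab x
    intro y hy
    rcases h x with hx | hx
    · rw [hx]; omega
    · rw [hx]
      rcases h y with hy' | hy'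
      · omega
      · omega
  rw [eq_top_iff]
  intro u _
  show u ∈ Subgroup.upperCentralSeries P 3
  rw [Subgroup.mem_upperCentralSeries_succ_iff]
  intro v
  rw [Subgroup.mem_upperCentralSeries_succ_iff]
  intro w
  rw [Subgroup.mem_upperCentralSeries_succ_iff]
  intro t
  rw [Subgroup.upperCentralSeries_zero, Subgroup.mem_bot]
  exact Lib.Helper22.SmallClasses.four_comm A hCA (hX u) (hX v) (hX w) t

end Cfsg.Agent.S4169
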