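import Mathlib
import Cfsg.Statements.S4177

set_option autoImplicit false
open Cfsg

namespace Cfsg.Agent.S4177

section Avg
variable {k V H : Type*} [Field k] [AddCommGroup V] [Module k V] [Group H] [Fintype H]
  (ρ : Representation k H V)

/-- the sum of the operators of a subgroup -/
noncomputable def subSum (K : Subgroup H) (v : V) : V := by
  classical
  exact ∑ g : K, ρ (g : H) v

theorem subSum_add (K : Subgroup H) (v w : V) : subSum ρ K (v + w) = subSum ρ K v + subSum ρ K w := by
  classical
  unfold subSum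
  simp only [map_add]
  exact Finset.sum_add_distrib

theorem subSum_smul (K : Subgroup H) (c : k) (v : V) : subSum ρ K (c • v) = c • subSum ρ K v := by
  classical
  unfold subSum
  simp only [map_smul]
  exact Finset.smul_sum.symm

theorem subSum_zero (K : Subgroup H) : subSum ρ K (0 : V) = 0 := by
  classical
  unfold subSum
  simp

theorem subSum_apply (K : Subgroup H) (g₀ : H) (hg₀ : g₀ ∈ K) (v : V) :
    subSum ρ K (ρ g₀ v) = subSum ρ K v := by
  classical
  unfold subSum
  have : ∀ g : K, ρ (g : H) (ρ g₀ v) = ρ ((g * ⟨g₀, hg₀⟩ : K) : H) v := by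
    intro g
    rw [Subgroup.coe_mul, map_mul]
    rfl
  simp only [this]
  exact Fintype.sum_equiv (Equiv.mulRight (⟨g₀, hg₀⟩ : K)) _ _ (fun g => rfl)

theorem apply_subSum (K : Subgroup H) (g₀ : H) (hg₀ : g₀ ∈ K) (v : V) :
    ρ g₀ (subSum ρ K v) = subSum ρ K v := by
  classical
  unfold subSum
  rw [map_sum]
  have : ∀ g : K, ρ g₀ (ρ (g : H) v) = ρ ((⟨g₀, hg₀⟩ * g : K) : H) v := by
    intro g
    rw [Subgroup.coe_mul, map_mul]
    rfl
  simp only [this]
  exact Fintype.sum_equiv (Equiv.mulLeft (⟨g₀, hg₀⟩ : K)) _ _ (fun g => rfl)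

theorem subSum_of_fixed (K : Subgroup H) (v : V) (hv : ∀ g ∈ K, ρ g v = v) :
    subSum ρ K v = (Nat.card K : k) • v := by
  classical
  unfold subSum
  have : ∀ g : K, ρ (g : H) v = v := fun g => hv g g.2
  simp only [this]
  rw [Finset.sum_const, Finset.card_univ, Nat.card_eq_fintype_card, Nat.cast_smul_eq_nsmul]

/-- if `K` is transitive on the orbit of `a`, which spans, then `subSum K` has rank at most one. -/
theorem subSum_mem_span (K : Subgroup H) (a : V)
    (htrans : ∀ h : H, ∃ g ∈ K, ρ g a = ρ h a)
    (hspan : Submodule.span k {u : V | ∃ h : H, ρ h a = u} = ⊤) (v : V) :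
    ∃ c : k, subSum ρ K v = c • subSum ρ K a := by
  have hv : v ∈ Submodule.span k {u : V | ∃ h : H, ρ h a = u} := by rw [hspan]; trivial
  induction hv using Submodule.span_induction with
  | mem u hu =>
    obtain ⟨h, rfl⟩ := hu
    obtain ⟨g, hg, hga⟩ := htrans h
    refine ⟨1, ?_⟩
    rw [one_smul, ← hga, subSum_apply ρ K g hg]
  | zero => exact ⟨0, by rw [subSum_zero, zero_smul]⟩
  | add x y _ _ hx hy =>
    obtain ⟨c₁, h₁⟩ := hx
    obtain ⟨c₂, h₂⟩ := hy
    exact ⟨c₁ + c₂, by rw [subSum_add, h₁, h₂, add_smul]⟩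
  | smul r x _ hx =>
    obtain ⟨c, h₁⟩ := hx
    exact ⟨r * c, by rw [subSum_smul, h₁, mul_smul]⟩

end Avg

/-- Let k be a field whose characteristic does not divide the order of the finite group H (for instance a field of characteristic zero), and ρ a k-linear representation of H on V. Let a be a vector whose H-orbit spans V. Then the space of H-fixed vectors has dimension at most 1, and every vector b whose H-orbit has size coprime to the size of the orbit of a is fixed by H. -/
theorem result {k V H : Type*} [Field k] [AddCommGroup V] [Module k V] [Group H] [Finite H]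
    (hchar : ¬ ringChar k ∣ Nat.card H) (ρ : Representation k H V) (a : V)
    (hspan : Submodule.span k {u : V | ∃ h : H, ρ h a = u} = ⊤) :
    Module.finrank k ρ.invariants ≤ 1 ∧
    ∀ b : V, (Nat.card {u : V | ∃ h : H, ρ h a = u}).Coprime (Nat.card {u : V | ∃ h : H, ρ h b = u}) → ∀ h : H, ρ h b = b := by
  classical
  haveI : Fintype H := Fintype.ofFinite H
  have hcardne : ∀ n : ℕ, n ∣ Nat.card H → (n : k) ≠ 0 := by
    intro n hn h0
    apply hchar
    exact ((ringChar.spec k n).mp h0).trans hn
  -- top subgroup: the full average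
  have htop : ∀ h : H, ∃ g ∈ (⊤ : Subgroup H), ρ g a = ρ h a := fun h => ⟨h, Subgroup.mem_top h, rfl⟩
  -- the full sum of the orbit of a is invariant
  have hTinv : ∀ g : H, ρ g (subSum ρ ⊤ a) = subSum ρ ⊤ a := fun g =>
    apply_subSum ρ ⊤ g (Subgroup.mem_top g) a
  have hinv_le : ∀ v : V, (∀ g : H, ρ g v = v) → v ∈ Submodule.span k {subSum ρ ⊤ a} := by
    intro v hv
    obtain ⟨c, hc⟩ := subSum_mem_span ρ ⊤ a htop hspan v
    rw [subSum_of_fixed ρ ⊤ v (fun g _ => hv g)] at hc
    have hne : (Nat.card (⊤ : Subgroup H) : k) ≠ 0 := hcardne _ (Subgroup.card_subgroup_dvd_card _)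
    have : v = ((Nat.card (⊤ : Subgroup H) : k)⁻¹ * c) • subSum ρ ⊤ a := by
      rw [mul_smul, ← hc, smul_smul, inv_mul_cancel₀ hne, one_smul]
    rw [this]
    exact Submodule.smul_mem _ _ (Submodule.mem_span_singleton_self _)
  constructor
  · have hle : ρ.invariants ≤ Submodule.span k {subSum ρ ⊤ a} := by
      intro v hv
      exact hinv_le v (fun g => hv g)
    calc Module.finrank k ρ.invariants ≤ Module.finrank k (Submodule.span k {subSum ρ ⊤ a}) :=
          Submodule.finrank_mono hle
      _ ≤ 1 := by
          have := finrank_span_le_card (R := k) ({subSum ρ ⊤ a} : Set V)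
          simpa using this
  · intro b hcop h
    letI : MulAction H V :=
      { smul := fun h v => ρ h v
        one_smul := fun v => by show ρ 1 v = v; simp
        mul_smul := fun g h v => by show ρ (g * h) v = ρ g (ρ h v); simp }
    have hsm : ∀ (h : H) (v : V), h • v = ρ h v := fun _ _ => rfl
    set K : Subgroup H := MulAction.stabilizer H b with hK
    set Ha : Subgroup H := MulAction.stabilizer H a with hHa
    have hm : Nat.card {u : V | ∃ h : H, ρ h a = u} = Ha.index := by
      rw [hHa, MulAction.index_stabilizer, ← Nat.card_coe_set_eq]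
      rfl
    have hn : Nat.card {u : V | ∃ h : H, ρ h b = u} = K.index := by
      rw [hK, MulAction.index_stabilizer, ← Nat.card_coe_set_eq]
      rfl
    rw [hm, hn] at hcop
    -- K is transitive on the orbit of a
    have hstabK : MulAction.stabilizer K a = Ha.subgroupOf K := by
      ext g
      rw [Subgroup.mem_subgroupOf, MulAction.mem_stabilizer_iff, hHa, MulAction.mem_stabilizer_iff]
      rfl
    have hr : (MulAction.orbit K a).ncard = Ha.relIndex K := by
      rw [← MulAction.index_stabilizer, hstabK]
      rfl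
    have hsub : MulAction.orbit K a ⊆ MulAction.orbit H a := by
      rintro _ ⟨g, rfl⟩
      exact ⟨(g : H), rfl⟩
    have hfin : (MulAction.orbit H a).Finite := Set.finite_range _
    have hmn : (MulAction.orbit H a).ncard = Ha.index := by
      rw [hHa, MulAction.index_stabilizer]
    have hdvd : Ha.index ∣ Ha.relIndex K := by
      have h1 : Ha.relIndex K * K.index = (Ha ⊓ K).index := by
        rw [← Subgroup.inf_relIndex_right, Subgroup.relIndex_mul_index inf_le_right]
      have h2 : Ha.index ∣ (Ha ⊓ K).index := Subgroup.index_dvd_of_le inf_le_left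
      rw [← h1] at h2
      exact hcop.dvd_of_dvd_mul_right h2
    have heq : MulAction.orbit K a = MulAction.orbit H a := by
      apply Set.eq_of_subset_of_ncard_le hsub _ hfin
      rw [hmn, hr]
      apply Nat.le_of_dvd _ hdvd
      rw [← hr]
      exact (Set.ncard_pos (hfin.subset hsub)).mpr ⟨a, MulAction.mem_orbit_self a⟩
    have htrans : ∀ h : H, ∃ g ∈ K, ρ g a = ρ h a := by
      intro h
      have : ρ h a ∈ MulAction.orbit K a := by
        rw [heq]; exact ⟨h, rfl⟩
      obtain ⟨g, hg⟩ := this
      exact ⟨(g : H), g.2, hg⟩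
    -- now average b over K
    obtain ⟨c, hc⟩ := subSum_mem_span ρ K a htrans hspan b
    have hbfix : ∀ g ∈ K, ρ g b = b := fun g hg => hg
    rw [subSum_of_fixed ρ K b hbfix] at hc
    have hne : (Nat.card K : k) ≠ 0 := hcardne _ (Subgroup.card_subgroup_dvd_card _)
    -- subSum K a is a multiple of the H-invariant vector subSum ⊤ a
    have hKa : ∃ d : k, subSum ρ K a = d • subSum ρ ⊤ a := by
      -- sum over the orbit: ∑_{h : H} subSum K (ρ h a) = card H • subSum K a, and equals subSum K (subSum ⊤ a)
      have h1 : ∀ h : H, subSum ρ K (ρ h a) = subSum ρ K a := by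
        intro h
        obtain ⟨g, hg, hga⟩ := htrans h
        rw [← hga, subSum_apply ρ K g hg]
      have h2 : subSum ρ K (subSum ρ ⊤ a) = (Nat.card (⊤ : Subgroup H) : k) • subSum ρ K a := by
        have e1 : subSum ρ ⊤ a = ∑ g : (⊤ : Subgroup H), ρ (g : H) a := by
          unfold subSum; rfl
        have e2 : subSum ρ K (∑ g : (⊤ : Subgroup H), ρ (g : H) a) =
            ∑ g : (⊤ : Subgroup H), subSum ρ K (ρ (g : H) a) := by
          have hadd : ∀ (s : Finset (⊤ : Subgroup H)),
              subSum ρ K (∑ g ∈ s, ρ (g : H) a) = ∑ g ∈ s, subSum ρ K (ρ (g : H) a) := by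
            intro s
            induction s using Finset.induction_on with
            | empty => simp [subSum_zero]
            | insert x s hx ih => rw [Finset.sum_insert hx, Finset.sum_insert hx, subSum_add, ih]
          exact hadd Finset.univ
        rw [e1, e2]
        simp only [h1]
        rw [Finset.sum_const, Finset.card_univ, Nat.card_eq_fintype_card, Nat.cast_smul_eq_nsmul]
      have h3 : subSum ρ K (subSum ρ ⊤ a) = (Nat.card K : k) • subSum ρ ⊤ a :=
        subSum_of_fixed ρ K _ (fun g _ => hTinv g)
      have hneH : (Nat.card (⊤ : Subgroup H) : k) ≠ 0 := hcardne _ (Subgroup.card_subgroup_dvd_card _)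
      refine ⟨(Nat.card (⊤ : Subgroup H) : k)⁻¹ * (Nat.card K : k), ?_⟩
      rw [mul_smul, ← h3, h2, smul_smul, inv_mul_cancel₀ hneH, one_smul]
    obtain ⟨d, hd⟩ := hKa
    have hb : b = ((Nat.card K : k)⁻¹ * (c * d)) • subSum ρ ⊤ a := by
      rw [mul_smul, mul_smul, ← hd, ← hc, smul_smul, inv_mul_cancel₀ hne, one_smul]
    rw [hb, map_smul, hTinv]

end Cfsg.Agent.S4177
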