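import Cfsg.Statements.S4178
import Mathlib

set_option autoImplicit false
open Cfsg

namespace Cfsg.Agent.S4178

lemma index_succ_le {K X : Type*} [Group K] [Finite X] (R : Subgroup K) (f : K → X) (z : X)
    (hf : ∀ a b, f a = f b → a⁻¹ * b ∈ R) (hz : ∀ a, f a ≠ z) : R.index + 1 ≤ Nat.card X := by
  classical
  let g : Option (K ⧸ R) → X := fun o => match o with
    | none => z
    | some c => f (Quotient.out c)
  have hg : Function.Injective g := by
    intro o o' h
    cases o with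
    | none =>
      cases o' with
      | none => rfl
      | some c' => exact absurd h.symm (hz _)
    | some c =>
      cases o' with
      | none => exact absurd h (hz _)
      | some c' =>
        have h1 : (Quotient.out c)⁻¹ * (Quotient.out c') ∈ R := hf _ _ h
        have h2 : (QuotientGroup.mk (Quotient.out c) : K ⧸ R) = QuotientGroup.mk (Quotient.out c') :=
          QuotientGroup.eq.mpr h1
        rw [QuotientGroup.out_eq', QuotientGroup.out_eq'] at h2
        rw [h2]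
  haveI : Finite (Option (K ⧸ R)) := Finite.of_injective g hg
  haveI : Finite (K ⧸ R) :=
    Finite.of_injective (some : K ⧸ R → Option (K ⧸ R)) (Option.some_injective _)
  have h1 : Nat.card (Option (K ⧸ R)) ≤ Nat.card X := Nat.card_le_card_of_injective g hg
  rw [Finite.card_option] at h1
  rw [Subgroup.index_eq_card]
  exact h1

lemma fixes_of_sub_mem {F V : Type*} [Field F] [AddCommGroup V] [Module F V]
    [FiniteDimensional F V]
    (W : Submodule F V) (h : V ≃ₗ[F] V) (hW : ∀ w ∈ W, h w ∈ W) (v : V) (hv : v ∉ W)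
    (hvW : h v - v ∈ W) : ∃ u : V, u ≠ 0 ∧ h u = u := by
  by_cases hk : ∃ w : W, w ≠ 0 ∧ h (w : V) = w
  · obtain ⟨w, hw0, hw⟩ := hk
    exact ⟨w, fun h0 => hw0 (Subtype.ext h0), hw⟩
  · push_neg at hk
    let φ : W →ₗ[F] W := (h : V →ₗ[F] V).restrict hW - LinearMap.id
    have hφ : ∀ w : W, ((φ w : W) : V) = h (w : V) - w := fun w => rfl
    have hinj : Function.Injective φ := by
      rw [injective_iff_map_eq_zero]
      intro w hw
      by_contra hw0
      apply hk w hw0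
      have := congrArg (Subtype.val) hw
      rw [hφ] at this
      exact sub_eq_zero.mp this
    have hsurj : Function.Surjective φ := LinearMap.surjective_of_injective hinj
    obtain ⟨w, hw⟩ := hsurj (-⟨h v - v, hvW⟩)
    have hw' : h (w : V) - w = -(h v - v) := by
      have := congrArg Subtype.val hw
      rw [hφ] at this
      exact this
    refine ⟨v + w, ?_, ?_⟩
    · intro h0
      apply hv
      have : v = -(w : V) := eq_neg_of_add_eq_zero_left h0
      rw [this]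
      exact W.neg_mem w.2
    · rw [map_add]
      have h3 : h v + h (w:V) - (v + w) = 0 := by
        have : h v + h (w:V) - (v + w) = (h v - v) + (h (w:V) - w) := by abel
        rw [this, hw']; abel
      exact sub_eq_zero.mp h3

lemma real_bound (q d m idx : ℕ) (hq : 1 ≤ q) (hm : 2 * m ≤ d) (h : idx + 1 ≤ q ^ m) :
    (idx : ℝ) ≤ Real.sqrt ((q : ℝ) ^ d) - 1 := by
  have h1 : ((q ^ m : ℕ) : ℝ) ≤ Real.sqrt ((q : ℝ) ^ d) := by
    apply Real.le_sqrt_of_sq_le
    push_cast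
    rw [← pow_mul]
    apply pow_le_pow_right₀
    · exact_mod_cast hq
    · omega
  have h2 : ((idx + 1 : ℕ) : ℝ) ≤ ((q ^ m : ℕ) : ℝ) := by exact_mod_cast h
  push_cast at h2 h1 ⊢
  linarith

/-- Let F be a finite field with q elements, V a non-zero finite-dimensional F-space of dimension d, H a group of invertible linear maps of V, and R the subgroup of H generated by the elements of H that fix some non-zero vector (have eigenvalue 1). Then the index of R in H is at most q^d − 1; and if H leaves invariant some proper non-zero subspace, the index is at most q^(d/2) − 1. -/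
theorem result {F V : Type*} [Field F] [Fintype F] [AddCommGroup V] [Module F V] [FiniteDimensional F V] [Nontrivial V]
    (H : Subgroup (V ≃ₗ[F] V)) :
    (Subgroup.closure {h : ↥H | ∃ v : V, v ≠ 0 ∧ (h : V ≃ₗ[F] V) v = v}).index ≤ Fintype.card F ^ Module.finrank F V - 1 ∧
    ((∃ W : Submodule F V, W ≠ ⊥ ∧ W ≠ ⊤ ∧ ∀ h ∈ H, ∀ w ∈ W, h w ∈ W) →
      ((Subgroup.closure {h : ↥H | ∃ v : V, v ≠ 0 ∧ (h : V ≃ₗ[F] V) v = v}).index : ℝ) ≤ Real.sqrt ((Fintype.card F : ℝ) ^ Module.finrank F V) - 1) := by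
  classical
  haveI : Finite V := Module.finite_of_finite F
  have hgen : ∀ h : ↥H, (∃ v : V, v ≠ 0 ∧ (h : V ≃ₗ[F] V) v = v) →
      h ∈ Subgroup.closure {h : ↥H | ∃ v : V, v ≠ 0 ∧ (h : V ≃ₗ[F] V) v = v} :=
    fun h hh => Subgroup.subset_closure hh
  have hq : 1 ≤ Fintype.card F := Fintype.card_pos
  have hcard : ∀ (M : Type _) [AddCommGroup M] [Module F M] [Module.Finite F M],
      Nat.card M = Fintype.card F ^ Module.finrank F M := by
    intro M _ _ _
    rw [Module.natCard_eq_pow_finrank (K := F), Nat.card_eq_fintype_card]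
  constructor
  · obtain ⟨v₀, hv₀⟩ := exists_ne (0 : V)
    have hf : ∀ a b : ↥H, (a : V ≃ₗ[F] V) v₀ = (b : V ≃ₗ[F] V) v₀ →
        a⁻¹ * b ∈ Subgroup.closure {h : ↥H | ∃ v : V, v ≠ 0 ∧ (h : V ≃ₗ[F] V) v = v} := by
      intro a b hab
      apply hgen
      refine ⟨v₀, hv₀, ?_⟩
      show (a : V ≃ₗ[F] V).symm ((b : V ≃ₗ[F] V) v₀) = v₀
      rw [← hab]; exact (a : V ≃ₗ[F] V).symm_apply_apply v₀
    have hz : ∀ a : ↥H, (a : V ≃ₗ[F] V) v₀ ≠ 0 := by
      intro a h0
      exact hv₀ ((a : V ≃ₗ[F] V).map_eq_zero_iff.mp h0)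
    have := index_succ_le _ (fun h : ↥H => (h : V ≃ₗ[F] V) v₀) 0 hf hz
    rw [hcard V] at this
    omega
  · rintro ⟨W, hWbot, hWtop, hWinv⟩
    have hlt : Module.finrank F W < Module.finrank F V := Submodule.finrank_lt hWtop
    by_cases hcase : 2 * Module.finrank F W ≤ Module.finrank F V
    · -- orbit of a nonzero vector of W
      obtain ⟨w₀, hw₀W, hw₀⟩ := Submodule.exists_mem_ne_zero_of_ne_bot hWbot
      have hf : ∀ a b : ↥H, (⟨(a : V ≃ₗ[F] V) w₀, hWinv a a.2 w₀ hw₀W⟩ : W) =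
          ⟨(b : V ≃ₗ[F] V) w₀, hWinv b b.2 w₀ hw₀W⟩ →
          a⁻¹ * b ∈ Subgroup.closure {h : ↥H | ∃ v : V, v ≠ 0 ∧ (h : V ≃ₗ[F] V) v = v} := by
        intro a b hab
        have hab' : (a : V ≃ₗ[F] V) w₀ = (b : V ≃ₗ[F] V) w₀ := congrArg Subtype.val hab
        apply hgen
        refine ⟨w₀, hw₀, ?_⟩
        show (a : V ≃ₗ[F] V).symm ((b : V ≃ₗ[F] V) w₀) = w₀
        rw [← hab']; exact (a : V ≃ₗ[F] V).symm_apply_apply w₀
      have hz : ∀ a : ↥H, (⟨(a : V ≃ₗ[F] V) w₀, hWinv a a.2 w₀ hw₀W⟩ : W) ≠ 0 := by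
        intro a h0
        have h0' : (a : V ≃ₗ[F] V) w₀ = 0 := congrArg Subtype.val h0
        exact hw₀ ((a : V ≃ₗ[F] V).map_eq_zero_iff.mp h0')
      haveI : Finite W := Module.finite_of_finite F
      have := index_succ_le _ (fun h : ↥H => (⟨(h : V ≃ₗ[F] V) w₀, hWinv h h.2 w₀ hw₀W⟩ : W)) 0 hf hz
      rw [hcard W] at this
      exact real_bound _ _ _ _ hq hcase this
    · -- orbit of a nonzero coset of W
      push_neg at hcase
      have hex : ∃ v₀ : V, v₀ ∉ W := by
        by_contra hcon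
        push_neg at hcon
        exact hWtop ((Submodule.eq_top_iff').mpr hcon)
      obtain ⟨v₀, hv₀⟩ := hex
      have hf : ∀ a b : ↥H, (Submodule.Quotient.mk ((a : V ≃ₗ[F] V) v₀) : V ⧸ W) =
          Submodule.Quotient.mk ((b : V ≃ₗ[F] V) v₀) →
          a⁻¹ * b ∈ Subgroup.closure {h : ↥H | ∃ v : V, v ≠ 0 ∧ (h : V ≃ₗ[F] V) v = v} := by
        intro a b hab
        have hab' : (a : V ≃ₗ[F] V) v₀ - (b : V ≃ₗ[F] V) v₀ ∈ W := (Submodule.Quotient.eq W).mp hab
        apply hgen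
        have hinvW : ∀ w ∈ W, ((a⁻¹ * b : ↥H) : V ≃ₗ[F] V) w ∈ W := hWinv _ (a⁻¹ * b).2
        apply fixes_of_sub_mem W _ hinvW v₀ hv₀
        have h1 : ((a⁻¹ * b : ↥H) : V ≃ₗ[F] V) v₀ - v₀ =
            ((a⁻¹ : ↥H) : V ≃ₗ[F] V) ((b : V ≃ₗ[F] V) v₀ - (a : V ≃ₗ[F] V) v₀) := by
          rw [map_sub]
          show (a : V ≃ₗ[F] V).symm ((b : V ≃ₗ[F] V) v₀) - v₀ =
            (a : V ≃ₗ[F] V).symm ((b : V ≃ₗ[F] V) v₀) - (a : V ≃ₗ[F] V).symm ((a : V ≃ₗ[F] V) v₀)
          rw [(a : V ≃ₗ[F] V).symm_apply_apply v₀]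
        rw [h1]
        apply hWinv _ (a⁻¹).2
        have : (b : V ≃ₗ[F] V) v₀ - (a : V ≃ₗ[F] V) v₀ = -((a : V ≃ₗ[F] V) v₀ - (b : V ≃ₗ[F] V) v₀) := by abel
        rw [this]
        exact W.neg_mem hab'
      have hz : ∀ a : ↥H, (Submodule.Quotient.mk ((a : V ≃ₗ[F] V) v₀) : V ⧸ W) ≠ 0 := by
        intro a h0
        have h0' : (a : V ≃ₗ[F] V) v₀ ∈ W := (Submodule.Quotient.mk_eq_zero W).mp h0
        apply hv₀
        have h2 := hWinv _ (a⁻¹).2 _ h0'
        have h3 : ((a⁻¹ : ↥H) : V ≃ₗ[F] V) ((a : V ≃ₗ[F] V) v₀) = v₀ :=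
          (a : V ≃ₗ[F] V).symm_apply_apply v₀
        rwa [h3] at h2
      haveI : Finite (V ⧸ W) := Module.finite_of_finite F
      have := index_succ_le _ (fun h : ↥H => (Submodule.Quotient.mk ((h : V ≃ₗ[F] V) v₀) : V ⧸ W)) 0 hf hz
      rw [hcard (V ⧸ W)] at this
      have hquot : Module.finrank F (V ⧸ W) + Module.finrank F W = Module.finrank F V :=
        Submodule.finrank_quotient_add_finrank W
      exact real_bound _ _ _ _ hq (by omega) this

end Cfsg.Agent.S4178
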