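import Mathlib
import Cfsg.Statements.S4182
import Cfsg.Agent.Lib.Helper13.SZBasic

set_option autoImplicit false
set_option maxHeartbeats 1000000
open Cfsg
open Cfsg.Agent.Lib.Helper13
open scoped Pointwise

namespace Cfsg.Agent.S4182

theorem mem_of_pow_mem {G : Type*} [Group G] {p : ℕ} (hp : p.Prime) (K : Subgroup G) {y : G} {k d : ℕ}
    (hy : orderOf y = p ^ k) (hd0 : d ≠ 0) (hdp : d < p) (h : y ^ d ∈ K) : y ∈ K := by
  have hc : Nat.Coprime d (orderOf y) := by
    rw [hy]
    exact (Nat.coprime_of_lt_prime hd0 hdp hp).symm.pow_right k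
  obtain ⟨m, hm⟩ := exists_pow_eq_self_of_coprime hc
  rw [← hm]
  exact K.pow_mem h m

theorem common_of_cover {G : Type*} [Group G] {p : ℕ} (hp : p.Prime) {ι : Type*}
    (K : ι → Subgroup G) (H : Subgroup G) (hH : ∀ g ∈ H, ∃ k : ℕ, orderOf g = p ^ k)
    (s : Finset ι) (hs : s.card ≤ p) (hcov : ∀ g ∈ H, ∃ i ∈ s, g ∈ K i) (x y : G) (hx : x ∈ H)
    (hy : y ∈ H) : ∃ i ∈ s, x ∈ K i ∧ y ∈ K i := by
  classical
  let f : ℕ → G := fun j => if j = 0 then y else x * y ^ (j - 1)
  have hfH : ∀ j, f j ∈ H := by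
    intro j
    by_cases hj : j = 0
    · have : f j = y := if_pos hj
      rw [this]; exact hy
    · have : f j = x * y ^ (j - 1) := if_neg hj
      rw [this]; exact H.mul_mem hx (H.pow_mem hy _)
  choose c hc using fun j => hcov (f j) (hfH j)
  have aux : ∀ a b : ℕ, a < b → b < p + 1 → c a = c b → ∃ i ∈ s, x ∈ K i ∧ y ∈ K i := by
    intro a b hab hb hcab
    refine ⟨c a, (hc a).1, ?_⟩
    have h1 : f a ∈ K (c a) := (hc a).2
    have h2 : f b ∈ K (c a) := by rw [hcab]; exact (hc b).2
    have hb0 : b ≠ 0 := by omega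
    have hfb : f b = x * y ^ (b - 1) := if_neg hb0
    rw [hfb] at h2
    by_cases ha0 : a = 0
    · have hfa : f a = y := if_pos ha0
      rw [hfa] at h1
      have e : x = (x * y ^ (b - 1)) * (y ^ (b - 1))⁻¹ := by group
      refine ⟨?_, h1⟩
      rw [e]
      exact (K (c a)).mul_mem h2 ((K (c a)).inv_mem ((K (c a)).pow_mem h1 _))
    · have hfa : f a = x * y ^ (a - 1) := if_neg ha0
      rw [hfa] at h1
      have hyd : y ^ (b - a) ∈ K (c a) := by
        have e : y ^ (b - a) = (x * y ^ (a - 1))⁻¹ * (x * y ^ (b - 1)) := by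
          have hba : b - 1 = (a - 1) + (b - a) := by omega
          rw [hba, pow_add]; group
        rw [e]
        exact (K (c a)).mul_mem ((K (c a)).inv_mem h1) h2
      obtain ⟨k, hk⟩ := hH y hy
      have hyK : y ∈ K (c a) := mem_of_pow_mem hp (K (c a)) hk (by omega) (by omega) hyd
      refine ⟨?_, hyK⟩
      have e : x = (x * y ^ (a - 1)) * (y ^ (a - 1))⁻¹ := by group
      rw [e]
      exact (K (c a)).mul_mem h1 ((K (c a)).inv_mem ((K (c a)).pow_mem hyK _))
  have hcard : s.card < (Finset.range (p + 1)).card := by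
    rw [Finset.card_range]; omega
  obtain ⟨a, ha, b, hb, hab, hcab⟩ := Finset.exists_ne_map_eq_of_card_lt_of_maps_to hcard
    (f := c) (fun j _ => Finset.mem_coe.mpr (hc j).1)
  rcases Nat.lt_or_gt_of_ne hab with h | h
  · exact aux a b h (Finset.mem_range.mp hb) hcab
  · exact aux b a h (Finset.mem_range.mp ha) hcab.symm

theorem pgroup_le_of_cover {G : Type*} [Group G] {p : ℕ} (hp : p.Prime) {ι : Type*}
    (K : ι → Subgroup G) (H : Subgroup G) (hH : ∀ g ∈ H, ∃ k : ℕ, orderOf g = p ^ k) :
    ∀ s : Finset ι, s.card ≤ p → (∀ g ∈ H, ∃ i ∈ s, g ∈ K i) → ∃ i ∈ s, H ≤ K i := by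
  classical
  intro s
  induction s using Finset.induction_on with
  | empty =>
    intro _ hcov
    obtain ⟨i, hi, _⟩ := hcov 1 H.one_mem
    exact absurd hi (Finset.notMem_empty i)
  | insert i₀ s' hi₀ ih =>
    intro hcard hcov
    by_cases hle : H ≤ K i₀
    · exact ⟨i₀, Finset.mem_insert_self _ _, hle⟩
    · obtain ⟨x, hxH, hxK⟩ := SetLike.not_le_iff_exists.mp hle
      have hcard' : s'.card ≤ p := by
        rw [Finset.card_insert_of_notMem hi₀] at hcard; omega
      have hcov' : ∀ g ∈ H, ∃ i ∈ s', g ∈ K i := by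
        intro g hg
        obtain ⟨i, hi, hxi, hgi⟩ :=
          common_of_cover hp K H hH (insert i₀ s') hcard hcov x g hxH hg
        rcases Finset.mem_insert.mp hi with h | hi'
        · rw [h] at hxi; exact absurd hxi hxK
        · exact ⟨i, hi', hgi⟩
      obtain ⟨i, hi, hHi⟩ := ih hcard' hcov'
      exact ⟨i, Finset.mem_insert_of_mem hi, hHi⟩

/-- Let p be a prime and G a finite group generated by its p-elements. If a finite family of proper subgroups of G covers the set of p-elements of G (every element of p-power order lies in one of them), then the family has at least p + 1 members. -/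
theorem result {G : Type*} [Group G] [Finite G] (p : ℕ) [Fact p.Prime] (hgen : Subgroup.closure {g : G | ∃ k : ℕ, orderOf g = p ^ k} = ⊤)
    {ι : Type*} [Fintype ι] (K : ι → Subgroup G) (hK : ∀ i, K i ≠ ⊤)
    (hcov : ∀ g : G, (∃ k : ℕ, orderOf g = p ^ k) → ∃ i, g ∈ K i) :
    p + 1 ≤ Fintype.card ι := by
  classical
  have hp : p.Prime := Fact.out
  by_contra hcon
  have hn : Fintype.card ι ≤ p := by omega
  let E : Set G := {g | ∃ k : ℕ, orderOf g = p ^ k}
  have hEconj : ∀ (h g : G), g ∈ E → h * g * h⁻¹ ∈ E := by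
    intro h g hg
    obtain ⟨k, hk⟩ := hg
    refine ⟨k, ?_⟩
    have := MulEquiv.orderOf_eq (MulAut.conj h) g
    rw [MulAut.conj_apply] at this
    rw [this, hk]
  obtain ⟨i₀, _⟩ := hcov 1 ⟨0, by simp⟩
  have : Nonempty ι := ⟨i₀⟩
  have claim : ∀ H : Subgroup G, Subgroup.closure (E ∩ (H : Set G)) = H → ∃ i, H ≤ K i := by
    intro H
    induction H using WellFoundedLT.induction with
    | ind H ih =>
    intro hHgen
    by_contra hH0
    have hH : ∀ i, ¬ H ≤ K i := not_exists.mp hH0
    let PP : Set (Subgroup G) := {M | M < H ∧ Subgroup.closure (E ∩ (M : Set G)) = M}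
    have hPPfin : PP.Finite := Set.toFinite _
    have F1 : ∀ M ∈ PP, ∃ L, Maximal (· ∈ PP) L ∧ M ≤ L := by
      intro M hM
      obtain ⟨L, hML, hL⟩ := hPPfin.exists_le_maximal hM
      exact ⟨L, hL, hML⟩
    have F2 : ∀ L, Maximal (· ∈ PP) L → ∃ i, L ≤ K i := by
      intro L hL
      exact ih L hL.prop.1 hL.prop.2
    have pg_sup : ∀ M M' : Subgroup G, Subgroup.closure (E ∩ (M : Set G)) = M →
        Subgroup.closure (E ∩ (M' : Set G)) = M' →
        Subgroup.closure (E ∩ ((M ⊔ M' : Subgroup G) : Set G)) = M ⊔ M' := by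
      intro M M' h1 h2
      apply le_antisymm
      · rw [Subgroup.closure_le]; exact Set.inter_subset_right
      · apply sup_le
        · exact h1.symm.le.trans (Subgroup.closure_mono
            (Set.inter_subset_inter_right _ (SetLike.coe_subset_coe.mpr le_sup_left)))
        · exact h2.symm.le.trans (Subgroup.closure_mono
            (Set.inter_subset_inter_right _ (SetLike.coe_subset_coe.mpr le_sup_right)))
    have F3 : ∀ t : Finset (Subgroup G), (∀ L ∈ t, Maximal (· ∈ PP) L) → t.card ≤ p := by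
      intro t ht
      choose! φ hφ using F2
      have hinj : Set.InjOn φ (t : Set (Subgroup G)) := by
        intro L hL L' hL' hLL'
        have hLℒ := ht L hL
        have hL'ℒ := ht L' hL'
        have h1 : L ≤ K (φ L) := hφ L hLℒ
        have h2 : L' ≤ K (φ L) := by rw [hLL']; exact hφ L' hL'ℒ
        have hsup : L ⊔ L' ∈ PP := by
          refine ⟨lt_of_le_of_ne (sup_le hLℒ.prop.1.le hL'ℒ.prop.1.le) ?_,
            pg_sup L L' hLℒ.prop.2 hL'ℒ.prop.2⟩
          intro h
          apply hH (φ L)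
          rw [← h]
          exact sup_le h1 h2
        have e1 : L ⊔ L' ≤ L := hLℒ.le_of_ge hsup le_sup_left
        have e2 : L ⊔ L' ≤ L' := hL'ℒ.le_of_ge hsup le_sup_right
        exact le_antisymm (le_sup_left.trans e2) (le_sup_right.trans e1)
      calc t.card ≤ (Finset.univ : Finset ι).card :=
            Finset.card_le_card_of_injOn φ (fun _ _ => Finset.mem_coe.mpr (Finset.mem_univ _)) hinj
        _ = Fintype.card ι := Finset.card_univ
        _ ≤ p := hn
    have hconjE : ∀ (h : G) (M : Subgroup G), Subgroup.closure (E ∩ (M : Set G)) = M →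
        Subgroup.closure (E ∩ ((MulAut.conj h • M : Subgroup G) : Set G)) = MulAut.conj h • M := by
      intro h M hM
      apply le_antisymm
      · rw [Subgroup.closure_le]; exact Set.inter_subset_right
      · have h1 : M ≤ MulAut.conj h⁻¹ •
            Subgroup.closure (E ∩ ((MulAut.conj h • M : Subgroup G) : Set G)) := by
          refine hM.symm.le.trans ?_
          rw [Subgroup.closure_le]
          intro y hy
          obtain ⟨hyE, hyM⟩ := hy
          rw [SetLike.mem_coe, mem_cj]
          apply Subgroup.subset_closure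
          refine ⟨?_, ?_⟩
          · have := hEconj h y hyE
            simpa using this
          · rw [SetLike.mem_coe, mem_cj]
            have e : h⁻¹ * ((h⁻¹)⁻¹ * y * h⁻¹) * h = y := by group
            rw [e]; exact hyM
        intro x hx
        have h2 := h1 (mem_cj.mp hx)
        rw [mem_cj] at h2
        have e : (h⁻¹)⁻¹ * (h⁻¹ * x * h) * h⁻¹ = x := by group
        rwa [e] at h2
    have key : ∀ (g : G), g ∈ H → ∀ M ∈ PP, MulAut.conj g • M ∈ PP := by
      intro g hg M hM
      refine ⟨lt_of_le_of_ne ?_ ?_, hconjE g M hM.2⟩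
      · have h1 : MulAut.conj g • M ≤ MulAut.conj g • H :=
          Subgroup.pointwise_smul_le_pointwise_smul_iff.mpr hM.1.le
        rwa [Subgroup.conj_smul_eq_self_of_mem hg] at h1
      · intro heq
        apply hM.1.ne
        have h2 : MulAut.conj g⁻¹ • (MulAut.conj g • M) = MulAut.conj g⁻¹ • H := by rw [heq]
        rw [← cj_mul, inv_mul_cancel, cj_one,
          Subgroup.conj_smul_eq_self_of_mem (H.inv_mem hg)] at h2
        exact h2
    have F4 : ∀ h ∈ H, ∀ L, Maximal (· ∈ PP) L → Maximal (· ∈ PP) (MulAut.conj h • L) := by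
      intro h hh L hL
      refine ⟨key h hh L hL.prop, ?_⟩
      intro M' hM' hle
      have h1 : L ≤ MulAut.conj h⁻¹ • M' := by
        have h0 : MulAut.conj h⁻¹ • (MulAut.conj h • L) ≤ MulAut.conj h⁻¹ • M' :=
          Subgroup.pointwise_smul_le_pointwise_smul_iff.mpr hle
        rwa [← cj_mul, inv_mul_cancel, cj_one] at h0
      have h2 := hL.le_of_ge (key h⁻¹ (H.inv_mem hh) M' hM') h1
      have h3 : MulAut.conj h • (MulAut.conj h⁻¹ • M') ≤ MulAut.conj h • L :=
        Subgroup.pointwise_smul_le_pointwise_smul_iff.mpr h2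
      rwa [← cj_mul, mul_inv_cancel, cj_one] at h3
    -- Sylow
    obtain ⟨P⟩ : Nonempty (Sylow p ↥H) := inferInstance
    let P' : Subgroup G := (P : Subgroup ↥H).map H.subtype
    have hP'H : P' ≤ H := Subgroup.map_subtype_le _
    have hP'E : ∀ g ∈ P', g ∈ E := by
      intro g hg
      obtain ⟨y, hy, rfl⟩ := Subgroup.mem_map.mp hg
      obtain ⟨k, hk⟩ := (IsPGroup.iff_orderOf.mp P.isPGroup') ⟨y, hy⟩
      refine ⟨k, ?_⟩
      have e1 : orderOf ((y : ↥H) : G) = orderOf y := Subgroup.orderOf_coe y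
      have e2 : orderOf ((⟨y, hy⟩ : ↥(P : Subgroup ↥H)) : ↥H) =
          orderOf (⟨y, hy⟩ : ↥(P : Subgroup ↥H)) := Subgroup.orderOf_coe _
      rw [Subgroup.coe_subtype, e1, ← hk]
      exact e2
    have hP'pg : Subgroup.closure (E ∩ (P' : Set G)) = P' := by
      apply le_antisymm
      · rw [Subgroup.closure_le]; exact Set.inter_subset_right
      · intro g hg; exact Subgroup.subset_closure ⟨hP'E g hg, hg⟩
    have hP'lt : P' < H := by
      refine lt_of_le_of_ne hP'H ?_
      intro heq
      have hHE : ∀ g ∈ H, ∃ k : ℕ, orderOf g = p ^ k := by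
        intro g hg
        apply hP'E g
        rw [heq]; exact hg
      obtain ⟨i, _, hi⟩ := pgroup_le_of_cover hp K H hHE Finset.univ
        (by rw [Finset.card_univ]; exact hn)
        (fun g hg => by
          obtain ⟨i, hi⟩ := hcov g (hHE g hg)
          exact ⟨i, Finset.mem_univ _, hi⟩)
      exact hH i hi
    obtain ⟨L₀, hL₀, hPL₀⟩ := F1 P' ⟨hP'lt, hP'pg⟩
    let N : Subgroup G := (MulAction.stabilizer (MulAut G) L₀).comap (MulAut.conj : G →* MulAut G)
    have hN : ∀ x : G, x ∈ N ↔ MulAut.conj x • L₀ = L₀ := by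
      intro x
      show MulAut.conj x ∈ MulAction.stabilizer (MulAut G) L₀ ↔ _
      exact MulAction.mem_stabilizer_iff
    have F6 : ∀ g ∈ H, g ∈ E → g ∈ N := by
      intro g hgH hgE
      obtain ⟨k, hk⟩ := hgE
      by_contra hgN
      rw [hN] at hgN
      have hz : Subgroup.zpowers g ≤ H := (Subgroup.zpowers_le).mpr hgH
      have hzpg : Subgroup.closure (E ∩ (Subgroup.zpowers g : Set G)) = Subgroup.zpowers g := by
        apply le_antisymm
        · rw [Subgroup.closure_le]; exact Set.inter_subset_right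
        · rw [Subgroup.zpowers_le]
          exact Subgroup.subset_closure ⟨⟨k, hk⟩, Subgroup.mem_zpowers g⟩
      have hzlt : Subgroup.zpowers g < H := by
        refine lt_of_le_of_ne hz ?_
        intro heq
        obtain ⟨i, hi⟩ := hcov g ⟨k, hk⟩
        apply hH i
        rw [← heq]
        exact (Subgroup.zpowers_le).mpr hi
      obtain ⟨Mg, hMg, hgMg⟩ := F1 _ ⟨hzlt, hzpg⟩
      have hgMg' : g ∈ Mg := hgMg (Subgroup.mem_zpowers g)
      have hMgfix : MulAut.conj g • Mg = Mg := Subgroup.conj_smul_eq_self_of_mem hgMg'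
      let t : Finset (Subgroup G) :=
        insert Mg ((Finset.range p).image (fun a => MulAut.conj (g ^ a) • L₀))
      have hpow : ∀ a : ℕ, Maximal (· ∈ PP) (MulAut.conj (g ^ a) • L₀) :=
        fun a => F4 (g ^ a) (H.pow_mem hgH a) L₀ hL₀
      have htℒ : ∀ L ∈ t, Maximal (· ∈ PP) L := by
        intro L hL
        rcases Finset.mem_insert.mp hL with rfl | hL
        · exact hMg
        · obtain ⟨a, _, rfl⟩ := Finset.mem_image.mp hL
          exact hpow a
      have aux : ∀ a b : ℕ, a < b → b < p →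
          MulAut.conj (g ^ a) • L₀ = MulAut.conj (g ^ b) • L₀ → False := by
        intro a b hab hbp heq
        have hb : g ^ b = g ^ a * g ^ (b - a) := by
          rw [← pow_add]; congr 1; omega
        rw [hb, cj_mul] at heq
        have h1 : MulAut.conj (g ^ (b - a)) • L₀ = L₀ := (smul_left_cancel _ heq).symm
        have h2 : g ^ (b - a) ∈ N := (hN _).mpr h1
        have h3 : g ∈ N := mem_of_pow_mem hp N hk (by omega) (by omega) h2
        exact hgN ((hN g).mp h3)
      have hinj : Set.InjOn (fun a => MulAut.conj (g ^ a) • L₀) (Finset.range p : Set ℕ) := by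
        intro a ha b hb heq
        simp only [Finset.coe_range, Set.mem_Iio] at ha hb
        rcases lt_trichotomy a b with h | h | h
        · exact (aux a b h hb heq).elim
        · exact h
        · exact (aux b a h ha heq.symm).elim
      have hMgnot : Mg ∉ (Finset.range p).image (fun a => MulAut.conj (g ^ a) • L₀) := by
        intro hmem
        obtain ⟨a, _, ha⟩ := Finset.mem_image.mp hmem
        apply hgN
        have h1 : MulAut.conj g • (MulAut.conj (g ^ a) • L₀) = MulAut.conj (g ^ a) • L₀ := by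
          rw [ha]; exact hMgfix
        rw [← cj_mul, ← pow_succ', pow_succ, cj_mul] at h1
        exact smul_left_cancel _ h1
      have hcard : t.card = p + 1 := by
        rw [Finset.card_insert_of_notMem hMgnot, Finset.card_image_of_injOn hinj, Finset.card_range]
      have := F3 t htℒ
      omega
    have hHN : H ≤ N :=
      hHgen.symm.le.trans ((Subgroup.closure_le N).mpr (fun g hg => F6 g hg.2 hg.1))
    have F8 : ∀ g ∈ H, g ∈ E → g ∈ L₀ := by
      intro g hgH hgE
      obtain ⟨k, hk⟩ := hgE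
      obtain ⟨y, hy⟩ : ∃ y : ↥H, (y : G) = g := ⟨⟨g, hgH⟩, rfl⟩
      have hyk : orderOf y = p ^ k := by rw [← Subgroup.orderOf_coe, hy, hk]
      have hzp : IsPGroup p ↥(Subgroup.zpowers y) :=
        IsPGroup.of_card (n := k) (by rw [Nat.card_zpowers, hyk])
      obtain ⟨Q, hQ⟩ := hzp.exists_le_sylow
      obtain ⟨h, hh⟩ := MulAction.exists_smul_eq ↥H P Q
      have hyQ : y ∈ (Q : Subgroup ↥H) := hQ (Subgroup.mem_zpowers y)
      rw [← hh, Sylow.coe_subgroup_smul, mem_cj] at hyQ
      have h1 : (h : G)⁻¹ * g * (h : G) ∈ P' :=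
        Subgroup.mem_map.mpr ⟨h⁻¹ * y * h, hyQ, by rw [← hy]; rfl⟩
      have h2 : (h : G)⁻¹ * g * (h : G) ∈ L₀ := hPL₀ h1
      have h3 : MulAut.conj (h : G) • L₀ = L₀ := (hN _).mp (hHN h.2)
      rw [← h3, mem_cj]
      exact h2
    have hHL : H ≤ L₀ :=
      hHgen.symm.le.trans ((Subgroup.closure_le L₀).mpr (fun g hg => F8 g hg.2 hg.1))
    exact absurd (lt_of_le_of_lt hHL hL₀.prop.1) (lt_irrefl _)
  obtain ⟨i, hi⟩ := claim ⊤ (by rw [Subgroup.coe_top, Set.inter_univ]; exact hgen)
  exact hK i (top_le_iff.mp hi)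

end Cfsg.Agent.S4182
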