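import Cfsg.Statements.S4186

set_option autoImplicit false
open Cfsg

namespace Cfsg.Agent.S4186

theorem aux {G : Type*} [Group G] (T X : Subgroup G)
    (hTN : T ≤ Subgroup.normalizer (X : Set G)) :
    ∀ k : ℕ, ∀ t ∈ T, t ^ (2 ^ k) = 1 → t ∉ Subgroup.centralizer (X : Set G) →
      ∃ t ∈ T, ∃ x ∈ X, x ≠ 1 ∧ t * x * t⁻¹ = x⁻¹ := by
  intro k
  induction k with
  | zero =>
    intro t _ ht hnc
    exfalso
    apply hnc
    simp only [pow_zero, pow_one] at ht
    rw [ht]
    exact Subgroup.one_mem _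
  | succ k ih =>
    intro t htT ht hnc
    by_cases h2 : t ^ 2 ∈ Subgroup.centralizer (X : Set G)
    · -- t^2 centralizes X, t does not
      rw [Subgroup.mem_centralizer_iff] at hnc
      push_neg at hnc
      obtain ⟨y, hyX, hy⟩ := hnc
      have hyX' : y ∈ X := hyX
      have htn : t ∈ Subgroup.normalizer (X : Set G) := hTN htT
      rw [Subgroup.mem_normalizer_iff] at htn
      have hty : t * y * t⁻¹ ∈ X := (htn y).mp hyX'
      refine ⟨t, htT, y⁻¹ * (t * y * t⁻¹), X.mul_mem (X.inv_mem hyX') hty, ?_, ?_⟩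
      · intro h
        apply hy
        have h1 : t * y * t⁻¹ = y := by
          have := congrArg (fun z => y * z) h
          simpa using this
        have h2 : t * y = y * t := by
          have := congrArg (fun z => z * t) h1
          simpa using this
        exact h2.symm
      · rw [Subgroup.mem_centralizer_iff] at h2
        have h3 : y * t ^ 2 = t ^ 2 * y := h2 y hyX
        have h4 : t * t * y = y * (t * t) := by
          rw [← pow_two, ← h3]
        calc t * (y⁻¹ * (t * y * t⁻¹)) * t⁻¹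
            = (t * y⁻¹ * t⁻¹) * ((t * t * y) * t⁻¹ * t⁻¹) := by group
          _ = (t * y⁻¹ * t⁻¹) * ((y * (t * t)) * t⁻¹ * t⁻¹) := by rw [h4]
          _ = (y⁻¹ * (t * y * t⁻¹))⁻¹ := by group
    · apply ih (t ^ 2) (T.pow_mem htT 2) _ h2
      rw [← pow_mul, ← pow_succ']
      exact ht

theorem result {G : Type*} [Group G] (T X : Subgroup G) [Finite ↥T] (hT : IsPGroup 2 ↥T) (hTN : T ≤ Subgroup.normalizer (X : Set G)) (hTC : ¬ T ≤ Subgroup.centralizer (X : Set G)) : ∃ t ∈ T, ∃ x ∈ X, x ≠ 1 ∧ t * x * t⁻¹ = x⁻¹ := by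
  rw [SetLike.not_le_iff_exists] at hTC
  obtain ⟨t, htT, htC⟩ := hTC
  obtain ⟨k, hk⟩ := hT ⟨t, htT⟩
  have hk' : t ^ (2 ^ k) = 1 := by
    have := congrArg Subtype.val hk
    simpa using this
  exact aux T X hTN k t htT hk' htC

end Cfsg.Agent.S4186
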