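import Cfsg.Statements.S4195

set_option autoImplicit false
open Cfsg

namespace Cfsg.Agent.S4195

/-- An element whose centralizer contains a Sylow 2-subgroup and which is conjugate to its
inverse squares to the identity. -/
theorem sq_eq_one_of_real {G : Type*} [Group G] [Finite G] (x : G) (P : Sylow 2 G)
    (hP : (P : Subgroup G) ≤ Subgroup.centralizer ({x} : Set G)) (hreal : IsConj x x⁻¹) :
    x ^ 2 = 1 := by
  classical
  haveI : Fact (Nat.Prime 2) := ⟨Nat.prime_two⟩
  -- the class of x has odd size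
  have hodd : ¬ 2 ∣ (Subgroup.centralizer ({x} : Set G)).index := by
    intro h
    exact P.not_dvd_index (dvd_trans h (Subgroup.index_dvd_of_le hP))
  have hidx : (Subgroup.centralizer ({x} : Set G)).index
      = (MulAction.orbit (ConjAct G) x).ncard := by
    rw [Subgroup.centralizer_eq_comap_stabilizer, ← MulAction.index_stabilizer]
    exact Subgroup.index_comap_of_surjective _ (ConjAct.toConjAct (G := G)).surjective
  rw [hidx] at hodd
  -- inversion acts on the class
  have hinv : ∀ y : G, y ∈ MulAction.orbit (ConjAct G) x → y⁻¹ ∈ MulAction.orbit (ConjAct G) x := by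
    intro y hy
    rw [ConjAct.mem_orbit_conjAct] at hy ⊢
    -- y ~ x, so y⁻¹ ~ x⁻¹ ~ x
    have h1 : IsConj y⁻¹ x⁻¹ := by
      obtain ⟨c, hc⟩ := hy
      refine ⟨c, ?_⟩
      have := hc.inv_right
      simpa [SemiconjBy] using hc.inv_right
    exact h1.trans hreal.symm
  let f : MulAction.orbit (ConjAct G) x → MulAction.orbit (ConjAct G) x :=
    fun y => ⟨(y : G)⁻¹, hinv y y.2⟩
  have hf : Function.Involutive f := by
    intro y
    apply Subtype.ext
    simp [f]
  haveI : Fintype (MulAction.orbit (ConjAct G) x) := Fintype.ofFinite _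
  have hcard : ¬ 2 ∣ Fintype.card (MulAction.orbit (ConjAct G) x) := by
    rw [← Nat.card_eq_fintype_card, Nat.card_coe_set_eq]
    exact hodd
  have hσ : (hf.toPerm f) ^ 2 ^ 1 = 1 := by
    ext y
    simp [pow_two, hf y]
  obtain ⟨a, ha⟩ := Equiv.Perm.exists_fixed_point_of_prime (p := 2) (n := 1) hcard hσ
  have ha' : ((a : G))⁻¹ = (a : G) := by
    have := congrArg Subtype.val ha
    simpa [f] using this
  -- a is conjugate to x, so x⁻¹ = x
  have hax : IsConj (a : G) x := ConjAct.mem_orbit_conjAct.mp a.2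
  have ha2 : (a : G) ^ 2 = 1 := by
    rw [pow_two]
    nth_rewrite 1 [← ha']
    exact inv_mul_cancel _
  obtain ⟨c, hc⟩ := hax
  have hx : x = (c : G)  * a * ((c⁻¹ : Gˣ) : G) := by
    have h1 : (c : G) * a = x * c := hc
    rw [h1]
    simp
  rw [hx]
  have : ((c : G) * a * ((c⁻¹ : Gˣ) : G)) ^ 2 = (c : G) * ((a : G) ^ 2) * ((c⁻¹ : Gˣ) : G) := by
    simp [pow_two, mul_assoc]
  rw [this, ha2]
  simp

theorem result {G : Type*} [Group G] [Finite G] (x : G) (hx : x ≠ 1) (P : Sylow 2 G) (hP : (P : Subgroup G) ≤ Subgroup.centralizer ({x} : Set G)) (hreal : IsConj x x⁻¹) : orderOf x = 2 := by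
  haveI : Fact (Nat.Prime 2) := ⟨Nat.prime_two⟩
  exact orderOf_eq_prime (sq_eq_one_of_real x P hP hreal) hx

end Cfsg.Agent.S4195
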