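import Cfsg.Statements.S4196
import Cfsg.Agent.S4195

set_option autoImplicit false
open Cfsg

namespace Cfsg.Agent.S4196

theorem result {G : Type*} [Group G] [Finite G] (P : Sylow 2 G) :
    (IsMulCommutative (P : Subgroup G) ∧ ∀ x ∈ (P : Subgroup G), x ^ 2 = 1) ↔
      ∀ x : G, (∃ k : ℕ, orderOf x = 2 ^ k) → (∃ Q : Sylow 2 G, (Q : Subgroup G) ≤ Subgroup.centralizer ({x} : Set G)) ∧ IsConj x x⁻¹ := by
  classical
  haveI : Fact (Nat.Prime 2) := ⟨Nat.prime_two⟩
  constructor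
  · rintro ⟨hcomm, hexp⟩ x ⟨k, hk⟩
    -- x lies in a Sylow 2-subgroup Q
    have hz : IsPGroup 2 (Subgroup.zpowers x) := by
      rw [IsPGroup.iff_card]
      exact ⟨k, by rw [Nat.card_zpowers, hk]⟩
    obtain ⟨Q, hQ⟩ := hz.exists_le_sylow
    have hxQ : x ∈ (Q : Subgroup G) := hQ (Subgroup.mem_zpowers x)
    obtain ⟨g, hg⟩ := MulAction.exists_smul_eq G P Q
    -- every element of Q is a conjugate of an element of P
    have hQP : ∀ y ∈ (Q : Subgroup G), ∃ z ∈ (P : Subgroup G), y = g * z * g⁻¹ := by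
      intro y hy
      rw [← hg, Sylow.coe_subgroup_smul, Subgroup.mem_smul_pointwise_iff_exists] at hy
      obtain ⟨z, hz, rfl⟩ := hy
      exact ⟨z, hz, by simp [MulAut.smul_def]⟩
    have hcommP : ∀ a ∈ (P : Subgroup G), ∀ b ∈ (P : Subgroup G), a * b = b * a := by
      intro a ha b hb
      have := (isMulCommutative_iff.mp hcomm) ⟨a, ha⟩ ⟨b, hb⟩
      exact congrArg Subtype.val this
    refine ⟨⟨Q, ?_⟩, ?_⟩
    · intro y hy
      rw [Subgroup.mem_centralizer_iff]
      intro w hw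
      rw [Set.mem_singleton_iff] at hw
      subst hw
      obtain ⟨z, hz, rfl⟩ := hQP y hy
      obtain ⟨z', hz', hx⟩ := hQP w hxQ
      rw [hx]
      have := hcommP z hz z' hz'
      calc g * z' * g⁻¹ * (g * z * g⁻¹) = g * (z' * z) * g⁻¹ := by group
        _ = g * (z * z') * g⁻¹ := by rw [this]
        _ = g * z * g⁻¹ * (g * z' * g⁻¹) := by group
    · obtain ⟨z, hz, hx⟩ := hQP x hxQ
      have hx2 : x ^ 2 = 1 := by
        rw [hx]
        have := hexp z hz
        calc (g * z * g⁻¹) ^ 2 = g * z ^ 2 * g⁻¹ := by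
              rw [pow_two, pow_two]; group
          _ = 1 := by rw [this]; group
      have : x⁻¹ = x := by
        rw [inv_eq_iff_mul_eq_one, ← pow_two, hx2]
      rw [this]
  · intro h
    have hexp : ∀ x ∈ (P : Subgroup G), x ^ 2 = 1 := by
      intro x hx
      have hP2 : IsPGroup 2 (P : Subgroup G) := P.isPGroup'
      obtain ⟨k, hk⟩ := (IsPGroup.iff_orderOf.mp hP2) ⟨x, hx⟩
      have hk' : orderOf x = 2 ^ k := by
        rw [← hk]
        exact (Subgroup.orderOf_mk x hx).symm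
      obtain ⟨⟨Q, hQ⟩, hreal⟩ := h x ⟨k, hk'⟩
      exact Cfsg.Agent.S4195.sq_eq_one_of_real x Q hQ hreal
    refine ⟨?_, hexp⟩
    rw [isMulCommutative_iff]
    rintro ⟨a, ha⟩ ⟨b, hb⟩
    apply Subtype.ext
    show a * b = b * a
    have h1 := hexp a ha
    have h2 := hexp b hb
    have h3 := hexp (a * b) ((P : Subgroup G).mul_mem ha hb)
    have ha' : a⁻¹ = a := by rw [inv_eq_iff_mul_eq_one, ← pow_two, h1]
    have hb' : b⁻¹ = b := by rw [inv_eq_iff_mul_eq_one, ← pow_two, h2]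
    have hab' : (a * b)⁻¹ = a * b := by rw [inv_eq_iff_mul_eq_one, ← pow_two, h3]
    calc a * b = (a * b)⁻¹ := hab'.symm
      _ = b⁻¹ * a⁻¹ := mul_inv_rev a b
      _ = b * a := by rw [ha', hb']

end Cfsg.Agent.S4196
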