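import Cfsg.Statements.S4200
import Cfsg.Agent.Lib.Helper15.ProdFormula

set_option autoImplicit false
set_option linter.style.haveILetI false
open Cfsg

namespace Cfsg.Agent.S4200

open scoped Pointwise

variable {X : Type*} [Group X]

/-- `|C| ≤ |X : Y| · |Y ∩ C|` -/
theorem card_le_index_mul [Finite X] (Y C : Subgroup X) :
    Nat.card C ≤ Y.index * Nat.card (Y ⊓ C : Subgroup X) := by
  have h := Cfsg.Agent.Lib.Helper15.card_mul_set_mul_card_inf Y C
  have hle : Nat.card ↥((Y : Set X) * (C : Set X)) ≤ Nat.card X := Finite.card_subtype_le _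
  have hY := Y.card_mul_index
  have : Nat.card Y * Nat.card C ≤ Nat.card Y * (Y.index * Nat.card ↥(Y ⊓ C)) := by
    rw [← h, ← mul_assoc, hY]; exact Nat.mul_le_mul_right _ hle
  exact Nat.le_of_mul_le_mul_left this Nat.card_pos

/-- strict version -/
theorem card_lt_index_mul [Finite X] (Y C : Subgroup X) (g : X)
    (hg : g ∉ (Y : Set X) * (C : Set X)) :
    Nat.card C < Y.index * Nat.card (Y ⊓ C : Subgroup X) := by
  have h := Cfsg.Agent.Lib.Helper15.card_mul_set_mul_card_inf Y C
  have hlt : Nat.card ↥((Y : Set X) * (C : Set X)) < Nat.card X := Finite.card_subtype_lt hg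
  have hY := Y.card_mul_index
  have hpos : 0 < Nat.card ↥(Y ⊓ C) := Nat.card_pos
  have : Nat.card Y * Nat.card C < Nat.card Y * (Y.index * Nat.card ↥(Y ⊓ C)) := by
    rw [← h, ← mul_assoc, hY]; exact Nat.mul_lt_mul_of_pos_right hlt hpos
  exact Nat.lt_of_mul_lt_mul_left this

section Count

variable [Fintype X] (Y : Subgroup X)

/-- number of elements of `X` commuting with `a` -/
noncomputable def nX (a : X) : ℕ := Nat.card {b : X // Commute a b}

/-- number of elements of `Y` commuting with `a` -/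
noncomputable def nY (a : X) : ℕ := Nat.card {b : Y // Commute a (b : X)}

theorem nX_eq (a : X) : nX a = Nat.card (Subgroup.centralizer ({a} : Set X)) := by
  rw [nX]
  apply Nat.card_congr
  exact Equiv.subtypeEquivRight (fun b => by
    rw [Subgroup.mem_centralizer_singleton_iff]; exact ⟨fun h => h.eq.symm, fun h => h.symm⟩)

theorem nY_eq (a : X) : nY Y a = Nat.card (Y ⊓ Subgroup.centralizer ({a} : Set X) : Subgroup X) := by
  rw [nY]
  apply Nat.card_congr
  refine ⟨fun b => ⟨b.1.1, b.1.2, ?_⟩, fun c => ⟨⟨c.1, c.2.1⟩, ?_⟩, fun b => rfl, fun c => rfl⟩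
  · exact Subgroup.mem_centralizer_singleton_iff.mpr b.2.eq.symm
  · have h2 : (c : X) ∈ Subgroup.centralizer ({a} : Set X) := c.2.2
    exact (Subgroup.mem_centralizer_singleton_iff.mp h2).symm

theorem sum_nX : ∑ a : X, nX a = Nat.card (ConjClasses X) * Nat.card X := by
  rw [← card_comm_eq_card_conjClasses_mul_card,
    Nat.card_congr (Equiv.subtypeProdEquivSigmaSubtype Commute), Nat.card_sigma]
  rfl

theorem sum_nY_Y [Fintype Y] : ∑ b : Y, nY Y (b : X) = Nat.card (ConjClasses Y) * Nat.card Y := by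
  rw [← card_comm_eq_card_conjClasses_mul_card,
    Nat.card_congr (Equiv.subtypeProdEquivSigmaSubtype Commute), Nat.card_sigma]
  apply Finset.sum_congr rfl
  intro b _
  rw [nY]
  apply Nat.card_congr
  exact Equiv.subtypeEquivRight (fun b' => by
    constructor
    · intro h; exact Subtype.ext h.eq
    · intro h; exact congrArg Subtype.val h.eq)

theorem sum_swap [Fintype Y] : ∑ a : X, nY Y a = ∑ b : Y, nX (b : X) := by
  have h1 : ∑ a : X, nY Y a = Nat.card {p : X × Y // Commute p.1 (p.2 : X)} := by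
    rw [Nat.card_congr (Equiv.subtypeProdEquivSigmaSubtype
      (fun (a : X) (b : Y) => Commute a (b : X))), Nat.card_sigma]
    rfl
  have h2 : ∑ b : Y, nX (b : X) = Nat.card {p : Y × X // Commute (p.1 : X) p.2} := by
    rw [Nat.card_congr (Equiv.subtypeProdEquivSigmaSubtype
      (fun (b : Y) (a : X) => Commute (b : X) a)), Nat.card_sigma]
    rfl
  rw [h1, h2]
  apply Nat.card_congr
  exact (Equiv.prodComm X Y).subtypeEquiv (fun p => ⟨fun h => h.symm, fun h => h.symm⟩)

end Count

/-- Let Y be a subgroup of the finite group X, of index m. Then the numbers of conjugacy classes satisfy k(Y) ≤ m·k(X) and k(X) ≤ m·k(Y), and the second inequality is strict unless Y is normal in X. -/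
theorem result {X : Type*} [Group X] [Finite X] (Y : Subgroup X) : Nat.card (ConjClasses Y) ≤ Y.index * Nat.card (ConjClasses X) ∧ Nat.card (ConjClasses X) ≤ Y.index * Nat.card (ConjClasses Y) ∧ (¬ Y.Normal → Nat.card (ConjClasses X) < Y.index * Nat.card (ConjClasses Y)) := by
  classical
  haveI := Fintype.ofFinite X
  haveI := Fintype.ofFinite Y
  have hYX := Y.card_mul_index
  have hYpos : 0 < Nat.card Y := Nat.card_pos
  have hXpos : 0 < Nat.card X := Nat.card_pos
  have hA := sum_nX (X := X)
  have hB := sum_nY_Y Y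
  have hS := sum_swap Y
  -- termwise inequalities
  have t1 : ∀ a : X, nX a ≤ Y.index * nY Y a := by
    intro a
    rw [nX_eq, nY_eq]
    exact card_le_index_mul Y _
  have t2 : ∀ a : X, nY Y a ≤ nX a := by
    intro a
    rw [nX_eq, nY_eq]
    exact Subgroup.card_le_of_le inf_le_right
  -- sums
  have s1 : ∑ a : X, nX a ≤ Y.index * ∑ a : X, nY Y a := by
    rw [Finset.mul_sum]; exact Finset.sum_le_sum (fun a _ => t1 a)
  have s2 : ∑ b : Y, nX (b : X) ≤ Y.index * ∑ b : Y, nY Y (b : X) := by
    rw [Finset.mul_sum]; exact Finset.sum_le_sum (fun b _ => t1 b)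
  refine ⟨?_, ?_, ?_⟩
  · -- k(Y) |Y| = Σ_{b∈Y} nY b ≤ Σ_{b ∈ Y} nX b = Σ_{a ∈ X} nY a ≤ Σ_a nX a = k(X) |X|
    have h1 : ∑ b : Y, nY Y (b : X) ≤ ∑ b : Y, nX (b : X) := Finset.sum_le_sum (fun b _ => t2 b)
    have h2 : ∑ a : X, nY Y a ≤ ∑ a : X, nX a := Finset.sum_le_sum (fun a _ => t2 a)
    have h3 : Nat.card (ConjClasses Y) * Nat.card Y ≤ Nat.card (ConjClasses X) * Nat.card X := by
      rw [← hA, ← hB]; exact le_trans h1 (hS ▸ h2)
    rw [← hYX] at h3
    have : Nat.card Y * Nat.card (ConjClasses Y) ≤ Nat.card Y * (Y.index * Nat.card (ConjClasses X)) := by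
      calc Nat.card Y * Nat.card (ConjClasses Y) = Nat.card (ConjClasses Y) * Nat.card Y := mul_comm _ _
        _ ≤ Nat.card (ConjClasses X) * (Nat.card Y * Y.index) := h3
        _ = Nat.card Y * (Y.index * Nat.card (ConjClasses X)) := by ring
    exact Nat.le_of_mul_le_mul_left this hYpos
  · have h3 : Nat.card (ConjClasses X) * Nat.card X ≤
        Y.index * (Y.index * (Nat.card (ConjClasses Y) * Nat.card Y)) := by
      rw [← hA, ← hB]
      calc ∑ a : X, nX a ≤ Y.index * ∑ a : X, nY Y a := s1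
        _ = Y.index * ∑ b : Y, nX (b : X) := by rw [hS]
        _ ≤ Y.index * (Y.index * ∑ b : Y, nY Y (b : X)) := Nat.mul_le_mul_left _ s2
    have : Nat.card X * Nat.card (ConjClasses X) ≤ Nat.card X * (Y.index * Nat.card (ConjClasses Y)) := by
      calc Nat.card X * Nat.card (ConjClasses X) = Nat.card (ConjClasses X) * Nat.card X := mul_comm _ _
        _ ≤ Y.index * (Y.index * (Nat.card (ConjClasses Y) * Nat.card Y)) := h3
        _ = (Nat.card Y * Y.index) * (Y.index * Nat.card (ConjClasses Y)) := by ring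
        _ = Nat.card X * (Y.index * Nat.card (ConjClasses Y)) := by rw [hYX]
    exact Nat.le_of_mul_le_mul_left this hXpos
  · intro hn
    -- find y ∈ Y, g with g y g⁻¹ ∉ Y
    have : ∃ y ∈ Y, ∃ g : X, g * y * g⁻¹ ∉ Y := by
      by_contra hcon
      push Not at hcon
      exact hn ⟨fun y hy g => hcon y hy g⟩
    obtain ⟨y, hy, g, hg⟩ := this
    have hgn : g ∉ (Y : Set X) * (Subgroup.centralizer ({y} : Set X) : Set X) := by
      rintro ⟨y', hy', c, hc, rfl⟩
      apply hg
      rw [SetLike.mem_coe, Subgroup.mem_centralizer_singleton_iff] at hc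
      have : y' * c * y * (y' * c)⁻¹ = y' * y * y'⁻¹ := by
        rw [mul_inv_rev, mul_assoc y' c y, hc]; group
      rw [this]
      exact Y.mul_mem (Y.mul_mem hy' hy) (Y.inv_mem hy')
    have tlt : nX y < Y.index * nY Y y := by
      rw [nX_eq, nY_eq]
      exact card_lt_index_mul Y _ g hgn
    have s2' : ∑ b : Y, nX (b : X) < Y.index * ∑ b : Y, nY Y (b : X) := by
      rw [Finset.mul_sum]
      exact Finset.sum_lt_sum (fun b _ => t1 b) ⟨⟨y, hy⟩, Finset.mem_univ _, tlt⟩
    have hipos : 0 < Y.index := Nat.pos_of_ne_zero Y.index_ne_zero_of_finite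
    have h3 : Nat.card (ConjClasses X) * Nat.card X <
        Y.index * (Y.index * (Nat.card (ConjClasses Y) * Nat.card Y)) := by
      rw [← hA, ← hB]
      calc ∑ a : X, nX a ≤ Y.index * ∑ a : X, nY Y a := s1
        _ = Y.index * ∑ b : Y, nX (b : X) := by rw [hS]
        _ < Y.index * (Y.index * ∑ b : Y, nY Y (b : X)) := Nat.mul_lt_mul_of_pos_left s2' hipos
    have : Nat.card X * Nat.card (ConjClasses X) < Nat.card X * (Y.index * Nat.card (ConjClasses Y)) := by
      calc Nat.card X * Nat.card (ConjClasses X) = Nat.card (ConjClasses X) * Nat.card X := mul_comm _ _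
        _ < Y.index * (Y.index * (Nat.card (ConjClasses Y) * Nat.card Y)) := h3
        _ = (Nat.card Y * Y.index) * (Y.index * Nat.card (ConjClasses Y)) := by ring
        _ = Nat.card X * (Y.index * Nat.card (ConjClasses Y)) := by rw [hYX]
    exact Nat.lt_of_mul_lt_mul_left this

end Cfsg.Agent.S4200
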