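import Mathlib
import Cfsg.Statements.S4201

set_option autoImplicit false
open Cfsg

namespace Cfsg.Agent.S4201

open Finset

/-- number of commuting pairs as a sum of centralizer sizes -/
theorem cp_eq_sum (G : Type*) [Group G] [Fintype G] [DecidableEq G] :
    Nat.card { p : G × G // Commute p.1 p.2 } = ∑ x : G, #{y : G | y * x = x * y} := by
  classical
  rw [Nat.card_eq_fintype_card, Fintype.card_congr (Equiv.subtypeProdEquivSigmaSubtype Commute),
    Fintype.card_sigma]
  refine Finset.sum_congr rfl fun x _ => ?_
  rw [Fintype.card_subtype]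
  congr 1
  ext y
  simp only [mem_filter, mem_univ, true_and]
  exact ⟨fun h => h.eq.symm, fun h => h.symm⟩

/-- Key fiber bound: elements of a coset of `N` commuting with `x` inject into `C_N(x)`. -/
theorem fiber_le {X : Type*} [Group X] [Fintype X] [DecidableEq X] (N : Subgroup X) [N.Normal]
    [Fintype N] [DecidableEq (X ⧸ N)]
    (x : X) (u : X ⧸ N) :
    #{y : X | (QuotientGroup.mk y : X ⧸ N) = u ∧ y * x = x * y} ≤ #{a : N | (a : X) * x = x * a} := by
  classical
  by_cases hne : ({y : X | (QuotientGroup.mk y : X ⧸ N) = u ∧ y * x = x * y} : Finset X).Nonempty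
  · obtain ⟨y₀, hy₀⟩ := hne
    simp only [mem_filter, mem_univ, true_and] at hy₀
    have hmem : ∀ y ∈ ({y : X | (QuotientGroup.mk y : X ⧸ N) = u ∧ y * x = x * y} : Finset X), y₀⁻¹ * y ∈ N := by
      intro y hy
      simp only [mem_filter, mem_univ, true_and] at hy
      rw [← QuotientGroup.eq, hy₀.1, hy.1]
    refine Finset.card_le_card_of_injOn (fun y => if h : y₀⁻¹ * y ∈ N then (⟨y₀⁻¹ * y, h⟩ : N) else 1) ?_ ?_
    · intro y hy
      have hyN := hmem y hy
      simp only [Finset.coe_filter, mem_univ, true_and, Set.mem_ofPred_eq] at hy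
      simp only [Finset.coe_filter, mem_univ, true_and, Set.mem_ofPred_eq, dif_pos hyN]
      have h1 : y₀⁻¹ * x = x * y₀⁻¹ := by
        have := hy₀.2
        calc y₀⁻¹ * x = y₀⁻¹ * (x * y₀) * y₀⁻¹ := by group
          _ = y₀⁻¹ * (y₀ * x) * y₀⁻¹ := by rw [this]
          _ = x * y₀⁻¹ := by group
      calc y₀⁻¹ * y * x = y₀⁻¹ * (y * x) := by group
        _ = y₀⁻¹ * (x * y) := by rw [hy.2]
        _ = (y₀⁻¹ * x) * y := by group
        _ = x * y₀⁻¹ * y := by rw [h1]
        _ = x * (y₀⁻¹ * y) := by group
    · intro y hy z hz hyz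
      have hyN := hmem y hy
      have hzN := hmem z hz
      simp only [dif_pos hyN, dif_pos hzN] at hyz
      have := congrArg Subtype.val hyz
      simpa using this
  · rw [Finset.not_nonempty_iff_eq_empty] at hne
    rw [hne]
    simp

theorem cp_le {X : Type*} [Group X] [Fintype X] [DecidableEq X] (N : Subgroup X) [N.Normal]
    [Fintype N] [DecidableEq N] [Fintype (X ⧸ N)] [DecidableEq (X ⧸ N)] :
    ∑ x : X, #{y : X | y * x = x * y} ≤
      (∑ a : N, #{b : N | b * a = a * b}) * (∑ u : X ⧸ N, #{v : X ⧸ N | v * u = u * v}) := by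
  classical
  -- I1
  have I1 : ∀ x : X, #{y : X | y * x = x * y} ≤
      #{a : N | (a : X) * x = x * a} * #{v : X ⧸ N | v * (QuotientGroup.mk x : X ⧸ N) = QuotientGroup.mk x * v} := by
    intro x
    apply Finset.card_le_mul_card_image_of_maps_to (f := fun y : X => (QuotientGroup.mk y : X ⧸ N))
    · intro y hy
      simp only [mem_filter, mem_univ, true_and] at hy ⊢
      rw [← QuotientGroup.mk_mul, ← QuotientGroup.mk_mul, hy]
    · intro v _
      have := fiber_le N x v
      refine le_trans (le_of_eq ?_) this
      congr 1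
      ext y
      simp only [mem_filter, mem_univ, true_and]
      tauto
  calc ∑ x : X, #{y : X | y * x = x * y}
      ≤ ∑ x : X, #{a : N | (a : X) * x = x * a} * #{v : X ⧸ N | v * (QuotientGroup.mk x : X ⧸ N) = QuotientGroup.mk x * v} :=
        Finset.sum_le_sum fun x _ => I1 x
    _ = ∑ u : X ⧸ N, ∑ x ∈ ({x : X | (QuotientGroup.mk x : X ⧸ N) = u} : Finset X),
          #{a : N | (a : X) * x = x * a} * #{v : X ⧸ N | v * (QuotientGroup.mk x : X ⧸ N) = QuotientGroup.mk x * v} := by
        rw [Finset.sum_fiberwise]
    _ = ∑ u : X ⧸ N, (∑ x ∈ ({x : X | (QuotientGroup.mk x : X ⧸ N) = u} : Finset X),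
          #{a : N | (a : X) * x = x * a}) * #{v : X ⧸ N | v * u = u * v} := by
        refine Finset.sum_congr rfl fun u _ => ?_
        rw [Finset.sum_mul]
        refine Finset.sum_congr rfl fun x hx => ?_
        simp only [mem_filter, mem_univ, true_and] at hx
        rw [hx]
    _ ≤ ∑ u : X ⧸ N, (∑ a : N, #{b : N | b * a = a * b}) * #{v : X ⧸ N | v * u = u * v} := by
        refine Finset.sum_le_sum fun u _ => Nat.mul_le_mul_right _ ?_
        -- swap the sums
        have h1 : ∑ x ∈ ({x : X | (QuotientGroup.mk x : X ⧸ N) = u} : Finset X), #{a : N | (a : X) * x = x * a}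
            = ∑ a : N, #{x : X | (QuotientGroup.mk x : X ⧸ N) = u ∧ x * (a : X) = (a : X) * x} := by
          simp_rw [Finset.card_filter]
          rw [Finset.sum_comm]
          refine Finset.sum_congr rfl fun a _ => ?_
          rw [Finset.sum_filter]
          refine Finset.sum_congr rfl fun x _ => ?_
          by_cases h : (QuotientGroup.mk x : X ⧸ N) = u
          · simp only [h, true_and, if_true]
            by_cases h2 : (a : X) * x = x * a
            · simp [h2]
            · have : ¬ x * (a : X) = a * x := fun h3 => h2 h3.symm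
              simp [h2, this]
          · simp [h]
        rw [h1]
        refine Finset.sum_le_sum fun a _ => ?_
        refine le_trans (fiber_le N (a : X) u) (le_of_eq ?_)
        congr 1
        ext b
        simp only [mem_filter, mem_univ, true_and]
        constructor
        · intro h; exact Subtype.ext (by simpa using h)
        · intro h; have := congrArg Subtype.val h; simpa using this
    _ = (∑ a : N, #{b : N | b * a = a * b}) * (∑ u : X ⧸ N, #{v : X ⧸ N | v * u = u * v}) := by
        rw [Finset.mul_sum]

/-- If N is a normal subgroup of the finite group X then k(X) ≤ k(N)·k(X ⧸ N), where k denotes the number of conjugacy classes. -/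
theorem result {X : Type*} [Group X] [Finite X] (N : Subgroup X) [N.Normal] : Nat.card (ConjClasses X) ≤ Nat.card (ConjClasses N) * Nat.card (ConjClasses (X ⧸ N)) := by
  classical
  have := Fintype.ofFinite X
  have := Fintype.ofFinite N
  have := Fintype.ofFinite (X ⧸ N)
  have h1 := card_comm_eq_card_conjClasses_mul_card X
  have h2 := card_comm_eq_card_conjClasses_mul_card N
  have h3 := card_comm_eq_card_conjClasses_mul_card (X ⧸ N)
  rw [cp_eq_sum] at h1 h2 h3
  have h4 := cp_le N
  rw [h1, h2, h3] at h4
  have hcard : Nat.card N * Nat.card (X ⧸ N) = Nat.card X := by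
    rw [mul_comm]; exact (Subgroup.card_eq_card_quotient_mul_card_subgroup N).symm
  have hpos : 0 < Nat.card X := Nat.card_pos
  have h5 : Nat.card (ConjClasses X) * Nat.card X ≤
      (Nat.card (ConjClasses N) * Nat.card (ConjClasses (X ⧸ N))) * Nat.card X := by
    calc Nat.card (ConjClasses X) * Nat.card X
        ≤ Nat.card (ConjClasses N) * Nat.card N * (Nat.card (ConjClasses (X ⧸ N)) * Nat.card (X ⧸ N)) := h4
      _ = (Nat.card (ConjClasses N) * Nat.card (ConjClasses (X ⧸ N))) * (Nat.card N * Nat.card (X ⧸ N)) := by ring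
      _ = _ := by rw [hcard]
  exact Nat.le_of_mul_le_mul_right h5 hpos

end Cfsg.Agent.S4201
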