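import Cfsg.Statements.S4203
import Mathlib
import Cfsg.Agent.S0553
import Cfsg.Agent.S4337
import Cfsg.Agent.Lib.Helper2.SylowCount
import Cfsg.Agent.Lib.Helper2.SchurZassenhaus

set_option autoImplicit false
open Cfsg

namespace Cfsg.Agent.S4203

open Cfsg.Agent.Lib.Helper2

universe u

theorem numeric (p q : ℕ) (hp : p.Prime) (hq : q.Prime) (hqp : q ≤ p) (x : ℕ)
    (hx : x = q ∨ x = q ^ 2) (hmod : x ≡ 1 [MOD p]) : x = 4 := by
  have h1p : 1 % p = 1 := Nat.mod_eq_of_lt hp.one_lt
  rcases hx with rfl | rfl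
  · exfalso
    unfold Nat.ModEq at hmod
    rw [h1p] at hmod
    rcases lt_or_eq_of_le hqp with hlt | rfl
    · rw [Nat.mod_eq_of_lt hlt] at hmod
      exact absurd hmod hq.one_lt.ne'
    · rw [Nat.mod_self] at hmod
      exact absurd hmod (by norm_num)
  · have hd : p ∣ q ^ 2 - 1 := (Nat.modEq_iff_dvd' (Nat.one_le_pow _ _ hq.pos)).mp hmod.symm
    obtain ⟨k, rfl⟩ : ∃ k, q = k + 1 := ⟨q - 1, by have := hq.pos; omega⟩
    have e : (k + 1) ^ 2 - 1 = (k + 2) * k := by
      have : (k + 1) ^ 2 = (k + 2) * k + 1 := by ring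
      rw [this, Nat.add_sub_cancel]
    rw [e] at hd
    have hk0 : 0 < k := by
      rcases Nat.eq_zero_or_pos k with h0 | h0
      · subst h0; exact absurd hq (by norm_num)
      · exact h0
    rcases (Nat.Prime.dvd_mul hp).mp hd with h2 | h2
    · have hle := Nat.le_of_dvd (by omega) h2
      have hpk : p = k + 2 := by
        rcases Nat.lt_or_ge p (k + 2) with h3 | h3
        · exfalso
          have hpk1 : p = k + 1 := by omega
          rw [hpk1] at h2
          have : k + 1 ∣ 1 := by
            have h4 : k + 1 ∣ (k + 1) + 1 := h2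
            exact (Nat.dvd_add_right (dvd_refl (k + 1))).mp h4
          have := Nat.le_of_dvd (by norm_num) this
          omega
        · omega
      subst hpk
      rcases hq.eq_two_or_odd' with h3 | hodd
      · have : k = 1 := by omega
        subst this; norm_num
      · exfalso
        have heven : Even (k + 1 + 1) := hodd.add_one
        have := (Nat.Prime.even_iff hp).mp heven
        omega
    · exfalso
      exact Nat.not_dvd_of_pos_of_lt hk0 (by omega) h2

theorem main (n : ℕ) : ∀ (G : Type u) [Group G] [Finite G], Nat.card G = n →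
    (∀ M : Subgroup G, IsCoatom M → ∃ p : ℕ, p.Prime ∧ (M.index = p ∨ M.index = p ^ 2)) →
    Group.IsSolvable G := by
  induction n using Nat.strong_induction_on with
  | _ n ih =>
  intro G _ _ hn h
  rcases subsingleton_or_nontrivial G with hsub | hnt
  · exact Group.isSolvable_of_top_eq_bot G (Subsingleton.elim _ _)
  obtain ⟨N, hNn, hNne, hmin⟩ := Cfsg.Agent.S0553.exists_minimal_normal G
  haveI := hNn
  have hsurj := QuotientGroup.mk'_surjective N
  have hquot : Group.IsSolvable (G ⧸ N) := by
    apply ih _ (hn ▸ card_quotient_lt_of_ne_bot N hNne) (G ⧸ N) rfl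
    intro K hK
    obtain ⟨p, hp, hidx⟩ := h _ (Cfsg.Agent.S0553.isCoatom_comap_mk' N K hK)
    rw [Subgroup.index_comap_of_surjective _ hsurj] at hidx
    exact ⟨p, hp, hidx⟩
  suffices hNs : Group.IsSolvable N by
    exact Group.isSolvable_of_ker_le_range N.subtype (QuotientGroup.mk' N)
      (by rw [QuotientGroup.ker_mk', Subgroup.range_subtype])
  have hcardN : 1 < Nat.card N := (Subgroup.one_lt_card_iff_ne_bot N).mpr hNne
  have hne : (Nat.card N).primeFactors.Nonempty := Nat.nonempty_primeFactors.mpr hcardN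
  obtain ⟨p, hpdef⟩ : ∃ p, p = (Nat.card N).primeFactors.max' hne := ⟨_, rfl⟩
  have hpmem : p ∈ (Nat.card N).primeFactors := hpdef ▸ Finset.max'_mem _ hne
  have hp : p.Prime := (Nat.mem_primeFactors.mp hpmem).1
  have hpN : p ∣ Nat.card N := (Nat.mem_primeFactors.mp hpmem).2.1
  have hpmax : ∀ q : ℕ, q.Prime → q ∣ Nat.card N → q ≤ p := by
    intro q hq hqN
    rw [hpdef]
    exact Finset.le_max' _ q (Nat.mem_primeFactors.mpr ⟨hq, hqN, Nat.card_pos.ne'⟩)
  haveI : Fact p.Prime := ⟨hp⟩
  obtain ⟨P⟩ : Nonempty (Sylow p N) := inferInstance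
  obtain ⟨Q, hQ⟩ : ∃ Q : Subgroup G, Q = (P : Subgroup N).map N.subtype := ⟨_, rfl⟩
  have hQN : Q ≤ N := hQ ▸ Subgroup.map_subtype_le _
  have hQp : IsPGroup p Q := by rw [hQ]; exact P.isPGroup'.map N.subtype
  have hPeq : (P : Subgroup N) = Q.subgroupOf N := by
    rw [hQ]
    exact (Subgroup.comap_map_eq_self_of_injective (Subgroup.subtype_injective N) _).symm
  have hPne : (P : Subgroup N) ≠ ⊥ := by
    intro hbot
    have h1 := P.card_eq_multiplicity
    rw [hbot, Subgroup.card_bot] at h1
    have h2 : 0 < (Nat.card N).factorization p :=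
      hp.factorization_pos_of_dvd Nat.card_pos.ne' hpN
    have h3 := (Nat.pow_eq_one.mp h1.symm)
    rcases h3 with h3 | h3
    · exact hp.one_lt.ne' h3
    · omega
  have hQne : Q ≠ ⊥ := by
    rw [hQ]
    intro hbot
    exact hPne ((Subgroup.map_eq_bot_iff_of_injective _ (Subgroup.subtype_injective N)).mp hbot)
  have hfrat : Subgroup.normalizer (Q : Set G) ⊔ N = ⊤ := by
    rw [hQ]; exact Sylow.normalizer_sup_eq_top P
  by_cases htop : Subgroup.normalizer (Q : Set G) = ⊤
  · have hQnormal : Q.Normal := Subgroup.normalizer_eq_top_iff.mp htop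
    rcases hmin Q hQnormal hQN with hb | hb
    · exact absurd hb hQne
    · rw [hb] at hQp
      haveI := hQp.isNilpotent
      infer_instance
  obtain ⟨M, hM, hle⟩ := (eq_top_or_exists_le_coatom _).resolve_left htop
  have hMN : M ⊔ N = ⊤ := by
    rw [eq_top_iff, ← hfrat]; exact sup_le_sup_right hle N
  have hNM : ¬ N ≤ M := by
    intro hNM
    apply hM.1
    rw [← hMN]; exact (sup_eq_left.mpr hNM).symm
  obtain ⟨q, hq, hidx⟩ := h M hM
  have hidxN : M.index = M.relIndex N := by
    have := relIndex_sup_of_normal M N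
    rwa [hMN, Subgroup.relIndex_top_right] at this
  have hqN : q ∣ Nat.card N := by
    have h1 : M.index ∣ Nat.card N := hidxN ▸ Subgroup.relIndex_dvd_card M N
    rcases hidx with h2 | h2
    · rw [h2] at h1; exact h1
    · rw [h2] at h1; exact (dvd_pow_self q (by norm_num)).trans h1
  have hqp : q ≤ p := hpmax q hq hqN
  -- congruence
  have hmod : M.index ≡ 1 [MOD p] := by
    obtain ⟨P', hQP'⟩ := hQp.exists_le_sylow
    have hinf : (P' : Subgroup G) ⊓ N = Q := by
      have hpg : IsPGroup p (((P' : Subgroup G) ⊓ N).subgroupOf N) :=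
        (P'.isPGroup'.to_le inf_le_left).comap_subtype
      have hle' : (P : Subgroup N) ≤ ((P' : Subgroup G) ⊓ N).subgroupOf N := by
        rw [hPeq]
        intro x hx
        rw [Subgroup.mem_subgroupOf] at hx ⊢
        exact Subgroup.mem_inf.mpr ⟨hQP' hx, x.2⟩
      have h1 := P.is_maximal' hpg hle'
      have h2 := congrArg (Subgroup.map N.subtype) h1
      rw [Subgroup.subgroupOf_map_subtype, inf_assoc, inf_idem, ← hQ] at h2
      exact h2
    have hnorm : Subgroup.normalizer ((P' : Subgroup G) : Set G) ≤ Subgroup.normalizer (Q : Set G) := by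
      intro g hg
      rw [Subgroup.mem_normalizer_iff] at hg ⊢
      intro x
      rw [← hinf, Subgroup.mem_inf, Subgroup.mem_inf, ← hg x]
      constructor
      · rintro ⟨h1, h2⟩
        exact ⟨h1, hNn.conj_mem x h2 g⟩
      · rintro ⟨h1, h2⟩
        refine ⟨h1, ?_⟩
        have := hNn.conj_mem _ h2 g⁻¹
        have e : g⁻¹ * (g * x * g⁻¹) * g⁻¹⁻¹ = x := by group
        rwa [e] at this
    have hP'M : (P' : Subgroup G) ≤ M := Subgroup.le_normalizer.trans (hnorm.trans hle)
    have c1 := card_sylow_subgroup M (P' : Subgroup G) hP'M (P'.subtype hP'M)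
      (Sylow.coe_subtype P' hP'M)
    have c2 : Nat.card (Sylow p G) = (Subgroup.normalizer ((P' : Subgroup G) : Set G)).index :=
      Sylow.card_eq_index_normalizer P'
    have c3 := Subgroup.relIndex_mul_index (hnorm.trans hle)
    have m1 : Nat.card (Sylow p G) ≡ 1 [MOD p] := card_sylow_modEq_one p G
    have m2 : Nat.card (Sylow p M) ≡ 1 [MOD p] := card_sylow_modEq_one p M
    rw [c2, ← c3, ← c1] at m1
    calc M.index = 1 * M.index := (one_mul _).symm
      _ ≡ Nat.card (Sylow p M) * M.index [MOD p] := Nat.ModEq.mul_right _ m2.symm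
      _ ≡ 1 [MOD p] := m1
  have h4 : M.index = 4 := numeric p q hp hq hqp M.index hidx hmod
  -- embed N into Perm (G ⧸ M)
  classical
  haveI : Fintype (G ⧸ M) := Fintype.ofFinite _
  have hcard4 : Fintype.card (G ⧸ M) ≤ 4 := by
    rw [← Nat.card_eq_fintype_card, ← Subgroup.index_eq_card, h4]
  haveI hperm : Group.IsSolvable (Equiv.Perm (G ⧸ M)) :=
    Cfsg.Agent.S4337.perm_solvable_of_card_le (G ⧸ M) hcard4
  have hkerM : (MulAction.toPermHom G (G ⧸ M)).ker ≤ M := by
    intro x hx
    have h1 : MulAction.toPermHom G (G ⧸ M) x = 1 := hx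
    have h2 : x • ((1 : G) : G ⧸ M) = ((1 : G) : G ⧸ M) := by
      have := congrArg (fun σ : Equiv.Perm (G ⧸ M) => σ ((1 : G) : G ⧸ M)) h1
      exact this
    have h3 : ((x * 1 : G) : G ⧸ M) = ((1 : G) : G ⧸ M) := h2
    have h4 := QuotientGroup.eq.mp h3.symm
    simpa using h4
  have hinfbot : N ⊓ (MulAction.toPermHom G (G ⧸ M)).ker = ⊥ := by
    rcases hmin (N ⊓ (MulAction.toPermHom G (G ⧸ M)).ker) inferInstance inf_le_left with hb | hb
    · exact hb
    · exfalso
      apply hNM
      rw [← hb]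
      exact inf_le_right.trans hkerM
  have hinj : Function.Injective ((MulAction.toPermHom G (G ⧸ M)).comp N.subtype) := by
    rw [injective_iff_map_eq_one]
    intro x hx
    have h1 : (x : G) ∈ N ⊓ (MulAction.toPermHom G (G ⧸ M)).ker :=
      Subgroup.mem_inf.mpr ⟨x.2, hx⟩
    rw [hinfbot, Subgroup.mem_bot] at h1
    exact Subtype.ext h1
  exact Group.isSolvable_of_isSolvable_injective hinj

/-- A finite group in which every maximal subgroup has index a prime or the square of a prime is solvable. -/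
theorem result {G : Type*} [Group G] [Finite G] (h : ∀ M : Subgroup G, IsCoatom M → ∃ p : ℕ, p.Prime ∧ (M.index = p ∨ M.index = p ^ 2)) : Group.IsSolvable G := by
  exact main _ G rfl h

end Cfsg.Agent.S4203
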