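import Cfsg.Statements.S4204

set_option autoImplicit false
open Cfsg

namespace Cfsg.Agent.S4204

theorem comm_le_iff {G : Type*} [Group G] (X Y N : Subgroup G) [N.Normal] :
    ⁅X, Y⁆ ≤ N ↔ X.map (QuotientGroup.mk' N) ≤ Subgroup.centralizer (Y.map (QuotientGroup.mk' N) : Set (G ⧸ N)) := by
  rw [← Subgroup.commutator_eq_bot_iff_le_centralizer, ← Subgroup.map_commutator, Subgroup.map_eq_bot_iff,
    QuotientGroup.ker_mk']

theorem iSup_comm_le {G : Type*} [Group G] {ι : Sort*} (S : ι → Subgroup G) (Y N : Subgroup G) [N.Normal]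
    (h : ∀ a, ⁅S a, Y⁆ ≤ N) : ⁅⨆ a, S a, Y⁆ ≤ N := by
  rw [comm_le_iff, Subgroup.map_iSup, iSup_le_iff]
  intro a
  rw [← comm_le_iff]
  exact h a

theorem comm_sup_le {G : Type*} [Group G] (X Y Z N : Subgroup G) [N.Normal]
    (h1 : ⁅X, Y⁆ ≤ N) (h2 : ⁅X, Z⁆ ≤ N) : ⁅X, Y ⊔ Z⁆ ≤ N := by
  rw [Subgroup.commutator_comm] at h1 h2 ⊢
  rw [comm_le_iff, Subgroup.map_sup, sup_le_iff, ← comm_le_iff, ← comm_le_iff]
  exact ⟨h1, h2⟩

theorem lcs_normal {G : Type*} [Group G] (H : Subgroup G) [H.Normal] (n : ℕ) : (H.lowerCentralSeries n).Normal := by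
  induction n with
  | zero => exact (inferInstance : H.Normal)
  | succ n ih =>
    rw [Subgroup.lowerCentralSeries_succ]
    exact Subgroup.commutator_normal _ _

/-- `A H 0 = ⊤`, `A H (i+1) = H.lowerCentralSeries i`. -/
def shiftLcs {G : Type*} [Group G] (H : Subgroup G) : ℕ → Subgroup G
  | 0 => ⊤
  | (i + 1) => H.lowerCentralSeries i

theorem shiftLcs_normal {G : Type*} [Group G] (H : Subgroup G) [H.Normal] (i : ℕ) : (shiftLcs H i).Normal := by
  cases i with
  | zero => exact (inferInstance : (⊤ : Subgroup G).Normal)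
  | succ i => exact lcs_normal H i

theorem shiftLcs_comm_le {G : Type*} [Group G] (H : Subgroup G) [H.Normal] (i : ℕ) :
    ⁅shiftLcs H i, H⁆ ≤ shiftLcs H (i + 1) := by
  cases i with
  | zero => exact Subgroup.commutator_le_right _ _
  | succ i => exact le_rfl

/-- If `H` and `K` are normal subgroups of a finite group with `H` nilpotent of class at most `c` and `K` nilpotent of class at most `d` (the terms with index `c`, respectively `d`, of their lower central series are trivial, indices starting at `0`), then `HK` is nilpotent of class at most `c + d`. -/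
theorem result {G : Type*} [Group G] [Finite G] (H K : Subgroup G) [H.Normal] [K.Normal] (c d : ℕ) (hH : H.lowerCentralSeries c = ⊥) (hK : K.lowerCentralSeries d = ⊥) : (H ⊔ K).lowerCentralSeries (c + d) = ⊥ := by
  have key : ∀ n, (H ⊔ K).lowerCentralSeries n ≤
      ⨆ i : ℕ, ⨆ _ : i ≤ n + 1, shiftLcs H i ⊓ shiftLcs K (n + 1 - i) := by
    intro n
    induction n with
    | zero =>
      rw [Subgroup.lowerCentralSeries_zero, sup_le_iff]
      constructor
      · refine le_iSup₂_of_le 1 (by omega) ?_
        simp [shiftLcs]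
      · refine le_iSup₂_of_le 0 (by omega) ?_
        simp [shiftLcs]
    | succ n ih =>
      rw [Subgroup.lowerCentralSeries_succ]
      refine (Subgroup.commutator_mono ih le_rfl).trans ?_
      have hnorm : (⨆ i : ℕ, ⨆ _ : i ≤ n + 1 + 1, shiftLcs H i ⊓ shiftLcs K (n + 1 + 1 - i)).Normal := by
        have h1 : ∀ i : ℕ, (⨆ _ : i ≤ n + 1 + 1, shiftLcs H i ⊓ shiftLcs K (n + 1 + 1 - i)).Normal := by
          intro i
          have h2 : ∀ _ : i ≤ n + 1 + 1, (shiftLcs H i ⊓ shiftLcs K (n + 1 + 1 - i)).Normal := by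
            intro _
            have := shiftLcs_normal H i
            have := shiftLcs_normal K (n + 1 + 1 - i)
            exact Subgroup.normal_inf_normal _ _
          exact @Subgroup.iSup_normal _ _ _ _ h2
        exact @Subgroup.iSup_normal _ _ _ _ h1
      refine iSup_comm_le _ _ _ fun i => iSup_comm_le _ _ _ fun hi => ?_
      have := shiftLcs_normal H i
      have := shiftLcs_normal K (n + 1 - i)
      apply comm_sup_le
      · -- ⁅A i ⊓ B j, H⁆ ≤ A (i+1) ⊓ B j
        refine le_iSup₂_of_le (i + 1) (by omega) ?_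
        rw [le_inf_iff]
        constructor
        · exact (Subgroup.commutator_mono inf_le_left le_rfl).trans (shiftLcs_comm_le H i)
        · have e : n + 1 + 1 - (i + 1) = n + 1 - i := by omega
          rw [e]
          exact (Subgroup.commutator_mono inf_le_right le_rfl).trans (Subgroup.commutator_le_left _ _)
      · refine le_iSup₂_of_le i (by omega) ?_
        rw [le_inf_iff]
        constructor
        · exact (Subgroup.commutator_mono inf_le_left le_rfl).trans (Subgroup.commutator_le_left _ _)
        · have e : n + 1 + 1 - i = (n + 1 - i) + 1 := by omega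
          rw [e]
          exact (Subgroup.commutator_mono inf_le_right le_rfl).trans (shiftLcs_comm_le K _)
  rw [eq_bot_iff]
  refine (key (c + d)).trans ?_
  refine iSup₂_le fun i hi => ?_
  by_cases hic : c + 1 ≤ i
  · obtain ⟨i', rfl⟩ : ∃ i', i = i' + 1 := ⟨i - 1, by omega⟩
    refine inf_le_left.trans ?_
    show H.lowerCentralSeries i' ≤ ⊥
    rw [← hH]
    exact Subgroup.lowerCentralSeries_antitone (S := H) (by omega)
  · obtain ⟨j', hj'⟩ : ∃ j', c + d + 1 - i = j' + 1 := ⟨c + d - i, by omega⟩
    refine inf_le_right.trans ?_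
    rw [hj']
    show K.lowerCentralSeries j' ≤ ⊥
    rw [← hK]
    exact Subgroup.lowerCentralSeries_antitone (S := K) (by omega)

end Cfsg.Agent.S4204
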