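import Cfsg.Statements.S4205

set_option autoImplicit false
open Cfsg

namespace Cfsg.Agent.S4205

/-- In a finite group whose upper central series reaches the whole group at step `c` (nilpotent of class at most `c`), starting from any subgroup and taking normalizers `c` times reaches the whole group. -/
theorem result {G : Type*} [Group G] [Finite G] (c : ℕ) (hG : Subgroup.upperCentralSeries G c = ⊤) (H : Subgroup G) : (fun K : Subgroup G => Subgroup.normalizer (K : Set G))^[c] H = ⊤ := by
  have key : ∀ i, Subgroup.upperCentralSeries G i ≤ (fun K : Subgroup G => Subgroup.normalizer (K : Set G))^[i] H := by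
    intro i
    induction i with
    | zero => simp
    | succ i ih =>
      rw [Function.iterate_succ_apply']
      set K := (fun K : Subgroup G => Subgroup.normalizer (K : Set G))^[i] H with hK
      have hstep : ∀ z ∈ Subgroup.upperCentralSeries G (i + 1), ∀ k ∈ K, z * k * z⁻¹ ∈ K := by
        intro z hz k hk
        have h1 := (Subgroup.mem_upperCentralSeries_succ_iff).mp hz k
        have h2 : z * k * z⁻¹ = (z * k * z⁻¹ * k⁻¹) * k := by group
        rw [h2]
        exact K.mul_mem (ih h1) hk
      intro z hz
      rw [Subgroup.mem_normalizer_iff]
      intro k
      constructor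
      · exact hstep z hz k
      · intro hk
        have := hstep z⁻¹ (Subgroup.inv_mem _ hz) _ hk
        simpa [mul_assoc] using this
  rw [eq_top_iff, ← hG]
  exact key c

end Cfsg.Agent.S4205
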