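import Cfsg.Statements.S4208
import Cfsg.Agent.Lib.Helper14.FrattiniQuot

set_option autoImplicit false
open Cfsg

namespace Cfsg.Agent.S4208

/-- Let `P` be a group of order `p^n` whose Frattini subgroup has index `p^r`. Then the order of the automorphism group of `P` divides `p^(r(n-r)) · (p^r - 1)(p^r - p) ⋯ (p^r - p^(r-1))`. -/
theorem result {P : Type*} [Group P] [Finite P] {p n r : ℕ} [Fact p.Prime] (hP : Nat.card P = p ^ n) (hr : (frattini P).index = p ^ r) : Nat.card (MulAut P) ∣ p ^ (r * (n - r)) * ∏ i ∈ Finset.range r, (p ^ r - p ^ i) := by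
  have hPg : IsPGroup p P := IsPGroup.of_card hP
  have h1 := Cfsg.Agent.Lib.Helper14.card_subgroup_mulAut_dvd_gen (⊤ : Subgroup (MulAut P)) r
  rw [Cfsg.Agent.Lib.Helper14.card_generating_tuples_pgroup hPg hr,
    Cfsg.Agent.Lib.Helper14.card_frattini_of_card hP hr, ← pow_mul,
    Nat.card_congr (Subgroup.topEquiv (G := MulAut P)).toEquiv] at h1
  rw [mul_comm, mul_comm (n - r) r,
    Fin.prod_univ_eq_prod_range (fun i => p ^ r - p ^ i) r] at h1
  exact h1

end Cfsg.Agent.S4208
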