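import Cfsg.Statements.S4211
import Cfsg.Agent.Lib.Lead.Dedekind
import Cfsg.Agent.Lib.Lead.QuatIso

set_option autoImplicit false
open Cfsg

namespace Cfsg.Agent.S4211


open Subgroup Cfsg.Agent.Lib.Lead

theorem orderOf_conj' {G : Type*} [Group G] (g x : G) : orderOf (g * x * g⁻¹) = orderOf x := by
  have := orderOf_injective (MulAut.conj g : G ≃* G).toMonoidHom (MulAut.conj g).injective x
  simpa [MulAut.conj_apply] using this

theorem conj_cases {G : Type*} [Group G] [Finite G] {x t : G} (hx : orderOf x = 4)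
    (ht : t ∈ zpowers x) (hto : orderOf t = 4) : t = x ∨ t = x⁻¹ := by
  obtain ⟨k, rfl⟩ := (Submonoid.mem_powers_iff _ _).mp (mem_powers_iff_mem_zpowers.mpr ht)
  have hx4 : x ^ 4 = 1 := by rw [← hx]; exact pow_orderOf_eq_one x
  have h1 : x ^ k = x ^ (k % 4) := by rw [← hx, pow_mod_orderOf]
  rw [h1] at hto ⊢
  have hk : k % 4 < 4 := Nat.mod_lt _ (by norm_num)
  interval_cases h : k % 4
  · simp at hto
  · left; simp
  · exfalso
    have h2 : (x ^ 2) ^ 2 = 1 := by rw [← pow_mul]; exact hx4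
    have h3 := orderOf_dvd_of_pow_eq_one h2
    rw [hto] at h3
    norm_num at h3
  · right
    exact eq_inv_of_mul_eq_one_left (by rw [← pow_succ]; exact hx4)

theorem sq_cases {G : Type*} [Group G] [Finite G] {x t : G} (hx : orderOf x = 4)
    (ht : t ∈ zpowers x) (ht2 : t ^ 2 = 1) : t = 1 ∨ t = x ^ 2 := by
  obtain ⟨k, rfl⟩ := (Submonoid.mem_powers_iff _ _).mp (mem_powers_iff_mem_zpowers.mpr ht)
  have hx4 : x ^ 4 = 1 := by rw [← hx]; exact pow_orderOf_eq_one x
  have hx2 : x ^ 2 ≠ 1 := by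
    intro h
    have h3 := orderOf_dvd_of_pow_eq_one h
    rw [hx] at h3
    norm_num at h3
  have h1 : x ^ k = x ^ (k % 4) := by rw [← hx, pow_mod_orderOf]
  rw [h1] at ht2 ⊢
  have hk : k % 4 < 4 := Nat.mod_lt _ (by norm_num)
  interval_cases h : k % 4
  · left; simp
  · exfalso; apply hx2; simpa using ht2
  · right; rfl
  · exfalso; apply hx2
    have : (x ^ 3) ^ 2 = x ^ 4 * x ^ 2 := by rw [← pow_mul, ← pow_add]
    rw [this, hx4, one_mul] at ht2
    exact ht2

theorem zpow_cases_of_sq {G : Type*} [Group G] {g : G} (hg : g ^ 2 = 1) (i : ℤ) :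
    g ^ i = 1 ∨ g ^ i = g := by
  obtain ⟨k, rfl | rfl⟩ := Int.even_or_odd' i
  · left
    rw [zpow_mul, zpow_two, ← pow_two, hg, one_zpow]
  · right
    rw [zpow_add, zpow_mul, zpow_two, ← pow_two, hg, one_zpow, one_mul, zpow_one]


/-- A finite non-abelian group in which every subgroup is normal is the internal direct product of a subgroup isomorphic to the quaternion group of order `8`, an elementary abelian `2`-subgroup and an abelian subgroup of odd order. -/
theorem result {G : Type*} [Group G] [Finite G] (hna : ¬ IsMulCommutative G) (hn : ∀ H : Subgroup G, H.Normal) : ∃ Q E A : Subgroup G, Nonempty (Q ≃* QuaternionGroup 2) ∧ Cfsg.IsElementaryAbelian 2 E ∧ IsMulCommutative A ∧ Odd (Nat.card A) ∧ E ⊓ A = ⊥ ∧ Q ⊓ (E ⊔ A) = ⊥ ∧ Q ⊔ (E ⊔ A) = ⊤ := by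
  classical
  have hD : ∀ u v : G, v * u * v⁻¹ ∈ zpowers u :=
    fun u v => (hn (zpowers u)).conj_mem u (mem_zpowers u) v
  have hna' : ∃ u v : G, u * v ≠ v * u := by
    by_contra h
    push_neg at h
    exact hna ⟨⟨h⟩⟩
  obtain ⟨x, y, hx4, hy2, hinv⟩ := Dedekind.exists_quaternion_gens hD hna'
  have hxpow4 : x ^ 4 = 1 := by rw [← hx4]; exact pow_orderOf_eq_one x
  have hx2ne : x ^ 2 ≠ 1 := by
    intro h
    have h3 := orderOf_dvd_of_pow_eq_one h
    rw [hx4] at h3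
    norm_num at h3
  have hy4 : y ^ 4 = 1 := by
    calc y ^ 4 = (y ^ 2) ^ 2 := by rw [← pow_mul]
      _ = (x ^ 2) ^ 2 := by rw [hy2]
      _ = x ^ 4 := by rw [← pow_mul]
      _ = 1 := hxpow4
  have hyo4 : orderOf y = 4 := by
    haveI : Fact (Nat.Prime 2) := ⟨Nat.prime_two⟩
    have := orderOf_eq_prime_pow (x := y) (p := 2) (n := 1) (by rw [pow_one, hy2]; exact hx2ne)
      (by norm_num; exact hy4)
    rw [this]; norm_num
  have hxy_ne : y * x ≠ x * y := by
    intro h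
    have h1 : y * x * y⁻¹ = x := by rw [h]; group
    rw [hinv] at h1
    apply hx2ne
    rw [pow_two]
    nth_rewrite 1 [← h1]
    exact inv_mul_cancel x
  have hb : y ∉ zpowers x := by
    intro h
    obtain ⟨i, hi⟩ := mem_zpowers_iff.mp h
    apply hxy_ne
    rw [← hi]
    exact ((Commute.refl x).zpow_left i).eq
  have hxconj : x * y * x⁻¹ = y⁻¹ := by
    have h1 : x * y * x⁻¹ = x ^ 2 * y := by
      calc x * y * x⁻¹ = x * (y * x * y⁻¹)⁻¹ * y := by group
        _ = x * x * y := by rw [hinv, inv_inv]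
        _ = x ^ 2 * y := by rw [pow_two]
    rw [h1, ← hy2, ← pow_succ]
    exact eq_inv_of_mul_eq_one_left (by rw [← pow_succ]; exact hy4)
  have ha : orderOf x = 2 * 2 := by rw [hx4]
  let φ := QuatIso.quatHom (N := 2) ha hy2 hinv
  have hφinj : Function.Injective φ := QuatIso.quatHom_injective ha hy2 hinv hb
  let Q : Subgroup G := φ.range
  have hQiso : Nonempty (Q ≃* QuaternionGroup 2) := ⟨(MonoidHom.ofInjective hφinj).symm⟩
  have hQel : ∀ q ∈ Q, (∃ i : ℤ, q = x ^ i) ∨ (∃ i : ℤ, q = y * x ^ i) := by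
    rintro q ⟨t, rfl⟩
    cases t with
    | a i => left; exact ⟨_, rfl⟩
    | xa i => right; exact ⟨_, rfl⟩
  have hxQ : x ∈ Q := by
    refine ⟨QuaternionGroup.a 1, ?_⟩
    show x ^ (((1 : ZMod (2 * 2)).cast : ℤ)) = x
    have : ((1 : ZMod (2 * 2)).cast : ℤ) = 1 := by decide
    rw [this, zpow_one]
  have hyQ : y ∈ Q := by
    refine ⟨QuaternionGroup.xa 0, ?_⟩
    show y * x ^ (((0 : ZMod (2 * 2)).cast : ℤ)) = y
    simp
  let C : Subgroup G := centralizer ({x, y} : Set G)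
  have hCmem : ∀ g, g ∈ C ↔ g * x = x * g ∧ g * y = y * g := by
    intro g
    rw [mem_centralizer_iff]
    constructor
    · intro h
      exact ⟨(h x (by simp)).symm, (h y (by simp)).symm⟩
    · rintro ⟨h1, h2⟩ t ht
      rcases ht with rfl | rfl
      · exact h1.symm
      · exact h2.symm
  -- Step 3
  have hconjmul : ∀ g q t : G, (g * q) * t * (g * q)⁻¹ = g * (q * t * q⁻¹) * g⁻¹ := by
    intro g q t; group
  have hconjinv : ∀ g t : G, g * t⁻¹ * g⁻¹ = (g * t * g⁻¹)⁻¹ := by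
    intro g t; group
  have hstep3 : ∀ g : G, ∃ q ∈ Q, g * q ∈ C := by
    intro g
    have hgx : g * x * g⁻¹ = x ∨ g * x * g⁻¹ = x⁻¹ :=
      conj_cases hx4 (hD x g) (by rw [orderOf_conj', hx4])
    have hgy : g * y * g⁻¹ = y ∨ g * y * g⁻¹ = y⁻¹ :=
      conj_cases hyo4 (hD y g) (by rw [orderOf_conj', hyo4])
    have key : ∀ q : G, (g * q) * x * (g * q)⁻¹ = x → (g * q) * y * (g * q)⁻¹ = y → g * q ∈ C := by
      intro q h1 h2
      exact (hCmem _).mpr ⟨mul_inv_eq_iff_eq_mul.mp h1, mul_inv_eq_iff_eq_mul.mp h2⟩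
    rcases hgx with hgx | hgx <;> rcases hgy with hgy | hgy
    · refine ⟨1, one_mem _, ?_⟩
      rw [mul_one]
      exact (hCmem _).mpr ⟨mul_inv_eq_iff_eq_mul.mp hgx, mul_inv_eq_iff_eq_mul.mp hgy⟩
    · refine ⟨x, hxQ, key x ?_ ?_⟩
      · rw [hconjmul, mul_inv_cancel_right, hgx]
      · rw [hconjmul, hxconj, hconjinv, hgy, inv_inv]
    · refine ⟨y, hyQ, key y ?_ ?_⟩
      · rw [hconjmul, hinv, hconjinv, hgx, inv_inv]
      · rw [hconjmul, mul_inv_cancel_right, hgy]
    · refine ⟨x * y, mul_mem hxQ hyQ, key (x * y) ?_ ?_⟩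
      · rw [hconjmul, hconjmul x y x, hinv, hconjinv x x, mul_inv_cancel_right, hconjinv, hgx, inv_inv]
      · rw [hconjmul, hconjmul x y y, mul_inv_cancel_right, hxconj, hconjinv, hgy, inv_inv]
  -- Step 4
  have hstep4 : ∀ g ∈ C, g ^ 4 = 1 → g ^ 2 = 1 := by
    intro g hg hg4
    obtain ⟨hgx, hgy⟩ := (hCmem g).mp hg
    have hcom : Commute g y := hgy
    have ht4 : (g * y) ^ 4 = 1 := by rw [hcom.mul_pow, hg4, hy4, one_mul]
    have hxt : x * (g * y) * x⁻¹ = g * y⁻¹ := by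
      calc x * (g * y) * x⁻¹ = (x * g) * y * x⁻¹ := by group
        _ = (g * x) * y * x⁻¹ := by rw [hgx]
        _ = g * (x * y * x⁻¹) := by group
        _ = g * y⁻¹ := by rw [hxconj]
    have hmem : x * (g * y) * x⁻¹ ∈ zpowers (g * y) := hD (g * y) x
    obtain ⟨k, hk⟩ := (Submonoid.mem_powers_iff _ _).mp (mem_powers_iff_mem_zpowers.mpr hmem)
    have hk' : (g * y) ^ (k % 4) = g * y⁻¹ := by
      rw [← pow_eq_pow_mod k ht4, hk, hxt]
    have hgney : g ≠ y := by
      rintro rfl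
      exact hxy_ne hgx
    have hy3 : y ^ 3 = y⁻¹ := eq_inv_of_mul_eq_one_left (by rw [← pow_succ]; exact hy4)
    have hklt : k % 4 < 4 := Nat.mod_lt _ (by norm_num)
    interval_cases h : k % 4
    · exfalso
      rw [pow_zero] at hk'
      apply hgney
      exact (mul_inv_eq_one.mp hk'.symm)
    · exfalso
      rw [pow_one] at hk'
      have h1 : y = y⁻¹ := mul_left_cancel hk'
      apply hx2ne
      rw [← hy2, pow_two]
      nth_rewrite 1 [h1]
      exact inv_mul_cancel y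
    · exfalso
      rw [hcom.mul_pow, pow_two g, mul_assoc] at hk'
      have h1 : g * y ^ 2 = y⁻¹ := mul_left_cancel hk'
      apply hgney
      have h2 : g * y ^ 2 = y * y ^ 2 := by
        rw [h1]
        calc y⁻¹ = y ^ 3 := hy3.symm
          _ = y * y ^ 2 := pow_succ' y 2
      exact mul_right_cancel h2
    · rw [hcom.mul_pow, hy3] at hk'
      have h1 : g ^ 3 = g := mul_right_cancel hk'
      have h2 : g ^ 2 * g = 1 * g := by rw [← pow_succ, one_mul]; exact h1
      exact mul_right_cancel h2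
  have hstep4' : ∀ k : ℕ, ∀ g ∈ C, g ^ (2 ^ k) = 1 → g ^ 2 = 1 := by
    intro k
    induction k with
    | zero =>
      intro g _ h
      rw [pow_zero, pow_one] at h
      rw [h, one_pow]
    | succ k ih =>
      intro g hg h
      rcases Nat.eq_zero_or_pos k with hk | hk
      · subst hk
        simpa using h
      · obtain ⟨k', rfl⟩ : ∃ k', k = k' + 1 := ⟨k - 1, by omega⟩
        have h1 : (g ^ (2 ^ k')) ^ 4 = 1 := by
          rw [← pow_mul]
          have : 2 ^ k' * 4 = 2 ^ (k' + 1 + 1) := by ring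
          rw [this]; exact h
        have h2 := hstep4 _ (pow_mem hg _) h1
        rw [← pow_mul, ← pow_succ] at h2
        exact ih g hg h2
  -- Step 5
  have hCcomm : ∀ u ∈ C, ∀ v ∈ C, u * v = v * u := by
    by_contra h
    push_neg at h
    obtain ⟨u, hu, v, hv, huv⟩ := h
    have hDC : ∀ u v : C, v * u * v⁻¹ ∈ zpowers u := by
      intro u v
      obtain ⟨i, hi⟩ := mem_zpowers_iff.mp (hD (u : G) (v : G))
      exact mem_zpowers_iff.mpr ⟨i, Subtype.ext (by simpa using hi)⟩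
    obtain ⟨x', y', hx', -, -⟩ := Dedekind.exists_quaternion_gens hDC
      ⟨⟨u, hu⟩, ⟨v, hv⟩, fun h => huv (by simpa using congrArg Subtype.val h)⟩
    have h4 : (x' : G) ^ 4 = 1 := by
      have : x' ^ 4 = 1 := by rw [← hx']; exact pow_orderOf_eq_one x'
      simpa using congrArg Subtype.val this
    have h2 := hstep4 _ x'.2 h4
    have h2' : x' ^ 2 = 1 := Subtype.ext (by simpa using h2)
    have h3 := orderOf_dvd_of_pow_eq_one h2'
    rw [hx'] at h3
    norm_num at h3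
  -- Step 6
  let C2 : Subgroup G :=
    { carrier := {g | g ∈ C ∧ g ^ 2 = 1}
      mul_mem' := by
        rintro a b ⟨ha, ha2⟩ ⟨hb, hb2⟩
        refine ⟨mul_mem ha hb, ?_⟩
        rw [(show Commute a b from hCcomm a ha b hb).mul_pow, ha2, hb2, one_mul]
      one_mem' := ⟨one_mem _, one_pow _⟩
      inv_mem' := by
        rintro a ⟨ha, ha2⟩
        exact ⟨inv_mem ha, by rw [inv_pow, ha2, inv_one]⟩ }
  let A : Subgroup G :=
    { carrier := {g | g ∈ C ∧ Odd (orderOf g)}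
      mul_mem' := by
        rintro a b ⟨ha, hao⟩ ⟨hb, hbo⟩
        refine ⟨mul_mem ha hb, ?_⟩
        have h1 := (show Commute a b from hCcomm a ha b hb).orderOf_mul_dvd_lcm
        have h2 : Nat.lcm (orderOf a) (orderOf b) ∣ orderOf a * orderOf b := Nat.lcm_dvd_mul _ _
        exact Odd.of_dvd_nat (hao.mul hbo) (h1.trans h2)
      one_mem' := ⟨one_mem _, by rw [orderOf_one]; exact odd_one⟩
      inv_mem' := by
        rintro a ⟨ha, hao⟩
        exact ⟨inv_mem ha, by rw [orderOf_inv]; exact hao⟩ }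
  have hC2C : C2 ≤ C := fun g hg => hg.1
  have hAC : A ≤ C := fun g hg => hg.1
  have hdecomp : ∀ g ∈ C, ∃ e ∈ C2, ∃ a ∈ A, g = e * a := by
    intro g hg
    obtain ⟨k, m, hm, hgm⟩ := Nat.exists_eq_two_pow_mul_odd (orderOf_pos g).ne'
    have he2 : (g ^ m) ^ 2 = 1 := by
      apply hstep4' k _ (pow_mem hg _)
      rw [← pow_mul, mul_comm, ← hgm, pow_orderOf_eq_one]
    obtain ⟨n, hn'⟩ := hm
    refine ⟨g ^ m, ⟨pow_mem hg _, he2⟩, (g ^ (2 * n))⁻¹, ⟨inv_mem (pow_mem hg _), ?_⟩, ?_⟩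
    · rw [orderOf_inv]
      have h1 : (g ^ (2 * n)) ^ m = 1 := by
        rw [← pow_mul, show 2 * n * m = m * 2 * n by ring, pow_mul, pow_mul, he2, one_pow]
      exact Odd.of_dvd_nat ⟨n, hn'⟩ (orderOf_dvd_of_pow_eq_one h1)
    · rw [hn', pow_succ', mul_assoc, mul_inv_cancel, mul_one]
  -- Step 7
  have hcC2 : (x ^ 2) ∈ C2 := by
    refine ⟨(hCmem _).mpr ⟨?_, ?_⟩, ?_⟩
    · exact ((Commute.refl x).pow_left 2).eq
    · rw [← hy2]; exact ((Commute.refl y).pow_left 2).eq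
    · rw [← pow_mul]; exact hxpow4
  obtain ⟨E, hE⟩ : ∃ E : Subgroup G, Maximal (fun E => E ≤ C2 ∧ (x ^ 2) ∉ E) E := by
    obtain ⟨E, -, hE⟩ := Finite.exists_le_maximal (p := fun E : Subgroup G => E ≤ C2 ∧ (x ^ 2) ∉ E)
      (a := ⊥) ⟨bot_le, fun h => hx2ne (mem_bot.mp h)⟩
    exact ⟨E, hE⟩
  have hEC2 : E ≤ C2 := hE.prop.1
  have hcE : (x ^ 2) ∉ E := hE.prop.2
  have hEc : ∀ g ∈ C2, g ∈ E ∨ g * (x ^ 2) ∈ E := by
    intro g hg
    by_contra hcon
    push_neg at hcon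
    have hF : E ⊔ zpowers g ≤ C2 := sup_le hEC2 (zpowers_le.mpr hg)
    have hcF : (x ^ 2) ∈ E ⊔ zpowers g := by
      by_contra hcF
      have h1 := hE.le_of_ge ⟨hF, hcF⟩ le_sup_left
      exact hcon.1 (h1 (le_sup_right (a := E) (mem_zpowers g)))
    haveI := hn (zpowers g)
    rw [← SetLike.mem_coe, mul_normal] at hcF
    obtain ⟨e, he, t, ht, het⟩ := Set.mem_mul.mp hcF
    obtain ⟨i, hi⟩ := mem_zpowers_iff.mp ht
    rcases zpow_cases_of_sq hg.2 i with h | h
    · rw [← hi, h, mul_one] at het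
      exact hcE (het ▸ he)
    · rw [← hi, h] at het
      apply hcon.2
      have hcomm : g * e = e * g := hCcomm g hg.1 e (hC2C (hEC2 he))
      have : g * (x ^ 2) = e := by
        rw [← het, ← mul_assoc, hcomm, mul_assoc, ← pow_two, hg.2, mul_one]
      rw [this]; exact he
  have hEAC : E ⊔ A ≤ C := sup_le (hEC2.trans hC2C) hAC
  have hQC : ∀ q ∈ Q, q ∈ C → q = 1 ∨ q = (x ^ 2) := by
    intro q hq hqC
    rcases hQel q hq with ⟨i, rfl⟩ | ⟨i, rfl⟩
    · obtain ⟨-, h2⟩ := (hCmem _).mp hqC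
      have h3 : y * x ^ i * y⁻¹ = (x ^ i)⁻¹ := by
        have := map_zpow (MulAut.conj y) x i
        simp only [MulAut.conj_apply] at this
        rw [this, hinv, inv_zpow]
      have h4 : (x ^ i)⁻¹ = x ^ i := by
        rw [← h3, ← h2]; group
      have h5 : (x ^ i) ^ 2 = 1 := by
        rw [pow_two]
        nth_rewrite 1 [← h4]
        exact inv_mul_cancel _
      exact sq_cases hx4 (zpow_mem (mem_zpowers x) i) h5
    · obtain ⟨h1, -⟩ := (hCmem _).mp hqC
      exfalso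
      apply hxy_ne
      have hcm : Commute (x ^ i) x := (Commute.refl x).zpow_left i
      have : (y * x) * x ^ i = (x * y) * x ^ i := by
        calc (y * x) * x ^ i = y * (x * x ^ i) := by rw [mul_assoc]
          _ = y * (x ^ i * x) := by rw [← hcm.eq]
          _ = y * x ^ i * x := by rw [mul_assoc]
          _ = x * (y * x ^ i) := h1
          _ = (x * y) * x ^ i := by rw [mul_assoc]
      exact mul_right_cancel this
  have hodd_sq : ∀ g : G, g ^ 2 = 1 → Odd (orderOf g) → g = 1 := by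
    intro g h2 ho
    have h1 := orderOf_dvd_of_pow_eq_one h2
    rcases (Nat.dvd_prime Nat.prime_two).mp h1 with h | h
    · exact orderOf_eq_one_iff.mp h
    · rw [h] at ho; exact absurd ho (by decide)
  refine ⟨Q, E, A, hQiso, ⟨⟨⟨fun a b => Subtype.ext
    (hCcomm a (hC2C (hEC2 a.2)) b (hC2C (hEC2 b.2)))⟩⟩, fun a ha => (hEC2 ha).2⟩,
    ⟨⟨fun a b => Subtype.ext (hCcomm a (hAC a.2) b (hAC b.2))⟩⟩, ?_, ?_, ?_, ?_⟩
  · -- Odd card A
    by_contra h
    rw [Nat.not_odd_iff_even] at h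
    haveI : Fact (Nat.Prime 2) := ⟨Nat.prime_two⟩
    obtain ⟨a, ha⟩ := exists_prime_orderOf_dvd_card' (G := A) 2 h.two_dvd
    have h1 : Odd (orderOf (a : G)) := a.2.2
    rw [Subgroup.orderOf_coe, ha] at h1
    exact absurd h1 (by decide)
  · -- E ⊓ A = ⊥
    rw [eq_bot_iff]
    intro g hg
    obtain ⟨hgE, hgA⟩ := Subgroup.mem_inf.mp hg
    exact mem_bot.mpr (hodd_sq g (hEC2 hgE).2 hgA.2)
  · -- Q ⊓ (E ⊔ A) = ⊥
    rw [eq_bot_iff]
    intro q hq
    obtain ⟨hqQ, hqEA⟩ := Subgroup.mem_inf.mp hq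
    rcases hQC q hqQ (hEAC hqEA) with h | h
    · exact mem_bot.mpr h
    · exfalso
      rw [h] at hqEA
      haveI := hn A
      rw [← SetLike.mem_coe, mul_normal] at hqEA
      obtain ⟨e, he, a, haA, hea⟩ := Set.mem_mul.mp hqEA
      have ha2 : a ∈ C2 := by
        have : a = e⁻¹ * (x ^ 2) := by rw [← hea]; group
        rw [this]
        exact mul_mem (inv_mem (hEC2 he)) hcC2
      have ha1 : a = 1 := hodd_sq a ha2.2 haA.2
      rw [ha1, mul_one] at hea
      exact hcE (hea ▸ he)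
  · -- Q ⊔ (E ⊔ A) = ⊤
    rw [eq_top_iff]
    intro g _
    obtain ⟨q, hq, hgq⟩ := hstep3 g
    obtain ⟨e, he, a, haA, hea⟩ := hdecomp _ hgq
    have hg : g = e * a * q⁻¹ := by rw [← hea]; group
    rw [hg]
    have hqm : q⁻¹ ∈ Q ⊔ (E ⊔ A) := le_sup_left (a := Q) (inv_mem hq)
    have ham : a ∈ Q ⊔ (E ⊔ A) := le_sup_right (a := Q) (le_sup_right (a := E) haA)
    have hem : e ∈ Q ⊔ (E ⊔ A) := by
      rcases hEc e he with h | h
      · exact le_sup_right (a := Q) (le_sup_left (a := E) h)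
      · have hcm : (x ^ 2) ∈ Q ⊔ (E ⊔ A) := le_sup_left (a := Q) (pow_mem hxQ 2)
        have h1 : e * (x ^ 2) ∈ Q ⊔ (E ⊔ A) := le_sup_right (a := Q) (le_sup_left (a := E) h)
        have : e = (e * (x ^ 2)) * (x ^ 2) := by
          rw [mul_assoc, ← pow_two, hcC2.2, mul_one]
        rw [this]
        exact mul_mem h1 hcm
    exact mul_mem (mul_mem hem ham) hqm

end Cfsg.Agent.S4211
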