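import Cfsg.Statements.S4212
import Mathlib

set_option autoImplicit false
open Cfsg

namespace Cfsg.Agent.S4212

universe u

/-- fiberwise divisibility -/
theorem dvd_card_of_fibers {α β : Type*} [Finite α] [Finite β] (f : α → β) (d : ℕ)
    (h : ∀ b, d ∣ Nat.card {a : α // f a = b}) : d ∣ Nat.card α := by
  classical
  haveI := Fintype.ofFinite β
  rw [Nat.card_congr (Equiv.sigmaFiberEquiv f).symm, Nat.card_sigma]
  exact Finset.dvd_sum (fun b _ => h b)

/-- constant fibers -/
theorem card_eq_mul_of_fibers {α β : Type*} [Finite α] [Finite β] (f : α → β) (k : ℕ)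
    (h : ∀ b, Nat.card {a : α // f a = b} = k) : Nat.card α = Nat.card β * k := by
  classical
  haveI := Fintype.ofFinite β
  rw [Nat.card_congr (Equiv.sigmaFiberEquiv f).symm, Nat.card_sigma]
  simp [h, Nat.card_eq_fintype_card]

section
variable {G : Type u} [Group G]

theorem conj_central {d y : G} (hd : d ∈ Subgroup.center G) (h : IsConj d y) : y = d := by
  obtain ⟨g, hg⟩ := isConj_iff.mp h
  rw [← hg, Subgroup.mem_center_iff.mp hd g, mul_inv_cancel_right]

theorem inv_conj_pow (g x : G) (n : ℕ) : (g⁻¹ * x * g) ^ n = g⁻¹ * x ^ n * g := by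
  have := conj_pow (a := g⁻¹) (b := x) (i := n)
  simpa using this

variable [Finite G]

/-- Orbit–stabiliser for conjugacy classes. -/
theorem card_class_mul (c : G) :
    Nat.card {y : G // IsConj c y} * Nat.card (Subgroup.centralizer ({c} : Set G)) =
      Nat.card G := by
  have h0 : Nat.card {y : G // IsConj c y} = Nat.card (ConjClasses.mk c).carrier :=
    Nat.card_congr (Equiv.subtypeEquivRight (fun y => by
      rw [ConjClasses.mem_carrier_iff_mk_eq, ConjClasses.mk_eq_mk_iff_isConj]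
      exact ⟨fun h => h.symm, fun h => h.symm⟩))
  rw [h0, Subgroup.nat_card_centralizer_nat_card_stabilizer, ← ConjAct.orbit_eq_carrier_conjClasses]
  have h1 := Subgroup.card_mul_index (MulAction.stabilizer (ConjAct G) c)
  rw [MulAction.index_stabilizer] at h1
  have h2 : Nat.card (ConjAct G) = Nat.card G := rfl
  rw [Nat.card_coe_set_eq, mul_comm, h1, h2]

/-- class count = class size × pointwise count -/
theorem card_conj_pow (c : G) (n : ℕ) :
    Nat.card {x : G // IsConj c (x ^ n)} =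
      Nat.card {y : G // IsConj c y} * Nat.card {x : G // x ^ n = c} := by
  apply card_eq_mul_of_fibers (fun x : {x : G // IsConj c (x ^ n)} =>
    (⟨x.1 ^ n, x.2⟩ : {y : G // IsConj c y}))
  intro y
  obtain ⟨g, hg⟩ := isConj_iff.mp y.2
  refine Nat.card_congr ⟨fun x => ⟨g⁻¹ * x.1.1 * g, ?_⟩, fun x => ⟨⟨g * x.1 * g⁻¹, ?_⟩, ?_⟩,
    fun x => ?_, fun x => ?_⟩
  · have h1 : x.1.1 ^ n = y.1 := congrArg Subtype.val x.2
    rw [inv_conj_pow, h1, ← hg]; group
  · rw [conj_pow, x.2, hg]; exact y.2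
  · apply Subtype.ext
    show (g * x.1 * g⁻¹) ^ n = y.1
    rw [conj_pow, x.2, hg]
  · apply Subtype.ext; apply Subtype.ext
    show g * (g⁻¹ * x.1.1 * g) * g⁻¹ = x.1.1
    group
  · apply Subtype.ext
    show g⁻¹ * (g * x.1 * g⁻¹) * g = x.1
    group

theorem card_pow_eq_centralizer (c : G) (n : ℕ)
    (hcM : c ∈ Subgroup.centralizer ({c} : Set G)) :
    Nat.card {x : G // x ^ n = c} =
      Nat.card {x : Subgroup.centralizer ({c} : Set G) // x ^ n = ⟨c, hcM⟩} := by
  refine Nat.card_congr ⟨fun x => ⟨⟨x.1, ?_⟩, ?_⟩, fun x => ⟨x.1.1, ?_⟩, fun x => rfl, fun x => rfl⟩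
  · rw [Subgroup.mem_centralizer_singleton_iff]
    have h : x.1 ^ n = c := x.2
    have h' : x.1 * x.1 ^ n = x.1 ^ n * x.1 := (Commute.self_pow x.1 n).eq
    rwa [h] at h'
  · apply Subtype.ext
    show x.1 ^ n = c
    exact x.2
  · have := congrArg Subtype.val x.2
    simpa using this

theorem class_of_central (c : G) (n : ℕ)
    (hM : Nat.gcd n (Nat.card (Subgroup.centralizer ({c} : Set G))) ∣
      Nat.card {x : G // x ^ n = c}) :
    Nat.gcd (Nat.card {y : G // IsConj c y} * n) (Nat.card G) ∣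
      Nat.card {x : G // IsConj c (x ^ n)} := by
  rw [card_conj_pow, ← card_class_mul c, Nat.gcd_mul_left]
  exact Nat.mul_dvd_mul_left _ hM

theorem orderOf_eq_of_pow_eq {p a : ℕ} (hp : p.Prime) {y c : G}
    (h : y ^ (p ^ a) = c) (hpc : p ∣ orderOf c) : orderOf y = p ^ a * orderOf c := by
  have h1 : orderOf c = orderOf y / Nat.gcd (orderOf y) (p ^ a) := by
    rw [← h]; exact orderOf_pow' y (pow_ne_zero _ hp.ne_zero)
  obtain ⟨j, hj, hgcd⟩ := (Nat.dvd_prime_pow hp).1 (Nat.gcd_dvd_right (orderOf y) (p ^ a))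
  have hdy : p ^ j ∣ orderOf y := hgcd ▸ Nat.gcd_dvd_left _ _
  have h2 : orderOf y = p ^ j * orderOf c := by
    rw [h1, hgcd]; exact (Nat.mul_div_cancel' hdy).symm
  rcases Nat.lt_or_ge j a with hlt | hge
  · exfalso
    have h3 : p ^ (j + 1) ∣ orderOf y := by
      rw [h2, pow_succ]; exact Nat.mul_dvd_mul_left _ hpc
    have h4 : p ^ (j + 1) ∣ p ^ a := pow_dvd_pow p hlt
    have h5 : p ^ (j + 1) ∣ p ^ j := hgcd ▸ Nat.dvd_gcd h3 h4
    have := (Nat.pow_dvd_pow_iff_le_right hp.one_lt).mp h5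
    omega
  · have : j = a := le_antisymm hj hge
    rw [h2, this]

/-- (i) the free action argument -/
theorem dvd_card_pow_eq {p a : ℕ} (hp : p.Prime) (c : G) (hpc : p ∣ orderOf c) :
    p ^ a ∣ Nat.card {x : G // x ^ (p ^ a) = c} := by
  apply dvd_card_of_fibers (fun x : {x : G // x ^ (p ^ a) = c} => Subgroup.zpowers x.1)
  intro K
  by_cases hne : Nonempty {x : {x : G // x ^ (p ^ a) = c} // Subgroup.zpowers x.1 = K}
  · obtain ⟨⟨⟨x0, hx0⟩, hK⟩⟩ := hne
    replace hK : Subgroup.zpowers x0 = K := hK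
    obtain ⟨m, hm⟩ : ∃ m, m = orderOf c := ⟨_, rfl⟩
    have hmpos : 0 < m := hm ▸ orderOf_pos c
    have hox0 : orderOf x0 = p ^ a * m := hm ▸ orderOf_eq_of_pow_eq hp hx0 hpc
    have hT : Nat.card (Subgroup.zpowers (x0 ^ m)) = p ^ a := by
      rw [Nat.card_zpowers, orderOf_pow' x0 hmpos.ne', hox0,
        Nat.gcd_eq_right (dvd_mul_left m (p ^ a)), Nat.mul_div_cancel _ hmpos]
    have hpow1 : (x0 ^ m) ^ (p ^ a) = 1 := by
      rw [← pow_mul, mul_comm, ← hox0]; exact pow_orderOf_eq_one x0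
    have hfwd : ∀ x : G, x ^ (p ^ a) = c → Subgroup.zpowers x = K →
        x0⁻¹ * x ∈ Subgroup.zpowers (x0 ^ m) := by
      intro x hx hxK
      have hxmem : x ∈ Subgroup.zpowers x0 := by
        rw [hK, ← hxK]; exact Subgroup.mem_zpowers x
      obtain ⟨j, hj⟩ := Subgroup.mem_zpowers_iff.mp hxmem
      have e1 : x0 ^ ((j - 1) * ((p ^ a : ℕ) : ℤ)) = 1 := by
        rw [sub_mul, zpow_sub, zpow_mul, hj, zpow_natCast, hx, one_mul, zpow_natCast, hx0,
          mul_inv_cancel]
      have e2 : (orderOf x0 : ℤ) ∣ (j - 1) * ((p ^ a : ℕ) : ℤ) :=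
        orderOf_dvd_iff_zpow_eq_one.mpr e1
      rw [hox0] at e2
      push_cast at e2
      have e3 : (m : ℤ) ∣ j - 1 := by
        have : (p : ℤ) ^ a * (m : ℤ) ∣ (p : ℤ) ^ a * (j - 1) := by
          rwa [mul_comm ((p : ℤ) ^ a) (j - 1)]
        exact (mul_dvd_mul_iff_left (pow_ne_zero a (by exact_mod_cast hp.ne_zero))).mp this
      obtain ⟨i, hi⟩ := e3
      have e4 : x0⁻¹ * x = (x0 ^ m) ^ i := by
        rw [← hj, ← zpow_natCast x0 m, ← zpow_mul, ← hi,
          show j - 1 = -1 + j by ring, zpow_add, zpow_neg, zpow_one]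
      rw [e4]; exact Subgroup.zpow_mem_zpowers _ i
    have hbwd : ∀ t : G, t ∈ Subgroup.zpowers (x0 ^ m) →
        (x0 * t) ^ (p ^ a) = c ∧ Subgroup.zpowers (x0 * t) = K := by
      intro t ht
      obtain ⟨i, hi⟩ := Subgroup.mem_zpowers_iff.mp ht
      have hcomm : Commute x0 t := by
        rw [← hi]; exact ((Commute.refl x0).pow_right m).zpow_right i
      have htpow : t ^ (p ^ a) = 1 := by
        rw [← hi, ← zpow_natCast, ← zpow_mul, mul_comm, zpow_mul, zpow_natCast, hpow1, one_zpow]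
      have h1 : (x0 * t) ^ (p ^ a) = c := by
        rw [hcomm.mul_pow, hx0, htpow, mul_one]
      refine ⟨h1, ?_⟩
      rw [← hK]
      have htmem : t ∈ Subgroup.zpowers x0 := by
        rw [← hi]
        exact zpow_mem (pow_mem (Subgroup.mem_zpowers x0) m) i
      have hle : Subgroup.zpowers (x0 * t) ≤ Subgroup.zpowers x0 := by
        rw [Subgroup.zpowers_le]
        exact Subgroup.mul_mem _ (Subgroup.mem_zpowers x0) htmem
      apply Subgroup.eq_of_le_of_card_ge hle
      rw [Nat.card_zpowers, Nat.card_zpowers, hox0, hm, orderOf_eq_of_pow_eq hp h1 hpc]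
    have hequiv : {x : {x : G // x ^ (p ^ a) = c} // Subgroup.zpowers x.1 = K} ≃
        Subgroup.zpowers (x0 ^ m) :=
      { toFun := fun x => ⟨x0⁻¹ * x.1.1, hfwd x.1.1 x.1.2 x.2⟩
        invFun := fun t => ⟨⟨x0 * t.1, (hbwd t.1 t.2).1⟩, (hbwd t.1 t.2).2⟩
        left_inv := fun x => by
          apply Subtype.ext; apply Subtype.ext
          show x0 * (x0⁻¹ * x.1.1) = x.1.1
          group
        right_inv := fun t => by
          apply Subtype.ext
          show x0⁻¹ * (x0 * t.1) = t.1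
          group }
    rw [Nat.card_congr hequiv, hT]
  · rw [not_nonempty_iff] at hne
    rw [Nat.card_eq_zero.mpr (Or.inl hne)]
    exact dvd_zero _

/-- (ii) translation by a central root -/
theorem card_pow_eq_central_coprime {p a : ℕ} (hp : p.Prime) (c : G)
    (hc : c ∈ Subgroup.center G) (hpc : ¬ p ∣ orderOf c) :
    Nat.card {x : G // x ^ (p ^ a) = c} = Nat.card {x : G // x ^ (p ^ a) = 1} := by
  have hcop : Nat.Coprime (p ^ a) (orderOf c) :=
    Nat.Coprime.pow_left a ((Nat.Prime.coprime_iff_not_dvd hp).2 hpc)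
  obtain ⟨m, hm⟩ := exists_pow_eq_self_of_coprime hcop
  obtain ⟨c1, hc1def⟩ : ∃ c1, c1 = c ^ m := ⟨_, rfl⟩
  have hc1 : c1 ^ (p ^ a) = c := by
    rw [hc1def, ← pow_mul, mul_comm, pow_mul]; exact hm
  have hc1c : ∀ x : G, Commute x c1 := by
    intro x
    rw [hc1def]
    exact Commute.pow_right (Subgroup.mem_center_iff.mp hc x) m
  refine Nat.card_congr ⟨fun x => ⟨x.1 * c1⁻¹, ?_⟩, fun x => ⟨x.1 * c1, ?_⟩,
    fun x => ?_, fun x => ?_⟩
  · rw [(hc1c x.1).inv_right.mul_pow, x.2, inv_pow, hc1, mul_inv_cancel]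
  · rw [(hc1c x.1).mul_pow, x.2, one_mul, hc1]
  · apply Subtype.ext
    show x.1 * c1⁻¹ * c1 = x.1
    group
  · apply Subtype.ext
    show x.1 * c1 * c1⁻¹ = x.1
    group

/-- the number of central `p'`-elements is prime to `p` -/
theorem coprime_card_central_pprime {p : ℕ} (hp : p.Prime) :
    Nat.Coprime p (Nat.card {d : G // d ∈ Subgroup.center G ∧ ¬ p ∣ orderOf d}) := by
  haveI : Fact p.Prime := ⟨hp⟩
  let Z' : Subgroup G :=
    { carrier := {d | d ∈ Subgroup.center G ∧ ¬ p ∣ orderOf d}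
      one_mem' := ⟨one_mem _, by rw [orderOf_one]; exact hp.one_lt.ne' ∘ Nat.dvd_one.mp⟩
      mul_mem' := by
        intro x y hx hy
        refine ⟨mul_mem hx.1 hy.1, fun h => ?_⟩
        have hcomm : Commute x y := (Subgroup.mem_center_iff.mp hy.1 x)
        have h1 : p ∣ Nat.lcm (orderOf x) (orderOf y) := h.trans hcomm.orderOf_mul_dvd_lcm
        have h2 : p ∣ orderOf x * orderOf y := h1.trans (Nat.lcm_dvd_mul _ _)
        rcases (Nat.Prime.dvd_mul hp).1 h2 with h3 | h3
        · exact hx.2 h3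
        · exact hy.2 h3
      inv_mem' := by
        intro x hx
        exact ⟨inv_mem hx.1, by rw [orderOf_inv]; exact hx.2⟩ }
  have hcard : Nat.card {d : G // d ∈ Subgroup.center G ∧ ¬ p ∣ orderOf d} = Nat.card Z' :=
    Nat.card_congr (Equiv.subtypeEquivRight (fun d => Iff.rfl))
  rw [hcard, Nat.Prime.coprime_iff_not_dvd hp]
  intro h
  obtain ⟨x, hx⟩ := exists_prime_orderOf_dvd_card' p h
  have hx2 : ¬ p ∣ orderOf (x : G) := x.2.2
  rw [Subgroup.orderOf_coe, hx] at hx2
  exact hx2 dvd_rfl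

theorem prime_power_case (p a : ℕ) (hp : p.Prime)
    (hPnc : ∀ d : G, d ∉ Subgroup.center G →
      Nat.gcd (Nat.card {y : G // IsConj d y} * p ^ a) (Nat.card G) ∣
        Nat.card {x : G // IsConj d (x ^ (p ^ a))})
    (IHn : ∀ n' < p ^ a, ∀ c : G, c ∈ Subgroup.center G →
      Nat.gcd n' (Nat.card G) ∣ Nat.card {x : G // x ^ n' = c})
    (c : G) (hc : c ∈ Subgroup.center G) :
    Nat.gcd (p ^ a) (Nat.card G) ∣ Nat.card {x : G // x ^ (p ^ a) = c} := by
  classical
  by_cases hpc : p ∣ orderOf c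
  · exact (Nat.gcd_dvd_left _ _).trans (dvd_card_pow_eq hp c hpc)
  rw [card_pow_eq_central_coprime hp c hc hpc]
  by_cases hdvd : p ^ a ∣ Nat.card G
  · -- (iii-b)
    rw [Nat.gcd_eq_left hdvd]
    obtain ⟨q, hq⟩ : ∃ q, q = p ^ a := ⟨_, rfl⟩
    rw [← hq] at hdvd hPnc ⊢
    let Good : G → Prop := fun x => x ^ q ∈ Subgroup.center G ∧ ¬ p ∣ orderOf (x ^ q)
    have hsum : Nat.card G = Nat.card {x : G // Good x} + Nat.card {x : G // ¬ Good x} := by
      rw [← Nat.card_sum]
      exact Nat.card_congr (Equiv.sumCompl Good).symm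
    have hgood : Nat.card {x : G // Good x} =
        Nat.card {d : G // d ∈ Subgroup.center G ∧ ¬ p ∣ orderOf d} *
          Nat.card {x : G // x ^ q = 1} := by
      apply card_eq_mul_of_fibers (fun x : {x : G // Good x} =>
        (⟨x.1 ^ q, x.2⟩ : {d : G // d ∈ Subgroup.center G ∧ ¬ p ∣ orderOf d}))
      intro d
      have hN := card_pow_eq_central_coprime (a := a) hp d.1 d.2.1 d.2.2
      rw [← hq] at hN
      rw [← hN]
      refine Nat.card_congr ⟨fun x => ⟨x.1.1, congrArg Subtype.val x.2⟩,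
        fun x => ⟨⟨x.1, ?_⟩, Subtype.ext x.2⟩, fun x => rfl, fun x => rfl⟩
      show x.1 ^ q ∈ Subgroup.center G ∧ ¬ p ∣ orderOf (x.1 ^ q)
      rw [x.2]; exact d.2
    have hbad : q ∣ Nat.card {x : G // ¬ Good x} := by
      apply dvd_card_of_fibers (fun x : {x : G // ¬ Good x} => ConjClasses.mk (x.1 ^ q))
      intro D
      obtain ⟨d, rfl⟩ := ConjClasses.exists_rep D
      by_cases hd : d ∈ Subgroup.center G
      · by_cases hpd : p ∣ orderOf d
        · have hequiv : {x : {x : G // ¬ Good x} // ConjClasses.mk (x.1 ^ q) = ConjClasses.mk d} ≃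
              {x : G // x ^ q = d} :=
            { toFun := fun x => ⟨x.1.1,
                conj_central hd (ConjClasses.mk_eq_mk_iff_isConj.mp x.2).symm⟩
              invFun := fun x => ⟨⟨x.1, fun hg => hg.2 (by rw [x.2]; exact hpd)⟩, by
                show ConjClasses.mk (x.1 ^ q) = ConjClasses.mk d
                rw [x.2]⟩
              left_inv := fun x => rfl
              right_inv := fun x => rfl }
          rw [Nat.card_congr hequiv, hq]
          exact dvd_card_pow_eq hp d hpd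
        · have hemp : IsEmpty {x : {x : G // ¬ Good x} //
              ConjClasses.mk (x.1 ^ q) = ConjClasses.mk d} := by
            refine ⟨fun x => x.1.2 ?_⟩
            have h1 : x.1.1 ^ q = d :=
              conj_central hd (ConjClasses.mk_eq_mk_iff_isConj.mp x.2).symm
            show x.1.1 ^ q ∈ Subgroup.center G ∧ ¬ p ∣ orderOf (x.1.1 ^ q)
            rw [h1]; exact ⟨hd, hpd⟩
          rw [Nat.card_eq_zero.mpr (Or.inl hemp)]
          exact dvd_zero _
      · have hequiv : {x : {x : G // ¬ Good x} // ConjClasses.mk (x.1 ^ q) = ConjClasses.mk d} ≃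
            {x : G // IsConj d (x ^ q)} :=
          { toFun := fun x => ⟨x.1.1, (ConjClasses.mk_eq_mk_iff_isConj.mp x.2).symm⟩
            invFun := fun x => ⟨⟨x.1, fun hg => hd (by
                have h1 : d = x.1 ^ q := conj_central hg.1 x.2.symm
                rw [h1]; exact hg.1)⟩,
              ConjClasses.mk_eq_mk_iff_isConj.mpr x.2.symm⟩
            left_inv := fun x => rfl
            right_inv := fun x => rfl }
        rw [Nat.card_congr hequiv]
        exact (Nat.dvd_gcd (dvd_mul_left q _) hdvd).trans (hPnc d hd)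
    have hcop : Nat.Coprime q (Nat.card {d : G // d ∈ Subgroup.center G ∧ ¬ p ∣ orderOf d}) := by
      rw [hq]; exact Nat.Coprime.pow_left a (coprime_card_central_pprime hp)
    have h1 : q ∣ Nat.card {x : G // Good x} := by
      rw [hsum] at hdvd
      exact (Nat.dvd_add_left hbad).mp hdvd
    rw [hgood] at h1
    exact hcop.dvd_of_dvd_mul_left h1
  · -- (iii-a)
    obtain ⟨b, hb, hgcd⟩ := (Nat.dvd_prime_pow hp).1 (Nat.gcd_dvd_left (p ^ a) (Nat.card G))
    have hblt : b < a := by
      rcases Nat.lt_or_ge b a with h | h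
      · exact h
      · exfalso; apply hdvd
        have : b = a := le_antisymm hb h
        rw [← this, ← hgcd]; exact Nat.gcd_dvd_right _ _
    have hsets : Nat.card {x : G // x ^ (p ^ a) = 1} = Nat.card {x : G // x ^ (p ^ b) = 1} := by
      apply Nat.card_congr (Equiv.subtypeEquivRight _)
      intro x; constructor
      · intro h
        have h1 : orderOf x ∣ p ^ a := orderOf_dvd_of_pow_eq_one h
        have h2 : orderOf x ∣ Nat.card G := orderOf_dvd_natCard x
        have h3 := Nat.dvd_gcd h1 h2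
        rw [hgcd] at h3
        exact orderOf_dvd_iff_pow_eq_one.mp h3
      · intro h
        obtain ⟨k, hk⟩ := pow_dvd_pow p hblt.le
        rw [hk, pow_mul, h, one_pow]
    rw [hsets, hgcd]
    have h4 := IHn (p ^ b) (Nat.pow_lt_pow_right hp.one_lt hblt) 1 (one_mem _)
    rwa [Nat.gcd_eq_left (hgcd ▸ Nat.gcd_dvd_right _ _)] at h4

/-- coprime splitting -/
theorem split_dvd (n1 n2 : ℕ) (c : G) (hc : c ∈ Subgroup.center G)
    (hP : ∀ y : G, Nat.gcd (Nat.card {z : G // IsConj y z} * n1) (Nat.card G) ∣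
      Nat.card {x : G // IsConj y (x ^ n1)}) :
    Nat.gcd n1 (Nat.card G) ∣ Nat.card {x : G // x ^ (n1 * n2) = c} := by
  apply dvd_card_of_fibers (fun x : {x : G // x ^ (n1 * n2) = c} => ConjClasses.mk (x.1 ^ n1))
  intro D
  obtain ⟨y, rfl⟩ := ConjClasses.exists_rep D
  by_cases hy : y ^ n2 = c
  · have hequiv : {x : {x : G // x ^ (n1 * n2) = c} //
        ConjClasses.mk (x.1 ^ n1) = ConjClasses.mk y} ≃ {x : G // IsConj y (x ^ n1)} :=
      { toFun := fun x => ⟨x.1.1, (ConjClasses.mk_eq_mk_iff_isConj.mp x.2).symm⟩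
        invFun := fun x => ⟨⟨x.1, by
            obtain ⟨g, hg⟩ := isConj_iff.mp x.2
            rw [pow_mul, ← hg, conj_pow, hy, Subgroup.mem_center_iff.mp hc g,
              mul_inv_cancel_right]⟩,
          ConjClasses.mk_eq_mk_iff_isConj.mpr x.2.symm⟩
        left_inv := fun x => rfl
        right_inv := fun x => rfl }
    rw [Nat.card_congr hequiv]
    exact (Nat.dvd_gcd (dvd_mul_of_dvd_right (Nat.gcd_dvd_left _ _) _)
      (Nat.gcd_dvd_right _ _)).trans (hP y)
  · have hemp : IsEmpty {x : {x : G // x ^ (n1 * n2) = c} //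
        ConjClasses.mk (x.1 ^ n1) = ConjClasses.mk y} := by
      refine ⟨fun x => hy ?_⟩
      obtain ⟨g, hg⟩ := isConj_iff.mp (ConjClasses.mk_eq_mk_iff_isConj.mp x.2)
      have h1 : x.1.1 ^ (n1 * n2) = c := x.1.2
      rw [← hg, conj_pow, ← pow_mul, h1, Subgroup.mem_center_iff.mp hc g, mul_inv_cancel_right]
    rw [Nat.card_eq_zero.mpr (Or.inl hemp)]
    exact dvd_zero _

end

theorem central_count : ∀ (g : ℕ) (G : Type u) [Group G] [Finite G], Nat.card G = g →
    ∀ (n : ℕ) (c : G), c ∈ Subgroup.center G →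
      Nat.gcd n g ∣ Nat.card {x : G // x ^ n = c} := by
  intro g
  induction g using Nat.strong_induction_on with
  | _ g IHg =>
  intro G _ _ hg n
  have hPnc : ∀ (n' : ℕ) (d : G), d ∉ Subgroup.center G →
      Nat.gcd (Nat.card {y : G // IsConj d y} * n') g ∣
        Nat.card {x : G // IsConj d (x ^ n')} := by
    intro n' d hd
    rw [← hg]
    apply class_of_central
    have hdM : d ∈ Subgroup.centralizer ({d} : Set G) :=
      Subgroup.mem_centralizer_singleton_iff.mpr rfl
    rw [card_pow_eq_centralizer d n' hdM]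
    have hlt : Nat.card (Subgroup.centralizer ({d} : Set G)) < g := by
      rw [← hg]
      apply lt_of_le_of_ne (Subgroup.card_le_card_group _)
      intro heq
      apply hd
      have htop := Subgroup.eq_top_of_card_eq _ heq
      rw [Subgroup.centralizer_eq_top_iff_subset] at htop
      exact htop rfl
    apply IHg _ hlt _ rfl n' ⟨d, hdM⟩
    rw [Subgroup.mem_center_iff]
    intro x
    apply Subtype.ext
    exact Subgroup.mem_centralizer_singleton_iff.mp x.2
  induction n using Nat.strong_induction_on with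
  | _ n IHn =>
  intro c hc
  have hP : ∀ n' < n, ∀ d : G, Nat.gcd (Nat.card {y : G // IsConj d y} * n') g ∣
      Nat.card {x : G // IsConj d (x ^ n')} := by
    intro n' hn' d
    by_cases hd : d ∈ Subgroup.center G
    · rw [← hg]
      apply class_of_central
      have htop : Subgroup.centralizer ({d} : Set G) = ⊤ := by
        rw [Subgroup.centralizer_eq_top_iff_subset]
        intro x hx
        rw [Set.mem_singleton_iff] at hx
        rw [hx]; exact hd
      rw [htop, Subgroup.card_top, hg]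
      exact IHn n' hn' d hd
    · exact hPnc n' d hd
  rcases Nat.eq_zero_or_pos n with rfl | hnpos
  · rw [Nat.gcd_zero_left]
    by_cases h : c = 1
    · have : Nat.card {x : G // x ^ 0 = c} = Nat.card G :=
        Nat.card_congr (Equiv.subtypeUnivEquiv (fun x => by simp [h]))
      rw [this, hg]
    · have hemp : IsEmpty {x : G // x ^ 0 = c} := ⟨fun x => h (by simpa using x.2.symm)⟩
      rw [Nat.card_eq_zero.mpr (Or.inl hemp)]
      exact dvd_zero _
  by_cases hn1 : n = 1
  · rw [hn1, Nat.gcd_one_left]; exact one_dvd _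
  obtain ⟨p, hpdef⟩ : ∃ p, p = n.minFac := ⟨_, rfl⟩
  have hp : p.Prime := hpdef ▸ Nat.minFac_prime hn1
  obtain ⟨k, m, hpm, hnkm⟩ := Nat.exists_eq_pow_mul_and_not_dvd hnpos.ne' p hp.ne_one
  have hk : 0 < k := by
    rcases Nat.eq_zero_or_pos k with rfl | h
    · exfalso
      rw [pow_zero, one_mul] at hnkm
      apply hpm
      rw [← hnkm, hpdef]; exact Nat.minFac_dvd n
    · exact h
  have hm0 : m ≠ 0 := by
    rintro rfl
    rw [mul_zero] at hnkm
    exact hnpos.ne' hnkm
  by_cases hm1 : m = 1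
  · rw [hm1, mul_one] at hnkm
    subst hnkm
    rw [← hg]
    apply prime_power_case p k hp
    · intro d hd
      rw [hg]; exact hPnc (p ^ k) d hd
    · intro n' hn' c' hc'
      rw [hg]; exact IHn n' hn' c' hc'
    · exact hc
  · have hcop : Nat.Coprime (p ^ k) m :=
      Nat.Coprime.pow_left k ((Nat.Prime.coprime_iff_not_dvd hp).2 hpm)
    have hpk1 : 1 < p ^ k := Nat.one_lt_pow hk.ne' hp.one_lt
    have hm2 : 1 < m := by omega
    have hlt1 : p ^ k < n := by
      rw [hnkm]; exact lt_mul_of_one_lt_right (by omega) hm2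
    have hlt2 : m < n := by
      rw [hnkm]; exact lt_mul_of_one_lt_left (by omega) hpk1
    have hd1 : Nat.gcd (p ^ k) g ∣ Nat.card {x : G // x ^ n = c} := by
      rw [hnkm, ← hg]
      apply split_dvd (p ^ k) m c hc
      intro y
      rw [hg]; exact hP (p ^ k) hlt1 y
    have hd2 : Nat.gcd m g ∣ Nat.card {x : G // x ^ n = c} := by
      rw [hnkm, mul_comm, ← hg]
      apply split_dvd m (p ^ k) c hc
      intro y
      rw [hg]; exact hP m hlt2 y
    have hcop2 : Nat.Coprime (Nat.gcd (p ^ k) g) (Nat.gcd m g) :=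
      Nat.Coprime.coprime_dvd_left (Nat.gcd_dvd_left _ _)
        (Nat.Coprime.coprime_dvd_right (Nat.gcd_dvd_left _ _) hcop)
    have h3 : Nat.gcd n g ∣ Nat.gcd (p ^ k) g * Nat.gcd m g := by
      rw [hnkm, Nat.gcd_comm (p ^ k * m) g, Nat.gcd_comm (p ^ k) g, Nat.gcd_comm m g,
        Nat.Coprime.gcd_mul g hcop]
    exact h3.trans (hcop2.mul_dvd_of_dvd_of_dvd hd1 hd2)

theorem result {G : Type*} [Group G] [Finite G] (c : G) (n : ℕ) : Nat.gcd (Nat.card {y : G // IsConj c y} * n) (Nat.card G) ∣ Nat.card {x : G // IsConj c (x ^ n)} := by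
  apply class_of_central
  have hcM : c ∈ Subgroup.centralizer ({c} : Set G) :=
    Subgroup.mem_centralizer_singleton_iff.mpr rfl
  rw [card_pow_eq_centralizer c n hcM]
  refine central_count _ (Subgroup.centralizer ({c} : Set G)) rfl n ⟨c, hcM⟩ ?_
  rw [Subgroup.mem_center_iff]
  intro x
  apply Subtype.ext
  exact Subgroup.mem_centralizer_singleton_iff.mp x.2

end Cfsg.Agent.S4212
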