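import Cfsg.Statements.S4213
import Cfsg.Agent.S4212
import Mathlib

set_option autoImplicit false
open Cfsg

namespace Cfsg.Agent.S4213

universe u

/-- Frobenius' theorem -/
theorem frobenius {G : Type u} [Group G] [Finite G] (n : ℕ) (hn : n ∣ Nat.card G) :
    n ∣ Nat.card {x : G // x ^ n = 1} := by
  have h := Cfsg.Agent.S4212.central_count (Nat.card G) G rfl n 1 (one_mem _)
  rwa [Nat.gcd_eq_left hn] at h

theorem card_preimage {G : Type u} [Group G] [Finite G] (K : Subgroup G) (S : Set (G ⧸ K)) :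
    Nat.card ((QuotientGroup.mk : G → G ⧸ K) ⁻¹' S) = Nat.card K * Nat.card S := by
  rw [← Nat.card_prod]
  exact Nat.card_congr (QuotientGroup.preimageMkEquivSubgroupProdSet K S)

/-- a nontrivial normal subgroup of exponent `p` in a nontrivial solvable group -/
theorem exists_normal_exponent_p {G : Type u} [Group G] [Finite G] [Group.IsSolvable G] [Nontrivial G] :
    ∃ (p : ℕ) (K : Subgroup G), p.Prime ∧ K.Normal ∧ K ≠ ⊥ ∧ ∀ k ∈ K, k ^ p = 1 := by
  classical
  have hex : ∃ k, derivedSeries G k = ⊥ := Group.IsSolvable.solvable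
  obtain ⟨k0, hk0def⟩ : ∃ k0, k0 = Nat.find hex := ⟨_, rfl⟩
  have hk0 : derivedSeries G k0 = ⊥ := hk0def ▸ Nat.find_spec hex
  have hk0ne : k0 ≠ 0 := by
    rintro rfl
    rw [derivedSeries_zero] at hk0
    exact top_ne_bot hk0
  obtain ⟨j, hj⟩ : ∃ j, k0 = j + 1 := Nat.exists_eq_succ_of_ne_zero hk0ne
  obtain ⟨A, hAdef⟩ : ∃ A, A = derivedSeries G j := ⟨_, rfl⟩
  have hAne : A ≠ ⊥ := by
    rw [hAdef]
    exact Nat.find_min hex (by omega : j < Nat.find hex)
  have hAn : A.Normal := hAdef ▸ derivedSeries_normal G j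
  have hAab : ∀ a ∈ A, ∀ b ∈ A, a * b = b * a := by
    have h1 : ⁅A, A⁆ = ⊥ := by
      rw [hAdef, ← derivedSeries_succ, ← hj]; exact hk0
    rw [Subgroup.commutator_eq_bot_iff_le_centralizer] at h1
    intro a ha b hb
    exact (Subgroup.mem_centralizer_iff.mp (h1 ha) b hb).symm
  have hcard : Nat.card A ≠ 1 := by
    intro h
    exact hAne (Subgroup.card_eq_one.mp h)
  obtain ⟨p, hp, hpd⟩ := Nat.exists_prime_and_dvd hcard
  haveI : Fact p.Prime := ⟨hp⟩
  obtain ⟨a, ha⟩ := exists_prime_orderOf_dvd_card' p hpd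
  let K : Subgroup G :=
    { carrier := {x | x ∈ A ∧ x ^ p = 1}
      one_mem' := ⟨one_mem _, one_pow _⟩
      mul_mem' := by
        intro x y hx hy
        refine ⟨mul_mem hx.1 hy.1, ?_⟩
        have hc : Commute x y := hAab x hx.1 y hy.1
        rw [hc.mul_pow, hx.2, hy.2, one_mul]
      inv_mem' := by
        intro x hx
        exact ⟨inv_mem hx.1, by rw [inv_pow, hx.2, inv_one]⟩ }
  refine ⟨p, K, hp, ⟨fun x hx g => ⟨hAn.conj_mem x hx.1 g, ?_⟩⟩, ?_, fun k hk => hk.2⟩
  · rw [conj_pow, hx.2, mul_one, mul_inv_cancel]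
  · intro hbot
    have hamem : (a : G) ∈ K := by
      refine ⟨a.2, ?_⟩
      have h1 : a ^ p = 1 := by rw [← ha]; exact pow_orderOf_eq_one a
      have h2 := congrArg Subtype.val h1
      simpa using h2
    rw [hbot, Subgroup.mem_bot] at hamem
    have h3 : a = 1 := Subtype.ext hamem
    rw [h3, orderOf_one] at ha
    exact hp.one_lt.ne ha

theorem main : ∀ (g : ℕ) (G : Type u) [Group G] [Finite G] [Group.IsSolvable G], Nat.card G = g →
    ∀ n : ℕ, n ∣ g → Nat.card {x : G // x ^ n = 1} = n →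
      ∃ H : Subgroup G, (H : Set G) = {x : G | x ^ n = 1} := by
  intro g
  induction g using Nat.strong_induction_on with
  | _ g IH =>
  intro G _ _ _ hg n hn hcount
  by_cases hnt : Nontrivial G
  swap
  · rw [not_nontrivial_iff_subsingleton] at hnt
    refine ⟨⊤, ?_⟩
    ext x
    simp [Subsingleton.elim x 1]
  obtain ⟨p, K, hp, hKn, hKbot, hKexp⟩ := exists_normal_exponent_p (G := G)
  haveI := hKn
  haveI : Fact p.Prime := ⟨hp⟩
  have hnpos : 0 < n := by
    rw [← hcount]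
    haveI : Nonempty {x : G // x ^ n = 1} := ⟨⟨1, one_pow n⟩⟩
    exact Nat.card_pos
  have hq : Nat.card G = Nat.card (G ⧸ K) * Nat.card K :=
    Subgroup.card_eq_card_quotient_mul_card_subgroup K
  have hK1 : 1 < Nat.card K := (Subgroup.one_lt_card_iff_ne_bot K).mpr hKbot
  have hlt : Nat.card (G ⧸ K) < g := by
    rw [← hg, hq]; exact lt_mul_of_one_lt_right Nat.card_pos hK1
  have hKp : IsPGroup p K := by
    intro k
    refine ⟨1, ?_⟩
    rw [pow_one]
    exact Subtype.ext (hKexp k.1 k.2)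
  obtain ⟨i, hi⟩ := (IsPGroup.iff_card).mp hKp
  have hi0 : i ≠ 0 := by
    rintro rfl
    rw [pow_zero] at hi; omega
  obtain ⟨q, hqdef⟩ : ∃ q, q = Nat.card K := ⟨_, rfl⟩
  obtain ⟨gb, hgb⟩ : ∃ gb, gb = Nat.card (G ⧸ K) := ⟨_, rfl⟩
  rw [← hqdef, ← hgb] at hq
  rw [← hqdef] at hK1 hi
  have hqpos : 0 < q := by omega
  have hmemK : ∀ x : G, ((x : G ⧸ K)) = 1 ↔ x ∈ K := fun x => QuotientGroup.eq_one_iff x
  have hngq : n ∣ gb * q := by rw [← hq, hg]; exact hn
  have hLn : ({x : G | x ^ n = 1} : Set G).ncard = n := by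
    rw [← Nat.card_coe_set_eq]; exact hcount
  by_cases hpn : p ∣ n
  · -- Case A
    obtain ⟨d, hddef⟩ : ∃ d, d = Nat.gcd n q := ⟨_, rfl⟩
    have hdn : d ∣ n := hddef ▸ Nat.gcd_dvd_left n q
    have hdq : d ∣ q := hddef ▸ Nat.gcd_dvd_right n q
    have hdpos : 0 < d := hddef ▸ Nat.gcd_pos_of_pos_left q hnpos
    obtain ⟨nb, hnb⟩ : ∃ nb, n = nb * d := ⟨n / d, (Nat.div_mul_cancel hdn).symm⟩
    obtain ⟨q', hq'⟩ : ∃ q', q = q' * d := ⟨q / d, (Nat.div_mul_cancel hdq).symm⟩
    have hcop : Nat.Coprime nb q' := by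
      have h1 := Nat.coprime_div_gcd_div_gcd (m := n) (n := q) (hddef ▸ hdpos)
      rw [← hddef] at h1
      rwa [hnb, hq', Nat.mul_div_cancel _ hdpos, Nat.mul_div_cancel _ hdpos] at h1
    have hnbpos : 0 < nb := by
      rcases Nat.eq_zero_or_pos nb with h | h
      · rw [h, zero_mul] at hnb; omega
      · exact h
    have hnbgb : nb ∣ gb := by
      have h1 : nb * d ∣ gb * q' * d := by rw [← hnb, mul_assoc, ← hq']; exact hngq
      have h2 : nb ∣ gb * q' := Nat.dvd_of_mul_dvd_mul_right hdpos h1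
      exact hcop.dvd_of_dvd_mul_right h2
    have hpd : p ∣ d := by
      rw [hddef]; apply Nat.dvd_gcd hpn
      rw [hi]; exact dvd_pow_self p hi0
    have hfrob : nb ∣ Nat.card {y : G ⧸ K // y ^ nb = 1} := frobenius nb (hgb ▸ hnbgb)
    obtain ⟨S, hS⟩ : ∃ S : Set (G ⧸ K), S = {y | y ^ nb = 1} := ⟨_, rfl⟩
    obtain ⟨cnt, hcnt⟩ : ∃ cnt, cnt = Nat.card {y : G ⧸ K // y ^ nb = 1} := ⟨_, rfl⟩
    have hcntS : Nat.card S = cnt := by rw [hcnt, hS]; rfl
    rw [← hcnt] at hfrob
    have hcntpos : 0 < cnt := by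
      rw [hcnt]
      haveI : Nonempty {y : G ⧸ K // y ^ nb = 1} := ⟨⟨1, one_pow nb⟩⟩
      exact Nat.card_pos
    obtain ⟨P, hP⟩ : ∃ P : Set G, P = (QuotientGroup.mk : G → G ⧸ K) ⁻¹' S := ⟨_, rfl⟩
    have hPcard : Nat.card P = q * cnt := by
      rw [hP, card_preimage, hcntS, hqdef]
    have hPsub : P ⊆ {x : G | x ^ n = 1} := by
      intro x hx
      rw [hP, Set.mem_preimage, hS] at hx
      have h1 : ((x : G ⧸ K)) ^ nb = 1 := hx
      rw [← QuotientGroup.mk_pow, hmemK] at h1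
      have h2 := hKexp _ h1
      obtain ⟨d', hd'⟩ := hpd
      show x ^ n = 1
      rw [hnb, hd', ← mul_assoc, pow_mul, pow_mul, h2, one_pow]
    have hle : q * cnt ≤ n := by
      rw [← hPcard, ← hLn, Nat.card_coe_set_eq]
      exact Set.ncard_le_ncard hPsub (Set.toFinite _)
    obtain ⟨k, hk⟩ := hfrob
    have hkpos : 0 < k := by
      rcases Nat.eq_zero_or_pos k with h | h
      · rw [h, mul_zero] at hk; omega
      · exact h
    have h1 : nb * (q * k) ≤ nb * d := by
      calc nb * (q * k) = q * cnt := by rw [hk]; ring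
        _ ≤ n := hle
        _ = nb * d := hnb
    have h2 : q * k ≤ d := Nat.le_of_mul_le_mul_left h1 hnbpos
    have h3 : d ≤ q := Nat.le_of_dvd hqpos hdq
    have hk1 : k = 1 := by
      have : q * k ≤ q * 1 := by omega
      have := Nat.le_of_mul_le_mul_left this hqpos
      omega
    have hdq' : d = q := by
      rw [hk1, mul_one] at h2; omega
    have hcnteq : cnt = nb := by rw [hk, hk1, mul_one]
    obtain ⟨Hb, hHb⟩ := IH gb (hgb ▸ hlt) (G ⧸ K) hgb.symm nb hnbgb (by rw [← hcnt, hcnteq])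
    refine ⟨Hb.comap (QuotientGroup.mk' K), ?_⟩
    have hHP : ((Hb.comap (QuotientGroup.mk' K) : Subgroup G) : Set G) = P := by
      ext x
      rw [hP, hS, ← hHb]
      rfl
    rw [hHP]
    apply Set.eq_of_subset_of_ncard_le hPsub _ (Set.toFinite _)
    rw [hLn, ← Nat.card_coe_set_eq, hPcard, hcnteq, hnb, hdq', mul_comm]
  · -- Case B
    have hcop : Nat.Coprime n q := by
      rw [hi]
      exact Nat.Coprime.pow_right i ((Nat.Prime.coprime_iff_not_dvd hp).2 hpn).symm
    have hngb : n ∣ gb := hcop.dvd_of_dvd_mul_right hngq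
    have hfrob : n ∣ Nat.card {y : G ⧸ K // y ^ n = 1} := frobenius n (hgb ▸ hngb)
    have hsurj : ∀ y : G ⧸ K, y ^ n = 1 → ∃ x : G, x ^ n = 1 ∧ (x : G ⧸ K) = y := by
      intro y hy
      obtain ⟨x0, rfl⟩ := QuotientGroup.mk_surjective y
      have hord : orderOf (x0 : G ⧸ K) ∣ n := orderOf_dvd_of_pow_eq_one hy
      have hcp : Nat.Coprime p (orderOf (x0 : G ⧸ K)) :=
        Nat.Coprime.coprime_dvd_right hord ((Nat.Prime.coprime_iff_not_dvd hp).2 hpn)
      obtain ⟨m, hm⟩ := exists_pow_eq_self_of_coprime hcp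
      refine ⟨(x0 ^ p) ^ m, ?_, ?_⟩
      · have h1 : x0 ^ n ∈ K := by
          rw [← hmemK, QuotientGroup.mk_pow]; exact hy
        have h2 := hKexp _ h1
        calc ((x0 ^ p) ^ m) ^ n = ((x0 ^ n) ^ p) ^ m := by
              rw [← pow_mul, ← pow_mul, ← pow_mul, ← pow_mul]; congr 1; ring
          _ = 1 := by rw [h2, one_pow]
      · rw [QuotientGroup.mk_pow, QuotientGroup.mk_pow]; exact hm
    have hcnt : Nat.card {y : G ⧸ K // y ^ n = 1} = n := by
      have hle : Nat.card {y : G ⧸ K // y ^ n = 1} ≤ n := by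
        have h1 := Nat.card_le_card_of_surjective
          (fun x : {x : G // x ^ n = 1} => (⟨(x.1 : G ⧸ K), by
            rw [← QuotientGroup.mk_pow, x.2]; rfl⟩ : {y : G ⧸ K // y ^ n = 1}))
          (by
            intro y
            obtain ⟨x, hx1, hx2⟩ := hsurj y.1 y.2
            exact ⟨⟨x, hx1⟩, Subtype.ext hx2⟩)
        rwa [hcount] at h1
      have hpos : 0 < Nat.card {y : G ⧸ K // y ^ n = 1} := by
        haveI : Nonempty {y : G ⧸ K // y ^ n = 1} := ⟨⟨1, one_pow n⟩⟩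
        exact Nat.card_pos
      exact le_antisymm hle (Nat.le_of_dvd hpos hfrob)
    obtain ⟨Hb, hHb⟩ := IH gb (hgb ▸ hlt) (G ⧸ K) hgb.symm n hngb hcnt
    obtain ⟨H, hHdef⟩ : ∃ H : Subgroup G, H = Hb.comap (QuotientGroup.mk' K) := ⟨_, rfl⟩
    have hHset : (H : Set G) = (QuotientGroup.mk : G → G ⧸ K) ⁻¹' (Hb : Set (G ⧸ K)) := by
      rw [hHdef]; rfl
    have hHbcard : Nat.card Hb = n := by
      rw [← hcnt]
      have : Nat.card Hb = Nat.card ((Hb : Set (G ⧸ K))) := rfl
      rw [this, hHb]; rfl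
    have hHcard : Nat.card H = q * n := by
      have h1 : Nat.card H = Nat.card ((QuotientGroup.mk : G → G ⧸ K) ⁻¹' (Hb : Set (G ⧸ K))) :=
        Nat.card_congr (Equiv.setCongr hHset)
      rw [h1, card_preimage, ← hqdef]
      congr 1
    have hKH : K ≤ H := by
      intro k hk
      rw [hHdef, Subgroup.mem_comap]
      have : (QuotientGroup.mk' K) k = 1 := (hmemK k).mpr hk
      rw [this]; exact one_mem _
    have hLH : ∀ x : G, x ^ n = 1 → x ∈ H := by
      intro x hx
      rw [hHdef, Subgroup.mem_comap]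
      have h1 : ((QuotientGroup.mk' K) x) ^ n = 1 := by rw [← map_pow, hx, map_one]
      have h2 : (QuotientGroup.mk' K) x ∈ (Hb : Set (G ⧸ K)) := by rw [hHb]; exact h1
      exact h2
    -- Schur–Zassenhaus inside H
    have hKHcard : Nat.card (K.subgroupOf H) = q := by
      rw [hqdef]
      exact Nat.card_congr (Subgroup.subgroupOfEquivOfLe hKH).toEquiv
    have hKHindex : (K.subgroupOf H).index = n := by
      have h1 := Subgroup.card_mul_index (K.subgroupOf H)
      rw [hKHcard, hHcard] at h1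
      exact Nat.eq_of_mul_eq_mul_left hqpos h1
    have hcop2 : Nat.Coprime (Nat.card (K.subgroupOf H)) (K.subgroupOf H).index := by
      rw [hKHcard, hKHindex]; exact hcop.symm
    obtain ⟨M', hM'⟩ := Subgroup.exists_right_complement'_of_coprime hcop2
    have hM'card : Nat.card M' = n := by
      rw [← hKHindex]; exact (hM'.symm.index_eq_card).symm
    have hM'pow : ∀ m : M', ((m : H) : G) ^ n = 1 := by
      intro m
      have h1 : m ^ n = 1 := by rw [← hM'card]; exact pow_card_eq_one'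
      have h2 := congrArg (fun z : M' => ((z : H) : G)) h1
      simpa using h2
    let ι : M' → {x : G // x ^ n = 1} := fun m => ⟨((m : H) : G), hM'pow m⟩
    have hιinj : Function.Injective ι := by
      intro a b hab
      have h1 : ((a : H) : G) = ((b : H) : G) :=
        congrArg (fun z : {x : G // x ^ n = 1} => z.1) hab
      exact Subtype.ext (Subtype.ext h1)
    have hιbij : Function.Bijective ι :=
      (Nat.bijective_iff_injective_and_card ι).mpr ⟨hιinj, by rw [hM'card, hcount]⟩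
    refine ⟨M'.map H.subtype, ?_⟩
    ext x
    constructor
    · intro hx
      obtain ⟨m, hm, rfl⟩ := Subgroup.mem_map.mp hx
      exact hM'pow ⟨m, hm⟩
    · intro hx
      obtain ⟨m, hm⟩ := hιbij.2 ⟨x, hx⟩
      have h1 : ((m : H) : G) = x :=
        congrArg (fun z : {x : G // x ^ n = 1} => z.1) hm
      exact Subgroup.mem_map.mpr ⟨(m : H), m.2, h1⟩

theorem result {G : Type*} [Group G] [Finite G] [Group.IsSolvable G] (n : ℕ) (hn : n ∣ Nat.card G) (hcount : Nat.card {x : G // x ^ n = 1} = n) : ∃ H : Subgroup G, H.Normal ∧ (H : Set G) = {x : G | x ^ n = 1} := by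
  obtain ⟨H, hH⟩ := main (Nat.card G) G rfl n hn hcount
  have hmem : ∀ x : G, x ∈ H ↔ x ^ n = 1 := by
    intro x
    rw [← SetLike.mem_coe, hH]; rfl
  refine ⟨H, ⟨fun x hx g => ?_⟩, hH⟩
  rw [hmem] at hx ⊢
  rw [conj_pow, hx, mul_one, mul_inv_cancel]

end Cfsg.Agent.S4213
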