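import Cfsg.Statements.S4214
import Mathlib
import Cfsg.Agent.S0055
import Cfsg.Agent.S0547
import Cfsg.Agent.S0553
import Cfsg.Agent.Lib.Helper13.Hall2
import Cfsg.Agent.Lib.Helper13.Coprime
import Cfsg.Agent.Lib.Helper13.SZConjB
import Cfsg.Agent.Lib.Helper2.SylowCount
import Cfsg.Agent.Lib.Helper2.SchurZassenhaus
import Cfsg.Agent.Lib.Helper2.Carter

set_option autoImplicit false
open Cfsg

namespace Cfsg.Agent.S4214

open Cfsg.Agent.Lib.Helper13 Cfsg.Agent.Lib.Helper2
open scoped Pointwise commutatorElement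

universe u

/-- A nontrivial finite solvable group has a normal subgroup of prime index. -/
theorem exists_normal_prime_index (H : Type*) [Group H] [Finite H] [Group.IsSolvable H]
    [Nontrivial H] : ∃ (H₁ : Subgroup H) (r : ℕ), H₁.Normal ∧ r.Prime ∧ H₁.index = r := by
  have hlt : commutator H < ⊤ := Group.IsSolvable.commutator_lt_top_of_nontrivial H
  obtain ⟨M, hM, hle⟩ := (eq_top_or_exists_le_coatom (commutator H)).resolve_left hlt.ne
  haveI hMn : M.Normal := by
    refine ⟨fun m hm g => ?_⟩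
    have e : g * m * g⁻¹ = ⁅g, m⁆ * m := by rw [commutatorElement_def]; group
    rw [e]
    exact M.mul_mem (hle (Subgroup.commutator_mem_commutator (Subgroup.mem_top g)
      (Subgroup.mem_top m))) hm
  have hsurj := QuotientGroup.mk'_surjective M
  haveI hsimple : IsSimpleGroup (H ⧸ M) := by
    refine { exists_pair_ne := ?_, eq_bot_or_eq_top_of_normal := ?_ }
    · obtain ⟨x, -, hx⟩ := SetLike.exists_of_lt hM.lt_top
      exact ⟨(x : H ⧸ M), 1, fun h => hx ((QuotientGroup.eq_one_iff x).mp h)⟩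
    · intro K _
      by_cases h2 : K.comap (QuotientGroup.mk' M) = ⊤
      · right
        rw [← Subgroup.map_comap_eq_self_of_surjective hsurj K, h2,
          Subgroup.map_top_of_surjective _ hsurj]
      · left
        have h3 : M ≤ K.comap (QuotientGroup.mk' M) := by
          conv_lhs => rw [← QuotientGroup.ker_mk' M]
          exact Subgroup.ker_le_comap _ _
        have h4 : K.comap (QuotientGroup.mk' M) = M := by
          by_contra hne
          exact h2 (hM.2 _ (lt_of_le_of_ne h3 (Ne.symm hne)))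
        rw [← Subgroup.map_comap_eq_self_of_surjective hsurj K, h4, QuotientGroup.map_mk'_self]
  have hcomm := (IsSimpleGroup.comm_iff_isSolvable (G := H ⧸ M)).mpr inferInstance
  letI : CommGroup (H ⧸ M) := { (inferInstance : Group (H ⧸ M)) with mul_comm := hcomm }
  have hprime := IsSimpleGroup.prime_card (α := H ⧸ M)
  exact ⟨M, _, hMn, hprime, Subgroup.index_eq_card M⟩

section action
variable {G : Type*} [Group G]

/-- Conjugation action of a subgroup `S` on a subgroup `W` it normalizes. -/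
def conjMulAction (S W : Subgroup G) (h : S ≤ Subgroup.normalizer (W : Set G)) : MulAction S W where
  smul s w := ⟨(s : G) * w * (s : G)⁻¹, (Subgroup.mem_normalizer_iff.mp (h s.2) w).mp w.2⟩
  one_smul w := Subtype.ext (by
    show ((1 : S) : G) * w * ((1 : S) : G)⁻¹ = w
    rw [Subgroup.coe_one]; group)
  mul_smul s t w := Subtype.ext (by
    show ((s * t : S) : G) * w * ((s * t : S) : G)⁻¹ = (s : G) * ((t : G) * w * (t : G)⁻¹) * (s : G)⁻¹
    rw [Subgroup.coe_mul]; group)

theorem card_modEq_one_of_fixedPoints [Finite G] (r : ℕ) [Fact r.Prime] (S W : Subgroup G)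
    (hS : IsPGroup r S) (h : S ≤ Subgroup.normalizer (W : Set G))
    (hfix : W ⊓ Subgroup.centralizer (S : Set G) = ⊥) : Nat.card W ≡ 1 [MOD r] := by
  letI := conjMulAction S W h
  have h1 := hS.card_modEq_card_fixedPoints W
  have h2 : Nat.card (MulAction.fixedPoints S W) = 1 := by
    rw [Nat.card_eq_one_iff_unique]
    refine ⟨⟨fun a b => ?_⟩, ⟨⟨1, fun s => ?_⟩⟩⟩
    · have key : ∀ w : MulAction.fixedPoints S W, ((w : W) : G) = 1 := by
        intro w
        have hw : ((w : W) : G) ∈ W ⊓ Subgroup.centralizer (S : Set G) := by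
          refine Subgroup.mem_inf.mpr ⟨(w : W).2, ?_⟩
          rw [Subgroup.mem_centralizer_iff]
          intro s hs
          have h3 := w.2 ⟨s, hs⟩
          have h4 : s * ((w : W) : G) * s⁻¹ = ((w : W) : G) := congrArg Subtype.val h3
          calc s * ((w : W) : G) = (s * ((w : W) : G) * s⁻¹) * s := by group
            _ = ((w : W) : G) * s := by rw [h4]
        rw [hfix, Subgroup.mem_bot] at hw
        exact hw
      apply Subtype.ext
      apply Subtype.ext
      rw [key a, key b]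
    · apply Subtype.ext
      show (s : G) * ((1 : W) : G) * (s : G)⁻¹ = ((1 : W) : G)
      rw [Subgroup.coe_one]; group
  rwa [h2] at h1

end action

section lemmaX
variable {G : Type u} [Group G] [Finite G]

theorem card_eq_mul_of_inf_sup (W U V : Subgroup G) (hWU : W ⊓ U = ⊥) (hsup : W ⊔ U = V)
    (hnorm : W ≤ Subgroup.normalizer (U : Set G)) : Nat.card V = Nat.card W * Nat.card U := by
  subst hsup
  have h1 : W.relIndex (W ⊔ U) = W.relIndex U := relIndex_sup_of_le_normalizer W U hnorm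
  have h2 : W.relIndex U = Nat.card U := by
    rw [← Subgroup.inf_relIndex_right, hWU, Subgroup.relIndex_bot_left]
  have h3 := Subgroup.relIndex_mul_relIndex ⊥ W (W ⊔ U) bot_le le_sup_left
  rw [Subgroup.relIndex_bot_left, Subgroup.relIndex_bot_left, h1, h2] at h3
  exact h3.symm

theorem lemmaX (N : ℕ) : ∀ (H V : Subgroup G), Nat.card H = N → Group.IsSolvable H →
    H ≤ Subgroup.normalizer (V : Set G) → (∀ a ∈ V, ∀ b ∈ V, a * b = b * a) →
    (Nat.card H).Coprime (Nat.card V) → V ⊓ Subgroup.centralizer (H : Set G) = ⊥ →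
    ∃ l : List ℕ, Nat.card V = l.prod ∧ ∀ x ∈ l, x ∣ Nat.card V ∧
      ∃ r : ℕ, r.Prime ∧ r ∣ Nat.card H ∧ x ≡ 1 [MOD r] := by
  induction N using Nat.strong_induction_on with
  | _ N ih =>
  intro H V hN hsolv hHV hVc hcop hfix
  by_cases hHbot : H = ⊥
  · refine ⟨[], ?_, fun x hx => absurd hx List.not_mem_nil⟩
    rw [List.prod_nil]
    have : V = ⊥ := by
      rw [eq_bot_iff, ← hfix, hHbot]
      intro v hv
      refine Subgroup.mem_inf.mpr ⟨hv, ?_⟩
      rw [Subgroup.mem_centralizer_iff]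
      intro h hh
      have : h = 1 := Subgroup.mem_bot.mp hh
      rw [this, one_mul, mul_one]
    rw [this, Subgroup.card_bot]
  haveI : Nontrivial H := (Subgroup.nontrivial_iff_ne_bot H).mpr hHbot
  haveI := hsolv
  obtain ⟨H₁', r, hH₁'n, hr, hH₁'idx⟩ := exists_normal_prime_index H
  obtain ⟨H₁, hH₁⟩ : ∃ H₁ : Subgroup G, H₁ = H₁'.map H.subtype := ⟨_, rfl⟩
  have hH₁H : H₁ ≤ H := hH₁ ▸ Subgroup.map_subtype_le _
  have hsub : H₁.subgroupOf H = H₁' := by
    rw [hH₁]; exact Subgroup.comap_map_eq_self_of_injective (Subgroup.subtype_injective H) _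
  have hrel : H₁.relIndex H = r := by
    rw [Subgroup.relIndex, hsub, hH₁'idx]
  have hnormH₁ : H ≤ Subgroup.normalizer (H₁ : Set G) := by
    have : (H₁.subgroupOf H).Normal := hsub ▸ hH₁'n
    exact (Subgroup.normal_subgroupOf_iff_le_normalizer hH₁H).mp this
  have hcardH : Nat.card H₁ * r = Nat.card H := by
    have := Subgroup.relIndex_mul_relIndex ⊥ H₁ H bot_le hH₁H
    rwa [Subgroup.relIndex_bot_left, Subgroup.relIndex_bot_left, hrel] at this
  have hlt : Nat.card H₁ < N := by
    rw [← hN, ← hcardH]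
    exact lt_mul_of_one_lt_right Nat.card_pos hr.one_lt
  have hH₁dvd : Nat.card H₁ ∣ Nat.card H := Dvd.intro _ hcardH
  have hcop₁ : (Nat.card H₁).Coprime (Nat.card V) := Nat.Coprime.coprime_dvd_left hH₁dvd hcop
  have hH₁V : H₁ ≤ Subgroup.normalizer (V : Set G) := hH₁H.trans hHV
  haveI hVcomm : IsMulCommutative V := ⟨⟨fun a b => Subtype.ext (hVc a a.2 b b.2)⟩⟩
  obtain ⟨hWU, hWUsup⟩ := Cfsg.Agent.S0055.result H₁ V hH₁V hcop₁
  obtain ⟨W, hW⟩ : ∃ W : Subgroup G, W = V ⊓ Subgroup.centralizer (H₁ : Set G) := ⟨_, rfl⟩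
  obtain ⟨U, hU⟩ : ∃ U : Subgroup G, U = ⁅V, H₁⁆ := ⟨_, rfl⟩
  rw [← hW, ← hU] at hWU hWUsup
  have hWV : W ≤ V := hW ▸ inf_le_left
  have hUV : U ≤ V := hU ▸ commutator_le_of_le_normalizer V H₁ hH₁V
  have hcardV : Nat.card V = Nat.card W * Nat.card U := by
    apply card_eq_mul_of_inf_sup W U V hWU hWUsup
    intro w hw
    rw [Subgroup.mem_normalizer_iff]
    intro u
    constructor
    · intro hu
      have : w * u * w⁻¹ = u := by rw [hVc w (hWV hw) u (hUV hu)]; group
      rw [this]; exact hu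
    · intro hu
      have h1 : w * u * w⁻¹ ∈ V := hUV hu
      have h2 : w⁻¹ * (w * u * w⁻¹) * w⁻¹⁻¹ = w * u * w⁻¹ := by
        rw [hVc w⁻¹ (V.inv_mem (hWV hw)) _ h1]; group
      have h3 : u = w⁻¹ * (w * u * w⁻¹) * w⁻¹⁻¹ := by group
      rw [h3, h2]; exact hu
  have hsolv₁ : Group.IsSolvable H₁ :=
    Group.isSolvable_of_isSolvable_injective (Subgroup.inclusion_injective hH₁H)
  have hH₁U : H₁ ≤ Subgroup.normalizer (U : Set G) := by
    rw [hU]; exact le_sup_right.trans (le_normalizer_commutator V H₁)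
  have hfixU : U ⊓ Subgroup.centralizer (H₁ : Set G) = ⊥ := by
    rw [eq_bot_iff, ← hWU]
    intro x hx
    obtain ⟨hxU, hxC⟩ := Subgroup.mem_inf.mp hx
    refine Subgroup.mem_inf.mpr ⟨?_, hxU⟩
    rw [hW]; exact Subgroup.mem_inf.mpr ⟨hUV hxU, hxC⟩
  obtain ⟨l₁, hl₁, hl₁p⟩ := ih _ hlt H₁ U rfl hsolv₁ hH₁U
    (fun a ha b hb => hVc a (hUV ha) b (hUV hb))
    (Nat.Coprime.coprime_dvd_right (Subgroup.card_dvd_of_le hUV) hcop₁) hfixU
  haveI : Fact r.Prime := ⟨hr⟩
  obtain ⟨S₀⟩ : Nonempty (Sylow r H) := inferInstance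
  obtain ⟨S, hS⟩ : ∃ S : Subgroup G, S = (S₀ : Subgroup H).map H.subtype := ⟨_, rfl⟩
  have hSH : S ≤ H := hS ▸ Subgroup.map_subtype_le _
  have hSp : IsPGroup r S := by rw [hS]; exact S₀.isPGroup'.map H.subtype
  have hSsub : S.subgroupOf H = S₀ := by
    rw [hS]; exact Subgroup.comap_map_eq_self_of_injective (Subgroup.subtype_injective H) _
  have hSrel : ¬ r ∣ S.relIndex H := by
    rw [Subgroup.relIndex, hSsub]; exact S₀.not_dvd_index
  have hsupS : H₁ ⊔ S = H := by
    apply le_antisymm (sup_le hH₁H hSH)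
    have h1 := Subgroup.relIndex_mul_relIndex H₁ (H₁ ⊔ S) H le_sup_left (sup_le hH₁H hSH)
    rw [hrel] at h1
    have h2 : (H₁ ⊔ S).relIndex H ∣ r := Dvd.intro_left _ h1
    rcases (Nat.dvd_prime hr).mp h2 with h3 | h3
    · exact Subgroup.relIndex_eq_one.mp h3
    · exfalso
      apply hSrel
      have h4 := Subgroup.relIndex_mul_relIndex S (H₁ ⊔ S) H le_sup_right (sup_le hH₁H hSH)
      rw [h3] at h4
      exact Dvd.intro_left _ h4
  have hSW : S ≤ Subgroup.normalizer (W : Set G) := by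
    intro s hs
    have hsH := hSH hs
    rw [Subgroup.mem_normalizer_iff]
    intro w
    have hsV := Subgroup.mem_normalizer_iff.mp (hHV hsH)
    have hsH₁ := Subgroup.mem_normalizer_iff.mp (hnormH₁ hsH)
    rw [hW, Subgroup.mem_inf, Subgroup.mem_inf, ← hsV w, Subgroup.mem_centralizer_iff,
      Subgroup.mem_centralizer_iff]
    constructor
    · rintro ⟨h1, h2⟩
      refine ⟨h1, fun h hh => ?_⟩
      have h3 : s⁻¹ * h * s ∈ H₁ := by
        rw [hsH₁ (s⁻¹ * h * s)]
        have e : s * (s⁻¹ * h * s) * s⁻¹ = h := by group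
        rw [e]; exact hh
      have h4 := h2 _ h3
      calc h * (s * w * s⁻¹) = s * ((s⁻¹ * h * s) * w) * s⁻¹ := by group
        _ = s * (w * (s⁻¹ * h * s)) * s⁻¹ := by rw [h4]
        _ = s * w * s⁻¹ * h := by group
    · rintro ⟨h1, h2⟩
      refine ⟨h1, fun h hh => ?_⟩
      have h3 : s * h * s⁻¹ ∈ H₁ := (hsH₁ h).mp hh
      have h4 := h2 _ h3
      calc h * w = s⁻¹ * ((s * h * s⁻¹) * (s * w * s⁻¹)) * s := by group
        _ = s⁻¹ * ((s * w * s⁻¹) * (s * h * s⁻¹)) * s := by rw [h4]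
        _ = w * h := by group
  have hfixW : W ⊓ Subgroup.centralizer (S : Set G) = ⊥ := by
    rw [eq_bot_iff, ← hfix]
    intro x hx
    obtain ⟨hxW, hxS⟩ := Subgroup.mem_inf.mp hx
    rw [hW] at hxW
    obtain ⟨hxV, hxH₁⟩ := Subgroup.mem_inf.mp hxW
    refine Subgroup.mem_inf.mpr ⟨hxV, ?_⟩
    have hle : H₁ ⊔ S ≤ Subgroup.centralizer ({x} : Set G) := by
      apply sup_le
      · intro h hh
        rw [Subgroup.mem_centralizer_iff]
        intro y hy
        rw [Set.mem_singleton_iff.mp hy]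
        exact ((Subgroup.mem_centralizer_iff.mp hxH₁) h hh).symm
      · intro h hh
        rw [Subgroup.mem_centralizer_iff]
        intro y hy
        rw [Set.mem_singleton_iff.mp hy]
        exact ((Subgroup.mem_centralizer_iff.mp hxS) h hh).symm
    rw [hsupS] at hle
    rw [Subgroup.mem_centralizer_iff]
    intro h hh
    exact ((Subgroup.mem_centralizer_iff.mp (hle hh)) x (Set.mem_singleton x)).symm
  have hWmod : Nat.card W ≡ 1 [MOD r] := card_modEq_one_of_fixedPoints r S W hSp hSW hfixW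
  refine ⟨Nat.card W :: l₁, ?_, ?_⟩
  · rw [List.prod_cons, hcardV, hl₁]
  · intro x hx
    rcases List.mem_cons.mp hx with rfl | hx
    · exact ⟨Subgroup.card_dvd_of_le hWV, r, hr, Dvd.intro_left _ hcardH, hWmod⟩
    · obtain ⟨h1, r', hr', hr'd, hmod⟩ := hl₁p x hx
      exact ⟨h1.trans (Subgroup.card_dvd_of_le hUV), r', hr', hr'd.trans hH₁dvd, hmod⟩

end lemmaX

section counting

theorem card_hall_eq_index_normalizer {G : Type u} [Group G] [Finite G] [Group.IsSolvable G]
    (H₀ : Subgroup G) (hcop : (Nat.card H₀).Coprime H₀.index) :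
    Nat.card {H : Subgroup G // Nat.card H = Nat.card H₀} =
      (Subgroup.normalizer (H₀ : Set G)).index := by
  rw [Subgroup.index]
  symm
  apply Nat.card_congr
  refine Equiv.ofBijective (Quotient.lift (fun g : G =>
    (⟨MulAut.conj g • H₀, card_cj g H₀⟩ : {H : Subgroup G // Nat.card H = Nat.card H₀})) ?_)
    ⟨?_, ?_⟩
  · intro a b hab
    have h1 : a⁻¹ * b ∈ Subgroup.normalizer (H₀ : Set G) := QuotientGroup.leftRel_apply.mp hab
    apply Subtype.ext
    show MulAut.conj a • H₀ = MulAut.conj b • H₀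
    have h2 := cj_eq_self_iff_mem_normalizer.mpr h1
    calc MulAut.conj a • H₀ = MulAut.conj a • (MulAut.conj (a⁻¹ * b) • H₀) := by rw [h2]
      _ = MulAut.conj b • H₀ := by rw [← cj_mul, mul_inv_cancel_left]
  · intro x y hxy
    induction x using QuotientGroup.induction_on with
    | H a =>
    induction y using QuotientGroup.induction_on with
    | H b =>
    rw [QuotientGroup.eq]
    have h1 : MulAut.conj a • H₀ = MulAut.conj b • H₀ := congrArg Subtype.val hxy
    rw [← cj_eq_self_iff_mem_normalizer, cj_mul, ← h1, ← cj_mul, inv_mul_cancel, cj_one]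
  · rintro ⟨H, hH⟩
    obtain ⟨g, hg⟩ := hall_conj H₀ H hcop hH
    exact ⟨QuotientGroup.mk g, Subtype.ext hg⟩

/-- The admissible factors. -/
def Good (G : Type*) [Group G] (m x : ℕ) : Prop :=
  (∃ q e : ℕ, q.Prime ∧ x = q ^ e) ∧
  (∃ K L : Subgroup G, K.Normal ∧ L.Normal ∧ K < L ∧
    (∀ M : Subgroup G, M.Normal → K ≤ M → M ≤ L → M = K ∨ M = L) ∧ x ∣ K.relIndex L) ∧
  (∃ q : ℕ, q.Prime ∧ q ∣ m ∧ x ≡ 1 [MOD q])

theorem good_of_quotient {G : Type*} [Group G] (N : Subgroup G) [N.Normal] (m m' x : ℕ)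
    (hm : m' ∣ m) (h : Good (G ⧸ N) m' x) : Good G m x := by
  obtain ⟨h1, ⟨K, L, hKn, hLn, hKL, hchief, hdvd⟩, ⟨q, hq, hqm, hmod⟩⟩ := h
  have hsurj := QuotientGroup.mk'_surjective N
  refine ⟨h1, ⟨K.comap (QuotientGroup.mk' N), L.comap (QuotientGroup.mk' N), hKn.comap _,
    hLn.comap _, ?_, ?_, ?_⟩, ⟨q, hq, hqm.trans hm, hmod⟩⟩
  · exact (Subgroup.comap_lt_comap_of_surjective hsurj).mpr hKL
  · intro M hM hKM hML
    have hNM : N ≤ M := by
      refine le_trans ?_ hKM
      conv_lhs => rw [← QuotientGroup.ker_mk' N]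
      exact Subgroup.ker_le_comap _ _
    have hMeq : (M.map (QuotientGroup.mk' N)).comap (QuotientGroup.mk' N) = M := by
      rw [Subgroup.comap_map_eq, QuotientGroup.ker_mk', sup_eq_left.mpr hNM]
    have h2 : K ≤ M.map (QuotientGroup.mk' N) := by
      rw [← Subgroup.map_comap_eq_self_of_surjective hsurj K]; exact Subgroup.map_mono hKM
    have h3 : M.map (QuotientGroup.mk' N) ≤ L := by
      rw [← Subgroup.map_comap_eq_self_of_surjective hsurj L]; exact Subgroup.map_mono hML
    rcases hchief _ (hM.map _ hsurj) h2 h3 with h4 | h4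
    · left; rw [← hMeq, h4]
    · right; rw [← hMeq, h4]
  · rw [Subgroup.relIndex_comap, Subgroup.map_comap_eq_self_of_surjective hsurj]; exact hdvd

end counting

theorem main (k : ℕ) : ∀ (G : Type u) [Group G] [Finite G] [Group.IsSolvable G], Nat.card G = k →
    ∀ m n : ℕ, Nat.card G = m * n → m.Coprime n →
    ∃ l : List ℕ, Nat.card {H : Subgroup G // Nat.card H = m} = l.prod ∧
      ∀ x ∈ l, Good G m x := by
  induction k using Nat.strong_induction_on with
  | _ k ih =>
  intro G _ _ _ hk m n hG hmn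
  by_cases hm1 : m = 1
  · subst hm1
    refine ⟨[], ?_, fun x hx => absurd hx List.not_mem_nil⟩
    rw [List.prod_nil, Nat.card_eq_one_iff_unique]
    refine ⟨⟨fun a b => Subtype.ext ?_⟩, ⟨⟨⊥, Subgroup.card_bot⟩⟩⟩
    rw [Subgroup.eq_bot_of_card_eq a.1 a.2, Subgroup.eq_bot_of_card_eq b.1 b.2]
  have hm0 : m ≠ 0 := by rintro rfl; rw [zero_mul] at hG; exact Nat.card_pos.ne' hG
  have hn0 : n ≠ 0 := by rintro rfl; rw [mul_zero] at hG; exact Nat.card_pos.ne' hG
  haveI hnt : Nontrivial G := by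
    rw [← Finite.one_lt_card_iff_nontrivial, hG]
    have h1 : 2 ≤ m := by omega
    have h2 : 1 ≤ n := by omega
    nlinarith
  obtain ⟨N, hNn, hNne, hmin⟩ := Cfsg.Agent.S0553.exists_minimal_normal G
  haveI := hNn
  obtain ⟨q, d, hq, hd, hexp, hcardN⟩ := Cfsg.Agent.S0547.minNormal_elemAb N hNne hmin
  have hcomm := Cfsg.Agent.S0547.minNormal_comm N hNne hmin
  haveI : Fact q.Prime := ⟨hq⟩
  have hNq : IsPGroup q N := IsPGroup.of_card hcardN
  have hsurj := QuotientGroup.mk'_surjective N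
  have hqdpos : 0 < q ^ d := pow_pos hq.pos d
  have hcardquot : Nat.card (G ⧸ N) * q ^ d = m * n := by
    rw [← hG, ← hcardN, ← Subgroup.index_eq_card]; exact Subgroup.index_mul_card N
  have hlt : Nat.card (G ⧸ N) < k := hk ▸ card_quotient_lt_of_ne_bot N hNne
  have hqdG : q ^ d ∣ m * n := Dvd.intro_left _ hcardquot
  by_cases hqm : q ∣ m
  · -- Case A
    have hqn : q.Coprime n := Nat.Coprime.coprime_dvd_left hqm hmn
    have hqn' : ¬ q ∣ n := (Nat.Prime.coprime_iff_not_dvd hq).mp hqn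
    have hqdm : q ^ d ∣ m := (Nat.Coprime.pow_left d hqn).dvd_of_dvd_mul_right hqdG
    obtain ⟨m', hm'⟩ := hqdm
    have hquot : Nat.card (G ⧸ N) = m' * n := by
      have h1 : Nat.card (G ⧸ N) * q ^ d = (m' * n) * q ^ d := by rw [hcardquot, hm']; ring
      exact Nat.eq_of_mul_eq_mul_right hqdpos h1
    have hcop' : m'.Coprime n := Nat.Coprime.coprime_dvd_left (Dvd.intro_left _ hm'.symm) hmn
    obtain ⟨l, hl, hlg⟩ := ih _ hlt (G ⧸ N) rfl m' n hquot hcop'
    have hNle : ∀ H : Subgroup G, Nat.card H = m → N ≤ H := by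
      intro H hH
      apply normal_pgroup_le_of_not_dvd_index N H hNq
      have h1 := Subgroup.card_mul_index H
      rw [hH, hG] at h1
      rw [Nat.eq_of_mul_eq_mul_left (Nat.pos_of_ne_zero hm0) h1]
      exact hqn'
    have hmapcard : ∀ H : Subgroup G, Nat.card H = m →
        Nat.card (H.map (QuotientGroup.mk' N)) = m' := by
      intro H hH
      have h1 := Cfsg.Agent.S0553.card_comap_mk' N (H.map (QuotientGroup.mk' N))
      rw [Subgroup.comap_map_eq, QuotientGroup.ker_mk', sup_eq_left.mpr (hNle H hH), hH,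
        hcardN] at h1
      have h2 : m' * q ^ d = Nat.card (H.map (QuotientGroup.mk' N)) * q ^ d := by
        rw [← h1, hm', mul_comm]
      exact (Nat.eq_of_mul_eq_mul_right hqdpos h2).symm
    let e : {H : Subgroup G // Nat.card H = m} ≃ {K : Subgroup (G ⧸ N) // Nat.card K = m'} :=
      { toFun := fun H => ⟨H.1.map (QuotientGroup.mk' N), hmapcard H.1 H.2⟩
        invFun := fun K => ⟨K.1.comap (QuotientGroup.mk' N), by
          rw [Cfsg.Agent.S0553.card_comap_mk' N K.1, K.2, hcardN, hm', mul_comm]⟩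
        left_inv := fun H => Subtype.ext (by
          show (H.1.map (QuotientGroup.mk' N)).comap (QuotientGroup.mk' N) = H.1
          rw [Subgroup.comap_map_eq, QuotientGroup.ker_mk', sup_eq_left.mpr (hNle H.1 H.2)])
        right_inv := fun K => Subtype.ext (by
          show (K.1.comap (QuotientGroup.mk' N)).map (QuotientGroup.mk' N) = K.1
          exact Subgroup.map_comap_eq_self_of_surjective hsurj K.1) }
    refine ⟨l, by rw [Nat.card_congr e, hl], fun x hx =>
      good_of_quotient N m m' x (Dvd.intro_left _ hm'.symm) (hlg x hx)⟩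
  · -- Case B
    have hqmc : q.Coprime m := (Nat.Prime.coprime_iff_not_dvd hq).mpr hqm
    have hqdn : q ^ d ∣ n := (Nat.Coprime.pow_left d hqmc).dvd_of_dvd_mul_left hqdG
    obtain ⟨n', hn'⟩ := hqdn
    have hquot : Nat.card (G ⧸ N) = m * n' := by
      have h1 : Nat.card (G ⧸ N) * q ^ d = (m * n') * q ^ d := by rw [hcardquot, hn']; ring
      exact Nat.eq_of_mul_eq_mul_right hqdpos h1
    have hcop' : m.Coprime n' := Nat.Coprime.coprime_dvd_right (Dvd.intro_left _ hn'.symm) hmn
    obtain ⟨l₁, hl₁, hl₁g⟩ := ih _ hlt (G ⧸ N) rfl m n' hquot hcop'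
    obtain ⟨H₀, hH₀c, hH₀i⟩ := hall_exists_card m n hG hmn
    have hcop₀ : (Nat.card H₀).Coprime H₀.index := by rw [hH₀c, hH₀i]; exact hmn
    have hcopNH : (Nat.card N).Coprime (Nat.card H₀) := by
      rw [hcardN, hH₀c]; exact Nat.Coprime.pow_left d hqmc
    have hNH₀ : N ⊓ H₀ = ⊥ := Subgroup.inf_eq_bot_of_coprime hcopNH
    have hcountG := card_hall_eq_index_normalizer H₀ hcop₀
    rw [hH₀c] at hcountG
    -- the image
    have hcardbar : Nat.card (H₀.map (QuotientGroup.mk' N)) = m := by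
      rw [← Subgroup.relIndex_ker, QuotientGroup.ker_mk', ← Subgroup.inf_relIndex_right, hNH₀,
        Subgroup.relIndex_bot_left, hH₀c]
    have hidxbar : (H₀.map (QuotientGroup.mk' N)).index = n' := by
      have h1 := Subgroup.card_mul_index (H₀.map (QuotientGroup.mk' N))
      rw [hcardbar, hquot] at h1
      exact Nat.eq_of_mul_eq_mul_left (Nat.pos_of_ne_zero hm0) h1
    have hcopbar : (Nat.card (H₀.map (QuotientGroup.mk' N))).Coprime
        (H₀.map (QuotientGroup.mk' N)).index := by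
      rw [hcardbar, hidxbar]; exact hcop'
    have hcountQ := card_hall_eq_index_normalizer (H₀.map (QuotientGroup.mk' N)) hcopbar
    rw [hcardbar] at hcountQ
    have hTidx : (Subgroup.normalizer ((H₀.map (QuotientGroup.mk' N) : Subgroup (G ⧸ N)) :
        Set (G ⧸ N))).index = (Subgroup.normalizer ((H₀ ⊔ N : Subgroup G) : Set G)).index := by
      rw [← Subgroup.index_comap_of_surjective _ hsurj,
        Subgroup.comap_normalizer_eq_of_surjective _ hsurj, Subgroup.comap_map_eq,
        QuotientGroup.ker_mk']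
    have hle : Subgroup.normalizer (H₀ : Set G) ≤
        Subgroup.normalizer ((H₀ ⊔ N : Subgroup G) : Set G) := by
      intro g hg
      rw [← cj_eq_self_iff_mem_normalizer] at hg ⊢
      rw [cj_sup_normal, hg]
    have hT : Subgroup.normalizer ((H₀ ⊔ N : Subgroup G) : Set G) =
        Subgroup.normalizer (H₀ : Set G) ⊔ N := by
      apply le_antisymm
      · intro t ht
        have ht' := cj_eq_self_iff_mem_normalizer.mpr ht
        have hB : MulAut.conj t • H₀ ≤ N ⊔ H₀ := by
          intro y hy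
          rw [sup_comm, ← ht', mem_cj]
          exact Subgroup.mem_sup_left (mem_cj.mp hy)
        have hAN : H₀ ≤ Subgroup.normalizer (N : Set G) := by
          rw [Subgroup.normalizer_eq_top]; exact le_top
        haveI : Group.IsNilpotent N := hNq.isNilpotent
        obtain ⟨n₀, hn₀N, hn₀⟩ := rel_sz_conj N H₀ (MulAut.conj t • H₀) hAN hB (card_cj t H₀)
          hcopNH (Or.inl inferInstance)
        have h1 : n₀⁻¹ * t ∈ Subgroup.normalizer (H₀ : Set G) := by
          rw [← cj_eq_self_iff_mem_normalizer, cj_mul, ← hn₀, ← cj_mul, inv_mul_cancel, cj_one]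
        have e : t = n₀ * (n₀⁻¹ * t) := by group
        rw [e, sup_comm]
        exact Subgroup.mul_mem_sup hn₀N h1
      · exact sup_le hle (le_sup_right.trans Subgroup.le_normalizer)
    have hrelT : (Subgroup.normalizer (H₀ : Set G)).relIndex
        (Subgroup.normalizer ((H₀ ⊔ N : Subgroup G) : Set G)) =
        (Subgroup.normalizer (H₀ : Set G)).relIndex N := by
      rw [hT]; exact relIndex_sup_of_normal _ N
    -- coprime action
    have hH₀N : H₀ ≤ Subgroup.normalizer (N : Set G) := by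
      rw [Subgroup.normalizer_eq_top]; exact le_top
    haveI hNcomm : IsMulCommutative N := ⟨⟨fun a b => Subtype.ext (hcomm a a.2 b b.2)⟩⟩
    obtain ⟨hWU, hWUsup⟩ := Cfsg.Agent.S0055.result H₀ N hH₀N hcopNH.symm
    obtain ⟨W, hW⟩ : ∃ W : Subgroup G, W = N ⊓ Subgroup.centralizer (H₀ : Set G) := ⟨_, rfl⟩
    obtain ⟨U, hU⟩ : ∃ U : Subgroup G, U = ⁅N, H₀⁆ := ⟨_, rfl⟩
    rw [← hW, ← hU] at hWU hWUsup
    have hWN : W ≤ N := hW ▸ inf_le_left
    have hUN : U ≤ N := hU ▸ commutator_le_of_le_normalizer N H₀ hH₀N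
    have hcardNWU : Nat.card N = Nat.card W * Nat.card U := by
      apply card_eq_mul_of_inf_sup W U N hWU hWUsup
      intro w hw
      rw [Subgroup.mem_normalizer_iff]
      intro u
      constructor
      · intro hu
        have : w * u * w⁻¹ = u := by rw [hcomm w (hWN hw) u (hUN hu)]; group
        rw [this]; exact hu
      · intro hu
        have h1 : w * u * w⁻¹ ∈ N := hUN hu
        have h2 : w⁻¹ * (w * u * w⁻¹) * w⁻¹⁻¹ = w * u * w⁻¹ := by
          rw [hcomm w⁻¹ (N.inv_mem (hWN hw)) _ h1]; group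
        have h3 : u = w⁻¹ * (w * u * w⁻¹) * w⁻¹⁻¹ := by group
        rw [h3, h2]; exact hu
    have hnormW : Subgroup.normalizer (H₀ : Set G) ⊓ N = W := by
      rw [hW]
      apply le_antisymm
      · intro c hc
        obtain ⟨hc1, hc2⟩ := Subgroup.mem_inf.mp hc
        exact Subgroup.mem_inf.mpr ⟨hc2,
          mem_centralizer_of_mem_normalizer H₀ N hH₀N hNH₀ c hc2 hc1⟩
      · intro c hc
        obtain ⟨hc1, hc2⟩ := Subgroup.mem_inf.mp hc
        exact Subgroup.mem_inf.mpr ⟨Subgroup.centralizer_le_normalizer (H₀ : Set G) hc2, hc1⟩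
    have hrelU : (Subgroup.normalizer (H₀ : Set G)).relIndex N = Nat.card U := by
      rw [← Subgroup.inf_relIndex_right, hnormW]
      have h1 := Subgroup.relIndex_mul_relIndex ⊥ W N bot_le hWN
      rw [Subgroup.relIndex_bot_left, Subgroup.relIndex_bot_left, hcardNWU] at h1
      exact Nat.eq_of_mul_eq_mul_left Nat.card_pos h1
    -- Lemma X
    have hH₀U : H₀ ≤ Subgroup.normalizer (U : Set G) := by
      rw [hU]; exact le_sup_right.trans (le_normalizer_commutator N H₀)
    have hfixU : U ⊓ Subgroup.centralizer (H₀ : Set G) = ⊥ := by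
      rw [eq_bot_iff, ← hWU]
      intro x hx
      obtain ⟨hxU, hxC⟩ := Subgroup.mem_inf.mp hx
      refine Subgroup.mem_inf.mpr ⟨?_, hxU⟩
      rw [hW]; exact Subgroup.mem_inf.mpr ⟨hUN hxU, hxC⟩
    obtain ⟨l₂, hl₂, hl₂p⟩ := lemmaX _ H₀ U rfl inferInstance hH₀U
      (fun a ha b hb => hcomm a (hUN ha) b (hUN hb))
      (Nat.Coprime.coprime_dvd_right (Subgroup.card_dvd_of_le hUN) hcopNH.symm) hfixU
    refine ⟨l₂ ++ l₁, ?_, ?_⟩
    · rw [List.prod_append, ← hl₂, ← hl₁, hcountG, hcountQ, hTidx, ← hrelU, ← hrelT]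
      exact (Subgroup.relIndex_mul_index hle).symm
    · intro x hx
      rcases List.mem_append.mp hx with hx | hx
      · obtain ⟨hxd, r, hr, hrd, hmod⟩ := hl₂p x hx
        have hxN : x ∣ Nat.card N := hxd.trans (Subgroup.card_dvd_of_le hUN)
        refine ⟨?_, ⟨⊥, N, inferInstance, hNn, bot_lt_iff_ne_bot.mpr hNne, ?_, ?_⟩,
          ⟨r, hr, hH₀c ▸ hrd, hmod⟩⟩
        · rw [hcardN] at hxN
          obtain ⟨j, _, hj⟩ := (Nat.dvd_prime_pow hq).mp hxN
          exact ⟨q, j, hq, hj⟩
        · intro M hM _ hMN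
          exact hmin M hM hMN
        · rw [Subgroup.relIndex_bot_left]; exact hxN
      · exact good_of_quotient N m m x dvd_rfl (hl₁g x hx)

/-- Let `G` be a finite solvable group of order `mn` with `gcd(m, n) = 1`. Then the number of subgroups of order `m` is a product of natural numbers each of which is a power of a prime, divides the order of some chief factor of `G` (a quotient `L/K` of normal subgroups `K < L` of `G` with no normal subgroup of `G` strictly between them), and is congruent to `1` modulo some prime divisor of `m`. -/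
theorem result {G : Type*} [Group G] [Finite G] [Group.IsSolvable G] (m n : ℕ) (hG : Nat.card G = m * n) (hmn : Nat.Coprime m n) : ∃ (k : ℕ) (f : Fin k → ℕ), Nat.card {H : Subgroup G // Nat.card H = m} = ∏ i, f i ∧ ∀ i, (∃ q e : ℕ, q.Prime ∧ f i = q ^ e) ∧ (∃ K L : Subgroup G, K.Normal ∧ L.Normal ∧ K < L ∧ (∀ M : Subgroup G, M.Normal → K ≤ M → M ≤ L → M = K ∨ M = L) ∧ f i ∣ K.relIndex L) ∧ (∃ q : ℕ, q.Prime ∧ q ∣ m ∧ f i ≡ 1 [MOD q]) := by
  obtain ⟨l, hl, hlg⟩ := main _ G rfl m n hG hmn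
  refine ⟨l.length, fun i => l.get i, ?_, fun i => hlg (l.get i) (List.get_mem l i)⟩
  rw [hl, ← List.prod_ofFn, List.ofFn_get]

end Cfsg.Agent.S4214
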