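import Cfsg.Statements.S4216
import Cfsg.Agent.Lib.Helper24.Gruen

set_option autoImplicit false
open Cfsg
open Cfsg.Agent.Lib.Helper24
open IsMulCommutative

namespace Cfsg.Agent.S4216

/-- Grün's first Theorem: if `P` is a Sylow `p`-subgroup of the finite group `G`, then `P ∩ G'` is the subgroup generated by `P ∩ N_G(P)'` together with the subgroups `P ∩ z P' z⁻¹` for all `z ∈ G`, where `'` denotes the derived subgroup and `N_G(P)` the normalizer of `P`. -/
theorem result {G : Type*} [Group G] [Finite G] {p : ℕ} [Fact p.Prime] (P : Sylow p G) : (P : Subgroup G) ⊓ commutator G = ((P : Subgroup G) ⊓ ⁅Subgroup.normalizer ((P : Subgroup G) : Set G), Subgroup.normalizer ((P : Subgroup G) : Set G)⁆) ⊔ ⨆ z : G, (P : Subgroup G) ⊓ (⁅(P : Subgroup G), (P : Subgroup G)⁆).map (MulAut.conj z).toMonoidHom := by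
  classical
  obtain ⟨H, hH⟩ : ∃ H : Subgroup G, H = (P : Subgroup G) := ⟨_, rfl⟩
  rw [← hH]
  obtain ⟨D, hD⟩ : ∃ D : Subgroup G, D = (H ⊓ ⁅Subgroup.normalizer (H : Set G),
      Subgroup.normalizer (H : Set G)⁆) ⊔
      ⨆ z : G, H ⊓ (⁅H, H⁆).map (MulAut.conj z).toMonoidHom := ⟨_, rfl⟩
  rw [← hD]
  have hDle : D ≤ H := by
    rw [hD]; exact sup_le inf_le_left (iSup_le fun z => inf_le_left)
  have hN_le : H ⊓ ⁅Subgroup.normalizer (H : Set G), Subgroup.normalizer (H : Set G)⁆ ≤ D := by
    rw [hD]; exact le_sup_left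
  have hz_le : ∀ z : G, H ⊓ (⁅H, H⁆).map (MulAut.conj z).toMonoidHom ≤ D := by
    intro z; rw [hD]; exact le_trans (le_iSup (fun z : G => H ⊓ (⁅H, H⁆).map (MulAut.conj z).toMonoidHom) z) le_sup_right
  have hcomm_le : ⁅H, H⁆ ≤ D := by
    refine le_trans ?_ (hz_le 1)
    refine le_inf (Subgroup.commutator_le_self H) ?_
    intro a ha
    exact ⟨a, ha, by simp⟩
  apply le_antisymm
  · intro u hu
    obtain ⟨huP, huC⟩ := Subgroup.mem_inf.mp hu
    have hcomm_le' : commutator H ≤ D.subgroupOf H := by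
      rw [Subgroup.subgroupOf, ← Subgroup.map_le_iff_le_comap, Subgroup.map_subtype_commutator]
      exact hcomm_le
    haveI hnorm : (D.subgroupOf H).Normal := Subgroup.Normal.of_commutator_le _ hcomm_le'
    haveI : IsMulCommutative (H ⧸ D.subgroupOf H) :=
      Subgroup.Normal.quotient_commutative_iff_commutator_le.mpr hcomm_le'
    subst hH
    have key := gruen_core P (QuotientGroup.mk' (D.subgroupOf (P : Subgroup G))) ?_ ?_ huP huC
    · have h1 : (⟨u, huP⟩ : (P : Subgroup G)) ∈ D.subgroupOf (P : Subgroup G) :=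
        (QuotientGroup.eq_one_iff _).mp key
      exact Subgroup.mem_subgroupOf.mp h1
    · intro v hv k hk
      have hkv : k⁻¹ * v * k ∈ (P : Subgroup G) := by
        have hk' := inv_mem hk
        have := (Subgroup.mem_normalizer_iff.mp hk' v).mp hv
        rwa [inv_inv] at this
      rw [extOne_of_mem _ hkv, extOne_of_mem _ hv]
      apply QuotientGroup.eq.mpr
      rw [Subgroup.mem_subgroupOf]
      apply hN_le
      rw [Subgroup.mem_inf]
      refine ⟨SetLike.coe_mem _, ?_⟩
      have hc := Subgroup.commutator_mem_commutator (inv_mem hk)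
        (inv_mem (Subgroup.le_normalizer (H := (P : Subgroup G)) hv))
      rw [commutatorElement_def] at hc
      have e : (((⟨k⁻¹ * v * k, hkv⟩ : (P : Subgroup G))⁻¹ * ⟨v, hv⟩ : (P : Subgroup G)) : G) =
          k⁻¹ * v⁻¹ * k⁻¹⁻¹ * v⁻¹⁻¹ := by
        simp only [Subgroup.coe_mul, Subgroup.coe_inv]; group
      rw [e]
      exact hc
    · intro a ha z hz
      rw [extOne_of_mem _ hz]
      apply (QuotientGroup.eq_one_iff _).mpr
      rw [Subgroup.mem_subgroupOf]
      apply hz_le z⁻¹
      rw [Subgroup.mem_inf]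
      refine ⟨hz, a, ha, ?_⟩
      simp [MulAut.conj_apply]
  · rw [hD]
    refine sup_le (inf_le_inf_left _ ?_) (iSup_le fun z => inf_le_inf_left _ ?_)
    · rw [commutator_def]; exact Subgroup.commutator_mono le_top le_top
    · have h1 : (⁅H, H⁆).map (MulAut.conj z).toMonoidHom ≤
          (commutator G).map (MulAut.conj z).toMonoidHom := by
        apply Subgroup.map_mono
        rw [commutator_def]; exact Subgroup.commutator_mono le_top le_top
      refine le_trans h1 ?_
      rintro _ ⟨c, hc, rfl⟩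
      have hn : (commutator G).Normal := inferInstance
      simpa [MulAut.conj_apply] using hn.conj_mem c hc z

end Cfsg.Agent.S4216
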