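import Cfsg.Statements.S4217
import Mathlib
import Cfsg.Agent.Lib.Helper2.Gaschutz

set_option autoImplicit false
open Cfsg

namespace Cfsg.Agent.S4217

/-- Let `A` be an abelian normal subgroup of the finite group `G`. Then `A` has a complement in `G` if and only if, for every prime `p` dividing the index of `A`, there are a Sylow `p`-subgroup `S` of `G/A` and a subgroup `K` of `G` with `K ∩ A = 1` and `KA` equal to the preimage of `S` (that is, `A` has a complement in the preimage of a Sylow `p`-subgroup of `G/A`). -/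
theorem result {G : Type*} [Group G] [Finite G] (A : Subgroup G) [A.Normal] (hA : IsMulCommutative A) : (∃ K : Subgroup G, K.IsComplement' A) ↔ ∀ p : ℕ, p.Prime → p ∣ A.index → ∃ (S : Sylow p (G ⧸ A)) (K : Subgroup G), K ⊓ A = ⊥ ∧ K ⊔ A = (S : Subgroup (G ⧸ A)).comap (QuotientGroup.mk' A) := by
  have hsurj : Function.Surjective (QuotientGroup.mk' A) := QuotientGroup.mk'_surjective A
  constructor
  · rintro ⟨K, hK⟩ p hp hpA
    haveI : Fact p.Prime := ⟨hp⟩
    obtain ⟨S₀⟩ : Nonempty (Sylow p K) := inferInstance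
    have hKA : K ⊓ A = ⊥ := disjoint_iff.mp hK.disjoint
    have hK'K : (S₀ : Subgroup K).map K.subtype ≤ K := Subgroup.map_subtype_le _
    have hK'A : (S₀ : Subgroup K).map K.subtype ⊓ A = ⊥ := by
      rw [eq_bot_iff, ← hKA]
      exact inf_le_inf_right A hK'K
    have hcard : Nat.card (((S₀ : Subgroup K).map K.subtype).map (QuotientGroup.mk' A)) =
        p ^ (Nat.card (G ⧸ A)).factorization p := by
      rw [← Subgroup.relIndex_ker, QuotientGroup.ker_mk', ← Subgroup.inf_relIndex_right,
        inf_comm, hK'A, Subgroup.relIndex_bot_left,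
        Nat.card_congr (Subgroup.equivMapOfInjective (S₀ : Subgroup K) K.subtype
          (Subgroup.subtype_injective K)).toEquiv.symm,
        Sylow.card_eq_multiplicity, ← Subgroup.index_eq_card A, hK.index_eq_card]
    refine ⟨Sylow.ofCard _ hcard, (S₀ : Subgroup K).map K.subtype, hK'A, ?_⟩
    rw [Sylow.coe_ofCard, Subgroup.comap_map_eq, QuotientGroup.ker_mk']
  · intro h
    have h' : ∀ p : ℕ, p.Prime → p ∣ A.index →
        ∃ K : Subgroup G, K ⊓ A = ⊥ ∧ ¬ p ∣ (A ⊔ K).index := by
      intro p hp hpA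
      haveI : Fact p.Prime := ⟨hp⟩
      obtain ⟨S, K, hKA, hKS⟩ := h p hp hpA
      refine ⟨K, hKA, ?_⟩
      rw [sup_comm, hKS, Subgroup.index_comap_of_surjective _ hsurj]
      exact S.not_dvd_index
    obtain ⟨L, h1, h2⟩ := Cfsg.Agent.Lib.Helper2.Gaschutz.exists_complement_of_primes A h'
    exact ⟨L, Cfsg.Agent.Lib.Helper2.Gaschutz.isComplement'_of_inf_sup A L h1 h2⟩

end Cfsg.Agent.S4217
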