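import Cfsg.Statements.S4218
import Mathlib
import Cfsg.Agent.Lib.Helper3.QuotAct
import Cfsg.Agent.Lib.Helper3.BurnsideFrattini
import Cfsg.Agent.Lib.Helper3.PSolvable
import Cfsg.Agent.Lib.Helper2.Cores
import Cfsg.Agent.Lib.Helper2.PGroupFrattini
-- import your own Cfsg.Agent.* helpers here

set_option autoImplicit false
open Cfsg

namespace Cfsg.Agent.S4218

open Cfsg.Agent.Lib.Helper3
open scoped commutatorElement

theorem key {G : Type*} [Group G] [Finite G] {p : ℕ} [hp : Fact p.Prime]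
    (N H : Subgroup G) [hN : N.Normal] [hH : H.Normal]
    (hQ : IsPGroup p (↥H ⧸ N.subgroupOf H))
    (hC : ∀ g : G, (∀ x ∈ H, g * x * g⁻¹ * x⁻¹ ∈ N) → g ∈ H)
    (hO : ∀ K : Subgroup G, K.Normal → IsPGroup p (K.map (QuotientGroup.mk' N)) → K ≤ H)
    (g : G) :
    (∀ x ∈ H, g * x * g⁻¹ * x⁻¹ ∈ ((frattini (↥H ⧸ N.subgroupOf H)).comap
      (QuotientGroup.mk' (N.subgroupOf H))).map H.subtype) ↔ g ∈ H := by
  constructor
  · intro hg
    set K : Subgroup G := (trivOnFrattiniQuot (↥H ⧸ N.subgroupOf H)).comap (quotAct N H) with hK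
    have hKn : K.Normal := Subgroup.Normal.comap inferInstance _
    have hgK : g ∈ K := by
      rw [hK, Subgroup.mem_comap, mem_trivOnFrattiniQuot]
      intro q
      induction q using QuotientGroup.induction_on with
      | H x =>
        obtain ⟨x, hx⟩ := x
        obtain ⟨y, hy, hyx⟩ := hg x hx
        have hy : (QuotientGroup.mk' (N.subgroupOf H)) y ∈ frattini (↥H ⧸ N.subgroupOf H) := hy
        rw [quotAct_mk']
        have : y = (⟨g * x * g⁻¹, hH.conj_mem x hx g⟩ : H) * (⟨x, hx⟩ : H)⁻¹ := by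
          apply Subtype.ext
          rw [← Subgroup.subtype_apply, hyx]
          rfl
        rw [this] at hy
        exact hy
    have hKp : IsPGroup p (K.map (QuotientGroup.mk' N)) := by
      rintro ⟨_, k, hk, rfl⟩
      have hk' : quotAct N H k ∈ trivOnFrattiniQuot (↥H ⧸ N.subgroupOf H) := hk
      obtain ⟨a, ha⟩ := exists_pow_eq_one_of_trivOnFrattiniQuot hQ _ hk'
      rw [← map_pow] at ha
      have h1 := (quotAct_eq_one_iff N H _).mp ha
      have h2 : k ^ p ^ a ∈ H := hC _ h1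
      obtain ⟨b, hb⟩ := hQ (QuotientGroup.mk ⟨k ^ p ^ a, h2⟩)
      refine ⟨a + b, ?_⟩
      apply Subtype.ext
      rw [← QuotientGroup.mk_pow, QuotientGroup.eq_one_iff, Subgroup.mem_subgroupOf] at hb
      have h3 : (k ^ p ^ a) ^ p ^ b ∈ N := by simpa using hb
      rw [← pow_mul, ← pow_add] at h3
      simp only [Subgroup.coe_pow, Subgroup.coe_one, QuotientGroup.mk'_apply]
      rw [← QuotientGroup.mk_pow, QuotientGroup.eq_one_iff]
      exact h3
    exact hO K hKn hKp hgK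
  · intro hg x hx
    have hmem : g * x * g⁻¹ * x⁻¹ ∈ H := H.mul_mem (hH.conj_mem x hx g) (H.inv_mem hx)
    refine ⟨⟨g * x * g⁻¹ * x⁻¹, hmem⟩, ?_, rfl⟩
    show (QuotientGroup.mk' (N.subgroupOf H)) ⟨g * x * g⁻¹ * x⁻¹, hmem⟩ ∈ frattini (↥H ⧸ N.subgroupOf H)
    have hcomm := Cfsg.Agent.Lib.Helper2.commutator_le_frattini_of_isPGroup hQ
    apply hcomm
    have : (QuotientGroup.mk' (N.subgroupOf H)) ⟨g * x * g⁻¹ * x⁻¹, hmem⟩ =
        ⁅(QuotientGroup.mk' (N.subgroupOf H)) ⟨g, hg⟩, (QuotientGroup.mk' (N.subgroupOf H)) ⟨x, hx⟩⁆ := by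
      rw [← map_commutatorElement]
      rfl
    rw [this]
    exact Subgroup.commutator_mem_commutator (Subgroup.mem_top _) (Subgroup.mem_top _)

/-- Let `G` be a finite `p`-solvable group, `N₀ = O_{p'}(G)`, `P₁ = O_{p',p}(G)`, and let `F ≤ P₁` be the preimage of the Frattini subgroup of `P₁/N₀`. Then an element `g` of `G` induces the identity on `P₁/F` by conjugation (that is, `g x g⁻¹ x⁻¹ ∈ F` for all `x ∈ P₁`) if and only if `g ∈ P₁`: the group `G/P₁` acts faithfully on `P₁/F`. -/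
theorem result {G : Type*} [Group G] [Finite G] {p : ℕ} [Fact p.Prime] (hG : Cfsg.IsPSolvable p G) (g : G) : (∀ x ∈ Cfsg.pPrimePCore p G, g * x * g⁻¹ * x⁻¹ ∈ ((frattini (↥(Cfsg.pPrimePCore p G) ⧸ (Cfsg.pPrimeCore p G).subgroupOf (Cfsg.pPrimePCore p G))).comap (QuotientGroup.mk' ((Cfsg.pPrimeCore p G).subgroupOf (Cfsg.pPrimePCore p G)))).map (Cfsg.pPrimePCore p G).subtype) ↔ g ∈ Cfsg.pPrimePCore p G := by
  classical
  have hp : p.Prime := Fact.out
  have hsolq : Cfsg.IsPSolvable p (G ⧸ Cfsg.pPrimeCore p G) :=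
    isPSolvable_quotient hp hG (Cfsg.pPrimeCore p G)
  have hOp'q : Cfsg.pPrimeCore p (G ⧸ Cfsg.pPrimeCore p G) = ⊥ := pPrimeCore_quotient_pPrimeCore p
  have hHH := centralizer_pCore_le hsolq hOp'q
  have hPbp : IsPGroup p (Cfsg.pCore p (G ⧸ Cfsg.pPrimeCore p G)) :=
    Cfsg.Agent.Lib.Helper2.pCore_isPGroup p
  have hP₁ : Cfsg.pPrimePCore p G = (Cfsg.pCore p (G ⧸ Cfsg.pPrimeCore p G)).comap
    (QuotientGroup.mk' (Cfsg.pPrimeCore p G)) := rfl
  have hP₁n : (Cfsg.pPrimePCore p G).Normal := by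
    rw [hP₁]; exact Subgroup.Normal.comap inferInstance _
  refine key (p := p) (Cfsg.pPrimeCore p G) (Cfsg.pPrimePCore p G) ?_ ?_ ?_ g
  · -- Q is a p-group
    intro q
    induction q using QuotientGroup.induction_on with
    | H x =>
      obtain ⟨x, hx⟩ := x
      have hx' : (QuotientGroup.mk' (Cfsg.pPrimeCore p G) x) ∈ Cfsg.pCore p (G ⧸ Cfsg.pPrimeCore p G) := by
        rw [hP₁] at hx; exact hx
      obtain ⟨k, hk⟩ := hPbp ⟨_, hx'⟩
      refine ⟨k, ?_⟩
      rw [← QuotientGroup.mk_pow, QuotientGroup.eq_one_iff, Subgroup.mem_subgroupOf]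
      have h1 : (QuotientGroup.mk' (Cfsg.pPrimeCore p G) x) ^ p ^ k = 1 := by
        have := congrArg Subtype.val hk
        simpa using this
      rw [← map_pow, QuotientGroup.mk'_apply, QuotientGroup.eq_one_iff] at h1
      simpa using h1
  · intro g hg
    rw [hP₁, Subgroup.mem_comap]
    apply hHH
    rw [Subgroup.mem_centralizer_iff]
    intro y hy
    obtain ⟨x, rfl⟩ := QuotientGroup.mk'_surjective (Cfsg.pPrimeCore p G) y
    have hx : x ∈ Cfsg.pPrimePCore p G := by rw [hP₁, Subgroup.mem_comap]; exact hy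
    have h1 := hg x hx
    rw [← QuotientGroup.eq_one_iff] at h1
    have h2 : (QuotientGroup.mk' (Cfsg.pPrimeCore p G)) g * (QuotientGroup.mk' (Cfsg.pPrimeCore p G)) x *
        ((QuotientGroup.mk' (Cfsg.pPrimeCore p G)) g)⁻¹ * ((QuotientGroup.mk' (Cfsg.pPrimeCore p G)) x)⁻¹ = 1 := by
      rw [← h1]; simp
    have h3 := mul_inv_eq_one.mp h2
    have h4 := mul_inv_eq_iff_eq_mul.mp h3
    exact h4.symm
  · intro K hKn hKp
    have hKbn : (K.map (QuotientGroup.mk' (Cfsg.pPrimeCore p G))).Normal :=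
      Subgroup.Normal.map hKn _ (QuotientGroup.mk'_surjective _)
    have hle := Cfsg.Agent.Lib.Helper2.le_pCore hKbn hKp
    intro k hk
    rw [hP₁, Subgroup.mem_comap]
    exact hle ⟨k, hk, rfl⟩

end Cfsg.Agent.S4218
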