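import Cfsg.Statements.S4219
-- import your own Cfsg.Agent.* helpers here

set_option autoImplicit false
open Pointwise
open Cfsg

namespace Cfsg.Agent.S4219

theorem sylow_conj_in_subgroup {G : Type*} [Group G] [Finite G] {p : ℕ} [Fact p.Prime]
    (K Q₁ Q₂ : Subgroup G) (h₁ : Q₁ ≤ K) (h₂ : Q₂ ≤ K)
    (c₁ : Nat.card Q₁ = p ^ (Nat.card K).factorization p)
    (c₂ : Nat.card Q₂ = p ^ (Nat.card K).factorization p) :
    ∃ h ∈ K, MulAut.conj h • Q₂ = Q₁ := by
  have e₁ : Nat.card (Q₁.subgroupOf K) = p ^ (Nat.card K).factorization p := by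
    rw [← c₁]; exact Nat.card_congr (Subgroup.subgroupOfEquivOfLe h₁).toEquiv
  have e₂ : Nat.card (Q₂.subgroupOf K) = p ^ (Nat.card K).factorization p := by
    rw [← c₂]; exact Nat.card_congr (Subgroup.subgroupOfEquivOfLe h₂).toEquiv
  let S₁ : Sylow p K := Sylow.ofCard (Q₁.subgroupOf K) e₁
  let S₂ : Sylow p K := Sylow.ofCard (Q₂.subgroupOf K) e₂
  obtain ⟨h, hh⟩ := MulAction.exists_smul_eq K S₂ S₁
  refine ⟨h.1, h.2, ?_⟩
  have h3 : (MulAut.conj h • (Q₂.subgroupOf K) : Subgroup K) = Q₁.subgroupOf K := by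
    have := congrArg (fun S : Sylow p K => (S : Subgroup K)) hh
    simp only [Sylow.coe_subgroup_smul] at this
    exact this
  ext y
  constructor
  · intro hy
    rw [Subgroup.mem_pointwise_smul_iff_inv_smul_mem] at hy
    have hyK : y ∈ K := by
      have : (MulAut.conj (h:G))⁻¹ • y ∈ K := h₂ hy
      simp only [MulAut.smul_def, MulAut.conj_inv_apply] at this
      have := K.mul_mem (K.mul_mem h.2 this) (K.inv_mem h.2)
      simpa [mul_assoc] using this
    have : (⟨y, hyK⟩ : K) ∈ (MulAut.conj h • (Q₂.subgroupOf K) : Subgroup K) := by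
      rw [Subgroup.mem_pointwise_smul_iff_inv_smul_mem, Subgroup.mem_subgroupOf]
      simpa [MulAut.smul_def] using hy
    rw [h3, Subgroup.mem_subgroupOf] at this
    exact this
  · intro hy
    have hyK : y ∈ K := h₁ hy
    have : (⟨y, hyK⟩ : K) ∈ Q₁.subgroupOf K := by rw [Subgroup.mem_subgroupOf]; exact hy
    rw [← h3, Subgroup.mem_pointwise_smul_iff_inv_smul_mem, Subgroup.mem_subgroupOf] at this
    rw [Subgroup.mem_pointwise_smul_iff_inv_smul_mem]
    simpa [MulAut.smul_def] using this


/-- Let a finite group `G` act `t`-fold transitively on a finite set, let `H` be the stabilizer of `t` distinct points and `P` a Sylow `p`-subgroup of `H`. Then the normalizer of `P` in `G` is `t`-fold transitive on the fixed points of `P`: any `t` distinct fixed points of `P` can be carried to any other `t` distinct fixed points of `P` by an element normalizing `P`. -/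
theorem result {G : Type*} [Group G] [Finite G] {α : Type*} [Fintype α] [MulAction G α] {t : ℕ} (hG : MulAction.IsMultiplyPretransitive G α t) (x : Fin t ↪ α) {p : ℕ} [Fact p.Prime] (P : Sylow p (MulAction.stabilizer G x)) (a b : Fin t ↪ α) (ha : ∀ i, a i ∈ MulAction.fixedPoints ((P : Subgroup (MulAction.stabilizer G x)).map (MulAction.stabilizer G x).subtype) α) (hb : ∀ i, b i ∈ MulAction.fixedPoints ((P : Subgroup (MulAction.stabilizer G x)).map (MulAction.stabilizer G x).subtype) α) : ∃ g ∈ Subgroup.normalizer ((((P : Subgroup (MulAction.stabilizer G x)).map (MulAction.stabilizer G x).subtype) : Subgroup G) : Set G), g • a = b := by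
  classical
  set P' : Subgroup G := (P : Subgroup (MulAction.stabilizer G x)).map (MulAction.stabilizer G x).subtype with hP'
  have hcard : Nat.card P' = p ^ (Nat.card (MulAction.stabilizer G x)).factorization p := by
    rw [← P.card_eq_multiplicity]
    exact Nat.card_congr (Subgroup.equivMapOfInjective _ _ (Subgroup.subtype_injective _)).symm.toEquiv
  have hstab : ∀ y : Fin t ↪ α, Nat.card (MulAction.stabilizer G y) = Nat.card (MulAction.stabilizer G x) := by
    intro y
    obtain ⟨g, rfl⟩ := MulAction.exists_smul_eq G x y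
    rw [MulAction.stabilizer_smul_eq_stabilizer_map_conj]
    exact Nat.card_congr (Subgroup.equivMapOfInjective _ _ (MulAut.conj g).injective).symm.toEquiv
  have hle : ∀ y : Fin t ↪ α, (∀ i, y i ∈ MulAction.fixedPoints P' α) → P' ≤ MulAction.stabilizer G y := by
    intro y hy g hg
    rw [MulAction.mem_stabilizer_iff]
    ext i
    have := hy i ⟨g, hg⟩
    simpa using this
  obtain ⟨g₀, hg₀⟩ := MulAction.exists_smul_eq G a b
  have hQ₂le : MulAut.conj g₀ • P' ≤ MulAction.stabilizer G b := by
    rw [← hg₀, MulAction.stabilizer_smul_eq_stabilizer_map_conj]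
    exact Subgroup.map_mono (hle a ha)
  have hQ₂card : Nat.card (MulAut.conj g₀ • P' : Subgroup G) = Nat.card P' := by
    exact Nat.card_congr (Subgroup.equivMapOfInjective _ _ (MulAut.conj g₀).injective).symm.toEquiv
  obtain ⟨h, hh, hconj⟩ := sylow_conj_in_subgroup (p := p) (MulAction.stabilizer G b) P' (MulAut.conj g₀ • P')
    (hle b hb) hQ₂le (by rw [hcard, hstab b]) (by rw [hQ₂card, hcard, hstab b])
  refine ⟨h * g₀, ?_, ?_⟩
  · have hc : MulAut.conj (h * g₀) • P' = P' := by
      rw [map_mul, mul_smul, hconj]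
    rw [Subgroup.mem_normalizer_iff]
    intro k
    rw [← Subgroup.smul_mem_pointwise_smul_iff (a := MulAut.conj (h * g₀)), hc]
    rfl
  · rw [mul_smul, hg₀]
    exact MulAction.mem_stabilizer_iff.mp hh

end Cfsg.Agent.S4219
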