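import Cfsg.Statements.S4223
import Mathlib

set_option autoImplicit false
open Cfsg

namespace Cfsg.Agent.S4223

/-- direct indecomposability, as in the statement -/
def Indec (H : Type*) [Group H] : Prop :=
  ∀ P Q : Subgroup H, P.Normal → Q.Normal → P ⊓ Q = ⊥ → P ⊔ Q = ⊤ → P = ⊥ ∨ Q = ⊥

/-- Fitting-type lemma: if two endomorphisms of an indecomposable finite group multiply
pointwise to the identity, one of them is bijective. -/
theorem lemmaZ {H : Type*} [Group H] [Finite H] [Nontrivial H] (hind : Indec H)
    (f g : H →* H) (hfg : ∀ x, f x * g x = x) :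
    Function.Bijective f ∨ Function.Bijective g := by
  have hcomm : ∀ x y, g x * f y = f y * g x := by
    intro x y
    have h1 := hfg (x * y)
    rw [map_mul, map_mul] at h1
    have h2 : f x * f y * (g x * g y) = f x * g x * (f y * g y) := by rw [h1, hfg x, hfg y]
    simp only [mul_assoc] at h2
    have h3 := mul_left_cancel h2
    rw [← mul_assoc, ← mul_assoc] at h3
    exact (mul_right_cancel h3).symm
  have hfn : ∀ k x, f (k * x * k⁻¹) = k * f x * k⁻¹ := by
    intro k x
    rw [map_mul, map_mul, map_inv]
    have e1 : k * f x * k⁻¹ = (f k * g k) * f x * (f k * g k)⁻¹ := by rw [hfg k]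
    rw [e1, mul_inv_rev, mul_assoc (f k) (g k), hcomm k x]
    group
  have hfn' : ∀ n k x, (f^[n]) (k * x * k⁻¹) = k * (f^[n]) x * k⁻¹ := by
    intro n
    induction n with
    | zero => intro k x; rfl
    | succ n ih =>
      intro k x
      rw [Function.iterate_succ_apply', Function.iterate_succ_apply', ih, hfn]
  let F : ℕ → (H →* H) := fun n => (show Monoid.End H from f) ^ n
  have hF : ∀ n x, F n x = (f^[n]) x := fun n x => rfl
  let K : ℕ →o Subgroup H := ⟨fun n => (F n).ker, by
    intro a b hab x hx
    rw [MonoidHom.mem_ker, hF] at hx ⊢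
    obtain ⟨c, rfl⟩ := Nat.exists_eq_add_of_le hab
    rw [add_comm, Function.iterate_add_apply, hx]
    exact iterate_map_one f c⟩
  obtain ⟨n, hn⟩ := WellFoundedGT.monotone_chain_condition K
  have hKdef : ∀ m x, x ∈ K m ↔ (f^[m]) x = 1 := by
    intro m x
    show x ∈ (F m).ker ↔ _
    rw [MonoidHom.mem_ker, hF]
  have hQn : ((F n).range).Normal := by
    refine ⟨fun y hy k => ?_⟩
    obtain ⟨x, rfl⟩ := hy
    refine ⟨k * x * k⁻¹, ?_⟩
    rw [hF, hF, hfn']
  have hdisj : (F n).ker ⊓ (F n).range = ⊥ := by
    rw [eq_bot_iff]
    intro x hx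
    obtain ⟨hx1, ⟨y, hy⟩⟩ := Subgroup.mem_inf.mp hx
    rw [MonoidHom.mem_ker, hF] at hx1
    rw [hF] at hy
    have h2 : y ∈ K (n + n) := by
      rw [hKdef, Function.iterate_add_apply, hy, hx1]
    rw [← hn (n + n) (Nat.le_add_right n n), hKdef] at h2
    rw [Subgroup.mem_bot, ← hy, h2]
  have hcard : Nat.card (F n).ker * Nat.card (F n).range = Nat.card H := by
    have h1 := Subgroup.card_eq_card_quotient_mul_card_subgroup (F n).ker
    have h2 : Nat.card (H ⧸ (F n).ker) = Nat.card (F n).range :=
      Nat.card_congr (QuotientGroup.quotientKerEquivRange (F n)).toEquiv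
    rw [h1, h2, mul_comm]
  have hC : Subgroup.IsComplement' (F n).ker (F n).range :=
    Subgroup.isComplement'_of_card_mul_and_disjoint hcard (disjoint_iff.mpr hdisj)
  rcases hind _ _ (MonoidHom.normal_ker _) hQn hdisj hC.sup_eq_top with h0 | h0
  · left
    have hker : f.ker = ⊥ := by
      rw [eq_bot_iff]
      intro x hx
      have h1 : x ∈ K 1 := by
        rw [hKdef]
        exact MonoidHom.mem_ker.mp hx
      have h2 : x ∈ K (n + 1) := K.monotone (Nat.le_add_left 1 n) h1
      rw [← hn (n + 1) (Nat.le_add_right n 1)] at h2
      have h3 : x ∈ (F n).ker := h2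
      rwa [h0] at h3
    exact Finite.injective_iff_bijective.mp ((MonoidHom.ker_eq_bot_iff f).mp hker)
  · right
    have hnil : ∀ x, (f^[n]) x = 1 := by
      intro x
      have h1 : F n x ∈ (F n).range := ⟨x, rfl⟩
      rw [h0, Subgroup.mem_bot, hF] at h1
      exact h1
    apply Finite.injective_iff_bijective.mp
    rw [injective_iff_map_eq_one]
    intro x hx
    have h1 : f x = x := by
      have := hfg x
      rwa [hx, mul_one] at this
    have h2 : (f^[n]) x = x := Function.iterate_fixed h1 n
    rw [← h2, hnil]

/-- restriction of a tuple to the coordinates in `J` (the others set to `1`) -/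
def res {κ : Type*} [DecidableEq κ] (B : κ → Type*) [∀ j, Group (B j)] (J : Finset κ) :
    ((j : κ) → B j) →* ((j : κ) → B j) :=
  MonoidHom.mk' (fun x j => if j ∈ J then x j else 1) (by
    intro a b
    funext j
    by_cases hj : j ∈ J <;> simp [hj])

theorem res_apply {κ : Type*} [DecidableEq κ] (B : κ → Type*) [∀ j, Group (B j)] (J : Finset κ)
    (x : (j : κ) → B j) (j : κ) : res B J x j = if j ∈ J then x j else 1 := rfl

theorem theoremR {H : Type*} [Group H] [Finite H] [Nontrivial H] (hindH : Indec H)
    {κ : Type*} [Fintype κ] [DecidableEq κ] (B : κ → Type*) [∀ j, Group (B j)]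
    [∀ j, Finite (B j)] (hindB : ∀ j, Indec (B j))
    (i : H →* ((j : κ) → B j)) (r : ((j : κ) → B j) →* H) (hri : ∀ h, r (i h) = h)
    (hnorm : i.range.Normal) :
    ∃ j0, Function.Bijective (fun h => i h j0) := by
  have claim : ∀ J : Finset κ, Function.Bijective (fun h => r (res B J (i h))) →
      ∃ j0 ∈ J, Function.Bijective (fun h => i h j0) := by
    intro J
    induction J using Finset.induction_on with
    | empty =>
      intro hb
      exfalso
      obtain ⟨a, b, hab⟩ := exists_pair_ne H
      apply hab
      apply hb.1
      show r (res B ∅ (i a)) = r (res B ∅ (i b))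
      have : ∀ y, res B ∅ y = 1 := by
        intro y; funext j; simp [res_apply]
      rw [this, this]
    | insert j0 J' hj0 ih =>
      intro hb
      let sH : H →* H := r.comp ((res B (insert j0 J')).comp i)
      let sE : H ≃* H := MulEquiv.ofBijective sH hb
      let f : H →* H := sE.symm.toMonoidHom.comp (r.comp ((res B {j0}).comp i))
      let g : H →* H := sE.symm.toMonoidHom.comp (r.comp ((res B J').comp i))
      have hres : ∀ y, res B {j0} y * res B J' y = res B (insert j0 J') y := by
        intro y
        funext j
        by_cases h1 : j = j0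
        · subst h1
          simp [res_apply, hj0]
        · by_cases h2 : j ∈ J' <;> simp [res_apply, h1, h2]
      have hfg : ∀ x, f x * g x = x := by
        intro x
        show sE.symm (r (res B {j0} (i x))) * sE.symm (r (res B J' (i x))) = x
        rw [← map_mul, ← map_mul, hres]
        exact sE.symm_apply_apply x
      rcases lemmaZ hindH f g hfg with hf | hg
      · -- the `j0` component
        have ht : Function.Bijective (fun h => r (res B {j0} (i h))) := by
          have : (fun h => r (res B {j0} (i h))) = sE ∘ f := by
            funext h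
            show _ = sE (sE.symm (r (res B {j0} (i h))))
            rw [sE.apply_symm_apply]
          rw [this]
          exact sE.bijective.comp hf
        refine ⟨j0, Finset.mem_insert_self _ _, ?_⟩
        let i1 : H →* B j0 := (Pi.evalMonoidHom B j0).comp i
        let r1 : B j0 →* H := r.comp (MonoidHom.mulSingle B j0)
        have hres1 : ∀ y, res B {j0} y = Pi.mulSingle j0 (y j0) := by
          intro y
          funext j
          by_cases h1 : j = j0
          · subst h1; simp [res_apply]
          · simp [res_apply, h1]
        have ht' : ∀ h, r (res B {j0} (i h)) = r1 (i1 h) := by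
          intro h
          rw [hres1]
          rfl
        have hI : (i1.range).Normal := by
          have : i1.range = i.range.map (Pi.evalMonoidHom B j0) := MonoidHom.range_comp _ _
          rw [this]
          exact Subgroup.Normal.map hnorm _ (fun b => ⟨Pi.mulSingle j0 b, by simp⟩)
        have hdisj : i1.range ⊓ r1.ker = ⊥ := by
          rw [eq_bot_iff]
          intro x hx
          obtain ⟨⟨h, rfl⟩, hx2⟩ := Subgroup.mem_inf.mp hx
          rw [MonoidHom.mem_ker, ← ht'] at hx2
          have h1 : h = 1 := by
            apply ht.1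
            show r (res B {j0} (i h)) = r (res B {j0} (i 1))
            rw [hx2, map_one, map_one, map_one]
          rw [h1, map_one]
          exact Subgroup.mem_bot.mpr rfl
        have hsup : i1.range ⊔ r1.ker = ⊤ := by
          rw [eq_top_iff]
          intro b _
          obtain ⟨h, hh⟩ := ht.2 (r1 b)
          have hh' : r1 (i1 h) = r1 b := by rw [← ht']; exact hh
          have h2 : b * (i1 h)⁻¹ ∈ r1.ker := by
            rw [MonoidHom.mem_ker, map_mul, map_inv, hh', mul_inv_cancel]
          have h3 : b = (i1 h) * ((i1 h)⁻¹ * b) := by group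
          have h4 : (i1 h)⁻¹ * b ∈ r1.ker := by
            rw [MonoidHom.mem_ker, map_mul, map_inv, hh', inv_mul_cancel]
          rw [h3]
          exact Subgroup.mul_mem_sup ⟨h, rfl⟩ h4
        rcases hindB j0 _ _ hI (MonoidHom.normal_ker r1) hdisj hsup with h0 | h0
        · exfalso
          obtain ⟨a, b, hab⟩ := exists_pair_ne H
          apply hab
          apply ht.1
          show r (res B {j0} (i a)) = r (res B {j0} (i b))
          have hz : ∀ h, i1 h = 1 := by
            intro h
            have : i1 h ∈ i1.range := ⟨h, rfl⟩
            rwa [h0, Subgroup.mem_bot] at this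
          rw [ht', ht', hz, hz]
        · have hr1 : Function.Injective r1 := (MonoidHom.ker_eq_bot_iff r1).mp h0
          constructor
          · intro a b hab
            apply ht.1
            show r (res B {j0} (i a)) = r (res B {j0} (i b))
            rw [ht', ht']
            exact congrArg r1 hab
          · intro b
            obtain ⟨h, hh⟩ := ht.2 (r1 b)
            refine ⟨h, hr1 ?_⟩
            rw [← hh]
            exact (ht' h).symm
      · have ht : Function.Bijective (fun h => r (res B J' (i h))) := by
          have : (fun h => r (res B J' (i h))) = sE ∘ g := by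
            funext h
            show _ = sE (sE.symm (r (res B J' (i h))))
            rw [sE.apply_symm_apply]
          rw [this]
          exact sE.bijective.comp hg
        obtain ⟨j, hj, hb'⟩ := ih ht
        exact ⟨j, Finset.mem_insert_of_mem hj, hb'⟩
  have huniv : ∀ y, res B Finset.univ y = y := by
    intro y; funext j; simp [res_apply]
  obtain ⟨j0, -, hb⟩ := claim Finset.univ (by
    have : (fun h => r (res B Finset.univ (i h))) = id := by
      funext h
      show r (res B Finset.univ (i h)) = h
      rw [huniv, hri]
    rw [this]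
    exact Function.bijective_id)
  exact ⟨j0, hb⟩

theorem main : ∀ (m : ℕ) {n : ℕ} {A : Fin m → Type*} {B : Fin n → Type*} [∀ i, Group (A i)]
    [∀ j, Group (B j)] [∀ i, Finite (A i)] [∀ j, Finite (B j)]
    (_ : ∀ i, Nontrivial (A i) ∧ Indec (A i)) (_ : ∀ j, Nontrivial (B j) ∧ Indec (B j))
    (_ : ((i : Fin m) → A i) ≃* ((j : Fin n) → B j)),
    ∃ σ : Fin m ≃ Fin n, ∀ i, Nonempty (A i ≃* B (σ i)) := by
  intro m
  induction m with
  | zero =>
    intro n A B _ _ _ _ hA hB e
    cases n with
    | zero => exact ⟨Equiv.refl _, fun i => i.elim0⟩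
    | succ n =>
      exfalso
      haveI := (hB 0).1
      obtain ⟨a, b, hab⟩ := exists_pair_ne (B 0)
      apply hab
      have h1 : e.symm (Pi.mulSingle 0 a) = e.symm (Pi.mulSingle 0 b) := Subsingleton.elim _ _
      have h2 := e.symm.injective h1
      have h3 := congrFun h2 0
      simpa using h3
  | succ m ih =>
    intro n A B _ _ _ _ hA hB e
    haveI := (hA 0).1
    let i : A 0 →* ((j : Fin n) → B j) := e.toMonoidHom.comp (MonoidHom.mulSingle A 0)
    let r : ((j : Fin n) → B j) →* A 0 := (Pi.evalMonoidHom A 0).comp e.symm.toMonoidHom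
    have hri : ∀ h, r (i h) = h := by
      intro h
      show (e.symm (e (Pi.mulSingle 0 h))) 0 = h
      rw [e.symm_apply_apply, Pi.mulSingle_eq_same]
    have hnormA : ((MonoidHom.mulSingle A 0).range).Normal := by
      refine ⟨fun y hy k => ?_⟩
      obtain ⟨a, rfl⟩ := hy
      refine ⟨k 0 * a * (k 0)⁻¹, ?_⟩
      funext j
      by_cases hj : j = 0
      · subst hj; simp
      · simp [hj]
    have hnorm : i.range.Normal := by
      have : i.range = (MonoidHom.mulSingle A 0).range.map e.toMonoidHom := MonoidHom.range_comp _ _
      rw [this]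
      exact Subgroup.Normal.map hnormA _ e.surjective
    obtain ⟨j0, hbij⟩ := theoremR (hA 0).2 B (fun j => (hB j).2) i r hri hnorm
    cases n with
    | zero => exact j0.elim0
    | succ n =>
      -- the two complements
      let insHom : ((k : Fin n) → B (j0.succAbove k)) →* ((j : Fin (n + 1)) → B j) :=
        MonoidHom.mk' (fun y => Fin.insertNth j0 (1 : B j0) y) (by
          intro a b
          funext j
          refine Fin.succAboveCases j0 ?_ ?_ j
          · simp
          · intro k; simp)
      let consHom : ((k : Fin m) → A k.succ) →* ((j : Fin (m + 1)) → A j) :=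
        MonoidHom.mk' (fun x => Fin.cons (1 : A 0) x) (by
          intro a b
          funext j
          refine Fin.cases ?_ ?_ j
          · simp
          · intro k; simp)
      let φa : ((k : Fin n) → B (j0.succAbove k)) →* ((j : Fin (n + 1)) → B j) ⧸ i.range :=
        (QuotientGroup.mk' i.range).comp insHom
      let φb : ((k : Fin m) → A k.succ) →* ((j : Fin (n + 1)) → B j) ⧸ i.range :=
        (QuotientGroup.mk' i.range).comp (e.toMonoidHom.comp consHom)
      have hφa : Function.Bijective φa := by
        constructor
        · rw [injective_iff_map_eq_one]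
          intro y hy
          have h1 : Fin.insertNth j0 (1 : B j0) y ∈ i.range := (QuotientGroup.eq_one_iff _).mp hy
          obtain ⟨a, ha⟩ := h1
          have h2 : (fun h => i h j0) a = (fun h => i h j0) 1 := by
            show i a j0 = i 1 j0
            rw [ha, map_one]
            simp
          have h3 := hbij.1 h2
          rw [h3, map_one] at ha
          funext k
          have := congrFun ha (j0.succAbove k)
          simpa using this.symm
        · intro q
          obtain ⟨g, rfl⟩ := QuotientGroup.mk_surjective q
          obtain ⟨a, ha⟩ := hbij.2 (g j0)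
          have ha' : i a j0 = g j0 := ha
          refine ⟨fun k => (g * (i a)⁻¹) (j0.succAbove k), ?_⟩
          show QuotientGroup.mk (Fin.insertNth j0 (1 : B j0)
            (fun k => (g * (i a)⁻¹) (j0.succAbove k))) = QuotientGroup.mk g
          have h1 : Fin.insertNth j0 (1 : B j0) (fun k => (g * (i a)⁻¹) (j0.succAbove k)) =
              g * (i a)⁻¹ := by
            funext j
            refine Fin.succAboveCases j0 ?_ ?_ j
            · simp [ha']
            · intro k; simp
          rw [h1, QuotientGroup.eq]
          have : (g * (i a)⁻¹)⁻¹ * g = i a := by group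
          rw [this]
          exact ⟨a, rfl⟩
      have hφb : Function.Bijective φb := by
        constructor
        · rw [injective_iff_map_eq_one]
          intro x hx
          have h1 : e (Fin.cons (1 : A 0) x) ∈ i.range := (QuotientGroup.eq_one_iff _).mp hx
          obtain ⟨a, ha⟩ := h1
          have h2 : Pi.mulSingle 0 a = Fin.cons (1 : A 0) x := e.injective ha
          funext k
          have := congrFun h2 k.succ
          rw [Pi.mulSingle_eq_of_ne (Fin.succ_ne_zero k)] at this
          simpa using this.symm
        · intro q
          obtain ⟨g, rfl⟩ := QuotientGroup.mk_surjective q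
          refine ⟨fun k => (e.symm g) k.succ, ?_⟩
          show QuotientGroup.mk (e (Fin.cons (1 : A 0) (fun k => (e.symm g) k.succ))) =
            QuotientGroup.mk g
          rw [QuotientGroup.eq]
          refine ⟨(e.symm g) 0, ?_⟩
          show e (Pi.mulSingle 0 ((e.symm g) 0)) = _
          have h1 : g = e (e.symm g) := (e.apply_symm_apply g).symm
          conv_rhs => rw [h1]
          rw [← map_inv, ← map_mul]
          congr 1
          funext j
          refine Fin.cases ?_ ?_ j
          · simp
          · intro k
            rw [Pi.mulSingle_eq_of_ne (Fin.succ_ne_zero k)]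
            simp
      let e' : ((k : Fin m) → A k.succ) ≃* ((k : Fin n) → B (j0.succAbove k)) :=
        (MulEquiv.ofBijective φb hφb).trans (MulEquiv.ofBijective φa hφa).symm
      obtain ⟨σ', hσ'⟩ := ih (A := fun k => A k.succ) (B := fun k => B (j0.succAbove k))
        (fun k => hA k.succ) (fun k => hB (j0.succAbove k)) e'
      let σ : Fin (m + 1) ≃ Fin (n + 1) :=
        (finSuccEquiv' 0).trans ((Equiv.optionCongr σ').trans (finSuccEquiv' j0).symm)
      refine ⟨σ, ?_⟩
      intro k
      refine Fin.cases ?_ ?_ k
      · have h0 : σ 0 = j0 := by simp [σ]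
        rw [h0]
        exact ⟨MulEquiv.ofBijective ((Pi.evalMonoidHom B j0).comp i) hbij⟩
      · intro k
        have hk0 : (finSuccEquiv' (0 : Fin (m + 1))) k.succ = some k := by
          have := finSuccEquiv'_succAbove (0 : Fin (m + 1)) k
          rwa [Fin.succAbove_zero] at this
        have hk : σ k.succ = j0.succAbove (σ' k) := by simp [σ, hk0]
        rw [hk]
        exact hσ' k

theorem result {m n : ℕ} {A : Fin m → Type*} {B : Fin n → Type*} [∀ i, Group (A i)] [∀ j, Group (B j)] [∀ i, Finite (A i)] [∀ j, Finite (B j)] (hA : ∀ i, Nontrivial (A i) ∧ ∀ H K : Subgroup (A i), H.Normal → K.Normal → H ⊓ K = ⊥ → H ⊔ K = ⊤ → H = ⊥ ∨ K = ⊥) (hB : ∀ j, Nontrivial (B j) ∧ ∀ H K : Subgroup (B j), H.Normal → K.Normal → H ⊓ K = ⊥ → H ⊔ K = ⊤ → H = ⊥ ∨ K = ⊥) (e : ((i : Fin m) → A i) ≃* ((j : Fin n) → B j)) : ∃ σ : Fin m ≃ Fin n, ∀ i, Nonempty (A i ≃* B (σ i)) :=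
  main m hA hB e

end Cfsg.Agent.S4223
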