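import Cfsg.Statements.S4224
import Mathlib
import Cfsg.Agent.Lib.Helper14.RegularP

set_option autoImplicit false
open Cfsg

namespace Cfsg.Agent.S4224

/-- In a regular `p`-group, for all elements `a`, `b` and every power `q = p^k`: `a^q` commutes with `b` if and only if the commutator `a⁻¹b⁻¹ab` has `q`-th power equal to `1`. -/
theorem result {G : Type*} [Group G] [Finite G] {p : ℕ} [Fact p.Prime] (hG : Cfsg.IsRegularPGroup p G) (a b : G) (k : ℕ) : a ^ p ^ k * b = b * a ^ p ^ k ↔ (a⁻¹ * b⁻¹ * a * b) ^ p ^ k = 1 := by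
  have h := Cfsg.Agent.Lib.Helper14.regular_pow_eq_iff p k (Nat.card G) G rfl hG (b⁻¹ * a * b) a
  have e1 : (b⁻¹ * a * b) ^ p ^ k = b⁻¹ * a ^ p ^ k * b := by
    have : b⁻¹ * a * b = b⁻¹ * a * b⁻¹⁻¹ := by rw [inv_inv]
    rw [this, conj_pow, inv_inv]
  have e2 : b⁻¹ * a * b * a⁻¹ = a * (a⁻¹ * b⁻¹ * a * b) * a⁻¹ := by group
  rw [e1, e2, conj_pow] at h
  constructor
  · intro hc
    have h1 : b⁻¹ * a ^ p ^ k * b = a ^ p ^ k := by
      rw [mul_assoc, hc, ← mul_assoc, inv_mul_cancel, one_mul]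
    have h2 := h.mp h1
    have h3 : (a⁻¹ * b⁻¹ * a * b) ^ p ^ k = a⁻¹ * (a * (a⁻¹ * b⁻¹ * a * b) ^ p ^ k * a⁻¹) * a := by group
    rw [h3, h2, mul_one, inv_mul_cancel]
  · intro hc
    have h1 := h.mpr (by rw [hc, mul_one, mul_inv_cancel])
    calc a ^ p ^ k * b = b * (b⁻¹ * a ^ p ^ k * b) := by
          rw [← mul_assoc, ← mul_assoc, mul_inv_cancel, one_mul]
      _ = b * a ^ p ^ k := by rw [h1]


end Cfsg.Agent.S4224
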