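import Cfsg.Statements.S4225
import Mathlib
import Cfsg.Agent.Lib.Helper14.RegularP

set_option autoImplicit false
open Cfsg

namespace Cfsg.Agent.S4225

/-- In a regular `p`-group, for every `k` the elements whose `p^k`-th power is `1` form a characteristic subgroup. -/
theorem result {G : Type*} [Group G] [Finite G] {p : ℕ} [Fact p.Prime] (hG : Cfsg.IsRegularPGroup p G) (k : ℕ) : ∃ H : Subgroup G, H.Characteristic ∧ (H : Set G) = {x : G | x ^ p ^ k = 1} := by
  have key : ∀ x y : G, x ^ p ^ k = 1 → y ^ p ^ k = 1 → (x * y) ^ p ^ k = 1 := by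
    intro x y hx hy
    have h := Cfsg.Agent.Lib.Helper14.regular_pow_eq_iff p k (Nat.card G) G rfl hG x y⁻¹
    rw [inv_inv] at h
    exact h.mp (by rw [hx, inv_pow, hy, inv_one])
  refine ⟨{ carrier := {x : G | x ^ p ^ k = 1}
            mul_mem' := fun {x y} hx hy => key x y hx hy
            one_mem' := one_pow _
            inv_mem' := fun {x} hx => by
              change (x⁻¹) ^ p ^ k = 1
              rw [inv_pow, show x ^ p ^ k = 1 from hx, inv_one] }, ?_, rfl⟩
  rw [Subgroup.characteristic_iff_le_comap]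
  intro ϕ x hx
  change (ϕ x) ^ p ^ k = 1
  rw [← map_pow, show x ^ p ^ k = 1 from hx, map_one]


end Cfsg.Agent.S4225
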