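import Cfsg.Statements.S4227
import Mathlib
import Cfsg.Agent.S0144
import Cfsg.Agent.Lib.Helper2.Cores
import Cfsg.Agent.Lib.Helper2.PGroupFrattini
import Cfsg.Agent.Lib.Helper3.QuotAct
import Cfsg.Agent.Lib.Helper3.BurnsideFrattini
import Cfsg.Agent.Lib.Helper20.Bender
import Cfsg.Agent.Lib.Helper2.PLength
import Cfsg.Agent.Lib.Helper3.PSolvable

set_option autoImplicit false
open Cfsg

namespace Cfsg.Agent.S4227


/-- core computation: `α` fixes `v`, `β` inverts `v`, `ξ` rotates `α → β → αβ`. -/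
lemma aut_sub {V : Type*} [AddCommGroup V]
    (hexp : ∀ v : V, 3 • v = 0) (α β ξ : V ≃+ V)
    (hαα : ∀ v, α (α v) = v) (hββ : ∀ v, β (β v) = v) (hαβ : ∀ v, α (β v) = β (α v))
    (h1 : ∀ v, ξ (α v) = β (ξ v)) (h2 : ∀ v, ξ (β v) = α (β (ξ v)))
    (v : V) (hαv : α v = v) (hβv : β v = -v) (hw : v + ξ v + ξ (ξ v) = 0) : v = 0 := by
  have e1 : ∀ u, α (ξ u) = ξ (α (β u)) := by
    intro u
    rw [h1, h2, ← hαβ (β (ξ u)), hββ]
  have e2 : ∀ u, α (ξ (ξ u)) = ξ (ξ (β u)) := by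
    intro u
    rw [e1, ← h1 u, e1 (α u), hαβ (α u), hαα]
  have hαw : α (v + ξ v + ξ (ξ v)) = v - ξ v - ξ (ξ v) := by
    rw [map_add, map_add, e2 v, e1 v, hβv]
    simp only [map_neg, hαv]
    abel
  rw [hw, map_zero] at hαw
  have h2v : 2 • v = 0 := by
    have : 2 • v = (v + ξ v + ξ (ξ v)) + (v - ξ v - ξ (ξ v)) := by abel
    rw [this, hw, ← hαw, add_zero]
  have h3v := hexp v
  have : v = 3 • v - 2 • v := by abel
  rw [this, h3v, h2v, sub_zero]

lemma aut_main {V : Type*} [AddCommGroup V]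
    (hexp : ∀ v : V, 3 • v = 0) (α β ξ : V ≃+ V)
    (hαα : ∀ v, α (α v) = v) (hββ : ∀ v, β (β v) = v) (hαβ : ∀ v, α (β v) = β (α v))
    (h1 : ∀ v, ξ (α v) = β (ξ v)) (h2 : ∀ v, ξ (β v) = α (β (ξ v)))
    (hne : ∃ u, α (β u) ≠ u) : ∃ v, v + ξ v + ξ (ξ v) ≠ 0 := by
  obtain ⟨u, hu⟩ := hne
  by_contra hcon
  push_neg at hcon
  set e₁ := u + α u - β u - α (β u) with he₁
  set e₂ := u - α u + β u - α (β u) with he₂
  have hαe₁ : α e₁ = e₁ := by
    rw [he₁]
    simp only [map_add, map_sub, hαα]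
    abel
  have hβe₁ : β e₁ = -e₁ := by
    rw [he₁]
    simp only [map_add, map_sub, hββ, ← hαβ]
    abel
  have hαe₂ : α e₂ = -e₂ := by
    rw [he₂]
    simp only [map_add, map_sub, hαα]
    abel
  have hβe₂ : β e₂ = e₂ := by
    rw [he₂]
    simp only [map_add, map_sub, hββ, ← hαβ]
    abel
  have he₁0 : e₁ = 0 := aut_sub hexp α β ξ hαα hββ hαβ h1 h2 e₁ hαe₁ hβe₁ (hcon e₁)
  have he₂0 : e₂ = 0 := by
    refine aut_sub hexp β (β.trans α) ξ hββ ?_ ?_ ?_ ?_ e₂ hβe₂ ?_ (hcon e₂)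
    · intro v
      simp only [AddEquiv.trans_apply]
      rw [hαβ (α (β v)), hαα, hββ]
    · intro v
      simp only [AddEquiv.trans_apply]
      rw [hαβ (β v)]
    · intro v
      simp only [AddEquiv.trans_apply]
      rw [h2]
    · intro v
      simp only [AddEquiv.trans_apply]
      rw [h1, h2]
    · simp only [AddEquiv.trans_apply]
      rw [hβe₂, hαe₂]
  apply hu
  have h2u : 2 • u = 2 • α (β u) := by
    have : e₁ + e₂ = 2 • u - 2 • α (β u) := by rw [he₁, he₂]; abel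
    rw [he₁0, he₂0, add_zero] at this
    exact (sub_eq_zero.1 this.symm)
  have h3a := hexp u
  have h3b := hexp (α (β u))
  have : α (β u) = u + (3 • α (β u) - 3 • u) + (2 • u - 2 • α (β u)) := by abel
  rw [this, h3a, h3b, h2u]
  abel



lemma aut_main_mul {V : Type*} [Group V] (hcomm : ∀ u v : V, u * v = v * u)
    (hexp : ∀ v : V, v ^ 3 = 1) (α β ξ : V ≃* V)
    (hαα : ∀ v, α (α v) = v) (hββ : ∀ v, β (β v) = v) (hαβ : ∀ v, α (β v) = β (α v))
    (h1 : ∀ v, ξ (α v) = β (ξ v)) (h2 : ∀ v, ξ (β v) = α (β (ξ v)))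
    (hne : ∃ u, α (β u) ≠ u) : ∃ v, v * ξ v * ξ (ξ v) ≠ 1 := by
  letI : CommGroup V := { (inferInstance : Group V) with mul_comm := hcomm }
  have key := aut_main (V := Additive V)
    (fun v => congrArg Additive.ofMul (hexp (Additive.toMul v)))
    (MulEquiv.toAdditive α) (MulEquiv.toAdditive β) (MulEquiv.toAdditive ξ)
    (fun v => congrArg Additive.ofMul (hαα (Additive.toMul v)))
    (fun v => congrArg Additive.ofMul (hββ (Additive.toMul v)))
    (fun v => congrArg Additive.ofMul (hαβ (Additive.toMul v)))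
    (fun v => congrArg Additive.ofMul (h1 (Additive.toMul v)))
    (fun v => congrArg Additive.ofMul (h2 (Additive.toMul v)))
    (by
      obtain ⟨u, hu⟩ := hne
      exact ⟨Additive.ofMul u, fun h => hu (congrArg Additive.toMul h)⟩)
  obtain ⟨v, hv⟩ := key
  exact ⟨Additive.toMul v, fun h => hv (congrArg Additive.ofMul h)⟩



section prelim
variable {G : Type*} [Group G]

lemma sq_eq_one_of_two_elt (hexp : ∀ x : G, x ^ 6 = 1) (x : G) (k : ℕ) (hx : x ^ 2 ^ k = 1) :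
    x ^ 2 = 1 := by
  have h1 : orderOf x ∣ 2 ^ k := orderOf_dvd_of_pow_eq_one hx
  have h2 : orderOf x ∣ 6 := orderOf_dvd_of_pow_eq_one (hexp x)
  obtain ⟨j, -, hj⟩ := (Nat.dvd_prime_pow Nat.prime_two).1 h1
  have hj1 : j ≤ 1 := by
    by_contra hcon
    push_neg at hcon
    have : 2 ^ 2 ∣ 2 ^ j := pow_dvd_pow 2 hcon
    rw [← hj] at this
    have := this.trans h2
    omega
  apply orderOf_dvd_iff_pow_eq_one.1
  rw [hj]
  exact pow_dvd_pow 2 hj1

lemma cube_eq_one_of_three_elt (hexp : ∀ x : G, x ^ 6 = 1) (x : G) (k : ℕ) (hx : x ^ 3 ^ k = 1) :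
    x ^ 3 = 1 := by
  have h1 : orderOf x ∣ 3 ^ k := orderOf_dvd_of_pow_eq_one hx
  have h2 : orderOf x ∣ 6 := orderOf_dvd_of_pow_eq_one (hexp x)
  obtain ⟨j, -, hj⟩ := (Nat.dvd_prime_pow Nat.prime_three).1 h1
  have hj1 : j ≤ 1 := by
    by_contra hcon
    push_neg at hcon
    have : 3 ^ 2 ∣ 3 ^ j := pow_dvd_pow 3 hcon
    rw [← hj] at this
    have := this.trans h2
    omega
  apply orderOf_dvd_iff_pow_eq_one.1
  rw [hj]
  exact pow_dvd_pow 3 hj1

lemma eq_one_of_sq_of_three_pow (x : G) (h2 : x ^ 2 = 1) (k : ℕ) (h3 : x ^ 3 ^ k = 1) : x = 1 := by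
  have h1 : orderOf x ∣ 2 := orderOf_dvd_of_pow_eq_one h2
  have h1' : orderOf x ∣ 3 ^ k := orderOf_dvd_of_pow_eq_one h3
  have hcop : Nat.Coprime 2 (3 ^ k) := Nat.Coprime.pow_right k (by decide)
  have := Nat.eq_one_of_dvd_coprimes hcop h1 h1'
  exact orderOf_eq_one_iff.1 this

lemma card_exp6 [Finite G] (hexp : ∀ x : G, x ^ 6 = 1) :
    ∃ a b : ℕ, Nat.card G = 2 ^ a * 3 ^ b := by
  have hn : Nat.card G ≠ 0 := Nat.card_pos.ne'
  obtain ⟨a, n1, h2n, hn1⟩ := Nat.exists_eq_pow_mul_and_not_dvd hn 2 (by decide)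
  have hn1' : n1 ≠ 0 := by
    rintro rfl
    rw [mul_zero] at hn1
    exact hn hn1
  obtain ⟨b, n2, h3n, hn2⟩ := Nat.exists_eq_pow_mul_and_not_dvd hn1' 3 (by decide)
  refine ⟨a, b, ?_⟩
  have hn2one : n2 = 1 := by
    by_contra hne
    obtain ⟨r, hr, hrn⟩ := Nat.exists_prime_and_dvd hne
    haveI : Fact r.Prime := ⟨hr⟩
    have hrG : r ∣ Nat.card G := by
      rw [hn1, hn2]
      exact Dvd.dvd.mul_left (Dvd.dvd.mul_left hrn _) _
    obtain ⟨x, hx⟩ := exists_prime_orderOf_dvd_card' (G := G) r hrG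
    have h6 : r ∣ 6 := by
      rw [← hx]
      exact orderOf_dvd_of_pow_eq_one (hexp x)
    have h6' : r ∣ 2 * 3 := h6
    rcases (Nat.Prime.dvd_mul hr).1 h6' with h | h
    · have : r = 2 := (Nat.prime_dvd_prime_iff_eq hr Nat.prime_two).1 h
      subst this
      apply h2n
      rw [hn2]
      exact Dvd.dvd.mul_left hrn _
    · have : r = 3 := (Nat.prime_dvd_prime_iff_eq hr Nat.prime_three).1 h
      subst this
      exact h3n hrn
  rw [hn1, hn2, hn2one, mul_one]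

lemma solvable_exp6 [Finite G] (hexp : ∀ x : G, x ^ 6 = 1) : Group.IsSolvable G := by
  obtain ⟨a, b, hab⟩ := card_exp6 hexp
  exact Cfsg.Agent.S0144.result 2 3 a b Nat.prime_two Nat.prime_three hab

end prelim


open Cfsg

lemma core_two {G : Type*} [Group G] [Finite G] (hexp : ∀ x : G, x ^ 6 = 1)
    (hO : pPrimeCore 2 G = ⊥) : ¬ 2 ∣ (pCore 2 G).index := by
  haveI : Fact (Nat.Prime 2) := ⟨Nat.prime_two⟩
  haveI hsol : Group.IsSolvable G := solvable_exp6 hexp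
  have hCQ : Subgroup.centralizer (pCore 2 G : Set G) ≤ pCore 2 G :=
    Cfsg.Agent.Lib.Helper20.solvable_centralizer_pCore_le 2 hO
  obtain ⟨S⟩ : Nonempty (Sylow 2 G) := inferInstance
  have hQS : pCore 2 G ≤ (S : Subgroup G) := Cfsg.Agent.Lib.Helper2.pCore_le_sylow 2 S
  have hSsq : ∀ s ∈ (S : Subgroup G), s ^ 2 = 1 := by
    intro s hs
    obtain ⟨k, hk⟩ := S.isPGroup' ⟨s, hs⟩
    have hk' : s ^ 2 ^ k = 1 := by simpa using congrArg Subtype.val hk
    exact sq_eq_one_of_two_elt hexp s k hk'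
  have hScomm : ∀ s ∈ (S : Subgroup G), ∀ t ∈ (S : Subgroup G), s * t = t * s := by
    intro s hs t ht
    have h1 := hSsq s hs
    have h2 := hSsq t ht
    have h3 := hSsq (s * t) (S.mul_mem hs ht)
    rw [sq] at h1 h2 h3
    have hs' : s⁻¹ = s := inv_eq_of_mul_eq_one_right h1
    have ht' : t⁻¹ = t := inv_eq_of_mul_eq_one_right h2
    calc s * t = (s * t)⁻¹ := (inv_eq_of_mul_eq_one_right h3).symm
      _ = t⁻¹ * s⁻¹ := mul_inv_rev s t
      _ = t * s := by rw [ht', hs']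
  have hSQ : (S : Subgroup G) ≤ pCore 2 G := by
    intro s hs
    apply hCQ
    rw [Subgroup.mem_centralizer_iff]
    intro q hq
    exact hScomm q (hQS hq) s hs
  have heq : pCore 2 G = (S : Subgroup G) := le_antisymm hQS hSQ
  rw [heq]
  exact S.not_dvd_index


open Cfsg

set_option maxHeartbeats 800000 in
lemma core_three {G : Type*} [Group G] [Finite G] (hexp : ∀ x : G, x ^ 6 = 1)
    (hO : pPrimeCore 3 G = ⊥) : ¬ 3 ∣ (pCore 3 G).index := by
  classical
  intro h3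
  haveI : Fact (Nat.Prime 3) := ⟨Nat.prime_three⟩
  haveI : Fact (Nat.Prime 2) := ⟨Nat.prime_two⟩
  haveI hsol : Group.IsSolvable G := solvable_exp6 hexp
  set P := pCore 3 G with hPdef
  haveI hPn : P.Normal := Cfsg.Agent.Lib.Helper2.pCore_normal 3
  have hPp : IsPGroup 3 P := Cfsg.Agent.Lib.Helper2.pCore_isPGroup 3
  have hCP : Subgroup.centralizer (P : Set G) ≤ P :=
    Cfsg.Agent.Lib.Helper20.solvable_centralizer_pCore_le 3 hO
  -- the quotient G/P
  have hexpq : ∀ y : G ⧸ P, y ^ 6 = 1 := by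
    intro y
    induction y using QuotientGroup.induction_on with
    | H x => rw [← QuotientGroup.mk_pow, hexp]; rfl
  haveI hsolq : Group.IsSolvable (G ⧸ P) := solvable_exp6 hexpq
  have hcore3 : pCore 3 (G ⧸ P) = ⊥ := by
    set N := (pCore 3 (G ⧸ P)).comap (QuotientGroup.mk' P) with hN
    have hNn : N.Normal := by
      haveI : (pCore 3 (G ⧸ P)).Normal := Cfsg.Agent.Lib.Helper2.pCore_normal 3
      exact Subgroup.Normal.comap inferInstance _
    have hNp : IsPGroup 3 N :=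
      IsPGroup.comap_of_ker_isPGroup (Cfsg.Agent.Lib.Helper2.pCore_isPGroup 3) (QuotientGroup.mk' P)
        (by rw [QuotientGroup.ker_mk']; exact hPp)
    have hNP : N ≤ P := Cfsg.Agent.Lib.Helper2.le_pCore hNn hNp
    rw [eq_bot_iff]
    intro y hy
    obtain ⟨x, rfl⟩ := QuotientGroup.mk_surjective y
    have hx : x ∈ N := hy
    rw [Subgroup.mem_bot]
    exact (QuotientGroup.eq_one_iff x).2 (hNP hx)
  have hcore2' : pPrimeCore 2 (G ⧸ P) = ⊥ := by
    set M := pPrimeCore 2 (G ⧸ P) with hM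
    have hMn : M.Normal := Cfsg.Agent.Lib.Helper2.pPrimeCore_normal 2
    have hMc : (Nat.card M).Coprime 2 := Cfsg.Agent.Lib.Helper2.pPrimeCore_coprime 2
    have hMp : IsPGroup 3 M := by
      intro m
      refine ⟨1, ?_⟩
      rw [pow_one]
      have h6 : m ^ 6 = 1 := Subtype.ext (by simpa using hexpq m.1)
      have hord : orderOf m ∣ 2 * 3 := orderOf_dvd_of_pow_eq_one h6
      have hcop : (orderOf m).Coprime 2 :=
        Nat.Coprime.coprime_dvd_left (orderOf_dvd_natCard m) hMc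
      exact orderOf_dvd_iff_pow_eq_one.1 ((Nat.Coprime.dvd_mul_left hcop).1 hord)
    have := Cfsg.Agent.Lib.Helper2.le_pCore hMn hMp
    rwa [hcore3, le_bot_iff] at this
  set Qb := pCore 2 (G ⧸ P) with hQb
  have hCQ : Subgroup.centralizer (Qb : Set (G ⧸ P)) ≤ Qb :=
    Cfsg.Agent.Lib.Helper20.solvable_centralizer_pCore_le 2 hcore2'
  haveI hQn : Qb.Normal := Cfsg.Agent.Lib.Helper2.pCore_normal 2
  have hQp : IsPGroup 2 Qb := Cfsg.Agent.Lib.Helper2.pCore_isPGroup 2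
  have hQsq : ∀ s ∈ Qb, s * s = 1 := by
    intro s hs
    obtain ⟨k, hk⟩ := hQp ⟨s, hs⟩
    have hk' : s ^ 2 ^ k = 1 := by simpa using congrArg Subtype.val hk
    have := sq_eq_one_of_two_elt hexpq s k hk'
    rwa [sq] at this
  have hQinv : ∀ s ∈ Qb, s⁻¹ = s := fun s hs => inv_eq_of_mul_eq_one_right (hQsq s hs)
  have hQcomm : ∀ s ∈ Qb, ∀ t ∈ Qb, s * t = t * s := by
    intro s hs t ht
    calc s * t = (s * t)⁻¹ := (hQinv _ (Qb.mul_mem hs ht)).symm
      _ = t⁻¹ * s⁻¹ := mul_inv_rev s t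
      _ = t * s := by rw [hQinv t ht, hQinv s hs]
  -- element of order 3 in the quotient
  have h3' : 3 ∣ Nat.card (G ⧸ P) := by rwa [← Subgroup.index_eq_card]
  obtain ⟨xb, hxb⟩ := exists_prime_orderOf_dvd_card' (G := G ⧸ P) 3 h3'
  have hxb3 : xb ^ 3 = 1 := by rw [← hxb]; exact pow_orderOf_eq_one xb
  have hxbQ : xb ∉ Qb := by
    intro hmem
    obtain ⟨k, hk⟩ := hQp ⟨xb, hmem⟩
    have hk' : xb ^ 2 ^ k = 1 := by simpa using congrArg Subtype.val hk
    have hd : orderOf xb ∣ 2 ^ k := orderOf_dvd_of_pow_eq_one hk'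
    rw [hxb] at hd
    have := Nat.Prime.dvd_of_dvd_pow Nat.prime_three hd
    omega
  have hxbC : xb ∉ Subgroup.centralizer (Qb : Set (G ⧸ P)) := fun h => hxbQ (hCQ h)
  rw [Subgroup.mem_centralizer_iff] at hxbC
  push_neg at hxbC
  obtain ⟨t0, ht0, hne⟩ := hxbC
  have ht0' : t0 ∈ Qb := ht0
  set t1 := xb * t0 * xb⁻¹ with ht1
  set t2 := xb * t1 * xb⁻¹ with ht2
  have ht1Q : t1 ∈ Qb := hQn.conj_mem t0 ht0' xb
  have ht2Q : t2 ∈ Qb := hQn.conj_mem t1 ht1Q xb
  have hxinv : xb⁻¹ = xb * xb := by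
    apply inv_eq_of_mul_eq_one_right
    rw [← mul_assoc, ← pow_two, ← pow_succ, hxb3]
  have ht3 : xb * t2 * xb⁻¹ = t0 := by
    rw [ht2, ht1]
    have e3 : xb ^ 3 = xb * xb * xb := by rw [pow_succ, pow_two]
    have : xb * (xb * (xb * t0 * xb⁻¹) * xb⁻¹) * xb⁻¹ = (xb * xb * xb) * t0 * (xb * xb * xb)⁻¹ := by
      group
    rw [this, ← e3, hxb3, one_mul, inv_one, mul_one]
  set ab := t0 * t1 with hab
  set bb := t1 * t2 with hbb
  have habQ : ab ∈ Qb := Qb.mul_mem ht0' ht1Q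
  have hbbQ : bb ∈ Qb := Qb.mul_mem ht1Q ht2Q
  have hR1 : xb * ab * xb⁻¹ = bb := by
    rw [hab, hbb, ht2, ht1]; group
  have habbb : ab * bb = t0 * t2 := by
    rw [hab, hbb]
    calc t0 * t1 * (t1 * t2) = t0 * (t1 * t1) * t2 := by group
      _ = t0 * t2 := by rw [hQsq t1 ht1Q, mul_one]
  have hR2 : xb * bb * xb⁻¹ = ab * bb := by
    rw [habbb, hQcomm t0 ht0' t2 ht2Q, hbb]
    calc xb * (t1 * t2) * xb⁻¹ = (xb * t1 * xb⁻¹) * (xb * t2 * xb⁻¹) := by group
      _ = t2 * t0 := by rw [ht3]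
  have hcne : ab * bb ≠ 1 := by
    rw [habbb]
    intro h
    have h20 : t2 = t0 := by
      have := inv_eq_of_mul_eq_one_right h
      rw [hQinv t0 ht0'] at this
      exact this.symm
    apply hne
    -- t2 = xb⁻¹ t0 xb
    have : t2 = xb⁻¹ * t0 * xb := by
      rw [← ht3]; group
    rw [h20] at this
    calc t0 * xb = xb * (xb⁻¹ * t0 * xb) := by group
      _ = xb * t0 := by rw [← this]
  -- lifts
  obtain ⟨a, ha⟩ := QuotientGroup.mk_surjective ab
  obtain ⟨b, hb⟩ := QuotientGroup.mk_surjective bb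
  obtain ⟨x0, hx0⟩ := QuotientGroup.mk_surjective xb
  set x := x0 ^ 4 with hxdef
  have hx : (QuotientGroup.mk x : G ⧸ P) = xb := by
    rw [hxdef, QuotientGroup.mk_pow, hx0]
    calc xb ^ 4 = xb ^ 3 * xb := pow_succ xb 3
      _ = xb := by rw [hxb3, one_mul]
  have hx3 : x ^ 3 = 1 := by
    rw [hxdef, ← pow_mul]
    calc x0 ^ (4 * 3) = (x0 ^ 6) ^ 2 := by rw [← pow_mul]
      _ = 1 := by rw [hexp, one_pow]
  have hmemP : ∀ g : G, (QuotientGroup.mk g : G ⧸ P) = 1 → g ∈ P := fun g hg =>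
    (QuotientGroup.eq_one_iff g).1 hg
  -- Frattini subgroup and the action
  set Φ : Subgroup G := (frattini ↥P).map P.subtype with hΦ
  haveI hΦn : Φ.Normal := inferInstance
  have hΦsub : ∀ u : ↥P, u ∈ Φ.subgroupOf P ↔ u ∈ frattini ↥P := by
    intro u
    rw [Subgroup.mem_subgroupOf, hΦ, Subgroup.mem_map]
    constructor
    · rintro ⟨v, hv, hvu⟩
      have : v = u := Subtype.ext hvu
      exact this ▸ hv
    · intro hu
      exact ⟨u, hu, rfl⟩
  set ρ := Cfsg.Agent.Lib.Helper3.quotAct Φ P with hρ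
  have hcommP : ∀ u v : ↥P, u * v * u⁻¹ * v⁻¹ ∈ frattini ↥P := by
    intro u v
    apply Cfsg.Agent.Lib.Helper2.commutator_le_frattini_of_isPGroup hPp
    have : u * v * u⁻¹ * v⁻¹ = commutatorElement.bracket u v := rfl
    rw [this]
    exact Subgroup.commutator_mem_commutator (Subgroup.mem_top u) (Subgroup.mem_top v)
  have hρP : ∀ g ∈ P, ρ g = 1 := by
    intro g hg
    rw [hρ, Cfsg.Agent.Lib.Helper3.quotAct_eq_one_iff]
    intro u hu
    have := hcommP ⟨g, hg⟩ ⟨u, hu⟩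
    exact ⟨_, this, rfl⟩
  have hρeq : ∀ g g' : G, (QuotientGroup.mk g : G ⧸ P) = QuotientGroup.mk g' → ρ g = ρ g' := by
    intro g g' h
    have hmem : g⁻¹ * g' ∈ P := QuotientGroup.eq.1 h
    have : g' = g * (g⁻¹ * g') := by group
    rw [this, map_mul, hρP _ hmem, mul_one]
  -- V is abelian of exponent 3
  have hVcomm : ∀ u v : ↥P ⧸ Φ.subgroupOf P, u * v = v * u := by
    intro u v
    induction u using QuotientGroup.induction_on with
    | H u =>
      induction v using QuotientGroup.induction_on with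
      | H v =>
        rw [← QuotientGroup.mk_mul, ← QuotientGroup.mk_mul, QuotientGroup.eq, hΦsub]
        have := hcommP v⁻¹ u⁻¹
        have e : (u * v)⁻¹ * (v * u) = v⁻¹ * u⁻¹ * v⁻¹⁻¹ * u⁻¹⁻¹ := by group
        rw [e]; exact this
  have hVexp : ∀ v : ↥P ⧸ Φ.subgroupOf P, v ^ 3 = 1 := by
    intro v
    induction v using QuotientGroup.induction_on with
    | H v =>
      rw [← QuotientGroup.mk_pow, QuotientGroup.eq_one_iff, hΦsub]
      exact Cfsg.Agent.Lib.Helper2.pow_mem_frattini_of_isPGroup hPp v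
  -- relations
  have hαα : ∀ v, ρ a (ρ a v) = v := by
    intro v
    have h1 : ρ (a * a) = 1 := by
      apply hρP
      apply hmemP
      rw [QuotientGroup.mk_mul, ha, hQsq ab habQ]
    have : ρ a (ρ a v) = (ρ (a * a)) v := by rw [map_mul]; rfl
    rw [this, h1]; rfl
  have hββ : ∀ v, ρ b (ρ b v) = v := by
    intro v
    have h1 : ρ (b * b) = 1 := by
      apply hρP
      apply hmemP
      rw [QuotientGroup.mk_mul, hb, hQsq bb hbbQ]
    have : ρ b (ρ b v) = (ρ (b * b)) v := by rw [map_mul]; rfl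
    rw [this, h1]; rfl
  have hαβ : ∀ v, ρ a (ρ b v) = ρ b (ρ a v) := by
    intro v
    have h1 : ρ (a * b) = ρ (b * a) := by
      apply hρeq
      rw [QuotientGroup.mk_mul, QuotientGroup.mk_mul, ha, hb, hQcomm ab habQ bb hbbQ]
    have e1 : ρ a (ρ b v) = (ρ (a * b)) v := by rw [map_mul]; rfl
    have e2 : ρ b (ρ a v) = (ρ (b * a)) v := by rw [map_mul]; rfl
    rw [e1, e2, h1]
  have h1 : ∀ v, ρ x (ρ a v) = ρ b (ρ x v) := by
    intro v
    have h1 : ρ (x * a) = ρ (b * x) := by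
      apply hρeq
      rw [QuotientGroup.mk_mul, QuotientGroup.mk_mul, ha, hb, hx, ← hR1]
      group
    have e1 : ρ x (ρ a v) = (ρ (x * a)) v := by rw [map_mul]; rfl
    have e2 : ρ b (ρ x v) = (ρ (b * x)) v := by rw [map_mul]; rfl
    rw [e1, e2, h1]
  have h2 : ∀ v, ρ x (ρ b v) = ρ a (ρ b (ρ x v)) := by
    intro v
    have h1 : ρ (x * b) = ρ (a * b * x) := by
      apply hρeq
      rw [QuotientGroup.mk_mul, QuotientGroup.mk_mul, QuotientGroup.mk_mul, ha, hb, hx, ← hR2]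
      group
    have e1 : ρ x (ρ b v) = (ρ (x * b)) v := by rw [map_mul]; rfl
    have e2 : ρ a (ρ b (ρ x v)) = (ρ (a * b * x)) v := by rw [map_mul, map_mul]; rfl
    rw [e1, e2, h1]
  have hne' : ∃ u, ρ a (ρ b u) ≠ u := by
    by_contra hcon
    push_neg at hcon
    -- c = (a*b)^3 acts trivially on V, c^2 = 1, c ∉ P
    set c := (a * b) ^ 3 with hc
    have hc2 : c ^ 2 = 1 := by
      rw [hc, ← pow_mul]; exact hexp _
    have hcb : (QuotientGroup.mk c : G ⧸ P) = ab * bb := by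
      rw [hc, QuotientGroup.mk_pow, QuotientGroup.mk_mul, ha, hb]
      have hm := Qb.mul_mem habQ hbbQ
      calc (ab * bb) ^ 3 = (ab * bb) * (ab * bb) * (ab * bb) := by rw [pow_succ, pow_two]
        _ = ab * bb := by rw [hQsq _ hm, one_mul]
    have hcP : c ∉ P := by
      intro hcP
      apply hcne
      rw [← hcb]
      exact (QuotientGroup.eq_one_iff c).2 hcP
    have hρab : ρ (a * b) = 1 := by
      ext v
      have : (ρ (a * b)) v = ρ a (ρ b v) := by rw [map_mul]; rfl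
      rw [this, hcon v]; rfl
    have hρc : ρ c = 1 := by rw [hc, map_pow, hρab, one_pow]
    rw [hρ, Cfsg.Agent.Lib.Helper3.quotAct_eq_one_iff] at hρc
    -- Burnside
    set φ : MulAut ↥P := MulAut.conjNormal c with hφ
    have hφtriv : φ ∈ Cfsg.Agent.Lib.Helper3.trivOnFrattiniQuot ↥P := by
      intro u
      have := hρc u.1 u.2
      obtain ⟨w, hw, hwe⟩ := this
      have : φ u * u⁻¹ = w := by
        apply Subtype.ext
        refine Eq.trans ?_ hwe.symm
        simp [hφ, MulAut.conjNormal_apply]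
      rw [this]; exact hw
    obtain ⟨k, hk⟩ := Cfsg.Agent.Lib.Helper3.exists_pow_eq_one_of_trivOnFrattiniQuot hPp φ hφtriv
    have hφ2 : φ ^ 2 = 1 := by
      rw [hφ, ← map_pow, hc2, map_one]
    have hφ1 : φ = 1 := eq_one_of_sq_of_three_pow φ hφ2 k hk
    apply hcP
    apply hCP
    rw [Subgroup.mem_centralizer_iff]
    intro u hu
    have := congrArg (fun ψ : MulAut ↥P => ((ψ ⟨u, hu⟩ : ↥P) : G)) hφ1
    simp only [hφ, MulAut.conjNormal_apply, MulAut.one_apply] at this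
    calc u * c = (c * u * c⁻¹)⁻¹⁻¹ * c := by rw [this]; group
      _ = c * u := by group
  obtain ⟨v, hv⟩ := aut_main_mul hVcomm hVexp (ρ a) (ρ b) (ρ x) hαα hββ hαβ h1 h2 hne'
  -- lift v
  obtain ⟨u, rfl⟩ := QuotientGroup.mk_surjective v
  apply hv
  have e1 : ρ x (QuotientGroup.mk u) = QuotientGroup.mk ⟨x * u.1 * x⁻¹, hPn.conj_mem u.1 u.2 x⟩ :=
    Cfsg.Agent.Lib.Helper3.quotAct_mk' Φ P x u.1 u.2
  have e2 : ρ x (QuotientGroup.mk ⟨x * u.1 * x⁻¹, hPn.conj_mem u.1 u.2 x⟩) =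
      QuotientGroup.mk ⟨x * (x * u.1 * x⁻¹) * x⁻¹, hPn.conj_mem _ (hPn.conj_mem u.1 u.2 x) x⟩ :=
    Cfsg.Agent.Lib.Helper3.quotAct_mk' Φ P x _ _
  rw [e1, e2, ← QuotientGroup.mk_mul, ← QuotientGroup.mk_mul]
  have hprod : (u.1 * x) ^ 3 = u.1 * (x * u.1 * x⁻¹) * (x * (x * u.1 * x⁻¹) * x⁻¹) := by
    have e3 : x ^ 3 = x * x * x := by rw [pow_succ, pow_two]
    have e4 : (u.1 * x) ^ 3 = (u.1 * x) * (u.1 * x) * (u.1 * x) := by rw [pow_succ, pow_two]
    have : u.1 * (x * u.1 * x⁻¹) * (x * (x * u.1 * x⁻¹) * x⁻¹) =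
        (u.1 * x) * (u.1 * x) * (u.1 * x) * (x * x * x)⁻¹ := by group
    rw [this, ← e3, ← e4, hx3, inv_one, mul_one]
  have hy2 : ((u.1 * x) ^ 3) ^ 2 = 1 := by rw [← pow_mul]; exact hexp _
  have hyP : (u.1 * x) ^ 3 ∈ P := by
    rw [hprod]
    exact P.mul_mem (P.mul_mem u.2 (hPn.conj_mem u.1 u.2 x)) (hPn.conj_mem _ (hPn.conj_mem u.1 u.2 x) x)
  obtain ⟨k, hk⟩ := hPp ⟨_, hyP⟩
  have hk' : ((u.1 * x) ^ 3) ^ 3 ^ k = 1 := by simpa using congrArg Subtype.val hk
  have hy1 := eq_one_of_sq_of_three_pow _ hy2 k hk'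
  have : (u * ⟨x * u.1 * x⁻¹, hPn.conj_mem u.1 u.2 x⟩ *
      ⟨x * (x * u.1 * x⁻¹) * x⁻¹, hPn.conj_mem _ (hPn.conj_mem u.1 u.2 x) x⟩ : ↥P) = 1 := by
    apply Subtype.ext
    simp only [Subgroup.coe_mul, Subgroup.coe_one]
    rw [← hprod, hy1]
  rw [this]
  rfl


open Cfsg

lemma plen_le_one {G : Type*} [Group G] [Finite G] (hexp : ∀ x : G, x ^ 6 = 1) (p : ℕ)
    [Fact p.Prime]
    (hcore : ¬ p ∣ (pCore p (G ⧸ (upperPSeries p G 1).1)).index) : PLengthLE p 1 G := by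
  have h2 : (upperPSeries p G 2).1 =
      (pCore p (G ⧸ (upperPSeries p G 1).1)).comap (QuotientGroup.mk' _) :=
    Cfsg.Agent.Lib.Helper2.upperPSeries_succ_of_odd p G 1 (by decide)
  have hidx : ((upperPSeries p G 2).1).index = (pCore p (G ⧸ (upperPSeries p G 1).1)).index := by
    rw [h2]
    exact Subgroup.index_comap_of_surjective _ (QuotientGroup.mk'_surjective _)
  have hnd : ¬ p ∣ Nat.card (G ⧸ (upperPSeries p G 2).1) := by
    rw [← Subgroup.index_eq_card, hidx]; exact hcore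
  have h0 := Cfsg.Agent.Lib.Helper2.plength_zero_of_not_dvd hnd
  exact Cfsg.Agent.Lib.Helper2.PLengthLE.of_quot h0

lemma quot_core {G : Type*} [Group G] [Finite G] (p : ℕ) :
    pPrimeCore p (G ⧸ (upperPSeries p G 1).1) = ⊥ :=
  Cfsg.Agent.Lib.Helper3.pPrimeCore_quotient_eq_bot p (upperPSeries p G 0).1 (upperPSeries p G 1).1
    (Cfsg.Agent.Lib.Helper3.upperPSeries_odd p 0)

lemma quot_exp {G : Type*} [Group G] (hexp : ∀ x : G, x ^ 6 = 1) (N : Subgroup G) [N.Normal] :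
    ∀ y : G ⧸ N, y ^ 6 = 1 := by
  intro y
  induction y using QuotientGroup.induction_on with
  | H x => rw [← QuotientGroup.mk_pow, hexp]; rfl


/-- A finite group in which every element has order dividing `6` has `2`-length at most `1` and `3`-length at most `1`. -/
theorem result {G : Type*} [Group G] [Finite G] (h : ∀ x : G, x ^ 6 = 1) : Cfsg.PLengthLE 2 1 G ∧ Cfsg.PLengthLE 3 1 G := by
  haveI : Fact (Nat.Prime 3) := ⟨Nat.prime_three⟩
  haveI : Fact (Nat.Prime 2) := ⟨Nat.prime_two⟩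
  constructor
  · apply plen_le_one h 2
    exact core_two (quot_exp h _) (quot_core 2)
  · apply plen_le_one h 3
    exact core_three (quot_exp h _) (quot_core 3)

end Cfsg.Agent.S4227
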