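import Cfsg.Statements.S4230

set_option autoImplicit false
open Cfsg

namespace Cfsg.Agent.S4230

open Polynomial

theorem dvd_eval_iff_isRoot (p q f : ℕ) [Fact p.Prime] :
    ((p : ℤ) ∣ (Polynomial.cyclotomic f ℤ).eval (q : ℤ)) ↔
      (Polynomial.cyclotomic f (ZMod p)).IsRoot (q : ZMod p) := by
  rw [← ZMod.intCast_zmod_eq_zero_iff_dvd, Polynomial.IsRoot.def,
    ← Polynomial.map_cyclotomic_int f (ZMod p)]
  have : ((q : ℕ) : ZMod p) = (Int.castRingHom (ZMod p)) (q : ℤ) := by simp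
  rw [this, Polynomial.eval_map_apply]
  simp

theorem isRoot_iff_of_not_dvd (p q m j : ℕ) [Fact p.Prime] (hm : ¬ p ∣ m) :
    (Polynomial.cyclotomic (m * p ^ j) (ZMod p)).IsRoot (q : ZMod p) ↔ orderOf (q : ZMod p) = m := by
  have hm0 : m ≠ 0 := fun h => hm (h ▸ dvd_zero p)
  haveI : NeZero (m : ZMod p) := ⟨by
    rw [Ne, ZMod.natCast_eq_zero_iff]; exact hm⟩
  have key : (Polynomial.cyclotomic m (ZMod p)).IsRoot (q : ZMod p) ↔ orderOf (q : ZMod p) = m := by
    rw [Polynomial.isRoot_cyclotomic_iff]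
    constructor
    · intro h; exact h.eq_orderOf.symm
    · intro h; rw [← h]; exact IsPrimitiveRoot.orderOf _
  rcases Nat.eq_zero_or_pos j with rfl | hj
  · simpa using key
  · rw [mul_comm, Polynomial.cyclotomic_mul_prime_pow_eq (ZMod p) hm hj, ← key]
    have hpos : 0 < p ^ j - p ^ (j - 1) := by
      have hp1 : 1 < p := (Fact.out : p.Prime).one_lt
      have : p ^ (j - 1) < p ^ j := Nat.pow_lt_pow_right hp1 (by omega)
      omega
    simp only [Polynomial.IsRoot.def, Polynomial.eval_pow]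
    exact pow_eq_zero_iff hpos.ne'

/-- Let p be an odd prime, q a natural number not divisible by p, and e the multiplicative order of q modulo p. For a natural number f, p divides the value at q of the f-th cyclotomic polynomial if and only if f = e·p^j for some j ≥ 0. -/
theorem result (p q f : ℕ) (hp : p.Prime) (hp2 : p ≠ 2) (hpq : ¬ p ∣ q) :
    ((p : ℤ) ∣ (Polynomial.cyclotomic f ℤ).eval (q : ℤ)) ↔ ∃ j : ℕ, f = orderOf (q : ZMod p) * p ^ j := by
  haveI : Fact p.Prime := ⟨hp⟩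
  rw [dvd_eval_iff_isRoot]
  have hq0 : (q : ZMod p) ≠ 0 := by
    rw [Ne, ZMod.natCast_eq_zero_iff]; exact hpq
  have hqpow : (q : ZMod p) ^ (p - 1) = 1 := ZMod.pow_card_sub_one_eq_one hq0
  have he_dvd : orderOf (q : ZMod p) ∣ p - 1 := orderOf_dvd_of_pow_eq_one hqpow
  have hp1 : 1 < p := hp.one_lt
  have he_pos : 0 < orderOf (q : ZMod p) := by
    apply Nat.pos_of_ne_zero
    intro h
    rw [h, zero_dvd_iff] at he_dvd
    omega
  have he_not : ¬ p ∣ orderOf (q : ZMod p) := by
    intro h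
    have h1 := Nat.le_of_dvd he_pos h
    have h2 := Nat.le_of_dvd (by omega) he_dvd
    omega
  constructor
  · intro h
    rcases Nat.eq_zero_or_pos f with rfl | hf
    · simp [Polynomial.cyclotomic_zero] at h
    · obtain ⟨j, m, hm, rfl⟩ := Nat.exists_eq_pow_mul_and_not_dvd hf.ne' p hp.ne_one
      rw [mul_comm] at h
      rw [isRoot_iff_of_not_dvd p q m j hm] at h
      exact ⟨j, by rw [h, mul_comm]⟩
  · rintro ⟨j, rfl⟩
    rw [isRoot_iff_of_not_dvd p q _ j he_not]
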