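import Mathlib
import Cfsg.Statements.S4234
import Cfsg.Agent.Lib.Helper16.L13a
import Cfsg.Agent.Lib.Helper16.L13b

set_option autoImplicit false
set_option maxHeartbeats 1000000
open Cfsg

namespace Cfsg.Agent.S4234

open Cfsg.Agent.Lib.Helper16.L13

theorem result {K S : Type*} [Group K] [CommGroup S] [Finite K] [Finite S]
    (hK : Nonempty (K ≃* Matrix.ProjectiveSpecialLinearGroup (Fin 2) (ZMod 13)) ∨
      Nonempty (K ≃* Matrix.SpecialLinearGroup (Fin 2) (ZMod 13)))
    (hKS : (Nat.card K).Coprime (Nat.card S)) (H : Subgroup (K × S)) (hH : ¬ H.Normal) :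
    IsCoatom (Subgroup.normalizer (H : Set (K × S))) := by
  have hp : Fact (Nat.Prime 13) := ⟨by norm_num⟩
  have hF : Fintype.card (ZMod 13) = 13 := ZMod.card 13
  have hgoodK : Good K := by
    rcases hK with ⟨⟨e⟩⟩ | ⟨⟨e⟩⟩
    · exact good_of_equiv e (good_PSL2_13 (F := ZMod 13) hF)
    · exact good_of_equiv e (good_SL2_13 (F := ZMod 13) hF)
  exact good_prod hKS hgoodK H hH

end Cfsg.Agent.S4234
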