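import Cfsg.Statements.S4236
import Mathlib
import Cfsg.Agent.S4304

set_option autoImplicit false
open Cfsg

namespace Cfsg.Agent.S4236

universe u

open Subgroup MulAction
open Cfsg.Agent.S4304 (card_sylow_quotient card_sylow_subgroup sylow_le_of_normal relIndex_centralizer_normalizer_dvd exists_normal_index_prime sylow_card_eq_prime)

/-- (i): distinct Sylow 17-subgroups intersect in a subgroup of index 17. -/
lemma inter_card {G : Type u} [Group G] [Finite G] (h15 : Nat.card (Sylow 17 G) = 35)
    (P Q : Sylow 17 G) (hPQ : P ≠ Q) :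
    Nat.card ((P : Subgroup G) ⊓ Q : Subgroup G) * 17 = Nat.card (P : Subgroup G) := by
  haveI : Fact (Nat.Prime 17) := ⟨by norm_num⟩
  have hstab : stabilizer (P : Subgroup G) Q = (Q : Subgroup G).subgroupOf P := by
    ext g
    rw [mem_stabilizer_iff, mem_subgroupOf]
    constructor
    · intro h
      have h' : (g : G) • Q = Q := h
      have h1 : (g : G) ∈ normalizer ((Q : Subgroup G) : Set G) :=
        Sylow.smul_eq_iff_mem_normalizer.1 h'
      have h0 := P.2.inf_normalizer_sylow Q
      have h2 : (g : G) ∈ ((P : Subgroup G) ⊓ Q : Subgroup G) := by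
        rw [← h0]; exact ⟨g.2, h1⟩
      exact h2.2
    · intro h
      have h' : (g : G) • Q = Q := Sylow.smul_eq_iff_mem_normalizer.2 (le_normalizer h)
      exact h'
  have hne1 : (stabilizer (P : Subgroup G) Q).index ≠ 1 := by
    intro h
    rw [index_eq_one, hstab, subgroupOf_eq_top] at h
    exact hPQ (Sylow.ext (P.3 Q.2 h).symm)
  have hle14 : (stabilizer (P : Subgroup G) Q).index ≤ 34 := by
    rw [MulAction.index_stabilizer]
    have hnot : P ∉ orbit (P : Subgroup G) Q := by
      intro hmem
      obtain ⟨g, hg⟩ := hmem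
      have hg' : g • Q = P := hg
      have h1 : Q = g⁻¹ • P := eq_inv_smul_iff.2 hg'
      have h2 : g⁻¹ • P = P := by
        have h3 : ((g⁻¹ : (P : Subgroup G)) : G) • P = P :=
          Sylow.smul_eq_iff_mem_normalizer.2 (le_normalizer (g⁻¹).2)
        exact h3
      exact hPQ (by rw [h1, h2])
    have h3 := Set.ncard_insert_of_notMem hnot (Set.toFinite _)
    have h4 : (insert P (orbit (P : Subgroup G) Q)).ncard ≤
        (Set.univ : Set (Sylow 17 G)).ncard :=
      Set.ncard_le_ncard (Set.subset_univ _) (Set.toFinite _)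
    rw [Set.ncard_univ, h15] at h4
    omega
  have hidx : (stabilizer (P : Subgroup G) Q).index = 17 := by
    obtain ⟨n, hn⟩ := P.2.index (stabilizer (P : Subgroup G) Q)
    rw [hn] at hne1 hle14 ⊢
    rcases n with _ | _ | n
    · exact absurd (pow_zero 17) hne1
    · norm_num
    · exfalso
      have h5 : 17 ^ 2 ≤ 17 ^ (n + 1 + 1) := Nat.pow_le_pow_right (by norm_num) (by omega)
      omega
  have h5 : (Q : Subgroup G).relIndex P = 17 := by
    rw [relIndex, ← hstab]; exact hidx
  have h6 := relIndex_mul_relIndex (⊥ : Subgroup G) ((P : Subgroup G) ⊓ Q) P bot_le inf_le_left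
  rw [relIndex_bot_left, relIndex_bot_left, inf_relIndex_left, h5] at h6
  exact h6

open Classical in
/-- (ii): the number of Sylow 17-subgroups containing a given 17-subgroup is `≡ 1 mod 17`. -/
lemma card_containing_modEq {G : Type u} [Group G] [Finite G] [Fintype (Sylow 17 G)]
    (h15 : Nat.card (Sylow 17 G) = 35) (R : Subgroup G) (hR : IsPGroup 17 R) :
    (Finset.univ.filter (fun Q : Sylow 17 G => R ≤ (Q : Subgroup G))).card % 17 = 1 := by
  haveI : Fact (Nat.Prime 17) := ⟨by norm_num⟩
  have h1 := hR.card_modEq_card_fixedPoints (Sylow 17 G)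
  have h2 : Nat.card (fixedPoints R (Sylow 17 G)) =
      (Finset.univ.filter (fun Q : Sylow 17 G => R ≤ (Q : Subgroup G))).card := by
    rw [← Fintype.card_subtype, ← Nat.card_eq_fintype_card]
    exact Nat.card_congr (Equiv.subtypeEquivRight (fun Q => hR.sylow_mem_fixedPoints_iff))
  rw [h2, h15] at h1
  have h3 := h1.symm
  unfold Nat.ModEq at h3
  omega

open Classical in
/-- Case A': double counting. -/
lemma caseA {G : Type u} [Group G] [Finite G] [Fintype (Sylow 17 G)]
    (h15 : Nat.card (Sylow 17 G) = 35)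
    (hA : ∀ P Q : Sylow 17 G, P ≠ Q →
      ∃ Q₀ : Sylow 17 G, ¬ ((P : Subgroup G) ⊓ Q ≤ (Q₀ : Subgroup G))) : False := by
  have hcard : (Finset.univ : Finset (Sylow 17 G)).card = 35 := by
    rw [Finset.card_univ, ← Nat.card_eq_fintype_card, h15]
  let f : Sylow 17 G × Sylow 17 G → Subgroup G := fun pq => (pq.1 : Subgroup G) ⊓ pq.2
  have hT : ((Finset.univ : Finset (Sylow 17 G)).offDiag).card = 1190 := by
    rw [Finset.offDiag_card, hcard]
  have hsum := Finset.card_eq_sum_card_image f ((Finset.univ : Finset (Sylow 17 G)).offDiag)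
  have hfib : ∀ R ∈ ((Finset.univ : Finset (Sylow 17 G)).offDiag).image f,
      (((Finset.univ : Finset (Sylow 17 G)).offDiag).filter (fun a => f a = R)).card = 306 := by
    intro R hR
    obtain ⟨⟨P, Q⟩, hPQ, rfl⟩ := Finset.mem_image.1 hR
    have hne : P ≠ Q := by
      rw [Finset.mem_offDiag] at hPQ
      exact hPQ.2.2
    have hMcard : (Finset.univ.filter
        (fun Q' : Sylow 17 G => (P : Subgroup G) ⊓ Q ≤ (Q' : Subgroup G))).card = 18 := by
      have h1 := card_containing_modEq h15 ((P : Subgroup G) ⊓ Q) (P.2.to_le inf_le_left)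
      have h2 : 2 ≤ (Finset.univ.filter
          (fun Q' : Sylow 17 G => (P : Subgroup G) ⊓ Q ≤ (Q' : Subgroup G))).card := by
        have hsub : ({P, Q} : Finset (Sylow 17 G)) ⊆ Finset.univ.filter
            (fun Q' : Sylow 17 G => (P : Subgroup G) ⊓ Q ≤ (Q' : Subgroup G)) := by
          intro x hx
          simp only [Finset.mem_insert, Finset.mem_singleton] at hx
          rw [Finset.mem_filter]
          rcases hx with rfl | rfl
          · exact ⟨Finset.mem_univ _, inf_le_left⟩
          · exact ⟨Finset.mem_univ _, inf_le_right⟩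
        calc 2 = ({P, Q} : Finset (Sylow 17 G)).card := (Finset.card_pair hne).symm
          _ ≤ _ := Finset.card_le_card hsub
      have h3 : (Finset.univ.filter
          (fun Q' : Sylow 17 G => (P : Subgroup G) ⊓ Q ≤ (Q' : Subgroup G))).card < 35 := by
        obtain ⟨Q₀, hQ₀⟩ := hA P Q hne
        have hss : Finset.univ.filter
            (fun Q' : Sylow 17 G => (P : Subgroup G) ⊓ Q ≤ (Q' : Subgroup G)) ⊂ Finset.univ := by
          refine Finset.ssubset_iff_subset_ne.2 ⟨Finset.subset_univ _, ?_⟩
          intro h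
          have hmem : Q₀ ∈ Finset.univ.filter
              (fun Q' : Sylow 17 G => (P : Subgroup G) ⊓ Q ≤ (Q' : Subgroup G)) := by
            rw [h]; exact Finset.mem_univ _
          exact hQ₀ (Finset.mem_filter.1 hmem).2
        have := Finset.card_lt_card hss
        omega
      omega
    have hEq : ((Finset.univ : Finset (Sylow 17 G)).offDiag).filter (fun a => f a = f (P, Q)) =
        (Finset.univ.filter
          (fun Q' : Sylow 17 G => (P : Subgroup G) ⊓ Q ≤ (Q' : Subgroup G))).offDiag := by
      ext ⟨P', Q'⟩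
      simp only [Finset.mem_filter, Finset.mem_offDiag, Finset.mem_univ, true_and, f]
      constructor
      · rintro ⟨hne', h⟩
        refine ⟨?_, ?_, hne'⟩
        · rw [← h]; exact inf_le_left
        · rw [← h]; exact inf_le_right
      · rintro ⟨h1, h2, hne'⟩
        refine ⟨hne', ?_⟩
        have hle : (P : Subgroup G) ⊓ Q ≤ (P' : Subgroup G) ⊓ Q' := le_inf h1 h2
        have c1 := inter_card h15 P Q hne
        have c2 := inter_card h15 P' Q' hne'
        haveI : Fact (Nat.Prime 17) := ⟨by norm_num⟩
        have c3 : Nat.card (P : Subgroup G) = Nat.card (P' : Subgroup G) := by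
          rw [Sylow.card_eq_multiplicity, Sylow.card_eq_multiplicity]
        exact (Subgroup.eq_of_le_of_card_ge hle (by omega)).symm
    rw [hEq, Finset.offDiag_card, hMcard]
  rw [Finset.sum_congr rfl hfib, Finset.sum_const, smul_eq_mul, hT] at hsum
  omega

/-- B4: elements of prime order centralising a Sylow 17-subgroup have order 17. -/
lemma centralizer_prime_order {G : Type u} [Group G] [Finite G] [Fintype (Sylow 17 G)]
    [DecidableEq (Sylow 17 G)]
    (h15 : Nat.card (Sylow 17 G) = 35)
    (hinj : Function.Injective (MulAction.toPermHom G (Sylow 17 G)))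
    (hsign : ∀ g : G, Equiv.Perm.sign (MulAction.toPermHom G (Sylow 17 G) g) = 1)
    (P : Sylow 17 G) (c : G) (hc : c ∈ centralizer ((P : Subgroup G) : Set G))
    (hr : (orderOf c).Prime) : orderOf c = 17 := by
  classical
  by_contra hne
  haveI : Fact (Nat.Prime 17) := ⟨by norm_num⟩
  haveI : Fact (orderOf c).Prime := ⟨hr⟩
  have hZcard : Nat.card (zpowers c) = orderOf c := Nat.card_zpowers c
  have hZ : IsPGroup (orderOf c) (zpowers c) :=
    IsPGroup.of_card (n := 1) (by rw [hZcard, pow_one])
  have hZle : zpowers c ≤ centralizer ((P : Subgroup G) : Set G) := (zpowers_le).2 hc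
  have h1 : Nat.card (Sylow 17 G) ≡ Nat.card (fixedPoints (zpowers c) (Sylow 17 G))
      [MOD (orderOf c)] := hZ.card_modEq_card_fixedPoints (Sylow 17 G)
  letI actF : MulAction (P : Subgroup G) (fixedPoints (zpowers c) (Sylow 17 G)) :=
    { smul := fun g Q => ⟨(g : G) • (Q : Sylow 17 G), by
        intro z
        have hQ : (z : G) • (Q : Sylow 17 G) = (Q : Sylow 17 G) := Q.2 z
        have hcomm : (z : G) * (g : G) = (g : G) * (z : G) := (hZle z.2 (g : G) g.2).symm
        show (z : G) • ((g : G) • (Q : Sylow 17 G)) = (g : G) • (Q : Sylow 17 G)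
        rw [smul_smul, hcomm, mul_smul, hQ]⟩
      one_smul := fun Q => Subtype.ext (one_smul G (Q : Sylow 17 G))
      mul_smul := fun a b Q => Subtype.ext (mul_smul (a : G) (b : G) (Q : Sylow 17 G)) }
  have h2 : Nat.card (fixedPoints (zpowers c) (Sylow 17 G)) ≡
      Nat.card (fixedPoints (P : Subgroup G) (fixedPoints (zpowers c) (Sylow 17 G))) [MOD 17] :=
    P.2.card_modEq_card_fixedPoints (fixedPoints (zpowers c) (Sylow 17 G))
  have hPF : P ∈ fixedPoints (zpowers c) (Sylow 17 G) := by
    intro z
    show (z : G) • P = P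
    exact Sylow.smul_eq_iff_mem_normalizer.2 (centralizer_le_normalizer _ (hZle z.2))
  have h3 : Nat.card (fixedPoints (P : Subgroup G)
      (fixedPoints (zpowers c) (Sylow 17 G))) = 1 := by
    rw [Nat.card_eq_one_iff_unique]
    have key : ∀ (Q : Sylow 17 G) (hQF : Q ∈ fixedPoints (zpowers c) (Sylow 17 G)),
        (⟨Q, hQF⟩ : fixedPoints (zpowers c) (Sylow 17 G)) ∈
          fixedPoints (P : Subgroup G) (fixedPoints (zpowers c) (Sylow 17 G)) → Q = P := by
      intro Q hQF hfix
      have hQfix : Q ∈ fixedPoints (P : Subgroup G) (Sylow 17 G) := by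
        intro g
        have h4 := congrArg Subtype.val (hfix g)
        exact h4
      have hle := (P.2.sylow_mem_fixedPoints_iff).1 hQfix
      exact Sylow.ext (P.3 Q.2 hle)
    refine ⟨⟨?_⟩, ⟨⟨⟨P, hPF⟩, ?_⟩⟩⟩
    · rintro ⟨⟨Q1, hQ1F⟩, hQ1⟩ ⟨⟨Q2, hQ2F⟩, hQ2⟩
      have e1 := key Q1 hQ1F hQ1
      have e2 := key Q2 hQ2F hQ2
      apply Subtype.ext
      apply Subtype.ext
      show Q1 = Q2
      rw [e1, e2]
    · intro g
      apply Subtype.ext
      show (g : G) • P = P
      exact Sylow.smul_eq_iff_mem_normalizer.2 (le_normalizer g.2)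
  rw [h3] at h2
  rw [h15] at h1
  have hle : Nat.card (fixedPoints (zpowers c) (Sylow 17 G)) ≤ 35 := by
    rw [← h15]; exact Finite.card_subtype_le _
  have hcases : Nat.card (fixedPoints (zpowers c) (Sylow 17 G)) = 1 ∨
      Nat.card (fixedPoints (zpowers c) (Sylow 17 G)) = 18 ∨
      Nat.card (fixedPoints (zpowers c) (Sylow 17 G)) = 35 := by
    unfold Nat.ModEq at h2; omega
  have hfixiff : ∀ Q : Sylow 17 G, Q ∈ fixedPoints (zpowers c) (Sylow 17 G) ↔ c • Q = Q := by
    intro Q
    constructor
    · intro hQ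
      exact hQ ⟨c, mem_zpowers c⟩
    · intro hQ z
      have h4 : zpowers c ≤ stabilizer G Q := (zpowers_le).2 hQ
      exact h4 z.2
  rcases hcases with h | h | h
  · rw [h] at h1
    have hd : orderOf c ∣ 34 := (Nat.modEq_iff_dvd' (by norm_num)).1 h1.symm
    have hr2 : orderOf c = 2 := by
      have h4 : orderOf c ∣ 2 * 17 := hd
      rcases (Nat.Prime.dvd_mul hr).1 h4 with h' | h'
      · exact (Nat.prime_dvd_prime_iff_eq hr Nat.prime_two).1 h'
      · exact absurd ((Nat.prime_dvd_prime_iff_eq hr (by norm_num)).1 h') hne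
    have hσord : orderOf (MulAction.toPermHom G (Sylow 17 G) c) = 2 := by
      rw [← hr2]; exact orderOf_injective _ hinj c
    obtain ⟨k, hk⟩ := Equiv.Perm.cycleType_prime_order
      (σ := MulAction.toPermHom G (Sylow 17 G) c) (by rw [hσord]; exact Nat.prime_two)
    rw [hσord] at hk
    have hcompl : (MulAction.toPermHom G (Sylow 17 G) c).supportᶜ =
        Finset.univ.filter (fun Q : Sylow 17 G => Q ∈ fixedPoints (zpowers c) (Sylow 17 G)) := by
      ext Q
      simp only [Finset.mem_compl, Equiv.Perm.mem_support, not_not, Finset.mem_filter,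
        Finset.mem_univ, true_and]
      rw [hfixiff]
      rfl
    have hcc : (MulAction.toPermHom G (Sylow 17 G) c).supportᶜ.card = 1 := by
      rw [hcompl, ← Fintype.card_subtype, ← Nat.card_eq_fintype_card]
      exact h
    have hsupp : (MulAction.toPermHom G (Sylow 17 G) c).support.card = 34 := by
      have h5 := Finset.card_compl (MulAction.toPermHom G (Sylow 17 G) c).support
      have h6 : Fintype.card (Sylow 17 G) = 35 := by rw [← Nat.card_eq_fintype_card, h15]
      have h7 := Finset.card_le_univ (MulAction.toPermHom G (Sylow 17 G) c).support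
      omega
    have hsum := Equiv.Perm.sum_cycleType (MulAction.toPermHom G (Sylow 17 G) c)
    rw [hk, Multiset.sum_replicate, smul_eq_mul, hsupp] at hsum
    have hsgn := Equiv.Perm.sign_of_cycleType (MulAction.toPermHom G (Sylow 17 G) c)
    rw [hk, Multiset.sum_replicate, Multiset.card_replicate, smul_eq_mul, hsign c] at hsgn
    have hk6 : k = 16 := by omega
    rw [hk6] at hsgn
    revert hsgn
    decide
  · rw [h] at h1
    have hd : orderOf c ∣ 17 := (Nat.modEq_iff_dvd' (by norm_num)).1 h1.symm
    exact hne ((Nat.prime_dvd_prime_iff_eq hr (by norm_num)).1 hd)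
  · have hFuniv : fixedPoints (zpowers c) (Sylow 17 G) = Set.univ := by
      apply Set.eq_of_subset_of_ncard_le (Set.subset_univ _) _ (Set.toFinite _)
      rw [Set.ncard_univ, h15, ← Nat.card_coe_set_eq, h]
    have hc1 : c = 1 := by
      apply hinj
      rw [map_one]
      apply Equiv.Perm.ext
      intro Q
      have hQ : Q ∈ fixedPoints (zpowers c) (Sylow 17 G) := by rw [hFuniv]; exact Set.mem_univ Q
      have h4 := (hfixiff Q).1 hQ
      rw [Equiv.Perm.one_apply]
      exact h4
    rw [hc1, orderOf_one] at hr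
    exact Nat.not_prime_one hr

/-- Case B: groups with `17² ∤ |G|`. -/
lemma caseB (n : ℕ) : ∀ (G : Type u) [Group G] [Finite G], Nat.card G = n →
    ¬ 289 ∣ Nat.card G → Nat.card (Sylow 17 G) ≠ 35 := by
  induction n using Nat.strong_induction_on with
  | _ n IH =>
  intro G _ _ hn h49 h15
  classical
  haveI : Fact (Nat.Prime 17) := ⟨by norm_num⟩
  haveI : Fact (Nat.Prime 2) := ⟨Nat.prime_two⟩
  haveI : Fintype (Sylow 17 G) := Fintype.ofFinite _
  have hcardP : ∀ P : Sylow 17 G, Nat.card (P : Subgroup G) = 17 := by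
    intro P
    apply sylow_card_eq_prime P _ (by norm_num; exact h49)
    by_contra h7
    have hv : (Nat.card G).factorization 17 = 0 := Nat.factorization_eq_zero_of_not_dvd h7
    have hall : ∀ Q : Sylow 17 G, (Q : Subgroup G) = ⊥ := by
      intro Q
      rw [← Subgroup.card_eq_one, Q.card_eq_multiplicity, hv, pow_zero]
    have hle1 : Nat.card (Sylow 17 G) ≤ 1 := by
      rw [Finite.card_le_one_iff_subsingleton]
      exact ⟨fun Q1 Q2 => Sylow.ext ((hall Q1).trans (hall Q2).symm)⟩
    omega
  have hB2 : ∀ H : Subgroup G, H.Normal → ¬ 17 ∣ H.index → H = ⊤ := by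
    intro H hH h7
    by_contra hne
    haveI := hH
    have hlt : Nat.card H < n := by
      rw [← hn]
      have h1 := H.card_mul_index
      have h2 : H.index ≠ 1 := fun h => hne (index_eq_one.1 h)
      have h3 : H.index ≠ 0 := H.index_ne_zero_of_finite
      have h4 : 0 < Nat.card H := Nat.card_pos
      have h5 : 2 ≤ H.index := by omega
      nlinarith
    have hdvd : Nat.card H ∣ Nat.card G := card_subgroup_dvd_card H
    exact IH (Nat.card H) hlt H rfl (fun h => h49 (h.trans hdvd))
      (by rw [card_sylow_subgroup H h7, h15])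
  have hB1 : Function.Injective (MulAction.toPermHom G (Sylow 17 G)) := by
    rw [← MonoidHom.ker_eq_bot_iff]
    by_contra hne
    have P : Sylow 17 G := default
    have hK : (MulAction.toPermHom G (Sylow 17 G)).ker ≤
        normalizer ((P : Subgroup G) : Set G) := by
      intro k hk
      rw [MonoidHom.mem_ker] at hk
      apply Sylow.smul_eq_iff_mem_normalizer.1
      have h1 := congrArg (fun σ : Equiv.Perm (Sylow 17 G) => σ P) hk
      exact h1
    have hlt : Nat.card (G ⧸ (MulAction.toPermHom G (Sylow 17 G)).ker) < n := by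
      rw [← hn, Subgroup.card_eq_card_quotient_mul_card_subgroup
        (MulAction.toPermHom G (Sylow 17 G)).ker]
      have h1 : 1 < Nat.card (MulAction.toPermHom G (Sylow 17 G)).ker :=
        (one_lt_card_iff_ne_bot _).2 hne
      have h2 : 0 < Nat.card (G ⧸ (MulAction.toPermHom G (Sylow 17 G)).ker) := Nat.card_pos
      nlinarith
    have hdvd : Nat.card (G ⧸ (MulAction.toPermHom G (Sylow 17 G)).ker) ∣ Nat.card G :=
      ⟨Nat.card (MulAction.toPermHom G (Sylow 17 G)).ker,
        Subgroup.card_eq_card_quotient_mul_card_subgroup _⟩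
    exact IH _ hlt (G ⧸ (MulAction.toPermHom G (Sylow 17 G)).ker) rfl
      (fun h => h49 (h.trans hdvd))
      (by rw [card_sylow_quotient (MulAction.toPermHom G (Sylow 17 G)).ker P hK, h15])
  have hB3 : ∀ g : G, Equiv.Perm.sign (MulAction.toPermHom G (Sylow 17 G) g) = 1 := by
    have h1 : ((Equiv.Perm.sign).comp (MulAction.toPermHom G (Sylow 17 G))).ker.index ∣ 2 := by
      rw [index_ker]
      have h2 := card_subgroup_dvd_card
        ((Equiv.Perm.sign).comp (MulAction.toPermHom G (Sylow 17 G))).range
      rwa [Nat.card_eq_fintype_card (α := ℤˣ), Fintype.card_units_int] at h2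
    have h2 : ¬ 17 ∣ ((Equiv.Perm.sign).comp (MulAction.toPermHom G (Sylow 17 G))).ker.index :=
      fun h => by
        have h3 := Nat.le_of_dvd (by norm_num) (h.trans h1)
        omega
    have h3 := hB2 _ inferInstance h2
    intro g
    have h4 : g ∈ ((Equiv.Perm.sign).comp (MulAction.toPermHom G (Sylow 17 G))).ker := by
      rw [h3]; exact mem_top g
    exact h4
  have P : Sylow 17 G := default
  have hP7 := hcardP P
  haveI hcyc : IsCyclic (P : Subgroup G) := isCyclic_of_prime_card hP7
  have hCP : centralizer ((P : Subgroup G) : Set G) = P := by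
    have hCpg : IsPGroup 17 (centralizer ((P : Subgroup G) : Set G)) := by
      have hpos : Nat.card (centralizer ((P : Subgroup G) : Set G)) ≠ 0 := Nat.card_pos.ne'
      have h1 := Nat.eq_prime_pow_of_unique_prime_dvd hpos (p := 17) (by
        intro d hd hdvd
        haveI : Fact d.Prime := ⟨hd⟩
        obtain ⟨c, hc⟩ := exists_prime_orderOf_dvd_card' d hdvd
        have h2 : orderOf (c : G) = d := by rw [Subgroup.orderOf_coe]; exact hc
        have h3 := centralizer_prime_order h15 hB1 hB3 P (c : G) c.2 (by rw [h2]; exact hd)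
        rw [← h2, h3])
      exact IsPGroup.of_card h1
    apply le_antisymm
    · have h1 := hCpg.inf_normalizer_sylow P
      have h2 : centralizer ((P : Subgroup G) : Set G) ≤
          centralizer ((P : Subgroup G) : Set G) ⊓ (P : Subgroup G) := by
        rw [← h1]
        exact le_inf le_rfl (centralizer_le_normalizer _)
      exact h2.trans inf_le_right
    · exact Subgroup.le_centralizer (P : Subgroup G)
  have hrel := relIndex_centralizer_normalizer_dvd (P : Subgroup G)
  rw [IsCyclic.card_mulAut, hP7, Nat.totient_prime (by norm_num : Nat.Prime 17)] at hrel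
  have hN := relIndex_mul_relIndex (⊥ : Subgroup G) (centralizer ((P : Subgroup G) : Set G))
    (normalizer ((P : Subgroup G) : Set G)) bot_le (centralizer_le_normalizer _)
  rw [relIndex_bot_left, relIndex_bot_left] at hN
  obtain ⟨d, hd⟩ : ∃ d, d = (centralizer ((P : Subgroup G) : Set G)).relIndex
    (normalizer ((P : Subgroup G) : Set G)) := ⟨_, rfl⟩
  rw [← hd] at hrel hN
  have hNidx : (normalizer ((P : Subgroup G) : Set G)).index = 35 := by
    rw [← h15]; exact (Sylow.card_eq_index_normalizer P).symm
  rw [hCP, hP7] at hN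
  have hG : Nat.card G = 595 * d := by
    have h1 := card_mul_index (normalizer ((P : Subgroup G) : Set G))
    rw [hNidx, ← hN] at h1
    omega
  have hfinal : ∀ p : ℕ, p.Prime → p ≠ 17 → p ∣ Nat.card G → ¬ p ^ 2 ∣ Nat.card G →
      Nat.Coprime (Nat.card G) (p - 1) → False := by
    intro p hp hp7 h1 h2 hco
    haveI : Fact p.Prime := ⟨hp⟩
    have S : Sylow p G := default
    obtain ⟨H, hHn, hHi⟩ := exists_normal_index_prime S (sylow_card_eq_prime S h1 h2) hco
    have h7 : ¬ 17 ∣ H.index := by
      rw [hHi]; intro h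
      exact hp7 ((Nat.prime_dvd_prime_iff_eq (by norm_num) hp).1 h).symm
    have h3 := hB2 H hHn h7
    rw [h3, index_top] at hHi
    exact hp.one_lt.ne hHi
  -- even case: cyclic Sylow 2-subgroup
  have hfinal2 : 2 ∣ Nat.card G → False := by
    intro h2dvd
    have S' : Sylow 2 (normalizer ((P : Subgroup G) : Set G)) := default
    -- S' embeds into MulAut P
    have hker : IsPGroup 17 ((P : Subgroup G).normalizerMonoidHom).ker := by
      rw [normalizerMonoidHom_ker, hCP]
      exact P.2.comap_subtype
    have hinj : Function.Injective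
        (((P : Subgroup G).normalizerMonoidHom).comp S'.toSubgroup.subtype) := by
      rw [← MonoidHom.ker_eq_bot_iff, eq_bot_iff]
      intro s hs
      rw [MonoidHom.mem_ker, MonoidHom.comp_apply] at hs
      have h1 : (S'.toSubgroup.subtype s) ∈
          ((P : Subgroup G).normalizerMonoidHom).ker ⊓ S'.toSubgroup :=
        ⟨hs, s.2⟩
      have h2 := (IsPGroup.disjoint_of_ne 17 2 (by norm_num) _ _ hker S'.2).le_bot h1
      rw [Subgroup.mem_bot] at h2 ⊢
      exact Subtype.ext h2
    haveI : Fact (Nat.card (P : Subgroup G)).Prime := ⟨by rw [hP7]; norm_num⟩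
    haveI hcycAut : IsCyclic (MulAut (P : Subgroup G)) :=
      isCyclic_of_surjective (IsCyclic.mulAutMulEquiv (P : Subgroup G)).symm
        (IsCyclic.mulAutMulEquiv (P : Subgroup G)).symm.surjective
    have hS'cyc : IsCyclic S'.toSubgroup :=
      isCyclic_of_injective
        (((P : Subgroup G).normalizerMonoidHom).comp S'.toSubgroup.subtype) hinj
    -- push to G
    have hS2 : IsPGroup 2 (S'.toSubgroup.map
        (normalizer ((P : Subgroup G) : Set G)).subtype) := S'.2.map _
    have hidx : ¬ 2 ∣ (S'.toSubgroup.map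
        (normalizer ((P : Subgroup G) : Set G)).subtype).index := by
      rw [index_map_subtype, hNidx]
      intro h
      rcases (Nat.Prime.dvd_mul Nat.prime_two).1 h with h' | h'
      · exact S'.not_dvd_index h'
      · omega
    have hcyc2 : IsCyclic (S'.toSubgroup.map
        (normalizer ((P : Subgroup G) : Set G)).subtype) :=
      isCyclic_of_surjective
        (S'.toSubgroup.equivMapOfInjective _ (Subgroup.subtype_injective _))
        (S'.toSubgroup.equivMapOfInjective _ (Subgroup.subtype_injective _)).surjective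
    have hSigcyc : IsCyclic ((hS2.toSylow hidx : Sylow 2 G) : Subgroup G) := hcyc2
    have hmin : (Nat.card G).minFac = 2 := (Nat.minFac_eq_two_iff _).2 h2dvd
    have hcomp := IsCyclic.isComplement' hmin hSigcyc
    have hindex := hcomp.symm.index_eq_card
    -- card Σ is a power of 2, at least 2
    obtain ⟨j, hj⟩ := (IsPGroup.iff_card).1 (hS2.toSylow hidx).2
    have h2card : 2 ∣ Nat.card ((hS2.toSylow hidx : Sylow 2 G) : Subgroup G) := by
      have := (hS2.toSylow hidx).pow_dvd_card_of_pow_dvd_card (n := 1) (by rwa [pow_one])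
      rwa [pow_one] at this
    have h17 : ¬ 17 ∣ (MonoidHom.transferSylow (hS2.toSylow hidx)
        (hSigcyc.normalizer_le_centralizer hmin)).ker.index := by
      rw [hindex, hj]
      intro h
      have := (Nat.Prime.dvd_of_dvd_pow (by norm_num : Nat.Prime 17) h)
      omega
    have htop := hB2 _ inferInstance h17
    rw [htop, index_top] at hindex
    rw [← hindex] at h2card
    omega
  have hd16 : d ≤ 16 := Nat.le_of_dvd (by norm_num) hrel
  by_cases hdeven : 2 ∣ d
  · exact hfinal2 (by rw [hG]; exact Dvd.dvd.mul_left hdeven 595)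
  · have hd1 : d = 1 := by
      interval_cases d <;> omega
    subst hd1
    exact hfinal 5 (by norm_num) (by norm_num) (by rw [hG]; norm_num) (by rw [hG]; norm_num)
      (by rw [hG]; norm_num)

/-- No finite group has exactly 35 Sylow 17-subgroups. -/
theorem result {G : Type*} [Group G] [Finite G] : Nat.card (Sylow 17 G) ≠ 35 := by
  intro h15
  classical
  haveI : Fintype (Sylow 17 G) := Fintype.ofFinite _
  haveI : Fact (Nat.Prime 17) := ⟨by norm_num⟩
  by_cases hA : ∀ P Q : Sylow 17 G, P ≠ Q →
      ∃ Q₀ : Sylow 17 G, ¬ ((P : Subgroup G) ⊓ Q ≤ (Q₀ : Subgroup G))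
  · exact caseA h15 hA
  · push Not at hA
    obtain ⟨P, Q, hne, hall⟩ := hA
    have c1 := inter_card h15 P Q hne
    obtain ⟨X, hXdef⟩ : ∃ X : Subgroup G, X = (P : Subgroup G) ⊓ Q := ⟨_, rfl⟩
    rw [← hXdef] at hall c1
    have hXn : X.Normal := by
      constructor
      intro x hx g
      have key : ∀ Q₀ : Sylow 17 G, g * x * g⁻¹ ∈ (Q₀ : Subgroup G) := by
        intro Q₀
        have h1 : x ∈ ((g⁻¹ • Q₀ : Sylow 17 G) : Subgroup G) := hall (g⁻¹ • Q₀) hx
        rw [Sylow.coe_subgroup_smul] at h1
        obtain ⟨y, hy, hyx⟩ := (Subgroup.mem_smul_pointwise_iff_exists _ _ _).1 h1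
        rw [MulAut.smul_def, MulAut.conj_apply] at hyx
        have h2 : g * x * g⁻¹ = y := by rw [← hyx]; group
        rw [h2]; exact hy
      rw [hXdef]
      exact ⟨key P, key Q⟩
    have hXP : X ≤ Subgroup.normalizer ((P : Subgroup G) : Set G) := by
      rw [hXdef]; exact inf_le_left.trans Subgroup.le_normalizer
    have h15' : Nat.card (Sylow 17 (G ⧸ X)) = 35 := by
      rw [card_sylow_quotient X P hXP, h15]
    have h49 : ¬ 289 ∣ Nat.card (G ⧸ X) := by
      intro h
      have c2 := Subgroup.card_eq_card_quotient_mul_card_subgroup X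
      have c3 := P.card_eq_multiplicity
      have c4 : 17 ^ ((Nat.card G).factorization 17 + 1) ∣ Nat.card G := by
        rw [pow_succ, ← c3, ← c1]
        obtain ⟨k, hk⟩ := h
        rw [c2, hk]
        exact ⟨k, by ring⟩
      exact Nat.pow_succ_factorization_not_dvd Nat.card_pos.ne' (by norm_num) c4
    exact caseB (Nat.card (G ⧸ X)) (G ⧸ X) rfl h49 h15'

end Cfsg.Agent.S4236
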