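import Cfsg.Statements.S4237
import Cfsg.Agent.Lib.Helper23.KulE

set_option autoImplicit false
open Cfsg

namespace Cfsg.Agent.S4237

/-- Let G be a finite group, p a prime and a a natural number such that p^(a+1) divides the order of G. Then the number of subgroups of G of order p^a is congruent to 1 or to 1 + p modulo p². -/
theorem result {G : Type*} [Group G] [Finite G] (p a : ℕ) (hp : p.Prime) (hdvd : p ^ (a + 1) ∣ Nat.card G) :
    Nat.card {H : Subgroup G // Nat.card H = p ^ a} ≡ 1 [MOD p ^ 2] ∨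
      Nat.card {H : Subgroup G // Nat.card H = p ^ a} ≡ 1 + p [MOD p ^ 2] := by
  haveI : Fact p.Prime := ⟨hp⟩
  show Cfsg.Agent.Lib.Helper23.KulD.sn G (p ^ a) ≡ 1 [MOD p ^ 2] ∨ Cfsg.Agent.Lib.Helper23.KulD.sn G (p ^ a) ≡ 1 + p [MOD p ^ 2]
  have hdvd' : p ^ a ∣ Nat.card G := dvd_trans (pow_dvd_pow p (Nat.le_succ a)) hdvd
  by_cases h2 : p = 2
  · have h1 : Cfsg.Agent.Lib.Helper23.KulD.sn G (p ^ a) ≡ 1 [MOD p] := Cfsg.Agent.S3975.result p a hp hdvd'
    subst h2
    unfold Nat.ModEq at h1 ⊢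
    norm_num at h1 ⊢
    omega
  · obtain ⟨P⟩ : Nonempty (Sylow p G) := inferInstance
    have hred := Cfsg.Agent.Lib.Helper23.KulE.sylow_reduction P hdvd
    obtain ⟨n, hn⟩ := IsPGroup.iff_card.1 P.2
    have hPdvd : p ^ (a + 1) ∣ Nat.card ↥(P : Subgroup G) := P.pow_dvd_card_of_pow_dvd_card hdvd
    rw [hn] at hPdvd
    have han : a + 1 ≤ n := (Nat.pow_dvd_pow_iff_le_right hp.one_lt).1 hPdvd
    by_cases hcyc : IsCyclic ↥(P : Subgroup G)
    · left
      have : Cfsg.Agent.Lib.Helper23.KulD.sn ↥(P : Subgroup G) (p ^ a) = 1 :=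
        Cfsg.Agent.Lib.Helper23.KulD.sn_cyclic (by rw [hn]; exact pow_dvd_pow p (by omega))
      rw [this] at hred
      exact hred
    · rcases Nat.eq_zero_or_pos a with ha | ha
      · left
        subst ha
        have : Cfsg.Agent.Lib.Helper23.KulD.sn G (p ^ 0) = 1 := by
          unfold Cfsg.Agent.Lib.Helper23.KulD.sn
          rw [pow_zero, Nat.card_eq_one_iff_unique]
          refine ⟨⟨fun H1 H2 => Subtype.ext ?_⟩, ⟨⟨⊥, by simp⟩⟩⟩
          rw [Subgroup.card_eq_one.1 H1.2, Subgroup.card_eq_one.1 H2.2]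
        rw [this]
      · right
        exact hred.trans (Cfsg.Agent.Lib.Helper23.KulD.kulakoff h2 n ↥(P : Subgroup G) hn hcyc a ha (by omega))

end Cfsg.Agent.S4237
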