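import Cfsg.Statements.S4238
import Mathlib
import Cfsg.Agent.Lib.Helper13.NPC
import Cfsg.Agent.Lib.Helper13.Coprime
import Cfsg.Agent.Lib.Helper2.PLength
import Cfsg.Agent.Lib.Helper2.PGroupFrattini
import Cfsg.Agent.S0071

set_option autoImplicit false
open Cfsg

namespace Cfsg.Agent.S4238

open Cfsg.Agent.Lib.Helper13 Cfsg.Agent.Lib.Helper2
open scoped commutatorElement

universe u

variable {p : ℕ} [hp : Fact p.Prime]

set_option maxHeartbeats 800000






/-- the property of a section -/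
def PP (p : ℕ) (K : Type*) [Group K] : Prop :=
  pPrimeCore p K = ⊥ → ∃ k : K, orderOf k = Monoid.exponent K

theorem PP.of_equiv {K K' : Type*} [Group K] [Group K'] (e : K ≃* K') (h : PP p K) : PP p K' := by
  intro hK'
  have h1 : pPrimeCore p K = ⊥ := by
    have := Cfsg.Agent.Lib.Helper2.pPrimeCore_map_mulEquiv p e
    rw [hK'] at this
    rw [eq_bot_iff]
    intro x hx
    have hx' : e x ∈ (pPrimeCore p K).map e.toMonoidHom := ⟨x, hx, rfl⟩
    rw [this, Subgroup.mem_bot] at hx'
    rw [Subgroup.mem_bot]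
    exact e.injective (by rw [hx', map_one])
  obtain ⟨k, hk⟩ := h h1
  refine ⟨e k, ?_⟩
  rw [MulEquiv.orderOf_eq, hk]
  exact Monoid.exponent_eq_of_mulEquiv e

/-- all homomorphic images of subgroups have the property. -/
def Good (p : ℕ) (G : Type u) [Group G] : Prop :=
  ∀ (K : Type u) [Group K] (H : Subgroup G) (f : H →* K), Function.Surjective f → PP p K

theorem Good.of_hyp {G : Type u} [Group G]
    (h : ∀ (H : Subgroup G) (N : Subgroup H) [N.Normal], pPrimeCore p (H ⧸ N) = ⊥ →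
        ∃ k : H ⧸ N, orderOf k = Monoid.exponent (H ⧸ N)) : Good p G := by
  intro K _ H f hf
  have e : H ⧸ f.ker ≃* K := QuotientGroup.quotientKerEquivOfSurjective f hf
  exact PP.of_equiv e (h H f.ker)

theorem Good.self {G : Type u} [Group G] (h : Good p G) : PP p G :=
  h G ⊤ (⊤ : Subgroup G).subtype (fun g => ⟨⟨g, Subgroup.mem_top g⟩, rfl⟩)

theorem Good.subgroup {G : Type u} [Group G] (h : Good p G) (M : Subgroup G) : Good p M := by
  intro K _ H f hf
  let e : H ≃* H.map M.subtype := Subgroup.equivMapOfInjective H M.subtype M.subtype_injective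
  refine h K (H.map M.subtype) (f.comp e.symm.toMonoidHom) ?_
  intro k
  obtain ⟨x, hx⟩ := hf k
  exact ⟨e x, by simp [hx]⟩

theorem Good.quotient {G : Type u} [Group G] (h : Good p G) (M : Subgroup G) [M.Normal] :
    Good p (G ⧸ M) := by
  intro K _ H f hf
  refine h K (H.comap (QuotientGroup.mk' M)) (f.comp ((QuotientGroup.mk' M).subgroupComap H)) ?_
  intro k
  obtain ⟨x, hx⟩ := hf k
  obtain ⟨y, hy⟩ := QuotientGroup.mk'_surjective M (x : G ⧸ M)
  refine ⟨⟨y, ?_⟩, ?_⟩
  · rw [Subgroup.mem_comap, hy]; exact x.2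
  · rw [MonoidHom.comp_apply, ← hx]
    congr 1
    apply Subtype.ext
    exact hy

/-- a finite `p`-group has an element whose order is the exponent. -/
theorem exists_orderOf_eq_exponent_of_pgroup {K : Type*} [Group K] [Finite K] {n : ℕ}
    (hK : Nat.card K = p ^ n) : ∃ k : K, orderOf k = Monoid.exponent K := by
  have h1 : Monoid.exponent K ∣ p ^ n := by
    rw [← hK]; exact Group.exponent_dvd_nat_card
  obtain ⟨j, -, hj⟩ := (Nat.dvd_prime_pow hp.out).mp h1
  rcases Nat.eq_zero_or_pos j with rfl | hj0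
  · refine ⟨1, ?_⟩
    rw [orderOf_one, hj, pow_zero]
  by_contra hcon
  push Not at hcon
  have h2 : ∀ x : K, x ^ p ^ (j - 1) = 1 := by
    intro x
    have hx : orderOf x ∣ p ^ j := by rw [← hj]; exact Monoid.order_dvd_exponent x
    obtain ⟨i, hi, hxi⟩ := (Nat.dvd_prime_pow hp.out).mp hx
    have hij : i ≠ j := by
      rintro rfl
      exact hcon x (by rw [hxi, hj])
    have : orderOf x ∣ p ^ (j - 1) := by
      rw [hxi]; exact Nat.pow_dvd_pow p (by omega)
    exact orderOf_dvd_iff_pow_eq_one.mp this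
  have h3 : Monoid.exponent K ∣ p ^ (j - 1) := Monoid.exponent_dvd_of_forall_pow_eq_one h2
  rw [hj] at h3
  have := (Nat.pow_dvd_pow_iff_le_right hp.out.one_lt).mp h3
  omega

/-- In a group with a normal `p`-complement, a `p'`-element normalizing a `p`-subgroup
centralizes it. -/
theorem comm_of_npc {K : Type*} [Group K] [Finite K] (h : NPC p K) (Q : Subgroup K)
    (hQ : IsPGroup p Q) (c : K) (hc : (orderOf c).Coprime p)
    (hcQ : c ∈ Subgroup.normalizer (Q : Set K)) : ∀ x ∈ Q, x * c = c * x := by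
  obtain ⟨L, hLn, hLcop, k, hk⟩ := h
  haveI := hLn
  have hcL : c ∈ L := by
    rw [← QuotientGroup.eq_one_iff, ← orderOf_eq_one_iff]
    have h1 : orderOf (QuotientGroup.mk c : K ⧸ L) ∣ orderOf c :=
      orderOf_map_dvd (QuotientGroup.mk' L) c
    have h2 : orderOf (QuotientGroup.mk c : K ⧸ L) ∣ p ^ k := by
      rw [← hk, Subgroup.index_eq_card]
      exact orderOf_dvd_natCard _
    have h3 : (orderOf (QuotientGroup.mk c : K ⧸ L)).Coprime (p ^ k) :=
      Nat.Coprime.coprime_dvd_left h1 (Nat.Coprime.pow_right k hc)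
    exact Nat.Coprime.eq_one_of_dvd h3 h2
  intro x hx
  have h1 : ⁅x, c⁆ ∈ L := by
    rw [commutatorElement_def]
    have : x * c * x⁻¹ * c⁻¹ = (x * c * x⁻¹) * c⁻¹ := by group
    rw [this]
    exact L.mul_mem (hLn.conj_mem c hcL x) (L.inv_mem hcL)
  have h2 : ⁅x, c⁆ ∈ Q := by
    rw [commutatorElement_def]
    have : x * c * x⁻¹ * c⁻¹ = x * (c * x⁻¹ * c⁻¹) := by group
    rw [this]
    exact Q.mul_mem hx ((Subgroup.mem_normalizer_iff.mp hcQ x⁻¹).mp (Q.inv_mem hx))
  have h3 : ⁅x, c⁆ = 1 := by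
    have hcopQL : (Nat.card Q).Coprime (Nat.card L) := by
      obtain ⟨n, hn⟩ := IsPGroup.iff_card.mp hQ
      rw [hn]
      exact Nat.Coprime.pow_left n hLcop.symm
    have := Subgroup.inf_eq_bot_of_coprime hcopQL
    have hmem : ⁅x, c⁆ ∈ Q ⊓ L := ⟨h2, h1⟩
    rw [this, Subgroup.mem_bot] at hmem
    exact hmem
  rw [commutatorElement_eq_one_iff_commute] at h3
  exact h3.eq








theorem mem_of_coprime_card_quotient {K : Type*} [Group K] [Finite K] (N : Subgroup K) [N.Normal]
    (x : K) (h : (orderOf x).Coprime (Nat.card (K ⧸ N))) : x ∈ N := by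
  rw [← QuotientGroup.eq_one_iff, ← orderOf_eq_one_iff]
  have h1 : orderOf (QuotientGroup.mk x : K ⧸ N) ∣ orderOf x :=
    orderOf_map_dvd (QuotientGroup.mk' N) x
  have h2 : orderOf (QuotientGroup.mk x : K ⧸ N) ∣ Nat.card (K ⧸ N) := orderOf_dvd_natCard _
  exact Nat.Coprime.eq_one_of_dvd (Nat.Coprime.coprime_dvd_left h1 h) h2

theorem eq_one_of_mem_pgroup_of_coprime {K : Type*} [Group K] (Q : Subgroup K) (hQ : IsPGroup p Q)
    (x : K) (hx : x ∈ Q) (h : (orderOf x).Coprime p) : x = 1 := by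
  obtain ⟨k, hk⟩ := hQ ⟨x, hx⟩
  have h1 : x ^ p ^ k = 1 := by
    have := congrArg Subtype.val hk
    simpa using this
  have h2 : orderOf x ∣ p ^ k := orderOf_dvd_of_pow_eq_one h1
  have h3 : orderOf x = 1 := Nat.Coprime.eq_one_of_dvd (Nat.Coprime.pow_right k h) h2
  exact orderOf_eq_one_iff.mp h3

theorem frattini_ne_top_of_nontrivial {K : Type*} [Group K] [Finite K] [Nontrivial K] :
    frattini K ≠ ⊤ := by
  rcases IsCoatomic.eq_top_or_exists_le_coatom (⊥ : Subgroup K) with h | ⟨M, hM, -⟩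
  · exact absurd h bot_ne_top
  · intro htop
    have := frattini_le_coatom hM
    rw [htop] at this
    exact hM.1 (top_le_iff.mp this)






/-- qualifying pairs -/
def Qual (p : ℕ) {G : Type*} [Group G] (Q : Subgroup G) (g : G) : Prop :=
  IsPGroup p Q ∧ g ∈ Subgroup.normalizer (Q : Set G) ∧ (orderOf g).Coprime p ∧
    g ∉ Subgroup.centralizer (Q : Set G)

/-- the final contradiction: abelian normal `p`-subgroup `Q`, `c` a `p'`-element not centralizing `Q`
but centralizing every proper `c`-invariant subgroup of `Q`, and a nontrivial fixed point. -/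
theorem abelian_contra {G : Type*} [Group G] [Finite G] (Q : Subgroup G) [hQn : Q.Normal]
    (hQ : IsPGroup p Q) (hab : ∀ x ∈ Q, ∀ y ∈ Q, x * y = y * x) (c : G)
    (hccop : (orderOf c).Coprime p)
    (hmin : ∀ Q₀ : Subgroup G, Q₀ ≤ Q → c ∈ Subgroup.normalizer (Q₀ : Set G) →
      Nat.card Q₀ < Nat.card Q → c ∈ Subgroup.centralizer (Q₀ : Set G))
    (u : G) (hu : u ∈ Q) (hu1 : u ≠ 1) (huc : c * u = u * c) :
    c ∈ Subgroup.centralizer (Q : Set G) := by
  classical
  -- θ x = x * (c x c⁻¹)⁻¹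
  have hconj : ∀ (d : G) (x : Q), d * x * d⁻¹ ∈ Q := fun d x => hQn.conj_mem x x.2 d
  let θ : Q →* Q :=
    { toFun := fun x => ⟨x * (c * x * c⁻¹)⁻¹, Q.mul_mem x.2 (Q.inv_mem (hconj c x))⟩
      map_one' := by
        apply Subtype.ext
        simp
      map_mul' := fun x y => by
        apply Subtype.ext
        have h1 : c * (x * y : Q) * c⁻¹ = (c * x * c⁻¹) * (c * y * c⁻¹) := by
          rw [Subgroup.coe_mul]; group
        have h2 := hab _ (Q.inv_mem (hconj c x)) _ y.2
        change ((x * y : Q) : G) * (c * (x * y : Q) * c⁻¹)⁻¹ =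
          (x * (c * x * c⁻¹)⁻¹) * (y * (c * y * c⁻¹)⁻¹)
        rw [h1, mul_inv_rev, Subgroup.coe_mul]
        have h3 := hab _ (Q.inv_mem (hconj c y)) _ (Q.inv_mem (hconj c x))
        calc (x : G) * y * ((c * y * c⁻¹)⁻¹ * (c * x * c⁻¹)⁻¹)
            = x * y * ((c * x * c⁻¹)⁻¹ * (c * y * c⁻¹)⁻¹) := by rw [h3]
          _ = x * (y * (c * x * c⁻¹)⁻¹) * (c * y * c⁻¹)⁻¹ := by group
          _ = x * ((c * x * c⁻¹)⁻¹ * y) * (c * y * c⁻¹)⁻¹ := by rw [← h2]
          _ = _ := by group }
  have hθ : ∀ x : Q, ((θ x : Q) : G) = x * (c * x * c⁻¹)⁻¹ := fun x => rfl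
  have hθu : θ ⟨u, hu⟩ = 1 := by
    apply Subtype.ext
    rw [hθ]
    change u * (c * u * c⁻¹)⁻¹ = 1
    rw [huc]; group
  by_cases hsurj : Function.Surjective θ
  · exfalso
    have hinj : Function.Injective θ := Finite.injective_iff_surjective.mpr hsurj
    have : (⟨u, hu⟩ : Q) = 1 := hinj (by rw [hθu, map_one])
    exact hu1 (congrArg Subtype.val this)
  · -- the image is a proper `c`-invariant subgroup
    obtain ⟨Q₁, hQ₁def⟩ : ∃ Q₁ : Subgroup G, Q₁ = θ.range.map Q.subtype := ⟨_, rfl⟩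
    have hQ₁le : Q₁ ≤ Q := by
      rw [hQ₁def]
      rintro _ ⟨y, -, rfl⟩
      exact y.2
    have hmemQ₁ : ∀ y : G, y ∈ Q₁ ↔ ∃ x : Q, y = x * (c * x * c⁻¹)⁻¹ := by
      intro y
      rw [hQ₁def]
      constructor
      · rintro ⟨_, ⟨x, rfl⟩, rfl⟩
        exact ⟨x, rfl⟩
      · rintro ⟨x, rfl⟩
        exact ⟨θ x, ⟨x, rfl⟩, rfl⟩
    have hcard : Nat.card Q₁ < Nat.card Q := by
      rw [hQ₁def, Subgroup.card_map_of_injective Q.subtype_injective]
      have hne : θ.range ≠ ⊤ := fun h => hsurj (MonoidHom.range_eq_top.mp h)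
      have hle := Subgroup.card_le_card_group θ.range
      have hne' : Nat.card θ.range ≠ Nat.card Q := fun h =>
        hne ((Subgroup.card_eq_iff_eq_top _).mp h)
      omega
    have hinvar : ∀ d : G, d * c = c * d → ∀ y ∈ Q₁, d * y * d⁻¹ ∈ Q₁ := by
      intro d hdc y hy
      obtain ⟨x, rfl⟩ := (hmemQ₁ y).mp hy
      rw [hmemQ₁]
      refine ⟨⟨d * x * d⁻¹, hconj d x⟩, ?_⟩
      change d * (x * (c * x * c⁻¹)⁻¹) * d⁻¹ = d * x * d⁻¹ * (c * (d * x * d⁻¹) * c⁻¹)⁻¹
      have h1 : c * (d * x * d⁻¹) * c⁻¹ = d * (c * x * c⁻¹) * d⁻¹ := by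
        calc c * (d * x * d⁻¹) * c⁻¹ = (c * d) * x * (c * d)⁻¹ := by group
          _ = (d * c) * x * (d * c)⁻¹ := by rw [hdc]
          _ = _ := by group
      rw [h1]; group
    have hcN : c ∈ Subgroup.normalizer (Q₁ : Set G) := by
      rw [Subgroup.mem_normalizer_iff]
      intro y
      constructor
      · exact hinvar c rfl y
      · intro hy
        have hc' : c⁻¹ * c = c * c⁻¹ := by group
        have := hinvar c⁻¹ hc' _ hy
        have e : c⁻¹ * (c * y * c⁻¹) * c⁻¹⁻¹ = y := by group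
        rwa [e] at this
    have hcent := hmin Q₁ hQ₁le hcN hcard
    -- `c` fixes `θ x`
    have hfix : ∀ x : Q, c * (θ x : G) * c⁻¹ = θ x := by
      intro x
      have hmem : ((θ x : Q) : G) ∈ Q₁ := (hmemQ₁ _).mpr ⟨x, rfl⟩
      have := Subgroup.mem_centralizer_iff.mp hcent _ hmem
      rw [← this]; group
    -- `c^j x c^-j = x (θ x)^-j`
    have hpow : ∀ (j : ℕ) (x : Q), c ^ j * x * (c ^ j)⁻¹ = x * ((θ x : G) ^ j)⁻¹ := by
      intro j
      induction j with
      | zero => intro x; simp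
      | succ j ih =>
        intro x
        have h1 : c ^ (j + 1) * x * (c ^ (j + 1))⁻¹ = c * (c ^ j * x * (c ^ j)⁻¹) * c⁻¹ := by
          rw [pow_succ']; group
        rw [h1, ih x]
        have h2 : c * ((x : G) * ((θ x : G) ^ j)⁻¹) * c⁻¹ =
            (c * x * c⁻¹) * ((c * (θ x : G) * c⁻¹) ^ j)⁻¹ := by
          rw [conj_pow]; group
        rw [h2, hfix x]
        have h3 : c * (x : G) * c⁻¹ = ((θ x : Q) : G)⁻¹ * x := by
          rw [hθ]; group
        rw [h3]
        have h4 := hab _ (Q.inv_mem (θ x).2) _ x.2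
        rw [h4, pow_succ, mul_inv_rev]
        have h5 : Commute ((θ x : G))⁻¹ (((θ x : G) ^ j)⁻¹) :=
          ((Commute.refl (θ x : G)).pow_right j).inv_inv
        rw [mul_assoc, h5.eq]
    -- with `j = orderOf c`
    rw [Subgroup.mem_centralizer_iff]
    intro x hx
    have h1 := hpow (orderOf c) ⟨x, hx⟩
    rw [pow_orderOf_eq_one] at h1
    have h2 : ((θ ⟨x, hx⟩ : Q) : G) ^ orderOf c = 1 := by
      have : (x : G) = x * ((θ ⟨x, hx⟩ : G) ^ orderOf c)⁻¹ := by
        simpa using h1
      have h3 : ((θ ⟨x, hx⟩ : G) ^ orderOf c)⁻¹ = 1 := by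
        have h4 : x * 1 = x * ((θ ⟨x, hx⟩ : G) ^ orderOf c)⁻¹ := by rw [mul_one]; exact this
        exact (mul_left_cancel h4).symm
      exact inv_eq_one.mp h3
    have h3 : ((θ ⟨x, hx⟩ : Q) : G) = 1 := by
      apply eq_one_of_mem_pgroup_of_coprime Q hQ _ (θ ⟨x, hx⟩).2
      exact Nat.Coprime.coprime_dvd_left (orderOf_dvd_of_pow_eq_one h2) hccop
    rw [hθ] at h3
    -- x * (c x c⁻¹)⁻¹ = 1
    have h4 : (x : G) = c * x * c⁻¹ := by
      have := mul_inv_eq_one.mp h3
      exact this
    calc x * c = (c * x * c⁻¹) * c := by rw [← h4]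
      _ = c * x := by group








theorem npc_of_good : ∀ (n : ℕ) (G : Type u) [Group G] [Finite G], Nat.card G = n → Good p G →
    NPC p G := by
  intro n
  induction n using Nat.strong_induction_on with
  | _ n ih =>
  intro G _ _ hcard hgood
  classical
  by_contra hnpc
  -- proper subgroups
  have hsub : ∀ M : Subgroup G, M ≠ ⊤ → NPC p M := by
    intro M hM
    have hlt : Nat.card M < n := by
      rw [← hcard]
      have hle := Subgroup.card_le_card_group M
      have hne : Nat.card M ≠ Nat.card G := fun h => hM ((Subgroup.card_eq_iff_eq_top _).mp h)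
      omega
    exact ih _ hlt M rfl (hgood.subgroup M)
  -- proper quotients
  have hquot : ∀ (M : Subgroup G) [M.Normal], M ≠ ⊥ → NPC p (G ⧸ M) := by
    intro M _ hM
    have hlt : Nat.card (G ⧸ M) < n := by
      rw [← hcard, Subgroup.card_eq_card_quotient_mul_card_subgroup M]
      have h1 : 1 < Nat.card M := M.one_lt_card_iff_ne_bot.mpr hM
      have h2 : 0 < Nat.card (G ⧸ M) := Nat.card_pos
      nlinarith
    exact ih _ hlt (G ⧸ M) rfl (hgood.quotient M)
  -- a qualifying pair exists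
  have hex : ∃ m : ℕ, ∃ (Q : Subgroup G) (g : G), Qual p Q g ∧ Nat.card Q = m := by
    let P : Sylow p G := default
    by_contra hcon
    push Not at hcon
    apply hnpc
    rw [← npc_iff]
    have := (Cfsg.Agent.S0071.result P).mpr (by
      intro Q hQP g hg hgcop
      by_contra hgC
      exact hcon _ Q g ⟨P.2.to_le hQP, hg, hgcop, hgC⟩ rfl)
    obtain ⟨N, hN, hc⟩ := this
    exact ⟨P, N, hN, hc⟩
  obtain ⟨Q, g, hQual, hQm⟩ := Nat.find_spec hex
  have hminimal : ∀ (Q' : Subgroup G) (g' : G), Qual p Q' g' → Nat.card Q ≤ Nat.card Q' := by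
    intro Q' g' h'
    rw [hQm]
    exact Nat.find_min' hex ⟨Q', g', h', rfl⟩
  -- every qualifying pair generates `G`
  have hsup : ∀ (Q' : Subgroup G) (g' : G), Qual p Q' g' → Q' ⊔ Subgroup.zpowers g' = ⊤ := by
    rintro Q' g' ⟨hQ', hgN, hgcop, hgC⟩
    by_contra hM
    have hnpcM := hsub _ hM
    have hgM : g' ∈ Q' ⊔ Subgroup.zpowers g' :=
      Subgroup.mem_sup_right (Subgroup.mem_zpowers g')
    have hQM : Q' ≤ Q' ⊔ Subgroup.zpowers g' := le_sup_left
    apply hgC
    rw [Subgroup.mem_centralizer_iff]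
    intro x hx
    have hnorm : (⟨g', hgM⟩ : ↥(Q' ⊔ Subgroup.zpowers g')) ∈
        Subgroup.normalizer ((Q'.subgroupOf (Q' ⊔ Subgroup.zpowers g') : Subgroup _) : Set _) := by
      rw [Subgroup.mem_normalizer_iff]
      intro h
      rw [Subgroup.mem_subgroupOf, Subgroup.mem_subgroupOf]
      exact Subgroup.mem_normalizer_iff.mp hgN h
    have := comm_of_npc hnpcM (Q'.subgroupOf (Q' ⊔ Subgroup.zpowers g')) hQ'.comap_subtype
      ⟨g', hgM⟩ (by rw [Subgroup.orderOf_mk]; exact hgcop) hnorm ⟨x, hQM hx⟩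
      (by rw [Subgroup.mem_subgroupOf]; exact hx)
    exact congrArg Subtype.val this
  obtain ⟨hQ, hgN, hgcop, hgC⟩ := hQual
  have hQtop := hsup Q g ⟨hQ, hgN, hgcop, hgC⟩
  have hQn : Q.Normal := by
    rw [← Subgroup.normalizer_eq_top_iff, eq_top_iff, ← hQtop]
    exact sup_le Subgroup.le_normalizer (Subgroup.zpowers_le.mpr hgN)
  -- `O_{p'}(G) = 1`
  have hO : pPrimeCore p G = ⊥ := by
    by_contra hne
    haveI := Cfsg.Agent.Lib.Helper2.pPrimeCore_normal (G := G) p
    exact hnpc (NPC.of_quotient _ (pPrimeCore_coprime p) (hquot _ hne))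
  -- the quotient `G / Q` is cyclic generated by the image of `g`
  have hquot_top : (⊤ : Subgroup (G ⧸ Q)) = Subgroup.zpowers (QuotientGroup.mk g : G ⧸ Q) := by
    have := congrArg (Subgroup.map (QuotientGroup.mk' Q)) hQtop
    rw [Subgroup.map_sup, QuotientGroup.map_mk'_self, bot_sup_eq, MonoidHom.map_zpowers,
      Subgroup.map_top_of_surjective _ (QuotientGroup.mk'_surjective Q)] at this
    exact this.symm
  have htcard : Nat.card (G ⧸ Q) = orderOf (QuotientGroup.mk g : G ⧸ Q) := by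
    rw [← Nat.card_zpowers, ← hquot_top, Subgroup.card_top]
  have htdvd : Nat.card (G ⧸ Q) ∣ orderOf g := by
    rw [htcard]
    exact orderOf_map_dvd (QuotientGroup.mk' Q) g
  have htcop : (Nat.card (G ⧸ Q)).Coprime p := Nat.Coprime.coprime_dvd_left htdvd hgcop
  -- `Q ≠ 1`
  have hQne : Q ≠ ⊥ := by
    rintro rfl
    apply hgC
    rw [Subgroup.mem_centralizer_iff]
    intro x hx
    rw [Subgroup.mem_bot.mp hx]; simp
  -- the element of order `exp G`
  obtain ⟨k, hk⟩ := hgood.self hO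
  have hpexp : p ∣ Monoid.exponent G := by
    have hpQ : p ∣ Nat.card Q := by
      obtain ⟨a, ha⟩ := IsPGroup.iff_card.mp hQ
      rcases Nat.eq_zero_or_pos a with rfl | ha0
      · rw [pow_zero] at ha
        exact absurd (Subgroup.card_eq_one.mp ha) hQne
      · rw [ha]; exact dvd_pow_self p ha0.ne'
    have hpG : p ∣ Nat.card G := hpQ.trans (Subgroup.card_subgroup_dvd_card Q)
    obtain ⟨x, hx⟩ := exists_prime_orderOf_dvd_card' p hpG
    rw [← hx]
    exact Monoid.order_dvd_exponent x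
  have he0 : orderOf k ≠ 0 := (orderOf_pos k).ne'
  obtain ⟨b, m, hpm, he⟩ := Nat.exists_eq_pow_mul_and_not_dvd he0 p hp.out.ne_one
  have hb : 1 ≤ b := by
    by_contra hb0
    have : b = 0 := by omega
    rw [this, pow_zero, one_mul] at he
    rw [hk] at he
    rw [he] at hpexp
    exact hpm hpexp
  have hm0 : m ≠ 0 := by
    rintro rfl
    rw [mul_zero] at he
    exact he0 he
  have hmcop : m.Coprime p := ((Nat.Prime.coprime_iff_not_dvd hp.out).mpr hpm).symm
  obtain ⟨c, hcdef⟩ : ∃ c : G, c = k ^ p ^ b := ⟨_, rfl⟩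
  obtain ⟨u, hudef⟩ : ∃ u : G, u = k ^ m := ⟨_, rfl⟩
  have hordc : orderOf c = m := by
    rw [hcdef, orderOf_pow_of_dvd (pow_ne_zero b hp.out.ne_zero) (by rw [he]; exact dvd_mul_right _ _),
      he, Nat.mul_div_cancel_left _ (pow_pos hp.out.pos b)]
  have hordu : orderOf u = p ^ b := by
    rw [hudef, orderOf_pow_of_dvd hm0 (by rw [he]; exact dvd_mul_left _ _),
      he, Nat.mul_div_cancel _ (Nat.pos_of_ne_zero hm0)]
  have hccop : (orderOf c).Coprime p := by rw [hordc]; exact hmcop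
  have huQ : u ∈ Q := by
    apply mem_of_coprime_card_quotient Q u
    rw [hordu]
    exact Nat.Coprime.pow_left b htcop.symm
  have hu1 : u ≠ 1 := by
    intro h
    rw [h, orderOf_one] at hordu
    have : 1 < p ^ b := Nat.one_lt_pow (by omega) hp.out.one_lt
    omega
  have huc : c * u = u * c := by
    rw [hcdef, hudef]
    exact ((Commute.refl k).pow_pow _ _).eq
  have hcN : c ∈ Subgroup.normalizer (Q : Set G) := by
    rw [Subgroup.normalizer_eq_top_iff.mpr hQn]; exact Subgroup.mem_top c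
  -- `c` does not centralize `Q`
  have hcC : c ∉ Subgroup.centralizer (Q : Set G) := by
    intro hcC
    have ht_dvd_m : Nat.card (G ⧸ Q) ∣ m := by
      have h1 : Nat.card (G ⧸ Q) ∣ p ^ b * m := by
        rw [← he, hk]
        exact htdvd.trans (Monoid.order_dvd_exponent g)
      exact (Nat.Coprime.pow_right b htcop).dvd_of_dvd_mul_left h1
    have hord_mk : orderOf (QuotientGroup.mk c : G ⧸ Q) = m := by
      apply Nat.dvd_antisymm
      · rw [← hordc]; exact orderOf_map_dvd (QuotientGroup.mk' Q) c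
      · rw [← hordc]
        apply orderOf_dvd_of_pow_eq_one
        have hmem : c ^ orderOf (QuotientGroup.mk c : G ⧸ Q) ∈ Q := by
          rw [← QuotientGroup.eq_one_iff, QuotientGroup.mk_pow, pow_orderOf_eq_one]
        apply eq_one_of_mem_pgroup_of_coprime Q hQ _ hmem
        exact Nat.Coprime.coprime_dvd_left (orderOf_pow_dvd _) hccop
    have hm_dvd_t : m ∣ Nat.card (G ⧸ Q) := by
      rw [← hord_mk]; exact orderOf_dvd_natCard _
    have hmt : m = Nat.card (G ⧸ Q) := Nat.dvd_antisymm hm_dvd_t ht_dvd_m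
    have hzc_top : Subgroup.zpowers (QuotientGroup.mk c : G ⧸ Q) = ⊤ := by
      rw [← Subgroup.card_eq_iff_eq_top, Nat.card_zpowers, hord_mk, hmt]
    -- `c` is central
    have hcentral : ∀ s : G, s * c = c * s := by
      intro s
      have hs : (QuotientGroup.mk s : G ⧸ Q) ∈ Subgroup.zpowers (QuotientGroup.mk c : G ⧸ Q) := by
        rw [hzc_top]; exact Subgroup.mem_top _
      obtain ⟨j, hj⟩ := Subgroup.mem_zpowers_iff.mp hs
      have hx : (c ^ j)⁻¹ * s ∈ Q := by
        rw [← QuotientGroup.eq, QuotientGroup.mk_zpow]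
        exact hj
      have h1 := Subgroup.mem_centralizer_iff.mp hcC _ hx
      have h2 : s = c ^ j * ((c ^ j)⁻¹ * s) := by group
      have h3 : Commute (c ^ j) c := (Commute.refl c).zpow_left j
      calc s * c = c ^ j * (((c ^ j)⁻¹ * s) * c) := by rw [← mul_assoc, ← h2]
        _ = c ^ j * (c * ((c ^ j)⁻¹ * s)) := by rw [h1]
        _ = (c ^ j * c) * ((c ^ j)⁻¹ * s) := by group
        _ = (c * c ^ j) * ((c ^ j)⁻¹ * s) := by rw [h3.eq]
        _ = c * s := by group
    have hzn : (Subgroup.zpowers c).Normal := by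
      constructor
      intro x hx s
      obtain ⟨j, rfl⟩ := Subgroup.mem_zpowers_iff.mp hx
      have : s * c ^ j * s⁻¹ = c ^ j := by
        have h3 : Commute s (c ^ j) := (show Commute s c from hcentral s).zpow_right j
        rw [h3.eq]; group
      rw [this]
      exact Subgroup.zpow_mem_zpowers c j
    have hzle : Subgroup.zpowers c ≤ pPrimeCore p G :=
      le_pPrimeCore hzn (by rw [Nat.card_zpowers]; exact hccop)
    rw [hO] at hzle
    have hc1 : c = 1 := Subgroup.mem_bot.mp (hzle (Subgroup.mem_zpowers c))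
    have hm1 : m = 1 := by rw [← hordc, hc1, orderOf_one]
    have hQtop' : Q = ⊤ := by
      rw [← Subgroup.index_eq_one, Subgroup.index_eq_card, ← hmt, hm1]
    apply hnpc
    apply NPC.of_isPGroup
    intro x
    obtain ⟨j, hj⟩ := hQ ⟨x, by rw [hQtop']; exact Subgroup.mem_top x⟩
    exact ⟨j, by simpa using congrArg Subtype.val hj⟩
  -- minimality for `c`
  have hmin' : ∀ Q₀ : Subgroup G, Q₀ ≤ Q → c ∈ Subgroup.normalizer (Q₀ : Set G) →
      Nat.card Q₀ < Nat.card Q → c ∈ Subgroup.centralizer (Q₀ : Set G) := by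
    intro Q₀ h1 h2 h3
    by_contra h4
    have := hminimal Q₀ c ⟨hQ.to_le h1, h2, hccop, h4⟩
    omega
  -- the Frattini subgroup of `Q`
  haveI := hQn
  haveI hQnt : Nontrivial Q := (Subgroup.nontrivial_iff_ne_bot Q).mpr hQne
  obtain ⟨Φ, hΦdef⟩ : ∃ Φ : Subgroup G, Φ = (frattini Q).map Q.subtype := ⟨_, rfl⟩
  have hΦn : Φ.Normal := by rw [hΦdef]; infer_instance
  have hΦle : Φ ≤ Q := by
    rw [hΦdef]
    rintro _ ⟨y, -, rfl⟩
    exact y.2
  have hΦlt : Nat.card Φ < Nat.card Q := by
    rw [hΦdef, Subgroup.card_map_of_injective Q.subtype_injective]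
    have hne : frattini Q ≠ ⊤ := frattini_ne_top_of_nontrivial
    have hle := Subgroup.card_le_card_group (frattini Q)
    have hne' : Nat.card (frattini Q) ≠ Nat.card Q := fun h =>
      hne ((Subgroup.card_eq_iff_eq_top _).mp h)
    omega
  have hcΦ : c ∈ Subgroup.centralizer (Φ : Set G) :=
    hmin' Φ hΦle (by rw [Subgroup.normalizer_eq_top_iff.mpr hΦn]; exact Subgroup.mem_top c) hΦlt
  by_cases hΦ : Φ = ⊥
  · -- `Q` is abelian
    have hfr : frattini Q = ⊥ := by
      rw [hΦdef] at hΦ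
      exact (Subgroup.map_eq_bot_iff_of_injective _ Q.subtype_injective).mp hΦ
    have hab : ∀ x ∈ Q, ∀ y ∈ Q, x * y = y * x := by
      intro x hx y hy
      have h1 : ⁅(⟨x, hx⟩ : Q), ⟨y, hy⟩⁆ ∈ commutator Q :=
        Subgroup.commutator_mem_commutator (Subgroup.mem_top _) (Subgroup.mem_top _)
      have h2 := commutator_le_frattini_of_isPGroup hQ h1
      rw [hfr, Subgroup.mem_bot, commutatorElement_eq_one_iff_commute] at h2
      exact congrArg Subtype.val h2.eq
    exact hcC (abelian_contra Q hQ hab c hccop hmin' u huQ hu1 huc)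
  · -- the quotient by `Φ` has a normal `p`-complement
    haveI := hΦn
    have hnpcq := hquot Φ hΦ
    have hC : Subgroup.zpowers c ≤ Subgroup.normalizer (Q : Set G) := by
      rw [Subgroup.normalizer_eq_top_iff.mpr hQn]; exact le_top
    have h1 : ⁅Q, Subgroup.zpowers c⁆ ≤ Φ := by
      rw [Subgroup.commutator_le]
      intro x hx a ha
      have hacop : (orderOf a).Coprime p := by
        exact Nat.Coprime.coprime_dvd_left (orderOf_dvd_of_mem_zpowers ha) hccop
      have hQbar : IsPGroup p (Q.map (QuotientGroup.mk' Φ)) := hQ.map _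
      have hnormal : (Q.map (QuotientGroup.mk' Φ)).Normal :=
        hQn.map _ (QuotientGroup.mk'_surjective Φ)
      have := comm_of_npc hnpcq (Q.map (QuotientGroup.mk' Φ)) hQbar (QuotientGroup.mk a)
        (Nat.Coprime.coprime_dvd_left (orderOf_map_dvd (QuotientGroup.mk' Φ) a) hacop)
        (by rw [Subgroup.normalizer_eq_top_iff.mpr hnormal]; exact Subgroup.mem_top _)
        (QuotientGroup.mk x) (Subgroup.mem_map_of_mem _ hx)
      rw [← QuotientGroup.eq_one_iff, ← QuotientGroup.mk'_apply, map_commutatorElement,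
        commutatorElement_eq_one_iff_commute]
      exact this
    have h2 : ⁅Φ, Subgroup.zpowers c⁆ = ⊥ := by
      rw [Subgroup.commutator_eq_bot_iff_le_centralizer, Subgroup.le_centralizer_iff,
        Subgroup.zpowers_le]
      exact hcΦ
    have h3 : ⁅⁅Q, Subgroup.zpowers c⁆, Subgroup.zpowers c⁆ = ⊥ := by
      rw [eq_bot_iff, ← h2]
      exact Subgroup.commutator_mono h1 le_rfl
    have hcopCQ : (Nat.card (Subgroup.zpowers c)).Coprime (Nat.card Q) := by
      obtain ⟨a, ha⟩ := IsPGroup.iff_card.mp hQ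
      rw [ha, Nat.card_zpowers]
      exact Nat.Coprime.pow_right a hccop
    have hsolv : Group.IsSolvable Q := by
      haveI := hQ.isNilpotent
      infer_instance
    have h4 := coprime_commutator_stable (Subgroup.zpowers c) Q hC hcopCQ (Or.inr hsolv)
    rw [h3] at h4
    apply hcC
    have h5 : Q ≤ Subgroup.centralizer (Subgroup.zpowers c : Set G) :=
      Subgroup.commutator_eq_bot_iff_le_centralizer.mp h4.symm
    rw [Subgroup.le_centralizer_iff, Subgroup.zpowers_le] at h5
    exact h5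



/-- Let G be a finite group and p a prime. Then G has a normal p-complement if and only if every section K = H/N of G (N a normal subgroup of a subgroup H) whose largest normal subgroup of order prime to p is trivial contains an element whose order equals the exponent of K. -/
theorem result {G : Type*} [Group G] [Finite G] (p : ℕ) [Fact p.Prime] :
    Cfsg.HasNormalPComplement p G ↔
      ∀ (H : Subgroup G) (N : Subgroup H) [N.Normal], Cfsg.pPrimeCore p (H ⧸ N) = ⊥ →
        ∃ k : H ⧸ N, orderOf k = Monoid.exponent (H ⧸ N) := by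
  constructor
  · intro h H N _ hO
    have h1 : NPC p G := npc_iff.mp h
    have h2 : NPC p H := h1.subgroup H
    have h3 : NPC p (H ⧸ N) :=
      NPC.of_surjective (QuotientGroup.mk' N) (QuotientGroup.mk'_surjective N) h2
    obtain ⟨L, hLn, hLcop, k, hk⟩ := h3
    have hL : L = ⊥ := by
      have := le_pPrimeCore hLn hLcop
      rw [hO] at this
      exact eq_bot_iff.mpr this
    rw [hL, Subgroup.index_bot] at hk
    exact exists_orderOf_eq_exponent_of_pgroup hk
  · intro h
    exact npc_iff.mpr (npc_of_good _ G rfl (Good.of_hyp h))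

end Cfsg.Agent.S4238
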