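import Cfsg.Statements.S4242
import Mathlib
import Cfsg.Agent.S0071
import Cfsg.Agent.Lib.Helper2.NilpotentCoprime
import Cfsg.Agent.Lib.Helper2.SylowCount
import Cfsg.Agent.Lib.Helper2.CoprimeSylow

set_option autoImplicit false
set_option maxHeartbeats 800000
open Cfsg

namespace Cfsg.Agent.S4242

open Cfsg.Agent.Lib.Helper2

section
variable {G : Type*} [Group G] [Finite G]

theorem nil_of_le {M H : Subgroup G} (hM : Group.IsNilpotent M) (h : H ≤ M) :
    Group.IsNilpotent H := by
  haveI := hM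
  exact Group.nilpotent_of_mulEquiv (Subgroup.subgroupOfEquivOfLe h)

theorem card_sup_dvd (X Y : Subgroup G)
    (h : Y ≤ Subgroup.normalizer (X : Set G)) :
    Nat.card (Y ⊔ X : Subgroup G) ∣ Nat.card Y * Nat.card X := by
  have h1 := relIndex_sup_of_le_normalizer Y X h
  have h2 : Nat.card Y * Y.relIndex (Y ⊔ X) = Nat.card (Y ⊔ X : Subgroup G) := by
    have := Subgroup.relIndex_mul_relIndex ⊥ Y (Y ⊔ X) bot_le le_sup_left
    rwa [Subgroup.relIndex_bot_left, Subgroup.relIndex_bot_left] at this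
  have h3 : Y.relIndex X ∣ Nat.card X := Subgroup.relIndex_dvd_card Y X
  rw [← h2, h1]
  exact Nat.mul_dvd_mul_left _ h3

theorem exists_coatom_ge (H : Subgroup G) (h : H ≠ ⊤) :
    ∃ M : Subgroup G, IsCoatom M ∧ H ≤ M := by
  rcases eq_top_or_exists_le_coatom H with h1 | ⟨M, hM, hle⟩
  · exact absurd h1 h
  · exact ⟨M, hM, hle⟩

theorem p_dvd_card_of_ne_bot {p : ℕ} [hp : Fact p.Prime] {Q : Subgroup G} (hQ : IsPGroup p Q)
    (h1 : Q ≠ ⊥) : p ∣ Nat.card Q := by
  obtain ⟨k, hk⟩ := IsPGroup.iff_card.mp hQ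
  rw [hk]
  have hk0 : k ≠ 0 := by
    rintro rfl
    apply h1
    rw [pow_zero] at hk
    exact Subgroup.card_eq_one.mp hk
  exact dvd_pow_self p hk0

theorem coprime_of_isPGroup {p : ℕ} [hp : Fact p.Prime] {Q M : Subgroup G} (hQ : IsPGroup p Q)
    (hpM : ¬ p ∣ Nat.card M) : (Nat.card Q).Coprime (Nat.card M) := by
  obtain ⟨k, hk⟩ := IsPGroup.iff_card.mp hQ
  rw [hk]
  exact Nat.Coprime.pow_left k ((Nat.Prime.coprime_iff_not_dvd hp.out).mpr hpM)

/-- elements of a `p`-group and `p'`-elements inside a common nilpotent subgroup commute -/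
theorem commute_in_nilpotent {p : ℕ} [hp : Fact p.Prime] {L : Subgroup G}
    (hL : Group.IsNilpotent L) {Q : Subgroup G} (hQ : IsPGroup p Q) (hQL : Q ≤ L) {h : G}
    (hh : h ∈ L) (hcop : (orderOf h).Coprime p) {x : G} (hx : x ∈ Q) : h * x = x * h := by
  obtain ⟨j, hj⟩ := (IsPGroup.iff_orderOf.mp hQ) ⟨x, hx⟩
  rw [Subgroup.orderOf_mk] at hj
  exact commute_of_coprime_orderOf_of_mem L hL h x hh (hQL hx)
    (by rw [hj]; exact Nat.Coprime.pow_right j hcop)

theorem coprime_orderOf_of_mem {p : ℕ} {M : Subgroup G} (hpM : (Nat.card M).Coprime p) {h : G}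
    (hh : h ∈ M) : (orderOf h).Coprime p := by
  have := orderOf_dvd_natCard (⟨h, hh⟩ : ↥M)
  rw [Subgroup.orderOf_mk] at this
  exact Nat.Coprime.coprime_dvd_left this hpM

/-- a proper subgroup containing a nontrivial `p`-subgroup is nilpotent -/
theorem nil_of_ne_top {p : ℕ} [hp : Fact p.Prime]
    (hmax : ∀ M : Subgroup G, IsCoatom M → p ∣ Nat.card M → Group.IsNilpotent M)
    {L : Subgroup G} (hL : L ≠ ⊤) {Q : Subgroup G} (hQ : IsPGroup p Q) (hQ1 : Q ≠ ⊥)
    (hQL : Q ≤ L) : Group.IsNilpotent L := by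
  obtain ⟨M2, hM2, hle⟩ := exists_coatom_ge L hL
  have : p ∣ Nat.card M2 :=
    (p_dvd_card_of_ne_bot hQ hQ1).trans (Subgroup.card_dvd_of_le (hQL.trans hle))
  exact nil_of_le (hmax M2 hM2 this) hle

theorem centralizes {p : ℕ} [hp : Fact p.Prime]
    (hmax : ∀ M : Subgroup G, IsCoatom M → p ∣ Nat.card M → Group.IsNilpotent M)
    (P : Sylow p G) (hP1 : (P : Subgroup G) ≠ ⊥)
    {H : Subgroup G} (hH : (Nat.card H).Coprime p) (hne : H ⊔ (P : Subgroup G) ≠ ⊤) :
    Group.IsNilpotent H ∧ ∀ h ∈ H, ∀ x ∈ (P : Subgroup G), h * x = x * h := by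
  have hnil := nil_of_ne_top hmax hne P.isPGroup' hP1 le_sup_right
  refine ⟨nil_of_le hnil le_sup_left, ?_⟩
  intro h hh x hx
  exact commute_in_nilpotent hnil P.isPGroup' le_sup_right
    ((le_sup_left : H ≤ H ⊔ (P : Subgroup G)) hh) (coprime_orderOf_of_mem hH hh) hx

theorem P_normal_of_complement {p : ℕ} [hp : Fact p.Prime]
    (hmax : ∀ M : Subgroup G, IsCoatom M → p ∣ Nat.card M → Group.IsNilpotent M)
    (P : Sylow p G) (hP1 : (P : Subgroup G) ≠ ⊥)
    (M : Subgroup G) (hMn : M.Normal) (hMc : M.IsComplement' (P : Subgroup G))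
    (hMnil : ¬ Group.IsNilpotent M) (hpM : ¬ p ∣ Nat.card M) : (P : Subgroup G).Normal := by
  have hcopM : (Nat.card M).Coprime p := ((Nat.Prime.coprime_iff_not_dvd hp.out).mpr hpM).symm
  have hcard : Nat.card M * Nat.card (P : Subgroup G) = Nat.card G := hMc.card_mul_card
  have hsup : M ⊔ (P : Subgroup G) = ⊤ := hMc.sup_eq_top
  haveI : Group.IsSolvable ↥(P : Subgroup G) := by
    haveI := P.isPGroup'.isNilpotent
    infer_instance
  have hC : (Subgroup.centralizer ((P : Subgroup G) : Set G)).subgroupOf M = ⊤ := by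
    by_contra hCne
    have hidx : ((Subgroup.centralizer ((P : Subgroup G) : Set G)).subgroupOf M).index ≠ 1 := by
      rwa [Ne, Subgroup.index_eq_one]
    obtain ⟨r, hr, hrd⟩ := Nat.exists_prime_and_dvd hidx
    haveI : Fact r.Prime := ⟨hr⟩
    obtain ⟨R, hR⟩ := exists_invariant_sylow (P : Subgroup G) M
      (by rw [Subgroup.normalizer_eq_top_iff.mpr hMn]; exact le_top)
      (coprime_of_isPGroup P.isPGroup' hpM) (Or.inl inferInstance) r
    have hRC : (R : Subgroup ↥M) ≤
        (Subgroup.centralizer ((P : Subgroup G) : Set G)).subgroupOf M := by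
      intro h hh
      rw [Subgroup.mem_subgroupOf, Subgroup.mem_centralizer_iff]
      intro x hx
      have hR'ne : (R : Subgroup ↥M).map M.subtype ⊔ (P : Subgroup G) ≠ ⊤ := by
        intro htop
        have h1 := card_sup_dvd ((R : Subgroup ↥M).map M.subtype) (P : Subgroup G) hR
        rw [sup_comm, htop, Subgroup.card_top, ← hcard,
          Subgroup.card_map_of_injective M.subtype_injective, mul_comm (Nat.card ↥M)] at h1
        have h2 : Nat.card M ∣ Nat.card (R : Subgroup ↥M) :=
          Nat.dvd_of_mul_dvd_mul_left Nat.card_pos h1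
        have h3 : (R : Subgroup ↥M) = ⊤ :=
          Subgroup.eq_top_of_le_card _ (Nat.le_of_dvd Nat.card_pos h2)
        apply hMnil
        have hpg : IsPGroup r ↥M := by
          have := R.isPGroup'
          rw [h3] at this
          exact this.of_equiv Subgroup.topEquiv
        exact hpg.isNilpotent
      have hR'cop : (Nat.card ((R : Subgroup ↥M).map M.subtype)).Coprime p :=
        Nat.Coprime.coprime_dvd_left (Subgroup.card_dvd_of_le (Subgroup.map_subtype_le _)) hcopM
      exact ((centralizes hmax P hP1 hR'cop hR'ne).2 (h : G)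
        (Subgroup.mem_map_of_mem _ hh) x hx).symm
    have := Subgroup.index_dvd_of_le hRC
    exact R.not_dvd_index (hrd.trans this)
  have hcent : ∀ m ∈ M, ∀ x ∈ (P : Subgroup G), m * x = x * m := by
    intro m hm x hx
    have : (⟨m, hm⟩ : ↥M) ∈ (Subgroup.centralizer ((P : Subgroup G) : Set G)).subgroupOf M := by
      rw [hC]; exact Subgroup.mem_top _
    rw [Subgroup.mem_subgroupOf, Subgroup.mem_centralizer_iff] at this
    exact (this x hx).symm
  rw [← Subgroup.normalizer_eq_top_iff, eq_top_iff, ← hsup, sup_le_iff]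
  refine ⟨?_, Subgroup.le_normalizer⟩
  refine le_trans ?_ (Subgroup.centralizer_le_normalizer _)
  intro m hm
  rw [Subgroup.mem_centralizer_iff]
  intro x hx
  exact (hcent m hm x hx).symm

theorem P_normal {p : ℕ} [hp : Fact p.Prime]
    (hmax : ∀ M : Subgroup G, IsCoatom M → p ∣ Nat.card M → Group.IsNilpotent M)
    (P : Sylow p G) (hP1 : (P : Subgroup G) ≠ ⊥)
    (M : Subgroup G) (hM : IsCoatom M) (hMnil : ¬ Group.IsNilpotent M)
    (hpM : ¬ p ∣ Nat.card M) : (P : Subgroup G).Normal := by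
  have hcopPM : (Nat.card (P : Subgroup G)).Coprime (Nat.card M) :=
    coprime_of_isPGroup P.isPGroup' hpM
  by_cases hQ : ∃ Q : Subgroup G, Q ≤ P ∧ Q ≠ ⊥ ∧ Q.Normal
  · obtain ⟨Q, hQP, hQ1, hQn⟩ := hQ
    have hQp : IsPGroup p Q := P.isPGroup'.to_le hQP
    have hQM : ¬ Q ≤ M := fun h =>
      hpM ((p_dvd_card_of_ne_bot hQp hQ1).trans (Subgroup.card_dvd_of_le h))
    have hsup : M ⊔ Q = ⊤ := hM.lt_iff.mp
      (lt_of_le_of_ne le_sup_left (fun h => hQM (by rw [h]; exact le_sup_right)))
    have h1 := card_sup_dvd Q M (by rw [Subgroup.normalizer_eq_top_iff.mpr hQn]; exact le_top)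
    rw [hsup, Subgroup.card_top] at h1
    have h2 : Nat.card (P : Subgroup G) ∣ Nat.card M * Nat.card Q :=
      (Subgroup.card_subgroup_dvd_card _).trans h1
    have h3 : Nat.card (P : Subgroup G) ∣ Nat.card Q := hcopPM.dvd_of_dvd_mul_left h2
    have h4 : Q = (P : Subgroup G) :=
      Subgroup.eq_of_le_of_card_ge hQP (Nat.le_of_dvd Nat.card_pos h3)
    rw [← h4]; exact hQn
  · push_neg at hQ
    have hF : ∀ Q : Subgroup G, Q ≤ (P : Subgroup G) →
        ∀ g ∈ Subgroup.normalizer (Q : Set G), Nat.Coprime (orderOf g) p →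
          g ∈ Subgroup.centralizer (Q : Set G) := by
      intro Q hQP g hg hcop
      rw [Subgroup.mem_centralizer_iff]
      intro h hh
      by_cases hQ1 : Q = ⊥
      · rw [hQ1] at hh
        have : h = 1 := by simpa using hh
        rw [this, one_mul, mul_one]
      · have hNne : Subgroup.normalizer (Q : Set G) ≠ ⊤ := fun htop =>
          hQ Q hQP hQ1 (Subgroup.normalizer_eq_top_iff.mp htop)
        have hQp : IsPGroup p Q := P.isPGroup'.to_le hQP
        have hnil := nil_of_ne_top hmax hNne hQp hQ1 Subgroup.le_normalizer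
        exact (commute_in_nilpotent hnil hQp Subgroup.le_normalizer hg hcop hh).symm
    obtain ⟨N, hNn, hNc⟩ := (Cfsg.Agent.S0071.result P).mpr hF
    have hMN : M ≤ N := by
      rw [← Subgroup.relIndex_eq_one]
      have d1 : N.relIndex M ∣ N.index := Subgroup.relIndex_dvd_index_of_normal N M
      rw [hNc.symm.index_eq_card] at d1
      have d2 : N.relIndex M ∣ Nat.card M := Subgroup.relIndex_dvd_card N M
      have := Nat.dvd_gcd d1 d2
      rw [Nat.Coprime.gcd_eq_one hcopPM] at this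
      exact Nat.dvd_one.mp this
    have hNtop : N ≠ ⊤ := by
      intro htop
      have h1 := hNc.card_mul_card
      rw [htop, Subgroup.card_top] at h1
      have h2 : Nat.card (P : Subgroup G) = 1 :=
        Nat.eq_of_mul_eq_mul_left Nat.card_pos (h1.trans (mul_one _).symm)
      exact hP1 (Subgroup.card_eq_one.mp h2)
    have hNM : N = M := (hM.le_iff.mp hMN).resolve_left hNtop
    rw [hNM] at hNn hNc
    exact P_normal_of_complement hmax P hP1 M hNn hNc hMnil hpM

theorem step_B {p : ℕ} [hp : Fact p.Prime]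
    (hmax : ∀ M : Subgroup G, IsCoatom M → p ∣ Nat.card M → Group.IsNilpotent M)
    (P : Sylow p G) (hPn : (P : Subgroup G).Normal) (hP1 : (P : Subgroup G) ≠ ⊥)
    (M : Subgroup G) (hM : IsCoatom M) (hMnil : ¬ Group.IsNilpotent M)
    (hpM : ¬ p ∣ Nat.card M) :
    ∃ Z K : Subgroup G, Z.Normal ∧ K.Normal ∧ Z ⊓ K = ⊥ ∧ Z ⊔ K = ⊤ ∧ Nat.card Z = p ∧
      Cfsg.IsMinimalNonNilpotent K ∧ ¬ p ∣ Nat.card K := by
  have hcopM : (Nat.card M).Coprime p := ((Nat.Prime.coprime_iff_not_dvd hp.out).mpr hpM).symm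
  have hcopPM : (Nat.card (P : Subgroup G)).Coprime (Nat.card M) :=
    coprime_of_isPGroup P.isPGroup' hpM
  have hpP : p ∣ Nat.card (P : Subgroup G) := p_dvd_card_of_ne_bot P.isPGroup' hP1
  have hPM : ¬ (P : Subgroup G) ≤ M := fun h => hpM (hpP.trans (Subgroup.card_dvd_of_le h))
  have hsup : M ⊔ (P : Subgroup G) = ⊤ := hM.lt_iff.mp
    (lt_of_le_of_ne le_sup_left (fun h => hPM (by rw [h]; exact le_sup_right)))
  have hPtop : ∀ H : Subgroup G, H ≤ Subgroup.normalizer ((P : Subgroup G) : Set G) := by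
    intro H
    rw [Subgroup.normalizer_eq_top_iff.mpr hPn]; exact le_top
  have hcard : Nat.card G = Nat.card M * Nat.card (P : Subgroup G) := by
    apply Nat.dvd_antisymm
    · have h1 := card_sup_dvd (P : Subgroup G) M (hPtop M)
      rwa [hsup, Subgroup.card_top] at h1
    · exact Nat.Coprime.mul_dvd_of_dvd_of_dvd hcopPM.symm (Subgroup.card_subgroup_dvd_card M)
        (Subgroup.card_subgroup_dvd_card _)
  have key : ∀ H : Subgroup G, H ≤ M → H ≠ M →
      Group.IsNilpotent H ∧ ∀ h ∈ H, ∀ x ∈ (P : Subgroup G), h * x = x * h := by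
    intro H hHM hne
    apply centralizes hmax P hP1
      (Nat.Coprime.coprime_dvd_left (Subgroup.card_dvd_of_le hHM) hcopM)
    intro htop
    have h1 := card_sup_dvd (P : Subgroup G) H (hPtop H)
    rw [htop, Subgroup.card_top, hcard] at h1
    have h2 : Nat.card M ∣ Nat.card H := Nat.dvd_of_mul_dvd_mul_right Nat.card_pos h1
    exact hne (Subgroup.eq_of_le_of_card_ge hHM (Nat.le_of_dvd Nat.card_pos h2))
  have hcent : ∀ m ∈ M, ∀ x ∈ (P : Subgroup G), m * x = x * m := by
    intro m hm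
    have hz : Subgroup.zpowers m ≠ M := by
      intro h
      apply hMnil
      rw [← h]
      letI : CommGroup ↥(Subgroup.zpowers m) := IsCyclic.commGroup
      exact CommGroup.isNilpotent
    exact (key (Subgroup.zpowers m) (by rwa [Subgroup.zpowers_le]) hz).2 m
      (Subgroup.mem_zpowers m)
  have hPcard : Nat.card (P : Subgroup G) = p := by
    obtain ⟨x, hx⟩ := exists_prime_orderOf_dvd_card' (G := ↥(P : Subgroup G)) p hpP
    have hx0 : orderOf (x : G) = p := by rw [Subgroup.orderOf_coe]; exact hx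
    have hxM : (x : G) ∉ M := by
      intro hxM
      have := orderOf_dvd_natCard (⟨(x : G), hxM⟩ : ↥M)
      rw [Subgroup.orderOf_mk, hx0] at this
      exact hpM this
    have hzP : Subgroup.zpowers (x : G) ≤ (P : Subgroup G) := by
      rw [Subgroup.zpowers_le]; exact x.2
    have hMN : M ≤ Subgroup.normalizer ((Subgroup.zpowers (x : G) : Subgroup G) : Set G) := by
      refine le_trans ?_ (Subgroup.centralizer_le_normalizer _)
      intro m hm
      rw [Subgroup.mem_centralizer_iff]
      intro y hy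
      exact (hcent m hm y (hzP hy)).symm
    have hsup2 : M ⊔ Subgroup.zpowers (x : G) = ⊤ := hM.lt_iff.mp
      (lt_of_le_of_ne le_sup_left (fun h => hxM (by
        rw [h]
        exact (le_sup_right : Subgroup.zpowers (x : G) ≤ M ⊔ Subgroup.zpowers (x : G))
          (Subgroup.mem_zpowers _))))
    have h1 := card_sup_dvd (Subgroup.zpowers (x : G)) M hMN
    rw [hsup2, Subgroup.card_top, hcard, Nat.card_zpowers, hx0] at h1
    have h2 : Nat.card (P : Subgroup G) ∣ p := Nat.dvd_of_mul_dvd_mul_left Nat.card_pos h1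
    rcases (Nat.dvd_prime hp.out).mp h2 with h | h
    · exact absurd (Subgroup.card_eq_one.mp h) hP1
    · exact h
  have hMn : M.Normal := by
    rw [← Subgroup.normalizer_eq_top_iff, eq_top_iff, ← hsup, sup_le_iff]
    refine ⟨Subgroup.le_normalizer, ?_⟩
    refine le_trans ?_ (Subgroup.centralizer_le_normalizer _)
    intro x hx
    rw [Subgroup.mem_centralizer_iff]
    intro m hm
    exact hcent m hm x hx
  have hmnn : Cfsg.IsMinimalNonNilpotent ↥M := by
    refine ⟨hMnil, ?_⟩
    intro H' hH'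
    have hne : H'.map M.subtype ≠ M := by
      intro h
      apply hH'
      rw [eq_top_iff]
      intro y _
      have hy : (y : G) ∈ H'.map M.subtype := by rw [h]; exact y.2
      obtain ⟨y', hy', hyy⟩ := hy
      have : y' = y := Subtype.ext hyy
      rwa [this] at hy'
    have hnil := (key (H'.map M.subtype) (Subgroup.map_subtype_le _) hne).1
    haveI := hnil
    exact Group.nilpotent_of_mulEquiv
      (H'.equivMapOfInjective M.subtype M.subtype_injective).symm
  refine ⟨(P : Subgroup G), M, hPn, hMn, ?_, ?_, hPcard, hmnn, hpM⟩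
  · exact Subgroup.inf_eq_bot_of_coprime hcopPM
  · rw [sup_comm]; exact hsup

theorem converse_case3 {p : ℕ} (hp : p.Prime) (Z K : Subgroup G) (hZn : Z.Normal)
    (hKn : K.Normal) (hinf : Z ⊓ K = ⊥) (hsup : Z ⊔ K = ⊤) (hZp : Nat.card Z = p)
    (hK : Cfsg.IsMinimalNonNilpotent K) (hpK : ¬ p ∣ Nat.card K)
    (M : Subgroup G) (hM : IsCoatom M) (hpM : p ∣ Nat.card M) : Group.IsNilpotent M := by
  haveI : Fact p.Prime := ⟨hp⟩
  haveI := hZn
  haveI := hKn
  have h1 : Nat.card G ∣ p * Nat.card K := by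
    have := card_sup_dvd K Z (by rw [Subgroup.normalizer_eq_top_iff.mpr hKn]; exact le_top)
    rwa [hsup, Subgroup.card_top, hZp] at this
  -- `Z` is central
  haveI : IsCyclic ↥Z := isCyclic_of_prime_card hZp
  have hZcomm : ∀ a b : ↥Z, a * b = b * a := by
    intro a b
    obtain ⟨g, hg⟩ := IsCyclic.exists_generator (α := ↥Z)
    obtain ⟨i, rfl⟩ := Subgroup.mem_zpowers_iff.mp (hg a)
    obtain ⟨j, rfl⟩ := Subgroup.mem_zpowers_iff.mp (hg b)
    exact (Commute.zpow_zpow_self g i j)
  have hZc : Z ≤ Subgroup.center G := by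
    intro z hz
    rw [Subgroup.mem_center_iff]
    intro g
    have hg : g ∈ Z ⊔ K := by rw [hsup]; exact Subgroup.mem_top _
    obtain ⟨z', hz', k, hk, rfl⟩ := Subgroup.mem_sup_of_normal_right.mp hg
    have c1 : z' * z = z * z' := congrArg Subtype.val (hZcomm ⟨z', hz'⟩ ⟨z, hz⟩)
    have c2 : z * k = k * z :=
      Subgroup.commute_of_normal_of_disjoint Z K hZn hKn (disjoint_iff.mpr hinf) z k hz hk
    calc z' * k * z = z' * (k * z) := mul_assoc _ _ _
      _ = z' * (z * k) := by rw [c2]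
      _ = (z' * z) * k := (mul_assoc _ _ _).symm
      _ = (z * z') * k := by rw [c1]
      _ = z * (z' * k) := mul_assoc _ _ _
  -- `Z ≤ M`
  have hZM : Z ≤ M := by
    obtain ⟨y, hy⟩ := exists_prime_orderOf_dvd_card' (G := ↥M) p hpM
    have hy0 : orderOf (y : G) = p := by rw [Subgroup.orderOf_coe]; exact hy
    have hW1 := card_sup_dvd Z (Subgroup.zpowers (y : G))
      (by rw [Subgroup.normalizer_eq_top_iff.mpr hZn]; exact le_top)
    rw [Nat.card_zpowers, hy0, hZp] at hW1
    have hW2 : Nat.card ↥(Subgroup.zpowers (y : G) ⊔ Z) ∣ p * Nat.card K :=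
      (Subgroup.card_subgroup_dvd_card _).trans h1
    have hW3 : Nat.card ↥(Subgroup.zpowers (y : G) ⊔ Z) ∣ p := by
      have := Nat.dvd_gcd hW1 hW2
      rw [Nat.gcd_mul_left,
        Nat.Coprime.gcd_eq_one ((Nat.Prime.coprime_iff_not_dvd hp).mpr hpK), mul_one] at this
      exact this
    have hW4 : Z = Subgroup.zpowers (y : G) ⊔ Z :=
      Subgroup.eq_of_le_of_card_ge le_sup_right (by rw [hZp]; exact Nat.le_of_dvd hp.pos hW3)
    have hyZ : Subgroup.zpowers (y : G) ≤ Z := by
      rw [hW4]; exact le_sup_left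
    have hzy : Subgroup.zpowers (y : G) = Z :=
      Subgroup.eq_of_le_of_card_ge hyZ (by rw [Nat.card_zpowers, hy0, hZp])
    rw [← hzy, Subgroup.zpowers_le]
    exact y.2
  have hKM : ¬ K ≤ M := by
    intro h
    apply hM.1
    rw [eq_top_iff, ← hsup]
    exact sup_le hZM h
  have hMKnil : Group.IsNilpotent ↥(M ⊓ K) := by
    have hne : (M ⊓ K).subgroupOf K ≠ ⊤ := by
      rw [Ne, Subgroup.subgroupOf_eq_top]
      intro h
      exact hKM (h.trans inf_le_left)
    haveI := hK.2 _ hne
    exact Group.nilpotent_of_mulEquiv (Subgroup.subgroupOfEquivOfLe inf_le_right)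
  haveI := hMKnil
  have himg : Group.IsNilpotent ↥((M ⊓ K).map (QuotientGroup.mk' Z)) :=
    Group.nilpotent_of_surjective _ ((QuotientGroup.mk' Z).subgroupMap_surjective (M ⊓ K))
  have hmap : M.map (QuotientGroup.mk' Z) = (M ⊓ K).map (QuotientGroup.mk' Z) := by
    apply le_antisymm
    · rintro _ ⟨m, hm, rfl⟩
      have hmG : m ∈ Z ⊔ K := by rw [hsup]; exact Subgroup.mem_top _
      obtain ⟨z, hz, k, hk, rfl⟩ := Subgroup.mem_sup_of_normal_right.mp hmG
      refine ⟨k, ⟨?_, hk⟩, ?_⟩
      · have : k = z⁻¹ * (z * k) := by group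
        rw [this]; exact M.mul_mem (M.inv_mem (hZM hz)) hm
      · rw [QuotientGroup.mk'_apply, QuotientGroup.mk'_apply, QuotientGroup.eq]
        have := hZn.conj_mem z hz k⁻¹
        simpa [mul_assoc] using this
    · exact Subgroup.map_mono inf_le_left
  rw [← hmap] at himg
  haveI := himg
  apply Subgroup.isNilpotent_of_ker_le_center ((QuotientGroup.mk' Z).subgroupMap M)
  intro x hx
  rw [MonoidHom.mem_ker] at hx
  have hx' : (QuotientGroup.mk' Z) (x : G) = 1 := congrArg Subtype.val hx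
  have hxZ : (x : G) ∈ Z := (QuotientGroup.eq_one_iff _).mp hx'
  rw [Subgroup.mem_center_iff]
  intro m
  apply Subtype.ext
  have := Subgroup.mem_center_iff.mp (hZc hxZ) (m : G)
  simpa using this

end

/-- Let G be a finite group and p a prime dividing its order. Every maximal subgroup of G of order divisible by p is nilpotent if and only if G is nilpotent, or G is a minimal non-nilpotent group, or G is the internal direct product of a normal subgroup of order p and a normal minimal non-nilpotent subgroup of order prime to p. -/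
theorem result {G : Type*} [Group G] [Finite G] (p : ℕ) (hp : p.Prime) (hpG : p ∣ Nat.card G) :
    (∀ M : Subgroup G, IsCoatom M → p ∣ Nat.card M → Group.IsNilpotent M) ↔
      (Group.IsNilpotent G ∨ Cfsg.IsMinimalNonNilpotent G ∨
        ∃ Z K : Subgroup G, Z.Normal ∧ K.Normal ∧ Z ⊓ K = ⊥ ∧ Z ⊔ K = ⊤ ∧ Nat.card Z = p ∧
          Cfsg.IsMinimalNonNilpotent K ∧ ¬ p ∣ Nat.card K) := by
  haveI : Fact p.Prime := ⟨hp⟩
  constructor
  · intro hmax
    by_cases hnil : Group.IsNilpotent G
    · exact Or.inl hnil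
    by_cases hmnn : ∀ H : Subgroup G, H ≠ ⊤ → Group.IsNilpotent H
    · exact Or.inr (Or.inl ⟨hnil, hmnn⟩)
    right; right
    push_neg at hmnn
    obtain ⟨H, hH, hHnil⟩ := hmnn
    obtain ⟨M, hM, hHM⟩ := exists_coatom_ge H hH
    have hMnil : ¬ Group.IsNilpotent M := fun h => hHnil (nil_of_le h hHM)
    have hpM : ¬ p ∣ Nat.card M := fun h => hMnil (hmax M hM h)
    obtain ⟨P⟩ : Nonempty (Sylow p G) := inferInstance
    have hP1 : (P : Subgroup G) ≠ ⊥ := by
      intro h
      have := P.dvd_card_of_dvd_card hpG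
      rw [h, Subgroup.card_bot] at this
      exact hp.one_lt.ne' (Nat.dvd_one.mp this)
    have hPn := P_normal hmax P hP1 M hM hMnil hpM
    exact step_B hmax P hPn hP1 M hM hMnil hpM
  · rintro (hnil | hmnn | ⟨Z, K, hZn, hKn, hinf, hsup, hZp, hK, hpK⟩)
    · intro M _ _
      haveI := hnil
      infer_instance
    · intro M hM _
      exact hmnn.2 M hM.1
    · intro M hM hpM
      exact converse_case3 hp Z K hZn hKn hinf hsup hZp hK hpK M hM hpM

end Cfsg.Agent.S4242
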