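import Mathlib
import Cfsg.Statements.S4249
import Cfsg.Agent.Lib.Helper13.Hughes

set_option autoImplicit false
open Cfsg

namespace Cfsg.Agent.S4249

theorem hughes_normal {G : Type*} [Group G] (p : ℕ) :
    (Subgroup.closure {g : G | g ^ p ≠ 1}).Normal := by
  constructor
  intro y hy g
  have h1 : (Subgroup.closure {g : G | g ^ p ≠ 1}).map (MulAut.conj g).toMonoidHom ≤
      Subgroup.closure {g : G | g ^ p ≠ 1} := by
    rw [MonoidHom.map_closure]
    apply Subgroup.closure_mono
    rintro _ ⟨s, hs, rfl⟩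
    show (g * s * g⁻¹) ^ p ≠ 1
    rw [conj_pow]
    intro h
    apply hs
    have h2 : s ^ p = g⁻¹ * (g * s ^ p * g⁻¹) * g := by group
    rw [h2, h]
    group
  exact h1 (Subgroup.mem_map_of_mem _ hy)

theorem main {G : Type*} [Group G] [Finite G] (p : ℕ) (hp : p.Prime) (hG : ¬ IsPGroup p G)
    (hH : Subgroup.closure {g : G | g ^ p ≠ 1} ≠ ⊤) :
    Group.IsNilpotent (Subgroup.closure {g : G | g ^ p ≠ 1}) ∧
      (Subgroup.closure {g : G | g ^ p ≠ 1}).index = p := by
  have hpf : Fact p.Prime := ⟨hp⟩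
  have hHn := hughes_normal (G := G) p
  have hel : ∀ g : G, g ∉ Subgroup.closure {g : G | g ^ p ≠ 1} → g ^ p = 1 := by
    intro g hg
    by_contra h
    exact hg (Subgroup.subset_closure h)
  have hidx := Cfsg.Agent.Lib.Helper13.hughes_index p hG _ hel hH
  exact ⟨Cfsg.Agent.Lib.Helper13.kegel_aux p _ G rfl _ hHn hidx hel, hidx⟩

end Cfsg.Agent.S4249

namespace Cfsg.Agent.S4249

/-- Let G be a finite group and p a prime such that G is not a p-group, and suppose the Hughes subgroup H_p(G), generated by all elements g with g^p ≠ 1, is a proper subgroup. Then H_p(G) is nilpotent and has index p in G. -/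
theorem result {G : Type*} [Group G] [Finite G] (p : ℕ) (hp : p.Prime) (hG : ¬ IsPGroup p G)
    (hH : Subgroup.closure {g : G | g ^ p ≠ 1} ≠ ⊤) :
    Group.IsNilpotent (Subgroup.closure {g : G | g ^ p ≠ 1}) ∧ (Subgroup.closure {g : G | g ^ p ≠ 1}).index = p := by
  exact main p hp hG hH

end Cfsg.Agent.S4249
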