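import Cfsg.Statements.S4250
import Cfsg.Agent.Lib.Helper24.FocalTame

set_option autoImplicit false
open Cfsg
open Cfsg.Agent.Lib.Helper24

namespace Cfsg.Agent.S4250

/-- Let P be a Sylow p-subgroup of a finite group G. Call an intersection H = P ∩ Q with a Sylow p-subgroup Q tame when N_P(H) and N_Q(H) are Sylow p-subgroups of N_G(H). Then P ∩ G′ is generated by [P, N_G(P)] together with the commutator subgroups [P ∩ Q, ⟨x⟩] for all tame intersections P ∩ Q and all p-elements x of N_G(P ∩ Q). -/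
theorem result {G : Type*} [Group G] [Finite G] (p : ℕ) [Fact p.Prime] (P : Sylow p G) :
    (P : Subgroup G) ⊓ commutator G =
      ⁅(P : Subgroup G), Subgroup.normalizer ((P : Subgroup G) : Set G)⁆ ⊔
        ⨆ (Q : Sylow p G) (_ : (¬ p ∣ ((P : Subgroup G) ⊓ Subgroup.normalizer (((P : Subgroup G) ⊓ (Q : Subgroup G) : Subgroup G) : Set G)).relIndex (Subgroup.normalizer (((P : Subgroup G) ⊓ (Q : Subgroup G) : Subgroup G) : Set G)) ∧ ¬ p ∣ ((Q : Subgroup G) ⊓ Subgroup.normalizer (((P : Subgroup G) ⊓ (Q : Subgroup G) : Subgroup G) : Set G)).relIndex (Subgroup.normalizer (((P : Subgroup G) ⊓ (Q : Subgroup G) : Subgroup G) : Set G))))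
          (x : G) (_ : x ∈ Subgroup.normalizer (((P : Subgroup G) ⊓ (Q : Subgroup G) : Subgroup G) : Set G) ∧ ∃ k : ℕ, orderOf x = p ^ k),
          ⁅(P : Subgroup G) ⊓ (Q : Subgroup G), Subgroup.zpowers x⁆ := by
  obtain ⟨R, hR⟩ : ∃ R : Subgroup G, R =
      ⁅(P : Subgroup G), Subgroup.normalizer ((P : Subgroup G) : Set G)⁆ ⊔
        ⨆ (Q : Sylow p G) (_ : (¬ p ∣ ((P : Subgroup G) ⊓ Subgroup.normalizer (((P : Subgroup G) ⊓ (Q : Subgroup G) : Subgroup G) : Set G)).relIndex (Subgroup.normalizer (((P : Subgroup G) ⊓ (Q : Subgroup G) : Subgroup G) : Set G)) ∧ ¬ p ∣ ((Q : Subgroup G) ⊓ Subgroup.normalizer (((P : Subgroup G) ⊓ (Q : Subgroup G) : Subgroup G) : Set G)).relIndex (Subgroup.normalizer (((P : Subgroup G) ⊓ (Q : Subgroup G) : Subgroup G) : Set G))))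
          (x : G) (_ : x ∈ Subgroup.normalizer (((P : Subgroup G) ⊓ (Q : Subgroup G) : Subgroup G) : Set G) ∧ ∃ k : ℕ, orderOf x = p ^ k),
          ⁅(P : Subgroup G) ⊓ (Q : Subgroup G), Subgroup.zpowers x⁆ := ⟨_, rfl⟩
  rw [← hR]
  have R1 : ∀ y ∈ (P : Subgroup G), ∀ n ∈ Subgroup.normalizer ((P : Subgroup G) : Set G),
      y⁻¹ * n⁻¹ * y * n ∈ R := by
    intro y hy n hn
    rw [hR]
    apply Subgroup.mem_sup_left
    have := Subgroup.commutator_mem_commutator (inv_mem hy) (inv_mem hn)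
    rwa [commutatorElement_def, inv_inv, inv_inv] at this
  have R2 : ∀ Q : Sylow p G, Cfsg.Agent.S0116.Tame P Q →
      ∀ x ∈ Subgroup.normalizer ((((P : Subgroup G) ⊓ (Q : Subgroup G)) : Subgroup G) : Set G),
      (∃ k : ℕ, orderOf x = p ^ k) → ∀ y ∈ (P : Subgroup G) ⊓ (Q : Subgroup G),
      y⁻¹ * x⁻¹ * y * x ∈ R := by
    intro Q hT x hx hxp y hy
    rw [hR]
    apply Subgroup.mem_sup_right
    have h1 : y⁻¹ * x⁻¹ * y * x ∈ ⁅(P : Subgroup G) ⊓ (Q : Subgroup G), Subgroup.zpowers x⁆ := by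
      have := Subgroup.commutator_mem_commutator (inv_mem hy)
        (inv_mem (Subgroup.mem_zpowers x))
      rwa [commutatorElement_def, inv_inv, inv_inv] at this
    refine Subgroup.mem_iSup_of_mem Q ?_
    refine Subgroup.mem_iSup_of_mem hT ?_
    refine Subgroup.mem_iSup_of_mem x ?_
    exact Subgroup.mem_iSup_of_mem ⟨hx, hxp⟩ h1
  have main := focal_tame_main P R R1 R2
  apply le_antisymm
  · rw [inf_comm, Subgroup.commutator_inf_eq_focalSubgroup P, Subgroup.focalSubgroup_def,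
      Subgroup.closure_le]
    rintro _ ⟨hgP, x, hxP, u, rfl⟩
    rw [commutatorElement_def] at hgP ⊢
    have huP : u * x⁻¹ * u⁻¹ ∈ (P : Subgroup G) := by
      have e : u * x⁻¹ * u⁻¹ = x⁻¹ * (x * u * x⁻¹ * u⁻¹) := by group
      rw [e]; exact mul_mem (inv_mem hxP) hgP
    have hcs : Cfsg.Agent.S0116.cs u⁻¹ ((Subgroup.zpowers x⁻¹ : Subgroup G) : Set G) ⊆
        ((P : Subgroup G) : Set G) := by
      intro z hz
      rw [Cfsg.Agent.S0116.mem_cs] at hz
      obtain ⟨i, hi⟩ := Subgroup.mem_zpowers_iff.mp hz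
      have e : z = (u * x⁻¹ * u⁻¹) ^ i := by
        have h1 : (u * x⁻¹ * u⁻¹) ^ i = u * x⁻¹ ^ i * u⁻¹ := by
          rw [conj_zpow]
        rw [h1, hi]; group
      rw [e]
      exact zpow_mem huP i
    have hA : Subgroup.zpowers x⁻¹ ≤ (P : Subgroup G) :=
      Subgroup.zpowers_le.mpr (inv_mem hxP)
    have := main _ (Subgroup.zpowers x⁻¹) hA rfl u⁻¹ hcs x⁻¹ (Subgroup.mem_zpowers _)
    have e : x⁻¹⁻¹ * (u⁻¹⁻¹ * x⁻¹ * u⁻¹) = x * u * x⁻¹ * u⁻¹ := by group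
    rw [e] at this
    exact this
  · rw [hR]
    have hcomm : ∀ H K : Subgroup G, ⁅H, K⁆ ≤ commutator G := by
      intro H K
      rw [commutator_def]; exact Subgroup.commutator_mono le_top le_top
    refine sup_le (le_inf ?_ (hcomm _ _)) ?_
    · rw [Subgroup.commutator_le]
      intro g₁ h₁ g₂ h₂
      rw [commutatorElement_def]
      have h3 : g₂ * g₁⁻¹ * g₂⁻¹ ∈ (P : Subgroup G) :=
        (Subgroup.mem_normalizer_iff.mp h₂ g₁⁻¹).mp (inv_mem h₁)
      have e : g₁ * g₂ * g₁⁻¹ * g₂⁻¹ = g₁ * (g₂ * g₁⁻¹ * g₂⁻¹) := by group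
      rw [e]; exact mul_mem h₁ h3
    · refine iSup_le fun Q => iSup_le fun hT => iSup_le fun x => iSup_le fun hx => ?_
      refine le_inf ?_ (hcomm _ _)
      rw [Subgroup.commutator_le]
      intro g₁ h₁ g₂ h₂
      rw [commutatorElement_def]
      have hg₂ : g₂ ∈ Subgroup.normalizer ((((P : Subgroup G) ⊓ (Q : Subgroup G)) : Subgroup G) : Set G) := by
        obtain ⟨i, rfl⟩ := Subgroup.mem_zpowers_iff.mp h₂
        exact zpow_mem hx.1 i
      have h3 : g₂ * g₁⁻¹ * g₂⁻¹ ∈ (P : Subgroup G) ⊓ (Q : Subgroup G) :=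
        (Subgroup.mem_normalizer_iff.mp hg₂ g₁⁻¹).mp (inv_mem h₁)
      have e : g₁ * g₂ * g₁⁻¹ * g₂⁻¹ = g₁ * (g₂ * g₁⁻¹ * g₂⁻¹) := by group
      rw [e]; exact (Subgroup.mem_inf.mp (mul_mem h₁ h3)).1

end Cfsg.Agent.S4250
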