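import Cfsg.Statements.S4251
import Cfsg.Agent.Lib.Helper11.AlperinTame

set_option autoImplicit false
open Cfsg

namespace Cfsg.Agent.S4251

open Subgroup Cfsg.Agent.Lib.Helper11

theorem result {G : Type*} [Group G] [Finite G] (p : ℕ) [Fact p.Prime] (P : Sylow p G)
    (h : ∀ Q : Sylow p G, (P : Subgroup G) ⊓ (Q : Subgroup G) ≠ ⊥ → (¬ p ∣ ((P : Subgroup G) ⊓ Subgroup.normalizer (((P : Subgroup G) ⊓ (Q : Subgroup G) : Subgroup G) : Set G)).relIndex (Subgroup.normalizer (((P : Subgroup G) ⊓ (Q : Subgroup G) : Subgroup G) : Set G)) ∧ ¬ p ∣ ((Q : Subgroup G) ⊓ Subgroup.normalizer (((P : Subgroup G) ⊓ (Q : Subgroup G) : Subgroup G) : Set G)).relIndex (Subgroup.normalizer (((P : Subgroup G) ⊓ (Q : Subgroup G) : Subgroup G) : Set G))) →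
      IsPGroup p (Subgroup.normalizer (((P : Subgroup G) ⊓ (Q : Subgroup G) : Subgroup G) : Set G) ⧸
        (Subgroup.centralizer (((P : Subgroup G) ⊓ (Q : Subgroup G) : Subgroup G) : Set G)).subgroupOf
          (Subgroup.normalizer (((P : Subgroup G) ⊓ (Q : Subgroup G) : Subgroup G) : Set G)))) :
    Cfsg.HasNormalPComplement p G := by
  have hT : TameFactor P := by
    intro Q hne h1 h2 n hn
    have hq := h Q hne ⟨h1, h2⟩
    obtain ⟨u, hu, c, hc, hnuc⟩ := exists_mul_of_isPGroup_quotient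
      (normalizer (((P : Subgroup G) ⊓ (Q : Subgroup G) : Subgroup G) : Set G))
      (centralizer (((P : Subgroup G) ⊓ (Q : Subgroup G) : Subgroup G) : Set G))
      ((P : Subgroup G) ⊓ normalizer (((P : Subgroup G) ⊓ (Q : Subgroup G) : Subgroup G) : Set G))
      (centralizer_le_normalizer _) inf_le_right hq h1 n hn
    exact ⟨u, hu.1, c, hc, hnuc⟩
  obtain ⟨K, hKn, hK⟩ := exists_normal_complement_of_tame P hT
  exact ⟨P, K, hKn, hK⟩

end Cfsg.Agent.S4251
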