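import Cfsg.Statements.S4261
import Cfsg.Agent.S0048
import Mathlib

set_option autoImplicit false
open Cfsg

namespace Cfsg.Agent.S4261

theorem result {G : Type*} [Group G] [Finite G] (hG : Group.IsSolvable G) (M : Subgroup G) (hM : IsCoatom M)
    (hexp : ∀ x : G, x ^ M.index ∈ M) : M.Normal := by
  haveI := hG
  obtain ⟨p, k, hp, hk, hpk⟩ := (isPrimePow_nat_iff _).mp (Cfsg.Agent.S0048.result M hM)
  haveI : Fact p.Prime := ⟨hp⟩
  set K : Subgroup G := Subgroup.closure (Set.range (fun x : G => x ^ M.index)) with hK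
  have hKM : K ≤ M := by
    rw [hK, Subgroup.closure_le]
    rintro _ ⟨x, rfl⟩
    exact hexp x
  haveI hKn : K.Normal := by
    constructor
    intro n hn g
    rw [hK] at hn
    induction hn using Subgroup.closure_induction with
    | mem y hy =>
      obtain ⟨x, rfl⟩ := hy
      apply Subgroup.subset_closure
      refine ⟨g * x * g⁻¹, ?_⟩
      show (g * x * g⁻¹) ^ M.index = g * x ^ M.index * g⁻¹
      exact conj_pow
    | one => simp
    | mul a b _ _ ha hb =>
      have : g * (a * b) * g⁻¹ = (g * a * g⁻¹) * (g * b * g⁻¹) := by group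
      rw [this]; exact Subgroup.mul_mem _ ha hb
    | inv a _ ha =>
      have : g * a⁻¹ * g⁻¹ = (g * a * g⁻¹)⁻¹ := by group
      rw [this]; exact Subgroup.inv_mem _ ha
  have hQ : IsPGroup p (G ⧸ K) := by
    intro q
    obtain ⟨x, rfl⟩ := QuotientGroup.mk_surjective q
    refine ⟨k, ?_⟩
    rw [← QuotientGroup.mk_pow, hpk]
    apply (QuotientGroup.eq_one_iff _).mpr
    exact Subgroup.subset_closure ⟨x, rfl⟩
  haveI : Group.IsNilpotent (G ⧸ K) := hQ.isNilpotent
  have hnc : NormalizerCondition (G ⧸ K) := Group.normalizerCondition_of_isNilpotent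
  have hsurj : Function.Surjective (QuotientGroup.mk' K) := QuotientGroup.mk'_surjective K
  set Mbar := M.map (QuotientGroup.mk' K) with hMbar
  have hcomap : Mbar.comap (QuotientGroup.mk' K) = M := by
    rw [hMbar, Subgroup.comap_map_eq, QuotientGroup.ker_mk', sup_of_le_left hKM]
  have hMbar_ne : Mbar < ⊤ := by
    rw [lt_top_iff_ne_top]
    intro h
    apply hM.1
    rw [← hcomap, h, Subgroup.comap_top]
  have hlt := hnc Mbar hMbar_ne
  obtain ⟨q, hqN, hqM⟩ := SetLike.exists_of_lt hlt
  obtain ⟨g, rfl⟩ := hsurj q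
  have hgN : g ∈ Subgroup.normalizer (M : Set G) := by
    have h1 : g ∈ (Subgroup.normalizer (Mbar : Set (G ⧸ K))).comap (QuotientGroup.mk' K) := hqN
    rw [Subgroup.comap_normalizer_eq_of_surjective _ hsurj, hcomap] at h1
    exact h1
  have hgM : g ∉ M := by
    intro h
    exact hqM ⟨g, h, rfl⟩
  have hlt2 : M < Subgroup.normalizer (M : Set G) :=
    lt_of_le_of_ne Subgroup.le_normalizer (fun h => hgM (by rw [h]; exact hgN))
  exact Subgroup.normalizer_eq_top_iff.mp (hM.2 _ hlt2)

end Cfsg.Agent.S4261
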