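import Cfsg.Statements.S4269
import Mathlib
import Cfsg.Agent.S0566

set_option autoImplicit false
open Cfsg

namespace Cfsg.Agent.S4269

open scoped commutatorElement

variable {G : Type*} [Group G]

theorem mem_cjm {g x : G} {H : Subgroup G} :
    x ∈ H.map (MulAut.conj g).toMonoidHom ↔ g⁻¹ * x * g ∈ H := by
  rw [Subgroup.mem_map_equiv]
  simp [MulAut.conj_symm_apply]

theorem cjm_self_of_mem {h : G} {H : Subgroup G} (hh : h ∈ H) :
    H.map (MulAut.conj h).toMonoidHom = H := by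
  ext y
  rw [mem_cjm]
  constructor
  · intro h1
    have := H.mul_mem (H.mul_mem hh h1) (H.inv_mem hh)
    have e2 : h * (h⁻¹ * y * h) * h⁻¹ = y := by group
    rwa [e2] at this
  · intro h1
    exact H.mul_mem (H.mul_mem (H.inv_mem hh) h1) hh

theorem cjm_mul_of_mem {a h : G} {H : Subgroup G} (hh : h ∈ H) :
    H.map (MulAut.conj (a * h)).toMonoidHom = H.map (MulAut.conj a).toMonoidHom := by
  ext y
  rw [mem_cjm, mem_cjm]
  have e : (a * h)⁻¹ * y * (a * h) = h⁻¹ * (a⁻¹ * y * a) * h := by group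
  rw [e]
  constructor
  · intro h1
    have := H.mul_mem (H.mul_mem hh h1) (H.inv_mem hh)
    have e2 : h * (h⁻¹ * (a⁻¹ * y * a) * h) * h⁻¹ = a⁻¹ * y * a := by group
    rwa [e2] at this
  · intro h1
    exact H.mul_mem (H.mul_mem (H.inv_mem hh) h1) hh

theorem cjm_mul_of_mem_normalizer {a n : G} {H : Subgroup G}
    (hn : n ∈ Subgroup.normalizer (H : Set G)) :
    H.map (MulAut.conj (a * n)).toMonoidHom = H.map (MulAut.conj a).toMonoidHom := by
  ext y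
  rw [mem_cjm, mem_cjm]
  have e : (a * n)⁻¹ * y * (a * n) = n⁻¹ * (a⁻¹ * y * a) * n := by group
  rw [e]
  have h1 := (Subgroup.mem_normalizer_iff.mp hn) (n⁻¹ * (a⁻¹ * y * a) * n)
  have e2 : n * (n⁻¹ * (a⁻¹ * y * a) * n) * n⁻¹ = a⁻¹ * y * a := by group
  rw [e2] at h1
  exact h1

theorem forward (H : Subgroup G) (hpro : IsPronormal H)
    (U : Subgroup G) (hinv : ∀ h ∈ H, U.map (MulAut.conj h).toMonoidHom = U) :
    U = (U ⊓ Subgroup.normalizer (H : Set G)) ⊔ ⁅H, U⁆ := by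
  have hinv' : ∀ h ∈ H, ∀ u ∈ U, h * u * h⁻¹ ∈ U := by
    intro h hh u hu
    have h1 : h * u * h⁻¹ ∈ U.map (MulAut.conj h).toMonoidHom := by
      rw [mem_cjm]
      have e : h⁻¹ * (h * u * h⁻¹) * h = u := by group
      rw [e]; exact hu
    rwa [hinv h hh] at h1
  have hWU : ⁅H, U⁆ ≤ U := by
    rw [Subgroup.commutator_le]
    intro h hh u hu
    rw [commutatorElement_def]
    exact U.mul_mem (hinv' h hh u hu) (U.inv_mem hu)
  have hW : ∀ h ∈ H, ∀ w ∈ ⁅H, U⁆, h⁻¹ * w * h ∈ ⁅H, U⁆ := by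
    intro h hh w hw
    have h1 : (⁅H, U⁆).map (MulAut.conj h⁻¹).toMonoidHom = ⁅H, U⁆ := by
      rw [Subgroup.map_commutator, hinv h⁻¹ (H.inv_mem hh), cjm_self_of_mem (H.inv_mem hh)]
    rw [← h1, mem_cjm]
    have e : h⁻¹⁻¹ * (h⁻¹ * w * h) * h⁻¹ = w := by group
    rw [e]; exact hw
  apply le_antisymm
  · intro u hu
    obtain ⟨x, hx, hxe⟩ := hpro u
    have hL : H ⊔ H.map (MulAut.conj u).toMonoidHom ≤ ⁅H, U⁆ ⊔ H := by
      apply sup_le le_sup_right
      intro y hy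
      rw [mem_cjm] at hy
      have e : y = (⁅u⁻¹ * y * u, u⁆)⁻¹ * (u⁻¹ * y * u) := by
        rw [commutatorElement_def]; group
      rw [e]
      exact Subgroup.mul_mem _ (Subgroup.mem_sup_left (Subgroup.inv_mem _
        (Subgroup.commutator_mem_commutator hy hu))) (Subgroup.mem_sup_right hy)
    have perm : Cfsg.Agent.S0566.Perm ⁅H, U⁆ H := by
      intro w hw h hh
      exact ⟨h, hh, h⁻¹ * w * h, hW h hh w hw, by group⟩
    obtain ⟨w, hw, h, hh, rfl⟩ := Cfsg.Agent.S0566.sup_mem_of_perm perm x (hL hx)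
    rw [cjm_mul_of_mem hh] at hxe
    have hn : w⁻¹ * u ∈ Subgroup.normalizer (H : Set G) := by
      rw [Subgroup.mem_normalizer_iff]
      intro y
      have h2 : (w⁻¹ * u) * y * (w⁻¹ * u)⁻¹ ∈ H ↔
          u * y * u⁻¹ ∈ H.map (MulAut.conj w).toMonoidHom := by
        rw [mem_cjm]
        have e : w⁻¹ * u * y * (w⁻¹ * u)⁻¹ = w⁻¹ * (u * y * u⁻¹) * w := by group
        rw [e]
      have h3 : u * y * u⁻¹ ∈ H.map (MulAut.conj u).toMonoidHom ↔ y ∈ H := by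
        rw [mem_cjm]
        have e : u⁻¹ * (u * y * u⁻¹) * u = y := by group
        rw [e]
      rw [← hxe] at h2
      exact (h3.symm.trans h2.symm)
    have hnU : w⁻¹ * u ∈ U := U.mul_mem (U.inv_mem (hWU hw)) hu
    have e : u = w * (w⁻¹ * u) := by group
    rw [e, sup_comm]
    exact Subgroup.mul_mem _ (Subgroup.mem_sup_left hw)
      (Subgroup.mem_sup_right (Subgroup.mem_inf.mpr ⟨hnU, hn⟩))
  · exact sup_le inf_le_left hWU

theorem backward (V : Subgroup G) [V.Normal]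
    (hV : ∀ a ∈ V, ∀ b ∈ V, a * b = b * a) (H : Subgroup G) (hHV : H ⊔ V = ⊤)
    (hU : ∀ U : Subgroup G, U ≤ V → (∀ h ∈ H, U.map (MulAut.conj h).toMonoidHom = U) →
      U = (U ⊓ Subgroup.normalizer (H : Set G)) ⊔ ⁅H, U⁆) : IsPronormal H := by
  intro g
  have hg : g ∈ V ⊔ H := by rw [sup_comm, hHV]; trivial
  have hVn : ∀ v ∈ V, ∀ k : G, k * v * k⁻¹ ∈ V := fun v hv k =>
    (inferInstance : V.Normal).conj_mem v hv k
  have permVH : Cfsg.Agent.S0566.Perm V H := by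
    intro v hv h hh
    refine ⟨h, hh, h⁻¹ * v * h, ?_, by group⟩
    have := hVn v hv h⁻¹
    simpa using this
  obtain ⟨v, hv, h, hh, rfl⟩ := Cfsg.Agent.S0566.sup_mem_of_perm permVH g hg
  rw [cjm_mul_of_mem hh]
  obtain ⟨L, hL⟩ : ∃ L : Subgroup G, L = H ⊔ H.map (MulAut.conj v).toMonoidHom := ⟨_, rfl⟩
  rw [← hL]
  have hHL : H ≤ L := by rw [hL]; exact le_sup_left
  have hcV : ∀ k : G, ∀ u ∈ V, ⁅k, u⁆ ∈ V := by
    intro k u hu
    rw [commutatorElement_def]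
    exact V.mul_mem (hVn u hu k) (V.inv_mem hu)
  let U₀ : Subgroup G :=
    { carrier := {u | u ∈ V ∧ ∀ k ∈ H, ⁅k, u⁆ ∈ L}
      one_mem' := ⟨V.one_mem, fun k _ => by rw [commutatorElement_one_right]; exact L.one_mem⟩
      mul_mem' := by
        rintro a b ⟨haV, ha⟩ ⟨hbV, hb⟩
        refine ⟨V.mul_mem haV hbV, fun k hk => ?_⟩
        have hc := hV a haV ⁅k, b⁆ (hcV k b hbV)
        have e : ⁅k, a * b⁆ = ⁅k, a⁆ * (a * ⁅k, b⁆ * a⁻¹) := by
          simp only [commutatorElement_def]; group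
        have e2 : a * ⁅k, b⁆ * a⁻¹ = ⁅k, b⁆ := by rw [hc]; group
        rw [e, e2]
        exact L.mul_mem (ha k hk) (hb k hk)
      inv_mem' := by
        rintro a ⟨haV, ha⟩
        refine ⟨V.inv_mem haV, fun k hk => ?_⟩
        have hc := hV a⁻¹ (V.inv_mem haV) (⁅k, a⁆)⁻¹ (V.inv_mem (hcV k a haV))
        have e : ⁅k, a⁻¹⁆ = a⁻¹ * (⁅k, a⁆)⁻¹ * a := by
          simp only [commutatorElement_def]; group
        have e2 : a⁻¹ * (⁅k, a⁆)⁻¹ * a = (⁅k, a⁆)⁻¹ := by rw [hc]; group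
        rw [e, e2]
        exact L.inv_mem (ha k hk) }
  have hU₀V : U₀ ≤ V := fun u hu => hu.1
  have hclos : ∀ h' ∈ H, ∀ y ∈ U₀, h'⁻¹ * y * h' ∈ U₀ := by
    intro h' hh' y hy
    refine ⟨?_, fun k hk => ?_⟩
    · have := hVn y hy.1 h'⁻¹
      simpa using this
    · have e : ⁅k, h'⁻¹ * y * h'⁆ = h'⁻¹ * ⁅h' * k * h'⁻¹, y⁆ * h' := by
        simp only [commutatorElement_def]; group
      rw [e]
      have hk' : h' * k * h'⁻¹ ∈ H := H.mul_mem (H.mul_mem hh' hk) (H.inv_mem hh')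
      exact L.mul_mem (L.mul_mem (L.inv_mem (hHL hh')) (hy.2 _ hk')) (hHL hh')
  have hU₀inv : ∀ h' ∈ H, U₀.map (MulAut.conj h').toMonoidHom = U₀ := by
    intro h' hh'
    ext y
    rw [mem_cjm]
    constructor
    · intro h1
      have := hclos h'⁻¹ (H.inv_mem hh') _ h1
      have e : h'⁻¹⁻¹ * (h'⁻¹ * y * h') * h'⁻¹ = y := by group
      rwa [e] at this
    · intro h1
      exact hclos h' hh' y h1
  have hvU₀ : v ∈ U₀ := by
    refine ⟨hv, fun k hk => ?_⟩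
    have e : ⁅k, v⁆ = k * (v * k⁻¹ * v⁻¹) := by
      simp only [commutatorElement_def]; group
    rw [e]
    apply L.mul_mem (hHL hk)
    rw [hL]
    apply Subgroup.mem_sup_right
    rw [mem_cjm]
    have e3 : v⁻¹ * (v * k⁻¹ * v⁻¹) * v = k⁻¹ := by group
    rw [e3]; exact H.inv_mem hk
  have hWL : ⁅H, U₀⁆ ≤ L := by
    rw [Subgroup.commutator_le]
    intro k hk u hu
    exact hu.2 k hk
  have hWV : ⁅H, U₀⁆ ≤ V := by
    rw [Subgroup.commutator_le]
    intro k _ u hu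
    exact hcV k u hu.1
  have key := hU U₀ hU₀V hU₀inv
  have hv2 : v ∈ ⁅H, U₀⁆ ⊔ (U₀ ⊓ Subgroup.normalizer (H : Set G)) := by
    rw [sup_comm, ← key]; exact hvU₀
  have perm2 : Cfsg.Agent.S0566.Perm ⁅H, U₀⁆ (U₀ ⊓ Subgroup.normalizer (H : Set G)) := by
    intro w hw n hn
    exact ⟨n, hn, w, hw, hV w (hWV hw) n (hU₀V (Subgroup.mem_inf.mp hn).1)⟩
  obtain ⟨w, hw, n, hn, rfl⟩ := Cfsg.Agent.S0566.sup_mem_of_perm perm2 v hv2
  refine ⟨w, hWL hw, ?_⟩
  exact cjm_mul_of_mem_normalizer (Subgroup.mem_inf.mp hn).2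

theorem result {G : Type*} [Group G] [Finite G]
    (V : Subgroup G) [V.Normal] (hV : IsMulCommutative ↥V) (H : Subgroup G) (hHV : H ⊔ V = ⊤) :
    Cfsg.IsPronormal H ↔
      ∀ U : Subgroup G, U ≤ V → (∀ h ∈ H, U.map (MulAut.conj h).toMonoidHom = U) →
        U = (U ⊓ Subgroup.normalizer (H : Set G)) ⊔ ⁅H, U⁆ := by
  constructor
  · intro hpro U _ hinv
    exact forward H hpro U hinv
  · intro hU
    apply backward V _ H hHV hU
    intro a ha b hb
    have := hV.is_comm.comm (⟨a, ha⟩ : V) ⟨b, hb⟩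
    exact congrArg Subtype.val this

end Cfsg.Agent.S4269
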