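import Cfsg.Statements.S4275
import Mathlib

set_option autoImplicit false
open Cfsg

namespace Cfsg.Agent.S4275

theorem result {Ω : Type*} [Fintype Ω] (G : Subgroup (Equiv.Perm Ω)) (htr : MulAction.IsPretransitive G Ω) (o : Ω) (α : G ≃* G) : (∃ σ : Equiv.Perm Ω, σ ∈ Subgroup.normalizer (G : Set (Equiv.Perm Ω)) ∧ ∀ g : G, ((α g : G) : Equiv.Perm Ω) = σ * (g : Equiv.Perm Ω) * σ⁻¹) ↔ ∃ ω : Ω, ∀ g ∈ (MulAction.stabilizer G o).map α.toMonoidHom, g • ω = ω := by
  classical
  constructor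
  · rintro ⟨σ, -, hσ⟩
    refine ⟨σ o, ?_⟩
    rintro g ⟨h, hh, rfl⟩
    have hho : (h : Equiv.Perm Ω) o = o := hh
    show ((α h : G) : Equiv.Perm Ω) (σ o) = σ o
    rw [hσ h]
    simp [Equiv.Perm.mul_apply, hho]
  · rintro ⟨ω, hω⟩
    have hex : ∀ x : Ω, ∃ g : G, g • o = x := fun x => MulAction.exists_smul_eq G o x
    choose c hc using hex
    let f : Ω → Ω := fun x => (α (c x)) • ω
    have hf : ∀ g : G, f (g • o) = (α g) • ω := by
      intro g
      have h1 : g⁻¹ * c (g • o) ∈ MulAction.stabilizer G o := by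
        rw [MulAction.mem_stabilizer_iff, mul_smul, hc, inv_smul_smul]
      have h2 : α (g⁻¹ * c (g • o)) • ω = ω := hω _ ⟨_, h1, rfl⟩
      show α (c (g • o)) • ω = α g • ω
      have h3 : α (c (g • o)) = α g * α (g⁻¹ * c (g • o)) := by
        rw [← map_mul]; congr 1; group
      rw [h3, mul_smul, h2]
    have hsurj : Function.Surjective f := by
      intro y
      obtain ⟨g', hg'⟩ := MulAction.exists_smul_eq G ω y
      refine ⟨(α.symm g') • o, ?_⟩
      rw [hf, MulEquiv.apply_symm_apply, hg']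
    have hbij : Function.Bijective f := ⟨Finite.injective_iff_surjective.mpr hsurj, hsurj⟩
    let σ : Equiv.Perm Ω := Equiv.ofBijective f hbij
    have hσg : ∀ g : G, ((α g : G) : Equiv.Perm Ω) = σ * (g : Equiv.Perm Ω) * σ⁻¹ := by
      intro g
      ext y
      obtain ⟨x, rfl⟩ := σ.surjective y
      simp only [Equiv.Perm.mul_apply]
      have hinv : σ⁻¹ (σ x) = x := σ.symm_apply_apply x
      rw [hinv]
      obtain ⟨h, rfl⟩ := MulAction.exists_smul_eq G o x
      show ((α g : G) : Equiv.Perm Ω) (f (h • o)) = f ((g : Equiv.Perm Ω) (h • o))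
      have e1 : (g : Equiv.Perm Ω) (h • o) = (g * h) • o := by rw [mul_smul]; rfl
      rw [e1, hf, hf, map_mul, mul_smul]; rfl
    refine ⟨σ, ?_, hσg⟩
    rw [Subgroup.mem_normalizer_iff]
    intro π
    constructor
    · intro hπ
      have := hσg ⟨π, hπ⟩
      rw [← this]
      exact (α ⟨π, hπ⟩).2
    · intro hπ
      have h1 := hσg (α.symm ⟨σ * π * σ⁻¹, hπ⟩)
      rw [MulEquiv.apply_symm_apply] at h1
      have h2 : π = ((α.symm ⟨σ * π * σ⁻¹, hπ⟩ : G) : Equiv.Perm Ω) := by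
        have := congrArg (fun t => σ⁻¹ * t * σ) h1
        simpa [mul_assoc] using this
      rw [h2]; exact (α.symm _).2

end Cfsg.Agent.S4275
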