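import Cfsg.Statements.S4283
import Cfsg.Agent.Lib.Helper18.FrobConstruct
import Mathlib.GroupTheory.Sylow
import Mathlib.GroupTheory.Perm.Cycle.Type
import Mathlib.GroupTheory.Index

set_option autoImplicit false
open Cfsg
open Cfsg.Agent.Lib.Helper18

namespace Cfsg.Agent.S4283

open scoped Pointwise

/-- In a finite group with a malnormal subgroup `C`, a prime dividing `|C|` does not divide the
index of `C`. -/
theorem frob_prime {L : Type*} [Group L] [Finite L] (C : Subgroup L)
    (hC : ∀ g : L, g ∉ C → ∀ x ∈ C, g⁻¹ * x * g ∈ C → x = 1) (p : ℕ) [hp : Fact p.Prime]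
    (hdvd : p ∣ Nat.card C) : ¬ p ∣ C.index := by
  classical
  obtain ⟨x, hx⟩ := exists_prime_orderOf_dvd_card' p hdvd
  set y : L := (x : L) with hy
  have hyC : y ∈ C := x.2
  have hyord : orderOf y = p := by rw [hy, Subgroup.orderOf_coe, hx]
  have hy1 : y ≠ 1 := by
    intro h
    rw [h, orderOf_one] at hyord
    exact hp.out.one_lt.ne hyord
  have hP : IsPGroup p (Subgroup.zpowers y) := by
    apply IsPGroup.of_card (n := 1)
    rw [Nat.card_zpowers, hyord, pow_one]
  have hfix : MulAction.fixedPoints (Subgroup.zpowers y) (L ⧸ C) = {(QuotientGroup.mk 1 : L ⧸ C)} := by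
    ext q
    obtain ⟨g, rfl⟩ := QuotientGroup.mk_surjective q
    rw [MulAction.mem_fixedPoints, Set.mem_singleton_iff]
    constructor
    · intro h
      have h1 := h ⟨y, Subgroup.mem_zpowers y⟩
      have h2 : (QuotientGroup.mk (y * g) : L ⧸ C) = QuotientGroup.mk g := h1
      rw [QuotientGroup.eq] at h2
      have h3 : g⁻¹ * y⁻¹ * g ∈ C := by
        have : (y * g)⁻¹ * g = g⁻¹ * y⁻¹ * g := by group
        rw [this] at h2; exact h2
      rw [QuotientGroup.eq, mul_one, Subgroup.inv_mem_iff]
      by_contra hg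
      have := hC g hg y⁻¹ (C.inv_mem hyC) h3
      exact hy1 (inv_eq_one.mp this)
    · intro h
      rintro ⟨z, hz⟩
      have h1 : g ∈ C := by
        have := QuotientGroup.eq.mp h
        have h2 : g⁻¹ ∈ C := by simpa using this
        exact (Subgroup.inv_mem_iff C).mp h2
      have hzC : z ∈ C := by
        obtain ⟨k, rfl⟩ := Subgroup.mem_zpowers_iff.mp hz
        exact C.zpow_mem hyC k
      show (QuotientGroup.mk (z * g) : L ⧸ C) = QuotientGroup.mk g
      rw [QuotientGroup.eq]
      have : (z * g)⁻¹ * g = g⁻¹ * z⁻¹ * g := by group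
      rw [this]
      exact C.mul_mem (C.mul_mem (C.inv_mem h1) (C.inv_mem hzC)) h1
  have hmod := hP.card_modEq_card_fixedPoints (L ⧸ C)
  rw [hfix, Nat.card_coe_set_eq, Set.ncard_singleton] at hmod
  intro hdiv
  rw [Subgroup.index] at hdiv
  have h0 : Nat.card (L ⧸ C) % p = 0 := Nat.mod_eq_zero_of_dvd hdiv
  have h1 : Nat.card (L ⧸ C) % p = 1 % p := hmod
  rw [h0, Nat.mod_eq_of_lt hp.out.one_lt] at h1
  exact zero_ne_one h1

/-- If `p` divides the index of the malnormal subgroup `C`, every `p`-element lies in the kernel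
set. -/
theorem pelement_kernel {L : Type*} [Group L] [Finite L] (C : Subgroup L)
    (hC : ∀ g : L, g ∉ C → ∀ x ∈ C, g⁻¹ * x * g ∈ C → x = 1) (p : ℕ) [hp : Fact p.Prime]
    (hdvd : p ∣ C.index) (x : L) (k : ℕ) (hx : x ^ p ^ k = 1) (g : L) (hg : g⁻¹ * x * g ∈ C) :
    x = 1 := by
  have h1 : orderOf x ∣ p ^ k := orderOf_dvd_of_pow_eq_one hx
  have h2 : orderOf (g⁻¹ * x * g) = orderOf x := by
    have := MulEquiv.orderOf_eq (MulAut.conj g⁻¹) x
    simpa [MulAut.conj_apply] using this
  have h3 : orderOf x ∣ Nat.card C := by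
    rw [← h2]
    have : orderOf (⟨g⁻¹ * x * g, hg⟩ : C) ∣ Nat.card C := orderOf_dvd_natCard _
    rwa [← Subgroup.orderOf_coe] at this
  by_contra hx1
  have h4 : orderOf x ≠ 1 := fun h => hx1 (orderOf_eq_one_iff.mp h)
  have h5 : p ∣ orderOf x := by
    obtain ⟨j, _, hj⟩ := (Nat.dvd_prime_pow hp.out).mp h1
    rcases j with _ | j
    · rw [pow_zero] at hj; exact absurd hj h4
    · rw [hj, pow_succ]; exact dvd_mul_left _ _
  exact frob_prime C hC p (h5.trans h3) hdvd

/-- Let G be a finite group with centre Z and let K, H be abelian subgroups of G containing Z such that G/Z is a Frobenius group with complement H/Z and kernel K/Z. Then the conjugacy class sizes of G are exactly 1, [G : K] and [G : H], and these two indices are coprime. (This is the converse half of the characterization of finite groups whose conjugacy class sizes are exactly 1, m and n with m and n coprime.) -/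
theorem result {G : Type*} [Group G] [Finite G] (K H : Subgroup G) (hZK : Subgroup.center G ≤ K) (hZH : Subgroup.center G ≤ H) (hK : IsMulCommutative K) (hH : IsMulCommutative H) (hFrob : Cfsg.IsFrobeniusComplement (H.map (QuotientGroup.mk' (Subgroup.center G)))) (hker : Cfsg.frobeniusKernel (H.map (QuotientGroup.mk' (Subgroup.center G))) = (K.map (QuotientGroup.mk' (Subgroup.center G)) : Set (G ⧸ Subgroup.center G))) : Set.range (fun x : G => (Subgroup.centralizer ({x} : Set G)).index) = ({1, K.index, H.index} : Set ℕ) ∧ K.index.Coprime H.index := by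
  classical
  set Z := Subgroup.center G with hZ
  set π := QuotientGroup.mk' Z with hπ
  set Hb := H.map π with hHb
  set Kb := K.map π with hKb
  have hπsurj : Function.Surjective π := QuotientGroup.mk'_surjective Z
  have hπker : π.ker = Z := QuotientGroup.ker_mk' Z
  -- membership transfer
  have memH : ∀ x : G, π x ∈ Hb ↔ x ∈ H := by
    intro x
    constructor
    · rintro ⟨h, hh, hhx⟩
      have : h⁻¹ * x ∈ Z := by
        rw [← hπker, MonoidHom.mem_ker, map_mul, map_inv, hhx, inv_mul_cancel]
      have h2 : x = h * (h⁻¹ * x) := by group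
      rw [h2]; exact H.mul_mem hh (hZH this)
    · intro hx; exact ⟨x, hx, rfl⟩
  have memK : ∀ x : G, π x ∈ Kb ↔ x ∈ K := by
    intro x
    constructor
    · rintro ⟨h, hh, hhx⟩
      have : h⁻¹ * x ∈ Z := by
        rw [← hπker, MonoidHom.mem_ker, map_mul, map_inv, hhx, inv_mul_cancel]
      have h2 : x = h * (h⁻¹ * x) := by group
      rw [h2]; exact K.mul_mem hh (hZK this)
    · intro hx; exact ⟨x, hx, rfl⟩
  have memZ : ∀ x : G, π x = 1 ↔ x ∈ Z := by
    intro x
    rw [← MonoidHom.mem_ker, hπker]
  -- Frobenius data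
  rw [isFrobeniusComplement_iff] at hFrob
  obtain ⟨hHb1, hHb2, hmal⟩ := hFrob
  -- (B)
  have hB : ∀ g : G, g ∉ H → ∀ x ∈ H, g⁻¹ * x * g ∈ H → x ∈ Z := by
    intro g hg x hx hgx
    rw [← memZ]
    apply hmal (π g) (by rwa [memH]) (π x) (by rwa [memH])
    have : (π g)⁻¹ * π x * π g = π (g⁻¹ * x * g) := by simp
    rw [this, memH]; exact hgx
  -- (A)
  have hA : ∀ x : G, x ∈ K ↔ (x ∈ Z ∨ ∀ g : G, g⁻¹ * x * g ∉ H) := by
    intro x
    rw [← memK]
    have h1 : π x ∈ Kb ↔ π x ∈ Cfsg.frobeniusKernel Hb := by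
      rw [hker]; rfl
    rw [h1]
    unfold Cfsg.frobeniusKernel
    rw [Set.mem_setOf_eq, memZ]
    constructor
    · rintro (h | h)
      · left; exact h
      · right
        intro g hg
        apply h (π g)
        rw [mem_conj_smul_iff_frob]
        have : (π g)⁻¹ * π x * π g = π (g⁻¹ * x * g) := by simp
        rw [this, memH]; exact hg
    · rintro (h | h)
      · left; exact h
      · right
        intro gb hgb
        obtain ⟨g, rfl⟩ := hπsurj gb
        rw [mem_conj_smul_iff_frob] at hgb
        have : (π g)⁻¹ * π x * π g = π (g⁻¹ * x * g) := by simp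
        rw [this, memH] at hgb
        exact h g hgb
  -- centralizers
  have centZ : ∀ x ∈ Z, (Subgroup.centralizer ({x} : Set G)).index = 1 := by
    intro x hx
    have : Subgroup.centralizer ({x} : Set G) = ⊤ := by
      rw [eq_top_iff]
      intro y _
      rw [Subgroup.mem_centralizer_iff]
      intro z hz
      rw [Set.mem_singleton_iff] at hz
      rw [hz]
      exact (Subgroup.mem_center_iff.mp hx y).symm
    rw [this, Subgroup.index_top]
  have centH : ∀ x ∈ H, x ∉ Z → Subgroup.centralizer ({x} : Set G) = H := by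
    intro x hx hxZ
    apply le_antisymm
    · intro y hy
      rw [Subgroup.mem_centralizer_iff] at hy
      have h1 := hy x (Set.mem_singleton x)
      by_contra hyH
      apply hxZ
      apply hB y hyH x hx
      have : y⁻¹ * x * y = x := by
        rw [mul_assoc, h1]; group
      rw [this]; exact hx
    · intro y hy
      rw [Subgroup.mem_centralizer_iff]
      intro z hz
      rw [Set.mem_singleton_iff] at hz
      rw [hz]
      have := hH.is_comm.comm (⟨x, hx⟩ : H) ⟨y, hy⟩
      exact congrArg Subtype.val this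
  have centK : ∀ x ∈ K, x ∉ Z → Subgroup.centralizer ({x} : Set G) = K := by
    intro x hx hxZ
    apply le_antisymm
    · intro y hy
      rw [Subgroup.mem_centralizer_iff] at hy
      have h1 := hy x (Set.mem_singleton x)
      by_contra hyK
      rw [hA] at hyK
      push Not at hyK
      obtain ⟨hyZ, g, hg⟩ := hyK
      -- y' = g⁻¹ y g ∈ H \ Z
      have hy'Z : g⁻¹ * y * g ∉ Z := by
        intro h
        apply hyZ
        have : y = g * (g⁻¹ * y * g) * g⁻¹ := by group
        rw [this]
        exact (inferInstance : Z.Normal).conj_mem _ h g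
      have hcent := centH (g⁻¹ * y * g) hg hy'Z
      have hx' : g⁻¹ * x * g ∈ Subgroup.centralizer ({g⁻¹ * y * g} : Set G) := by
        rw [Subgroup.mem_centralizer_iff]
        intro z hz
        rw [Set.mem_singleton_iff] at hz
        rw [hz]
        calc g⁻¹ * y * g * (g⁻¹ * x * g) = g⁻¹ * (y * x) * g := by group
          _ = g⁻¹ * (x * y) * g := by rw [h1]
          _ = g⁻¹ * x * g * (g⁻¹ * y * g) := by group
      rw [hcent] at hx'
      rcases (hA x).mp hx with h | h
      · exact hxZ h
      · exact h g hx'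
    · intro y hy
      rw [Subgroup.mem_centralizer_iff]
      intro z hz
      rw [Set.mem_singleton_iff] at hz
      rw [hz]
      have := hK.is_comm.comm (⟨x, hx⟩ : K) ⟨y, hy⟩
      exact congrArg Subtype.val this
  have cent_conj : ∀ (x g : G), (Subgroup.centralizer ({g⁻¹ * x * g} : Set G)).index
      = (Subgroup.centralizer ({x} : Set G)).index := by
    intro x g
    have : Subgroup.centralizer ({g⁻¹ * x * g} : Set G)
        = (Subgroup.centralizer ({x} : Set G)).map (MulAut.conj g⁻¹).toMonoidHom := by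
      ext y
      rw [Subgroup.mem_centralizer_iff, Subgroup.mem_map]
      constructor
      · intro hy
        have h1 := hy _ (Set.mem_singleton _)
        refine ⟨g * y * g⁻¹, ?_, by simp [MulAut.conj_apply, mul_assoc]⟩
        rw [Subgroup.mem_centralizer_iff]
        intro z hz
        rw [Set.mem_singleton_iff] at hz
        rw [hz]
        calc x * (g * y * g⁻¹) = g * ((g⁻¹ * x * g) * y) * g⁻¹ := by group
          _ = g * (y * (g⁻¹ * x * g)) * g⁻¹ := by rw [h1]
          _ = g * y * g⁻¹ * x := by group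
      · rintro ⟨w, hw, rfl⟩ z hz
        rw [Set.mem_singleton_iff] at hz
        rw [hz]
        rw [Subgroup.mem_centralizer_iff] at hw
        have h1 := hw x (Set.mem_singleton x)
        simp only [MulEquiv.coe_toMonoidHom, MulAut.conj_apply, inv_inv]
        calc g⁻¹ * x * g * (g⁻¹ * w * g) = g⁻¹ * (x * w) * g := by group
          _ = g⁻¹ * (w * x) * g := by rw [h1]
          _ = g⁻¹ * w * g * (g⁻¹ * x * g) := by group
    rw [this]
    exact Subgroup.index_map_of_bijective (MulAut.conj g⁻¹).bijective _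
  -- index transfer
  have idxH : Hb.index = H.index := Subgroup.index_map_eq H hπsurj (by rw [hπker]; exact hZH)
  have idxK : Kb.index = K.index := Subgroup.index_map_eq K hπsurj (by rw [hπker]; exact hZK)
  -- primes dividing the index of Hb
  have sylK : ∀ (p : ℕ) [Fact p.Prime], p ∣ Hb.index → ∀ P : Sylow p (G ⧸ Z), (P : Subgroup (G ⧸ Z)) ≤ Kb := by
    intro p hp hdvd P xb hxb
    obtain ⟨x, rfl⟩ := hπsurj xb
    rw [memK, hA]
    by_contra hcon
    push Not at hcon
    obtain ⟨hxZ, g, hg⟩ := hcon
    obtain ⟨k, hk⟩ := (P.isPGroup' ⟨π x, hxb⟩)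
    have hk' : (π x) ^ p ^ k = 1 := by
      have := congrArg Subtype.val hk
      simpa using this
    have hg' : (π g)⁻¹ * π x * π g ∈ Hb := by
      have : (π g)⁻¹ * π x * π g = π (g⁻¹ * x * g) := by simp
      rw [this, memH]; exact hg
    have := pelement_kernel Hb hmal p hdvd (π x) k hk' (π g) hg'
    exact hxZ ((memZ x).mp this)
  -- Hb.index > 1
  have hidx1 : Hb.index ≠ 1 := by
    intro h
    exact hHb2 (Subgroup.index_eq_one.mp h)
  -- coprimality
  have hcop : K.index.Coprime H.index := by
    rw [← idxH, ← idxK]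
    apply Nat.Coprime.symm
    apply Nat.Coprime.symm
    rw [Nat.coprime_comm]
    apply Nat.coprime_of_dvd
    intro p hp hpH hpK
    haveI : Fact p.Prime := ⟨hp⟩
    obtain ⟨P⟩ : Nonempty (Sylow p (G ⧸ Z)) := inferInstance
    have hle := sylK p hpH P
    have h1 : Kb.index ∣ (P : Subgroup (G ⧸ Z)).index := Subgroup.index_dvd_of_le hle
    exact P.not_dvd_index (hpK.trans h1)
  -- K ≠ Z
  have hKZ : ∃ x ∈ K, x ∉ Z := by
    obtain ⟨p, hp, hpdvd⟩ := Nat.exists_prime_and_dvd hidx1
    haveI : Fact p.Prime := ⟨hp⟩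
    obtain ⟨P⟩ : Nonempty (Sylow p (G ⧸ Z)) := inferInstance
    have hle := sylK p hpdvd P
    have hPne : (P : Subgroup (G ⧸ Z)) ≠ ⊥ := by
      intro h
      have h1 : p ∣ Nat.card (G ⧸ Z) := by
        rw [← Subgroup.index_mul_card Hb]
        exact hpdvd.mul_right _
      have h2 := P.not_dvd_index
      rw [h, Subgroup.index_bot] at h2
      exact h2 h1
    obtain ⟨xb, hxb, hxb1⟩ : ∃ y ∈ (P : Subgroup (G ⧸ Z)), y ≠ 1 := by
      by_contra hcon
      push Not at hcon
      apply hPne
      rw [eq_bot_iff]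
      intro y hy
      rw [Subgroup.mem_bot]
      exact hcon y hy
    obtain ⟨x, rfl⟩ := hπsurj xb
    exact ⟨x, (memK x).mp (hle hxb), fun h => hxb1 ((memZ x).mpr h)⟩
  -- H ≠ Z
  have hHZ : ∃ x ∈ H, x ∉ Z := by
    by_contra hcon
    push Not at hcon
    apply hHb1
    rw [eq_bot_iff]
    rintro _ ⟨h, hh, rfl⟩
    rw [Subgroup.mem_bot, memZ]
    exact hcon h hh
  refine ⟨?_, hcop⟩
  ext n
  simp only [Set.mem_range, Set.mem_insert_iff, Set.mem_singleton_iff]
  constructor
  · rintro ⟨x, rfl⟩
    by_cases hxK : x ∈ K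
    · by_cases hxZ : x ∈ Z
      · left; exact centZ x hxZ
      · right; left; rw [centK x hxK hxZ]
    · rw [hA] at hxK
      push Not at hxK
      obtain ⟨hxZ, g, hg⟩ := hxK
      right; right
      have hgZ : g⁻¹ * x * g ∉ Z := by
        intro h
        apply hxZ
        have : x = g * (g⁻¹ * x * g) * g⁻¹ := by group
        rw [this]
        exact (inferInstance : Z.Normal).conj_mem _ h g
      rw [← cent_conj x g, centH _ hg hgZ]
  · rintro (h | h | h)
    · exact ⟨1, by rw [h]; exact centZ 1 (Subgroup.one_mem _)⟩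
    · obtain ⟨x, hx, hxZ⟩ := hKZ
      exact ⟨x, by rw [h, centK x hx hxZ]⟩
    · obtain ⟨x, hx, hxZ⟩ := hHZ
      exact ⟨x, by rw [h, centH x hx hxZ]⟩

end Cfsg.Agent.S4283
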