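import Cfsg.Statements.S4293
import Cfsg.Agent.Lib.Helper18.FrobConstruct
import Mathlib

set_option autoImplicit false
open Cfsg
open Cfsg.Agent.Lib.Helper18

namespace Cfsg.Agent.S4293

variable {D : Type*} [DivisionRing D]

/-- the additive span of a subgroup of units -/
def spanR (H : Subgroup Dˣ) : AddSubgroup D :=
  AddSubgroup.closure {x : D | ∃ h ∈ H, ((h : Dˣ) : D) = x}

theorem coe_mem_spanR (H : Subgroup Dˣ) {h : Dˣ} (hh : h ∈ H) : (h : D) ∈ spanR H :=
  AddSubgroup.subset_closure ⟨h, hh, rfl⟩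

theorem one_mem_spanR (H : Subgroup Dˣ) : (1 : D) ∈ spanR H := by
  have := coe_mem_spanR H H.one_mem
  simpa using this

theorem mul_mem_spanR (H : Subgroup Dˣ) {h : Dˣ} (hh : h ∈ H) {r : D} (hr : r ∈ spanR H) :
    (h : D) * r ∈ spanR H := by
  unfold spanR at hr ⊢
  induction hr using AddSubgroup.closure_induction with
  | mem x hx =>
    obtain ⟨h', hh', rfl⟩ := hx
    exact AddSubgroup.subset_closure ⟨h * h', H.mul_mem hh hh', by simp⟩
  | zero => rw [mul_zero]; exact zero_mem _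
  | add x y _ _ hx hy => rw [mul_add]; exact add_mem hx hy
  | neg x _ hx => rw [mul_neg]; exact neg_mem hx

theorem fg_spanR (H : Subgroup Dˣ) [Finite H] : AddGroup.FG (spanR H) := by
  have hfin : Finite {x : D | ∃ h ∈ H, ((h : Dˣ) : D) = x} := by
    have : {x : D | ∃ h ∈ H, ((h : Dˣ) : D) = x} = Set.range (fun h : H => ((h : Dˣ) : D)) := by
      ext x
      constructor
      · rintro ⟨h, hh, rfl⟩; exact ⟨⟨h, hh⟩, rfl⟩
      · rintro ⟨⟨h, hh⟩, rfl⟩; exact ⟨h, hh, rfl⟩
    rw [this]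
    exact Set.finite_range _ |>.to_subtype
  exact AddGroup.closure_finite_fg _

/-- left multiplication by `h ∈ H` on the span -/
def mulL (H : Subgroup Dˣ) (h : H) : spanR H →+ spanR H where
  toFun r := ⟨((h : Dˣ) : D) * r, mul_mem_spanR H h.2 r.2⟩
  map_zero' := by ext; simp
  map_add' a b := by ext; simp [mul_add]

/-- the subgroup `q R` -/
def qSub (H : Subgroup Dˣ) (q : ℕ) : AddSubgroup (spanR H) :=
  (nsmulAddMonoidHom (α := spanR H) q).range

theorem mem_qSub (H : Subgroup Dˣ) (q : ℕ) (v : spanR H) :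
    v ∈ qSub H q ↔ ∃ r : spanR H, q • r = v := by
  unfold qSub
  rw [AddMonoidHom.mem_range]
  rfl

theorem mulL_qSub (H : Subgroup Dˣ) (q : ℕ) (h : H) : qSub H q ≤ (qSub H q).comap (mulL H h) := by
  intro v hv
  rw [mem_qSub] at hv
  obtain ⟨r, rfl⟩ := hv
  rw [AddSubgroup.mem_comap, mem_qSub]
  exact ⟨mulL H h r, (map_nsmul (mulL H h) q r).symm⟩

/-- the action on the quotient `R / qR` -/
def actQ (H : Subgroup Dˣ) (q : ℕ) : H →* AddMonoid.End (spanR H ⧸ qSub H q) where
  toFun h := QuotientAddGroup.map (qSub H q) (qSub H q) (mulL H h) (mulL_qSub H q h)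
  map_one' := by
    ext v
    induction v using QuotientAddGroup.induction_on with
    | H r =>
      show QuotientAddGroup.map (qSub H q) (qSub H q) (mulL H 1) (mulL_qSub H q 1) (r : spanR H ⧸ qSub H q) = r
      rw [QuotientAddGroup.map_mk]
      congr 1
      ext
      simp [mulL]
  map_mul' a b := by
    ext v
    induction v using QuotientAddGroup.induction_on with
    | H r =>
      show QuotientAddGroup.map (qSub H q) (qSub H q) (mulL H (a * b)) (mulL_qSub H q (a * b)) (r : spanR H ⧸ qSub H q)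
        = QuotientAddGroup.map (qSub H q) (qSub H q) (mulL H a) (mulL_qSub H q a)
          (QuotientAddGroup.map (qSub H q) (qSub H q) (mulL H b) (mulL_qSub H q b) (r : spanR H ⧸ qSub H q))
      rw [QuotientAddGroup.map_mk, QuotientAddGroup.map_mk, QuotientAddGroup.map_mk]
      congr 1
      ext
      simp [mulL, mul_assoc]

theorem actQ_mk (H : Subgroup Dˣ) (q : ℕ) (h : H) (r : spanR H) :
    actQ H q h (r : spanR H ⧸ qSub H q) = ((mulL H h r : spanR H) : spanR H ⧸ qSub H q) := rfl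

theorem finite_quot (H : Subgroup Dˣ) [Finite H] (q : ℕ) (hq : q ≠ 0) :
    Finite (spanR H ⧸ qSub H q) := by
  haveI := fg_spanR H
  haveI : AddGroup.FG (spanR H ⧸ qSub H q) := QuotientAddGroup.fg _
  exact AddCommGroup.finite_of_fg_isAddTorsion _
    (AddCommGroup.isAddTorsion_quotient_range_nsmulAddMonoidHom (spanR H) hq)

/-- the element `U` with `U * (x - 1) = -n` when `x ^ n = 1`, `x ≠ 1` -/
theorem geom_aux (x : D) (n : ℕ) (hx1 : x ≠ 1) (hxn : x ^ n = 1) :
    (∑ i ∈ Finset.range n, ∑ j ∈ Finset.range i, x ^ j) * (x - 1) = -(n : D) := by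
  have h0 : (∑ i ∈ Finset.range n, x ^ i) = 0 := by
    have h1 : (∑ i ∈ Finset.range n, x ^ i) * (x - 1) = 0 := by
      rw [geom_sum_mul, hxn, sub_self]
    rcases mul_eq_zero.mp h1 with h | h
    · exact h
    · exact absurd (sub_eq_zero.mp h) hx1
  rw [Finset.sum_mul]
  have h2 : ∀ i ∈ Finset.range n, (∑ j ∈ Finset.range i, x ^ j) * (x - 1) = x ^ i - 1 :=
    fun i _ => geom_sum_mul x i
  rw [Finset.sum_congr rfl h2, Finset.sum_sub_distrib, h0]
  simp

theorem U_mul_mem (H : Subgroup Dˣ) {h : Dˣ} (hh : h ∈ H) (n : ℕ) {r : D} (hr : r ∈ spanR H) :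
    (∑ i ∈ Finset.range n, ∑ j ∈ Finset.range i, (h : D) ^ j) * r ∈ spanR H := by
  rw [Finset.sum_mul]
  apply AddSubgroup.sum_mem
  intro i _
  rw [Finset.sum_mul]
  apply AddSubgroup.sum_mem
  intro j _
  have : ((h ^ j : Dˣ) : D) * r ∈ spanR H := mul_mem_spanR H (H.pow_mem hh j) hr
  simpa using this

/-- freeness of the action on `R / qR` -/
theorem free_actQ (H : Subgroup Dˣ) (q : ℕ) (h : H) (hh1 : h ≠ 1)
    (hcop : Nat.Coprime (orderOf h) q) (v : spanR H ⧸ qSub H q) (hv : actQ H q h v = v) : v = 0 := by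
  induction v using QuotientAddGroup.induction_on with
  | H r =>
  rw [actQ_mk] at hv
  have hv' := QuotientAddGroup.eq.mp hv
  rw [mem_qSub] at hv'
  obtain ⟨r', hr'⟩ := hv'
  -- in D : q • r' = -(h * r) + r
  have hD : (q : D) * (r' : D) = -(((h : Dˣ) : D) * (r : D)) + (r : D) := by
    have := congrArg (fun z : spanR H => (z : D)) hr'
    simpa [mulL, nsmul_eq_mul] using this
  set n := orderOf h with hn
  set x : D := ((h : Dˣ) : D) with hx
  have hx1 : x ≠ 1 := by
    intro h1
    apply hh1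
    apply Subtype.ext
    apply Units.ext
    show ((h : Dˣ) : D) = ((1 : Dˣ) : D)
    rw [Units.val_one]; exact h1
  have hxn : x ^ n = 1 := by
    have h1 : h ^ n = 1 := pow_orderOf_eq_one h
    have h2 := congrArg (fun z : H => (((z : Dˣ)) : D)) h1
    simpa using h2
  set U : D := ∑ i ∈ Finset.range n, ∑ j ∈ Finset.range i, x ^ j with hU
  have hUx : U * (x - 1) = -(n : D) := geom_aux x n hx1 hxn
  -- n • r ∈ qR
  have hnr : (n : D) * (r : D) = (q : D) * (U * (r' : D)) := by
    have h1 : U * ((q : D) * (r' : D)) = (n : D) * (r : D) := by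
      rw [hD]
      have : -(x * (r : D)) + (r : D) = -((x - 1) * (r : D)) := by
        rw [sub_mul, one_mul]; abel
      rw [this, mul_neg, ← mul_assoc, hUx, neg_mul, neg_neg]
    rw [← h1]
    have hc : Commute U (q : D) := (Nat.cast_commute q U).symm
    rw [← mul_assoc, hc.eq, mul_assoc]
  have hUr' : U * (r' : D) ∈ spanR H := U_mul_mem H h.2 n r'.2
  have hnmem : n • r ∈ qSub H q := by
    rw [mem_qSub]
    refine ⟨⟨U * (r' : D), hUr'⟩, ?_⟩
    ext
    simp [nsmul_eq_mul, hnr]
  have hqmem : q • r ∈ qSub H q := by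
    rw [mem_qSub]; exact ⟨r, rfl⟩
  -- Bezout
  obtain ⟨a, b, hab⟩ := (Nat.isCoprime_iff_coprime.mpr hcop)
  have hr : r = a • (n • r) + b • (q • r) := by
    have : (a * (n : ℤ) + b * (q : ℤ)) • r = r := by rw [hab, one_smul]
    rw [add_smul, mul_smul, mul_smul, natCast_zsmul, natCast_zsmul] at this
    exact this.symm
  rw [QuotientAddGroup.eq_zero_iff, hr]
  exact add_mem (AddSubgroup.zsmul_mem _ hnmem a) (AddSubgroup.zsmul_mem _ hqmem b)

theorem coprime_of_charP (H : Subgroup Dˣ) [Finite H] (p : ℕ) [hp : Fact p.Prime] [CharP D p]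
    (h : H) : Nat.Coprime (orderOf h) p := by
  rw [Nat.coprime_comm, Nat.Prime.coprime_iff_not_dvd hp.out]
  rintro ⟨m, hm⟩
  have hpos : 0 < orderOf h := orderOf_pos h
  have hm0 : 0 < m := by
    rcases Nat.eq_zero_or_pos m with h0 | h0
    · rw [h0, mul_zero] at hm; omega
    · exact h0
  set y : D := (((h : Dˣ)) : D) ^ m with hy
  have hyp : y ^ p = 1 := by
    rw [hy, ← pow_mul, mul_comm, ← hm]
    have h1 : h ^ orderOf h = 1 := pow_orderOf_eq_one h
    have h2 : (((h ^ orderOf h : H) : Dˣ) : D) = ((1 : Dˣ) : D) := by rw [h1]; rfl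
    rw [Units.val_one] at h2
    rw [← h2, Subgroup.coe_pow, Units.val_pow_eq_pow_val]
  have h1 : (y - 1) ^ p = 0 := by
    rw [sub_pow_char_of_commute (p := p) (Commute.one_right y), hyp, one_pow, sub_self]
  have h2 : y = 1 := sub_eq_zero.mp ((pow_eq_zero_iff (hp.out.ne_zero)).mp h1)
  have h3 : h ^ m = 1 := by
    apply Subtype.ext
    apply Units.ext
    show (((h ^ m : H) : Dˣ) : D) = ((1 : Dˣ) : D)
    rw [Units.val_one, ← h2, hy]
    simp
  have hlt : m < orderOf h := by
    rw [hm]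
    have := hp.out.two_le
    nlinarith
  exact pow_ne_one_of_lt_orderOf hm0.ne' hlt h3

theorem exists_not_mem_qSub_charP (H : Subgroup Dˣ) (p : ℕ) [CharP D p] :
    ∃ r : spanR H, r ∉ qSub H p := by
  refine ⟨⟨1, one_mem_spanR H⟩, ?_⟩
  rw [mem_qSub]
  rintro ⟨r', hr'⟩
  have := congrArg (fun z : spanR H => (z : D)) hr'
  simp only [AddSubgroup.coe_nsmul, nsmul_eq_mul, CharP.cast_eq_zero, zero_mul] at this
  exact zero_ne_one this

theorem exists_not_mem_qSub_charZero (H : Subgroup Dˣ) [Finite H] [CharZero D] (q : ℕ)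
    (hq : q.Prime) : ∃ r : spanR H, r ∉ qSub H q := by
  by_contra hcon
  push Not at hcon
  -- Nakayama
  set N : Submodule ℤ D := AddSubgroup.toIntSubmodule (spanR H) with hN
  have hfg : N.FG := by
    rw [Submodule.fg_iff_addSubgroup_fg, hN, AddSubgroup.toIntSubmodule_toAddSubgroup,
      ← AddGroup.fg_iff_addSubgroup_fg]
    exact fg_spanR H
  have hin : N ≤ Ideal.span {(q : ℤ)} • N := by
    intro r hr
    have hr' : r ∈ spanR H := hr
    obtain ⟨r', hr'eq⟩ := (mem_qSub H q ⟨r, hr'⟩).mp (hcon ⟨r, hr'⟩)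
    have h1 : (q : ℤ) • (r' : D) = r := by
      have := congrArg (fun z : spanR H => (z : D)) hr'eq
      simpa using this
    rw [← h1]
    exact Submodule.smul_mem_smul (Ideal.mem_span_singleton_self _) r'.2
  obtain ⟨c, hc1, hc2⟩ := Submodule.exists_sub_one_mem_and_smul_eq_zero_of_fg_of_le_smul _ N hfg hin
  have h1 : c • (1 : D) = 0 := hc2 1 (one_mem_spanR H)
  have hc0 : c = 0 := by
    have : (c : D) = 0 := by simpa using h1
    exact_mod_cast this
  rw [hc0, zero_sub, Ideal.mem_span_singleton] at hc1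
  have h2 : (q : ℤ) ∣ 1 := by
    have := (dvd_neg (a := (q : ℤ)) (b := 1)).mp hc1
    exact this
  have h3 : q ∣ 1 := by exact_mod_cast h2
  exact hq.one_lt.ne' (Nat.dvd_one.mp h3)

/-- A nontrivial finite subgroup of the multiplicative group of a division ring occurs as a Frobenius complement of some finite Frobenius group. -/
theorem result {D : Type*} [DivisionRing D] (H : Subgroup Dˣ) [Finite H] (hH : H ≠ ⊥) :
    ∃ (L : Type) (_ : Group L) (_ : Finite L) (C : Subgroup L), Cfsg.IsFrobeniusComplement C ∧ Nonempty (H ≃* C) := by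
  classical
  haveI : Nontrivial H := by
    rw [Subgroup.nontrivial_iff_ne_bot]; exact hH
  -- choose the prime q
  have key : ∃ q : ℕ, q.Prime ∧ (∀ h : H, Nat.Coprime (orderOf h) q) ∧ ∃ r : spanR H, r ∉ qSub H q := by
    obtain ⟨p, hp⟩ := CharP.exists D
    rcases CharP.char_is_prime_or_zero D p with hpp | hp0
    · haveI : Fact p.Prime := ⟨hpp⟩
      exact ⟨p, hpp, fun h => coprime_of_charP H p h, exists_not_mem_qSub_charP H p⟩
    · subst hp0
      haveI : CharZero D := CharP.charP_to_charZero D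
      obtain ⟨q, hq1, hq2⟩ := Nat.exists_infinite_primes (Nat.card H + 1)
      refine ⟨q, hq2, ?_, exists_not_mem_qSub_charZero H q hq2⟩
      intro h
      rw [Nat.coprime_comm, Nat.Prime.coprime_iff_not_dvd hq2]
      intro hdvd
      have h1 : orderOf h ∣ Nat.card H := orderOf_dvd_natCard h
      have h2 : orderOf h ≤ Nat.card H := Nat.le_of_dvd Nat.card_pos h1
      have h3 : q ≤ orderOf h := Nat.le_of_dvd (orderOf_pos h) hdvd
      omega
  obtain ⟨q, hq, hcop, r, hr⟩ := key
  haveI : Finite (spanR H ⧸ qSub H q) := finite_quot H q hq.ne_zero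
  haveI : Nontrivial (spanR H ⧸ qSub H q) := by
    refine ⟨⟨(r : spanR H ⧸ qSub H q), 0, ?_⟩⟩
    intro h
    exact hr ((QuotientAddGroup.eq_zero_iff r).mp h)
  exact exists_frobenius_of_free_add_action (actQ H q)
    (fun h hh1 v hv => free_actQ H q h hh1 (hcop h) v hv)

end Cfsg.Agent.S4293
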