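import Cfsg.Statements.S4296
import Mathlib
import Cfsg.Agent.S0040
import Cfsg.Agent.S0068
import Cfsg.Agent.Lib.Helper13.FrobStruct
import Cfsg.Agent.Lib.Helper13.QuatSquare

set_option autoImplicit false
open Cfsg

namespace Cfsg.Agent.S4296

open Cfsg.Agent.Lib.Helper13
open scoped IsMulCommutative Pointwise

/-- The elements `u = a (2^n)` and `v = xa 0` in the generalised quaternion group of order `2^(n+3)`. -/
theorem quat_elems (n : ℕ) : ∃ u v : QuaternionGroup (2 ^ (n + 1)),
    u * u = v * v ∧ u * v = u * u * v * u ∧ u * u ≠ 1 ∧ (u * u) * (u * u) = 1 := by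
  refine ⟨QuaternionGroup.a ((2 ^ n : ℕ) : ZMod (2 * 2 ^ (n + 1))), QuaternionGroup.xa 0, ?_, ?_, ?_, ?_⟩
  · rw [QuaternionGroup.a_mul_a, QuaternionGroup.xa_mul_xa]
    congr 1
    push_cast
    ring
  · rw [QuaternionGroup.a_mul_a, QuaternionGroup.a_mul_xa, QuaternionGroup.a_mul_xa,
      QuaternionGroup.xa_mul_a]
    congr 1
    ring
  · rw [QuaternionGroup.a_mul_a, QuaternionGroup.one_def]
    intro h
    injection h with h
    rw [← Nat.cast_add, ZMod.natCast_eq_zero_iff] at h
    have h3 : 2 ^ n + 2 ^ n = 2 ^ (n + 1) := by ring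
    rw [h3] at h
    have := Nat.le_of_dvd (by positivity) h
    have : 0 < 2 ^ (n + 1) := by positivity
    omega
  · rw [QuaternionGroup.a_mul_a, QuaternionGroup.a_mul_a, QuaternionGroup.one_def]
    congr 1
    have := ZMod.natCast_self (2 * 2 ^ (n + 1))
    push_cast at this ⊢
    rw [← this]
    ring

theorem main {L : Type*} [Group L] [Finite L] (H : Subgroup L) (hF : Cfsg.IsFrobeniusComplement H)
    (hZ : ∃ (p : ℕ) (_ : Fact p.Prime) (P : Sylow p H), ¬ IsCyclic P) :
    Odd (Nat.card (Cfsg.frobeniusKernel H)) ∧ IsSquare (Nat.card (Cfsg.frobeniusKernel H)) := by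
  obtain ⟨N, hD⟩ := exists_frobData H hF
  have hNn := hD.normal
  have hset : Cfsg.frobeniusKernel H = (N : Set L) := Set.ext fun x => (hD.mem x).symm
  have hcardK : Nat.card (Cfsg.frobeniusKernel H) = Nat.card N := by rw [hset]; rfl
  rw [hcardK]
  obtain ⟨p, hp, P, hPc⟩ := hZ
  have hN1 : N ≠ ⊥ := by
    intro h
    have h1 := hD.isCompl.card_mul_card
    rw [h, Subgroup.card_bot, one_mul] at h1
    exact hF.2.1 ((Subgroup.card_eq_iff_eq_top H).mp h1)
  rcases Cfsg.Agent.S0040.result N H hD.isCompl hN1 hD.fpf p P with hcyc | ⟨n, ⟨e⟩⟩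
  · exact absurd hcyc hPc
  obtain ⟨n', rfl⟩ : ∃ n', n = n' + 1 := by
    rcases n with _ | n'
    · exfalso
      apply hPc
      have : IsCyclic (QuaternionGroup (2 ^ 0)) := by
        rw [pow_zero]; exact QuaternionGroup.quaternionGroup_one_isCyclic
      exact isCyclic_of_surjective e.symm e.symm.surjective
    · exact ⟨n', rfl⟩
  obtain ⟨u, v, huv, huv2, hu1, hu2⟩ := quat_elems n'
  obtain ⟨f, hf⟩ : ∃ f : QuaternionGroup (2 ^ (n' + 1)) →* L,
      f = (H.subtype.comp (P : Subgroup H).subtype).comp e.symm.toMonoidHom := ⟨_, rfl⟩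
  have hfinj : Function.Injective f := by
    rw [hf]
    exact (H.subtype_injective.comp (P : Subgroup H).subtype_injective).comp e.symm.injective
  have hfH : ∀ x, f x ∈ H := by
    intro x; rw [hf]; exact ((e.symm x : (P : Subgroup H)) : H).2
  have hs1 : f u * f u ≠ 1 := by
    rw [← map_mul]; intro h; exact hu1 (hfinj (h.trans (map_one f).symm))
  have hs2 : (f u * f u) * (f u * f u) = 1 := by
    rw [← map_mul, ← map_mul, hu2, map_one]
  have : Fact (Nat.Prime 2) := ⟨Nat.prime_two⟩
  have hso : orderOf (f u * f u) = 2 := orderOf_eq_prime (by rw [pow_two]; exact hs2) hs1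
  have heven : 2 ∣ Nat.card H := by
    have := orderOf_dvd_natCard (⟨f u * f u, H.mul_mem (hfH u) (hfH u)⟩ : H)
    rwa [Subgroup.orderOf_mk, hso] at this
  obtain ⟨⟨s, hsH, hs2', hsuniq, hsinv⟩, hcomm⟩ :=
    Cfsg.Agent.S0068.result N H hD.isCompl hN1 hD.fpf heven
  have hseq : f u * f u = s := hsuniq _ (H.mul_mem (hfH u) (hfH u)) hso
  have hseq' : f v * f v = s := by rw [← map_mul, ← huv, map_mul, hseq]
  have hrel : f u * f v = s * f v * f u := by
    rw [← hseq, ← map_mul, ← map_mul, ← map_mul, ← map_mul, ← huv2]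
  have hodd : Odd (Nat.card N) := by
    have hcop := hD.coprime
    rw [← Nat.not_even_iff_odd]
    intro he
    have h2 : 2 ∣ Nat.gcd (Nat.card H) (Nat.card N) := Nat.dvd_gcd heven he.two_dvd
    rw [hcop] at h2
    omega
  refine ⟨hodd, ?_⟩
  apply card_isSquare_of_quat_mul hodd (MulAut.conjNormal (f u) : MulAut N).toMonoidHom
    (MulAut.conjNormal (f v) : MulAut N).toMonoidHom
  · intro x
    apply Subtype.ext
    simp only [MulEquiv.coe_toMonoidHom, MulAut.conjNormal_apply, Subgroup.coe_inv]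
    rw [← hsinv x x.2, ← hseq]; group
  · intro x
    apply Subtype.ext
    simp only [MulEquiv.coe_toMonoidHom, MulAut.conjNormal_apply, Subgroup.coe_inv]
    rw [← hsinv x x.2, ← hseq']; group
  · intro x
    apply Subtype.ext
    simp only [MulEquiv.coe_toMonoidHom, MulAut.conjNormal_apply, Subgroup.coe_inv]
    have hy : f v * (f u * (x : L) * (f u)⁻¹) * (f v)⁻¹ ∈ N :=
      hNn.conj_mem _ (hNn.conj_mem _ x.2 _) _
    rw [← hsinv _ hy]
    calc f u * (f v * (x : L) * (f v)⁻¹) * (f u)⁻¹
        = (f u * f v) * x * (f u * f v)⁻¹ := by group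
      _ = (s * f v * f u) * x * (s * f v * f u)⁻¹ := by rw [hrel]
      _ = s * (f v * (f u * (x : L) * (f u)⁻¹) * (f v)⁻¹) * s⁻¹ := by group

end Cfsg.Agent.S4296

namespace Cfsg.Agent.S4296

/-- Let H be a Frobenius complement in a finite group, and suppose some Sylow subgroup of H is not cyclic. Then the number of elements of the Frobenius kernel (the identity together with the elements lying in no conjugate of H) is an odd perfect square. -/
theorem result {L : Type*} [Group L] [Finite L] (H : Subgroup L) (hF : Cfsg.IsFrobeniusComplement H)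
    (hZ : ∃ (p : ℕ) (_ : Fact p.Prime) (P : Sylow p H), ¬ IsCyclic P) :
    Odd (Nat.card (Cfsg.frobeniusKernel H)) ∧ IsSquare (Nat.card (Cfsg.frobeniusKernel H)) := by
  exact main H hF hZ

end Cfsg.Agent.S4296
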