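import Cfsg.Statements.S4295
import Mathlib
import Cfsg.Agent.S4296
import Cfsg.Agent.Lib.Helper13.QuatLift
import Cfsg.Agent.Lib.Helper18.FrobConstruct

set_option autoImplicit false
open Cfsg

namespace Cfsg.Agent.S4295

open Cfsg.Agent.Lib.Helper13

/-- For every positive `n` there is a finite commutative ring with `n` elements in which `-1` is a
sum of two squares. -/
theorem exists_ring_sq_add_sq (n : ℕ) : 0 < n → ∃ (R : Type) (_ : CommRing R) (_ : Finite R),
    Nat.card R = n ∧ ∃ a b : R, a ^ 2 + b ^ 2 = -1 := by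
  induction n using Nat.strong_induction_on with
  | _ n ih =>
    intro hn
    by_cases hn1 : n = 1
    · subst hn1
      exact ⟨PUnit, inferInstance, inferInstance, by simp, 0, 0, Subsingleton.elim _ _⟩
    obtain ⟨p, hp, k, rfl⟩ := Nat.exists_prime_and_dvd hn1
    have hkpos : 0 < k := Nat.pos_of_ne_zero (by rintro rfl; simp at hn)
    have hklt : k < p * k := by
      have := hp.one_lt
      nlinarith
    obtain ⟨R, iR, iF, hcard, a, b, hab⟩ := ih k hklt hkpos
    have : Fact p.Prime := ⟨hp⟩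
    have : NeZero p := ⟨hp.ne_zero⟩
    obtain ⟨a', b', hab'⟩ := ZMod.sq_add_sq p (-1)
    refine ⟨R × ZMod p, inferInstance, inferInstance, ?_, (a, a'), (b, b'), ?_⟩
    · rw [Nat.card_prod, hcard, Nat.card_zmod, mul_comm]
    · ext
      · simpa using hab
      · simpa using hab'

/-- The quaternion relations realised by automorphisms of `R × R`. -/
theorem exists_quat_mulAut {R : Type*} [CommRing R] (a b : R) (hab : a ^ 2 + b ^ 2 = -1) :
    ∃ x y : MulAut (Multiplicative (R × R)), x ^ (2 * 2) = 1 ∧ y * y = x ^ 2 ∧ x * y = y * x⁻¹ ∧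
      ∀ v, (x ^ 2) v = v⁻¹ := by
  obtain ⟨x₀, hx, hxs⟩ : ∃ x : R × R ≃+ R × R, (∀ v, x v = (-v.2, v.1)) ∧ (∀ v, x.symm v = (v.2, -v.1)) :=
    ⟨{ toFun := fun v => (-v.2, v.1)
       invFun := fun v => (v.2, -v.1)
       left_inv := fun v => by simp
       right_inv := fun v => by simp
       map_add' := fun u v => by ext <;> simp [add_comm] }, fun v => rfl, fun v => rfl⟩
  obtain ⟨y₀, hy⟩ : ∃ y : R × R ≃+ R × R, (∀ v, y v = (a * v.1 + b * v.2, b * v.1 - a * v.2)) :=
    ⟨{ toFun := fun v => (a * v.1 + b * v.2, b * v.1 - a * v.2)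
       invFun := fun v => (-(a * v.1 + b * v.2), -(b * v.1 - a * v.2))
       left_inv := fun v => by
        ext
        · simp only; linear_combination (-v.1) * hab
        · simp only; linear_combination (-v.2) * hab
       right_inv := fun v => by
        ext
        · simp only; linear_combination (-v.1) * hab
        · simp only; linear_combination (-v.2) * hab
       map_add' := fun u v => by ext <;> simp <;> ring }, fun v => rfl⟩
  have h1 : ∀ w, x₀ (x₀ w) = -w := by
    intro w; rw [hx, hx]; ext <;> simp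
  have h2 : ∀ w, y₀ (y₀ w) = -w := by
    intro w; rw [hy, hy]
    ext
    · simp only [Prod.fst_neg]; linear_combination (w.1) * hab
    · simp only [Prod.snd_neg]; linear_combination (w.2) * hab
  have h3 : ∀ w, x₀ (y₀ w) = y₀ (x₀.symm w) := by
    intro w; rw [hxs, hy, hy, hx]
    ext
    · simp only; ring
    · simp only; ring
  obtain ⟨x, hxdef⟩ : ∃ x : MulAut (Multiplicative (R × R)), x = AddEquiv.toMultiplicative x₀ := ⟨_, rfl⟩
  obtain ⟨y, hydef⟩ : ∃ y : MulAut (Multiplicative (R × R)), y = AddEquiv.toMultiplicative y₀ := ⟨_, rfl⟩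
  have hxv : ∀ v, x v = Multiplicative.ofAdd (x₀ (Multiplicative.toAdd v)) := fun v => by rw [hxdef]; rfl
  have hyv : ∀ v, y v = Multiplicative.ofAdd (y₀ (Multiplicative.toAdd v)) := fun v => by rw [hydef]; rfl
  have hxiv : ∀ v, x⁻¹ v = Multiplicative.ofAdd (x₀.symm (Multiplicative.toAdd v)) := fun v => by rw [hxdef]; rfl
  have hx2 : ∀ v, (x ^ 2) v = v⁻¹ := by
    intro v
    rw [pow_two, MulAut.mul_apply, hxv, hxv, toAdd_ofAdd, h1]; rfl
  refine ⟨x, y, ?_, ?_, ?_, hx2⟩
  · ext v : 1
    rw [pow_mul, pow_two, MulAut.mul_apply, hx2, hx2, inv_inv, MulAut.one_apply]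
  · ext v : 1
    rw [MulAut.mul_apply, hx2, hyv, hyv, toAdd_ofAdd, h2]; rfl
  · ext v : 1
    rw [MulAut.mul_apply, MulAut.mul_apply, hxiv, hyv, hyv, hxv, toAdd_ofAdd, toAdd_ofAdd, h3]

theorem quat_two_cases : ∀ h : QuaternionGroup 2, h ≠ 1 →
    h = QuaternionGroup.a 2 ∨ h * h = QuaternionGroup.a 2 := by
  decide

theorem quat_two_not_comm : (QuaternionGroup.a 1 : QuaternionGroup 2) * QuaternionGroup.xa 0 ≠
    QuaternionGroup.xa 0 * QuaternionGroup.a 1 := by
  decide

open Cfsg.Agent.Lib.Helper18 in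
theorem construct (n : ℕ) (hodd : Odd (n * n)) (hn : 1 < n * n) :
    ∃ (L : Type) (_ : Group L) (_ : Finite L) (H : Subgroup L), Cfsg.IsFrobeniusComplement H ∧
        Nonempty (H ≃* QuaternionGroup 2) ∧ Nat.card (Cfsg.frobeniusKernel H) = n * n := by
  have hnpos : 0 < n := by
    rcases Nat.eq_zero_or_pos n with h | h
    · rw [h] at hn; omega
    · exact h
  obtain ⟨R, iR, iF, hcard, a, b, hab⟩ := exists_ring_sq_add_sq n hnpos
  obtain ⟨x, y, hx4, hyy, hxy, hx2⟩ := exists_quat_mulAut a b hab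
  obtain ⟨f, hfa, hfx⟩ := exists_quaternionGroup_hom 2 x y hx4 hyy hxy
  have hcardN : Nat.card (Multiplicative (R × R)) = n * n := by
    rw [Nat.card_congr Multiplicative.toAdd, Nat.card_prod, hcard]
  have hfs : f (QuaternionGroup.a 2) = x ^ 2 := by
    have : (QuaternionGroup.a 2 : QuaternionGroup 2) = QuaternionGroup.a 1 * QuaternionGroup.a 1 := by
      decide
    rw [this, map_mul, hfa, pow_two]
  have htors : ∀ v : Multiplicative (R × R), v⁻¹ = v → v = 1 := by
    intro v hv
    have h1 : v ^ 2 = 1 := by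
      rw [pow_two]
      nth_rewrite 1 [← hv]
      exact inv_mul_cancel v
    have h2 : v ^ (n * n) = 1 := by rw [← hcardN]; exact pow_card_eq_one'
    have h3 : v ^ Nat.gcd 2 (n * n) = 1 := pow_gcd_eq_one.mpr ⟨h1, h2⟩
    have h4 : Nat.gcd 2 (n * n) = 1 := Nat.coprime_two_left.mpr hodd
    rwa [h4, pow_one] at h3
  have hfree : ∀ h : QuaternionGroup 2, h ≠ 1 → ∀ v : Multiplicative (R × R), f h v = v → v = 1 := by
    intro h hh v hv
    apply htors
    rcases quat_two_cases h hh with rfl | h2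
    · rw [← hx2, ← hfs, hv]
    · rw [← hx2, ← hfs, ← h2, map_mul, MulAut.mul_apply, hv, hv]
  have hNnt : Nontrivial (Multiplicative (R × R)) := by
    rw [← Finite.one_lt_card_iff_nontrivial, hcardN]; exact hn
  have hLfin : Finite (Multiplicative (R × R) ⋊[f] QuaternionGroup 2) :=
    Finite.of_equiv _ SemidirectProduct.equivProd.symm
  have hC := frob_core f hfree
  refine ⟨Multiplicative (R × R) ⋊[f] QuaternionGroup 2, inferInstance, hLfin, _, hC,
    ⟨(MonoidHom.ofInjective SemidirectProduct.inr_injective).symm⟩, ?_⟩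
  obtain ⟨K, hD⟩ := exists_frobData _ hC
  have hset : Cfsg.frobeniusKernel (SemidirectProduct.inr : QuaternionGroup 2 →* _ ⋊[f] _).range = (K : Set _) :=
    Set.ext fun x => (hD.mem x).symm
  have hcardK : Nat.card (Cfsg.frobeniusKernel (SemidirectProduct.inr : QuaternionGroup 2 →* _ ⋊[f] _).range)
      = Nat.card K := by rw [hset]; rfl
  rw [hcardK]
  have h1 := hD.isCompl.card_mul_card
  have h2 : Nat.card (SemidirectProduct.inr : QuaternionGroup 2 →* _ ⋊[f] _).range = 8 := by
    rw [← Nat.card_congr (MonoidHom.ofInjective (SemidirectProduct.inr_injective (φ := f))).toEquiv,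
      Nat.card_eq_fintype_card, QuaternionGroup.card]
  have h3 : Nat.card (Multiplicative (R × R) ⋊[f] QuaternionGroup 2) = n * n * 8 := by
    rw [Nat.card_congr SemidirectProduct.equivProd, Nat.card_prod, hcardN, Nat.card_eq_fintype_card,
      QuaternionGroup.card]
  rw [h2, h3] at h1
  exact Nat.eq_of_mul_eq_mul_right (by norm_num) h1

theorem necessary {L : Type} [Group L] [Finite L] (H : Subgroup L)
    (hH : Cfsg.IsFrobeniusComplement H) (e : H ≃* QuaternionGroup 2) :
    Odd (Nat.card (Cfsg.frobeniusKernel H)) ∧ IsSquare (Nat.card (Cfsg.frobeniusKernel H)) ∧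
      1 < Nat.card (Cfsg.frobeniusKernel H) := by
  have hcardH : Nat.card H = 2 ^ 3 := by
    rw [Nat.card_congr e.toEquiv, Nat.card_eq_fintype_card, QuaternionGroup.card]
    norm_num
  have : Fact (Nat.Prime 2) := ⟨Nat.prime_two⟩
  have hpH : IsPGroup 2 H := IsPGroup.of_card hcardH
  have hnc : ∀ P : Sylow 2 H, ¬ IsCyclic P := by
    intro P hP
    have htop : (⊤ : Subgroup H) = P := P.is_maximal' (hpH.to_subgroup ⊤) le_top
    obtain ⟨u, hu⟩ : ∃ u : H, e u = QuaternionGroup.a 1 := e.surjective _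
    obtain ⟨v, hv⟩ : ∃ v : H, e v = QuaternionGroup.xa 0 := e.surjective _
    have huP : u ∈ (P : Subgroup H) := htop ▸ Subgroup.mem_top u
    have hvP : v ∈ (P : Subgroup H) := htop ▸ Subgroup.mem_top v
    have hcomm : (⟨u, huP⟩ : (P : Subgroup H)) * ⟨v, hvP⟩ = ⟨v, hvP⟩ * ⟨u, huP⟩ := by
      exact mul_comm' _ _
    have h2 : u * v = v * u := congrArg Subtype.val hcomm
    have h3 := congrArg e h2
    rw [map_mul, map_mul, hu, hv] at h3
    exact quat_two_not_comm h3
  obtain ⟨h1, h2⟩ := Cfsg.Agent.S4296.result H hH ⟨2, this, default, hnc default⟩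
  refine ⟨h1, h2, ?_⟩
  obtain ⟨N, hD⟩ := exists_frobData H hH
  have hset : Cfsg.frobeniusKernel H = (N : Set L) := Set.ext fun x => (hD.mem x).symm
  have hcardK : Nat.card (Cfsg.frobeniusKernel H) = Nat.card N := by rw [hset]; rfl
  rw [hcardK, Subgroup.one_lt_card_iff_ne_bot]
  intro h
  have h1 := hD.isCompl.card_mul_card
  rw [h, Subgroup.card_bot, one_mul] at h1
  exact hH.2.1 ((Subgroup.card_eq_iff_eq_top H).mp h1)

end Cfsg.Agent.S4295

namespace Cfsg.Agent.S4295

/-- For a natural number m the following are equivalent: (a) some finite group has a Frobenius complement isomorphic to the quaternion group of order 8 whose Frobenius kernel (the identity together with the elements lying in no conjugate of the complement) has exactly m elements; (b) m is an odd perfect square greater than 1. -/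
theorem result (m : ℕ) :
    (∃ (L : Type) (_ : Group L) (_ : Finite L) (H : Subgroup L), Cfsg.IsFrobeniusComplement H ∧
        Nonempty (H ≃* QuaternionGroup 2) ∧ Nat.card (Cfsg.frobeniusKernel H) = m) ↔
    (Odd m ∧ IsSquare m ∧ 1 < m) := by
  constructor
  · rintro ⟨L, iG, iF, H, hH, ⟨e⟩, rfl⟩
    exact necessary H hH e
  · rintro ⟨hodd, ⟨n, rfl⟩, hlt⟩
    exact construct n hodd hlt

end Cfsg.Agent.S4295
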