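import Cfsg.Statements.S4297
import Cfsg.Agent.Lib.Helper18.FrobConstruct
import Mathlib.NumberTheory.PrimesCongruentOne
import Mathlib.GroupTheory.SpecificGroups.Cyclic
import Mathlib.GroupTheory.SpecificGroups.Quaternion
import Mathlib.RingTheory.IntegralDomain
import Mathlib.Data.ZMod.Units
import Mathlib.Tactic.Ring
import Mathlib.Tactic.Abel

set_option autoImplicit false
open Cfsg
open Cfsg.Agent.Lib.Helper18

namespace Cfsg.Agent.S4297

/-- The representation of the dicyclic group on `F × F` attached to a multiplicative map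
`w : ZMod (2n) → F` with `w n = -1`. -/
def rhoFun {n : ℕ} {F : Type*} [CommRing F] (w : ZMod (2 * n) → F) :
    QuaternionGroup n → AddMonoid.End (F × F)
  | QuaternionGroup.a i =>
      { toFun := fun v => (w i * v.1, w (-i) * v.2)
        map_zero' := by simp
        map_add' := fun u v => by ext <;> simp [mul_add] }
  | QuaternionGroup.xa j =>
      { toFun := fun v => (-(w (-j)) * v.2, w j * v.1)
        map_zero' := by simp
        map_add' := fun u v => by ext <;> simp [mul_add] }

def rho {n : ℕ} {F : Type*} [CommRing F] (w : ZMod (2 * n) → F) (w0 : w 0 = 1)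
    (wadd : ∀ i j, w (i + j) = w i * w j) (wn : w (n : ZMod (2 * n)) = -1) :
    QuaternionGroup n →* AddMonoid.End (F × F) where
  toFun := rhoFun w
  map_one' := by
    rw [QuaternionGroup.one_def]
    ext v
    · show w 0 * v.1 = v.1
      rw [w0, one_mul]
    · show w (-0) * v.2 = v.2
      rw [neg_zero, w0, one_mul]
  map_mul' := by
    have wneg : ∀ i, w (-i) * w i = 1 := fun i => by rw [← wadd, neg_add_cancel, w0]
    rintro (i | i) (j | j)
    · rw [QuaternionGroup.a_mul_a]
      ext v
      · show w (i + j) * v.1 = w i * (w j * v.1)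
        rw [wadd]; ring
      · show w (-(i + j)) * v.2 = w (-i) * (w (-j) * v.2)
        rw [neg_add, wadd]; ring
    · rw [QuaternionGroup.a_mul_xa]
      ext v
      · show -(w (-(j - i))) * v.2 = w i * (-(w (-j)) * v.2)
        have : -(j - i) = i + -j := by abel
        rw [this, wadd]; ring
      · show w (j - i) * v.1 = w (-i) * (w j * v.1)
        have : j - i = -i + j := by abel
        rw [this, wadd]; ring
    · rw [QuaternionGroup.xa_mul_a]
      ext v
      · show -(w (-(i + j))) * v.2 = -(w (-i)) * (w (-j) * v.2)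
        rw [neg_add, wadd]; ring
      · show w (i + j) * v.1 = w i * (w j * v.1)
        rw [wadd]; ring
    · rw [QuaternionGroup.xa_mul_xa]
      ext v
      · show w ((n : ZMod (2 * n)) + j - i) * v.1 = -(w (-i)) * (w j * v.1)
        have : (n : ZMod (2 * n)) + j - i = (n : ZMod (2 * n)) + (j + -i) := by abel
        rw [this, wadd, wadd, wn]; ring
      · show w (-((n : ZMod (2 * n)) + j - i)) * v.2 = w i * (-(w (-j)) * v.2)
        have : -((n : ZMod (2 * n)) + j - i) = -(n : ZMod (2 * n)) + (i + -j) := by abel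
        have hnn : w (-(n : ZMod (2 * n))) = -1 := by
          have h1 := wneg (n : ZMod (2 * n))
          rw [wn] at h1
          have : w (-(n : ZMod (2 * n))) = -(w (-(n : ZMod (2 * n))) * -1) := by ring
          rw [this, h1]
        rw [this, wadd, wadd, hnn]; ring

/-- For every n ≥ 2 the dicyclic group of order 4n (generated by an element a of order 2n and an element x with x² = aⁿ and x a x⁻¹ = a⁻¹) occurs as a Frobenius complement of some finite Frobenius group. -/
theorem result (n : ℕ) (hn : 2 ≤ n) :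
    ∃ (L : Type) (_ : Group L) (_ : Finite L) (H : Subgroup L), Cfsg.IsFrobeniusComplement H ∧ Nonempty (H ≃* QuaternionGroup n) := by
  classical
  haveI : NeZero n := ⟨by omega⟩
  have hN0 : 2 * n ≠ 0 := by omega
  obtain ⟨p, hp, _, hpn⟩ := Nat.exists_prime_gt_modEq_one (k := 2 * n) 1 hN0
  haveI : Fact p.Prime := ⟨hp⟩
  have hdvd : 2 * n ∣ p - 1 := (Nat.modEq_iff_dvd' hp.one_lt.le).mp hpn.symm
  obtain ⟨m, hm⟩ := hdvd
  have hp1 : 0 < p - 1 := by have := hp.two_le; omega
  have hm0 : m ≠ 0 := by
    rintro rfl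
    rw [mul_zero] at hm; omega
  have hp5 : 5 ≤ p := by
    have : 1 ≤ m := Nat.pos_of_ne_zero hm0
    have h4 : 4 ≤ 2 * n * m := by nlinarith
    omega
  obtain ⟨g, hg⟩ := IsCyclic.exists_generator (α := (ZMod p)ˣ)
  have hordg : orderOf g = p - 1 := by
    rw [orderOf_eq_card_of_forall_mem_zpowers hg, Nat.card_eq_fintype_card, ZMod.card_units_eq_totient,
      Nat.totient_prime hp]
  set ζ := g ^ m with hζ
  have hordζ : orderOf ζ = 2 * n := by
    rw [hζ, orderOf_pow_of_dvd hm0 (by rw [hordg, hm]; exact dvd_mul_left m (2 * n)), hordg, hm,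
      Nat.mul_div_cancel _ (Nat.pos_of_ne_zero hm0)]
  -- the character χ : ZMod (2n) →+ Additive (ZMod p)ˣ
  let χ : ZMod (2 * n) →+ Additive ((ZMod p)ˣ) :=
    ZMod.lift (2 * n) ⟨zmultiplesHom (Additive ((ZMod p)ˣ)) (Additive.ofMul ζ), by
      show ((2 * n : ℕ) : ℤ) • Additive.ofMul ζ = 0
      rw [natCast_zsmul, ← ofMul_pow, ← hordζ, pow_orderOf_eq_one]; rfl⟩
  have hχcoe : ∀ k : ℕ, χ (k : ZMod (2 * n)) = Additive.ofMul (ζ ^ k) := by
    intro k
    have := ZMod.lift_coe (2 * n) ⟨zmultiplesHom (Additive ((ZMod p)ˣ)) (Additive.ofMul ζ), by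
      show ((2 * n : ℕ) : ℤ) • Additive.ofMul ζ = 0
      rw [natCast_zsmul, ← ofMul_pow, ← hordζ, pow_orderOf_eq_one]; rfl⟩ (k : ℤ)
    rw [Int.cast_natCast] at this
    rw [show χ (k : ZMod (2 * n)) = _ from this]
    show (zmultiplesHom (Additive ((ZMod p)ˣ)) (Additive.ofMul ζ)) (k : ℤ) = _
    rw [zmultiplesHom_apply, natCast_zsmul]; rfl
  have hχinj : Function.Injective χ := by
    rw [ZMod.lift_injective]
    intro k hk
    have h1 : ζ ^ k = 1 := by
      have : (k : ℤ) • Additive.ofMul ζ = 0 := hk
      rw [← ofMul_zpow] at this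
      exact this
    rw [ZMod.intCast_zmod_eq_zero_iff_dvd, ← hordζ]
    exact orderOf_dvd_iff_zpow_eq_one.mpr h1
  let w : ZMod (2 * n) → ZMod p := fun i => ((Additive.toMul (χ i) : (ZMod p)ˣ) : ZMod p)
  have w0 : w 0 = 1 := by
    show ((Additive.toMul (χ 0) : (ZMod p)ˣ) : ZMod p) = 1
    rw [map_zero]; rfl
  have wadd : ∀ i j, w (i + j) = w i * w j := by
    intro i j
    show ((Additive.toMul (χ (i + j)) : (ZMod p)ˣ) : ZMod p) = _
    rw [map_add, toMul_add, Units.val_mul]
  have winj : ∀ i, w i = 1 → i = 0 := by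
    intro i hi
    apply hχinj
    rw [map_zero]
    have : (Additive.toMul (χ i) : (ZMod p)ˣ) = 1 := Units.ext hi
    exact this
  have wn : w (n : ZMod (2 * n)) = -1 := by
    show ((Additive.toMul (χ (n : ZMod (2 * n))) : (ZMod p)ˣ) : ZMod p) = -1
    rw [hχcoe, toMul_ofMul]
    have hsq : ((ζ ^ n : (ZMod p)ˣ) : ZMod p) * ((ζ ^ n : (ZMod p)ˣ) : ZMod p) = 1 := by
      rw [← Units.val_mul, ← pow_add, ← two_mul, ← hordζ, pow_orderOf_eq_one, Units.val_one]
    rcases mul_self_eq_one_iff.mp hsq with h | h
    · exfalso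
      have h1 : ζ ^ n = 1 := Units.ext h
      have h2 : orderOf ζ ∣ n := orderOf_dvd_of_pow_eq_one h1
      rw [hordζ] at h2
      have := Nat.le_of_dvd (by omega) h2
      omega
    · exact h
  have h2ne : (2 : ZMod p) ≠ 0 := by
    intro h
    have h' : ((2 : ℕ) : ZMod p) = 0 := by exact_mod_cast h
    rw [ZMod.natCast_eq_zero_iff] at h'
    have := Nat.le_of_dvd (by norm_num) h'
    omega
  obtain ⟨L, iG, iF, C, hC, ⟨e⟩⟩ := exists_frobenius_of_free_add_action (rho w w0 wadd wn) (by
    have wneg : ∀ i, w (-i) * w i = 1 := fun i => by rw [← wadd, neg_add_cancel, w0]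
    rintro (i | j) hne ⟨x, y⟩ hv
    · have hi : i ≠ 0 := by
        rintro rfl
        exact hne QuaternionGroup.a_zero
      have h1 : w i * x = x := congrArg Prod.fst hv
      have h2 : w (-i) * y = y := congrArg Prod.snd hv
      have hx : x = 0 := by
        have : (w i - 1) * x = 0 := by rw [sub_mul, h1, one_mul, sub_self]
        rcases mul_eq_zero.mp this with h | h
        · exact absurd (winj i (sub_eq_zero.mp h)) hi
        · exact h
      have hy : y = 0 := by
        have : (w (-i) - 1) * y = 0 := by rw [sub_mul, h2, one_mul, sub_self]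
        rcases mul_eq_zero.mp this with h | h
        · exact absurd (neg_eq_zero.mp (winj (-i) (sub_eq_zero.mp h))) hi
        · exact h
      rw [hx, hy]; rfl
    · have h1 : -(w (-j)) * y = x := congrArg Prod.fst hv
      have h2 : w j * x = y := congrArg Prod.snd hv
      have hx : x = 0 := by
        have h3 : x = -x := by
          calc x = -(w (-j)) * (w j * x) := by rw [h2, h1]
            _ = -((w (-j) * w j) * x) := by ring
            _ = -x := by rw [wneg, one_mul]
        have h4 : 2 * x = 0 := by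
          have : x + x = 0 := by nth_rewrite 2 [h3]; ring
          rw [two_mul]; exact this
        rcases mul_eq_zero.mp h4 with h | h
        · exact absurd h h2ne
        · exact h
      have hy : y = 0 := by rw [← h2, hx, mul_zero]
      rw [hx, hy]; rfl)
  exact ⟨L, iG, iF, C, hC, ⟨e.symm⟩⟩

end Cfsg.Agent.S4297
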