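import Cfsg.Statements.S4299
import Cfsg.Agent.Lib.Helper18.FrobConstruct
import Mathlib.NumberTheory.PrimesCongruentOne
import Mathlib.GroupTheory.SpecificGroups.Cyclic
import Mathlib.RingTheory.IntegralDomain
import Mathlib.Data.ZMod.Units

set_option autoImplicit false
open Cfsg
open Cfsg.Agent.Lib.Helper18

namespace Cfsg.Agent.S4299

/-- Every nontrivial finite cyclic group occurs as a Frobenius complement of some finite Frobenius group. -/
theorem result {C : Type*} [Group C] [Finite C] [IsCyclic C] [Nontrivial C] :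
    ∃ (L : Type) (_ : Group L) (_ : Finite L) (H : Subgroup L), Cfsg.IsFrobeniusComplement H ∧ Nonempty (C ≃* H) := by
  classical
  set n := Nat.card C with hn
  have hn0 : n ≠ 0 := Nat.card_pos.ne'
  obtain ⟨p, hp, _, hpn⟩ := Nat.exists_prime_gt_modEq_one (k := n) 1 hn0
  haveI : Fact p.Prime := ⟨hp⟩
  -- n ∣ p - 1
  have hdvd : n ∣ p - 1 := (Nat.modEq_iff_dvd' hp.one_lt.le).mp hpn.symm
  obtain ⟨m, hm⟩ := hdvd
  have hp1 : 0 < p - 1 := by have := hp.two_le; omega
  have hm0 : m ≠ 0 := by
    rintro rfl
    rw [mul_zero] at hm; omega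
  -- generator of the unit group
  obtain ⟨g, hg⟩ := IsCyclic.exists_generator (α := (ZMod p)ˣ)
  have hordg : orderOf g = p - 1 := by
    rw [orderOf_eq_card_of_forall_mem_zpowers hg, Nat.card_eq_fintype_card, ZMod.card_units_eq_totient,
      Nat.totient_prime hp]
  have hordx : orderOf (g ^ m) = n := by
    rw [orderOf_pow_of_dvd hm0 (by rw [hordg, hm]; exact dvd_mul_left m n), hordg, hm,
      Nat.mul_div_cancel _ (Nat.pos_of_ne_zero hm0)]
  -- the iso of C with the subgroup generated by g^m
  have hcard : Nat.card C = Nat.card (Subgroup.zpowers (g ^ m)) := by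
    rw [Nat.card_zpowers, hordx]
  let e : C ≃* Subgroup.zpowers (g ^ m) := mulEquivOfCyclicCardEq hcard
  let ι : C →* (ZMod p)ˣ := (Subgroup.zpowers (g ^ m)).subtype.comp e.toMonoidHom
  have hι : Function.Injective ι := by
    intro a b hab
    apply e.injective
    exact Subtype.ext hab
  -- the action on ZMod p
  let f : C →* AddMonoid.End (ZMod p) :=
    { toFun := fun c => AddMonoidHom.mulLeft ((ι c : (ZMod p)ˣ) : ZMod p)
      map_one' := by
        ext x
        show ((ι 1 : (ZMod p)ˣ) : ZMod p) * x = x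
        rw [map_one, Units.val_one, one_mul]
      map_mul' := fun a b => by
        ext x
        show ((ι (a * b) : (ZMod p)ˣ) : ZMod p) * x
          = ((ι a : (ZMod p)ˣ) : ZMod p) * (((ι b : (ZMod p)ˣ) : ZMod p) * x)
        rw [map_mul, Units.val_mul, mul_assoc] }
  apply exists_frobenius_of_free_add_action f
  intro c hc v hv
  have hv' : ((ι c : (ZMod p)ˣ) : ZMod p) * v = v := hv
  by_contra hv0
  apply hc
  apply hι
  rw [map_one]
  apply Units.ext
  have h1 : (((ι c : (ZMod p)ˣ) : ZMod p) - 1) * v = 0 := by rw [sub_mul, hv', one_mul, sub_self]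
  rcases mul_eq_zero.mp h1 with h | h
  · rw [Units.val_one]; exact sub_eq_zero.mp h
  · exact absurd h hv0

end Cfsg.Agent.S4299
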