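import Cfsg.Statements.S4300
import Mathlib.GroupTheory.GroupAction.Primitive

set_option autoImplicit false
open Cfsg

namespace Cfsg.Agent.S4300

/-- Let G act faithfully and primitively on a set X, and suppose the stabilizer of some point is a simple group. Then either G is simple, or G has a normal subgroup, neither trivial nor the whole group, that acts regularly on X (transitively with trivial point stabilizers). -/
theorem result {G : Type*} [Group G] {X : Type*} [MulAction G X] [FaithfulSMul G X]
    (hprim : MulAction.IsPreprimitive G X) (x : X) (hsimple : IsSimpleGroup (MulAction.stabilizer G x)) :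
    IsSimpleGroup G ∨ ∃ N : Subgroup G, N.Normal ∧ N ≠ ⊥ ∧ N ≠ ⊤ ∧
      MulAction.IsPretransitive N X ∧ ∀ y : X, MulAction.stabilizer N y = ⊥ := by
  classical
  by_cases hs : IsSimpleGroup G
  · exact Or.inl hs
  right
  haveI : Nontrivial G := by
    have h1 : Nontrivial (MulAction.stabilizer G x) := hsimple.toNontrivial
    obtain ⟨a, b, hab⟩ := h1
    exact ⟨⟨a, b, fun h => hab (Subtype.ext h)⟩⟩
  have hex : ∃ N : Subgroup G, N.Normal ∧ N ≠ ⊥ ∧ N ≠ ⊤ := by
    by_contra hcon
    push Not at hcon
    exact hs ⟨fun N hN => by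
      by_cases h : N = ⊥
      · left; exact h
      · right; exact hcon N hN h⟩
  obtain ⟨N, hN, hbot, htop⟩ := hex
  haveI := hN
  haveI := hprim
  have htrans : MulAction.IsPretransitive N X := by
    apply MulAction.IsQuasiPreprimitive.isPretransitive_of_normal (G := G) (N := N)
    intro hfix
    apply hbot
    rw [eq_bot_iff]
    intro n hn
    rw [Subgroup.mem_bot]
    apply FaithfulSMul.eq_of_smul_eq_smul (α := X)
    intro y
    have hy : y ∈ MulAction.fixedPoints N X := by rw [hfix]; trivial
    have := hy ⟨n, hn⟩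
    simpa using this
  refine ⟨N, hN, hbot, htop, htrans, ?_⟩
  -- N ⊓ G_x = ⊥
  have hNx : ∀ n ∈ N, n • x = x → n = 1 := by
    have hnorm : (N.subgroupOf (MulAction.stabilizer G x)).Normal := inferInstance
    rcases hsimple.eq_bot_or_eq_top_of_normal _ hnorm with h | h
    · intro n hn hnx
      have hmem : (⟨n, hnx⟩ : MulAction.stabilizer G x) ∈ N.subgroupOf (MulAction.stabilizer G x) := by
        rw [Subgroup.mem_subgroupOf]; exact hn
      rw [h, Subgroup.mem_bot] at hmem
      simpa using congrArg Subtype.val hmem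
    · exfalso
      apply htop
      rw [Subgroup.subgroupOf_eq_top] at h
      rw [eq_top_iff]
      intro g _
      obtain ⟨n, hn⟩ := htrans.exists_smul_eq x (g • x)
      have h2 : (n : G)⁻¹ * g ∈ MulAction.stabilizer G x := by
        rw [MulAction.mem_stabilizer_iff, mul_smul, ← hn]
        change (n : G)⁻¹ • ((n : G) • x) = x
        rw [inv_smul_smul]
      have h3 := h h2
      have : g = (n : G) * ((n : G)⁻¹ * g) := by group
      rw [this]
      exact N.mul_mem n.2 h3
  intro y
  rw [eq_bot_iff]
  intro m hm
  rw [Subgroup.mem_bot]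
  obtain ⟨n, hn⟩ := htrans.exists_smul_eq x y
  have hm' : (m : G) • y = y := hm
  have hn' : (n : G) • x = y := hn
  have h4 : ((n : G)⁻¹ * m * n) • x = x := by
    rw [mul_smul, mul_smul, hn', hm', ← hn', inv_smul_smul]
  have h5 : (n : G)⁻¹ * m * n = 1 :=
    hNx _ (N.mul_mem (N.mul_mem (N.inv_mem n.2) m.2) n.2) h4
  have h6 : (m : G) = 1 := by
    have : (m : G) = n * ((n : G)⁻¹ * m * n) * (n : G)⁻¹ := by group
    rw [this, h5]; group
  exact Subtype.ext h6

end Cfsg.Agent.S4300
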