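import Cfsg.Statements.S4301
import Mathlib

set_option autoImplicit false
set_option maxHeartbeats 800000
open Cfsg

namespace Cfsg.Agent.S4301

theorem exists_perm_two {α : Type*} [DecidableEq α] (a b a' b' : α) (hab : a ≠ b)
    (hab' : a' ≠ b') : ∃ σ : Equiv.Perm α, σ a = a' ∧ σ b = b' := by
  obtain ⟨b₁, hb₁⟩ : ∃ b₁ : α, b₁ = Equiv.swap a a' b := ⟨_, rfl⟩
  have hb₁a' : b₁ ≠ a' := by
    intro h
    rw [hb₁] at h
    have : Equiv.swap a a' b = Equiv.swap a a' a := by rw [h, Equiv.swap_apply_left]
    exact hab ((Equiv.swap a a').injective this).symm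
  refine ⟨Equiv.swap b₁ b' * Equiv.swap a a', ?_, ?_⟩
  · rw [Equiv.Perm.mul_apply, Equiv.swap_apply_left,
      Equiv.swap_apply_of_ne_of_ne hb₁a'.symm hab']
  · rw [Equiv.Perm.mul_apply, ← hb₁, Equiv.swap_apply_left]

/-- One-point extension of a multiply transitive group. Let X be a set and G a group of permutations of Option X (the set X with one extra point ∗ = none) all of whose elements fix ∗, such that G is k-transitive on the points of X for some k ≥ 2, X having at least k points. Suppose a permutation h of Option X and an element g of G satisfy: h interchanges ∗ with a point x of X and fixes a point y of X; g interchanges x and y; (g h)³ and h² lie in G; and for every f in G fixing x, the product h f h lies in G and fixes x. Then an element of the group generated by G and h fixes ∗ exactly when it lies in G, and that group acts (k+1)-transitively on Option X. -/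
theorem result {X : Type*} (G : Subgroup (Equiv.Perm (Option X))) (hfix : ∀ f ∈ G, f none = none)
    (k : ℕ) (hk : 2 ≤ k) (hkX : Nonempty (Fin k ↪ X))
    (htrans : ∀ a b : Fin k ↪ X, ∃ f ∈ G, ∀ i, f (some (a i)) = some (b i))
    (h g : Equiv.Perm (Option X)) (hg : g ∈ G) (x y : X)
    (h1 : h none = some x) (h2 : h (some x) = none) (h3 : h (some y) = some y)
    (h4 : g (some x) = some y) (h5 : g (some y) = some x)
    (h6 : (g * h) ^ 3 ∈ G) (h7 : h ^ 2 ∈ G)
    (h8 : ∀ f ∈ G, f (some x) = some x → h * f * h ∈ G ∧ (h * f * h) (some x) = some x) :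
    (∀ f ∈ Subgroup.closure ((G : Set (Equiv.Perm (Option X))) ∪ {h}), f none = none ↔ f ∈ G) ∧
      MulAction.IsMultiplyPretransitive (Subgroup.closure ((G : Set (Equiv.Perm (Option X))) ∪ {h})) (Option X) (k + 1) := by
  classical
  obtain ⟨c⟩ := hkX
  obtain ⟨i0, hi0⟩ : ∃ i0 : Fin k, i0 = ⟨0, by omega⟩ := ⟨_, rfl⟩
  obtain ⟨i1, hi1⟩ : ∃ i1 : Fin k, i1 = ⟨1, by omega⟩ := ⟨_, rfl⟩
  have hi01 : i0 ≠ i1 := by
    rw [hi0, hi1]; intro h; simp [Fin.ext_iff] at h
  have hc01 : c i0 ≠ c i1 := fun h => hi01 (c.injective h)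
  have hxy : x ≠ y := by
    intro hxy
    rw [hxy] at h2
    rw [h2] at h3
    cases h3
  -- two-transitivity
  have two_trans : ∀ p q p' q' : X, p ≠ q → p' ≠ q' →
      ∃ f ∈ G, f (some p) = some p' ∧ f (some q) = some q' := by
    intro p q p' q' hpq hpq'
    obtain ⟨σ, hσ0, hσ1⟩ := exists_perm_two (c i0) (c i1) p q hc01 hpq
    obtain ⟨σ', hσ'0, hσ'1⟩ := exists_perm_two (c i0) (c i1) p' q' hc01 hpq'
    obtain ⟨f, hf, hfi⟩ := htrans (c.trans σ.toEmbedding) (c.trans σ'.toEmbedding)
    refine ⟨f, hf, ?_, ?_⟩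
    · have := hfi i0
      simp only [Function.Embedding.trans_apply, Equiv.coe_toEmbedding] at this
      rwa [hσ0, hσ'0] at this
    · have := hfi i1
      simp only [Function.Embedding.trans_apply, Equiv.coe_toEmbedding] at this
      rwa [hσ1, hσ'1] at this
  have one_trans : ∀ p p' : X, ∃ f ∈ G, f (some p) = some p' := by
    intro p p'
    obtain ⟨f, hf, hfi⟩ := htrans (c.trans (Equiv.swap (c i0) p).toEmbedding)
      (c.trans (Equiv.swap (c i0) p').toEmbedding)
    refine ⟨f, hf, ?_⟩
    have := hfi i0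
    simp only [Function.Embedding.trans_apply, Equiv.coe_toEmbedding,
      Equiv.swap_apply_left] at this
    exact this
  -- elements of G map points of X to points of X
  have hsome : ∀ f ∈ G, ∀ p : X, ∃ p' : X, f (some p) = some p' := by
    intro f hf p
    have hne : f (some p) ≠ none := by
      intro hcon
      have := hfix f hf
      rw [← this] at hcon
      exact Option.some_ne_none p (f.injective hcon)
    exact Option.ne_none_iff_exists'.mp hne
  -- the inverse of h
  have hinv : h⁻¹ = h * (h ^ 2)⁻¹ := by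
    rw [pow_two]; group
  have hinv' : h⁻¹ = (h ^ 2)⁻¹ * h := by
    rw [pow_two]; group
  have h7i : (h ^ 2)⁻¹ ∈ G := G.inv_mem h7
  -- h g h ∈ G h G
  have hghg : ∃ a ∈ G, ∃ b ∈ G, h * g * h = a * h * b := by
    refine ⟨g⁻¹ * (g * h) ^ 3 * (h ^ 2)⁻¹, ?_, g⁻¹, G.inv_mem hg, ?_⟩
    · exact G.mul_mem (G.mul_mem (G.inv_mem hg) h6) h7i
    · have e1 : g⁻¹ * (g * h) ^ 3 * (h ^ 2)⁻¹ * h * g⁻¹ = g⁻¹ * (g * h) ^ 3 * ((h ^ 2)⁻¹ * h) * g⁻¹ := by
        group
      rw [e1, ← hinv', pow_three]
      group
  have hgh' : ∃ a ∈ G, ∃ b ∈ G, h⁻¹ * g * h⁻¹ = a * h * b := by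
    obtain ⟨a, ha, b, hb, hab⟩ := hghg
    refine ⟨(h ^ 2)⁻¹ * a, G.mul_mem h7i ha, b * (h ^ 2)⁻¹, G.mul_mem hb h7i, ?_⟩
    have e1 : h⁻¹ * g * h⁻¹ = (h ^ 2)⁻¹ * (h * g * h) * (h ^ 2)⁻¹ := by
      nth_rewrite 1 [hinv']
      nth_rewrite 1 [hinv]
      group
    rw [e1, hab]; group
  -- the double coset description
  obtain ⟨D, hD⟩ : ∃ D : Set (Equiv.Perm (Option X)),
      D = {f | f ∈ G ∨ ∃ a ∈ G, ∃ b ∈ G, f = a * h * b} := ⟨_, rfl⟩
  have key : ∀ f ∈ G, h * f * h ∈ D := by
    intro f hf
    rw [hD]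
    by_cases hfx : f (some x) = some x
    · exact Or.inl (h8 f hf hfx).1
    · right
      obtain ⟨z, hz⟩ := hsome f hf x
      have hzx : z ≠ x := by
        intro h
        rw [h] at hz
        exact hfx hz
      obtain ⟨u, hu, hux, huz⟩ := two_trans x z x y (Ne.symm hzx) hxy
      -- v = g⁻¹ u f fixes x
      obtain ⟨v, hv⟩ : ∃ v, v = g⁻¹ * u * f := ⟨_, rfl⟩
      have hvG : v ∈ G := by rw [hv]; exact G.mul_mem (G.mul_mem (G.inv_mem hg) hu) hf
      have hvx : v (some x) = some x := by
        rw [hv, Equiv.Perm.mul_apply, Equiv.Perm.mul_apply, hz, huz]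
        exact Equiv.Perm.inv_eq_iff_eq.mpr h4.symm
      have hu'x : u⁻¹ (some x) = some x := by
        exact Equiv.Perm.inv_eq_iff_eq.mpr hux.symm
      have hA := (h8 u⁻¹ (G.inv_mem hu) hu'x).1
      have hB := (h8 v hvG hvx).1
      obtain ⟨a, ha, b, hb, hab⟩ := hgh'
      refine ⟨h * u⁻¹ * h * a, G.mul_mem hA ha, b * (h * v * h), G.mul_mem hb hB, ?_⟩
      have e1 : h * f * h = (h * u⁻¹ * h) * (h⁻¹ * g * h⁻¹) * (h * v * h) := by
        rw [hv]; group
      rw [e1, hab]; group
  have hsub : Subgroup.closure ((G : Set (Equiv.Perm (Option X))) ∪ {h}) ≤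
      ({ carrier := D
         one_mem' := by rw [hD]; exact Or.inl G.one_mem
         mul_mem' := by
           intro p q hp hq
           rw [hD] at hp hq
           rcases hp with hp | ⟨a, ha, b, hb, rfl⟩
           · rcases hq with hq | ⟨a', ha', b', hb', rfl⟩
             · rw [hD]; exact Or.inl (G.mul_mem hp hq)
             · rw [hD]; right
               exact ⟨p * a', G.mul_mem hp ha', b', hb', by group⟩
           · rcases hq with hq | ⟨a', ha', b', hb', rfl⟩
             · rw [hD]; right
               exact ⟨a, ha, b * q, G.mul_mem hb hq, by group⟩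
             · have hk := key (b * a') (G.mul_mem hb ha')
               rw [hD] at hk
               have e1 : a * h * b * (a' * h * b') = a * (h * (b * a') * h) * b' := by group
               rcases hk with hk | ⟨a'', ha'', b'', hb'', hk⟩
               · rw [hD]; left
                 rw [e1]; exact G.mul_mem (G.mul_mem ha hk) hb'
               · rw [hD]; right
                 refine ⟨a * a'', G.mul_mem ha ha'', b'' * b', G.mul_mem hb'' hb', ?_⟩
                 rw [e1, hk]; group
         inv_mem' := by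
           intro p hp
           rw [hD] at hp
           rcases hp with hp | ⟨a, ha, b, hb, rfl⟩
           · rw [hD]; exact Or.inl (G.inv_mem hp)
           · rw [hD]; right
             refine ⟨b⁻¹, G.inv_mem hb, (h ^ 2)⁻¹ * a⁻¹, G.mul_mem h7i (G.inv_mem ha), ?_⟩
             have e1 : (a * h * b)⁻¹ = b⁻¹ * h⁻¹ * a⁻¹ := by group
             rw [e1, hinv]; group } : Subgroup (Equiv.Perm (Option X))) := by
    rw [Subgroup.closure_le]
    rintro f (hf | hf)
    · show f ∈ D
      rw [hD]; exact Or.inl hf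
    · show f ∈ D
      rw [hD]; right
      rw [Set.mem_singleton_iff] at hf
      exact ⟨1, G.one_mem, 1, G.one_mem, by rw [hf]; group⟩
  have hGle : G ≤ Subgroup.closure ((G : Set (Equiv.Perm (Option X))) ∪ {h}) := by
    intro f hf
    exact Subgroup.subset_closure (Or.inl hf)
  have hhmem : h ∈ Subgroup.closure ((G : Set (Equiv.Perm (Option X))) ∪ {h}) :=
    Subgroup.subset_closure (Or.inr rfl)
  constructor
  · intro f hf
    constructor
    · intro hfn
      have hfD : f ∈ D := hsub hf
      rw [hD] at hfD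
      rcases hfD with hfD | ⟨a, ha, b, hb, rfl⟩
      · exact hfD
      · exfalso
        rw [Equiv.Perm.mul_apply, Equiv.Perm.mul_apply, hfix b hb, h1] at hfn
        obtain ⟨p', hp'⟩ := hsome a ha x
        rw [hp'] at hfn
        cases hfn
    · exact hfix f
  · -- (k+1)-transitivity
    obtain ⟨Γ, hΓ⟩ : ∃ Γ : Subgroup (Equiv.Perm (Option X)),
        Γ = Subgroup.closure ((G : Set (Equiv.Perm (Option X))) ∪ {h}) := ⟨_, rfl⟩
    rw [← hΓ]
    rw [← hΓ] at hGle hhmem
    -- move any point to none
    have tonone : ∀ pt : Option X, ∃ γ ∈ Γ, γ pt = none := by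
      intro pt
      cases pt with
      | none => exact ⟨1, Γ.one_mem, rfl⟩
      | some z =>
        obtain ⟨f, hf, hfz⟩ := one_trans z x
        refine ⟨h * f, Γ.mul_mem hhmem (hGle hf), ?_⟩
        rw [Equiv.Perm.mul_apply, hfz, h2]
    -- embeddings with last point none
    have step : ∀ w w' : Fin (k + 1) ↪ Option X, w (Fin.last k) = none → w' (Fin.last k) = none →
        ∃ f ∈ G, ∀ j, f (w j) = w' j := by
      intro w w' hw hw'
      have hs : ∀ (w : Fin (k + 1) ↪ Option X), w (Fin.last k) = none →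
          ∃ a : Fin k ↪ X, ∀ i : Fin k, w i.castSucc = some (a i) := by
        intro w hw
        have hs : ∀ i : Fin k, ∃ a : X, w i.castSucc = some a := by
          intro i
          apply Option.ne_none_iff_exists'.mp
          intro hcon
          rw [← hw] at hcon
          have := w.injective hcon
          exact (Fin.castSucc_lt_last i).ne this
        choose a ha using hs
        refine ⟨⟨a, ?_⟩, ha⟩
        intro i j hij
        have : w i.castSucc = w j.castSucc := by rw [ha i, ha j, hij]
        exact Fin.castSucc_injective k (w.injective this)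
      obtain ⟨a, ha⟩ := hs w hw
      obtain ⟨a', ha'⟩ := hs w' hw'
      obtain ⟨f, hf, hfi⟩ := htrans a a'
      refine ⟨f, hf, ?_⟩
      intro j
      induction j using Fin.lastCases with
      | last => rw [hw, hw', hfix f hf]
      | cast i => rw [ha i, ha' i, hfi i]
    constructor
    intro u v
    obtain ⟨γ, hγ, hγu⟩ := tonone (u (Fin.last k))
    obtain ⟨δ, hδ, hδv⟩ := tonone (v (Fin.last k))
    obtain ⟨f, hf, hfj⟩ := step (u.trans γ.toEmbedding) (v.trans δ.toEmbedding)
      (by simpa using hγu) (by simpa using hδv)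
    refine ⟨⟨δ⁻¹ * f * γ, Γ.mul_mem (Γ.mul_mem (Γ.inv_mem hδ) (hGle hf)) hγ⟩, ?_⟩
    apply Function.Embedding.ext
    intro j
    rw [Function.Embedding.smul_apply]
    show (δ⁻¹ * f * γ) (u j) = v j
    have := hfj j
    simp only [Function.Embedding.trans_apply, Equiv.coe_toEmbedding] at this
    rw [Equiv.Perm.mul_apply, Equiv.Perm.mul_apply, this]
    exact Equiv.Perm.inv_eq_iff_eq.mpr rfl

end Cfsg.Agent.S4301
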