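import Mathlib

set_option autoImplicit false

namespace Cfsg.Agent.S4314

/-- A finite group with a core-free nontrivial subgroup `M` of prime index `p`, all of whose
conjugacy classes have size 1 or a prime: `M` has prime order `q ≠ p` and is the centralizer of each
of its non-identity elements. -/
theorem corefree_aux {H : Type*} [Group H] [Finite H] (M : Subgroup H) {p : ℕ} (hp : p.Prime)
    (hidx : M.index = p) (hcore : M.normalCore = ⊥) (hM : M ≠ ⊥)
    (hcl : ∀ x : H, (Subgroup.centralizer ({x} : Set H)).index = 1 ∨
      ((Subgroup.centralizer ({x} : Set H)).index).Prime) :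
    ∃ q : ℕ, q.Prime ∧ q ≠ p ∧ Nat.card M = q ∧
      ∀ t ∈ M, t ≠ 1 → Subgroup.centralizer ({t} : Set H) ≤ M := by
  haveI : Fact p.Prime := ⟨hp⟩
  have hcardH : Nat.card M * p = Nat.card H := by rw [← hidx]; exact M.card_mul_index
  -- |H| divides p!
  have hdvd : Nat.card H ∣ p.factorial := by
    have hinj : Function.Injective (MulAction.toPermHom H (H ⧸ M)) := by
      rw [← MonoidHom.ker_eq_bot_iff, ← Subgroup.normalCore_eq_ker, hcore]
    have := Subgroup.card_dvd_of_injective _ hinj
    rwa [Nat.card_perm, ← Subgroup.index_eq_card, hidx] at this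
  have hMdvd : Nat.card M ∣ (p - 1).factorial := by
    have hp1 : p = (p - 1) + 1 := (Nat.sub_add_cancel hp.one_le).symm
    have h1 : p.factorial = p * (p - 1).factorial := by
      conv_lhs => rw [hp1, Nat.factorial_succ, ← hp1]
    rw [← hcardH, h1, mul_comm] at hdvd
    exact Nat.dvd_of_mul_dvd_mul_left hp.pos hdvd
  have hpM : ¬ p ∣ Nat.card M := by
    intro hd
    have := (hp.dvd_factorial).mp (hd.trans hMdvd)
    have := hp.one_le
    omega
  -- an element of order p
  obtain ⟨y, hy⟩ := exists_prime_orderOf_dvd_card' p (Dvd.intro_left _ hcardH)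
  have hcz : Nat.card (Subgroup.zpowers y) = p := by rw [Nat.card_zpowers, hy]
  have hcompl : M.IsComplement' (Subgroup.zpowers y) := by
    apply Subgroup.isComplement'_of_coprime
    · rw [hcz]; exact hcardH
    · rw [hcz]; exact (hp.coprime_iff_not_dvd.mpr hpM).symm
  have hdec : ∀ h : H, ∃ m ∈ M, ∃ z ∈ Subgroup.zpowers y, h = m * z := by
    intro h
    obtain ⟨⟨m, z⟩, hmz, -⟩ := (Subgroup.isComplement'_def.mp hcompl).existsUnique h
    exact ⟨m.1, m.2, z.1, z.2, hmz.symm⟩
  obtain ⟨C, hCdef⟩ : ∃ C : Subgroup H, C = Subgroup.centralizer ({y} : Set H) := ⟨_, rfl⟩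
  have hCM : C ⊓ M = ⊥ := by
    rw [eq_bot_iff, ← hcore]
    rintro c ⟨hc1, hc2⟩
    intro h
    obtain ⟨m, hm, z, hz, rfl⟩ := hdec h
    have hzc : z * c = c * z := by
      obtain ⟨k, rfl⟩ := Subgroup.mem_zpowers_iff.mp hz
      have hyc : Commute y c := by
        rw [hCdef] at hc1
        have := (Subgroup.mem_centralizer_iff.mp hc1) y rfl
        exact this
      exact (hyc.zpow_left k).eq
    have : m * z * c * (m * z)⁻¹ = m * c * m⁻¹ := by
      calc m * z * c * (m * z)⁻¹ = m * (z * c) * z⁻¹ * m⁻¹ := by group
        _ = m * (c * z) * z⁻¹ * m⁻¹ := by rw [hzc]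
        _ = m * c * m⁻¹ := by group
    rw [this]
    exact M.mul_mem (M.mul_mem hm hc2) (M.inv_mem hm)
  have hCcard : Nat.card C = p := by
    have h1 : (C ⊓ M).index ≤ C.index * M.index := Subgroup.index_inf_le
    have h2 : (C ⊓ M).index = Nat.card H := by rw [hCM, Subgroup.index_bot]
    have h3 : C.index * Nat.card C = Nat.card H := C.index_mul_card
    have hCi : 0 < C.index := Nat.pos_of_ne_zero C.index_ne_zero_of_finite
    have h4 : Nat.card C ≤ p := by
      rw [h2, ← h3, hidx] at h1
      exact Nat.le_of_mul_le_mul_left h1 hCi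
    have h5 : Subgroup.zpowers y ≤ C := by
      rw [Subgroup.zpowers_le, hCdef, Subgroup.mem_centralizer_iff]
      intro m hm
      rw [Set.mem_singleton_iff.mp hm]
    have h6 : p ∣ Nat.card C := by
      rw [← hcz]; exact Subgroup.card_dvd_of_le h5
    have h7 : 0 < Nat.card C := Nat.card_pos
    exact le_antisymm h4 (Nat.le_of_dvd h7 h6)
  have hCidx : C.index = Nat.card M := by
    have h3 : C.index * Nat.card C = Nat.card H := C.index_mul_card
    rw [hCcard, ← hcardH] at h3
    exact Nat.eq_of_mul_eq_mul_right hp.pos h3
  have hMne1 : Nat.card M ≠ 1 := by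
    intro h1
    apply hM
    exact Subgroup.card_eq_one.mp h1
  have hq : (Nat.card M).Prime := by
    rcases hcl y with h1 | h1
    · rw [← hCdef, hCidx] at h1; exact absurd h1 hMne1
    · rwa [← hCdef, hCidx] at h1
  refine ⟨Nat.card M, hq, ?_, rfl, ?_⟩
  · intro h
    apply hpM
    rw [h]
  · intro t ht ht1
    haveI : Fact (Nat.card M).Prime := ⟨hq⟩
    -- M is cyclic generated by t
    have hzt : Subgroup.zpowers (⟨t, ht⟩ : M) = ⊤ := by
      apply zpowers_eq_top_of_prime_card rfl
      intro h
      apply ht1
      exact congrArg Subtype.val h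
    have hMle : M ≤ Subgroup.centralizer ({t} : Set H) := by
      intro m hm
      have : (⟨m, hm⟩ : M) ∈ Subgroup.zpowers (⟨t, ht⟩ : M) := by rw [hzt]; trivial
      obtain ⟨k, hk⟩ := Subgroup.mem_zpowers_iff.mp this
      have hk' : t ^ k = m := by
        have := congrArg Subtype.val hk
        simpa using this
      rw [Subgroup.mem_centralizer_iff]
      intro s hs
      rw [Set.mem_singleton_iff.mp hs, ← hk']
      exact ((Commute.refl t).zpow_right k).eq
    have hne : Subgroup.centralizer ({t} : Set H) ≠ ⊤ := by
      intro htop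
      -- then M is normal
      have hMn : M.Normal := by
        constructor
        intro m hm g
        have : (⟨m, hm⟩ : M) ∈ Subgroup.zpowers (⟨t, ht⟩ : M) := by rw [hzt]; trivial
        obtain ⟨k, hk⟩ := Subgroup.mem_zpowers_iff.mp this
        have hk' : t ^ k = m := by
          have := congrArg Subtype.val hk
          simpa using this
        have hg : g ∈ Subgroup.centralizer ({t} : Set H) := by rw [htop]; trivial
        have hgt : Commute t g := (Subgroup.mem_centralizer_iff.mp hg) t rfl
        have : g * m * g⁻¹ = m := by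
          rw [← hk']
          have := (hgt.zpow_left k).eq
          rw [← this]; group
        rw [this]; exact hm
      have := M.normalCore_eq_self
      rw [hcore] at this
      exact hM this.symm
    have h1 := Subgroup.relIndex_mul_index hMle
    rw [hidx] at h1
    have h2 : (Subgroup.centralizer ({t} : Set H)).index ∣ p := Dvd.intro_left _ h1
    have h3 : (Subgroup.centralizer ({t} : Set H)).index ≠ 1 := by
      intro h; exact hne (Subgroup.index_eq_one.mp h)
    have h4 : (Subgroup.centralizer ({t} : Set H)).index = p :=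
      ((Nat.dvd_prime hp).mp h2).resolve_left h3
    rw [h4] at h1
    have h5 : M.relIndex (Subgroup.centralizer ({t} : Set H)) = 1 := by
      have : M.relIndex (Subgroup.centralizer ({t} : Set H)) * p = 1 * p := by rw [h1, one_mul]
      exact Nat.eq_of_mul_eq_mul_right hp.pos this
    exact Subgroup.relIndex_eq_one.mp h5

/-- Let `G` be a finite group every conjugacy class of which has size 1 or a prime. Then either `G` is nilpotent of class at most 2, or `G/Z(G)` is a non-abelian group of order `pq` for distinct primes `p, q` (a Frobenius group of order `pq`). -/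
theorem result {G : Type*} [Group G] [Finite G]
    (h : ∀ x : G, (Subgroup.centralizer ({x} : Set G)).index = 1 ∨ ((Subgroup.centralizer ({x} : Set G)).index).Prime) :
    Subgroup.upperCentralSeries G 2 = ⊤ ∨
      ∃ p q : ℕ, p.Prime ∧ q.Prime ∧ p ≠ q ∧ Nat.card (G ⧸ Subgroup.center G) = p * q ∧ ¬ IsMulCommutative (G ⧸ Subgroup.center G) := by
  by_cases hall : ∀ x : G, (Subgroup.centralizer ({x} : Set G)).Normal
  · left
    have hcomm : ∀ x y z : G, z * (x * y * x⁻¹ * y⁻¹) = (x * y * x⁻¹ * y⁻¹) * z := by
      intro x y z
      haveI := hall z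
      have hmem : x * y * x⁻¹ * y⁻¹ ∈ Subgroup.centralizer ({z} : Set G) := by
        rcases h z with h1 | h1
        · rw [Subgroup.index_eq_one] at h1; rw [h1]; trivial
        · haveI : Fact ((Subgroup.centralizer ({z} : Set G)).index).Prime := ⟨h1⟩
          haveI : IsCyclic (G ⧸ Subgroup.centralizer ({z} : Set G)) :=
            isCyclic_of_prime_card (p := (Subgroup.centralizer ({z} : Set G)).index)
              (by rw [Subgroup.index_eq_card])
          have hc : IsMulCommutative (G ⧸ Subgroup.centralizer ({z} : Set G)) :=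
            IsCyclic.isMulCommutative
          have : (QuotientGroup.mk (x * y * x⁻¹ * y⁻¹) : G ⧸ Subgroup.centralizer ({z} : Set G)) = 1 := by
            simp only [QuotientGroup.mk_mul, QuotientGroup.mk_inv]
            have e := hc.is_comm.comm (QuotientGroup.mk x : G ⧸ Subgroup.centralizer ({z} : Set G))
              (QuotientGroup.mk y)
            rw [e]; group
          exact (QuotientGroup.eq_one_iff _).mp this
      rw [Subgroup.mem_centralizer_iff] at hmem
      exact hmem z rfl
    rw [eq_top_iff]
    intro x _
    rw [show (2 : ℕ) = 1 + 1 from rfl, Subgroup.mem_upperCentralSeries_succ_iff]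
    intro y
    rw [Subgroup.upperCentralSeries_one, Subgroup.mem_center_iff, commutatorElement_def]
    intro z
    exact hcomm x y z
  · right
    push Not at hall
    obtain ⟨x, hx⟩ := hall
    obtain ⟨M, hMdef⟩ : ∃ M : Subgroup G, M = Subgroup.centralizer ({x} : Set G) := ⟨_, rfl⟩
    rw [← hMdef] at hx
    have hMp : M.index.Prime := by
      rcases h x with h1 | h1
      · exfalso
        apply hx
        rw [← hMdef, Subgroup.index_eq_one] at h1
        rw [h1]; infer_instance
      · rw [hMdef]; exact h1
    obtain ⟨p, hpdef⟩ : ∃ p : ℕ, p = M.index := ⟨_, rfl⟩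
    rw [← hpdef] at hMp
    obtain ⟨K, hKdef⟩ : ∃ K : Subgroup G, K = M.normalCore := ⟨_, rfl⟩
    haveI hKn : K.Normal := by rw [hKdef]; exact M.normalCore_normal
    have hKM : K ≤ M := by rw [hKdef]; exact M.normalCore_le
    have hmemMb : ∀ g : G, (QuotientGroup.mk g : G ⧸ K) ∈ M.map (QuotientGroup.mk' K) ↔ g ∈ M := by
      intro g
      constructor
      · rintro ⟨c, hc, hcg⟩
        have h1 : c⁻¹ * g ∈ K := QuotientGroup.eq.mp hcg
        have := M.mul_mem hc (hKM h1)
        simpa using this
      · intro hg
        exact ⟨g, hg, rfl⟩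
    have hMK : M ≠ K := by
      intro e
      apply hx
      rw [e]; exact hKn
    -- apply the core-free lemma in the quotient
    have hidxb : (M.map (QuotientGroup.mk' K)).index = p := by
      rw [hpdef]
      exact Subgroup.index_map_eq M (QuotientGroup.mk'_surjective _)
        (by rw [QuotientGroup.ker_mk']; exact hKM)
    have hcoreb : (M.map (QuotientGroup.mk' K)).normalCore = ⊥ := by
      rw [eq_bot_iff]
      intro yb hyb
      obtain ⟨y, rfl⟩ := QuotientGroup.mk_surjective yb
      rw [Subgroup.mem_bot, QuotientGroup.eq_one_iff, hKdef]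
      intro b
      have := hyb (QuotientGroup.mk b)
      rw [← QuotientGroup.mk_inv, ← QuotientGroup.mk_mul, ← QuotientGroup.mk_mul] at this
      exact (hmemMb _).1 this
    have hMbne : M.map (QuotientGroup.mk' K) ≠ ⊥ := by
      intro e
      apply hMK
      apply le_antisymm _ hKM
      intro m hm
      have : (QuotientGroup.mk m : G ⧸ K) ∈ M.map (QuotientGroup.mk' K) := (hmemMb m).2 hm
      rw [e, Subgroup.mem_bot, QuotientGroup.eq_one_iff] at this
      exact this
    have hclb : ∀ xb : G ⧸ K, (Subgroup.centralizer ({xb} : Set (G ⧸ K))).index = 1 ∨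
        ((Subgroup.centralizer ({xb} : Set (G ⧸ K))).index).Prime := by
      intro xb
      obtain ⟨g, rfl⟩ := QuotientGroup.mk_surjective xb
      have hle : (Subgroup.centralizer ({g} : Set G)).map (QuotientGroup.mk' K) ≤
          Subgroup.centralizer ({(QuotientGroup.mk g : G ⧸ K)} : Set (G ⧸ K)) := by
        rintro _ ⟨c, hc, rfl⟩
        rw [Subgroup.mem_centralizer_iff]
        intro s hs
        rw [Set.mem_singleton_iff.mp hs]
        have := (Subgroup.mem_centralizer_iff.mp hc) g rfl
        show (QuotientGroup.mk g : G ⧸ K) * QuotientGroup.mk c = QuotientGroup.mk c * QuotientGroup.mk g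
        rw [← QuotientGroup.mk_mul, ← QuotientGroup.mk_mul, this]
      have h1 := Subgroup.index_dvd_of_le hle
      have h2 := Subgroup.index_map_dvd (Subgroup.centralizer ({g} : Set G))
        (QuotientGroup.mk'_surjective K)
      have h3 := h1.trans h2
      rcases h g with h4 | h4
      · left
        rw [h4] at h3
        exact Nat.dvd_one.mp h3
      · rcases (Nat.dvd_prime h4).mp h3 with h5 | h5
        · left; exact h5
        · right; rw [h5]; exact h4
    obtain ⟨q, hq, hqp, hcardMb, hcentb⟩ := corefree_aux _ hMp hidxb hcoreb hMbne hclb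
    -- elements of M outside K are central in M
    have hMleC : ∀ t ∈ M, t ∉ K → ∀ m ∈ M, t * m = m * t := by
      intro t ht htK
      have htb : (QuotientGroup.mk t : G ⧸ K) ≠ 1 := by
        intro e
        exact htK ((QuotientGroup.eq_one_iff _).mp e)
      have hCtM : Subgroup.centralizer ({t} : Set G) ≤ M := by
        intro c hc
        apply (hmemMb c).1
        apply hcentb _ ((hmemMb t).2 ht) htb
        rw [Subgroup.mem_centralizer_iff]
        intro s hs
        rw [Set.mem_singleton_iff.mp hs]
        have := (Subgroup.mem_centralizer_iff.mp hc) t rfl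
        show (QuotientGroup.mk t : G ⧸ K) * QuotientGroup.mk c = QuotientGroup.mk c * QuotientGroup.mk t
        rw [← QuotientGroup.mk_mul, ← QuotientGroup.mk_mul, this]
      have h1 := Subgroup.relIndex_mul_index hCtM
      rw [← hpdef] at h1
      have h2 : (Subgroup.centralizer ({t} : Set G)).index = p := by
        rcases h t with h3 | h3
        · exfalso
          rw [h3] at h1
          have : p ∣ 1 := Dvd.intro_left _ h1
          exact hMp.one_lt.ne' (Nat.dvd_one.mp this)
        · have : p ∣ (Subgroup.centralizer ({t} : Set G)).index := Dvd.intro_left _ h1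
          exact ((Nat.prime_dvd_prime_iff_eq hMp h3).mp this).symm
      rw [h2] at h1
      have h5 : (Subgroup.centralizer ({t} : Set G)).relIndex M = 1 := by
        have : (Subgroup.centralizer ({t} : Set G)).relIndex M * p = 1 * p := by rw [h1, one_mul]
        exact Nat.eq_of_mul_eq_mul_right hMp.pos this
      have h6 := Subgroup.relIndex_eq_one.mp h5
      intro m hm
      exact (Subgroup.mem_centralizer_iff.mp (h6 hm)) t rfl
    -- M is abelian
    obtain ⟨t₀, ht₀M, ht₀K⟩ : ∃ t₀ ∈ M, t₀ ∉ K := by
      by_contra hcon
      push Not at hcon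
      exact hMK (le_antisymm hcon hKM)
    have hMab : ∀ a ∈ M, ∀ b ∈ M, a * b = b * a := by
      intro a ha b hb
      by_cases haK : a ∈ K
      · have h1 := hMleC t₀ ht₀M ht₀K b hb
        have h2 : t₀ * a ∉ K := by
          intro hta
          apply ht₀K
          have := K.mul_mem hta (K.inv_mem haK)
          simpa using this
        have h3 := hMleC (t₀ * a) (M.mul_mem ht₀M ha) h2 b hb
        calc a * b = t₀⁻¹ * ((t₀ * a) * b) := by group
          _ = t₀⁻¹ * (b * (t₀ * a)) := by rw [h3]
          _ = t₀⁻¹ * ((b * t₀) * a) := by group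
          _ = t₀⁻¹ * ((t₀ * b) * a) := by rw [h1]
          _ = b * a := by group
      · exact hMleC a ha haK b hb
    -- centralizers of noncentral elements of M equal M
    have hCM : ∀ m ∈ M, m ∉ Subgroup.center G → Subgroup.centralizer ({m} : Set G) ≤ M := by
      intro m hm hmZ
      have hle : M ≤ Subgroup.centralizer ({m} : Set G) := by
        intro a ha
        rw [Subgroup.mem_centralizer_iff]
        intro s hs
        rw [Set.mem_singleton_iff.mp hs]
        exact hMab m hm a ha
      have h1 := Subgroup.relIndex_mul_index hle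
      rw [← hpdef] at h1
      have hne1 : (Subgroup.centralizer ({m} : Set G)).index ≠ 1 := by
        intro e
        apply hmZ
        rw [Subgroup.index_eq_one] at e
        rw [Subgroup.mem_center_iff]
        intro g
        have hg : g ∈ Subgroup.centralizer ({m} : Set G) := by rw [e]; trivial
        exact ((Subgroup.mem_centralizer_iff.mp hg) m rfl).symm
      have h2 : (Subgroup.centralizer ({m} : Set G)).index ∣ p := Dvd.intro_left _ h1
      have h4 : (Subgroup.centralizer ({m} : Set G)).index = p :=
        ((Nat.dvd_prime hMp).mp h2).resolve_left hne1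
      rw [h4] at h1
      have h5 : M.relIndex (Subgroup.centralizer ({m} : Set G)) = 1 := by
        have : M.relIndex (Subgroup.centralizer ({m} : Set G)) * p = 1 * p := by rw [h1, one_mul]
        exact Nat.eq_of_mul_eq_mul_right hMp.pos this
      exact Subgroup.relIndex_eq_one.mp h5
    -- K is the centre
    have hZM : Subgroup.center G ≤ M := by
      intro z hz
      rw [hMdef, Subgroup.mem_centralizer_iff]
      intro s hs
      rw [Set.mem_singleton_iff.mp hs]
      exact ((Subgroup.mem_center_iff.mp hz) x)
    have hZK : Subgroup.center G ≤ K := by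
      rw [hKdef]
      exact Subgroup.normal_le_normalCore.mpr hZM
    obtain ⟨m₀, hm₀, g, hg⟩ : ∃ m₀ ∈ M, ∃ g : G, g * m₀ * g⁻¹ ∉ M := by
      by_contra hcon
      push Not at hcon
      exact hx ⟨fun n hn g => hcon n hn g⟩
    have hKZ : K ≤ Subgroup.center G := by
      intro k hk
      by_contra hkZ
      have hk' : g⁻¹ * k * g ∈ K := by
        have := hKn.conj_mem k hk g⁻¹
        simpa using this
      have e := hMab m₀ hm₀ (g⁻¹ * k * g) (hKM hk')
      apply hg
      apply hCM k (hKM hk) hkZ
      rw [Subgroup.mem_centralizer_iff]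
      intro s hs
      rw [Set.mem_singleton_iff.mp hs]
      calc k * (g * m₀ * g⁻¹) = g * ((g⁻¹ * k * g) * m₀) * g⁻¹ := by group
        _ = g * (m₀ * (g⁻¹ * k * g)) * g⁻¹ := by rw [e]
        _ = g * m₀ * g⁻¹ * k := by group
    have hKeq : K = Subgroup.center G := le_antisymm hKZ hZK
    refine ⟨p, q, hMp, hq, fun e => hqp e.symm, ?_, ?_⟩
    · rw [← Subgroup.index_eq_card, ← hKeq, Subgroup.index_eq_card]
      have h1 := (M.map (QuotientGroup.mk' K)).card_mul_index
      rw [hidxb, hcardMb] at h1
      rw [← h1, mul_comm]
    · intro hc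
      apply hx
      constructor
      intro m hm g'
      have h1 : g' * m * g'⁻¹ * m⁻¹ ∈ Subgroup.center G := by
        have : (QuotientGroup.mk (g' * m * g'⁻¹ * m⁻¹) : G ⧸ Subgroup.center G) = 1 := by
          simp only [QuotientGroup.mk_mul, QuotientGroup.mk_inv]
          have e := hc.is_comm.comm (QuotientGroup.mk g' : G ⧸ Subgroup.center G)
            (QuotientGroup.mk m)
          rw [e]; group
        exact (QuotientGroup.eq_one_iff _).mp this
      have := M.mul_mem (hZM h1) hm
      simpa using this

end Cfsg.Agent.S4314
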