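import Mathlib
import Cfsg.Statements.S4325

set_option autoImplicit false

namespace Cfsg.Agent.S4325

/-- `m` swaps on `r > m + 1` points leave a nonzero rational function vanishing at a point invariant. -/
theorem exists_invariant (r m : ℕ) (hm : m + 1 < r) (x₀ : Fin r)
    (t : Fin m → Equiv.Perm (Fin r)) (ht : ∀ i, (t i).IsSwap) :
    ∃ f : Fin r → ℚ, f ≠ 0 ∧ f x₀ = 0 ∧ ∀ i x, f (t i x) = f x := by
  classical
  choose a b hab using ht
  let L : (Fin r → ℚ) →ₗ[ℚ] ((Fin m → ℚ) × ℚ) :=
    (LinearMap.pi fun i => (LinearMap.proj (a i) : (Fin r → ℚ) →ₗ[ℚ] ℚ) -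
      (LinearMap.proj (b i) : (Fin r → ℚ) →ₗ[ℚ] ℚ)).prod
      (LinearMap.proj x₀ : (Fin r → ℚ) →ₗ[ℚ] ℚ)
  have hlt : Module.finrank ℚ ((Fin m → ℚ) × ℚ) < Module.finrank ℚ (Fin r → ℚ) := by
    rw [Module.finrank_prod, Module.finrank_fin_fun, Module.finrank_fin_fun, Module.finrank_self]
    exact hm
  have hker := LinearMap.ker_ne_bot_of_finrank_lt (f := L) hlt
  obtain ⟨f, hfker, hf0⟩ := Submodule.exists_mem_ne_zero_of_ne_bot hker
  rw [LinearMap.mem_ker] at hfker
  have h1 : ∀ i, f (a i) - f (b i) = 0 := by
    intro i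
    have := congrFun (congrArg Prod.fst hfker) i
    simpa [L] using this
  have h2 : f x₀ = 0 := by
    have := congrArg Prod.snd hfker
    simpa [L] using this
  refine ⟨f, hf0, h2, ?_⟩
  intro i x
  rw [(hab i).2]
  have hi := sub_eq_zero.1 (h1 i)
  by_cases hxa : x = a i
  · rw [hxa, Equiv.swap_apply_left, hi]
  · by_cases hxb : x = b i
    · rw [hxb, Equiv.swap_apply_right, hi]
    · rw [Equiv.swap_apply_of_ne_of_ne hxa hxb]

/-- Let r be a prime and m a natural number with m + 1 < r, and let π be a set of primes containing every prime below r but not r itself. Then in the symmetric group of degree r any m transpositions generate a π-subgroup, while O_π of the symmetric group is trivial. (So no bound on the number of conjugates that works for all π exists in the π-radical analogue of the Baer–Suzuki Theorem.) -/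
theorem result (r m : ℕ) (hr : r.Prime)
    (hm : m + 1 < r) (π : Set ℕ) (hπ : ∀ q : ℕ, q.Prime → q < r → q ∈ π) (hrπ : r ∉ π)
    (t : Fin m → Equiv.Perm (Fin r)) (ht : ∀ i, (t i).IsSwap) :
    Cfsg.IsPiSubgroup π (Subgroup.closure (Set.range t)) ∧ Cfsg.piCore π (Equiv.Perm (Fin r)) = ⊥ := by
  classical
  constructor
  · intro p hp hdvd
    have hcard : Nat.card (Equiv.Perm (Fin r)) = r.factorial := by
      rw [Nat.card_eq_fintype_card, Fintype.card_perm, Fintype.card_fin]
    have h1 : p ∣ r.factorial := by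
      rw [← hcard]; exact hdvd.trans (Subgroup.card_subgroup_dvd_card _)
    have hple : p ≤ r := (hp.dvd_factorial).1 h1
    rcases lt_or_eq_of_le hple with hlt | rfl
    · exact hπ p hp hlt
    · exfalso
      haveI : Fact p.Prime := ⟨hp⟩
      obtain ⟨⟨g, hgK⟩, hg⟩ := exists_prime_orderOf_dvd_card' p hdvd
      have hg' : orderOf g = p := (Subgroup.orderOf_mk g hgK).symm.trans hg
      have hcyc : g.IsCycle := Equiv.Perm.isCycle_of_prime_order''
        (by rw [Fintype.card_fin]; exact hp) (by rw [hg', Fintype.card_fin])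
      have hsupp : g.support = Finset.univ := by
        apply Finset.eq_univ_of_card
        rw [← hcyc.orderOf, hg', Fintype.card_fin]
      obtain ⟨f, hf0, hfx₀, hfinv⟩ := exists_invariant p m hm ⟨0, hp.pos⟩ t ht
      -- the subgroup of permutations preserving f
      let H : Subgroup (Equiv.Perm (Fin p)) :=
        { carrier := {σ | ∀ x, f (σ x) = f x}
          one_mem' := fun x => rfl
          mul_mem' := by
            intro σ τ hσ hτ x
            rw [Equiv.Perm.mul_apply, hσ, hτ]
          inv_mem' := by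
            intro σ hσ x
            have := hσ (σ⁻¹ x)
            have e : σ (σ⁻¹ x) = x := by simp
            rw [e] at this
            exact this.symm }
      have hKH : Subgroup.closure (Set.range t) ≤ H := by
        rw [Subgroup.closure_le]
        rintro _ ⟨i, rfl⟩
        exact hfinv i
      apply hf0
      funext x
      have hx : g x ≠ x := by
        rw [← Equiv.Perm.mem_support, hsupp]; exact Finset.mem_univ _
      have hx₀ : g ⟨0, hp.pos⟩ ≠ ⟨0, hp.pos⟩ := by
        rw [← Equiv.Perm.mem_support, hsupp]; exact Finset.mem_univ _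
      obtain ⟨i, hi⟩ := hcyc.sameCycle hx₀ hx
      have hgi : g ^ i ∈ H := H.zpow_mem (hKH hgK) i
      have := hgi ⟨0, hp.pos⟩
      rw [hi, hfx₀] at this
      rw [this]; rfl
  · unfold Cfsg.piCore
    rw [sSup_eq_bot]
    rintro N ⟨hN, hNπ⟩
    by_contra hne
    apply hrπ
    apply hNπ r hr
    obtain ⟨σ, hσN, hσ1⟩ : ∃ σ ∈ N, σ ≠ 1 := by
      by_contra h
      push Not at h
      exact hne ((Subgroup.eq_bot_iff_forall N).2 h)
    obtain ⟨x, hx⟩ : ∃ x, σ x ≠ x := by
      by_contra h
      push Not at h
      exact hσ1 (Equiv.ext h)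
    have horb : MulAction.orbit N x = Set.univ := by
      rw [Set.eq_univ_iff_forall]
      intro v
      by_cases hv : v = x
      · rw [hv]; exact MulAction.mem_orbit_self x
      · have hxy : x ≠ σ x := fun h => hx h.symm
        have hmem : Equiv.swap (σ x) v * σ * (Equiv.swap (σ x) v)⁻¹ ∈ N := hN.conj_mem σ hσN _
        refine ⟨⟨_, hmem⟩, ?_⟩
        show (Equiv.swap (σ x) v * σ * (Equiv.swap (σ x) v)⁻¹) x = v
        rw [Equiv.Perm.mul_apply, Equiv.Perm.mul_apply, Equiv.swap_inv,
          Equiv.swap_apply_of_ne_of_ne hxy (fun h => hv h.symm), Equiv.swap_apply_left]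
    have h1 := Subgroup.card_eq_card_quotient_mul_card_subgroup (MulAction.stabilizer N x)
    have h2 : Nat.card (N ⧸ MulAction.stabilizer N x) = r := by
      rw [← Nat.card_congr (MulAction.orbitEquivQuotientStabilizer N x), horb,
        Nat.card_congr (Equiv.Set.univ _), Nat.card_eq_fintype_card, Fintype.card_fin]
    rw [h1, h2]
    exact dvd_mul_right _ _

end Cfsg.Agent.S4325
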