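import Cfsg.Statements.S4326

set_option autoImplicit false
open Pointwise
open Cfsg

namespace Cfsg.Agent.S4326

open Classical in
/-- A non-trivial fixed coset. -/
theorem exists_fixed_coset {G : Type*} [Group G] [Finite G]
    (p : ℕ) [Fact p.Prime] (x : MulAut G) (hx : ∃ k : ℕ, orderOf x = p ^ k) (M : Subgroup G)
    (hM : ∀ g : G, g ∈ M ↔ x g = g) (hp : p ∣ M.index) :
    ∃ g : G, g ∉ M ∧ g⁻¹ * x g ∈ M := by
  obtain ⟨k, hk⟩ := hx
  have hwd : ∀ a b : G, QuotientGroup.leftRel M a b → QuotientGroup.leftRel M (x a) (x b) := by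
    intro a b hab
    rw [QuotientGroup.leftRel_apply] at hab ⊢
    rw [← map_inv, ← map_mul]
    rw [(hM _).1 hab]; exact hab
  let f : Function.End (G ⧸ M) := Quotient.map' (fun g => x g) hwd
  have hfpow : ∀ n : ℕ, ∀ g : G, (f ^ n) (QuotientGroup.mk g : G ⧸ M) = QuotientGroup.mk ((x ^ n) g) := by
    intro n
    induction n with
    | zero => intro g; rfl
    | succ n ih =>
      intro g
      rw [pow_succ, pow_succ]
      show (f ^ n) (f (QuotientGroup.mk g)) = _
      have : f (QuotientGroup.mk g : G ⧸ M) = QuotientGroup.mk (x g) := rfl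
      rw [this, ih]
      rfl
  have hf : f ^ p ^ k = 1 := by
    funext q
    induction q using QuotientGroup.induction_on with
    | H g =>
      rw [hfpow, ← hk, pow_orderOf_eq_one]
      rfl
  letI : Fintype (G ⧸ M) := Fintype.ofFinite _
  have hmod := Equiv.Perm.card_fixedPoints_modEq (p := p) (n := k) hf
  have hcard : Fintype.card (G ⧸ M) = M.index := by
    rw [Subgroup.index, Nat.card_eq_fintype_card]
  rw [hcard] at hmod
  have hdvd : p ∣ Fintype.card (Function.fixedPoints f) := by
    rw [← Nat.modEq_zero_iff_dvd]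
    exact hmod.symm.trans ((Nat.modEq_zero_iff_dvd).2 hp)
  have h1 : (QuotientGroup.mk (1 : G) : G ⧸ M) ∈ Function.fixedPoints f := by
    show f (QuotientGroup.mk 1) = QuotientGroup.mk 1
    show (QuotientGroup.mk (x 1) : G ⧸ M) = QuotientGroup.mk 1
    rw [map_one]
  have hpos : 0 < Fintype.card (Function.fixedPoints f) := Fintype.card_pos_iff.2 ⟨⟨_, h1⟩⟩
  have h2 : 1 < Fintype.card (Function.fixedPoints f) :=
    lt_of_lt_of_le (Fact.out : p.Prime).one_lt (Nat.le_of_dvd hpos hdvd)
  obtain ⟨⟨q, hq⟩, hne⟩ := Fintype.exists_ne_of_one_lt_card h2 ⟨_, h1⟩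
  induction q using QuotientGroup.induction_on with
  | H g =>
    refine ⟨g, ?_, ?_⟩
    · intro hg
      apply hne
      apply Subtype.ext
      show (QuotientGroup.mk g : G ⧸ M) = QuotientGroup.mk 1
      rw [QuotientGroup.eq]
      simpa using hg
    · have h3 : (QuotientGroup.mk (x g) : G ⧸ M) = QuotientGroup.mk g := hq
      rw [QuotientGroup.eq] at h3
      have h4 := M.inv_mem h3
      simpa using h4

/-- Let G be a finite group, p a prime, x an automorphism of G of p-power order and M the subgroup of fixed points of x. Suppose that p divides the index of M and that either M is self-normalizing or M has trivial center. Then some conjugate of M is mapped onto itself by x but is not fixed elementwise by x. -/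
theorem result {G : Type*} [Group G] [Finite G]
    (p : ℕ) [Fact p.Prime] (x : MulAut G) (hx : ∃ k : ℕ, orderOf x = p ^ k) (M : Subgroup G)
    (hM : ∀ g : G, g ∈ M ↔ x g = g) (hp : p ∣ M.index)
    (hself : Subgroup.normalizer (M : Set G) = M ∨ Subgroup.center M = ⊥) :
    ∃ g : G, (∀ y ∈ MulAut.conj g • M, x y ∈ MulAut.conj g • M) ∧ ∃ y ∈ MulAut.conj g • M, x y ≠ y := by
  obtain ⟨g, hgM, hm⟩ := exists_fixed_coset p x hx M hM hp
  set m := g⁻¹ * x g with hmdef
  have hxg : x g = g * m := by rw [hmdef]; group
  have hmem : ∀ y : G, y ∈ MulAut.conj g • M ↔ g⁻¹ * y * g ∈ M := by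
    intro y
    rw [Subgroup.mem_pointwise_smul_iff_inv_smul_mem]
    simp [MulAut.smul_def]
  have hxy : ∀ n : G, n ∈ M → x (g * n * g⁻¹) = g * (m * n * m⁻¹) * g⁻¹ := by
    intro n hn
    rw [map_mul, map_mul, map_inv, hxg, (hM n).1 hn]
    group
  refine ⟨g, ?_, ?_⟩
  · intro y hy
    rw [hmem] at hy ⊢
    have h1 : y = g * (g⁻¹ * y * g) * g⁻¹ := by group
    rw [h1, hxy _ hy]
    have h2 : g⁻¹ * (g * (m * (g⁻¹ * y * g) * m⁻¹) * g⁻¹) * g = m * (g⁻¹ * y * g) * m⁻¹ := by group
    rw [h2]
    exact M.mul_mem (M.mul_mem hm hy) (M.inv_mem hm)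
  · by_contra hall
    push Not at hall
    -- m is central in M
    have hcentral : ∀ n ∈ M, m * n = n * m := by
      intro n hn
      have h1 := hall (g * n * g⁻¹) ((hmem _).2 (by
        have : g⁻¹ * (g * n * g⁻¹) * g = n := by group
        rw [this]; exact hn))
      rw [hxy n hn] at h1
      have h2 : m * n * m⁻¹ = n := mul_left_cancel (mul_right_cancel h1)
      calc m * n = m * n * m⁻¹ * m := by group
        _ = n * m := by rw [h2]
    -- g M g⁻¹ ≤ M
    have hle : MulAut.conj g • M ≤ M := by
      intro y hy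
      exact (hM y).2 (hall y hy)
    rcases hself with hN | hZ
    · apply hgM
      rw [← hN, Subgroup.mem_normalizer_iff]
      have heq : MulAut.conj g • M = M := by
        apply Subgroup.eq_of_le_of_card_ge hle
        exact (Nat.card_congr (Subgroup.equivSMul (MulAut.conj g) M).toEquiv).le
      intro h
      constructor
      · intro hh
        rw [← heq, hmem]
        have : g⁻¹ * (g * h * g⁻¹) * g = h := by group
        rw [this]; exact hh
      · intro hh
        rw [← heq, hmem] at hh
        have : g⁻¹ * (g * h * g⁻¹) * g = h := by group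
        rwa [this] at hh
    · have hmc : (⟨m, hm⟩ : M) ∈ Subgroup.center M := by
        rw [Subgroup.mem_center_iff]
        intro n
        apply Subtype.ext
        show (n : G) * m = m * n
        exact (hcentral n n.2).symm
      rw [hZ, Subgroup.mem_bot] at hmc
      have hm1 : m = 1 := congrArg Subtype.val hmc
      apply hgM
      rw [hM, hxg, hm1, mul_one]

end Cfsg.Agent.S4326
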