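import Cfsg.Statements.S4333
import Cfsg.Agent.Lib.Helper13.Zipper
import Mathlib

set_option autoImplicit false
open Cfsg
open scoped Pointwise

namespace Cfsg.Agent.S4333

open Cfsg.Agent.Lib.Helper13

universe u

theorem aux (n : ℕ) : ∀ (G : Type u) [Group G] [Finite G], Nat.card G = n →
    ∀ A : Subgroup G,
      (∀ a ∈ A, ∀ g : G, (A.subgroupOf (A ⊔ MulAut.conj (g⁻¹ * a * g) • A)).IsSubnormal) →
      A.IsSubnormal := by
  induction n using Nat.strong_induction_on with
  | _ n ih =>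
  intro G _ _ hcard A h
  by_contra hns
  have hprop : ∀ H : Subgroup G, A ≤ H → H ≠ ⊤ → (A.subgroupOf H).IsSubnormal := by
    intro H hAH hH
    have hlt : Nat.card H < n := by
      rw [← hcard, ← Subgroup.card_top (G := G)]
      exact card_lt_of_lt (lt_top_iff_ne_top.mpr hH)
    apply ih (Nat.card H) hlt H rfl (A.subgroupOf H)
    intro a' ha' g'
    obtain ⟨g, hgdef⟩ : ∃ g : H, g = g'⁻¹ * a' * g' := ⟨_, rfl⟩
    rw [← hgdef]
    have hgG : (g : G) = (g' : G)⁻¹ * (a' : G) * (g' : G) := by rw [hgdef]; rfl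
    have hmap : (A.subgroupOf H ⊔ MulAut.conj g • A.subgroupOf H).map H.subtype
        = A ⊔ MulAut.conj (g : G) • A := by
      rw [Subgroup.map_sup, map_cj, Subgroup.map_subgroupOf_eq_of_le hAH]; rfl
    obtain ⟨φ, hφ⟩ : ∃ φ : ↥(A.subgroupOf H ⊔ MulAut.conj g • A.subgroupOf H) →*
        ↥(A ⊔ MulAut.conj (g : G) • A), ∀ y, ((φ y : G)) = ((y : H) : G) :=
      ⟨{ toFun := fun y => ⟨((y : H) : G), by rw [← hmap]; exact ⟨y, y.2, rfl⟩⟩
         map_one' := rfl
         map_mul' := fun _ _ => rfl }, fun _ => rfl⟩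
    have hh := h (a' : G) (Subgroup.mem_subgroupOf.mp ha') (g' : G)
    rw [← hgG] at hh
    have := hh.comap φ
    convert this using 1
    ext y
    simp only [Subgroup.mem_subgroupOf, Subgroup.mem_comap, hφ]
  have hzip := zipper A hprop hns
  have hAtop : A ≠ ⊤ := fun h => hns (h ▸ Subgroup.IsSubnormal.top)
  obtain ⟨M, hM, hAM⟩ := (eq_top_or_exists_le_coatom A).resolve_left hAtop
  have hconj : ∀ a ∈ A, ∀ g : G, MulAut.conj (g⁻¹ * a * g) • A ≤ M := by
    intro a ha g
    obtain ⟨x, hxdef⟩ : ∃ x, x = g⁻¹ * a * g := ⟨_, rfl⟩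
    rw [← hxdef]
    obtain ⟨J, hJ⟩ : ∃ J, J = A ⊔ MulAut.conj x • A := ⟨_, rfl⟩
    have hAJ : A ≤ J := hJ ▸ le_sup_left
    have hxJ : MulAut.conj x • A ≤ J := hJ ▸ le_sup_right
    have hx := h a ha g
    rw [← hxdef, ← hJ] at hx
    rcases eq_top_or_exists_le_coatom J with hJt | ⟨M', hM', hJM'⟩
    · exfalso
      apply hns
      exact isSubnormal_of_relSubn hAJ hx (hJt ▸ Subgroup.IsSubnormal.top)
    · have := hzip M M' hM hM' hAM (hAJ.trans hJM')
      rw [this]
      exact hxJ.trans hJM'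
  -- each such `x` conjugates `M` into itself
  have hstep : ∀ a ∈ A, ∀ g : G, ∀ m ∈ M, (g⁻¹ * a * g)⁻¹ * m * (g⁻¹ * a * g) ∈ M := by
    intro a ha g m hm
    obtain ⟨x, hxdef⟩ : ∃ x, x = g⁻¹ * a * g := ⟨_, rfl⟩
    rw [← hxdef]
    obtain ⟨M1, hM1⟩ : ∃ M1, M1 = MulAut.conj x⁻¹ • M := ⟨_, rfl⟩
    have hAM1 : A ≤ M1 := by
      intro y hy
      rw [hM1, mem_cj, inv_inv]
      have h1 : x * y * x⁻¹ ∈ MulAut.conj x • A := by
        rw [mem_cj]
        have : x⁻¹ * (x * y * x⁻¹) * x = y := by group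
        rw [this]; exact hy
      rw [hxdef]
      rw [hxdef] at h1
      exact hconj a ha g h1
    have hM1top : M1 ≠ ⊤ := by
      intro htop
      apply hM.1
      rw [eq_top_iff]
      intro z _
      have h1 : x⁻¹ * z * x ∈ M1 := by rw [htop]; trivial
      rw [hM1, mem_cj, inv_inv] at h1
      have h2 : x * (x⁻¹ * z * x) * x⁻¹ = z := by group
      rwa [h2] at h1
    obtain ⟨K, hK, hM1K⟩ := (eq_top_or_exists_le_coatom M1).resolve_left hM1top
    have hKM := hzip M K hM hK hAM (hAM1.trans hM1K)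
    rw [hKM]
    apply hM1K
    rw [hM1, mem_cj, inv_inv]
    have h2 : x * (x⁻¹ * m * x) * x⁻¹ = m := by group
    rwa [h2]
  have hnorm : ∀ a ∈ A, ∀ g : G, g⁻¹ * a * g ∈ Subgroup.normalizer (M : Set G) := by
    intro a ha g
    rw [Subgroup.mem_normalizer_iff]
    intro m
    constructor
    · intro hm
      have h1 := hstep a⁻¹ (inv_mem ha) g m hm
      have h2 : (g⁻¹ * a⁻¹ * g)⁻¹ * m * (g⁻¹ * a⁻¹ * g) =
          g⁻¹ * a * g * m * (g⁻¹ * a * g)⁻¹ := by group
      rwa [h2] at h1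
    · intro hm
      have h1 := hstep a ha g _ hm
      have h2 : (g⁻¹ * a * g)⁻¹ * (g⁻¹ * a * g * m * (g⁻¹ * a * g)⁻¹) * (g⁻¹ * a * g) = m := by
        group
      rwa [h2] at h1
  have hNCnorm : Subgroup.normalClosure (A : Set G) ≤ Subgroup.normalizer (M : Set G) := by
    rw [Subgroup.normalClosure, Subgroup.closure_le]
    intro y hy
    rw [Group.mem_conjugatesOfSet_iff] at hy
    obtain ⟨a, ha, hay⟩ := hy
    obtain ⟨c, rfl⟩ := isConj_iff.mp hay
    have := hnorm a ha c⁻¹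
    rwa [inv_inv] at this
  have hNC : Subgroup.normalClosure (A : Set G) ≤ M := by
    by_contra hle
    have hlt : M < M ⊔ Subgroup.normalClosure (A : Set G) := by
      apply lt_of_le_of_ne le_sup_left
      intro heq
      apply hle
      rw [heq]; exact le_sup_right
    have htop := hM.2 _ hlt
    have hntop : Subgroup.normalizer (M : Set G) = ⊤ := by
      rw [eq_top_iff, ← htop]
      exact sup_le Subgroup.le_normalizer hNCnorm
    haveI : M.Normal := Subgroup.normalizer_eq_top_iff.mp hntop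
    exact hle (Subgroup.normalClosure_le_normal hAM)
  have hNCtop : Subgroup.normalClosure (A : Set G) ≠ ⊤ := by
    intro h
    rw [h, top_le_iff] at hNC
    exact hM.1 hNC
  apply hns
  exact isSubnormal_of_relSubn Subgroup.le_normalClosure
    (hprop _ Subgroup.le_normalClosure hNCtop)
    (Subgroup.normalClosure_normal.isSubnormal)

theorem result {G : Type*} [Group G] [Finite G]
    (A : Subgroup G)
    (h : ∀ a ∈ A, ∀ g : G, (A.subgroupOf (A ⊔ MulAut.conj (g⁻¹ * a * g) • A)).IsSubnormal) :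
    A.IsSubnormal :=
  aux _ G rfl A h

end Cfsg.Agent.S4333
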