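import Cfsg.Statements.S4334
import Mathlib
import Cfsg.Agent.S0071
import Cfsg.Agent.S0581
import Cfsg.Agent.Lib.Helper2.NilpotentCoprime
import Cfsg.Agent.Lib.Helper2.SylowCount

set_option autoImplicit false
set_option maxHeartbeats 800000
open Cfsg
open scoped Pointwise

namespace Cfsg.Agent.S4334

open Cfsg.Agent.Lib.Helper2

section General
variable {G : Type*} [Group G]

theorem smul_eq_map (x : G) (K : Subgroup G) :
    MulAut.conj x • K = K.map (MulAut.conj x).toMonoidHom := rfl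

theorem map_conj_mul (K : Subgroup G) (x y : G) :
    (K.map (MulAut.conj x).toMonoidHom).map (MulAut.conj y).toMonoidHom =
      K.map (MulAut.conj (y * x)).toMonoidHom := by
  rw [Subgroup.map_map]
  congr 1
  ext z
  simp [mul_assoc]

theorem conj_mem_map_conj {K : Subgroup G} (x : G) {k : G} (hk : k ∈ K) :
    x * k * x⁻¹ ∈ K.map (MulAut.conj x).toMonoidHom := ⟨k, hk, by simp⟩

theorem card_map_conj [Finite G] (K : Subgroup G) (x : G) :
    Nat.card (K.map (MulAut.conj x).toMonoidHom) = Nat.card K :=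
  Subgroup.card_map_of_injective (MulAut.conj x).injective

theorem isPGroup_map_conj {p : ℕ} {K : Subgroup G} (hK : IsPGroup p K) (x : G) :
    IsPGroup p (K.map (MulAut.conj x).toMonoidHom) := hK.map _

theorem card_sup_dvd [Finite G] (X Y : Subgroup G)
    (h : Y ≤ Subgroup.normalizer (X : Set G)) :
    Nat.card (Y ⊔ X : Subgroup G) ∣ Nat.card Y * Nat.card X := by
  have h1 := relIndex_sup_of_le_normalizer Y X h
  have h2 : Nat.card Y * Y.relIndex (Y ⊔ X) = Nat.card (Y ⊔ X : Subgroup G) := by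
    have := Subgroup.relIndex_mul_relIndex ⊥ Y (Y ⊔ X) bot_le le_sup_left
    rwa [Subgroup.relIndex_bot_left, Subgroup.relIndex_bot_left] at this
  have h3 : Y.relIndex X ∣ Nat.card X := Subgroup.relIndex_dvd_card Y X
  rw [← h2, h1]
  exact Nat.mul_dvd_mul_left _ h3

theorem isPiSubgroup_of_isPGroup [Finite G] {ρ : Set ℕ} {p : ℕ} [hp : Fact p.Prime] (hpρ : p ∈ ρ)
    {Q : Subgroup G} (hQ : IsPGroup p Q) : Cfsg.IsPiSubgroup ρ Q := by
  intro q hq hqd
  obtain ⟨k, hk⟩ := IsPGroup.iff_card.mp hQ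
  rw [hk] at hqd
  have := (Nat.prime_dvd_prime_iff_eq hq hp.out).mp (hq.dvd_of_dvd_pow hqd)
  rw [this]; exact hpρ

/-- conjugating a `q`-subgroup of a normalizer into a Sylow subgroup that lies in it -/
theorem sylow_step [Finite G] {q : ℕ} [Fact q.Prime] (M : Subgroup G) (S : Sylow q G)
    (hS : (S : Subgroup G) ≤ Subgroup.centralizer (M : Set G)) (R0 : Subgroup G)
    (hR0 : IsPGroup q R0) (hR0N : R0 ≤ Subgroup.normalizer (M : Set G)) :
    ∃ n ∈ Subgroup.normalizer (M : Set G),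
      R0.map (MulAut.conj n).toMonoidHom ≤ (S : Subgroup G) := by
  have hSN : (S : Subgroup G) ≤ Subgroup.normalizer (M : Set G) :=
    hS.trans (Subgroup.centralizer_le_normalizer _)
  have hR0' : IsPGroup q (R0.subgroupOf (Subgroup.normalizer (M : Set G))) := hR0.comap_subtype
  obtain ⟨Q', hQ'⟩ := hR0'.exists_le_sylow
  obtain ⟨n, hn⟩ := MulAction.exists_smul_eq ↥(Subgroup.normalizer (M : Set G)) Q' (S.subtype hSN)
  refine ⟨(n : G), n.2, ?_⟩
  rintro y ⟨r, hr, rfl⟩
  have h1 : (⟨r, hR0N hr⟩ : ↥(Subgroup.normalizer (M : Set G))) ∈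
      (Q' : Subgroup ↥(Subgroup.normalizer (M : Set G))) :=
    hQ' (by rw [Subgroup.mem_subgroupOf]; exact hr)
  have h2 : n * ⟨r, hR0N hr⟩ * n⁻¹ ∈
      ((n • Q' : Sylow q ↥(Subgroup.normalizer (M : Set G))) :
        Subgroup ↥(Subgroup.normalizer (M : Set G))) := by
    rw [Sylow.coe_subgroup_smul]
    exact Subgroup.smul_mem_pointwise_smul _ (MulAut.conj n) _ h1
  rw [hn, Sylow.coe_subtype, Subgroup.mem_subgroupOf] at h2
  simpa using h2

end General


section General2
variable {G : Type*} [Group G]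

theorem coe_mem_normalizer_map_subtype {K : Subgroup G} (Q : Subgroup ↥K) (g : ↥K)
    (hg : g ∈ Subgroup.normalizer (Q : Set ↥K)) :
    (g : G) ∈ Subgroup.normalizer ((Q.map K.subtype : Subgroup G) : Set G) :=
  Subgroup.le_normalizer_map K.subtype ⟨g, hg, rfl⟩

theorem map_conj_le_normalizer {R M : Subgroup G} (h : R ≤ Subgroup.normalizer (M : Set G))
    (x : G) :
    R.map (MulAut.conj x).toMonoidHom ≤
      Subgroup.normalizer ((M.map (MulAut.conj x).toMonoidHom : Subgroup G) : Set G) :=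
  (Subgroup.map_mono h).trans (Subgroup.le_normalizer_map _)

theorem finish_step {X Y K T : Subgroup G} (hK : K ≤ X ⊔ Y) (x n : G)
    (hX : X.map (MulAut.conj x).toMonoidHom ≤ T)
    (hn : n ∈ Subgroup.normalizer ((X.map (MulAut.conj x).toMonoidHom : Subgroup G) : Set G))
    (hY : (Y.map (MulAut.conj x).toMonoidHom).map (MulAut.conj n).toMonoidHom ≤ T) :
    K.map (MulAut.conj (n * x)).toMonoidHom ≤ T := by
  refine (Subgroup.map_mono hK).trans ?_
  rw [Subgroup.map_sup, sup_le_iff]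
  constructor
  · rw [← map_conj_mul]
    rintro y ⟨m, hm, rfl⟩
    apply hX
    exact (Subgroup.mem_normalizer_iff.mp hn m).mp hm
  · rw [← map_conj_mul]; exact hY

theorem orderOf_conj_eq (x c : G) : orderOf (x * c * x⁻¹) = orderOf c := by
  rw [← MulAut.conj_apply]; exact MulEquiv.orderOf_eq _ _

theorem isPGroup_zpowers {s : ℕ} [hs : Fact s.Prime] {a : G} {k : ℕ} (h : orderOf a ∣ s ^ k) :
    IsPGroup s (Subgroup.zpowers a) := by
  obtain ⟨j, _, hj⟩ := (Nat.dvd_prime_pow hs.out).mp h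
  exact IsPGroup.of_card (n := j) (by rw [Nat.card_zpowers, hj])

end General2

/-- the hypotheses of the theorem -/
structure Setup {G : Type*} [Group G] (σ τ π : Set ℕ) (H A B : Subgroup G) : Prop where
  hπ : π = σ ∪ τ
  hd : Disjoint σ τ
  hH : Cfsg.IsPiHall π H
  hs : Cfsg.IsPiSubgroup σ A
  ht : Cfsg.IsPiSubgroup τ B
  hsn : Group.IsNilpotent A
  hjoin : A ⊔ B = H
  hcomm : ∀ a ∈ A, ∀ b ∈ B, a * b = b * a
  hD : Cfsg.IsDPiGroup τ G

section Main
variable {G : Type*} [Group G] [Finite G] {σ τ π : Set ℕ} {H A B : Subgroup G}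

theorem Setup.A_le (S : Setup σ τ π H A B) : A ≤ H := by
  rw [← S.hjoin]; exact le_sup_left

theorem Setup.B_le (S : Setup σ τ π H A B) : B ≤ H := by
  rw [← S.hjoin]; exact le_sup_right

theorem Setup.card_coprime (S : Setup σ τ π H A B) : (Nat.card A).Coprime (Nat.card B) := by
  apply Nat.coprime_of_dvd
  intro k hk h1 h2
  exact Set.disjoint_left.mp S.hd (S.hs k hk h1) (S.ht k hk h2)

theorem Setup.A_le_cent (S : Setup σ τ π H A B) : A ≤ Subgroup.centralizer (B : Set G) := by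
  intro a ha
  rw [Subgroup.mem_centralizer_iff]
  intro b hb
  exact (S.hcomm a ha b hb).symm

theorem Setup.B_le_cent (S : Setup σ τ π H A B) : B ≤ Subgroup.centralizer (A : Set G) := by
  intro b hb
  rw [Subgroup.mem_centralizer_iff]
  intro a ha
  exact S.hcomm a ha b hb

theorem Setup.relIndex_A (S : Setup σ τ π H A B) : A.relIndex H = Nat.card B := by
  rw [← S.hjoin, relIndex_sup_of_le_normalizer A B
    (S.A_le_cent.trans (Subgroup.centralizer_le_normalizer _)),
    ← Subgroup.inf_relIndex_right, Subgroup.inf_eq_bot_of_coprime S.card_coprime,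
    Subgroup.relIndex_bot_left]

theorem Setup.relIndex_B (S : Setup σ τ π H A B) : B.relIndex H = Nat.card A := by
  rw [← S.hjoin, sup_comm, relIndex_sup_of_le_normalizer B A
    (S.B_le_cent.trans (Subgroup.centralizer_le_normalizer _)),
    ← Subgroup.inf_relIndex_right, Subgroup.inf_eq_bot_of_coprime S.card_coprime.symm,
    Subgroup.relIndex_bot_left]

theorem Setup.index_A (S : Setup σ τ π H A B) : A.index = Nat.card B * H.index := by
  rw [← Subgroup.relIndex_mul_index S.A_le, S.relIndex_A]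

theorem Setup.index_B (S : Setup σ τ π H A B) : B.index = Nat.card A * H.index := by
  rw [← Subgroup.relIndex_mul_index S.B_le, S.relIndex_B]

theorem Setup.mem_pi_of_sigma (S : Setup σ τ π H A B) {p : ℕ} (hp : p ∈ σ) : p ∈ π := by
  rw [S.hπ]; exact Or.inl hp

theorem Setup.mem_pi_of_tau (S : Setup σ τ π H A B) {p : ℕ} (hp : p ∈ τ) : p ∈ π := by
  rw [S.hπ]; exact Or.inr hp

theorem Setup.not_dvd_index_A (S : Setup σ τ π H A B) {p : ℕ} (hp : p.Prime) (hpσ : p ∈ σ) :
    ¬ p ∣ A.index := by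
  rw [S.index_A]
  intro hd
  rcases (Nat.Prime.dvd_mul hp).mp hd with h | h
  · exact Set.disjoint_left.mp S.hd hpσ (S.ht p hp h)
  · exact S.hH.2 p hp (S.mem_pi_of_sigma hpσ) h

theorem Setup.not_dvd_index_B (S : Setup σ τ π H A B) {p : ℕ} (hp : p.Prime) (hpτ : p ∈ τ) :
    ¬ p ∣ B.index := by
  rw [S.index_B]
  intro hd
  rcases (Nat.Prime.dvd_mul hp).mp hd with h | h
  · exact Set.disjoint_left.mp S.hd (S.hs p hp h) hpτ
  · exact S.hH.2 p hp (S.mem_pi_of_tau hpτ) h

theorem Setup.coprime_A (S : Setup σ τ π H A B) : (Nat.card A).Coprime A.index := by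
  apply Nat.coprime_of_dvd
  intro k hk h1 h2
  exact S.not_dvd_index_A hk (S.hs k hk h1) h2

theorem Setup.coprime_B (S : Setup σ τ π H A B) : (Nat.card B).Coprime B.index := by
  apply Nat.coprime_of_dvd
  intro k hk h1 h2
  exact S.not_dvd_index_B hk (S.ht k hk h1) h2

theorem Setup.dvd_card_A (S : Setup σ τ π H A B) {p : ℕ} (hp : p.Prime) (hpσ : p ∈ σ)
    (hpG : p ∣ Nat.card G) : p ∣ Nat.card A := by
  rw [← Subgroup.card_mul_index A] at hpG
  rcases (Nat.Prime.dvd_mul hp).mp hpG with h | h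
  · exact h
  · exact absurd h (S.not_dvd_index_A hp hpσ)

/-- every σ-subgroup is conjugate into `A` -/
theorem Setup.sigma_conj (S : Setup σ τ π H A B) (E : Subgroup G) (hE : Cfsg.IsPiSubgroup σ E) :
    ∃ x : G, E.map (MulAut.conj x).toMonoidHom ≤ A := by
  obtain ⟨x, hx⟩ := Cfsg.Agent.S0581.result A E S.hsn S.coprime_A
    (fun p hp hpE => S.dvd_card_A hp (hE p hp hpE)
      (dvd_trans hpE (Subgroup.card_subgroup_dvd_card E)))
  refine ⟨x⁻¹, ?_⟩
  rintro y ⟨e, he, rfl⟩
  have := hx he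
  rw [Subgroup.mem_pointwise_smul_iff_inv_smul_mem, MulAut.smul_def, MulAut.conj_inv_apply] at this
  simpa using this

theorem Setup.B_maximal (S : Setup σ τ π H A B) : Maximal (Cfsg.IsPiSubgroup τ) B := by
  refine ⟨S.ht, ?_⟩
  intro B' hB' hle
  have h1 : Nat.card B' ∣ Nat.card B * B.index := by
    rw [Subgroup.card_mul_index]; exact Subgroup.card_subgroup_dvd_card B'
  have hcop : (Nat.card B').Coprime B.index := by
    apply Nat.coprime_of_dvd
    intro k hk h1 h2
    exact S.not_dvd_index_B hk (hB' k hk h1) h2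
  have h2 : Nat.card B' ∣ Nat.card B := hcop.dvd_of_dvd_mul_right h1
  have h3 : Nat.card B' ≤ Nat.card B := Nat.le_of_dvd Nat.card_pos h2
  exact le_of_eq (Subgroup.eq_of_le_of_card_ge hle h3).symm

/-- every τ-subgroup is conjugate into `B` -/
theorem Setup.tau_conj (S : Setup σ τ π H A B) (E : Subgroup G) (hE : Cfsg.IsPiSubgroup τ E) :
    ∃ x : G, E.map (MulAut.conj x).toMonoidHom ≤ B := by
  obtain ⟨E', hEE', hE'max⟩ := Finite.exists_le_maximal (p := Cfsg.IsPiSubgroup (G := G) τ) hE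
  obtain ⟨g, hg⟩ := S.hD B E' S.B_maximal hE'max
  refine ⟨g⁻¹, ?_⟩
  rintro y ⟨e, he, rfl⟩
  have h1 : e ∈ E' := hEE' he
  rw [hg] at h1
  obtain ⟨b, hb, hbe⟩ := h1
  have h2 : g * b * g⁻¹ = e := by simpa using hbe
  have h3 : (MulAut.conj g⁻¹).toMonoidHom e = b := by
    rw [← h2]
    simp only [MulEquiv.coe_toMonoidHom, MulAut.conj_apply]
    group
  rw [h3]; exact hb

theorem Setup.exists_sylow_le_A (S : Setup σ τ π H A B) {p : ℕ} [Fact p.Prime] (hp : p ∈ σ) :
    ∃ P : Sylow p G, (P : Subgroup G) ≤ A := by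
  obtain ⟨P0⟩ : Nonempty (Sylow p G) := inferInstance
  obtain ⟨x, hx⟩ := S.sigma_conj _ (isPiSubgroup_of_isPGroup hp P0.isPGroup')
  refine ⟨x • P0, ?_⟩
  rw [Sylow.coe_subgroup_smul, smul_eq_map]
  exact hx

theorem Setup.exists_sylow_le_B (S : Setup σ τ π H A B) {p : ℕ} [Fact p.Prime] (hp : p ∈ τ) :
    ∃ P : Sylow p G, (P : Subgroup G) ≤ B := by
  obtain ⟨P0⟩ : Nonempty (Sylow p G) := inferInstance
  obtain ⟨x, hx⟩ := S.tau_conj _ (isPiSubgroup_of_isPGroup hp P0.isPGroup')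
  refine ⟨x • P0, ?_⟩
  rw [Sylow.coe_subgroup_smul, smul_eq_map]
  exact hx

theorem Setup.exists_mul (S : Setup σ τ π H A B) {h : G} (hh : h ∈ H) :
    ∃ a ∈ A, ∃ b ∈ B, h = a * b := by
  rw [← S.hjoin] at hh
  have hc : ∀ (m : ↥A) (n : ↥B), Commute (A.subtype m) (B.subtype n) :=
    fun m n => S.hcomm m m.2 n n.2
  have hr := MonoidHom.noncommCoprod_range A.subtype B.subtype hc
  rw [Subgroup.range_subtype, Subgroup.range_subtype] at hr
  rw [← hr] at hh
  obtain ⟨⟨a, b⟩, rfl⟩ := hh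
  exact ⟨a, a.2, b, b.2, by simp [MonoidHom.noncommCoprod_apply]⟩

/-- `p`-elements of `H` lie in `A`, for `p ∈ σ` -/
theorem Setup.mem_A_of_pow (S : Setup σ τ π H A B) {p : ℕ} (hp : p.Prime) (hpσ : p ∈ σ) {h : G}
    (hh : h ∈ H) {k : ℕ} (hk : orderOf h ∣ p ^ k) : h ∈ A := by
  obtain ⟨a, ha, b, hb, rfl⟩ := S.exists_mul hh
  have hoa : orderOf a ∣ Nat.card A := by
    have := orderOf_dvd_natCard (⟨a, ha⟩ : ↥A)
    rwa [Subgroup.orderOf_mk] at this
  have hob : orderOf b ∣ Nat.card B := by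
    have := orderOf_dvd_natCard (⟨b, hb⟩ : ↥B)
    rwa [Subgroup.orderOf_mk] at this
  have hcop : (orderOf a).Coprime (orderOf b) :=
    Nat.Coprime.coprime_dvd_left hoa (Nat.Coprime.coprime_dvd_right hob S.card_coprime)
  have hmul := (show Commute a b from S.hcomm a ha b hb).orderOf_mul_eq_mul_orderOf_of_coprime hcop
  have hb1 : orderOf b ∣ p ^ k := (Dvd.intro_left _ hmul.symm).trans hk
  have hpB : ¬ p ∣ Nat.card B := fun hd => Set.disjoint_left.mp S.hd hpσ (S.ht p hp hd)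
  have hcop2 : (p ^ k).Coprime (Nat.card B) :=
    Nat.Coprime.pow_left k ((Nat.Prime.coprime_iff_not_dvd hp).mpr hpB)
  have hb2 : orderOf b ∣ 1 := by
    have := Nat.dvd_gcd hb1 hob
    rwa [hcop2] at this
  have hbone : b = 1 := orderOf_eq_one_iff.mp (Nat.dvd_one.mp hb2)
  rw [hbone, mul_one]; exact ha

/-- in `H`, elements of order prime to `p` centralize `p`-subgroups, for `p ∈ σ` -/
theorem Setup.centralize (S : Setup σ τ π H A B) {p : ℕ} (hp : p.Prime) (hpσ : p ∈ σ)
    {Q0 : Subgroup G} (hQ0 : IsPGroup p Q0) (hQ0H : Q0 ≤ H) {g0 : G} (hg0 : g0 ∈ H)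
    (hcop : (orderOf g0).Coprime p) : ∀ q ∈ Q0, g0 * q = q * g0 := by
  haveI : Fact p.Prime := ⟨hp⟩
  intro q hq
  obtain ⟨j, hj⟩ := (IsPGroup.iff_orderOf.mp hQ0) ⟨q, hq⟩
  rw [Subgroup.orderOf_mk] at hj
  have hqA : q ∈ A := S.mem_A_of_pow hp hpσ (hQ0H hq) (k := j) (by rw [hj])
  obtain ⟨a, ha, b, hb, rfl⟩ := S.exists_mul hg0
  have hoa : orderOf a ∣ Nat.card A := by
    have := orderOf_dvd_natCard (⟨a, ha⟩ : ↥A)
    rwa [Subgroup.orderOf_mk] at this
  have hob : orderOf b ∣ Nat.card B := by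
    have := orderOf_dvd_natCard (⟨b, hb⟩ : ↥B)
    rwa [Subgroup.orderOf_mk] at this
  have hcop' : (orderOf a).Coprime (orderOf b) :=
    Nat.Coprime.coprime_dvd_left hoa (Nat.Coprime.coprime_dvd_right hob S.card_coprime)
  have hmul := (show Commute a b from S.hcomm a ha b hb).orderOf_mul_eq_mul_orderOf_of_coprime hcop'
  have hcopa : (orderOf a).Coprime (orderOf q) := by
    rw [hj]
    apply Nat.Coprime.pow_right
    exact Nat.Coprime.coprime_dvd_left (Dvd.intro _ hmul.symm) hcop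
  have h1 : a * q = q * a := commute_of_coprime_orderOf_of_mem A S.hsn a q ha hqA hcopa
  have h2 : q * b = b * q := S.hcomm q hqA b hb
  calc a * b * q = a * (b * q) := mul_assoc _ _ _
    _ = a * (q * b) := by rw [h2]
    _ = (a * q) * b := (mul_assoc _ _ _).symm
    _ = (q * a) * b := by rw [h1]
    _ = q * (a * b) := mul_assoc _ _ _

theorem Setup.key (S : Setup σ τ π H A B) {p : ℕ} (hp : p.Prime) (hpσ : p ∈ σ)
    {M : Subgroup G} (hM : ∃ x : G, M.map (MulAut.conj x).toMonoidHom ≤ H)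
    {Q0 : Subgroup G} (hQ0M : Q0 ≤ M) (hQ0 : IsPGroup p Q0) {c : G} (hc : c ∈ M)
    (hcop : (orderOf c).Coprime p) : ∀ q ∈ Q0, c * q = q * c := by
  obtain ⟨x, hx⟩ := hM
  intro q hq
  have h1 := S.centralize hp hpσ (Q0 := Q0.map (MulAut.conj x).toMonoidHom) (hQ0.map _)
    ((Subgroup.map_mono hQ0M).trans hx) (g0 := x * c * x⁻¹) (hx (conj_mem_map_conj x hc))
    (by rw [orderOf_conj_eq]; exact hcop) (x * q * x⁻¹) (conj_mem_map_conj x hq)
  have e1 : x * c * x⁻¹ * (x * q * x⁻¹) = x * (c * q) * x⁻¹ := by group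
  have e2 : x * q * x⁻¹ * (x * c * x⁻¹) = x * (q * c) * x⁻¹ := by group
  rw [e1, e2] at h1
  exact mul_left_cancel (mul_right_cancel h1)

theorem Setup.case_a (S : Setup σ τ π H A B) {p : ℕ} [hp : Fact p.Prime] (hpσ : p ∈ σ)
    (K : Subgroup G) (P : Sylow p ↥K) (N : Subgroup ↥K) (hNn : N.Normal)
    (hNc : N.IsComplement' (P : Subgroup ↥K))
    (hM : ∃ x : G, (N.map K.subtype).map (MulAut.conj x).toMonoidHom ≤ H) :
    ∃ x : G, K.map (MulAut.conj x).toMonoidHom ≤ H := by
  obtain ⟨x, hx⟩ := hM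
  have hpN : ¬ p ∣ Nat.card N := by
    rw [← hNc.index_eq_card]; exact P.not_dvd_index
  have hcardM : Nat.card (N.map K.subtype) = Nat.card N :=
    Subgroup.card_map_of_injective K.subtype_injective
  have hKsup : K ≤ N.map K.subtype ⊔ (P : Subgroup ↥K).map K.subtype := by
    intro k hk
    have h1 : (⟨k, hk⟩ : ↥K) ∈ N ⊔ (P : Subgroup ↥K) := by
      rw [hNc.sup_eq_top]; exact Subgroup.mem_top _
    have h2 : K.subtype ⟨k, hk⟩ ∈ (N ⊔ (P : Subgroup ↥K)).map K.subtype :=
      Subgroup.mem_map_of_mem _ h1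
    rw [Subgroup.map_sup] at h2
    exact h2
  have hKN : K ≤ Subgroup.normalizer ((N.map K.subtype : Subgroup G) : Set G) := by
    intro k hk
    have : (⟨k, hk⟩ : ↥K) ∈ Subgroup.normalizer (N : Set ↥K) := by
      rw [Subgroup.normalizer_eq_top_iff.mpr hNn]; exact Subgroup.mem_top _
    exact coe_mem_normalizer_map_subtype N ⟨k, hk⟩ this
  have hPkK : (P : Subgroup ↥K).map K.subtype ≤ K := Subgroup.map_subtype_le _
  have hPkp : IsPGroup p ((P : Subgroup ↥K).map K.subtype) := P.isPGroup'.map _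
  have hcardM1 : Nat.card ((N.map K.subtype).map (MulAut.conj x).toMonoidHom) = Nat.card N := by
    rw [card_map_conj, hcardM]
  obtain ⟨Sy, hSy⟩ := S.exists_sylow_le_A hpσ
  have hcent : (Sy : Subgroup G) ≤ Subgroup.centralizer
      (((N.map K.subtype).map (MulAut.conj x).toMonoidHom : Subgroup G) : Set G) := by
    intro s hs
    rw [Subgroup.mem_centralizer_iff]
    intro m hm
    have hom : orderOf m ∣ Nat.card ((N.map K.subtype).map (MulAut.conj x).toMonoidHom) := by
      have := orderOf_dvd_natCard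
        (⟨m, hm⟩ : ↥((N.map K.subtype).map (MulAut.conj x).toMonoidHom))
      rwa [Subgroup.orderOf_mk] at this
    have hcop : (orderOf m).Coprime p := by
      apply Nat.Coprime.symm
      rw [Nat.Prime.coprime_iff_not_dvd hp.out]
      intro hd
      apply hpN
      rw [← hcardM1]
      exact hd.trans hom
    exact S.centralize hp.out hpσ Sy.isPGroup' (hSy.trans S.A_le) (hx hm) hcop s hs
  have hR0N : ((P : Subgroup ↥K).map K.subtype).map (MulAut.conj x).toMonoidHom ≤
      Subgroup.normalizer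
        (((N.map K.subtype).map (MulAut.conj x).toMonoidHom : Subgroup G) : Set G) :=
    map_conj_le_normalizer (hPkK.trans hKN) x
  obtain ⟨n, hn, hnle⟩ := sylow_step _ Sy hcent
    (((P : Subgroup ↥K).map K.subtype).map (MulAut.conj x).toMonoidHom) (hPkp.map _) hR0N
  exact ⟨n * x, finish_step hKsup x n hx hn (hnle.trans (hSy.trans S.A_le))⟩

theorem Setup.case_b (S : Setup σ τ π H A B) {p : ℕ} [hp : Fact p.Prime] (hpσ : p ∈ σ)
    (K : Subgroup G) (hKπ : Cfsg.IsPiSubgroup π K) (hKσ : ¬ Cfsg.IsPiSubgroup σ K)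
    (IH : ∀ M : Subgroup G, Nat.card M < Nat.card K → Cfsg.IsPiSubgroup π M →
      ∃ x : G, M.map (MulAut.conj x).toMonoidHom ≤ H)
    (Q' : Subgroup G) (hQ'K : Q' ≤ K) (hQ'p : IsPGroup p Q') (g' : G) (hg'K : g' ∈ K)
    (hg'N : g' ∈ Subgroup.normalizer (Q' : Set G)) (hg'cop : (orderOf g').Coprime p)
    (hnc : ∃ q ∈ Q', g' * q ≠ q * g') :
    ∃ x : G, K.map (MulAut.conj x).toMonoidHom ≤ H := by
  obtain ⟨q, hq, hne⟩ := hnc
  have hsub : ∀ M : Subgroup G, M ≤ K → Cfsg.IsPiSubgroup π M := by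
    intro M hM r hr hrd
    exact hKπ r hr (hrd.trans (Subgroup.card_dvd_of_le hM))
  have hzK : Subgroup.zpowers g' ≤ K := by rwa [Subgroup.zpowers_le]
  have hzN : Subgroup.zpowers g' ≤ Subgroup.normalizer (Q' : Set G) := by
    rwa [Subgroup.zpowers_le]
  have key : ∀ c ∈ Subgroup.zpowers g', Q' ⊔ Subgroup.zpowers c ≠ K → c * q = q * c := by
    intro c hc hneK
    have hcK : c ∈ K := hzK hc
    have hle : Q' ⊔ Subgroup.zpowers c ≤ K := sup_le hQ'K (by rwa [Subgroup.zpowers_le])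
    have hlt : Nat.card ↥(Q' ⊔ Subgroup.zpowers c) < Nat.card K := by
      by_contra hcon
      push_neg at hcon
      exact hneK (Subgroup.eq_of_le_of_card_ge hle hcon)
    have hcop : (orderOf c).Coprime p :=
      Nat.Coprime.coprime_dvd_left (orderOf_dvd_of_mem_zpowers hc) hg'cop
    exact S.key hp.out hpσ (IH _ hlt (hsub _ hle)) le_sup_left hQ'p
      ((le_sup_right : Subgroup.zpowers c ≤ Q' ⊔ Subgroup.zpowers c) (Subgroup.mem_zpowers c))
      hcop q hq
  have hdiv : ∀ c ∈ Subgroup.zpowers g', Q' ⊔ Subgroup.zpowers c = K →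
      Nat.card K ∣ orderOf c * Nat.card Q' := by
    intro c hc heq
    have h1 := card_sup_dvd Q' (Subgroup.zpowers c) ((Subgroup.zpowers_le.mpr hc).trans hzN)
    rw [sup_comm, heq, Nat.card_zpowers] at h1
    exact h1
  have hg'ne : orderOf g' ≠ 1 := by
    intro h1
    rw [orderOf_eq_one_iff] at h1
    apply hne; rw [h1, one_mul, mul_one]
  have hg'dvd : orderOf g' ∣ Nat.card K := by
    have := orderOf_dvd_natCard (⟨g', hg'K⟩ : ↥K)
    rwa [Subgroup.orderOf_mk] at this
  obtain ⟨s, hs, hsd⟩ := Nat.exists_prime_and_dvd hg'ne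
  haveI : Fact s.Prime := ⟨hs⟩
  have hsp : s ≠ p := by
    intro h
    rw [h] at hsd
    have := Nat.dvd_gcd hsd (dvd_refl p)
    rw [Nat.Coprime.gcd_eq_one hg'cop] at this
    exact hp.out.one_lt.ne' (Nat.dvd_one.mp this)
  obtain ⟨a, b, ha, hb, hab, ⟨k, hak⟩, hbcop⟩ := exists_p_decomp g' s hs
  by_cases hMb : Q' ⊔ Subgroup.zpowers b = K
  · exfalso
    have h1 := hdiv b hb hMb
    have h3 : s ∣ orderOf b * Nat.card Q' := hsd.trans (hg'dvd.trans h1)
    rcases (Nat.Prime.dvd_mul hs).mp h3 with h4 | h4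
    · have := Nat.dvd_gcd h4 (dvd_refl s)
      rw [Nat.Coprime.gcd_eq_one hbcop] at this
      exact hs.one_lt.ne' (Nat.dvd_one.mp this)
    · obtain ⟨j, hj⟩ := IsPGroup.iff_card.mp hQ'p
      rw [hj] at h4
      exact hsp ((Nat.prime_dvd_prime_iff_eq hs hp.out).mp (hs.dvd_of_dvd_pow h4))
  by_cases hMa : Q' ⊔ Subgroup.zpowers a = K
  · have h1 := hdiv a ha hMa
    obtain ⟨j, hj⟩ := IsPGroup.iff_card.mp hQ'p
    have h2 : Nat.card K ∣ s ^ k * p ^ j := by
      rw [← hj]; exact h1.trans (Nat.mul_dvd_mul_right hak _)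
    have hsK : s ∣ Nat.card K := hsd.trans hg'dvd
    have hsπ : s ∈ π := hKπ s hs hsK
    have hsτ : s ∈ τ := by
      rw [S.hπ] at hsπ
      rcases (Set.mem_union _ _ _).mp hsπ with h | h
      · exfalso
        apply hKσ
        intro r hr hrd
        have h4 : r ∣ s ^ k * p ^ j := hrd.trans h2
        rcases (Nat.Prime.dvd_mul hr).mp h4 with h5 | h5
        · rw [(Nat.prime_dvd_prime_iff_eq hr hs).mp (hr.dvd_of_dvd_pow h5)]; exact h
        · rw [(Nat.prime_dvd_prime_iff_eq hr hp.out).mp (hr.dvd_of_dvd_pow h5)]; exact hpσ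
      · exact h
    obtain ⟨x, hx⟩ := S.sigma_conj Q' (isPiSubgroup_of_isPGroup hpσ hQ'p)
    obtain ⟨Sy, hSy⟩ := S.exists_sylow_le_B hsτ
    have hcent : (Sy : Subgroup G) ≤
        Subgroup.centralizer ((Q'.map (MulAut.conj x).toMonoidHom : Subgroup G) : Set G) :=
      (hSy.trans S.B_le_cent).trans (Subgroup.centralizer_le (SetLike.coe_subset_coe.mpr hx))
    have hR0N : (Subgroup.zpowers a).map (MulAut.conj x).toMonoidHom ≤
        Subgroup.normalizer ((Q'.map (MulAut.conj x).toMonoidHom : Subgroup G) : Set G) :=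
      map_conj_le_normalizer ((Subgroup.zpowers_le.mpr ha).trans hzN) x
    obtain ⟨n, hn, hnle⟩ := sylow_step _ Sy hcent
      ((Subgroup.zpowers a).map (MulAut.conj x).toMonoidHom)
      ((isPGroup_zpowers hak).map _) hR0N
    exact ⟨n * x, finish_step (le_of_eq hMa.symm) x n (hx.trans S.A_le) hn
      (hnle.trans (hSy.trans S.B_le))⟩
  · exfalso
    apply hne
    have h1 := key a ha hMa
    have h2 := key b hb hMb
    rw [hab]
    calc a * b * q = a * (b * q) := mul_assoc _ _ _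
      _ = a * (q * b) := by rw [h2]
      _ = (a * q) * b := (mul_assoc _ _ _).symm
      _ = (q * a) * b := by rw [h1]
      _ = q * (a * b) := mul_assoc _ _ _

theorem Setup.main (S : Setup σ τ π H A B) : ∀ n : ℕ, ∀ K : Subgroup G, Nat.card K = n →
    Cfsg.IsPiSubgroup π K → ∃ x : G, K.map (MulAut.conj x).toMonoidHom ≤ H := by
  intro n
  induction n using Nat.strong_induction_on with
  | _ n ih =>
    intro K hKn hKπ
    by_cases hτK : Cfsg.IsPiSubgroup τ K
    · obtain ⟨x, hx⟩ := S.tau_conj K hτK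
      exact ⟨x, hx.trans S.B_le⟩
    by_cases hσK : Cfsg.IsPiSubgroup σ K
    · obtain ⟨x, hx⟩ := S.sigma_conj K hσK
      exact ⟨x, hx.trans S.A_le⟩
    have IH : ∀ M : Subgroup G, Nat.card M < Nat.card K → Cfsg.IsPiSubgroup π M →
        ∃ x : G, M.map (MulAut.conj x).toMonoidHom ≤ H := by
      intro M hM hMπ
      exact ih (Nat.card M) (by omega) M rfl hMπ
    unfold Cfsg.IsPiSubgroup at hτK
    push_neg at hτK
    obtain ⟨p, hp, hpK, hpτ⟩ := hτK
    haveI : Fact p.Prime := ⟨hp⟩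
    have hpσ : p ∈ σ := by
      have := hKπ p hp hpK
      rw [S.hπ] at this
      rcases (Set.mem_union _ _ _).mp this with h | h
      · exact h
      · exact absurd h hpτ
    obtain ⟨P⟩ : Nonempty (Sylow p ↥K) := inferInstance
    by_cases hN : ∃ N : Subgroup ↥K, N.Normal ∧ N.IsComplement' (P : Subgroup ↥K)
    · obtain ⟨N, hNn, hNc⟩ := hN
      apply S.case_a hpσ K P N hNn hNc
      apply IH
      · have hpN : ¬ p ∣ Nat.card N := by
          rw [← hNc.index_eq_card]; exact P.not_dvd_index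
        have hcardM : Nat.card (N.map K.subtype) = Nat.card N :=
          Subgroup.card_map_of_injective K.subtype_injective
        have hle : Nat.card (N.map K.subtype) ≤ Nat.card K :=
          Nat.le_of_dvd Nat.card_pos (Subgroup.card_dvd_of_le (Subgroup.map_subtype_le _))
        rcases lt_or_eq_of_le hle with h | h
        · exact h
        · exfalso; apply hpN; rw [← hcardM, h]; exact hpK
      · intro r hr hrd
        exact hKπ r hr (hrd.trans (Subgroup.card_dvd_of_le (Subgroup.map_subtype_le _)))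
    · rw [Cfsg.Agent.S0071.result P] at hN
      push_neg at hN
      obtain ⟨Q, hQP, g, hgN, hgcop, hgC⟩ := hN
      apply S.case_b hpσ K hKπ hσK IH (Q.map K.subtype) (Subgroup.map_subtype_le _)
        ((P.isPGroup'.to_le hQP).map _) (g : G) g.2
        (coe_mem_normalizer_map_subtype Q g hgN)
        (by rw [Subgroup.orderOf_coe]; exact hgcop)
      rw [Subgroup.mem_centralizer_iff] at hgC
      push_neg at hgC
      obtain ⟨h, hh, hne⟩ := hgC
      refine ⟨(h : G), Subgroup.mem_map_of_mem _ hh, ?_⟩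
      intro heq
      apply hne
      apply Subtype.ext
      simpa using heq.symm

theorem Setup.dpi (S : Setup σ τ π H A B) : Cfsg.IsDPiGroup π G := by
  have hHπ : Cfsg.IsPiSubgroup π H := S.hH.1
  have hmax : ∀ K : Subgroup G, Maximal (Cfsg.IsPiSubgroup π) K →
      ∃ x : G, K = H.map (MulAut.conj x).toMonoidHom := by
    intro K hK
    obtain ⟨x, hx⟩ := S.main (Nat.card K) K rfl hK.1
    refine ⟨x⁻¹, ?_⟩
    have hle : K ≤ H.map (MulAut.conj x⁻¹).toMonoidHom := by
      intro k hk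
      refine ⟨x * k * x⁻¹, hx (conj_mem_map_conj x hk), ?_⟩
      simp only [MulEquiv.coe_toMonoidHom, MulAut.conj_apply]
      group
    have hπ' : Cfsg.IsPiSubgroup π (H.map (MulAut.conj x⁻¹).toMonoidHom) := by
      intro r hr hrd
      rw [card_map_conj] at hrd
      exact hHπ r hr hrd
    exact le_antisymm hle (hK.2 hπ' hle)
  intro K1 K2 hK1 hK2
  obtain ⟨x1, hx1⟩ := hmax K1 hK1
  obtain ⟨x2, hx2⟩ := hmax K2 hK2
  refine ⟨x2 * x1⁻¹, ?_⟩
  rw [hx2, hx1, map_conj_mul, inv_mul_cancel_right]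

end Main

/-- Let σ and τ be disjoint sets of primes with union π. Suppose a finite group G has a Hall π-subgroup H which is the direct product of a nilpotent σ-subgroup and a τ-subgroup (two elementwise-commuting subgroups generating H), and that the maximal τ-subgroups of G are pairwise conjugate. Then the maximal π-subgroups of G are pairwise conjugate. -/
theorem result {G : Type*} [Group G] [Finite G]
    (σ τ π : Set ℕ) (hπ : π = σ ∪ τ) (hd : Disjoint σ τ) (H Hs Ht : Subgroup G) (hH : Cfsg.IsPiHall π H)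
    (hs : Cfsg.IsPiSubgroup σ Hs) (ht : Cfsg.IsPiSubgroup τ Ht) (hsn : Group.IsNilpotent Hs)
    (hjoin : Hs ⊔ Ht = H) (hcomm : ∀ a ∈ Hs, ∀ b ∈ Ht, a * b = b * a) (hD : Cfsg.IsDPiGroup τ G) :
    Cfsg.IsDPiGroup π G :=
  (⟨hπ, hd, hH, hs, ht, hsn, hjoin, hcomm, hD⟩ : Setup σ τ π H Hs Ht).dpi

end Cfsg.Agent.S4334
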