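import Mathlib
import Cfsg.Statements.S4341
import Cfsg.Agent.Lib.Helper2.SylowCount
import Cfsg.Agent.S0545

set_option autoImplicit false
open Cfsg

namespace Cfsg.Agent.S4341

open Cfsg.Agent.Lib.Helper2

/-- Let K be a normal subgroup of a finite group G, p a prime and P a Sylow p-subgroup of G; let N be the normalizer of P ∩ K inside the subgroup PK. Then the number of Sylow p-subgroups of G equals the product of the numbers of Sylow p-subgroups of G/K, of K, and of N/(P ∩ K). (The normality of P ∩ K in N, which always holds, is assumed as a hypothesis so that the quotient can be formed.) -/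
theorem result {G : Type*} [Group G] [Finite G]
    (p : ℕ) [Fact p.Prime] (K : Subgroup G) [K.Normal] (P : Sylow p G) (N : Subgroup G)
    (hN : N = ((P : Subgroup G) ⊔ K) ⊓ Subgroup.normalizer (((P : Subgroup G) ⊓ K : Subgroup G) : Set G))
    [hn : (((P : Subgroup G) ⊓ K).subgroupOf N).Normal] :
    Nat.card (Sylow p G) =
      Nat.card (Sylow p (G ⧸ K)) * Nat.card (Sylow p K) * Nat.card (Sylow p (N ⧸ ((P : Subgroup G) ⊓ K).subgroupOf N)) := by
  -- basic inclusions
  have hPnormQ : (P : Subgroup G) ≤
      Subgroup.normalizer (((P : Subgroup G) ⊓ K : Subgroup G) : Set G) := by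
    intro x hx
    rw [Subgroup.mem_normalizer_iff]
    intro y
    constructor
    · rintro ⟨hyP, hyK⟩
      exact ⟨(P : Subgroup G).mul_mem ((P : Subgroup G).mul_mem hx hyP) ((P : Subgroup G).inv_mem hx),
        (inferInstance : K.Normal).conj_mem y hyK x⟩
    · rintro ⟨hyP, hyK⟩
      refine ⟨?_, ?_⟩
      · have := (P : Subgroup G).mul_mem ((P : Subgroup G).mul_mem ((P : Subgroup G).inv_mem hx) hyP) hx
        have e : x⁻¹ * (x * y * x⁻¹) * x = y := by group
        rw [e] at this
        exact this
      · have := (inferInstance : K.Normal).conj_mem _ hyK x⁻¹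
        simpa [mul_assoc] using this
  have hPN : (P : Subgroup G) ≤ N := by
    rw [hN]; exact le_inf le_sup_left hPnormQ
  have hNM : N ≤ (P : Subgroup G) ⊔ K := by rw [hN]; exact inf_le_left
  have hNPN : Subgroup.normalizer ((P : Subgroup G) : Set G) ⊓ ((P : Subgroup G) ⊔ K) ≤ N := by
    rw [hN]
    refine le_inf inf_le_right ?_
    intro x hx
    have hxP : x ∈ Subgroup.normalizer ((P : Subgroup G) : Set G) := hx.1
    rw [Subgroup.mem_normalizer_iff] at hxP ⊢
    intro y
    constructor
    · rintro ⟨hyP, hyK⟩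
      exact ⟨(hxP y).mp hyP, (inferInstance : K.Normal).conj_mem y hyK x⟩
    · rintro ⟨hyP, hyK⟩
      refine ⟨(hxP y).mpr hyP, ?_⟩
      have := (inferInstance : K.Normal).conj_mem _ hyK x⁻¹
      simpa [mul_assoc] using this
  -- (A)
  have hA := card_sylow_eq_mul K P
  -- (B)
  have hB : (Subgroup.normalizer ((P : Subgroup G) : Set G)).relIndex ((P : Subgroup G) ⊔ K) =
      (Subgroup.normalizer ((P : Subgroup G) : Set G)).relIndex N *
        N.relIndex ((P : Subgroup G) ⊔ K) := by
    have h1 := Subgroup.relIndex_mul_relIndex _ _ _ hNPN hNM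
    rw [Subgroup.inf_relIndex_right] at h1
    rw [← h1]
    congr 1
    rw [← Subgroup.inf_relIndex_right, inf_assoc, inf_eq_right.mpr hNM, Subgroup.inf_relIndex_right]
  -- (C)
  have hC : N.relIndex ((P : Subgroup G) ⊔ K) = Nat.card (Sylow p K) := by
    have hM : (P : Subgroup G) ⊔ K = N ⊔ K :=
      le_antisymm (sup_le (hPN.trans le_sup_left) le_sup_right) (sup_le hNM le_sup_right)
    rw [hM, relIndex_sup_of_normal N K]
    have hQK : (P : Subgroup G) ⊓ K ≤ K := inf_le_right
    have hpg : IsPGroup p (((P : Subgroup G) ⊓ K).subgroupOf K) := by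
      have h1 : IsPGroup p ((P : Subgroup G) ⊓ K : Subgroup G) := P.isPGroup'.to_le inf_le_left
      exact h1.comap_of_injective K.subtype K.subtype_injective
    have hidx : ¬ p ∣ (((P : Subgroup G) ⊓ K).subgroupOf K).index := by
      intro hdiv
      have h1 : (((P : Subgroup G) ⊓ K).subgroupOf K).index = (P : Subgroup G).relIndex K := by
        show ((P : Subgroup G) ⊓ K).relIndex K = _
        exact Subgroup.inf_relIndex_right _ _
      rw [h1] at hdiv
      exact P.not_dvd_index
        (hdiv.trans (Cfsg.Agent.S0545.relIndex_dvd_index_of_normal_right (P : Subgroup G) K))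
    have hcount := card_sylow_subgroup K ((P : Subgroup G) ⊓ K) hQK (hpg.toSylow hidx)
      (IsPGroup.toSylow_coe hpg hidx)
    rw [hcount, hN]
    rw [← Subgroup.inf_relIndex_right, inf_assoc, inf_comm _ K, ← inf_assoc,
      inf_eq_right.mpr (le_sup_right : K ≤ (P : Subgroup G) ⊔ K), inf_comm,
      Subgroup.inf_relIndex_right]
  -- (D)
  have hD : (Subgroup.normalizer ((P : Subgroup G) : Set G)).relIndex N =
      Nat.card (Sylow p (N ⧸ ((P : Subgroup G) ⊓ K).subgroupOf N)) := by
    have hpg : IsPGroup p (((P : Subgroup G) ⊓ K).subgroupOf N) := by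
      have h1 : IsPGroup p ((P : Subgroup G) ⊓ K : Subgroup G) := P.isPGroup'.to_le inf_le_left
      exact h1.comap_of_injective N.subtype N.subtype_injective
    rw [card_sylow_quotient_pgroup _ hpg,
      card_sylow_subgroup N (P : Subgroup G) hPN (P.subtype hPN) (Sylow.coe_subtype P hPN)]
  rw [hA, hB, hC, hD]
  ring

end Cfsg.Agent.S4341
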