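import Mathlib
import Cfsg.Statements.S4342
import Cfsg.Agent.Lib.Helper2.SylowCount

set_option autoImplicit false
open Cfsg

namespace Cfsg.Agent.S4342

open Cfsg.Agent.Lib.Helper2

/-- Let H be a normal subgroup of a finite group G and p a prime not dividing the index of H. Then the number of Sylow p-subgroups of H/Z(H) equals the number of Sylow p-subgroups of G. -/
theorem result {G : Type*} [Group G] [Finite G]
    (p : ℕ) [Fact p.Prime] (H : Subgroup G) [H.Normal] (hp : ¬ p ∣ H.index) :
    Nat.card (Sylow p (H ⧸ Subgroup.center H)) = Nat.card (Sylow p G) := by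
  obtain ⟨P⟩ : Nonempty (Sylow p G) := inferInstance
  -- P ≤ H
  have hPH : (P : Subgroup G) ≤ H := by
    intro x hx
    obtain ⟨k, hk⟩ := P.isPGroup' ⟨x, hx⟩
    have hk' : x ^ p ^ k = 1 := by
      have := congrArg Subtype.val hk
      simpa using this
    have h1 : orderOf (QuotientGroup.mk' H x) ∣ p ^ k := by
      apply orderOf_dvd_of_pow_eq_one
      rw [← map_pow, hk', map_one]
    have h2 : orderOf (QuotientGroup.mk' H x) ∣ H.index := by
      rw [Subgroup.index_eq_card]
      exact orderOf_dvd_natCard _
    have hcop : (p ^ k).Coprime H.index :=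
      Nat.Coprime.pow_left _ ((Nat.Prime.coprime_iff_not_dvd (Fact.out)).mpr hp)
    have h3 : orderOf (QuotientGroup.mk' H x) = 1 := Nat.eq_one_of_dvd_coprimes hcop h1 h2
    rw [orderOf_eq_one_iff] at h3
    exact (QuotientGroup.eq_one_iff x).mp h3
  -- n_p(G) = [H : N_H(P)]
  have h1 : Nat.card (Sylow p G) =
      (Subgroup.normalizer ((P : Subgroup G) : Set G)).relIndex H := by
    rw [Sylow.card_eq_index_normalizer P]
    have hF : Subgroup.normalizer ((P : Subgroup G) : Set G) ⊔ H = ⊤ := by
      rw [eq_top_iff]
      have hn : Subgroup.normalizer (H : Set G) = ⊤ := Subgroup.normalizer_eq_top_iff.mpr inferInstance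
      rw [← hn]
      exact frattini_sylow P H hPH
    have := relIndex_sup_of_normal (Subgroup.normalizer ((P : Subgroup G) : Set G)) H
    rw [hF, Subgroup.relIndex_top_right] at this
    exact this
  have h2 : Nat.card (Sylow p H) =
      (Subgroup.normalizer ((P : Subgroup G) : Set G)).relIndex H :=
    card_sylow_subgroup H (P : Subgroup G) hPH (P.subtype hPH) (Sylow.coe_subtype P hPH)
  have h3 : Nat.card (Sylow p H) = Nat.card (Sylow p (H ⧸ Subgroup.center H)) := by
    have := card_sylow_eq_mul (Subgroup.center H) (P.subtype hPH)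
    have hone : (Subgroup.normalizer (((P.subtype hPH : Sylow p H) : Subgroup H) : Set H)).relIndex
        (((P.subtype hPH : Sylow p H) : Subgroup H) ⊔ Subgroup.center H) = 1 := by
      rw [Subgroup.relIndex_eq_one]
      exact sup_le Subgroup.le_normalizer (Subgroup.center_le_normalizer _)
    rw [hone, mul_one] at this
    exact this
  rw [← h3, h2, h1]

end Cfsg.Agent.S4342
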