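import Cfsg.Statements.S4343
import Cfsg.Agent.Lib.Helper29.GroupFusion
import Mathlib.GroupTheory.IndexNormal

set_option autoImplicit false
open Cfsg

namespace Cfsg.Agent.S4343

open Cfsg.Agent.Lib.Helper29

section
variable {S : Type*} [Group S] [Finite S] {p : ℕ} [Fact p.Prime]

/-- a Sylow subgroup of a nonabelian simple group is proper -/
theorem sylow_ne_top [IsSimpleGroup S] (hS : ¬ IsMulCommutative S) (P : Sylow p S) :
    (P : Subgroup S) ≠ ⊤ := by
  intro htop
  have hpS : IsPGroup p S := by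
    have := P.isPGroup'
    rw [htop] at this
    exact this.of_equiv Subgroup.topEquiv
  haveI := hpS.center_nontrivial
  have hc : Subgroup.center S = ⊤ := by
    rcases (inferInstance : (Subgroup.center S).Normal).eq_bot_or_eq_top with h | h
    · exfalso
      exact (Subgroup.nontrivial_iff_ne_bot _).1 inferInstance h
    · exact h
  apply hS
  refine ⟨⟨fun a b => ?_⟩⟩
  have ha : a ∈ Subgroup.center S := by rw [hc]; trivial
  exact (Subgroup.mem_center_iff.1 ha b).symm

theorem sylow_nontrivial [IsSimpleGroup S] (hS : ¬ IsMulCommutative S) (hp : p ∣ Nat.card S)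
    (P : Sylow p S) : ∃ Q : Sylow p S, Q ≠ P := by
  by_contra hcon
  push Not at hcon
  have : Subsingleton (Sylow p S) := ⟨fun a b => (hcon a).trans (hcon b).symm⟩
  have hn : (P : Subgroup S).Normal := Sylow.normal_of_subsingleton P
  rcases hn.eq_bot_or_eq_top with h | h
  · have h1 : Nat.card P = 1 := by
      show Nat.card (P : Subgroup S) = 1
      rw [h]; exact Subgroup.card_bot
    rw [P.card_eq_multiplicity] at h1
    have h2 : 0 < (Nat.card S).factorization p :=
      (Fact.out : p.Prime).factorization_pos_of_dvd Nat.card_pos.ne' hp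
    have h3 : 1 < p ^ (Nat.card S).factorization p :=
      Nat.one_lt_pow h2.ne' (Fact.out : p.Prime).one_lt
    omega
  · exact sylow_ne_top hS P h

/-- if there are fewer than `p²` Sylow subgroups, two distinct ones meet in a subgroup of index `p` -/
theorem card_eq_mul_card_inf (hn : Nat.card (Sylow p S) < p ^ 2) (P Q : Sylow p S) (hPQ : Q ≠ P) :
    Nat.card P = p * Nat.card ((P : Subgroup S) ⊓ Q : Subgroup S) := by
  have hst : MulAction.stabilizer (P : Subgroup S) Q = ((P : Subgroup S) ⊓ Q).subgroupOf P := by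
    ext x
    rw [MulAction.mem_stabilizer_iff, Subgroup.mem_subgroupOf, Subgroup.smul_def,
      Sylow.smul_eq_iff_mem_normalizer, ← P.isPGroup'.inf_normalizer_sylow Q, Subgroup.mem_inf]
    exact ⟨fun h => ⟨x.2, h⟩, fun h => h.2⟩
  have hidx := MulAction.index_stabilizer (P : Subgroup S) Q
  have horb : MulAction.orbit (P : Subgroup S) Q ⊆ Set.univ \ {P} := by
    rintro _ ⟨x, rfl⟩
    refine ⟨trivial, ?_⟩
    intro h
    rw [Set.mem_singleton_iff] at h
    apply hPQ
    have h1 : (x : S) • Q = P := h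
    have h2 : (x : S) • P = P := Sylow.smul_eq_iff_mem_normalizer.2 (Subgroup.le_normalizer x.2)
    exact smul_left_cancel (x : S) (h1.trans h2.symm)
  have hfin : (Set.univ \ {P} : Set (Sylow p S)).Finite := Set.toFinite _
  have h1 : (MulAction.orbit (P : Subgroup S) Q).ncard < p ^ 2 := by
    have := Set.ncard_le_ncard horb hfin
    rw [Set.ncard_sdiff_singleton_of_mem (Set.mem_univ P), Set.ncard_univ] at this
    have hpos : 0 < Nat.card (Sylow p S) := Nat.card_pos
    omega
  rw [← hidx] at h1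
  have hdvd : (MulAction.stabilizer (P : Subgroup S) Q).index ∣ Nat.card (P : Subgroup S) :=
    Subgroup.index_dvd_card _
  have hcard := P.card_eq_multiplicity
  rw [show Nat.card (P : Subgroup S) = p ^ (Nat.card S).factorization p from hcard] at hdvd
  obtain ⟨j, _, hj⟩ := (Nat.dvd_prime_pow (Fact.out : p.Prime)).1 hdvd
  rw [hj] at h1
  have hj2 : j < 2 := (Nat.pow_lt_pow_iff_right (Fact.out : p.Prime).one_lt).1 h1
  have hmul := Subgroup.card_mul_index (MulAction.stabilizer (P : Subgroup S) Q)
  have hcst : Nat.card (MulAction.stabilizer (P : Subgroup S) Q) =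
      Nat.card ((P : Subgroup S) ⊓ Q : Subgroup S) := by
    rw [hst]; exact card_subgroupOf_of_le inf_le_left
  interval_cases j
  · exfalso
    rw [pow_zero, Subgroup.index_eq_one, hst, Subgroup.subgroupOf_eq_top] at hj
    have hle : (P : Subgroup S) ≤ Q := hj.trans inf_le_right
    exact hPQ (Sylow.ext (P.3 Q.isPGroup' hle))
  · rw [hj, hcst, pow_one] at hmul
    show Nat.card (P : Subgroup S) = _
    rw [← hmul, mul_comm]

theorem le_normalizer_of_card_eq_mul {P D : Subgroup S} (hP : IsPGroup p P) (hD : D ≤ P)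
    (hcard : Nat.card P = p * Nat.card D) : P ≤ Subgroup.normalizer (D : Set S) := by
  rw [← Subgroup.normal_subgroupOf_iff_le_normalizer hD]
  apply Subgroup.normal_of_index_eq_minFac_card
  have h1 := Subgroup.card_mul_index (D.subgroupOf P)
  rw [card_subgroupOf_of_le hD, hcard] at h1
  have hDpos : 0 < Nat.card D := Nat.card_pos
  have hidx : (D.subgroupOf P).index = p := by
    have : Nat.card D * (D.subgroupOf P).index = Nat.card D * p := by rw [h1, mul_comm]
    exact Nat.eq_of_mul_eq_mul_left hDpos this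
  rw [hidx]
  obtain ⟨n, hn⟩ := hP.exists_card_eq
  have hp := (Fact.out : p.Prime)
  have hn0 : n ≠ 0 := by
    rintro rfl
    rw [pow_zero, hcard] at hn
    have := hp.one_lt
    nlinarith
  rw [hn, Nat.pow_minFac hn0, hp.minFac_eq]

theorem mem_smul_sylow {g x : S} {P : Sylow p S} :
    x ∈ ((g • P : Sylow p S) : Subgroup S) ↔ g⁻¹ * x * g ∈ (P : Subgroup S) := by
  rw [Sylow.coe_subgroup_smul, Subgroup.mem_pointwise_smul_iff_inv_smul_mem]
  simp [MulAut.smul_def]

theorem isSylowSub_top (P : Sylow p S) : IsSylowSub p (P : Subgroup S) ⊤ := by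
  rw [isSylowSub_iff le_top]
  refine ⟨P.isPGroup', ?_⟩
  rw [Subgroup.card_top]
  exact P.card_eq_multiplicity

end

/-- Let S be a finite non-abelian simple group and p a prime dividing its order. If S has fewer than p² Sylow p-subgroups, then its Sylow p-subgroups have order p. -/
theorem result {S : Type*} [Group S] [Finite S]
    [IsSimpleGroup S] (hS : ¬ IsMulCommutative S) (p : ℕ) [Fact p.Prime] (hp : p ∣ Nat.card S)
    (hn : Nat.card (Sylow p S) < p ^ 2) (P : Sylow p S) : Nat.card P = p := by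
  classical
  obtain ⟨Q₁, hQ₁⟩ := sylow_nontrivial hS hp P
  haveI : Nonempty {pq : Sylow p S × Sylow p S // pq.1 ≠ pq.2} := ⟨⟨(Q₁, P), hQ₁⟩⟩
  obtain ⟨⟨⟨P₀, Q₀⟩, hne⟩, hmin⟩ := Finite.exists_min
    (fun pq : {pq : Sylow p S × Sylow p S // pq.1 ≠ pq.2} =>
      Nat.card ((pq.1.1 : Subgroup S) ⊓ pq.1.2 : Subgroup S))
  simp only at hne hmin
  set D : Subgroup S := (P₀ : Subgroup S) ⊓ Q₀ with hD
  have hcP : Nat.card P₀ = p * Nat.card D := card_eq_mul_card_inf hn P₀ Q₀ (Ne.symm hne)
  have hcQ : Nat.card Q₀ = p * Nat.card D := by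
    have := card_eq_mul_card_inf hn Q₀ P₀ hne
    rw [inf_comm] at this
    exact this
  have hPN : (P₀ : Subgroup S) ≤ Subgroup.normalizer (D : Set S) :=
    le_normalizer_of_card_eq_mul P₀.isPGroup' inf_le_left hcP
  have hQN : (Q₀ : Subgroup S) ≤ Subgroup.normalizer (D : Set S) :=
    le_normalizer_of_card_eq_mul Q₀.isPGroup' inf_le_right hcQ
  have hDR : ∀ R : Sylow p S, D ≤ R := by
    intro R
    have hsyl : IsSylowSub p (P₀ : Subgroup S) (Subgroup.normalizer (D : Set S)) :=
      IsSylowSub.of_le hPN le_top (isSylowSub_top P₀)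
    have hRN : IsPGroup p ((R : Subgroup S) ⊓ Subgroup.normalizer (D : Set S) : Subgroup S) :=
      R.isPGroup'.to_le inf_le_left
    obtain ⟨m, hm, hcj⟩ := exists_cj_le_of_isSylowSub hsyl inf_le_right hRN
    have hTQ : ((m • R : Sylow p S) : Subgroup S) ⊓ Q₀ ≤ D := by
      intro x hx
      refine ⟨?_, hx.2⟩
      apply hcj
      rw [mem_cj]
      refine ⟨mem_smul_sylow.1 hx.1, ?_⟩
      exact Subgroup.mul_mem _ (Subgroup.mul_mem _ (Subgroup.inv_mem _ hm) (hQN hx.2)) hm
    have hDT : D ≤ ((m • R : Sylow p S) : Subgroup S) := by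
      by_cases hTQ₀ : (m • R : Sylow p S) = Q₀
      · rw [hTQ₀]; exact inf_le_right
      · have h1 := hmin ⟨(m • R, Q₀), hTQ₀⟩
        simp only at h1
        have h2 := Subgroup.eq_of_le_of_card_ge hTQ h1
        rw [← h2]; exact inf_le_left
    intro d hd
    have h1 : m * d * m⁻¹ ∈ D := (Subgroup.mem_normalizer_iff.1 hm d).1 hd
    have h2 := mem_smul_sylow.1 (hDT h1)
    have e : m⁻¹ * (m * d * m⁻¹) * m = d := by group
    rwa [e] at h2
  have hcore : D ≤ (P : Subgroup S).normalCore := by
    intro d hd b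
    have h1 := hDR (b⁻¹ • P) hd
    have h2 := mem_smul_sylow.1 h1
    rwa [inv_inv] at h2
  rcases (Subgroup.normalCore_normal (P : Subgroup S)).eq_bot_or_eq_top with h | h
  · rw [h, le_bot_iff] at hcore
    rw [hcore, Subgroup.card_bot, mul_one] at hcP
    have e : Nat.card P = Nat.card P₀ := by
      rw [P.card_eq_multiplicity, P₀.card_eq_multiplicity]
    exact e.trans hcP
  · exfalso
    apply sylow_ne_top hS P
    rw [eq_top_iff, ← h]
    exact Subgroup.normalCore_le _

end Cfsg.Agent.S4343
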