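import Cfsg.Statements.S4344

set_option autoImplicit false
open Cfsg

namespace Cfsg.Agent.S4344

/-- Let S be a finite non-abelian simple group, M a maximal subgroup of S and C a cyclic normal subgroup of M. If a Sylow p-subgroup P of S (for a prime p dividing the order of S) is contained in C, then the number of Sylow p-subgroups of S equals the index of M. -/
theorem result {S : Type*} [Group S] [Finite S]
    [IsSimpleGroup S] (hS : ¬ IsMulCommutative S) (p : ℕ) [Fact p.Prime] (hp : p ∣ Nat.card S)
    (M : Subgroup S) (hM : IsCoatom M) (C : Subgroup S) (hCM : C ≤ M) (hCn : (C.subgroupOf M).Normal)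
    (hC : IsCyclic C) (P : Sylow p S) (hP : (P : Subgroup S) ≤ C) :
    Nat.card (Sylow p S) = M.index := by
  rw [P.card_eq_index_normalizer]
  congr 1
  -- M ≤ N(P)
  have hMN : M ≤ Subgroup.normalizer ((P : Subgroup S) : Set S) := by
    intro m hm
    refine (Sylow.smul_eq_iff_mem_normalizer (g := m) (P := P)).1 ?_
    -- m • P ≤ C
    have hmP : ((m • P : Sylow p S) : Subgroup S) ≤ C := by
      intro x hx
      rw [Sylow.coe_subgroup_smul, Subgroup.mem_pointwise_smul_iff_inv_smul_mem] at hx
      have hx' : m⁻¹ * x * m ∈ (P : Subgroup S) := by simpa [MulAut.smul_def] using hx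
      have h1 : m⁻¹ * x * m ∈ C := hP hx'
      have h2 := hCn.conj_mem ⟨m⁻¹ * x * m, hCM h1⟩ h1 ⟨m, hm⟩
      have h3 : ((⟨m, hm⟩ * ⟨m⁻¹ * x * m, hCM h1⟩ * ⟨m, hm⟩⁻¹ : M) : S) ∈ C := h2
      have h4 : ((⟨m, hm⟩ * ⟨m⁻¹ * x * m, hCM h1⟩ * ⟨m, hm⟩⁻¹ : M) : S) = x := by
        show m * (m⁻¹ * x * m) * m⁻¹ = x
        group
      rwa [h4] at h3
    obtain ⟨c, hc⟩ := MulAction.exists_smul_eq C (P.subtype hP) ((m • P).subtype hmP)
    have hcomm : IsMulCommutative C := inferInstance
    have hnorm : ((P.subtype hP : Sylow p C) : Subgroup C).Normal := by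
      have : ∀ a b : C, a * b = b * a := fun a b => mul_comm' a b
      exact ⟨fun n hn g => by rw [this g n, mul_assoc, mul_inv_cancel, mul_one]; exact hn⟩
    rw [Sylow.smul_eq_of_normal] at hc
    exact (Sylow.subtype_injective hc).symm
  -- N(P) ≠ ⊤
  have hNtop : Subgroup.normalizer ((P : Subgroup S) : Set S) ≠ ⊤ := by
    intro htop
    have hPn : (P : Subgroup S).Normal := Subgroup.normalizer_eq_top_iff.1 htop
    rcases hPn.eq_bot_or_eq_top with hbot | htop'
    · have := P.ne_bot_of_dvd_card hp
      exact this hbot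
    · apply hS
      have hpS : IsPGroup p S := by
        have := P.isPGroup'
        rw [htop'] at this
        exact this.of_equiv Subgroup.topEquiv
      have hnil : Group.IsNilpotent S := hpS.isNilpotent
      have hsolv : Group.IsSolvable S := inferInstance
      exact ⟨⟨IsSimpleGroup.comm_iff_isSolvable.2 hsolv⟩⟩
  rcases eq_or_lt_of_le hMN with h | h
  · exact h.symm
  · exact absurd (hM.2 _ h) hNtop

end Cfsg.Agent.S4344
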