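import Mathlib
import Cfsg.Statements.S4345
import Cfsg.Agent.S0545
import Cfsg.Agent.S0553

set_option autoImplicit false
open Pointwise
open Cfsg

namespace Cfsg.Agent.S4345

open Cfsg.Agent.Lib.Helper13
open scoped Pointwise

universe u

/-- For `N` normal, `[DN : D] = [N : N ∩ D]`. -/
theorem relIndex_sup_normal {G : Type*} [Group G] [Finite G] (D N : Subgroup G) [N.Normal] :
    D.relIndex (D ⊔ N) = D.relIndex N := by
  have h1 : N.relIndex (D ⊔ N) = N.relIndex D := Subgroup.relIndex_sup_right D N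
  have cN : Nat.card (D ⊓ N : Subgroup G) * D.relIndex N = Nat.card N := by
    have := Subgroup.relIndex_mul_relIndex ⊥ (D ⊓ N) N bot_le inf_le_right
    rwa [Subgroup.relIndex_bot_left, Subgroup.relIndex_bot_left, Subgroup.inf_relIndex_right] at this
  have cD : Nat.card (D ⊓ N : Subgroup G) * N.relIndex D = Nat.card D := by
    have := Subgroup.relIndex_mul_relIndex ⊥ (D ⊓ N) D bot_le inf_le_left
    rwa [Subgroup.relIndex_bot_left, Subgroup.relIndex_bot_left, Subgroup.inf_relIndex_left] at this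
  have c1 : Nat.card N * N.relIndex (D ⊔ N) = Nat.card (D ⊔ N : Subgroup G) := by
    have := Subgroup.relIndex_mul_relIndex ⊥ N (D ⊔ N) bot_le le_sup_right
    rwa [Subgroup.relIndex_bot_left, Subgroup.relIndex_bot_left] at this
  have c2 : Nat.card D * D.relIndex (D ⊔ N) = Nat.card (D ⊔ N : Subgroup G) := by
    have := Subgroup.relIndex_mul_relIndex ⊥ D (D ⊔ N) bot_le le_sup_left
    rwa [Subgroup.relIndex_bot_left, Subgroup.relIndex_bot_left] at this
  have hpos : 0 < Nat.card (D ⊓ N : Subgroup G) * N.relIndex D := by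
    rw [cD]; exact Nat.card_pos
  apply Nat.eq_of_mul_eq_mul_left hpos
  symm
  calc Nat.card (D ⊓ N : Subgroup G) * N.relIndex D * D.relIndex N
      = (Nat.card (D ⊓ N : Subgroup G) * D.relIndex N) * N.relIndex D := by ring
    _ = Nat.card N * N.relIndex (D ⊔ N) := by rw [cN, h1]
    _ = Nat.card D * D.relIndex (D ⊔ N) := by rw [c1, c2]
    _ = Nat.card (D ⊓ N : Subgroup G) * N.relIndex D * D.relIndex (D ⊔ N) := by rw [cD]

theorem card_sylow_quotient {G : Type u} [Group G] [Finite G] [Group.IsSolvable G] (p : ℕ)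
    [Fact p.Prime] (N : Subgroup G) [N.Normal] (P : Sylow p G) :
    Nat.card (Sylow p G) = Nat.card (Sylow p (G ⧸ N)) *
      (Subgroup.normalizer ((P : Subgroup G) : Set G)).relIndex N := by
  have hsurj : Function.Surjective (QuotientGroup.mk' N) := QuotientGroup.mk'_surjective N
  have h1 : Nat.card (Sylow p (G ⧸ N)) =
      (Subgroup.normalizer (((P : Subgroup G) ⊔ N : Subgroup G) : Set G)).index := by
    rw [Sylow.card_eq_index_normalizer (P.mapSurjective hsurj),
      ← Subgroup.index_comap_of_surjective _ hsurj]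
    congr 1
    have := Subgroup.comap_normalizer_eq_of_surjective
      ((P.mapSurjective hsurj : Sylow p (G ⧸ N)) : Subgroup (G ⧸ N)) hsurj
    have e : Subgroup.normalizer ((P.mapSurjective hsurj : Sylow p (G ⧸ N)) : Set (G ⧸ N)) =
        Subgroup.normalizer (((P.mapSurjective hsurj : Sylow p (G ⧸ N)) : Subgroup (G ⧸ N)) :
          Set (G ⧸ N)) := rfl
    rw [e, this, Sylow.coe_mapSurjective, Subgroup.comap_map_eq, QuotientGroup.ker_mk']
  have hsm : ∀ g : G, MulAut.conj g • ((P : Subgroup G) ⊔ N) = MulAut.conj g • (P : Subgroup G) ⊔ N := by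
    intro g
    rw [Subgroup.smul_sup, cj_normal g N]
  have hNT : Subgroup.normalizer ((P : Subgroup G) : Set G) ≤
      Subgroup.normalizer (((P : Subgroup G) ⊔ N : Subgroup G) : Set G) := by
    intro g hg
    rw [← cj_eq_self_iff_mem_normalizer] at hg ⊢
    rw [hsm, hg]
  have h2 : Nat.card (Sylow p G) = (Subgroup.normalizer ((P : Subgroup G) : Set G)).index :=
    Sylow.card_eq_index_normalizer P
  have h3 := Subgroup.relIndex_mul_index hNT
  have h4 : Subgroup.normalizer (((P : Subgroup G) ⊔ N : Subgroup G) : Set G) =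
      Subgroup.normalizer ((P : Subgroup G) : Set G) ⊔ N := by
    apply le_antisymm
    · intro t ht
      rw [← cj_eq_self_iff_mem_normalizer, hsm] at ht
      obtain ⟨n, hnN, hn⟩ := Cfsg.Agent.S0545.conj_in_normal N (P : Subgroup G)
        (MulAut.conj t • (P : Subgroup G)) P.card_coprime_index (card_cj t _) ht
      have h5 : n⁻¹ * t ∈ Subgroup.normalizer ((P : Subgroup G) : Set G) := by
        rw [← cj_eq_self_iff_mem_normalizer, cj_mul, ← hn, ← cj_mul, inv_mul_cancel, cj_one]
      have : t = n * (n⁻¹ * t) := by group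
      rw [this]
      exact Subgroup.mul_mem _ (Subgroup.mem_sup_right hnN) (Subgroup.mem_sup_left h5)
    · apply sup_le hNT
      exact le_sup_right.trans Subgroup.le_normalizer
  rw [h2, ← h3, h1, mul_comm]
  congr 1
  rw [h4, relIndex_sup_normal]

theorem main (p ℓ : ℕ) [Fact p.Prime] (hℓ : ℓ.Prime) (n : ℕ) :
    ∀ (G : Type u) [Group G] [Finite G] [Group.IsSolvable G], Nat.card G = n →
      ℓ ^ (Nat.card (Sylow p G)).factorization ℓ ≡ 1 [MOD p] := by
  induction n using Nat.strong_induction_on with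
  | _ n ih =>
  intro G _ _ _ hn
  rcases subsingleton_or_nontrivial G with hsub | hnt
  · obtain ⟨P⟩ : Nonempty (Sylow p G) := inferInstance
    have : Nat.card (Sylow p G) = 1 := by
      rw [Sylow.card_eq_index_normalizer P, Subgroup.index_eq_one]
      exact Subsingleton.elim _ _
    rw [this, Nat.factorization_one, Finsupp.zero_apply, pow_zero]
  obtain ⟨N, hNn, hNne, hNmin⟩ := Cfsg.Agent.S0553.exists_minimal_normal G
  obtain ⟨q, d, hq, hd, -, hNcard⟩ := Cfsg.Agent.S0547.minNormal_elemAb N hNne hNmin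
  obtain ⟨P⟩ : Nonempty (Sylow p G) := inferInstance
  have hform := card_sylow_quotient p N P
  have hlt : Nat.card (G ⧸ N) < n := by
    rw [← hn, ← Subgroup.index_eq_card, ← Subgroup.card_mul_index N]
    have h1 : 1 < Nat.card N := N.one_lt_card_iff_ne_bot.mpr hNne
    have h2 : 0 < N.index := Nat.pos_of_ne_zero Subgroup.index_ne_zero_of_finite
    nlinarith
  have ihQ := ih _ hlt (G ⧸ N) rfl
  have hdvd : (Subgroup.normalizer ((P : Subgroup G) : Set G)).relIndex N ∣ q ^ d :=
    hNcard ▸ Subgroup.relIndex_dvd_card _ _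
  obtain ⟨k, _, hk⟩ := (Nat.dvd_prime_pow hq).mp hdvd
  have h1 : Nat.card (Sylow p G) ≡ 1 [MOD p] := card_sylow_modEq_one p G
  have h2 : Nat.card (Sylow p (G ⧸ N)) ≡ 1 [MOD p] := card_sylow_modEq_one p (G ⧸ N)
  rw [hk] at hform
  have hqk : q ^ k ≡ 1 [MOD p] := by
    have h3 : Nat.card (Sylow p (G ⧸ N)) * q ^ k ≡ 1 * q ^ k [MOD p] := h2.mul_right _
    rw [← hform, one_mul] at h3
    exact h3.symm.trans h1
  rw [hform]
  have ha : Nat.card (Sylow p (G ⧸ N)) ≠ 0 := Nat.card_pos.ne'
  rw [Nat.factorization_mul ha (pow_ne_zero _ hq.ne_zero), Finsupp.add_apply, pow_add,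
    Nat.Prime.factorization_pow hq]
  by_cases hlq : q = ℓ
  · subst hlq
    rw [Finsupp.single_eq_same]
    have := ihQ.mul hqk
    rwa [mul_one] at this
  · rw [Finsupp.single_eq_of_ne (Ne.symm hlq), pow_zero, mul_one]
    exact ihQ

/-- Let G be a finite solvable group and p, ℓ primes. Then the largest power of ℓ dividing the number of Sylow p-subgroups of G is congruent to 1 modulo p. -/
theorem result {G : Type*} [Group G] [Finite G]
    (hG : Group.IsSolvable G) (p ℓ : ℕ) [Fact p.Prime] (hℓ : ℓ.Prime) :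
    ℓ ^ (Nat.card (Sylow p G)).factorization ℓ ≡ 1 [MOD p] := by
  exact main p ℓ hℓ _ G rfl

end Cfsg.Agent.S4345
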