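import Cfsg.Statements.S4348

set_option autoImplicit false
open Cfsg

namespace Cfsg.Agent.S4348

theorem pCore_le_sylow' {G : Type*} [Group G] (p : ℕ) (P : Sylow p G) : pCore p G ≤ P :=
  sSup_le (fun _ hN => by have := hN.1; exact hN.2.le_sylow_of_normal P)

/-- Let G be a finite group, p a prime and P a Sylow p-subgroup of G, and let O_p(G) be the largest normal p-subgroup of G. If P/O_p(G) is cyclic, then some element of p-power order of G lies in exactly one Sylow p-subgroup. -/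
theorem result {G : Type*} [Group G] [Finite G]
    (p : ℕ) [Fact p.Prime] (P : Sylow p G)
    [hn : ((Cfsg.pCore p G).subgroupOf (P : Subgroup G)).Normal]
    (hc : IsCyclic ((P : Subgroup G) ⧸ (Cfsg.pCore p G).subgroupOf (P : Subgroup G))) :
    ∃ x : G, (∃ k : ℕ, orderOf x = p ^ k) ∧ ∃! Q : Sylow p G, x ∈ Q := by
  obtain ⟨gbar, hgbar⟩ := hc.exists_generator
  obtain ⟨g, rfl⟩ := QuotientGroup.mk_surjective gbar
  refine ⟨(g : G), ?_, P, g.2, ?_⟩
  · obtain ⟨k, hk⟩ := (IsPGroup.iff_orderOf.1 P.isPGroup') g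
    exact ⟨k, by rw [Subgroup.orderOf_coe, hk]⟩
  · intro Q hQ
    have hPQ : (P : Subgroup G) ≤ Q := by
      intro y hy
      obtain ⟨n, hn'⟩ := Subgroup.mem_zpowers_iff.1 (hgbar (QuotientGroup.mk ⟨y, hy⟩))
      have h1 : ((g ^ n : (P : Subgroup G)) : (P : Subgroup G) ⧸ (Cfsg.pCore p G).subgroupOf (P : Subgroup G)) =
          QuotientGroup.mk ⟨y, hy⟩ := by
        rw [← hn']; rfl
      rw [QuotientGroup.eq] at h1
      have h2 : ((g ^ n)⁻¹ * (⟨y, hy⟩ : (P : Subgroup G)) : (P : Subgroup G)).1 ∈ pCore p G := h1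
      have h3 : ((g : G) ^ n)⁻¹ * y ∈ (Q : Subgroup G) := pCore_le_sylow' p Q (by simpa using h2)
      have h4 : (g : G) ^ n ∈ (Q : Subgroup G) := (Q : Subgroup G).zpow_mem hQ n
      have h5 := (Q : Subgroup G).mul_mem h4 h3
      simpa using h5
    exact Sylow.ext (P.is_maximal' Q.isPGroup' hPQ)

end Cfsg.Agent.S4348
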