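import Cfsg.Statements.S4357
import Mathlib
import Cfsg.Agent.Lib.Helper12.RedundantB
import Cfsg.Agent.S2507

set_option autoImplicit false
open Cfsg

namespace Cfsg.Agent.S4357

open Cfsg.Agent.Lib.Helper12.SL2 Cfsg.Agent.Lib.Helper12.Redundant

variable {F : Type*} [Field F]

local notation "SL2" => Matrix.SpecialLinearGroup (Fin 2)
local notation "M2" => Matrix (Fin 2) (Fin 2)

theorem two_pow_mod_four (k : ℕ) (hk : 2 ^ k % 4 = 2) : k = 1 := by
  rcases k with _ | _ | k
  · simp at hk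
  · rfl
  · exfalso
    have : 2 ^ (k + 1 + 1) = 4 * 2 ^ k := by ring
    rw [this] at hk
    omega

theorem two_pow_odd (k : ℕ) (hk : 2 ^ k % 2 = 1) : k = 0 := by
  rcases k with _ | k
  · rfl
  · exfalso
    have : 2 ^ (k + 1) = 2 * 2 ^ k := by ring
    rw [this] at hk
    omega

/-- for odd `q`: the torus of `i` has `2`-power order iff `q ± 1` is a power of two. -/
theorem pow_iff [Fintype F] (h2 : (2 : F) ≠ 0) :
    (∃ a : ℕ, Nat.card (Tor (qi : SL2 F)) = 2 ^ a) ↔
      ((∃ k : ℕ, Fintype.card F + 1 = 2 ^ k) ∨ (∃ k : ℕ, Fintype.card F = 2 ^ k + 1)) := by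
  have hodd := Cfsg.Agent.S2475.odd_card_of_two_ne_zero h2
  have hq : Fintype.card F % 2 = 1 := Nat.odd_iff.mp hodd
  have hq1 : 1 < Fintype.card F := Fintype.one_lt_card
  rw [Cfsg.Agent.S2431.card_Tor_qi h2 hq]
  constructor
  · rintro ⟨a, ha⟩
    split_ifs at ha with h4
    · right; exact ⟨a, by omega⟩
    · left; exact ⟨a, ha⟩
  · rintro (⟨k, hk⟩ | ⟨k, hk⟩)
    · split_ifs with h4
      · exfalso
        have : 2 ^ k % 4 = 2 := by omega
        have := two_pow_mod_four k this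
        subst this
        omega
      · exact ⟨k, hk⟩
    · split_ifs with h4
      · exact ⟨k, by omega⟩
      · have : 2 ^ k % 4 = 2 := by omega
        have := two_pow_mod_four k this
        subst this
        exact ⟨2, by omega⟩


/-- Let F be a finite field with q elements, p a prime and G = SL(2, F). Say a Sylow p-subgroup Q of G is redundant when every element of p-power order lies in some Sylow p-subgroup other than Q. Then G has a redundant Sylow p-subgroup if and only if p = 2 and q is not of any of the forms 2ᵏ - 1, 2ᵏ, 2ᵏ + 1. -/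
theorem result {F : Type*} [Field F] [Fintype F] (p : ℕ) [Fact p.Prime] :
    (∃ Q : Sylow p (Matrix.SpecialLinearGroup (Fin 2) F), ∀ x : Matrix.SpecialLinearGroup (Fin 2) F,
        (∃ k : ℕ, orderOf x = p ^ k) → ∃ P : Sylow p (Matrix.SpecialLinearGroup (Fin 2) F), P ≠ Q ∧ x ∈ P) ↔
      (p = 2 ∧ (¬ ∃ k : ℕ, Fintype.card F + 1 = 2 ^ k) ∧ (¬ ∃ k : ℕ, Fintype.card F = 2 ^ k) ∧
        ¬ ∃ k : ℕ, Fintype.card F = 2 ^ k + 1) := by
  have hq1 : 1 < Fintype.card F := Fintype.one_lt_card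
  show (∃ Q : Sylow p (SL2 F), Red p Q) ↔ _
  constructor
  · intro hred
    have hp2 : p = 2 := by
      by_contra hp2
      exact not_red_odd p hp2 hred
    subst hp2
    have h2 : (2 : F) ≠ 0 := by
      intro h2
      have : CharP F 2 := Cfsg.Agent.S2507.charP_two h2
      exact not_red_char 2 hred
    have hodd := Cfsg.Agent.S2475.odd_card_of_two_ne_zero h2
    have hq : Fintype.card F % 2 = 1 := Nat.odd_iff.mp hodd
    obtain ⟨α, β, hαβ⟩ : ∃ α β : F, α ^ 2 + β ^ 2 = -1 := by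
      obtain ⟨x, y, h⟩ := exists_sq_add_sq hq (1 : F) 1 (-1) one_ne_zero one_ne_zero
      exact ⟨x, y, by simpa using h⟩
    have hnp : ¬ ∃ a : ℕ, Nat.card (Tor (qi : SL2 F)) = 2 ^ a := by
      rintro ⟨a, ha⟩
      exact not_red_of_pow h2 α β hαβ a ha hred
    rw [pow_iff h2] at hnp
    push Not at hnp
    refine ⟨rfl, ?_, ?_, ?_⟩
    · rintro ⟨k, hk⟩; exact hnp.1 k hk
    · rintro ⟨k, hk⟩
      have : 2 ^ k % 2 = 1 := by omega
      have := two_pow_odd k this
      subst this
      omega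
    · rintro ⟨k, hk⟩; exact hnp.2 k hk
  · rintro ⟨rfl, h1, h3, h4⟩
    have h2 : (2 : F) ≠ 0 := by
      intro h2
      have : CharP F 2 := Cfsg.Agent.S2507.charP_two h2
      obtain ⟨n, -, hn⟩ := FiniteField.card F 2
      exact h3 ⟨n, hn⟩
    have hodd := Cfsg.Agent.S2475.odd_card_of_two_ne_zero h2
    have hq : Fintype.card F % 2 = 1 := Nat.odd_iff.mp hodd
    obtain ⟨α, β, hαβ⟩ : ∃ α β : F, α ^ 2 + β ^ 2 = -1 := by
      obtain ⟨x, y, h⟩ := exists_sq_add_sq hq (1 : F) 1 (-1) one_ne_zero one_ne_zero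
      exact ⟨x, y, by simpa using h⟩
    apply red_of_not_pow h2 α β hαβ
    rw [pow_iff h2]
    rintro (h | h)
    · exact h1 h
    · exact h4 h

end Cfsg.Agent.S4357
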