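import Cfsg.Statements.S4356
import Mathlib
import Cfsg.Agent.S4357
import Cfsg.Agent.S0807

set_option autoImplicit false
open Cfsg

namespace Cfsg.Agent.S4356

open Cfsg.Agent.Lib.Helper12.SL2 Cfsg.Agent.Lib.Helper12.Redundant Cfsg.Agent.S0807

variable {F : Type*} [Field F]

local notation "SL2" => Matrix.SpecialLinearGroup (Fin 2)
local notation "M2" => Matrix (Fin 2) (Fin 2)
local notation "PSL2" => Matrix.ProjectiveSpecialLinearGroup (Fin 2)

theorem mkH_surjective : Function.Surjective (mkH : SL2 F →* PSL2 F) :=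
  QuotientGroup.mk'_surjective _

theorem zc_pow_odd (n : ℕ) (hn : Odd n) : (zc' : SL2 F) ^ n = zc' := by
  obtain ⟨m, rfl⟩ := hn
  rw [pow_succ, pow_mul, pow_two, Cfsg.Agent.S2471.zc_mul_self, one_pow, one_mul]

/-- a `p`-element whose image lies in the image of a Sylow subgroup lies in it. -/
theorem mem_of_mkH_mem [Fintype F] (p : ℕ) [Fact p.Prime] (P : Sylow p (SL2 F)) (x : SL2 F)
    (k : ℕ) (hx : x ^ p ^ k = 1) (hm : mkH x ∈ (P : Subgroup (SL2 F)).map mkH) : x ∈ P := by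
  obtain ⟨y, hy, hyx⟩ := hm
  have hz : y⁻¹ * x ∈ Subgroup.center (SL2 F) := QuotientGroup.eq.mp hyx
  have hxyz : x = y * (y⁻¹ * x) := by group
  suffices hs : y⁻¹ * x ∈ P by
    rw [hxyz]; exact Subgroup.mul_mem _ hy hs
  by_cases h2 : (2 : F) = 0
  · rw [Cfsg.Agent.S2475.center_eq_bot_of_char_two h2, Subgroup.mem_bot] at hz
    rw [hz]; exact Subgroup.one_mem _
  · rcases (Cfsg.Agent.S2508.mem_center_iff_eq h2 _).mp hz with h1 | h1
    · rw [h1]; exact Subgroup.one_mem _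
    · by_cases hp : p = 2
      · subst hp
        rw [h1]
        exact Cfsg.Agent.S2430.mem_sylow_of_commute P zc' 1
          (by rw [pow_one, pow_two]; exact Cfsg.Agent.S2471.zc_mul_self)
          (fun g _ => (Cfsg.Agent.S2471.zc_central g).symm)
      · exfalso
        obtain ⟨l, hl⟩ := P.isPGroup' ⟨y, hy⟩
        have hl' : y ^ p ^ l = 1 := by simpa using congrArg Subtype.val hl
        have hxy : x = y * zc' := by rw [hxyz, h1]
        have hcomm : Commute y (zc' : SL2 F) := Cfsg.Agent.S2471.zc_central y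
        have hn : x ^ (p ^ k * p ^ l) = 1 := by rw [pow_mul, hx, one_pow]
        rw [hxy, hcomm.mul_pow, mul_comm (p ^ k), pow_mul, hl', one_pow, one_mul] at hn
        have hodd : Odd (p ^ l * p ^ k) := by
          have hpo : Odd p := (Fact.out : p.Prime).odd_of_ne_two hp
          exact (hpo.pow).mul hpo.pow
        rw [zc_pow_odd _ hodd] at hn
        exact zc_ne_one h2 hn

/-- redundancy descends from `PSL₂` to `SL₂` -/
theorem red_lift [Fintype F] (p : ℕ) [Fact p.Prime]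
    (hred : ∃ Q : Sylow p (PSL2 F), Red p Q) : ∃ Q : Sylow p (SL2 F), Red p Q := by
  obtain ⟨Qb, hQb⟩ := hred
  obtain ⟨Q, rfl⟩ := Sylow.mapSurjective_surjective (mkH_surjective (F := F)) p Qb
  refine ⟨Q, ?_⟩
  intro x hx
  obtain ⟨k, hk⟩ := hx
  have hxk : x ^ p ^ k = 1 := by rw [← hk]; exact pow_orderOf_eq_one x
  have hxb : ∃ m : ℕ, orderOf (mkH x : PSL2 F) = p ^ m := by
    have : orderOf (mkH x : PSL2 F) ∣ p ^ k := by
      apply orderOf_dvd_of_pow_eq_one
      rw [← map_pow, hxk, map_one]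
    obtain ⟨m, -, hm⟩ := (Nat.dvd_prime_pow (Fact.out : p.Prime)).mp this
    exact ⟨m, hm⟩
  obtain ⟨Pb, hPne, hxP⟩ := hQb (mkH x) hxb
  obtain ⟨P, rfl⟩ := Sylow.mapSurjective_surjective (mkH_surjective (F := F)) p Pb
  refine ⟨P, ?_, ?_⟩
  · rintro rfl
    exact hPne rfl
  · exact mem_of_mkH_mem p P x k hxk hxP

/-- redundancy passes from `SL₂` to `PSL₂` for `p = 2`, `q` odd -/
theorem red_push [Fintype F] (h2 : (2 : F) ≠ 0)
    (hred : ∃ Q : Sylow 2 (SL2 F), Red 2 Q) : ∃ Q : Sylow 2 (PSL2 F), Red 2 Q := by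
  obtain ⟨Q, hQ⟩ := hred
  refine ⟨Q.mapSurjective (mkH_surjective (F := F)), ?_⟩
  intro xb hxb
  obtain ⟨x, rfl⟩ := mkH_surjective xb
  obtain ⟨k, hk⟩ := hxb
  have h1 : x ^ 2 ^ k ∈ Subgroup.center (SL2 F) := by
    rw [← QuotientGroup.eq_one_iff]
    show mkH (x ^ 2 ^ k) = 1
    rw [map_pow, ← hk]; exact pow_orderOf_eq_one _
  have h3 := Cfsg.Agent.S2475.sq_eq_one_of_mem_center _ h1
  have hx : ∃ m : ℕ, orderOf x = 2 ^ m := by
    have : orderOf x ∣ 2 ^ (k + 1) :=
      orderOf_dvd_of_pow_eq_one (by rw [pow_succ, pow_mul, pow_two]; exact h3)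
    obtain ⟨m, -, hm⟩ := (Nat.dvd_prime_pow Nat.prime_two).mp this
    exact ⟨m, hm⟩
  obtain ⟨P, hPne, hxP⟩ := hQ x hx
  have hker : ∀ R : Sylow 2 (SL2 F), (mkH : SL2 F →* PSL2 F).ker ≤ R := by
    intro R z hz
    rw [QuotientGroup.ker_mk'] at hz
    rcases (Cfsg.Agent.S2508.mem_center_iff_eq h2 z).mp hz with e | e
    · rw [e]; exact Subgroup.one_mem _
    · rw [e]
      exact Cfsg.Agent.S2430.mem_sylow_of_commute R zc' 1
        (by rw [pow_one, pow_two]; exact Cfsg.Agent.S2471.zc_mul_self)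
        (fun g _ => (Cfsg.Agent.S2471.zc_central g).symm)
  refine ⟨P.mapSurjective (mkH_surjective (F := F)), ?_, ?_⟩
  · intro heq
    apply hPne
    have e : (P : Subgroup (SL2 F)).map mkH = (Q : Subgroup (SL2 F)).map mkH :=
      congrArg (fun S : Sylow 2 (PSL2 F) => (S : Subgroup (PSL2 F))) heq
    apply Sylow.ext
    rw [← Subgroup.comap_map_eq_self (hker P), e, Subgroup.comap_map_eq_self (hker Q)]
  · exact Subgroup.mem_map_of_mem _ hxP


/-- Let F be a finite field with q elements, p a prime and G = PSL(2, F). Say a Sylow p-subgroup Q of G is redundant when every element of p-power order lies in some Sylow p-subgroup other than Q. Then G has a redundant Sylow p-subgroup if and only if p = 2 and q is not of any of the forms 2ᵏ - 1, 2ᵏ, 2ᵏ + 1. -/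
theorem result {F : Type*} [Field F] [Fintype F] (p : ℕ) [Fact p.Prime] :
    (∃ Q : Sylow p (Matrix.ProjectiveSpecialLinearGroup (Fin 2) F), ∀ x : Matrix.ProjectiveSpecialLinearGroup (Fin 2) F,
        (∃ k : ℕ, orderOf x = p ^ k) → ∃ P : Sylow p (Matrix.ProjectiveSpecialLinearGroup (Fin 2) F), P ≠ Q ∧ x ∈ P) ↔
      (p = 2 ∧ (¬ ∃ k : ℕ, Fintype.card F + 1 = 2 ^ k) ∧ (¬ ∃ k : ℕ, Fintype.card F = 2 ^ k) ∧
        ¬ ∃ k : ℕ, Fintype.card F = 2 ^ k + 1) := by
  rw [← Cfsg.Agent.S4357.result (F := F) p]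
  constructor
  · intro h
    exact red_lift p h
  · intro h
    have hcond := (Cfsg.Agent.S4357.result (F := F) p).mp h
    obtain ⟨rfl, -, h3, -⟩ := hcond
    have h2 : (2 : F) ≠ 0 := by
      intro h2
      have : CharP F 2 := Cfsg.Agent.S2507.charP_two h2
      obtain ⟨n, -, hn⟩ := FiniteField.card F 2
      exact h3 ⟨n, hn⟩
    exact red_push h2 h

end Cfsg.Agent.S4356
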