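import Cfsg.Statements.S4365
import Mathlib

set_option autoImplicit false
open Cfsg

namespace Cfsg.Agent.S4365

variable {P : Type*} [Group P]

/-- centralizer of an element -/
abbrev Cn (x : P) : Subgroup P := Subgroup.centralizer ({x} : Set P)

lemma mem_Cn {x g : P} : g ∈ Cn x ↔ g * x = x * g := by
  rw [Subgroup.mem_centralizer_iff]
  simp [eq_comm]

lemma center_le_Cn (x : P) : Subgroup.center P ≤ Cn x := Subgroup.center_le_centralizer _

lemma Cn_eq_top_iff {x : P} : Cn x = ⊤ ↔ x ∈ Subgroup.center P := by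
  constructor
  · intro h
    rw [Subgroup.mem_center_iff]
    intro g
    have : g ∈ Cn x := by rw [h]; trivial
    exact mem_Cn.mp this
  · intro h
    rw [eq_top_iff]
    intro g _
    rw [mem_Cn]
    exact (Subgroup.mem_center_iff.mp h g)

lemma eq_of_le {p a : ℕ} (hp : 0 < p)
    (H : ∀ x : P, x ∉ Subgroup.center P → (Cn x).index = p ^ a)
    {x y : P} (hx : x ∉ Subgroup.center P) (hy : y ∉ Subgroup.center P) (h : Cn x ≤ Cn y) :
    Cn x = Cn y := by
  have h1 := Subgroup.relIndex_mul_index h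
  rw [H x hx, H y hy] at h1
  have hpos : 0 < p ^ a := pow_pos hp a
  have h2 : (Cn x).relIndex (Cn y) = 1 := by
    have : (Cn x).relIndex (Cn y) * p ^ a = 1 * p ^ a := by rw [h1, one_mul]
    exact Nat.eq_of_mul_eq_mul_right hpos this
  exact le_antisymm h (Subgroup.relIndex_eq_one.mp h2)

lemma Cn_pow {p a : ℕ} (hp : 0 < p)
    (H : ∀ x : P, x ∉ Subgroup.center P → (Cn x).index = p ^ a)
    {x : P} (n : ℕ) (hxn : x ^ n ∉ Subgroup.center P) : Cn (x ^ n) = Cn x := by
  have hx : x ∉ Subgroup.center P := fun h => hxn (pow_mem h n)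
  refine (eq_of_le hp H hx hxn ?_).symm
  intro g hg
  rw [mem_Cn] at hg ⊢
  exact ((Commute.pow_right (show Commute g x from hg) n)).eq

lemma Cn_mul_central {x z : P} (hz : z ∈ Subgroup.center P) : Cn (x * z) = Cn x := by
  ext g
  rw [mem_Cn, mem_Cn]
  have hzg : g * z = z * g := Subgroup.mem_center_iff.mp hz g
  constructor
  · intro h
    have : g * x * z = x * g * z := by
      calc g * x * z = g * (x * z) := by rw [mul_assoc]
        _ = x * z * g := h
        _ = x * (z * g) := by rw [mul_assoc]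
        _ = x * (g * z) := by rw [hzg]
        _ = x * g * z := by rw [mul_assoc]
    exact mul_right_cancel this
  · intro h
    calc g * (x * z) = g * x * z := by rw [mul_assoc]
      _ = x * g * z := by rw [h]
      _ = x * (g * z) := by rw [mul_assoc]
      _ = x * (z * g) := by rw [hzg]
      _ = x * z * g := by rw [mul_assoc]

/-- conjugating by a power -/
lemma conj_pow_central {x g w : P} (hw : w ∈ Subgroup.center P) (h : g * x * g⁻¹ = x * w) (n : ℕ) :
    g ^ n * x * (g ^ n)⁻¹ = x * w ^ n := by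
  induction n with
  | zero => simp
  | succ n ih =>
    have hwn : w ^ n ∈ Subgroup.center P := pow_mem hw n
    have hc : g * w ^ n = w ^ n * g := Subgroup.mem_center_iff.mp hwn g
    calc g ^ (n + 1) * x * (g ^ (n + 1))⁻¹
        = g * (g ^ n * x * (g ^ n)⁻¹) * g⁻¹ := by
          rw [pow_succ']; group
      _ = g * (x * w ^ n) * g⁻¹ := by rw [ih]
      _ = (g * x * g⁻¹) * (g * w ^ n * g⁻¹) := by group
      _ = (x * w) * (w ^ n) := by rw [h, hc]; group
      _ = x * w ^ (n + 1) := by rw [pow_succ']; group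

/-- Step 1: if `x^p` is noncentral and `g x g⁻¹ = x w` with `w` central, then `w = 1`. -/
lemma step1 {p a : ℕ} (hp : 0 < p) (hP : IsPGroup p P)
    (H : ∀ x : P, x ∉ Subgroup.center P → (Cn x).index = p ^ a)
    {x : P} (hxp : x ^ p ∉ Subgroup.center P) {g w : P} (hw : w ∈ Subgroup.center P)
    (h : g * x * g⁻¹ = x * w) : w = 1 := by
  have ker : ∀ g w : P, w ∈ Subgroup.center P → g * x * g⁻¹ = x * w → w ^ p = 1 → w = 1 := by
    intro g w hw h hwp
    have h1 : g * x ^ p * g⁻¹ = x ^ p := by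
      rw [← conj_pow, h]
      have hc : Commute x w := (Subgroup.mem_center_iff.mp hw x)
      rw [hc.mul_pow, hwp, mul_one]
    have h2 : g ∈ Cn (x ^ p) := by
      rw [mem_Cn]
      calc g * x ^ p = g * x ^ p * g⁻¹ * g := by group
        _ = x ^ p * g := by rw [h1]
    rw [Cn_pow hp H p hxp, mem_Cn] at h2
    have h3 : g * x * g⁻¹ = x := by rw [h2]; group
    rw [h3] at h
    exact (mul_eq_left.mp h.symm)
  have ind : ∀ j : ℕ, ∀ g w : P, w ∈ Subgroup.center P → g * x * g⁻¹ = x * w →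
      w ^ (p ^ j) = 1 → w = 1 := by
    intro j
    induction j with
    | zero => intro g w _ _ h1; simpa using h1
    | succ j ih =>
      intro g w hw h h1
      have h2 : (w ^ (p ^ j)) ^ p = 1 := by rw [← pow_mul, ← pow_succ]; exact h1
      have h3 := ker (g ^ (p ^ j)) (w ^ (p ^ j)) (pow_mem hw _) (conj_pow_central hw h _) h2
      exact ih g w hw h h3
  obtain ⟨j, hj⟩ := hP w
  exact ind j g w hw h hj

/-- Key lemma for Step 2. -/
lemma keyL {p a : ℕ} (hp : 0 < p)
    (H : ∀ x : P, x ∉ Subgroup.center P → (Cn x).index = p ^ a)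
    {x c : P} (hc : c ∈ Cn x) (n : ℕ) (hcn : c ^ n ∈ Subgroup.center P)
    (hxn : x ^ n ∉ Subgroup.center P) : Cn x ≤ Cn c := by
  have hcx : Commute c x := mem_Cn.mp hc
  have e1 : (c * x) ^ n = x ^ n * c ^ n := by
    rw [hcx.mul_pow]
    exact (Subgroup.mem_center_iff.mp hcn (x ^ n)).symm
  have h1 : (c * x) ^ n ∉ Subgroup.center P := by
    rw [e1]
    intro h
    apply hxn
    have := mul_mem h (inv_mem hcn)
    simpa using this
  have h2 : Cn (c * x) = Cn x := by
    rw [← Cn_pow hp H n h1, e1, Cn_mul_central hcn, Cn_pow hp H n hxn]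
  intro g hg
  have hg' : g ∈ Cn (c * x) := by rw [h2]; exact hg
  rw [mem_Cn] at hg hg' ⊢
  have : g * c * x = c * g * x := by
    calc g * c * x = g * (c * x) := by rw [mul_assoc]
      _ = c * x * g := hg'
      _ = c * (x * g) := by rw [mul_assoc]
      _ = c * (g * x) := by rw [hg]
      _ = c * g * x := by rw [mul_assoc]
  exact mul_right_cancel this

/-- Step 2: the centralizer of `x` is abelian if `x^p` is noncentral. -/
lemma step2 {p a : ℕ} (hp : 0 < p) (hP : IsPGroup p P)
    (H : ∀ x : P, x ∉ Subgroup.center P → (Cn x).index = p ^ a)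
    {x : P} (hxp : x ^ p ∉ Subgroup.center P) {c : P} (hc : c ∈ Cn x) : Cn x ≤ Cn c := by
  classical
  have hx : x ∉ Subgroup.center P := fun h => hxp (pow_mem h p)
  have hex : ∃ k : ℕ, x ^ (p ^ k) ∈ Subgroup.center P := by
    obtain ⟨k, hk⟩ := hP x
    exact ⟨k, by rw [hk]; exact one_mem _⟩
  by_cases h1 : ∃ n : ℕ, c ^ n ∈ Subgroup.center P ∧ x ^ n ∉ Subgroup.center P
  · obtain ⟨n, hcn, hxn⟩ := h1
    exact keyL hp H hc n hcn hxn
  by_cases h2 : ∃ n : ℕ, x ^ n ∈ Subgroup.center P ∧ c ^ n ∉ Subgroup.center P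
  · obtain ⟨n, hxn, hcn⟩ := h2
    have hcZ : c ∉ Subgroup.center P := fun h => hcn (pow_mem h n)
    have hxc : x ∈ Cn c := by
      rw [mem_Cn] at hc ⊢; exact hc.symm
    have := keyL hp H hxc n hxn hcn
    exact (eq_of_le hp H hcZ hx this).ge
  push_neg at h1 h2
  -- now c^n ∈ Z ↔ x^n ∈ Z
  set k := Nat.find hex with hk
  have hk0 : k ≠ 0 := by
    intro h0
    have := Nat.find_spec hex
    rw [← hk, h0] at this
    simp at this
    exact hx this
  have hkm : x ^ (p ^ (k - 1)) ∉ Subgroup.center P := by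
    have : k - 1 < k := by omega
    exact Nat.find_min hex this
  have hkk : x ^ (p * p ^ (k - 1)) ∈ Subgroup.center P := by
    have := Nat.find_spec hex
    rw [← hk] at this
    have e : p * p ^ (k - 1) = p ^ k := by
      rw [← pow_succ']; congr 1; omega
    rw [e]; exact this
  have hcp : c ^ p ∉ Subgroup.center P := fun h => hxp (h1 p h)
  have hcpC : c ^ p ∈ Cn x := pow_mem hc p
  have h3 : (c ^ p) ^ (p ^ (k - 1)) ∈ Subgroup.center P := by
    rw [← pow_mul]; exact h2 _ hkk
  have := keyL hp H hcpC _ h3 hkm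
  rwa [Cn_pow hp H p hcp] at this

theorem result {P : Type*} [Group P] [Finite P] (p : ℕ) [Fact p.Prime]
    (hP : IsPGroup p P) (a : ℕ) (ha : 1 ≤ a)
    (hcs : {k : ℕ | ∃ x : P, (Subgroup.centralizer ({x} : Set P)).index = k} = {1, p ^ a}) (x : P) :
    x ^ p ∈ Subgroup.center P := by
  classical
  have hp : 0 < p := (Fact.out : p.Prime).pos
  have H : ∀ x : P, x ∉ Subgroup.center P → (Cn x).index = p ^ a := by
    intro x hx
    have : (Cn x).index ∈ {k : ℕ | ∃ x : P, (Subgroup.centralizer ({x} : Set P)).index = k} :=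
      ⟨x, rfl⟩
    rw [hcs] at this
    rcases this with h | h
    · exfalso
      apply hx
      rw [← Cn_eq_top_iff]
      exact Subgroup.index_eq_one.mp h
    · exact h
  by_contra hxp
  have hx : x ∉ Subgroup.center P := fun h => hxp (pow_mem h p)
  -- Step 3: an element of Z_2 \ Z
  obtain ⟨g, hgZ, hg2⟩ : ∃ g : P, g ∉ Subgroup.center P ∧
      ∀ t : P, t * g * t⁻¹ * g⁻¹ ∈ Subgroup.center P := by
    haveI : Nontrivial (P ⧸ Subgroup.center P) := by
      refine ⟨⟨(x : P ⧸ Subgroup.center P), 1, ?_⟩⟩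
      intro h
      exact hx ((QuotientGroup.eq_one_iff x).mp h)
    have hQ : IsPGroup p (P ⧸ Subgroup.center P) := hP.to_quotient _
    haveI : Nontrivial (Subgroup.center (P ⧸ Subgroup.center P)) := hQ.center_nontrivial
    obtain ⟨⟨q, hq⟩, hq1⟩ := exists_ne (1 : Subgroup.center (P ⧸ Subgroup.center P))
    obtain ⟨g, rfl⟩ := QuotientGroup.mk_surjective q
    refine ⟨g, ?_, ?_⟩
    · intro h
      apply hq1
      ext
      exact (QuotientGroup.eq_one_iff g).mpr h
    · intro t
      rw [← QuotientGroup.eq_one_iff]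
      have := Subgroup.mem_center_iff.mp hq (t : P ⧸ Subgroup.center P)
      simp only [QuotientGroup.mk_mul, QuotientGroup.mk_inv]
      rw [this]; group
  -- g ∈ C(x)
  have hgx : g ∈ Cn x := by
    have hw : x⁻¹ * g * x * g⁻¹ ∈ Subgroup.center P := by
      have := hg2 x⁻¹
      simpa using this
    have h1 : g * x * g⁻¹ = x * (x⁻¹ * g * x * g⁻¹) := by group
    have := step1 hp hP H hxp hw h1
    rw [this, mul_one] at h1
    rw [mem_Cn]
    calc g * x = g * x * g⁻¹ * g := by group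
      _ = x * g := by rw [h1]
  -- A = C(x) = C(g)
  have hAg : Cn x = Cn g := eq_of_le hp H hx hgZ (step2 hp hP H hxp hgx)
  -- A is normal
  have hnorm : ∀ u ∈ Cn x, ∀ t : P, t * u * t⁻¹ ∈ Cn x := by
    intro u hu t
    rw [hAg] at hu ⊢
    rw [mem_Cn] at hu ⊢
    have hw : t⁻¹ * g * t * g⁻¹ ∈ Subgroup.center P := by
      have := hg2 t⁻¹
      simpa using this
    obtain ⟨w, hwdef⟩ : ∃ w : P, w = t⁻¹ * g * t * g⁻¹ := ⟨_, rfl⟩
    rw [← hwdef] at hw
    have e1 : t⁻¹ * g * t = w * g := by rw [hwdef]; group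
    have hwu : u * w = w * u := Subgroup.mem_center_iff.mp hw u
    have e2 : u * (t⁻¹ * g * t) = (t⁻¹ * g * t) * u := by
      rw [e1]
      calc u * (w * g) = (u * w) * g := by rw [mul_assoc]
        _ = w * u * g := by rw [hwu]
        _ = w * (u * g) := by rw [mul_assoc]
        _ = w * (g * u) := by rw [hu]
        _ = w * g * u := by rw [mul_assoc]
    calc t * u * t⁻¹ * g = t * (u * (t⁻¹ * g * t)) * t⁻¹ := by group
      _ = t * ((t⁻¹ * g * t) * u) * t⁻¹ := by rw [e2]
      _ = g * (t * u * t⁻¹) := by group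
  -- Step 4: t ∉ A
  have hAtop : Cn x ≠ ⊤ := fun h => hx (Cn_eq_top_iff.mp h)
  obtain ⟨t, htA⟩ : ∃ t : P, t ∉ Cn x := by
    by_contra hcon
    push_neg at hcon
    exact hAtop (eq_top_iff.mpr fun t _ => hcon t)
  have htZ : t ∉ Subgroup.center P := fun h => htA (center_le_Cn x h)
  have hcard : Nat.card (Cn t) = Nat.card (Cn x) := by
    have h1 := Subgroup.card_mul_index (Cn t)
    have h2 := Subgroup.card_mul_index (Cn x)
    rw [H t htZ] at h1
    rw [H x hx] at h2
    have hpos : 0 < p ^ a := pow_pos hp a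
    exact Nat.eq_of_mul_eq_mul_right hpos (h1.trans h2.symm)
  have hinter : ∀ s : P, s ∈ Cn t → s ∈ Cn x → s ∈ Subgroup.center P := by
    intro s hst hsx
    by_contra hsZ
    have h1 : Cn x = Cn s := eq_of_le hp H hx hsZ (step2 hp hP H hxp hsx)
    apply htA
    rw [h1, mem_Cn]
    exact (mem_Cn.mp hst).symm
  -- the injection
  set K : Subgroup P := Cn t with hK
  set Z' : Subgroup K := (Subgroup.center P).subgroupOf K with hZ'
  have hZK : Subgroup.center P ≤ K := center_le_Cn t
  have hmemA : ∀ (q : K ⧸ Z') (z : Subgroup.center P),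
      ((q.out : K) : P) * x * ((q.out : K) : P)⁻¹ * (z : P) ∈ Cn x := by
    intro q z
    refine mul_mem (hnorm x ?_ _) (center_le_Cn x z.2)
    rw [mem_Cn]
  have hne1 : ∀ (q : K ⧸ Z') (z : Subgroup.center P),
      (⟨((q.out : K) : P) * x * ((q.out : K) : P)⁻¹ * (z : P), hmemA q z⟩ : Cn x) ≠ 1 := by
    intro q z h
    have h' : ((q.out : K) : P) * x * ((q.out : K) : P)⁻¹ * (z : P) = 1 :=
      congrArg Subtype.val h
    apply hx
    have : x = ((q.out : K) : P)⁻¹ * (z : P)⁻¹ * ((q.out : K) : P) := by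
      have h2 : ((q.out : K) : P) * x * ((q.out : K) : P)⁻¹ = (z : P)⁻¹ := by
        rw [eq_inv_iff_mul_eq_one]; exact h'
      calc x = ((q.out : K) : P)⁻¹ * (((q.out : K) : P) * x * ((q.out : K) : P)⁻¹) *
            ((q.out : K) : P) := by group
        _ = _ := by rw [h2]
    rw [this]
    have hzi : (z : P)⁻¹ ∈ Subgroup.center P := inv_mem z.2
    have := (Subgroup.center P).normal_of_characteristic.conj_mem _ hzi (((q.out : K) : P)⁻¹)
    simpa using this
  let Φ : (K ⧸ Z') × Subgroup.center P → {u : Cn x // u ≠ 1} := fun qz =>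
    ⟨⟨((qz.1.out : K) : P) * x * ((qz.1.out : K) : P)⁻¹ * (qz.2 : P), hmemA qz.1 qz.2⟩,
      hne1 qz.1 qz.2⟩
  have hinj : Function.Injective Φ := by
    rintro ⟨q, z⟩ ⟨q', z'⟩ h
    have e : ((q.out : K) : P) * x * ((q.out : K) : P)⁻¹ * (z : P) =
        ((q'.out : K) : P) * x * ((q'.out : K) : P)⁻¹ * (z' : P) := by
      have := congrArg (fun u : {u : Cn x // u ≠ 1} => ((u : Cn x) : P)) h
      exact this
    set s : P := ((q.out : K) : P) with hs
    set s' : P := ((q'.out : K) : P) with hs'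
    have hc : (z' : P) * (z : P)⁻¹ ∈ Subgroup.center P := mul_mem z'.2 (inv_mem z.2)
    have hcomm : ∀ y : P, y * ((z' : P) * (z : P)⁻¹) = ((z' : P) * (z : P)⁻¹) * y :=
      fun y => Subgroup.mem_center_iff.mp hc y
    have e2 : s * x * s⁻¹ = s' * x * s'⁻¹ * ((z' : P) * (z : P)⁻¹) := by
      calc s * x * s⁻¹ = s * x * s⁻¹ * (z : P) * (z : P)⁻¹ := by group
        _ = s' * x * s'⁻¹ * (z' : P) * (z : P)⁻¹ := by rw [e]
        _ = _ := by group
    have e3 : (s'⁻¹ * s) * x * (s'⁻¹ * s)⁻¹ = x * ((z' : P) * (z : P)⁻¹) := by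
      calc (s'⁻¹ * s) * x * (s'⁻¹ * s)⁻¹ = s'⁻¹ * (s * x * s⁻¹) * s' := by group
        _ = s'⁻¹ * (s' * x * s'⁻¹ * ((z' : P) * (z : P)⁻¹)) * s' := by rw [e2]
        _ = x * (s'⁻¹ * ((z' : P) * (z : P)⁻¹) * s') := by group
        _ = x * ((z' : P) * (z : P)⁻¹) := by
          rw [hcomm s'⁻¹]; group
    have hw1 := step1 hp hP H hxp hc e3
    have hzz : z' = z := by
      ext
      have : (z' : P) = (z : P) := by
        have := hw1
        rwa [mul_inv_eq_one] at this
      exact this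
    rw [hw1, mul_one] at e3
    have hrx : s'⁻¹ * s ∈ Cn x := by
      rw [mem_Cn]
      calc s'⁻¹ * s * x = (s'⁻¹ * s) * x * (s'⁻¹ * s)⁻¹ * (s'⁻¹ * s) := by group
        _ = x * (s'⁻¹ * s) := by rw [e3]
    have hrK : s'⁻¹ * s ∈ K := mul_mem (inv_mem (q'.out : K).2) (q.out : K).2
    have hrZ : s'⁻¹ * s ∈ Subgroup.center P := hinter _ hrK hrx
    have hqq : q' = q := by
      rw [← QuotientGroup.out_eq' q', ← QuotientGroup.out_eq' q]
      apply QuotientGroup.eq.mpr
      show (q'.out)⁻¹ * q.out ∈ (Subgroup.center P).subgroupOf K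
      rw [Subgroup.mem_subgroupOf]
      simpa using hrZ
    rw [hqq, hzz]
  have hle := Nat.card_le_card_of_injective Φ hinj
  have hlt : Nat.card {u : Cn x // u ≠ 1} < Nat.card (Cn x) :=
    Finite.card_subtype_lt (x := (1 : Cn x)) (by simp)
  rw [Nat.card_prod] at hle
  have hZ'card : Nat.card Z' = Nat.card (Subgroup.center P) := by
    rw [hZ']
    exact Nat.card_congr (Subgroup.subgroupOfEquivOfLe hZK).toEquiv
  have hKcard := Subgroup.card_eq_card_quotient_mul_card_subgroup Z'
  rw [hZ'card] at hKcard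
  rw [← hcard, hKcard] at hlt
  omega

end Cfsg.Agent.S4365
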