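import Mathlib
import Cfsg.Statements.S4370
import Cfsg.Agent.Lib.Helper12.NilpSylow
import Cfsg.Agent.Lib.Lead.UniqueSubgroup
import Cfsg.Agent.S3977
-- import your own Cfsg.Agent.* helpers here

set_option autoImplicit false
open Cfsg

namespace Cfsg.Agent.S4370

open Subgroup Cfsg.Agent.Lib.Helper12.NilpSylow

section QFacts
open QuaternionGroup

theorem two_mul_eq_zero_cases (N : ℕ) [NeZero N] (j : ZMod (2 * N)) (hj : 2 * j = 0) :
    j = 0 ∨ j = (N : ZMod (2 * N)) := by
  have hN : 0 < N := Nat.pos_of_ne_zero (NeZero.ne N)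
  have h1 : ((2 * j.val : ℕ) : ZMod (2 * N)) = 0 := by
    push_cast
    rw [ZMod.natCast_zmod_val]
    exact hj
  rw [ZMod.natCast_eq_zero_iff] at h1
  have h3 : N ∣ j.val := Nat.dvd_of_mul_dvd_mul_left (by norm_num) h1
  obtain ⟨c, hc⟩ := h3
  have h4 : j.val < 2 * N := ZMod.val_lt j
  have h5 : c < 2 := by
    by_contra hge
    push Not at hge
    have : 2 * N ≤ N * c := by nlinarith
    omega
  have h6 := ZMod.natCast_zmod_val j
  interval_cases c
  · left
    rw [← h6, hc]
    simp
  · right
    rw [← h6, hc, mul_one]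

theorem isCyclic_of_le_zpowers {K : Type*} [Group K] (H : Subgroup K) (g : K)
    (h : H ≤ zpowers g) : IsCyclic H :=
  isCyclic_of_injective (Subgroup.inclusion h) (Subgroup.inclusion_injective h)

theorem centralizer_cyclic (N : ℕ) [NeZero N] (q : QuaternionGroup N)
    (hq : q ∉ center (QuaternionGroup N)) : IsCyclic (centralizer ({q} : Set (QuaternionGroup N))) := by
  cases q with
  | a i =>
    have hi : 2 * i ≠ 0 := by
      intro h0
      apply hq
      rw [mem_center_iff]
      intro g
      cases g with
      | a j => rw [a_mul_a, a_mul_a, add_comm]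
      | xa j =>
        rw [xa_mul_a, a_mul_xa]
        congr 1
        linear_combination h0
    apply isCyclic_of_le_zpowers _ (a 1)
    intro g hg
    rw [mem_centralizer_singleton_iff] at hg
    cases g with
    | a j =>
      rw [mem_zpowers_iff]
      refine ⟨(j.val : ℤ), ?_⟩
      rw [zpow_natCast, a_one_pow, ZMod.natCast_zmod_val]
    | xa j =>
      exfalso
      rw [xa_mul_a, a_mul_xa] at hg
      have := xa.inj hg
      apply hi
      linear_combination this
  | xa i =>
    apply isCyclic_of_le_zpowers _ (xa i)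
    intro g hg
    rw [mem_centralizer_singleton_iff] at hg
    have h2 : (xa i : QuaternionGroup N) ^ 2 = a N := xa_sq i
    cases g with
    | a j =>
      rw [a_mul_xa, xa_mul_a] at hg
      have h1 := xa.inj hg
      have h3 : 2 * j = 0 := by linear_combination -h1
      rcases two_mul_eq_zero_cases N j h3 with rfl | rfl
      · rw [a_zero]; exact one_mem _
      · rw [← h2]; exact pow_mem (mem_zpowers _) 2
    | xa j =>
      rw [xa_mul_xa, xa_mul_xa] at hg
      have h1 := a.inj hg
      have h3 : 2 * (j - i) = 0 := by linear_combination -h1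
      rcases two_mul_eq_zero_cases N (j - i) h3 with h | h
      · have : j = i := sub_eq_zero.mp h
        rw [this]; exact mem_zpowers _
      · have h4 : (xa i : QuaternionGroup N) ^ 3 = xa j := by
          rw [pow_succ, h2, a_mul_xa]
          congr 1
          have h5 : (2 : ZMod (2 * N)) * (N : ZMod (2 * N)) = 0 := by
            have : ((2 * N : ℕ) : ZMod (2 * N)) = 0 := ZMod.natCast_self _
            push_cast at this
            exact this
          linear_combination -h - h5
        rw [← h4]; exact pow_mem (mem_zpowers _) 3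

end QFacts

theorem backward {G : Type*} [Group G] (k m : ℕ) (hm : Odd m)
    (φ : G ≃* QuaternionGroup (2 ^ k) × Multiplicative (ZMod m)) (x : G) (hx : x ∉ center G) :
    IsCyclic (centralizer ({x} : Set G)) := by
  haveI : NeZero (2 ^ k) := ⟨by positivity⟩
  set q := (φ x).1 with hq
  have hqc : q ∉ center (QuaternionGroup (2 ^ k)) := by
    intro hc
    apply hx
    rw [mem_center_iff]
    intro g
    apply φ.injective
    rw [map_mul, map_mul]
    apply Prod.ext
    · rw [Prod.fst_mul, Prod.fst_mul]; exact mem_center_iff.mp hc _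
    · rw [Prod.snd_mul, Prod.snd_mul]; exact mul_comm _ _
  haveI hK : IsCyclic (centralizer ({q} : Set (QuaternionGroup (2 ^ k)))) :=
    centralizer_cyclic _ q hqc
  haveI hm0 : NeZero m := ⟨by rintro rfl; exact absurd hm (by decide)⟩
  have hcop : (Nat.card (centralizer ({q} : Set (QuaternionGroup (2 ^ k))))).Coprime
      (Nat.card (Multiplicative (ZMod m))) := by
    have h1 : Nat.card (centralizer ({q} : Set (QuaternionGroup (2 ^ k)))) ∣ 2 ^ (k + 2) := by
      have := Subgroup.card_subgroup_dvd_card (centralizer ({q} : Set (QuaternionGroup (2 ^ k))))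
      rw [Nat.card_eq_fintype_card (α := QuaternionGroup (2 ^ k)), QuaternionGroup.card] at this
      have e : 4 * 2 ^ k = 2 ^ (k + 2) := by ring
      rwa [e] at this
    have h2 : Nat.card (Multiplicative (ZMod m)) = m := by
      rw [Nat.card_congr Multiplicative.toAdd, Nat.card_zmod]
    rw [h2]
    exact Nat.Coprime.coprime_dvd_left h1 (Nat.Coprime.pow_left _ (Nat.coprime_two_left.mpr hm))
  haveI : IsCyclic (centralizer ({q} : Set (QuaternionGroup (2 ^ k))) × Multiplicative (ZMod m)) :=
    Group.isCyclic_prod_iff.mpr ⟨hK, inferInstance, hcop⟩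
  let F : centralizer ({x} : Set G) →*
      centralizer ({q} : Set (QuaternionGroup (2 ^ k))) × Multiplicative (ZMod m) :=
    { toFun := fun g => (⟨(φ g.1).1, by
          rw [mem_centralizer_singleton_iff]
          have h1 := mem_centralizer_singleton_iff.mp g.2
          have h2 := congrArg (fun t => (φ t).1) h1
          simpa using h2⟩, (φ g.1).2)
      map_one' := by
        apply Prod.ext
        · apply Subtype.ext; simp
        · simp
      map_mul' := by
        intro g1 g2
        apply Prod.ext
        · apply Subtype.ext; simp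
        · simp }
  apply isCyclic_of_injective F
  intro g1 g2 h
  apply Subtype.ext
  apply φ.injective
  have h1 := congrArg (fun t => (t.1 : QuaternionGroup (2 ^ k))) h
  have h2 := congrArg Prod.snd h
  exact Prod.ext h1 h2

theorem zpowers_eq_of_mem_cyclic {G : Type*} [Group G] [Finite G] (K : Subgroup G) [IsCyclic K]
    {y z : G} (hy : y ∈ K) (hz : z ∈ K) (h : orderOf y = orderOf z) : zpowers y = zpowers z := by
  have h1 : zpowers (⟨y, hy⟩ : K) = zpowers (⟨z, hz⟩ : K) := by
    apply Cfsg.Agent.S3977.eq_of_card_eq_of_isCyclic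
    rw [Nat.card_zpowers, Nat.card_zpowers, Subgroup.orderOf_mk, Subgroup.orderOf_mk, h]
  have h2 := congrArg (Subgroup.map K.subtype) h1
  rwa [MonoidHom.map_zpowers, MonoidHom.map_zpowers] at h2

theorem comm_of_isCyclic {K : Type*} [Group K] [IsCyclic K] (a b : K) : a * b = b * a := by
  obtain ⟨g, hg⟩ := IsCyclic.exists_generator (α := K)
  obtain ⟨i, rfl⟩ := Subgroup.mem_zpowers_iff.mp (hg a)
  obtain ⟨j, rfl⟩ := Subgroup.mem_zpowers_iff.mp (hg b)
  rw [← zpow_add, ← zpow_add, add_comm]

open Cfsg.Agent.Lib.Lead.UniqueOrderP Cfsg.Agent.Lib.Lead.UniqueSubgroup in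
theorem forward {G : Type*} [Group G] [Finite G] (hG : Group.IsNilpotent G)
    (hna : ¬ IsMulCommutative G)
    (hcyc : ∀ x : G, x ∉ center G → IsCyclic (centralizer ({x} : Set G))) :
    ∃ (k m : ℕ), 1 ≤ k ∧ Odd m ∧
      Nonempty (G ≃* QuaternionGroup (2 ^ k) × Multiplicative (ZMod m)) := by
  haveI := hG
  have hx0 : ∃ x0 : G, x0 ∉ center G := by
    by_contra h
    push Not at h
    exact hna ⟨⟨fun a b => (mem_center_iff.mp (h b) a)⟩⟩
  obtain ⟨x0, hx0⟩ := hx0
  haveI hZc : IsCyclic (center G) := by
    haveI := hcyc x0 hx0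
    exact isCyclic_of_injective (Subgroup.inclusion (Subgroup.center_le_centralizer ({x0} : Set G)))
      (Subgroup.inclusion_injective _)
  -- unique subgroups of prime order
  have huniq : ∀ (p : ℕ) [Fact p.Prime], UniqueOrderP p G := by
    intro p _ H K hH hK
    have hpG : p ∣ Nat.card G := hH ▸ Subgroup.card_subgroup_dvd_card H
    obtain ⟨z, hzc, hzord⟩ := exists_central_orderOf_eq_prime (G := G) hpG
    have key : ∀ y : G, orderOf y = p → zpowers y = zpowers z := by
      intro y hy
      by_cases hyc : y ∈ center G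
      · exact zpowers_eq_of_mem_cyclic (center G) hyc hzc (hy.trans hzord.symm)
      · haveI := hcyc y hyc
        exact zpowers_eq_of_mem_cyclic (centralizer {y})
          (mem_centralizer_singleton_iff.mpr rfl) (Subgroup.center_le_centralizer _ hzc)
          (hy.trans hzord.symm)
    have hgen : ∀ L : Subgroup G, Nat.card L = p → L = zpowers z := by
      intro L hL
      obtain ⟨g, hg⟩ := exists_prime_orderOf_dvd_card' (G := L) p (hL ▸ dvd_refl _)
      have hg' : orderOf (g : G) = p := by rw [Subgroup.orderOf_coe]; exact hg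
      rw [← key g.1 hg']
      symm
      apply Subgroup.eq_of_le_of_card_ge (zpowers_le.mpr g.2)
      rw [hL, Nat.card_zpowers, hg']
    rw [hgen H hH, hgen K hK]
  -- cyclic Sylow subgroups are central
  have hcycc : ∀ (p : ℕ) [Fact p.Prime] (P : Sylow p G), IsCyclic P →
      (P : Subgroup G) ≤ center G := by
    intro p _ P hP
    apply sylow_le_center_of_comm P
    intro x hx y hy
    exact congrArg Subtype.val (comm_of_isCyclic (K := P) ⟨x, hx⟩ ⟨y, hy⟩)
  have hodd : ∀ (q : ℕ) [Fact q.Prime], q ≠ 2 → ∀ (Q : Sylow q G),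
      (Q : Subgroup G) ≤ center G := by
    intro q _ hq2 Q
    apply hcycc q Q
    rcases cyclic_or_quaternion Q.isPGroup' ((huniq q).subgroup Q) with h | ⟨h, -⟩
    · exact h
    · exact absurd h hq2
  -- Sylow 2
  let P : Sylow 2 G := default
  have hPnc : ¬ ∀ x ∈ P, ∀ y ∈ P, x * y = y * x := by
    intro hc
    apply hx0
    have : center G = ⊤ := by
      apply eq_top_of_forall_sylow_le
      intro r _
      by_cases hr : r = 2
      · subst hr; exact ⟨P, sylow_le_center_of_comm P hc⟩
      · exact ⟨default, hodd r hr default⟩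
    rw [this]; exact mem_top _
  rcases cyclic_or_quaternion P.isPGroup' ((huniq 2).subgroup P) with hPc | ⟨-, n, ⟨ψ⟩⟩
  · exfalso
    apply hPnc
    intro x hx y hy
    exact congrArg Subtype.val (comm_of_isCyclic (K := P) ⟨x, hx⟩ ⟨y, hy⟩)
  have hn1 : 1 ≤ n := by
    by_contra hlt
    have hn0 : n = 0 := by omega
    subst hn0
    apply hPnc
    intro x hx y hy
    haveI : IsCyclic (QuaternionGroup (2 ^ 0)) := QuaternionGroup.quaternionGroup_one_isCyclic
    have := comm_of_isCyclic (ψ ⟨x, hx⟩) (ψ ⟨y, hy⟩)
    rw [← map_mul, ← map_mul] at this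
    exact congrArg Subtype.val (ψ.injective this)
  -- the odd part of the centre
  obtain ⟨g0, hg0⟩ := IsCyclic.exists_generator (α := center G)
  set b := (Nat.card (center G)).factorization 2 with hb
  let h0 : G := ((g0 ^ (2 ^ b) : center G) : G)
  have hh0c : h0 ∈ center G := (g0 ^ (2 ^ b)).2
  have hord : orderOf h0 = Nat.card (center G) / 2 ^ b := by
    rw [Subgroup.orderOf_coe, orderOf_pow' _ (by positivity),
      orderOf_eq_card_of_forall_mem_zpowers hg0]
    congr 1
    exact Nat.gcd_eq_right (Nat.ordProj_dvd _ _)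
  have hoddH : Odd (orderOf h0) := by
    rw [hord, ← Nat.coprime_two_left]
    exact Nat.coprime_ordCompl Nat.prime_two (Nat.card_pos.ne')
  let H : Subgroup G := zpowers h0
  have hHc : H ≤ center G := zpowers_le.mpr hh0c
  have hHcard : Nat.card H = orderOf h0 := Nat.card_zpowers h0
  have hmemH : ∀ x ∈ center G, Odd (orderOf x) → x ∈ H := by
    intro x hx hxo
    obtain ⟨c, hc⟩ := exists_pow_eq_self_of_coprime (x := x) (n := 2 ^ b)
      (Nat.Coprime.pow_left _ (Nat.coprime_two_left.mpr hxo))
    rw [← hc]
    apply pow_mem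
    obtain ⟨j, hj⟩ := Subgroup.mem_zpowers_iff.mp (hg0 ⟨x, hx⟩)
    have hxj : x = (g0 : G) ^ j := by
      have := congrArg Subtype.val hj
      rw [Subgroup.coe_zpow] at this
      exact this.symm
    have : x ^ (2 ^ b) = h0 ^ j := by
      show x ^ (2 ^ b) = ((g0 ^ (2 ^ b) : center G) : G) ^ j
      rw [Subgroup.coe_pow, hxj, ← zpow_natCast, ← zpow_natCast, ← zpow_mul, ← zpow_mul, mul_comm]
    rw [this]
    exact zpow_mem (mem_zpowers _) _
  have hsup : (P : Subgroup G) ⊔ H = ⊤ := by
    apply eq_top_of_forall_sylow_le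
    intro r _
    by_cases hr : r = 2
    · subst hr; exact ⟨P, le_sup_left⟩
    · refine ⟨default, le_trans ?_ le_sup_right⟩
      intro x hx
      apply hmemH x (hodd r hr default hx)
      obtain ⟨e, he⟩ := (IsPGroup.iff_orderOf.mp (default : Sylow r G).isPGroup') ⟨x, hx⟩
      rw [Subgroup.orderOf_mk] at he
      rw [he]
      exact Odd.pow ((Nat.Prime.eq_two_or_odd' (Fact.out)).resolve_left hr)
  have hdisj : Disjoint (P : Subgroup G) H := by
    rw [disjoint_iff]
    apply Subgroup.inf_eq_bot_of_coprime
    rw [hHcard]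
    obtain ⟨e, he⟩ := (IsPGroup.iff_card.mp P.isPGroup')
    rw [he]
    exact Nat.Coprime.pow_left _ (Nat.coprime_two_left.mpr hoddH)
  have hcomm : ∀ (a : ↥(P : Subgroup G)) (b : ↥H),
      Commute ((P : Subgroup G).subtype a) (H.subtype b) := by
    intro a b
    exact mem_center_iff.mp (hHc b.2) a.1
  let f : ↥(P : Subgroup G) × ↥H →* G :=
    MonoidHom.noncommCoprod (P : Subgroup G).subtype H.subtype hcomm
  have hinj : Function.Injective f :=
    (MonoidHom.noncommCoprod_injective _ _ _).mpr
      ⟨subtype_injective _, subtype_injective _, by rwa [Subgroup.range_subtype, Subgroup.range_subtype]⟩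
  have hsurj : Function.Surjective f := by
    rw [← MonoidHom.range_eq_top]
    show (MonoidHom.noncommCoprod (P : Subgroup G).subtype H.subtype hcomm).range = ⊤
    rw [MonoidHom.noncommCoprod_range, range_subtype, range_subtype]
    exact hsup
  let e1 : ↥(P : Subgroup G) × ↥H ≃* G := MulEquiv.ofBijective f ⟨hinj, hsurj⟩
  haveI : IsCyclic H := by infer_instance
  exact ⟨n, Nat.card H, hn1, hHcard ▸ hoddH,
    ⟨e1.symm.trans (ψ.prodCongr (zmodCyclicMulEquiv inferInstance).symm)⟩⟩

/-- Let G be a finite non-abelian nilpotent group. Then the centralizer of every non-central element of G is cyclic if and only if G is isomorphic to the direct product of a generalized quaternion group and a cyclic group of odd order. -/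
theorem result {G : Type*} [Group G] [Finite G] (hG : Group.IsNilpotent G)
    (hna : ¬ IsMulCommutative G) :
    (∀ x : G, x ∉ Subgroup.center G → IsCyclic (Subgroup.centralizer ({x} : Set G))) ↔
      ∃ (k m : ℕ), 1 ≤ k ∧ Odd m ∧ Nonempty (G ≃* QuaternionGroup (2 ^ k) × Multiplicative (ZMod m)) := by
  constructor
  · intro hcyc
    exact forward hG hna hcyc
  · rintro ⟨k, m, -, hm, ⟨φ⟩⟩ x hx
    exact backward k m hm φ x hx

end Cfsg.Agent.S4370
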