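import Cfsg.Statements.S4377

set_option autoImplicit false
open Cfsg

namespace Cfsg.Agent.S4377

open Finset in
theorem card_pow_eq_one_eq_sum {G : Type*} [Group G] [Finite G] (n : ℕ) (hn : n ≠ 0) :
    Nat.card {g : G // g ^ n = 1} = ∑ m ∈ Nat.divisors n, Nat.card {g : G // orderOf g = m} := by
  classical
  have := Fintype.ofFinite G
  have key := sum_card_orderOf_eq_card_pow_eq_one (G := G) hn
  have e1 : Nat.card {g : G // g ^ n = 1} = #{x : G | x ^ n = 1} := by
    rw [Nat.card_eq_fintype_card, Fintype.card_subtype]
  have e2 : ∀ m, Nat.card {g : G // orderOf g = m} = #{x : G | orderOf x = m} := by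
    intro m
    rw [Nat.card_eq_fintype_card, Fintype.card_subtype]
  rw [e1, ← key]
  exact Finset.sum_congr rfl fun m _ => (e2 m).symm

theorem card_pow_zero {G : Type*} [Group G] [Finite G] (N : ℕ) (hN : Nat.card G ∣ N) :
    Nat.card {g : G // g ^ N = 1} = Nat.card G := by
  have : ∀ g : G, g ^ N = 1 := by
    intro g
    obtain ⟨k, rfl⟩ := hN
    rw [pow_mul, pow_card_eq_one', one_pow]
  exact Nat.card_congr (Equiv.subtypeUnivEquiv this)

/-- Two finite groups have the same number of elements of each order if and only if, for every n, they have the same number of elements g with gⁿ = 1. -/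
theorem result {G H : Type*} [Group G] [Finite G] [Group H] [Finite H] :
    (∀ n : ℕ, Nat.card {g : G // orderOf g = n} = Nat.card {h : H // orderOf h = n}) ↔
      ∀ n : ℕ, Nat.card {g : G // g ^ n = 1} = Nat.card {h : H // h ^ n = 1} := by
  constructor
  · intro h
    have hpos : ∀ n : ℕ, n ≠ 0 → Nat.card {g : G // g ^ n = 1} = Nat.card {h : H // h ^ n = 1} := by
      intro n hn
      rw [card_pow_eq_one_eq_sum n hn, card_pow_eq_one_eq_sum n hn]
      exact Finset.sum_congr rfl fun m _ => h m
    intro n
    by_cases hn : n = 0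
    · subst hn
      have hN : Nat.card G * Nat.card H ≠ 0 := Nat.mul_ne_zero Nat.card_pos.ne' Nat.card_pos.ne'
      have h1 := hpos _ hN
      rw [card_pow_zero _ (Dvd.intro _ rfl), card_pow_zero _ (Dvd.intro_left _ rfl)] at h1
      rw [card_pow_zero 0 (dvd_zero _), card_pow_zero 0 (dvd_zero _)]
      exact h1
    · exact hpos n hn
  · intro h n
    induction n using Nat.strong_induction_on with
    | _ n ih =>
      by_cases hn : n = 0
      · subst hn
        have h1 : IsEmpty {g : G // orderOf g = 0} := ⟨fun g => (orderOf_pos g.1).ne' g.2⟩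
        have h2 : IsEmpty {g : H // orderOf g = 0} := ⟨fun g => (orderOf_pos g.1).ne' g.2⟩
        rw [Nat.card_of_isEmpty, Nat.card_of_isEmpty]
      · have hG := card_pow_eq_one_eq_sum (G := G) n hn
        have hH := card_pow_eq_one_eq_sum (G := H) n hn
        rw [← Nat.cons_self_properDivisors hn, Finset.sum_cons] at hG hH
        have hsum : ∑ m ∈ n.properDivisors, Nat.card {g : G // orderOf g = m} =
            ∑ m ∈ n.properDivisors, Nat.card {g : H // orderOf g = m} :=
          Finset.sum_congr rfl fun m hm => ih m (Nat.mem_properDivisors.mp hm).2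
        have := h n
        omega

end Cfsg.Agent.S4377
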