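import Cfsg.Statements.S4381
import Mathlib
import Cfsg.Agent.Lib.Helper14.ExtCoprime

set_option autoImplicit false
open Pointwise
open Cfsg

namespace Cfsg.Agent.S4381

open Cfsg.Agent.Lib.Helper14

/-- every proper invariant subgroup lies in a maximal invariant one -/
theorem exists_maxInv {A G : Type*} [Group A] [Group G] [Finite G] [MulDistribMulAction A G]
    (H : Subgroup G) (hH : H ≠ ⊤) (hinv : ∀ a : A, ∀ x ∈ H, a • x ∈ H) :
    ∃ M : Subgroup G, H ≤ M ∧ (M ≠ ⊤ ∧ (∀ a : A, ∀ x ∈ M, a • x ∈ M) ∧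
      ∀ L : Subgroup G, M < L → (∀ a : A, ∀ x ∈ L, a • x ∈ L) → L = ⊤) := by
  let S : Set (Subgroup G) := {L | H ≤ L ∧ L ≠ ⊤ ∧ ∀ a : A, ∀ x ∈ L, a • x ∈ L}
  have hS : S.Finite := Set.toFinite S
  obtain ⟨M, hHM, hMmax⟩ := hS.exists_le_maximal (a := H) ⟨le_rfl, hH, hinv⟩
  refine ⟨M, hHM, hMmax.prop.2.1, hMmax.prop.2.2, ?_⟩
  intro L hML hL
  by_contra hLt
  have hLS : L ∈ S := ⟨hHM.trans hML.le, hLt, hL⟩
  exact absurd (hMmax.le_of_ge hLS hML.le) (not_le_of_gt hML)

theorem frattini_le_of_maxInv {A G : Type*} [Group A] [Group G] [Finite G] [MulDistribMulAction A G]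
    (M : Subgroup G) (hM : M ≠ ⊤ ∧ (∀ a : A, ∀ x ∈ M, a • x ∈ M) ∧
      ∀ L : Subgroup G, M < L → (∀ a : A, ∀ x ∈ L, a • x ∈ L) → L = ⊤) : frattini G ≤ M := by
  have hΦinv : ∀ a : A, ∀ x ∈ frattini G, a • x ∈ frattini G := by
    intro a x hx
    have h1 := (frattini_characteristic (G := G)).fixed (MulDistribMulAction.toMulAut A G a)
    have h2 : x ∈ (frattini G).comap (MulDistribMulAction.toMulAut A G a).toMonoidHom := by
      rw [h1]; exact hx
    exact h2
  by_contra hle
  have hlt : M < M ⊔ frattini G := by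
    apply lt_of_le_of_ne le_sup_left
    intro h
    apply hle
    rw [h]
    exact le_sup_right
  have hinv : ∀ a : A, ∀ x ∈ M ⊔ frattini G, a • x ∈ M ⊔ frattini G := by
    intro a x hx
    have : (M ⊔ frattini G).map (MulDistribMulAction.toMonoidHom G a) ≤ M ⊔ frattini G := by
      rw [Subgroup.map_sup]
      apply sup_le_sup
      · rintro _ ⟨y, hy, rfl⟩
        exact hM.2.1 a y hy
      · rintro _ ⟨y, hy, rfl⟩
        exact hΦinv a y hy
    exact this ⟨x, hx, rfl⟩
  have := hM.2.2 _ hlt hinv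
  exact hM.1 (frattini_nongenerating this)

/-- Let the finite group A act by automorphisms on the finite group G with the orders of A and G coprime, and assume that A or G is solvable. Call a proper A-invariant subgroup of G maximal A-invariant when no A-invariant subgroup lies strictly between it and G. Then all maximal A-invariant subgroups of G are conjugate under elements of the fixed-point subgroup C_G(A) if and only if G is a p-group for some prime p and A leaves invariant no subgroup strictly between the Frattini subgroup of G and G. In that case, if G is nontrivial, the Frattini subgroup is the only maximal A-invariant subgroup (a trivial G has none). -/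
theorem result {A G : Type*} [Group A] [Finite A]
    [Group G] [Finite G] [MulDistribMulAction A G] (hcop : (Nat.card A).Coprime (Nat.card G)) (hsol : Group.IsSolvable A ∨ Group.IsSolvable G) :
    ((∀ M N : Subgroup G, (M ≠ ⊤ ∧ (∀ a : A, ∀ x ∈ M, a • x ∈ M) ∧ ∀ L : Subgroup G, M < L → (∀ a : A, ∀ x ∈ L, a • x ∈ L) → L = ⊤) → (N ≠ ⊤ ∧ (∀ a : A, ∀ x ∈ N, a • x ∈ N) ∧ ∀ L : Subgroup G, N < L → (∀ a : A, ∀ x ∈ L, a • x ∈ L) → L = ⊤) →
        ∃ c : G, (∀ a : A, a • c = c) ∧ N = MulAut.conj c • M) ↔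
      ((∃ p : ℕ, p.Prime ∧ IsPGroup p G) ∧ ∀ L : Subgroup G, frattini G < L → (∀ a : A, ∀ x ∈ L, a • x ∈ L) → L = ⊤)) ∧
    (((∃ p : ℕ, p.Prime ∧ IsPGroup p G) ∧ ∀ L : Subgroup G, frattini G < L → (∀ a : A, ∀ x ∈ L, a • x ∈ L) → L = ⊤) →
      ∀ M : Subgroup G, (M ≠ ⊤ ∧ (∀ a : A, ∀ x ∈ M, a • x ∈ M) ∧ ∀ L : Subgroup G, M < L → (∀ a : A, ∀ x ∈ L, a • x ∈ L) → L = ⊤) ↔ (M = frattini G ∧ M ≠ ⊤)) := by
  have hΦinv : ∀ a : A, ∀ x ∈ frattini G, a • x ∈ frattini G := by
    intro a x hx
    have h1 := (frattini_characteristic (G := G)).fixed (MulDistribMulAction.toMulAut A G a)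
    have h2 : x ∈ (frattini G).comap (MulDistribMulAction.toMulAut A G a).toMonoidHom := by
      rw [h1]; exact hx
    exact h2
  have part2 : ((∃ p : ℕ, p.Prime ∧ IsPGroup p G) ∧ ∀ L : Subgroup G, frattini G < L →
      (∀ a : A, ∀ x ∈ L, a • x ∈ L) → L = ⊤) →
      ∀ M : Subgroup G, (M ≠ ⊤ ∧ (∀ a : A, ∀ x ∈ M, a • x ∈ M) ∧ ∀ L : Subgroup G, M < L →
        (∀ a : A, ∀ x ∈ L, a • x ∈ L) → L = ⊤) ↔ (M = frattini G ∧ M ≠ ⊤) := by
    rintro ⟨_, hL⟩ M
    constructor
    · intro hM
      have h1 := frattini_le_of_maxInv M hM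
      refine ⟨?_, hM.1⟩
      by_contra hne
      have hlt : frattini G < M := lt_of_le_of_ne h1 (Ne.symm hne)
      exact hM.1 (hL M hlt hM.2.1)
    · rintro ⟨rfl, hne⟩
      exact ⟨hne, hΦinv, hL⟩
  refine ⟨⟨?_, ?_⟩, part2⟩
  · -- (⇒)
    intro hconj
    have hp : ∃ p : ℕ, p.Prime ∧ IsPGroup p G := by
      rcases subsingleton_or_nontrivial G with hs | hnt
      · refine ⟨2, Nat.prime_two, ?_⟩
        intro g
        exact ⟨0, Subsingleton.elim _ _⟩
      · by_contra hno
        obtain ⟨M, -, hM⟩ := exists_maxInv (A := A) (⊥ : Subgroup G) bot_ne_top (by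
          intro a x hx
          rw [Subgroup.mem_bot] at hx ⊢
          rw [hx, smul_one])
        have hdvd : Nat.card G ∣ Nat.card M := by
          rw [Nat.dvd_iff_prime_pow_dvd_dvd]
          intro p k hp hpk
          have : Fact p.Prime := ⟨hp⟩
          obtain ⟨P, hPinv, hPcard⟩ := exists_invariant_sylow_ext hcop hsol p
          have hPne : P ≠ ⊤ := by
            rintro rfl
            apply hno
            refine ⟨p, hp, IsPGroup.of_card (n := (Nat.card G).factorization p) ?_⟩
            rw [← hPcard, Subgroup.card_top]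
          obtain ⟨N, hPN, hN⟩ := exists_maxInv P hPne hPinv
          obtain ⟨c, -, hc⟩ := hconj M N hM hN
          have hcard : Nat.card N = Nat.card M := by
            rw [hc, Subgroup.pointwise_smul_def]
            exact Subgroup.card_map_of_injective (MulAut.conj c).injective
          have h1 : p ^ k ∣ p ^ (Nat.card G).factorization p := by
            apply pow_dvd_pow
            exact (hp.pow_dvd_iff_le_factorization (Nat.card_pos.ne')).mp hpk
          have h2 : Nat.card P ∣ Nat.card N := Subgroup.card_dvd_of_le hPN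
          rw [hPcard, hcard] at h2
          exact h1.trans h2
        have hle : Nat.card M ≤ Nat.card G := Subgroup.card_le_card_group M
        have heq : Nat.card M = Nat.card G := le_antisymm hle (Nat.le_of_dvd Nat.card_pos hdvd)
        exact hM.1 (Subgroup.eq_top_of_card_eq M heq)
    refine ⟨hp, ?_⟩
    obtain ⟨p, hpp, hG⟩ := hp
    have : Fact p.Prime := ⟨hpp⟩
    intro L hΦL hLinv
    by_contra hLtop
    obtain ⟨M, hLM, hM⟩ := exists_maxInv L hLtop hLinv
    have hΦM := frattini_le_of_maxInv M hM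
    obtain ⟨W, hWinv, hΦW, hMW, hsup⟩ :=
      exists_invariant_compl_mod_frattini hcop hG M hM.2.1 hΦM
    have hWtop : W ≠ ⊤ := by
      rintro rfl
      rw [inf_top_eq] at hMW
      rw [hMW] at hLM
      exact absurd hΦL (not_lt_of_ge hLM)
    obtain ⟨N, hWN, hN⟩ := exists_maxInv W hWtop hWinv
    obtain ⟨c, -, hc⟩ := hconj M N hM hN
    have hNM : N ≤ M := by
      rw [hc]
      intro x hx
      rw [Subgroup.mem_pointwise_smul_iff_inv_smul_mem] at hx
      have hy : c⁻¹ * x * c ∈ M := by simpa using hx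
      have hcomm : c * (c⁻¹ * x * c) * c⁻¹ * (c⁻¹ * x * c)⁻¹ ∈ commutator G := by
        rw [commutator_def]
        exact Subgroup.commutator_mem_commutator (Subgroup.mem_top c) (Subgroup.mem_top (c⁻¹ * x * c))
      have h3 := M.mul_mem (hΦM (commutator_le_frattini_of_isPGroup' hG hcomm)) hy
      have h4 : c * (c⁻¹ * x * c) * c⁻¹ * (c⁻¹ * x * c)⁻¹ * (c⁻¹ * x * c) = x := by group
      rwa [h4] at h3
    have : M = ⊤ := by
      rw [← hsup]
      exact (sup_eq_left.mpr (hWN.trans hNM)).symm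
    exact hM.1 this
  · -- (⇐)
    intro h M N hM hN
    have h1 := (part2 h M).mp hM
    have h2 := (part2 h N).mp hN
    refine ⟨1, fun a => smul_one a, ?_⟩
    rw [h1.1, h2.1, map_one, one_smul]

end Cfsg.Agent.S4381
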