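import Cfsg.Statements.S4387
import Cfsg.Agent.Lib.Helper14.ConjUnion

set_option autoImplicit false
open Pointwise
open Cfsg

namespace Cfsg.Agent.S4387

/-- Let G be a non-trivial finite group in which any two maximal subgroups are conjugate. Then G is cyclic of prime-power order. -/
theorem result {G : Type*} [Group G] [Finite G] [Nontrivial G]
    (h : ∀ M N : Subgroup G, IsCoatom M → IsCoatom N → ∃ g : G, N = MulAut.conj g • M) :
    IsCyclic G ∧ IsPrimePow (Nat.card G) := by
  -- a maximal subgroup exists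
  have hbt : (⊥ : Subgroup G) ≠ ⊤ := bot_ne_top
  obtain ⟨M, hM, -⟩ := (eq_top_or_exists_le_coatom (⊥ : Subgroup G)).resolve_left hbt
  -- an element outside all conjugates of M
  obtain ⟨g, hg⟩ := Cfsg.Agent.Lib.Helper14.exists_not_mem_conj_smul M hM.1
  have hgen : Subgroup.zpowers g = ⊤ := by
    rcases eq_top_or_exists_le_coatom (Subgroup.zpowers g) with h1 | ⟨N, hN, hle⟩
    · exact h1
    · exfalso
      obtain ⟨x, rfl⟩ := h M N hM hN
      exact hg x (hle (Subgroup.mem_zpowers g))
  have hgen' : ∀ y : G, y ∈ Subgroup.zpowers g := fun y => hgen ▸ Subgroup.mem_top y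
  have hcyc : IsCyclic G := ⟨⟨g, hgen'⟩⟩
  refine ⟨hcyc, ?_⟩
  -- commutativity
  have hcomm : ∀ a b : G, a * b = b * a := by
    intro a b
    obtain ⟨i, rfl⟩ := Subgroup.mem_zpowers_iff.mp (hgen' a)
    obtain ⟨j, rfl⟩ := Subgroup.mem_zpowers_iff.mp (hgen' b)
    rw [← zpow_add, ← zpow_add, add_comm]
  have hconj : ∀ (x : G) (N : Subgroup G), MulAut.conj x • N = N := by
    intro x N
    ext y
    rw [Subgroup.mem_pointwise_smul_iff_inv_smul_mem]
    have : (MulAut.conj x)⁻¹ • y = y := by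
      simp [MulAut.smul_def, hcomm x⁻¹ y, mul_assoc]
    rw [this]
  -- unique coatom
  have huniq : ∀ N : Subgroup G, IsCoatom N → N = M := by
    intro N hN
    obtain ⟨x, hx⟩ := h M N hM hN
    rw [hx, hconj]
  have hord : orderOf g = Nat.card G := by
    rw [← Nat.card_zpowers, hgen, Nat.card_congr Subgroup.topEquiv.toEquiv]
  have hcard1 : Nat.card G ≠ 1 := by
    intro h1
    have := (Nat.card_eq_one_iff_unique.mp h1).1
    exact not_subsingleton G this
  rw [isPrimePow_iff_unique_prime_dvd]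
  obtain ⟨p, hp, hpd⟩ := Nat.exists_prime_and_dvd hcard1
  refine ⟨p, ⟨hp, hpd⟩, ?_⟩
  rintro q ⟨hq, hqd⟩
  by_contra hne
  -- g^p and g^q lie in M
  have hpow : ∀ r : ℕ, r.Prime → r ∣ Nat.card G → g ^ r ∈ M := by
    intro r hr hrd
    have hne_top : Subgroup.zpowers (g ^ r) ≠ ⊤ := by
      intro htop
      have h1 : orderOf (g ^ r) = Nat.card G := by
        rw [← Nat.card_zpowers, htop, Nat.card_congr Subgroup.topEquiv.toEquiv]
      have hpos : 0 < Nat.card G := Nat.card_pos
      rw [orderOf_pow' g hr.ne_zero, hord, Nat.gcd_eq_right hrd] at h1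
      have h2 : Nat.card G / r < Nat.card G := Nat.div_lt_self hpos hr.one_lt
      omega
    obtain ⟨N, hN, hle⟩ := (eq_top_or_exists_le_coatom (Subgroup.zpowers (g ^ r))).resolve_left hne_top
    rw [← huniq N hN]
    exact hle (Subgroup.mem_zpowers _)
  have hcop : Nat.Coprime q p := (Nat.coprime_primes hq hp).mpr hne
  have hgM : g ∈ M := by
    have h1 : g ^ (Nat.gcd q p : ℤ) ∈ M := by
      rw [Nat.gcd_eq_gcd_ab, zpow_add, zpow_mul, zpow_mul]
      refine M.mul_mem (M.zpow_mem ?_ _) (M.zpow_mem ?_ _)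
      · rw [zpow_natCast]; exact hpow q hq hqd
      · rw [zpow_natCast]; exact hpow p hp hpd
    rw [hcop] at h1
    simpa using h1
  have : M = ⊤ := by
    rw [eq_top_iff, ← hgen, Subgroup.zpowers_le]
    exact hgM
  exact hM.1 this

end Cfsg.Agent.S4387
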