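import Cfsg.Statements.S4396
import Cfsg.Agent.Lib.Helper23.FrobK
import Cfsg.Agent.Lib.Helper23.FrobD
import Cfsg.Agent.S0035

set_option autoImplicit false
open Cfsg

namespace Cfsg.Agent.S4396

/-- Let the finite group A act faithfully and linearly on a finite-dimensional vector space V over a field k, and suppose A is a Frobenius group with nilpotent kernel F (every Frobenius kernel is nilpotent) and complement H such that F fixes no nonzero vector. Then V is free as a module for H: there is a subspace W with V the direct sum of the translates hW, h ∈ H. (No assumption on the characteristic of k.) -/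
theorem result {k V A : Type*} [Field k] [AddCommGroup V] [Module k V] [FiniteDimensional k V] [Group A] [Finite A] [DecidableEq A]
    (ρ : Representation k A V) (hρ : Function.Injective ρ)
    (Fk Hc : Subgroup A) [Fk.Normal] (hHc : Cfsg.IsFrobeniusComplement Hc) (hker : Cfsg.frobeniusKernel Hc = (Fk : Set A)) (hnil : Group.IsNilpotent ↥Fk)
    (hCF : ∀ v : V, (∀ f ∈ Fk, ρ f v = v) → v = 0) :
    ∃ W : Submodule k V, DirectSum.IsInternal (fun h : ↥Hc => W.map (ρ (h : A))) := by
  classical
  obtain ⟨N, hNset, hNn, hNc⟩ := Cfsg.Agent.S0035.result Hc hHc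
  have hNF : N = Fk := SetLike.ext' (hNset.trans hker)
  rw [hNF] at hNc hNset
  have hfpf : ∀ e ∈ Hc, e ≠ 1 → ∀ u ∈ Fk, e * u = u * e → u = 1 := by
    intro e he he1 u hu hc
    by_contra hu1
    have huk : u ∈ Cfsg.frobeniusKernel Hc := by
      rw [← hNset]
      exact hu
    rcases huk with h | h
    · exact hu1 h
    · have huR : u ∉ Hc := by
        intro huR
        apply h 1
        simpa using huR
      have h2 := hHc.2.2 u huR
      have h3 : e ∈ (⊥ : Subgroup A) := by
        rw [← h2]
        refine Subgroup.mem_inf.2 ⟨he, ?_⟩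
        have := Subgroup.smul_mem_pointwise_smul e (MulAut.conj u) Hc he
        have h4 : MulAut.conj u • e = e := by
          rw [MulAut.smul_def, MulAut.conj_apply, ← hc, mul_inv_cancel_right]
        rwa [h4] at this
      exact he1 (Subgroup.mem_bot.1 h3)
  have D := Cfsg.Agent.Lib.Helper23.FrobD.frobData_of_nilpotent Fk Hc hfpf hNc.sup_eq_top hnil
  have hfix : Cfsg.Agent.Lib.Helper23.FrobA.fix ρ Fk = ⊥ := by
    rw [eq_bot_iff]
    intro v hv
    rw [Submodule.mem_bot]
    exact hCF v hv
  obtain ⟨W, hWi, hWs⟩ := Cfsg.Agent.Lib.Helper23.FrobK.free_main D _ V ρ rfl hfix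
  exact ⟨W, (DirectSum.isInternal_submodule_iff_iSupIndep_and_iSup_eq_top _).2 ⟨hWi, hWs⟩⟩

end Cfsg.Agent.S4396
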