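import Cfsg.Statements.S4399
import Cfsg.Agent.Lib.Lead.Taussky
import Cfsg.Agent.Lib.Lead.QuatIso
import Cfsg.Agent.Lib.Helper24.DihIso

set_option autoImplicit false
open Cfsg

namespace Cfsg.Agent.S4399

/-- Let S be a finite 2-group whose commutator quotient S/[S,S] is a Klein four-group (order 4 and exponent 2). Then S itself has order 4, or S is dihedral of order at least 8, semidihedral of order at least 16 (order 2^(k+4) with an element a of order 2^(k+3) and an involution b with b a b⁻¹ = a^(2^(k+2)−1)), or generalized quaternion of order at least 8. -/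
theorem result {S : Type*} [Group S] [Finite S] (h2 : IsPGroup 2 S) (hab : Nat.card (Abelianization S) = 4)
    (hexp : ∀ x : Abelianization S, x ^ 2 = 1) :
    Nat.card S = 4 ∨
    ((∃ k : ℕ, Nonempty (S ≃* DihedralGroup (2 ^ (k + 2)))) ∨
      (∃ k : ℕ, Nat.card S = 2 ^ (k + 4) ∧ ∃ a b : S, orderOf a = 2 ^ (k + 3) ∧ orderOf b = 2 ∧ b * a * b⁻¹ = a ^ (2 ^ (k + 2) - 1)) ∨
      (∃ k : ℕ, Nonempty (S ≃* QuaternionGroup (2 ^ (k + 1))))) := by
  have hidx : (commutator S).index = 4 := by
    rw [Subgroup.index_eq_card]; exact hab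
  obtain ⟨n, hn⟩ := IsPGroup.iff_card.mp h2
  have hn2 : 2 ≤ n := by
    have h1 := Subgroup.index_dvd_card (commutator S)
    rw [hidx, hn] at h1
    by_contra hlt
    have : n = 0 ∨ n = 1 := by omega
    rcases this with rfl | rfl
    · simp at h1
    · have := Nat.le_of_dvd (by norm_num) h1
      omega
  rcases Nat.eq_or_lt_of_le hn2 with rfl | hn3
  · left; rw [hn]; norm_num
  right
  obtain ⟨a, b, horda, hb, hai, hcases⟩ :=
    Cfsg.Agent.Lib.Lead.Taussky.structure_of_index_four n hn3 hn hidx
  obtain ⟨k, rfl⟩ : ∃ k, n = k + 3 := ⟨n - 3, by omega⟩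
  have e1 : k + 3 - 1 = k + 2 := by omega
  have e2 : k + 3 - 2 = k + 1 := by omega
  rw [e1] at horda
  rw [e2] at hcases
  have hb1 : b ≠ 1 := fun h => hb (h ▸ one_mem _)
  rcases hcases with ⟨hb2, hconj⟩ | ⟨hb2, hconj⟩ | ⟨hn4, hb2, hconj⟩
  · -- dihedral
    left
    refine ⟨k, ?_⟩
    have hordb : orderOf b = 2 := orderOf_eq_prime hb2 hb1
    have hbinv : b⁻¹ = b := by
      rw [pow_two] at hb2
      exact inv_eq_of_mul_eq_one_left hb2
    have hba2 : (b * a) ^ 2 = 1 := by
      rw [pow_two]
      calc b * a * (b * a) = (b * a * b⁻¹) * a := by rw [hbinv]; group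
        _ = 1 := by rw [hconj]; group
    have hba1 : b * a ≠ 1 := by
      intro h
      apply hb
      have : b = a⁻¹ := eq_inv_of_mul_eq_one_left h
      rw [this]
      exact inv_mem (Subgroup.mem_zpowers a)
    have hordba : orderOf (b * a) = 2 := orderOf_eq_prime hba2 hba1
    obtain ⟨e⟩ := Cfsg.Agent.Lib.Helper24.closure_pair_equiv_dihedral hordb hordba
    have hprod : b * (b * a) = a := by
      rw [← mul_assoc, ← pow_two, hb2, one_mul]
    rw [hprod, horda] at e
    have htop : Subgroup.closure ({b, b * a} : Set S) = ⊤ := by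
      have h1 := Cfsg.Agent.Lib.Lead.Taussky.closure_pair_eq_top Nat.prime_two hai hb
      rw [eq_top_iff, ← h1, Subgroup.closure_le]
      intro u hu
      rcases hu with rfl | rfl
      · have : u = b⁻¹ * (b * u) := by group
        rw [SetLike.mem_coe, this]
        exact mul_mem (inv_mem (Subgroup.subset_closure (by simp))) (Subgroup.subset_closure (by simp))
      · exact Subgroup.subset_closure (by simp)
    exact ⟨(Subgroup.topEquiv.symm.trans (MulEquiv.subgroupCongr htop.symm)).trans e⟩
  · -- quaternion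
    right; right
    refine ⟨k, ?_⟩
    exact Cfsg.Agent.Lib.Lead.QuatIso.nonempty_mulEquiv_quaternionGroup (N := 2 ^ (k + 1))
      (by rw [horda, pow_succ, mul_comm]) hb2 hconj hb (by rw [hn]; ring)
  · -- semidihedral
    right; left
    obtain ⟨k', rfl⟩ : ∃ k', k = k' + 1 := ⟨k - 1, by omega⟩
    exact ⟨k', hn, a, b, horda, orderOf_eq_prime hb2 hb1, hconj⟩

end Cfsg.Agent.S4399
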