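import Cfsg.Statements.S4398
import Cfsg.Agent.Lib.Helper17.SecRank2
import Cfsg.Agent.S4399

set_option autoImplicit false
open Cfsg

namespace Cfsg.Agent.S4398

/-- Let S be a finite 2-group of sectional 2-rank at most 2 that contains a subgroup isomorphic to the dihedral group of order 8 or to the quaternion group of order 8. Then S is dihedral of order at least 8, semidihedral of order at least 16 (order 2^(k+4) with an element a of order 2^(k+3) and an involution b with b a b⁻¹ = a^(2^(k+2)−1)), or generalized quaternion of order at least 8. -/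
theorem result {S : Type*} [Group S] [Finite S] (h2 : IsPGroup 2 S) (hr : Cfsg.SectionalPRankLE 2 2 S)
    (hsub : ∃ H : Subgroup S, Nonempty (↥H ≃* DihedralGroup 4) ∨ Nonempty (↥H ≃* QuaternionGroup 2)) :
    ((∃ k : ℕ, Nonempty (S ≃* DihedralGroup (2 ^ (k + 2)))) ∨
      (∃ k : ℕ, Nat.card S = 2 ^ (k + 4) ∧ ∃ a b : S, orderOf a = 2 ^ (k + 3) ∧ orderOf b = 2 ∧ b * a * b⁻¹ = a ^ (2 ^ (k + 2) - 1)) ∨
      (∃ k : ℕ, Nonempty (S ≃* QuaternionGroup (2 ^ (k + 1))))) := by
  classical
  have : Fact (Nat.Prime 2) := ⟨Nat.prime_two⟩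
  obtain ⟨H, hH⟩ := hsub
  have hP : ∃ P : Subgroup S, Nat.card P = 8 ∧ ∃ x ∈ P, ∃ y ∈ P, x * y ≠ y * x := by
    rcases hH with ⟨⟨e⟩⟩ | ⟨⟨e⟩⟩
    · refine ⟨H, ?_, (e.symm (DihedralGroup.r 1) : S), (e.symm (DihedralGroup.r 1)).2,
        (e.symm (DihedralGroup.sr 0) : S), (e.symm (DihedralGroup.sr 0)).2, ?_⟩
      · rw [Nat.card_congr e.toEquiv, Nat.card_eq_fintype_card, DihedralGroup.card]
      · intro h
        have h1 : e.symm (DihedralGroup.r 1) * e.symm (DihedralGroup.sr 0) =
            e.symm (DihedralGroup.sr 0) * e.symm (DihedralGroup.r 1) := Subtype.ext h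
        rw [← map_mul, ← map_mul] at h1
        have h2 := e.symm.injective h1
        revert h2
        decide
    · refine ⟨H, ?_, (e.symm (QuaternionGroup.a 1) : S), (e.symm (QuaternionGroup.a 1)).2,
        (e.symm (QuaternionGroup.xa 0) : S), (e.symm (QuaternionGroup.xa 0)).2, ?_⟩
      · rw [Nat.card_congr e.toEquiv, Nat.card_eq_fintype_card, QuaternionGroup.card]
      · intro h
        have h1 : e.symm (QuaternionGroup.a 1) * e.symm (QuaternionGroup.xa 0) =
            e.symm (QuaternionGroup.xa 0) * e.symm (QuaternionGroup.a 1) := Subtype.ext h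
        rw [← map_mul, ← map_mul] at h1
        have h2 := e.symm.injective h1
        revert h2
        decide
  have hidx := Cfsg.Agent.Lib.Helper17.SR2.main (Nat.card S) S rfl h2 hr hP
  obtain ⟨P, hP8, x, hx, y, hy, hxy⟩ := hP
  have hna : ∃ x y : S, x * y ≠ y * x := ⟨x, y, hxy⟩
  have hab : Nat.card (Abelianization S) = 4 := by
    rw [← hidx, Subgroup.index_eq_card]; rfl
  have hexp' : ∀ q : S ⧸ commutator S, q ^ 2 = 1 := by
    intro q
    induction q using QuotientGroup.induction_on with
    | H g =>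
      rw [← QuotientGroup.mk_pow, QuotientGroup.eq_one_iff]
      exact Cfsg.Agent.Lib.Helper17.SR2.sq_mem_commutator h2 hna hidx g
  have hexp : ∀ q : Abelianization S, q ^ 2 = 1 := hexp'
  rcases Cfsg.Agent.S4399.result h2 hab hexp with h4 | h
  · exfalso
    have := Subgroup.card_le_card_group P
    rw [hP8, h4] at this
    omega
  · exact h

end Cfsg.Agent.S4398
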