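import Cfsg.Statements.S4400
import Mathlib
import Cfsg.Agent.Lib.Helper14.PGroupMisc

set_option autoImplicit false
open Cfsg
open Cfsg.Agent.Lib.Helper14
open scoped commutatorElement
set_option maxHeartbeats 400000

namespace Cfsg.Agent.S4400

/-- Let S be a finite 2-group of sectional 2-rank at most 4, and let P and Q be normal non-abelian subgroups of S whose centres have order 2 and are different. Then P and Q commute elementwise and intersect trivially, and PQ contains its own centralizer in S. -/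
theorem result {S : Type*} [Group S] [Finite S] (h2 : IsPGroup 2 S) (hr : Cfsg.SectionalPRankLE 2 4 S)
    (P Q : Subgroup S) [P.Normal] [Q.Normal] (hP : ¬ IsMulCommutative ↥P) (hQ : ¬ IsMulCommutative ↥Q)
    (hZP : Nat.card ↥(Subgroup.center ↥P) = 2) (hZQ : Nat.card ↥(Subgroup.center ↥Q) = 2)
    (hne : (Subgroup.center ↥P).map P.subtype ≠ (Subgroup.center ↥Q).map Q.subtype) :
    ⁅P, Q⁆ = ⊥ ∧ P ⊓ Q = ⊥ ∧ Subgroup.centralizer ((P ⊔ Q : Subgroup S) : Set S) ≤ P ⊔ Q := by
  classical
  have : Fact (Nat.Prime 2) := ⟨Nat.prime_two⟩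
  have : Group.IsNilpotent S := h2.isNilpotent
  have hPQ : P ⊓ Q = ⊥ := by
    by_contra hne'
    have h1 := Cfsg.Agent.Lib.Helper2.normal_inf_center_ne_bot (P ⊓ Q) hne'
    obtain ⟨⟨z, hz⟩, hz1⟩ := (Subgroup.ne_bot_iff_exists_ne_one).mp h1
    have hz1' : z ≠ 1 := fun h => hz1 (Subtype.ext h)
    obtain ⟨hzPQ, hzZ⟩ := Subgroup.mem_inf.mp hz
    obtain ⟨hzP, hzQ⟩ := Subgroup.mem_inf.mp hzPQ
    apply hne
    ext w
    rw [mem_center_map_iff P hZP z hzP hz1' (fun a _ => (Subgroup.mem_center_iff.mp hzZ a)) w,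
        mem_center_map_iff Q hZQ z hzQ hz1' (fun a _ => (Subgroup.mem_center_iff.mp hzZ a)) w]
  have hcomm : ⁅P, Q⁆ = ⊥ := by
    rw [eq_bot_iff, ← hPQ]; exact Subgroup.commutator_le_inf P Q
  refine ⟨hcomm, hPQ, ?_⟩
  have hab : ∀ a ∈ P, ∀ b ∈ Q, a * b = b * a := by
    intro a ha b hb
    have : ⁅a, b⁆ ∈ ⁅P, Q⁆ := Subgroup.commutator_mem_commutator ha hb
    rw [hcomm, Subgroup.mem_bot, commutatorElement_eq_one_iff_mul_comm] at this
    exact this
  intro x0 hx0
  by_contra hx0PQ
  obtain ⟨x, hxC, hxPQ, hx2⟩ : ∃ x ∈ Subgroup.centralizer ((P ⊔ Q : Subgroup S) : Set S),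
      x ∉ P ⊔ Q ∧ x ^ 2 ∈ P ⊔ Q := by
    obtain ⟨k, hk⟩ := h2 x0
    have hex : ∃ j, x0 ^ 2 ^ j ∈ P ⊔ Q := ⟨k, by rw [hk]; exact Subgroup.one_mem _⟩
    have hspec := Nat.find_spec hex
    have hmin := fun m (hm : m < Nat.find hex) => Nat.find_min hex hm
    rcases Nat.eq_zero_or_pos (Nat.find hex) with h0 | hpos
    · exfalso; rw [h0, pow_zero, pow_one] at hspec; exact hx0PQ hspec
    · obtain ⟨j, hj⟩ : ∃ j, Nat.find hex = j + 1 := ⟨Nat.find hex - 1, by omega⟩
      refine ⟨x0 ^ 2 ^ j, Subgroup.pow_mem _ hx0 _, hmin j (by omega), ?_⟩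
      rw [← pow_mul, ← pow_succ, ← hj]; exact hspec
  have hxc : ∀ w ∈ P ⊔ Q, w * x = x * w := fun w hw => Subgroup.mem_centralizer_iff.mp hxC w hw
  have hxP : ∀ a ∈ P, a * x = x * a := fun a ha => hxc a (le_sup_left (a := P) ha)
  have hxQ : ∀ b ∈ Q, b * x = x * b := fun b hb => hxc b (le_sup_right (b := Q) hb)
  set ΦP : Subgroup S := (frattini ↥P).map P.subtype with hΦP
  set ΦQ : Subgroup S := (frattini ↥Q).map Q.subtype with hΦQ
  have hΦPn : ΦP.Normal := ConjAct.normal_of_characteristic_of_normal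
  have hΦQn : ΦQ.Normal := ConjAct.normal_of_characteristic_of_normal
  set N : Subgroup S := ΦP ⊔ ΦQ with hN
  have hNn : N.Normal := inferInstance
  set T : Subgroup S := Subgroup.zpowers x ⊔ (P ⊔ Q) with hT
  have hΦPP : ΦP ≤ P := Subgroup.map_subtype_le _
  have hΦQQ : ΦQ ≤ Q := Subgroup.map_subtype_le _
  -- x ^ 2 ∈ N
  have hx2N : x ^ 2 ∈ N := by
    obtain ⟨a0, ha0, b0, hb0, h0⟩ := Subgroup.mem_sup_of_normal_right.mp hx2
    have hx2c : ∀ w ∈ P ⊔ Q, w * x ^ 2 = x ^ 2 * w := by
      intro w hw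
      have := hxc w hw
      exact ((show Commute w x from this).pow_right 2).eq
    have ha0Z : a0 ∈ (Subgroup.center ↥P).map P.subtype := by
      rw [Subgroup.mem_map]
      refine ⟨⟨a0, ha0⟩, ?_, rfl⟩
      rw [Subgroup.mem_center_iff]
      intro a
      apply Subtype.ext
      change (a : S) * a0 = a0 * a
      have e1 : (a : S) * (a0 * b0) = (a0 * b0) * a := by
        rw [h0]; exact hx2c a (le_sup_left (a := P) a.2)
      have e2 : b0 * (a : S) = a * b0 := (hab a a.2 b0 hb0).symm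
      have e3 : (a : S) * a0 * b0 = a0 * a * b0 := by
        rw [mul_assoc, e1, mul_assoc, e2, mul_assoc]
      exact mul_right_cancel e3
    have hb0Z : b0 ∈ (Subgroup.center ↥Q).map Q.subtype := by
      rw [Subgroup.mem_map]
      refine ⟨⟨b0, hb0⟩, ?_, rfl⟩
      rw [Subgroup.mem_center_iff]
      intro b
      apply Subtype.ext
      change (b : S) * b0 = b0 * b
      have e1 : (b : S) * (a0 * b0) = (a0 * b0) * b := by
        rw [h0]; exact hx2c b (le_sup_right (b := Q) b.2)
      have e2 : (b : S) * a0 = a0 * b := (hab a0 ha0 b b.2).symm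
      have e3 : a0 * ((b : S) * b0) = a0 * (b0 * b) := by
        rw [← mul_assoc, ← e2, mul_assoc, e1, mul_assoc]
      exact mul_left_cancel e3
    rw [← h0]
    exact Subgroup.mul_mem _ (le_sup_left (a := ΦP) (center_le_frattini h2 P hP hZP ha0Z))
      (le_sup_right (b := ΦQ) (center_le_frattini h2 Q hQ hZQ hb0Z))
  set π : S →* S ⧸ N := QuotientGroup.mk' N with hπ
  have hπ1 : ∀ s : S, s ∈ N → π s = 1 := fun s hs => (QuotientGroup.eq_one_iff s).mpr hs
  -- general: for a subgroup R whose Frattini image lies in N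
  have gen : ∀ (R : Subgroup S), (frattini ↥R).map R.subtype ≤ N →
      ∀ a ∈ R, ∀ a' ∈ R, Commute (π a) (π a') ∧ (π a) ^ 2 = 1 := by
    intro R hR a ha a' ha'
    have hRp : IsPGroup 2 R := h2.to_subgroup R
    have hker : ∀ t : R, t ∈ frattini ↥R → π (t : S) = 1 := by
      intro t ht
      apply hπ1
      apply hR
      exact ⟨t, ht, rfl⟩
    constructor
    · have h1 : ⁅(⟨a, ha⟩ : R), ⟨a', ha'⟩⁆ ∈ frattini ↥R := by
        apply commutator_le_frattini_of_isPGroup' hRp
        rw [commutator_def]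
        exact Subgroup.commutator_mem_commutator (Subgroup.mem_top _) (Subgroup.mem_top _)
      have h2' := hker _ h1
      have h3 : ((⁅(⟨a, ha⟩ : R), ⟨a', ha'⟩⁆ : R) : S) = ⁅a, a'⁆ := by
        simp [commutatorElement_def]
      rw [h3, map_commutatorElement, commutatorElement_eq_one_iff_commute] at h2'
      exact h2'
    · have h1 : (⟨a, ha⟩ : R) ^ 2 ∈ frattini ↥R := pow_mem_frattini_of_isPGroup' hRp _
      have h2' := hker _ h1
      rw [Subgroup.coe_pow, map_pow] at h2'
      exact h2'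
  have genP := gen P (le_sup_left (a := ΦP))
  have genQ := gen Q (le_sup_right (b := ΦQ))
  have hπx2 : (π x) ^ 2 = 1 := by rw [← map_pow]; exact hπ1 _ hx2N
  -- structure of elements of T
  have hTel : ∀ t ∈ T, ∃ i : ℤ, ∃ a ∈ P, ∃ b ∈ Q, t = x ^ i * (a * b) := by
    intro t ht
    obtain ⟨y, hy, w, hw, rfl⟩ := Subgroup.mem_sup_of_normal_right.mp ht
    obtain ⟨i, rfl⟩ := Subgroup.mem_zpowers_iff.mp hy
    obtain ⟨a, ha, b, hb, rfl⟩ := Subgroup.mem_sup_of_normal_right.mp hw
    exact ⟨i, a, ha, b, hb, rfl⟩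
  have cxP : ∀ (i : ℤ), ∀ a ∈ P, Commute (π (x ^ i)) (π a) := by
    intro i a ha
    exact ((show Commute x a from (hxP a ha).symm).zpow_left i).map π
  have cxQ : ∀ (i : ℤ), ∀ b ∈ Q, Commute (π (x ^ i)) (π b) := by
    intro i b hb
    exact ((show Commute x b from (hxQ b hb).symm).zpow_left i).map π
  have cxx : ∀ (i j : ℤ), Commute (π (x ^ i)) (π (x ^ j)) := by
    intro i j
    exact (((Commute.refl x).zpow_right j).zpow_left i).map π
  have cPQ : ∀ a ∈ P, ∀ b ∈ Q, Commute (π a) (π b) := by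
    intro a ha b hb
    exact (show Commute a b from hab a ha b hb).map π
  have hcommT : ∀ t ∈ T, ∀ t' ∈ T, Commute (π t) (π t') := by
    intro t ht t' ht'
    obtain ⟨i, a, ha, b, hb, rfl⟩ := hTel t ht
    obtain ⟨j, a', ha', b', hb', rfl⟩ := hTel t' ht'
    simp only [map_mul]
    apply Commute.mul_left
    · apply Commute.mul_right (cxx i j)
      exact Commute.mul_right (cxP i a' ha') (cxQ i b' hb')
    · apply Commute.mul_left
      · apply Commute.mul_right (cxP j a ha).symm
        exact Commute.mul_right (genP a ha a' ha').1 (cPQ a ha b' hb')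
      · apply Commute.mul_right (cxQ j b hb).symm
        exact Commute.mul_right (cPQ a' ha' b hb).symm (genQ b hb b' hb').1
  have hsqT : ∀ t ∈ T, (π t) ^ 2 = 1 := by
    intro t ht
    obtain ⟨i, a, ha, b, hb, rfl⟩ := hTel t ht
    simp only [map_mul]
    rw [(Commute.mul_right (cxP i a ha) (cxQ i b hb)).mul_pow, (cPQ a ha b hb).mul_pow,
      (genP a ha a ha).2, (genQ b hb b hb).2, mul_one, mul_one, map_zpow,
      ← zpow_natCast, ← zpow_mul, mul_comm, zpow_mul, zpow_natCast, hπx2, one_zpow]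
  -- the section T / N
  have hNT : N ≤ T := by
    apply sup_le
    · exact hΦPP.trans ((le_sup_left (a := P)).trans le_sup_right)
    · exact hΦQQ.trans ((le_sup_right (b := Q)).trans le_sup_right)
  set N' : Subgroup T := N.subgroupOf T with hN'
  have hN'n : N'.Normal := inferInstance
  have hsec := hr T N' ⊤ ?_ ?_
  · rw [Subgroup.card_top, ← Subgroup.index_eq_card] at hsec
    have hc1 := Subgroup.card_mul_index N'
    have hc2 : Nat.card N' = Nat.card N :=
      Nat.card_congr (Subgroup.subgroupOfEquivOfLe hNT).toEquiv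
    rw [hc2] at hc1
    -- lower bound for |T|
    have hxT : x ∈ T := (le_sup_left (a := Subgroup.zpowers x)) (Subgroup.mem_zpowers x)
    have hPQT : P ⊔ Q ≤ T := le_sup_right
    obtain ⟨k, hk⟩ := Subgroup.card_dvd_of_le hPQT
    have hTpos : 0 < Nat.card T := Nat.card_pos
    have hk2 : 2 ≤ k := by
      rcases k with _ | _ | k
      · rw [mul_zero] at hk; omega
      · exfalso
        rw [zero_add, mul_one] at hk
        have := Subgroup.eq_of_le_of_card_ge hPQT (le_of_eq hk)
        apply hxPQ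
        rw [this]
        exact hxT
      · omega
    have hcPQ := card_sup_of_inf_eq_bot P Q hPQ
    have hΦinf : ΦP ⊓ ΦQ = ⊥ := by
      rw [eq_bot_iff, ← hPQ]
      exact inf_le_inf hΦPP hΦQQ
    have hcN := card_sup_of_inf_eq_bot ΦP ΦQ hΦinf
    have hcΦP : Nat.card ΦP = Nat.card (frattini ↥P) :=
      Subgroup.card_map_of_injective P.subtype_injective
    have hcΦQ : Nat.card ΦQ = Nat.card (frattini ↥Q) :=
      Subgroup.card_map_of_injective Q.subtype_injective
    obtain ⟨kP, hkP⟩ := sq_dvd_index_frattini (h2.to_subgroup P) hP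
    obtain ⟨kQ, hkQ⟩ := sq_dvd_index_frattini (h2.to_subgroup Q) hQ
    have hiP := Subgroup.card_mul_index (frattini ↥P)
    have hiQ := Subgroup.card_mul_index (frattini ↥Q)
    rw [hkP, ← hcΦP] at hiP
    rw [hkQ, ← hcΦQ] at hiQ
    have hPpos : 0 < Nat.card P := Nat.card_pos
    have hQpos : 0 < Nat.card Q := Nat.card_pos
    have hkPpos : 0 < kP := by
      rcases Nat.eq_zero_or_pos kP with h | h
      · rw [h, mul_zero, mul_zero] at hiP; omega
      · exact h
    have hkQpos : 0 < kQ := by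
      rcases Nat.eq_zero_or_pos kQ with h | h
      · rw [h, mul_zero, mul_zero] at hiQ; omega
      · exact h
    have hNpos : 0 < Nat.card N := Nat.card_pos
    -- assemble
    have e1 : Nat.card T ≤ 16 * Nat.card N := by
      rw [← hc1, mul_comm]
      exact Nat.mul_le_mul_right _ (by simpa using hsec)
    have e2 : 2 * (Nat.card P * Nat.card Q) ≤ Nat.card T := by
      rw [hk, hcPQ, mul_comm]
      exact Nat.mul_le_mul_left _ hk2
    have e3 : Nat.card P * Nat.card Q = 16 * (kP * kQ) * Nat.card N := by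
      rw [← hiP, ← hiQ, hcN]; ring
    have e4 : 1 ≤ kP * kQ := Nat.mul_pos hkPpos hkQpos
    have e5 : 16 * Nat.card N ≤ 16 * (kP * kQ) * Nat.card N := by
      calc 16 * Nat.card N = 16 * 1 * Nat.card N := by ring
        _ ≤ 16 * (kP * kQ) * Nat.card N := by
          apply Nat.mul_le_mul_right
          exact Nat.mul_le_mul_left _ e4
    omega
  · -- commutative
    constructor
    constructor
    intro u v
    apply Subtype.ext
    obtain ⟨t, ht⟩ := QuotientGroup.mk_surjective u.1
    obtain ⟨t', ht'⟩ := QuotientGroup.mk_surjective v.1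
    change u.1 * v.1 = v.1 * u.1
    rw [← ht, ← ht', ← QuotientGroup.mk_mul, ← QuotientGroup.mk_mul, QuotientGroup.eq,
      Subgroup.mem_subgroupOf]
    simp only [Subgroup.coe_mul, Subgroup.coe_inv]
    rw [← QuotientGroup.eq_one_iff (N := N)]
    have := hcommT t t.2 t' t'.2
    change π (((t : S) * (t' : S))⁻¹ * ((t' : S) * (t : S))) = 1
    rw [map_mul, map_inv, map_mul, map_mul, this.eq, inv_mul_cancel]
  · -- exponent two
    intro u _
    obtain ⟨t, ht⟩ := QuotientGroup.mk_surjective u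
    rw [← ht, ← QuotientGroup.mk_pow, QuotientGroup.eq_one_iff, Subgroup.mem_subgroupOf,
      Subgroup.coe_pow]
    rw [← QuotientGroup.eq_one_iff (N := N)]
    have := hsqT t t.2
    change π ((t : S) ^ 2) = 1
    rw [map_pow]
    exact this


end Cfsg.Agent.S4400
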