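import Cfsg.Statements.S4405
import Mathlib
import Cfsg.Agent.Lib.Helper22.Ord320
import Cfsg.Agent.Lib.Helper16.PCore
import Cfsg.Agent.Lib.Helper11.PGroupFrattini
import Cfsg.Agent.Lib.Helper13.BenderA
import Cfsg.Agent.Lib.Helper4.BurnsidePQ

set_option autoImplicit false
open Cfsg

namespace Cfsg.Agent.S4405

/-- Let G be a finite group of order 320 = 64·5 whose largest normal 2-subgroup H = O₂(G) equals the Fitting subgroup F(G) and is extraspecial of order 32 containing no elementary abelian subgroup of order 8 (so H is the central product of a quaternion group and a dihedral group of order 8). If T is an involution of G outside H whose centralizer in H contains an elementary abelian subgroup of order 4, then C_H(T) itself is elementary abelian of order 4. -/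
theorem result {G : Type*} [Group G] [Finite G]
    (hG : Nat.card G = 320) (hHF : Cfsg.pCore 2 G = Cfsg.fittingSubgroup G)
    (hex : Cfsg.IsExtraspecial 2 ↥(Cfsg.pCore 2 G)) (h32 : Nat.card ↥(Cfsg.pCore 2 G) = 32)
    (hminus : ∀ A : Subgroup G, A ≤ Cfsg.pCore 2 G → Cfsg.IsElementaryAbelian 2 A → Nat.card ↥A ≤ 4)
    (T : G) (hT : orderOf T = 2) (hTH : T ∉ Cfsg.pCore 2 G)
    (V : Subgroup G) (hV : V ≤ Cfsg.pCore 2 G ⊓ Subgroup.centralizer ({T} : Set G)) (hV4 : Nat.card ↥V = 4) (hVe : Cfsg.IsElementaryAbelian 2 V) :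
    Nat.card ↥(Cfsg.pCore 2 G ⊓ Subgroup.centralizer ({T} : Set G)) = 4 ∧
      Cfsg.IsElementaryAbelian 2 (Cfsg.pCore 2 G ⊓ Subgroup.centralizer ({T} : Set G)) := by
  classical
  set H : Subgroup G := Cfsg.pCore 2 G with hHdef
  have : Fact (Nat.Prime 2) := ⟨Nat.prime_two⟩
  haveI hHn : H.Normal := Cfsg.Agent.Lib.Helper16.pCore_normal 2 G
  have hH2 : IsPGroup 2 H := Cfsg.Agent.Lib.Helper16.pCore_isPGroup 2 G
  obtain ⟨⟨_, hfr, _⟩, hcen2⟩ := hex
  set Z : Subgroup G := (Subgroup.center H).map H.subtype with hZdef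
  have hZn : Z.Normal := inferInstance
  have hZ2 : Nat.card Z = 2 := by
    rw [hZdef, Subgroup.card_map_of_injective H.subtype_injective]
    exact hcen2
  have hZH : Z ≤ H := Subgroup.map_subtype_le _
  have hZc : Z ≤ Subgroup.center G := by
    intro c hc
    rw [Subgroup.mem_center_iff]
    intro g
    obtain ⟨y, hy1, hyu⟩ := (Nat.card_eq_two_iff' (1 : Z)).mp hZ2
    by_cases hc1 : c = 1
    · rw [hc1]; simp
    · have h1 : (⟨c, hc⟩ : Z) = y := hyu _ (fun h => hc1 (congrArg Subtype.val h))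
      have hconj : g * c * g⁻¹ ∈ Z := hZn.conj_mem c hc g
      have h2 : (⟨g * c * g⁻¹, hconj⟩ : Z) = y := by
        apply hyu
        intro h
        have := congrArg Subtype.val h
        simp only [Subgroup.coe_one] at this
        apply hc1
        have e : c = g⁻¹ * (g * c * g⁻¹) * g := by group
        rw [e, this]; group
      have h3 : g * c * g⁻¹ = c := by
        have := congrArg Subtype.val (h2.trans h1.symm)
        simpa using this
      calc g * c = (g * c * g⁻¹) * g := by group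
        _ = c * g := by rw [h3]
  have hsq : ∀ h ∈ H, h ^ 2 ∈ Z := by
    intro h hh
    have h1 : (⟨h, hh⟩ : H) ^ 2 ∈ frattini H :=
      Cfsg.Agent.Lib.Helper11.pow_mem_frattini_of_isPGroup hH2 _
    rw [hfr] at h1
    exact ⟨_, h1, rfl⟩
  have hsolv : Group.IsSolvable G :=
    Cfsg.Agent.Lib.Helper4.isSolvable_of_card_pq 2 5 6 1 Nat.prime_two (by norm_num)
      (by rw [hG]; norm_num)
  have hCH : Subgroup.centralizer (H : Set G) ≤ H := by
    have := Cfsg.Agent.Lib.Helper13.BenderA.centralizer_fitting_le (X := G)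
    rw [← hHF] at this
    exact this
  have hmax : ∀ K : Subgroup G, K.Normal → IsPGroup 2 K → K ≤ H :=
    fun K hK hK2 => Cfsg.Agent.Lib.Helper16.le_pCore hK hK2
  have hminus' : ∀ A : Subgroup G, A ≤ H → (∀ a ∈ A, a ^ 2 = 1) → Nat.card A ≤ 4 := by
    intro A hA hexp
    apply hminus A hA
    refine ⟨⟨⟨fun a b => ?_⟩⟩, hexp⟩
    apply Subtype.ext
    show a.1 * b.1 = b.1 * a.1
    have ha := hexp a.1 a.2
    have hb := hexp b.1 b.2
    have hab := hexp (a.1 * b.1) (A.mul_mem a.2 b.2)
    rw [pow_two] at ha hb hab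
    have ha' : (a.1)⁻¹ = a.1 := inv_eq_of_mul_eq_one_left ha
    have hb' : (b.1)⁻¹ = b.1 := inv_eq_of_mul_eq_one_left hb
    have : a.1 * b.1 = (a.1 * b.1)⁻¹ := (inv_eq_of_mul_eq_one_left hab).symm
    rw [this, mul_inv_rev, ha', hb']
  have hmain := Cfsg.Agent.Lib.Helper22.Ord320.main H Z hZc hG h32 hZ2 hZH hsq hCH hmax hminus'
    T hT hTH V hV hV4
  refine ⟨hmain, ?_⟩
  have hVeq : V = H ⊓ Subgroup.centralizer ({T} : Set G) := by
    apply Subgroup.eq_of_le_of_card_ge hV
    rw [hmain, hV4]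
  rw [← hVeq]
  exact hVe

end Cfsg.Agent.S4405
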