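import Mathlib
import Cfsg.Statements.S4406

set_option autoImplicit false
open Cfsg

namespace Cfsg.Agent.S4406

set_option synthInstance.maxSize 4000
set_option synthInstance.maxHeartbeats 400000
set_option linter.unusedVariables false

abbrev A4 := ↥(alternatingGroup (Fin 4))

def NormP (a b v₁ w₁ v₂ w₂ : A4) : Prop :=
  ((a * v₁ * a⁻¹ = v₁ ∧ b * w₁ * b⁻¹ = w₁) ∨ (a * v₁ * a⁻¹ = v₂ ∧ b * w₁ * b⁻¹ = w₂) ∨
    (a * v₁ * a⁻¹ = v₁ * v₂ ∧ b * w₁ * b⁻¹ = w₁ * w₂)) ∧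
  ((a * v₂ * a⁻¹ = v₁ ∧ b * w₂ * b⁻¹ = w₁) ∨ (a * v₂ * a⁻¹ = v₂ ∧ b * w₂ * b⁻¹ = w₂) ∨
    (a * v₂ * a⁻¹ = v₁ * v₂ ∧ b * w₂ * b⁻¹ = w₁ * w₂))

instance (a b v₁ w₁ v₂ w₂ : A4) : Decidable (NormP a b v₁ w₁ v₂ w₂) := by
  unfold NormP; infer_instance

def L1 (a b v₁ w₁ : A4) : Prop :=
    ∀ v₂ : A4, v₂ ≠ 1 → v₂ * v₂ = 1 → v₂ ≠ v₁ → ∀ w₂ : A4, w₂ ≠ 1 → w₂ * w₂ = 1 → w₂ ≠ w₁ →
    NormP a b v₁ w₁ v₂ w₂ ∨ NormP a (b * b) v₁ w₁ v₂ w₂

instance (a b v₁ w₁ : A4) : Decidable (L1 a b v₁ w₁) := by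
  unfold L1; infer_instance

def L2 (a b : A4) : Prop :=
    ∀ v₁ : A4, v₁ ≠ 1 → v₁ * v₁ = 1 → ∀ w₁ : A4, w₁ ≠ 1 → w₁ * w₁ = 1 → L1 a b v₁ w₁

instance (a b : A4) : Decidable (L2 a b) := by
  unfold L2; infer_instance

set_option maxRecDepth 100000 in
theorem key : ∀ a : A4, a ≠ 1 → a * a * a = 1 → ∀ b : A4, b ≠ 1 → b * b * b = 1 → L2 a b := by
  decide +kernel

theorem sq4 : ∀ g : A4, g ^ 4 = 1 → g * g = 1 := by decide +kernel
theorem cube3 : ∀ g : A4, g ^ 3 = 1 → g * g * g = 1 := by decide +kernel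

theorem card_A4 : Nat.card A4 = 12 := by
  rw [nat_card_alternatingGroup, Nat.card_fin]; rfl

theorem sq_of_two_pow (g : A4) (k : ℕ) (h : g ^ (2 ^ k) = 1) : g * g = 1 := by
  apply sq4
  rw [← orderOf_dvd_iff_pow_eq_one] at h ⊢
  have h12 : orderOf g ∣ 4 * 3 := by
    have := orderOf_dvd_natCard g
    rwa [card_A4] at this
  have hcop : Nat.Coprime (orderOf g) 3 :=
    Nat.Coprime.coprime_dvd_left h (Nat.Coprime.pow_left k (by norm_num))
  exact hcop.dvd_of_dvd_mul_right h12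

theorem cube_of_three_pow (g : A4) (k : ℕ) (h : g ^ (3 ^ k) = 1) : g * g * g = 1 := by
  apply cube3
  rw [← orderOf_dvd_iff_pow_eq_one] at h ⊢
  have h12 : orderOf g ∣ 3 * 4 := by
    have := orderOf_dvd_natCard g
    rwa [card_A4] at this
  have hcop : Nat.Coprime (orderOf g) 4 :=
    Nat.Coprime.coprime_dvd_left h (Nat.Coprime.pow_left k (by norm_num))
  exact hcop.dvd_of_dvd_mul_right h12

theorem main (X : Sylow 2 (A4 × A4)) (Q : Sylow 3 (A4 × A4)) (B : Subgroup (A4 × A4))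
    (hBX : B ≤ (X : Subgroup _)) (hB4 : Nat.card ↥B = 4) :
    B ⊓ ((X : Subgroup _) ⊓ Subgroup.prod ⊤ ⊥) ≠ ⊥ ∨
      B ⊓ ((X : Subgroup _) ⊓ Subgroup.prod ⊥ ⊤) ≠ ⊥ ∨
      ∃ R : Subgroup (A4 × A4), R ≤ (Q : Subgroup _) ∧ Nat.card ↥R = 3 ∧
        R ≠ (Q : Subgroup _) ⊓ Subgroup.prod ⊤ ⊥ ∧ R ≠ (Q : Subgroup _) ⊓ Subgroup.prod ⊥ ⊤ ∧
        R ≤ Subgroup.normalizer (B : Set _) := by
  classical
  by_contra hcon
  push Not at hcon
  obtain ⟨h1, h2, h3⟩ := hcon
  -- squares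
  have hXsq : ∀ g ∈ (X : Subgroup (A4 × A4)), g.1 * g.1 = 1 ∧ g.2 * g.2 = 1 := by
    intro g hg
    obtain ⟨k, hk⟩ := X.isPGroup' ⟨g, hg⟩
    have hk' : g ^ (2 ^ k) = 1 := by
      have := congrArg Subtype.val hk
      simpa using this
    constructor
    · apply sq_of_two_pow _ k
      have := congrArg Prod.fst hk'
      simpa using this
    · apply sq_of_two_pow _ k
      have := congrArg Prod.snd hk'
      simpa using this
  have hB1 : ∀ g ∈ B, g.2 = 1 → g = 1 := by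
    intro g hg h
    have : g ∈ B ⊓ ((X : Subgroup (A4 × A4)) ⊓ Subgroup.prod ⊤ ⊥) := by
      refine Subgroup.mem_inf.2 ⟨hg, Subgroup.mem_inf.2 ⟨hBX hg, ?_⟩⟩
      rw [Subgroup.mem_prod]
      exact ⟨Subgroup.mem_top _, Subgroup.mem_bot.2 h⟩
    rw [h1] at this
    exact Subgroup.mem_bot.1 this
  have hB2 : ∀ g ∈ B, g.1 = 1 → g = 1 := by
    intro g hg h
    have : g ∈ B ⊓ ((X : Subgroup (A4 × A4)) ⊓ Subgroup.prod ⊥ ⊤) := by
      refine Subgroup.mem_inf.2 ⟨hg, Subgroup.mem_inf.2 ⟨hBX hg, ?_⟩⟩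
      rw [Subgroup.mem_prod]
      exact ⟨Subgroup.mem_bot.2 h, Subgroup.mem_top _⟩
    rw [h2] at this
    exact Subgroup.mem_bot.1 this
  -- pick x, y
  have hncard : (B : Set (A4 × A4)).ncard = 4 := by
    rw [← Nat.card_coe_set_eq]; exact hB4
  obtain ⟨x, hxB, hx1⟩ : ∃ x ∈ B, x ≠ 1 := by
    by_contra hc
    push Not at hc
    have hsub : (B : Set (A4 × A4)) ⊆ {1} := fun g hg => hc g hg
    have := Set.ncard_le_ncard hsub (Set.finite_singleton _)
    rw [hncard, Set.ncard_singleton] at this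
    omega
  obtain ⟨y, hyB, hy1, hyx⟩ : ∃ y ∈ B, y ≠ 1 ∧ y ≠ x := by
    by_contra hc
    push Not at hc
    have hsub : (B : Set (A4 × A4)) ⊆ {1, x} := by
      intro g hg
      by_cases hg1 : g = 1
      · left; exact hg1
      · right; exact hc g hg hg1
    have := Set.ncard_le_ncard hsub (Set.toFinite _)
    have h2' : ({1, x} : Set (A4 × A4)).ncard ≤ 2 := by
      have := Set.ncard_insert_le (1 : A4 × A4) {x}
      rw [Set.ncard_singleton] at this
      exact this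
    rw [hncard] at this
    omega
  have hxsq := hXsq x (hBX hxB)
  have hysq := hXsq y (hBX hyB)
  have hxx : x * x = 1 := Prod.ext hxsq.1 hxsq.2
  have hyy : y * y = 1 := Prod.ext hysq.1 hysq.2
  have hxinv : x⁻¹ = x := inv_eq_of_mul_eq_one_left hxx
  have hyinv : y⁻¹ = y := inv_eq_of_mul_eq_one_left hyy
  have hv1 : x.1 ≠ 1 := fun h => hx1 (hB2 x hxB h)
  have hw1 : x.2 ≠ 1 := fun h => hx1 (hB1 x hxB h)
  have hv2 : y.1 ≠ 1 := fun h => hy1 (hB2 y hyB h)
  have hw2 : y.2 ≠ 1 := fun h => hy1 (hB1 y hyB h)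
  have hxyB : x * y ∈ B := B.mul_mem hxB hyB
  have hxy1 : x * y ≠ 1 := by
    intro h
    apply hyx
    have := eq_inv_of_mul_eq_one_right h
    rw [this, hxinv]
  have hvv : y.1 ≠ x.1 := by
    intro h
    apply hxy1
    apply hB2 _ hxyB
    rw [Prod.fst_mul, h]; exact hxsq.1
  have hww : y.2 ≠ x.2 := by
    intro h
    apply hxy1
    apply hB1 _ hxyB
    rw [Prod.snd_mul, h]; exact hxsq.2
  -- B = {1, x, y, xy}
  have hBset : ∀ n ∈ B, n = 1 ∨ n = x ∨ n = y ∨ n = x * y := by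
    have hsub : ({1, x, y, x * y} : Set (A4 × A4)) ⊆ (B : Set (A4 × A4)) := by
      intro g hg
      rcases hg with rfl | rfl | rfl | rfl
      · exact B.one_mem
      · exact hxB
      · exact hyB
      · exact hxyB
    have hcard4 : ({1, x, y, x * y} : Set (A4 × A4)).ncard = 4 := by
      have e1 : x * y ≠ y := by
        intro h; apply hx1; exact mul_eq_right.1 h
      have e2 : x * y ≠ x := by
        intro h; apply hy1; exact mul_eq_left.1 h
      rw [Set.ncard_insert_of_notMem, Set.ncard_insert_of_notMem, Set.ncard_pair]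
      · exact fun h => e1 h.symm
      · simp only [Set.mem_insert_iff, Set.mem_singleton_iff, not_or]
        exact ⟨fun h => hyx h.symm, fun h => e2 h.symm⟩
      · simp only [Set.mem_insert_iff, Set.mem_singleton_iff, not_or]
        exact ⟨fun h => hx1 h.symm, fun h => hy1 h.symm, fun h => hxy1 h.symm⟩
    have heq := Set.eq_of_subset_of_ncard_le hsub (by rw [hcard4, hncard]) (Set.toFinite _)
    intro n hn
    have : n ∈ ({1, x, y, x * y} : Set (A4 × A4)) := by rw [heq]; exact hn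
    simpa using this
  -- Q
  have h144 : Nat.card (A4 × A4) = 144 := by rw [Nat.card_prod, card_A4]
  have h9 : 3 ^ 2 ∣ Nat.card (Q : Subgroup (A4 × A4)) :=
    Q.pow_dvd_card_of_pow_dvd_card (by rw [h144]; norm_num)
  have hQcube : ∀ g ∈ (Q : Subgroup (A4 × A4)), g.1 * g.1 * g.1 = 1 ∧ g.2 * g.2 * g.2 = 1 := by
    intro g hg
    obtain ⟨k, hk⟩ := Q.isPGroup' ⟨g, hg⟩
    have hk' : g ^ (3 ^ k) = 1 := by
      have := congrArg Subtype.val hk
      simpa using this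
    constructor
    · apply cube_of_three_pow _ k
      have := congrArg Prod.fst hk'
      simpa using this
    · apply cube_of_three_pow _ k
      have := congrArg Prod.snd hk'
      simpa using this
  obtain ⟨q₁, hq₁Q, hq₁2, hq₁1⟩ : ∃ q ∈ (Q : Subgroup (A4 × A4)), q.2 = 1 ∧ q ≠ 1 := by
    by_contra hc
    push Not at hc
    have hinj : Function.Injective
        ((MonoidHom.snd A4 A4).comp (Q : Subgroup (A4 × A4)).subtype) := by
      rw [injective_iff_map_eq_one]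
      intro q hq
      exact Subtype.ext (hc q.1 q.2 hq)
    have := Subgroup.card_dvd_of_injective _ hinj
    rw [card_A4] at this
    have h912 : 9 ∣ 12 := dvd_trans (by simpa using h9) this
    omega
  obtain ⟨q₂, hq₂Q, hq₂2, hq₂1⟩ : ∃ q ∈ (Q : Subgroup (A4 × A4)), q.1 = 1 ∧ q ≠ 1 := by
    by_contra hc
    push Not at hc
    have hinj : Function.Injective
        ((MonoidHom.fst A4 A4).comp (Q : Subgroup (A4 × A4)).subtype) := by
      rw [injective_iff_map_eq_one]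
      intro q hq
      exact Subtype.ext (hc q.1 q.2 hq)
    have := Subgroup.card_dvd_of_injective _ hinj
    rw [card_A4] at this
    have h912 : 9 ∣ 12 := dvd_trans (by simpa using h9) this
    omega
  have ha1 : q₁.1 ≠ 1 := fun h => hq₁1 (Prod.ext h hq₁2)
  have hb1 : q₂.2 ≠ 1 := fun h => hq₂1 (Prod.ext hq₂2 h)
  have ha3 := (hQcube q₁ hq₁Q).1
  have hb3 := (hQcube q₂ hq₂Q).2
  have hbb1 : q₂.2 * q₂.2 ≠ 1 := by
    intro h
    rw [h, one_mul] at hb3
    exact hb1 hb3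
  -- the general conclusion for r = (a, b')
  have concl : ∀ r ∈ (Q : Subgroup (A4 × A4)), r.1 = q₁.1 → r.2 ≠ 1 → r.2 * r.2 * r.2 = 1 →
      NormP r.1 r.2 x.1 x.2 y.1 y.2 → False := by
    intro r hrQ hr1 hr2 hr3 hN
    have hra : r.1 ≠ 1 := by rw [hr1]; exact ha1
    have hr13 : r.1 * r.1 * r.1 = 1 := by rw [hr1]; exact ha3
    have hrne : r ≠ 1 := fun h => hra (by rw [h]; rfl)
    have hrpow : r ^ 3 = 1 := by
      rw [pow_three, ← mul_assoc]
      exact Prod.ext hr13 hr3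
    have hord : orderOf r = 3 := orderOf_eq_prime hrpow hrne
    apply h3 (Subgroup.zpowers r)
    · exact Subgroup.zpowers_le.2 hrQ
    · rw [Nat.card_zpowers, hord]
    · intro h
      have hmem : r ∈ (Q : Subgroup (A4 × A4)) ⊓ Subgroup.prod ⊤ ⊥ := by
        rw [← h]; exact Subgroup.mem_zpowers r
      have := (Subgroup.mem_prod.1 (Subgroup.mem_inf.1 hmem).2).2
      exact hr2 (Subgroup.mem_bot.1 this)
    · intro h
      have hmem : r ∈ (Q : Subgroup (A4 × A4)) ⊓ Subgroup.prod ⊥ ⊤ := by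
        rw [← h]; exact Subgroup.mem_zpowers r
      have := (Subgroup.mem_prod.1 (Subgroup.mem_inf.1 hmem).2).1
      exact hra (Subgroup.mem_bot.1 this)
    · rw [Subgroup.zpowers_le]
      apply Subgroup.mem_normalizer_fintype
      have hcx : r * x * r⁻¹ ∈ B := by
        rcases hN.1 with h | h | h
        · have : r * x * r⁻¹ = x := Prod.ext h.1 h.2
          rw [this]; exact hxB
        · have : r * x * r⁻¹ = y := Prod.ext h.1 h.2
          rw [this]; exact hyB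
        · have : r * x * r⁻¹ = x * y := Prod.ext h.1 h.2
          rw [this]; exact hxyB
      have hcy : r * y * r⁻¹ ∈ B := by
        rcases hN.2 with h | h | h
        · have : r * y * r⁻¹ = x := Prod.ext h.1 h.2
          rw [this]; exact hxB
        · have : r * y * r⁻¹ = y := Prod.ext h.1 h.2
          rw [this]; exact hyB
        · have : r * y * r⁻¹ = x * y := Prod.ext h.1 h.2
          rw [this]; exact hxyB
      intro n hn
      rcases hBset n hn with rfl | rfl | rfl | rfl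
      · rw [mul_one, mul_inv_cancel]; exact B.one_mem
      · exact hcx
      · exact hcy
      · have : r * (x * y) * r⁻¹ = (r * x * r⁻¹) * (r * y * r⁻¹) := by group
        rw [this]; exact B.mul_mem hcx hcy
  have hkey := key q₁.1 ha1 ha3 q₂.2 hb1 hb3 x.1 hv1 hxsq.1 x.2 hw1 hxsq.2 y.1 hv2 hysq.1 hvv
    y.2 hw2 hysq.2 hww
  rcases hkey with hN | hN
  · apply concl (q₁ * q₂) (Subgroup.mul_mem _ hq₁Q hq₂Q)
    · rw [Prod.fst_mul, hq₂2, mul_one]
    · rw [Prod.snd_mul, hq₁2, one_mul]; exact hb1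
    · rw [Prod.snd_mul, hq₁2, one_mul]; exact hb3
    · rw [Prod.fst_mul, Prod.snd_mul, hq₂2, hq₁2, mul_one, one_mul]; exact hN
  · apply concl (q₁ * (q₂ * q₂)) (Subgroup.mul_mem _ hq₁Q (Subgroup.mul_mem _ hq₂Q hq₂Q))
    · rw [Prod.fst_mul, Prod.fst_mul, hq₂2, mul_one, mul_one]
    · rw [Prod.snd_mul, Prod.snd_mul, hq₁2, one_mul]; exact hbb1
    · rw [Prod.snd_mul, Prod.snd_mul, hq₁2, one_mul]
      have : q₂.2 * q₂.2 * (q₂.2 * q₂.2) * (q₂.2 * q₂.2)
          = (q₂.2 * q₂.2 * q₂.2) * (q₂.2 * q₂.2 * q₂.2) := by group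
      rw [this, hb3, one_mul]
    · rw [Prod.fst_mul, Prod.fst_mul, Prod.snd_mul, Prod.snd_mul, hq₂2, hq₁2, mul_one, mul_one,
        one_mul]; exact hN

/-- In the direct product P = A₄ × A₄, let X be the Sylow 2-subgroup, X₁ and X₂ its intersections with the two direct factors, Q a Sylow 3-subgroup and Q₁, Q₂ its intersections with the two factors. Then every subgroup B of X of order 4 either meets X₁ or X₂ nontrivially, or is normalized by one of the two subgroups of Q of order 3 other than Q₁ and Q₂. -/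
theorem result
    (X : Sylow 2 (↥(alternatingGroup (Fin 4)) × ↥(alternatingGroup (Fin 4))))
    (Q : Sylow 3 (↥(alternatingGroup (Fin 4)) × ↥(alternatingGroup (Fin 4))))
    (B : Subgroup (↥(alternatingGroup (Fin 4)) × ↥(alternatingGroup (Fin 4)))) (hBX : B ≤ (X : Subgroup _)) (hB4 : Nat.card ↥B = 4) :
    B ⊓ ((X : Subgroup _) ⊓ Subgroup.prod ⊤ ⊥) ≠ ⊥ ∨ B ⊓ ((X : Subgroup _) ⊓ Subgroup.prod ⊥ ⊤) ≠ ⊥ ∨
      ∃ R : Subgroup (↥(alternatingGroup (Fin 4)) × ↥(alternatingGroup (Fin 4))), R ≤ (Q : Subgroup _) ∧ Nat.card ↥R = 3 ∧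
        R ≠ (Q : Subgroup _) ⊓ Subgroup.prod ⊤ ⊥ ∧ R ≠ (Q : Subgroup _) ⊓ Subgroup.prod ⊥ ⊤ ∧ R ≤ Subgroup.normalizer (B : Set _) := by
  exact main X Q B hBX hB4

end Cfsg.Agent.S4406
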