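import Mathlib
import Cfsg.Statements.S4408
import Cfsg.Agent.Lib.Helper10.FaithfulSolvable
import Cfsg.Agent.Lib.Helper10.DihedralAbelian

set_option autoImplicit false
open Cfsg

namespace Cfsg.Agent.S4408

theorem eq_one_of_mul_self_of_odd_order {G : Type*} [Group G] (z : G) (hodd : Odd (orderOf z))
    (h : z * z = 1) : z = 1 := by
  have h1 : orderOf z ∣ 2 := orderOf_dvd_of_pow_eq_one (by rw [pow_two]; exact h)
  rcases (Nat.dvd_prime Nat.prime_two).mp h1 with h2 | h2
  · exact orderOf_eq_one_iff.mp h2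
  · rw [h2] at hodd
    exact absurd hodd (by decide)

theorem eq_one_of_conj_eq_inv_of_commute {G : Type*} [Group G] (g z : G) (hodd : Odd (orderOf z))
    (h1 : g * z * g⁻¹ = z⁻¹) (h2 : g * z = z * g) : z = 1 := by
  apply eq_one_of_mul_self_of_odd_order z hodd
  have : z = z⁻¹ := by
    rw [← h1, h2]; group
  calc z * z = z⁻¹ * z := by rw [← this]
    _ = 1 := inv_mul_cancel z

theorem card_iSup_of_inverting {G : Type*} [Group G] [Finite G] {n : ℕ} (a y : Fin n → G)
    (hyc : ∀ i j, y i * y j = y j * y i)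
    (hinv : ∀ i, a i * y i * (a i)⁻¹ = (y i)⁻¹)
    (hcen : ∀ i j, i ≠ j → a j * y i = y i * a j)
    (hodd : ∀ i, Odd (orderOf (y i))) :
    Nat.card ↥(⨆ i, Subgroup.zpowers (y i)) = ∏ i, Nat.card ↥(Subgroup.zpowers (y i)) := by
  classical
  have hcomm : Pairwise fun i j : Fin n => ∀ u v : G, u ∈ Subgroup.zpowers (y i) →
      v ∈ Subgroup.zpowers (y j) → Commute u v := by
    intro i j _ u v hu hv
    obtain ⟨k, rfl⟩ := hu
    obtain ⟨l, rfl⟩ := hv
    exact Commute.zpow_zpow (hyc i j) k l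
  have hind : iSupIndep (fun i => Subgroup.zpowers (y i)) := by
    intro j
    rw [Subgroup.disjoint_def]
    intro z hz1 hz2
    have hzodd : Odd (orderOf z) := Odd.of_dvd_nat (hodd j) (orderOf_dvd_of_mem_zpowers hz1)
    have hz3 : a j * z * (a j)⁻¹ = z⁻¹ := by
      obtain ⟨k, rfl⟩ := hz1
      show a j * y j ^ k * (a j)⁻¹ = (y j ^ k)⁻¹
      rw [← conj_zpow, hinv j, inv_zpow]
    have hle : (⨆ i, ⨆ (_ : i ≠ j), Subgroup.zpowers (y i)) ≤ Subgroup.centralizer ({a j} : Set G) := by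
      refine iSup_le fun i => iSup_le fun hij => ?_
      rw [Subgroup.zpowers_le, Subgroup.mem_centralizer_iff]
      intro h hh
      rw [Set.mem_singleton_iff] at hh
      rw [hh]
      exact hcen i j hij
    have hz4 := hle hz2
    rw [Subgroup.mem_centralizer_iff] at hz4
    exact eq_one_of_conj_eq_inv_of_commute (a j) z hzodd hz3 (hz4 (a j) rfl)
  have hinj := Subgroup.injective_noncommPiCoprod_of_iSupIndep (hcomm := hcomm) hind
  have hrange := Subgroup.noncommPiCoprod_range (hcomm := hcomm)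
  rw [← hrange, ← Nat.card_pi]
  exact (Nat.card_congr (MonoidHom.ofInjective hinj).toEquiv).symm

theorem mem_normalizer_zpowers {G : Type*} [Group G] (g y : G)
    (h1 : g * y * g⁻¹ ∈ Subgroup.zpowers y) (h2 : g⁻¹ * y * g ∈ Subgroup.zpowers y) :
    g ∈ Subgroup.normalizer ((Subgroup.zpowers y : Subgroup G) : Set G) := by
  rw [Subgroup.mem_normalizer_iff]
  intro h
  constructor
  · rintro ⟨k, rfl⟩
    show g * y ^ k * g⁻¹ ∈ Subgroup.zpowers y
    rw [← conj_zpow]
    exact Subgroup.zpow_mem _ h1 k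
  · intro hh
    obtain ⟨k, hk⟩ := hh
    have hk : y ^ k = g * h * g⁻¹ := hk
    have : h = (g⁻¹ * y * g) ^ k := by
      have e : (g⁻¹ * y * g) = g⁻¹ * y * g⁻¹⁻¹ := by rw [inv_inv]
      rw [e, conj_zpow, hk]; group
    rw [this]
    exact Subgroup.zpow_mem _ h2 k


/-- Let S be a finite solvable group whose Fitting subgroup F(S) has odd order, and let I be an elementary abelian 2-subgroup of S of order 2ⁿ with n ≥ 1. Then F(S) contains subgroups A₁, …, Aₙ of prime order, each normalized by I, pairwise commuting and generating a subgroup A of order |A₁|⋯|Aₙ| (their internal direct product), such that no non-identity element of I centralizes A. -/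
theorem result {S : Type*} [Group S] [Finite S]
    [Group.IsSolvable S] (hF : Odd (Nat.card ↥(Cfsg.fittingSubgroup S)))
    (I : Subgroup S) (hI : Cfsg.IsElementaryAbelian 2 I) (n : ℕ) (hn : 1 ≤ n) (hIn : Nat.card ↥I = 2 ^ n) :
    ∃ f : Fin n → Subgroup S, (∀ i, (Nat.card ↥(f i)).Prime) ∧ (∀ i, f i ≤ Cfsg.fittingSubgroup S) ∧
      (∀ i, I ≤ Subgroup.normalizer ((f i) : Set S)) ∧ (∀ i j, i ≠ j → ∀ a ∈ f i, ∀ b ∈ f j, a * b = b * a) ∧
      Nat.card ↥(⨆ i, f i) = ∏ i, Nat.card ↥(f i) ∧ I ⊓ Subgroup.centralizer ((⨆ i, f i : Subgroup S) : Set S) = ⊥ := by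
  classical
  obtain ⟨hIcomm, hI2'⟩ := hI
  have hI2 : ∀ a ∈ I, a * a = 1 := fun a ha => by rw [← pow_two]; exact hI2' a ha
  have hIc : ∀ a ∈ I, ∀ b ∈ I, a * b = b * a := by
    intro a ha b hb
    have := hIcomm.is_comm.comm ⟨a, ha⟩ ⟨b, hb⟩
    exact congrArg Subtype.val this
  set F : Subgroup S := Cfsg.fittingSubgroup S with hFdef
  haveI hFn : F.Normal := Cfsg.Agent.Lib.Helper2.fittingSubgroup_normal
  haveI hFnil : Group.IsNilpotent ↥F := Cfsg.Agent.Lib.Helper2.fittingSubgroup_isNilpotent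
  have hIF : I ≤ Subgroup.normalizer (F : Set S) := by
    rw [Subgroup.normalizer_eq_top]; exact le_top
  obtain ⟨V, hVF, hVc, hIV, hcen⟩ :=
    Cfsg.Agent.Lib.Helper10.exists_abelian_centralizer_le F I hF hI2 hIc hIF
  have hCF : Subgroup.centralizer (F : Set S) ≤ F :=
    Cfsg.Agent.Lib.Helper20.centralizer_fitting_le_iff_layer_eq_bot.mpr
      (Cfsg.Agent.Lib.Helper20.layer_eq_bot_of_isSolvable inferInstance)
  have hcop : (Nat.card I).Coprime (Nat.card F) :=
    Cfsg.Agent.Lib.Helper10.coprime_card_of_involutions I hI2 _ hF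
  have hIFbot : I ⊓ F = ⊥ := Subgroup.inf_eq_bot_of_coprime hcop
  have hfaith : I ⊓ Subgroup.centralizer (V : Set S) = ⊥ := by
    rw [eq_bot_iff, ← hIFbot]
    exact le_inf inf_le_left (hcen.trans hCF)
  have hVodd : Odd (Nat.card V) := Odd.of_dvd_nat hF (Subgroup.card_dvd_of_le hVF)
  let T : Finset S := (Set.toFinite (I : Set S)).toFinset
  have hT : ∀ t, t ∈ T ↔ t ∈ I := by
    intro t
    simp [T]
  obtain ⟨a, x, haI, hxV, hx1, hinv, hcomm, heig, -, hlast⟩ :=
    Cfsg.Agent.Lib.Helper10.abelian_dihedral n I V T hVc hVodd hIc hI2 hIn hIV hfaith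
      (fun t ht => hI2 t ((hT t).mp ht)) (fun t ht => hIV ((hT t).mp ht))
      (fun s hs t ht => hIc s ((hT s).mp hs) t ((hT t).mp ht))
      (fun t ht b hb => hIc t ((hT t).mp ht) b hb)
  have hxodd : ∀ i, Odd (orderOf (x i)) := fun i =>
    Odd.of_dvd_nat hVodd (Subgroup.orderOf_dvd_natCard V (hxV i))
  have hq : ∀ i, ∃ q : ℕ, q.Prime ∧ q ∣ orderOf (x i) := fun i =>
    Nat.exists_prime_and_dvd (fun h => hx1 i (orderOf_eq_one_iff.mp h))
  choose q hqp hqd using hq
  set y : Fin n → S := fun i => x i ^ (orderOf (x i) / q i) with hy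
  have hyo : ∀ i, orderOf (y i) = q i := fun i =>
    orderOf_pow_orderOf_div (orderOf_pos (x i)).ne' (hqd i)
  have hyodd : ∀ i, Odd (orderOf (y i)) := fun i => by
    rw [hyo i]; exact Odd.of_dvd_nat (hxodd i) (hqd i)
  have hyV : ∀ i, y i ∈ V := fun i => Subgroup.pow_mem V (hxV i) _
  have hy1 : ∀ i, y i ≠ 1 := fun i h => by
    have := hyo i
    rw [h, orderOf_one] at this
    exact (hqp i).one_lt.ne this
  have hyinv : ∀ i, a i * y i * (a i)⁻¹ = (y i)⁻¹ := fun i => by
    show a i * x i ^ (orderOf (x i) / q i) * (a i)⁻¹ = (x i ^ (orderOf (x i) / q i))⁻¹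
    rw [← conj_pow, hinv i, inv_pow]
  have hycen : ∀ i j, i ≠ j → a j * y i = y i * a j := fun i j hij => by
    have : Commute (a j) (x i) := hcomm i j hij
    exact this.pow_right _
  have hyeig : ∀ i, ∀ t ∈ I, t * y i * t⁻¹ = y i ∨ t * y i * t⁻¹ = (y i)⁻¹ := by
    intro i t ht
    rcases heig i t ((hT t).mpr ht) with h | h
    · left
      show t * x i ^ (orderOf (x i) / q i) * t⁻¹ = x i ^ (orderOf (x i) / q i)
      rw [← conj_pow, h]
    · right
      show t * x i ^ (orderOf (x i) / q i) * t⁻¹ = (x i ^ (orderOf (x i) / q i))⁻¹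
      rw [← conj_pow, h, inv_pow]
  have hyeig' : ∀ i, ∀ t ∈ I, t * y i * t⁻¹ ∈ Subgroup.zpowers (y i) := by
    intro i t ht
    rcases hyeig i t ht with h | h
    · rw [h]; exact Subgroup.mem_zpowers _
    · rw [h]; exact Subgroup.inv_mem _ (Subgroup.mem_zpowers _)
  refine ⟨fun i => Subgroup.zpowers (y i), ?_, ?_, ?_, ?_, ?_, ?_⟩
  · intro i
    show (Nat.card ↥(Subgroup.zpowers (y i))).Prime
    rw [Nat.card_zpowers, hyo i]
    exact hqp i
  · intro i
    exact Subgroup.zpowers_le.mpr (hVF (hyV i))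
  · intro i t ht
    apply mem_normalizer_zpowers t (y i) (hyeig' i t ht)
    have := hyeig' i t⁻¹ (I.inv_mem ht)
    rwa [inv_inv] at this
  · intro i j _ u hu v hv
    obtain ⟨k, rfl⟩ := hu
    obtain ⟨l, rfl⟩ := hv
    have : Commute (y i) (y j) := hVc _ (hyV i) _ (hyV j)
    exact this.zpow_zpow k l
  · exact card_iSup_of_inverting a y (fun i j => hVc _ (hyV i) _ (hyV j)) hyinv hycen hyodd
  · rw [eq_bot_iff]
    rintro g ⟨hgI, hgC⟩
    rw [Subgroup.mem_bot]
    by_contra hg1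
    obtain ⟨i, hi⟩ := hlast g hgI hg1
    have hgC' : g ∈ Subgroup.centralizer ((⨆ i, Subgroup.zpowers (y i) : Subgroup S) : Set S) := hgC
    rw [Subgroup.mem_centralizer_iff] at hgC'
    have h1 : y i * g = g * y i :=
      hgC' (y i) ((le_iSup (fun i => Subgroup.zpowers (y i)) i) (Subgroup.mem_zpowers _))
    have h2 : g * y i * g⁻¹ = (y i)⁻¹ := by
      show g * x i ^ (orderOf (x i) / q i) * g⁻¹ = (x i ^ (orderOf (x i) / q i))⁻¹
      rw [← conj_pow, hi, inv_pow]
    exact hy1 i (eq_one_of_conj_eq_inv_of_commute g (y i) (hyodd i) h2 h1.symm)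

end Cfsg.Agent.S4408
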