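import Cfsg.Statements.S4410
import Mathlib
import Cfsg.Agent.Lib.Helper22.TransvSolv

set_option autoImplicit false
open Cfsg

namespace Cfsg.Agent.S4410

/-- Let V be a finite-dimensional vector space over the field with two elements and S a solvable group of linear automorphisms of V with O₂(S) = 1. If P ∈ S has order 4 and (P − 1)³ = 0 on V, then the image of (P − 1)² has at least 4 elements; equivalently, in the decomposition of V into indecomposable modules for the cyclic group generated by P, at least two summands have dimension 3. -/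
theorem result
    {V : Type*} [AddCommGroup V] [Module (ZMod 2) V] [Finite V]
    (S : Subgroup (V ≃ₗ[ZMod 2] V)) (hS : Group.IsSolvable ↥S) (hO2 : Cfsg.pCore 2 ↥S = ⊥)
    (P : V ≃ₗ[ZMod 2] V) (hPS : P ∈ S) (hP4 : orderOf P = 4)
    (hcub : ((P : V →ₗ[ZMod 2] V) - LinearMap.id) ^ 3 = 0) :
    4 ≤ Nat.card ↥(LinearMap.range (((P : V →ₗ[ZMod 2] V) - LinearMap.id) ^ 2)) := by
  classical
  by_contra hlt
  push Not at hlt
  haveI : Finite (V ≃ₗ[ZMod 2] V) :=
    Finite.of_injective (fun f => (f : V → V)) DFunLike.coe_injective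
  haveI : Finite ↥S := inferInstance
  haveI := hS
  have h2 : ∀ v : V, v + v = 0 := by
    intro v
    have : (2 : ZMod 2) • v = 0 := by rw [show (2 : ZMod 2) = 0 from rfl, zero_smul]
    rwa [two_smul] at this
  have hf : ∀ g : ↥S, (∀ v : V, g • v = v) → g = 1 := by
    intro g hg
    apply Subtype.ext
    apply LinearEquiv.ext
    intro v
    exact hg v
  have hN : ∀ v, ((((P : V →ₗ[ZMod 2] V) - LinearMap.id) ^ 2 : V →ₗ[ZMod 2] V)) v
      = P (P v) + v := by
    intro v
    rw [pow_two, Module.End.mul_apply]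
    simp only [LinearMap.sub_apply, LinearMap.id_apply, LinearEquiv.coe_coe, map_sub]
    linear_combination (norm := module) -h2 (P v)
  have hP4' : P * P * (P * P) = 1 := by
    have h4 : P ^ 4 = 1 := by rw [← hP4]; exact pow_orderOf_eq_one P
    rw [← h4, show (4 : ℕ) = 2 + 2 from rfl, pow_add, pow_two]
  have hPP : P * P ≠ 1 := by
    intro h
    have hd : orderOf P ∣ 2 := orderOf_dvd_of_pow_eq_one (by rw [pow_two]; exact h)
    rw [hP4] at hd
    omega
  -- a nonzero element of the range
  have hex : ∃ v₀, P (P v₀) + v₀ ≠ 0 := by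
    by_contra hall
    push Not at hall
    apply hPP
    apply LinearEquiv.ext
    intro v
    show P (P v) = v
    have h := hall v
    linear_combination (norm := module) h - h2 v
  obtain ⟨v₀, hv₀⟩ := hex
  obtain ⟨c, hc⟩ : ∃ c, c = P (P v₀) + v₀ := ⟨_, rfl⟩
  rw [← hc] at hv₀
  have hcR : c ∈ LinearMap.range (((P : V →ₗ[ZMod 2] V) - LinearMap.id) ^ 2) :=
    ⟨v₀, by rw [hN, hc]⟩
  have htv : ∀ v, P (P v) + v = 0 ∨ P (P v) + v = c := by
    intro v
    by_contra hcon
    push Not at hcon
    obtain ⟨hx0, hxc⟩ := hcon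
    obtain ⟨x, hx⟩ : ∃ x, x = P (P v) + v := ⟨_, rfl⟩
    rw [← hx] at hx0 hxc
    have hxR : x ∈ LinearMap.range (((P : V →ₗ[ZMod 2] V) - LinearMap.id) ^ 2) :=
      ⟨v, by rw [hN, hx]⟩
    let g : (ZMod 2 × ZMod 2) →ₗ[ZMod 2] V :=
      (LinearMap.toSpanSingleton (ZMod 2) V c).coprod (LinearMap.toSpanSingleton (ZMod 2) V x)
    have hg : ∀ i j : ZMod 2, g (i, j) = i • c + j • x := by
      intro i j
      simp [g, LinearMap.coprod_apply, LinearMap.toSpanSingleton_apply]
    have hginj : Function.Injective g := by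
      rw [injective_iff_map_eq_zero]
      rintro ⟨i, j⟩ hij
      rw [hg] at hij
      have h01 : ∀ i : ZMod 2, i = 0 ∨ i = 1 := by decide
      rcases h01 i with rfl | rfl <;> rcases h01 j with rfl | rfl
      · rfl
      · exfalso; apply hx0; simpa using hij
      · exfalso; apply hv₀; simpa using hij
      · exfalso; apply hxc
        have h' : c + x = 0 := by simpa using hij
        linear_combination (norm := module) h' - h2 c
    have hmem : ∀ p, g p ∈ LinearMap.range (((P : V →ₗ[ZMod 2] V) - LinearMap.id) ^ 2) := by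
      rintro ⟨i, j⟩
      rw [hg]
      exact Submodule.add_mem _ (Submodule.smul_mem _ _ hcR) (Submodule.smul_mem _ _ hxR)
    have hle := Nat.card_le_card_of_injective
      (fun p => (⟨g p, hmem p⟩ :
        ↥(LinearMap.range (((P : V →ₗ[ZMod 2] V) - LinearMap.id) ^ 2))))
      (fun p q h => hginj (congrArg Subtype.val h))
    have h4 : Nat.card (ZMod 2 × ZMod 2) = 4 := by
      rw [Nat.card_prod, Nat.card_zmod]
    omega
  -- the transvection
  have hta : Cfsg.Agent.Lib.Helper22.Transv.IsTv
      ((⟨P, hPS⟩ : ↥S) * (⟨P, hPS⟩ : ↥S)) c := by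
    refine ⟨?_, hv₀, ?_⟩
    · apply Subtype.ext
      exact hP4'
    · intro v
      show P (P v) = v ∨ P (P v) = v + c
      rcases htv v with h | h
      · left
        linear_combination (norm := module) h - h2 v
      · right
        linear_combination (norm := module) h - h2 v
  have h1 := Cfsg.Agent.Lib.Helper22.TransvSolv.no_square_tv h2 hf hO2 (⟨P, hPS⟩ : ↥S) hta
  apply hPP
  exact congrArg Subtype.val h1

end Cfsg.Agent.S4410
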