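import Mathlib
import Cfsg.Statements.S4412
import Cfsg.Agent.Lib.Helper10.AutDihedral
import Cfsg.Agent.Lib.Helper10.BrauerWielandt
import Cfsg.Agent.Lib.Helper10.Eigen
import Cfsg.Agent.Lib.Helper17.OrbitIndex

set_option autoImplicit false
open Cfsg

namespace Cfsg.Agent.S4412

open Cfsg.Agent.Lib.Helper10 Cfsg.Agent.Lib.Helper10.BW

theorem cyclic_action {P : Type*} [Group P] [Finite P] (p : ℕ) (hp : p.Prime) (hp2 : p ≠ 2)
    (hP : IsPGroup p P) (T : MulAut P) (hT : T * T = 1) (g x : P)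
    (hTg : T g ∈ Subgroup.zpowers g) (hx : x ∈ Subgroup.zpowers g) (hx1 : x ≠ 1) :
    (T x = x⁻¹ → T g = g⁻¹) ∧ (T x = x → T g = g) := by
  obtain ⟨u, hu⟩ := Subgroup.mem_zpowers_iff.mp hTg
  obtain ⟨m, hm⟩ := Subgroup.mem_zpowers_iff.mp hx
  obtain ⟨e, he⟩ : ∃ e, orderOf g = p ^ e := by
    obtain ⟨k, hk⟩ := hP g
    obtain ⟨e, -, he⟩ := (Nat.dvd_prime_pow hp).mp (orderOf_dvd_of_pow_eq_one hk)
    exact ⟨e, he⟩
  have hpZ : Prime (p : ℤ) := Nat.prime_iff_prime_int.mp hp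
  have hdvd : ∀ i : ℤ, ((p : ℤ) ^ e ∣ i) ↔ g ^ i = 1 := by
    intro i
    rw [← orderOf_dvd_iff_zpow_eq_one, he]
    push_cast
    rfl
  have hnm : ¬ ((p : ℤ) ^ e ∣ m) := by
    intro h
    apply hx1
    rw [← hm]
    exact (hdvd m).mp h
  have hp2' : ¬ ((p : ℤ) ∣ 2) := by
    intro h
    have h2 : p ∣ 2 := by exact_mod_cast h
    exact hp2 ((Nat.prime_dvd_prime_iff_eq hp Nat.prime_two).mp h2)
  have hTpow : ∀ i : ℤ, T (g ^ i) = g ^ (u * i) := by
    intro i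
    rw [map_zpow, ← hu, ← zpow_mul]
  have hsq : (p : ℤ) ^ e ∣ (u - 1) * (u + 1) := by
    rw [hdvd]
    have h1 : T (T g) = g := by
      rw [← MulAut.mul_apply, hT, MulAut.one_apply]
    rw [← hu, hTpow] at h1
    have h2 : (u - 1) * (u + 1) = u * u - 1 := by ring
    rw [h2, zpow_sub, zpow_one, h1, mul_inv_cancel]
  constructor
  · intro hinv
    rw [← hm, hTpow, ← zpow_neg] at hinv
    have h1 : (p : ℤ) ^ e ∣ m * (u + 1) := by
      rw [hdvd]
      have : m * (u + 1) = u * m - (-m) := by ring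
      rw [this, zpow_sub, hinv, mul_inv_cancel]
    have h2 : (p : ℤ) ∣ u + 1 := by
      by_contra hcon
      exact hnm (hpZ.pow_dvd_of_dvd_mul_right e hcon h1)
    have h3 : ¬ ((p : ℤ) ∣ u - 1) := by
      intro h
      apply hp2'
      have := dvd_sub h2 h
      have e2 : u + 1 - (u - 1) = 2 := by ring
      rwa [e2] at this
    have h4 : (p : ℤ) ^ e ∣ u + 1 := by
      rw [mul_comm] at hsq
      exact hpZ.pow_dvd_of_dvd_mul_right e h3 hsq
    rw [hdvd, zpow_add, zpow_one, hu] at h4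
    exact eq_inv_of_mul_eq_one_left h4
  · intro hfix
    rw [← hm, hTpow] at hfix
    have h1 : (p : ℤ) ^ e ∣ m * (u - 1) := by
      rw [hdvd]
      have : m * (u - 1) = u * m - m := by ring
      rw [this, zpow_sub, hfix, mul_inv_cancel]
    have h2 : (p : ℤ) ∣ u - 1 := by
      by_contra hcon
      exact hnm (hpZ.pow_dvd_of_dvd_mul_right e hcon h1)
    have h3 : ¬ ((p : ℤ) ∣ u + 1) := by
      intro h
      apply hp2'
      have := dvd_sub h h2
      have e2 : u + 1 - (u - 1) = 2 := by ring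
      rwa [e2] at this
    have h4 : (p : ℤ) ^ e ∣ u - 1 := hpZ.pow_dvd_of_dvd_mul_right e h3 hsq
    rw [hdvd, zpow_sub, zpow_one, hu] at h4
    exact mul_inv_eq_one.mp h4

theorem comm_apply {P : Type*} [Group P] (S T : MulAut P) (h : S * T = T * S) (x : P) :
    S (T x) = T (S x) := by
  rw [← MulAut.mul_apply, h, MulAut.mul_apply]

/-- If `C_P(v) = ⟨g⟩` and the involution `T` commutes with `v`, then `T` inverts or centralizes
`C_P(v)` according to its action on one nontrivial fixed point `y`. -/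
theorem cyclic_fix_action {P : Type*} [Group P] [Finite P] (p : ℕ) (hp : p.Prime) (hp2 : p ≠ 2)
    (hP : IsPGroup p P) (v T : MulAut P) (hvT : v * T = T * v) (hT : T * T = 1) (g : P)
    (hg : ∀ x : P, (v x = x ↔ x ∈ Subgroup.zpowers g)) (y : P) (hvy : v y = y) (hy1 : y ≠ 1) :
    (T y = y⁻¹ → ∀ x, v x = x → T x = x⁻¹) ∧ (T y = y → ∀ x, v x = x → T x = x) := by
  have hgfix : v g = g := (hg g).mpr (Subgroup.mem_zpowers g)
  have hTg : T g ∈ Subgroup.zpowers g := by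
    rw [← hg, comm_apply v T hvT, hgfix]
  have hy : y ∈ Subgroup.zpowers g := (hg y).mp hvy
  obtain ⟨h1, h2⟩ := cyclic_action p hp hp2 hP T hT g y hTg hy hy1
  constructor
  · intro hTy x hx
    obtain ⟨m, rfl⟩ := Subgroup.mem_zpowers_iff.mp ((hg x).mp hx)
    rw [map_zpow, h1 hTy, inv_zpow]
  · intro hTy x hx
    obtain ⟨m, rfl⟩ := Subgroup.mem_zpowers_iff.mp ((hg x).mp hx)
    rw [map_zpow, h2 hTy]

theorem noncyclic_fix {P : Type*} [Group P] [Finite P] (p : ℕ) (hp : p.Prime) (hp2 : p ≠ 2)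
    (hP : IsPGroup p P) (hodd : Odd (Nat.card P)) (S T : MulAut P) (hST : S * T = T * S)
    (hT : T * T = 1) (y z : P) (hy1 : y ≠ 1) (hz1 : z ≠ 1) (hSy : S y = y) (hSz : S z = z)
    (hTy : T y = y⁻¹) (hTz : T z = z) :
    ¬ ∃ g : P, ∀ x : P, (S x = x ↔ x ∈ Subgroup.zpowers g) := by
  rintro ⟨g, hg⟩
  have hgfix : S g = g := (hg g).mpr (Subgroup.mem_zpowers g)
  obtain ⟨h1, -⟩ := cyclic_fix_action p hp hp2 hP S T hST hT g hg y hSy hy1
  obtain ⟨-, h2⟩ := cyclic_fix_action p hp hp2 hP S T hST hT g hg z hSz hz1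
  have h3 := h1 hTy y hSy
  have h4 := h2 hTz y hSy
  have h5 : y * y = 1 := by
    have : y⁻¹ = y := by rw [← h3, h4]
    calc y * y = y⁻¹ * y := by rw [this]
      _ = 1 := inv_mul_cancel y
  exact hy1 (eq_one_of_mul_self_of_odd hodd y h5)

/-- Brauer–Wielandt for a four-group of automorphisms of a `p`-group, `p` odd. -/
theorem bw2 {P : Type*} [Group P] [Finite P] (p : ℕ) [Fact p.Prime] (hP : IsPGroup p P)
    (hodd : Odd (Nat.card P)) (σ τ : MulAut P) (hσ : σ * σ = 1) (hτ : τ * τ = 1)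
    (hc : σ * τ = τ * σ) :
    Nat.card P * Nat.card (Fx σ τ) ^ 2 =
      Nat.card (Fx τ τ) * (Nat.card (Fx σ σ) * Nat.card (Fx (σ * τ) (σ * τ))) := by
  have h := bw_abs 2 p (Nat.card P) P rfl hP (Nat.coprime_two_right.mpr hodd) σ τ
    (by rw [pow_two]; exact hσ) (by rw [pow_two]; exact hτ) hc
  unfold BWeq at h
  rw [Finset.prod_range_succ, Finset.prod_range_succ, Finset.prod_range_zero, one_mul,
    pow_zero, mul_one, pow_one] at h
  exact h

theorem inv_ne_self_of_odd {P : Type*} [Group P] [Finite P] (hodd : Odd (Nat.card P)) (y : P)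
    (hy : y ≠ 1) : y⁻¹ ≠ y := by
  intro h
  apply hy
  apply eq_one_of_mul_self_of_odd hodd
  calc y * y = y⁻¹ * y := by rw [h]
    _ = 1 := inv_mul_cancel y

theorem arith_bw (n c0 c1 c2 f0 f1 f2 F : ℕ) (hn : 0 < n) (h0 : 0 < c0) (h1 : 0 < c1)
    (h2 : 0 < c2)
    (E1 : n * c2 ^ 2 = f1 * (f0 * c2)) (E2 : n * c1 ^ 2 = f2 * (f0 * c1))
    (E3 : n * c0 ^ 2 = f2 * (f1 * c0)) (E4 : n = c1 * (c0 * c2)) (E5 : n = c0 * (F * f0)) :
    F = 1 ∧ n = f0 * c0 := by
  have e1 : n * c2 = f0 * f1 := by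
    apply Nat.eq_of_mul_eq_mul_right h2
    calc n * c2 * c2 = n * c2 ^ 2 := by ring
      _ = f1 * (f0 * c2) := E1
      _ = f0 * f1 * c2 := by ring
  have e2 : n * c1 = f0 * f2 := by
    apply Nat.eq_of_mul_eq_mul_right h1
    calc n * c1 * c1 = n * c1 ^ 2 := by ring
      _ = f2 * (f0 * c1) := E2
      _ = f0 * f2 * c1 := by ring
  have e3 : n * c0 = f1 * f2 := by
    apply Nat.eq_of_mul_eq_mul_right h0
    calc n * c0 * c0 = n * c0 ^ 2 := by ring
      _ = f2 * (f1 * c0) := E3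
      _ = f1 * f2 * c0 := by ring
  have hsq : (f0 * f1 * f2) ^ 2 = (n ^ 2) ^ 2 := by
    calc (f0 * f1 * f2) ^ 2 = (f0 * f1) * (f0 * f2) * (f1 * f2) := by ring
      _ = (n * c2) * (n * c1) * (n * c0) := by rw [e1, e2, e3]
      _ = n ^ 3 * (c1 * (c0 * c2)) := by ring
      _ = n ^ 3 * n := by rw [← E4]
      _ = (n ^ 2) ^ 2 := by ring
  have h : f0 * f1 * f2 = n ^ 2 := Nat.pow_left_injective (by norm_num : (2 : ℕ) ≠ 0) hsq
  have h3 : n = f0 * c0 := by
    apply Nat.eq_of_mul_eq_mul_left hn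
    calc n * n = n ^ 2 := by ring
      _ = f0 * f1 * f2 := h.symm
      _ = f0 * (f1 * f2) := by ring
      _ = f0 * (n * c0) := by rw [e3]
      _ = n * (f0 * c0) := by ring
  refine ⟨?_, h3⟩
  apply Nat.eq_of_mul_eq_mul_right hn
  calc F * n = F * (f0 * c0) := by rw [← h3]
    _ = c0 * (F * f0) := by ring
    _ = n := E5.symm
    _ = 1 * n := (one_mul n).symm

theorem exists_orderOf_eq_prime {P : Type*} [Group P] (p : ℕ) (hp : p.Prime) (hP : IsPGroup p P)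
    (g : P) (hg : g ≠ 1) : ∃ z ∈ Subgroup.zpowers g, orderOf z = p := by
  obtain ⟨k, hk⟩ := hP g
  obtain ⟨e, -, he⟩ := (Nat.dvd_prime_pow hp).mp (orderOf_dvd_of_pow_eq_one hk)
  have he0 : e ≠ 0 := by
    intro h
    rw [h, pow_zero] at he
    exact hg (orderOf_eq_one_iff.mp he)
  have hdvd : p ∣ orderOf g := by rw [he]; exact dvd_pow_self p he0
  have hpos : orderOf g ≠ 0 := by rw [he]; exact (pow_pos hp.pos e).ne'
  exact ⟨g ^ (orderOf g / p), Subgroup.pow_mem _ (Subgroup.mem_zpowers g) _,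
    orderOf_pow_orderOf_div hpos hdvd⟩

/-- An abelian group generated by two elements has at most `p ^ 2` elements of order dividing
`p`. -/
theorem card_ker_pow_le {P : Type*} [Group P] [Finite P] (p : ℕ) (hp : p.Prime)
    (hcomm : ∀ a b : P, a * b = b * a) (a b : P) (hab : Subgroup.closure {a, b} = ⊤)
    (Ω : Subgroup P) (hΩ : ∀ x ∈ Ω, x ^ p = 1) : Nat.card Ω ≤ p * p := by
  classical
  let f : P →* P := MonoidHom.mk' (fun x => x ^ p)
    (fun x y => (show Commute x y from hcomm x y).mul_pow p)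
  have hf : ∀ x, f x = x ^ p := fun _ => rfl
  have hΩker : Ω ≤ f.ker := fun x hx => by
    rw [MonoidHom.mem_ker, hf]; exact hΩ x hx
  have h1 : Nat.card f.ker * Nat.card f.range = Nat.card P := by
    rw [← Subgroup.index_ker, Subgroup.card_mul_index]
  -- surjection
  let s : (Fin p × Fin p) × ↥f.range → P := fun t => a ^ (t.1.1 : ℕ) * b ^ (t.1.2 : ℕ) * t.2
  have hs : Function.Surjective s := by
    intro x
    have hx : x ∈ Subgroup.closure {a, b} := by rw [hab]; exact Subgroup.mem_top x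
    letI : CommGroup P := { (inferInstance : Group P) with mul_comm := hcomm }
    obtain ⟨m, n, hmn⟩ := Subgroup.mem_closure_pair.mp hx
    have hp0 : (0 : ℤ) < p := by exact_mod_cast hp.pos
    have hm0 : 0 ≤ m % p := Int.emod_nonneg m hp0.ne'
    have hn0 : 0 ≤ n % p := Int.emod_nonneg n hp0.ne'
    have hm1 : m % p < p := Int.emod_lt_of_pos m hp0
    have hn1 : n % p < p := Int.emod_lt_of_pos n hp0
    have hsplit : ∀ (c : P) (k : ℤ), c ^ k = c ^ (k % p).toNat * (c ^ (k / p)) ^ p := by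
      intro c k
      have h0 : 0 ≤ k % p := Int.emod_nonneg k hp0.ne'
      conv_lhs => rw [← Int.emod_add_mul_ediv k p]
      rw [zpow_add, zpow_mul', zpow_natCast, ← zpow_natCast c (k % p).toNat,
        Int.toNat_of_nonneg h0]
    refine ⟨((⟨(m % p).toNat, by omega⟩, ⟨(n % p).toNat, by omega⟩),
      ⟨f (a ^ (m / p) * b ^ (n / p)), ⟨_, rfl⟩⟩), ?_⟩
    show a ^ (m % p).toNat * b ^ (n % p).toNat * f (a ^ (m / p) * b ^ (n / p)) = x
    rw [← hmn, hf, hsplit a m, hsplit b n, mul_pow]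
    simp only [mul_comm, mul_left_comm, mul_assoc]
  have h2 : Nat.card P ≤ p * p * Nat.card f.range := by
    have := Nat.card_le_card_of_surjective s hs
    rw [Nat.card_prod, Nat.card_prod, Nat.card_fin] at this
    exact this
  have h3 : Nat.card f.ker ≤ p * p := by
    have hpos : 0 < Nat.card f.range := Nat.card_pos
    apply Nat.le_of_mul_le_mul_right _ hpos
    rw [h1]
    exact h2
  exact (Subgroup.card_le_of_le hΩker).trans h3


/-- Let p be an odd prime, P a finite p-group and I an elementary abelian subgroup of order 8 of Aut(P). Call T ∈ I, T ≠ 1, broad when its fixed-point subgroup C_P(T) is not cyclic. Suppose I has a proper subgroup I₀ containing no broad element such that the product of any two broad elements lies in I₀. Then P is abelian of rank exactly 3 (generated by three elements but not by two), there are exactly three broad elements and they generate I, and I₀ is exactly the set of products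 of two broad elements. -/
theorem result
    {P : Type*} [Group P] [Finite P] (p : ℕ) (hp : p.Prime) (hp2 : p ≠ 2) (hP : IsPGroup p P)
    (I : Subgroup (MulAut P)) (hI : Cfsg.IsElementaryAbelian 2 I) (hI8 : Nat.card ↥I = 8)
    (I₀ : Subgroup (MulAut P)) (hI₀ : I₀ < I)
    (hdisj : ∀ T ∈ I₀, T ≠ 1 → ∃ g : P, ∀ x : P, (T x = x ↔ x ∈ Subgroup.zpowers g))
    (hprod : ∀ T ∈ I, ∀ T' ∈ I, T ≠ 1 → T' ≠ 1 → (¬ ∃ g : P, ∀ x : P, (T x = x ↔ x ∈ Subgroup.zpowers g)) →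
      (¬ ∃ g : P, ∀ x : P, (T' x = x ↔ x ∈ Subgroup.zpowers g)) → T * T' ∈ I₀) :
    IsMulCommutative P ∧ (∃ a b c : P, Subgroup.closure {a, b, c} = ⊤) ∧ (¬ ∃ a b : P, Subgroup.closure {a, b} = ⊤) ∧
      Nat.card {T : MulAut P // T ∈ I ∧ T ≠ 1 ∧ ¬ ∃ g : P, ∀ x : P, (T x = x ↔ x ∈ Subgroup.zpowers g)} = 3 ∧
      Subgroup.closure {T : MulAut P | T ∈ I ∧ T ≠ 1 ∧ ¬ ∃ g : P, ∀ x : P, (T x = x ↔ x ∈ Subgroup.zpowers g)} = I ∧
      (I₀ : Set (MulAut P)) = {S : MulAut P | ∃ T T' : MulAut P, T ∈ I ∧ T' ∈ I ∧ T ≠ 1 ∧ T' ≠ 1 ∧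
        (¬ ∃ g : P, ∀ x : P, (T x = x ↔ x ∈ Subgroup.zpowers g)) ∧ (¬ ∃ g : P, ∀ x : P, (T' x = x ↔ x ∈ Subgroup.zpowers g)) ∧ S = T * T'} := by
  classical
  have hpodd : Odd p := hp.odd_of_ne_two hp2
  haveI : Fact p.Prime := ⟨hp⟩
  have hPodd : Odd (Nat.card P) := by
    obtain ⟨n, hn⟩ := IsPGroup.iff_card.mp hP
    rw [hn]; exact hpodd.pow
  have hI2 : ∀ T ∈ I, T * T = 1 := fun T hT => by rw [← pow_two]; exact hI.2 T hT
  have hIc : ∀ S ∈ I, ∀ T ∈ I, S * T = T * S := by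
    intro S hS T hT
    have := hI.1.is_comm.comm ⟨S, hS⟩ ⟨T, hT⟩
    exact congrArg Subtype.val this
  have hPs : Group.IsSolvable P := by
    haveI := hP.isNilpotent
    infer_instance
  obtain ⟨T, y, hTI, hy1, hinv, hfix, hgen, -⟩ :=
    exists_dihedral_basis_aut hPs hPodd I hI2 hIc 3 (by rw [hI8]; norm_num)
  have hneinv : ∀ z : P, z ≠ 1 → z⁻¹ ≠ z := inv_ne_self_of_odd hPodd
  have hT1 : ∀ i, T i ≠ 1 := by
    intro i h
    have := hinv i
    rw [h, MulAut.one_apply] at this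
    exact hneinv _ (hy1 i) this.symm
  have hTne : ∀ i j, i ≠ j → T i ≠ T j := by
    intro i j hij h
    have h1 := hinv i
    rw [h, hfix i j hij] at h1
    exact hneinv _ (hy1 i) h1.symm
  have hbroad : ∀ i, ¬ ∃ g : P, ∀ x : P, (T i x = x ↔ x ∈ Subgroup.zpowers g) := by
    intro i
    obtain ⟨j, k, hji, hki, hjk⟩ : ∃ j k : Fin 3, j ≠ i ∧ k ≠ i ∧ j ≠ k := by
      revert i; decide
    exact noncyclic_fix p hp hp2 hP hPodd (T i) (T j) (hIc _ (hTI i) _ (hTI j))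
      (hI2 _ (hTI j)) (y j) (y k) (hy1 j) (hy1 k) (hfix j i hji) (hfix k i hki) (hinv j)
      (hfix k j (Ne.symm hjk))
  have hTnotI₀ : ∀ i, T i ∉ I₀ := fun i h => hbroad i (hdisj (T i) h (hT1 i))
  have hvI₀ : ∀ i j, T i * T j ∈ I₀ := fun i j =>
    hprod (T i) (hTI i) (T j) (hTI j) (hT1 i) (hT1 j) (hbroad i) (hbroad j)
  -- names
  set T0 := T 0 with hT0
  set T1 := T 1 with hT1'
  set T2 := T 2 with hT2'
  have c01 : T0 * T1 = T1 * T0 := hIc _ (hTI 0) _ (hTI 1)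
  have c02 : T0 * T2 = T2 * T0 := hIc _ (hTI 0) _ (hTI 2)
  have c12 : T1 * T2 = T2 * T1 := hIc _ (hTI 1) _ (hTI 2)
  have s0 : T0 * T0 = 1 := hI2 _ (hTI 0)
  have s1 : T1 * T1 = 1 := hI2 _ (hTI 1)
  have s2 : T2 * T2 = 1 := hI2 _ (hTI 2)
  -- actions on the y's
  have a00 : T0 (y 0) = (y 0)⁻¹ := hinv 0
  have a11 : T1 (y 1) = (y 1)⁻¹ := hinv 1
  have a22 : T2 (y 2) = (y 2)⁻¹ := hinv 2
  have a01 : T0 (y 1) = y 1 := hfix 1 0 (by decide)
  have a02 : T0 (y 2) = y 2 := hfix 2 0 (by decide)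
  have a10 : T1 (y 0) = y 0 := hfix 0 1 (by decide)
  have a12 : T1 (y 2) = y 2 := hfix 2 1 (by decide)
  have a20 : T2 (y 0) = y 0 := hfix 0 2 (by decide)
  have a21 : T2 (y 1) = y 1 := hfix 1 2 (by decide)
  set v0 := T1 * T2 with hv0
  set v1 := T0 * T2 with hv1
  set v2 := T0 * T1 with hv2
  have hv0I₀ : v0 ∈ I₀ := hvI₀ 1 2
  have hv1I₀ : v1 ∈ I₀ := hvI₀ 0 2
  have hv2I₀ : v2 ∈ I₀ := hvI₀ 0 1
  have hv0I : v0 ∈ I := hI₀.le hv0I₀
  have hv1I : v1 ∈ I := hI₀.le hv1I₀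
  have hv2I : v2 ∈ I := hI₀.le hv2I₀
  have hv0y : v0 (y 0) = y 0 := by rw [hv0, MulAut.mul_apply, a20, a10]
  have hv1y : v1 (y 1) = y 1 := by rw [hv1, MulAut.mul_apply, a21, a01]
  have hv2y : v2 (y 2) = y 2 := by rw [hv2, MulAut.mul_apply, a12, a02]
  have hv0ne : v0 ≠ 1 := by
    intro h
    have h1 : v0 (y 1) = (y 1)⁻¹ := by rw [hv0, MulAut.mul_apply, a21, a11]
    rw [h, MulAut.one_apply] at h1
    exact hneinv _ (hy1 1) h1.symm
  have hv1ne : v1 ≠ 1 := by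
    intro h
    have h1 : v1 (y 0) = (y 0)⁻¹ := by rw [hv1, MulAut.mul_apply, a20, a00]
    rw [h, MulAut.one_apply] at h1
    exact hneinv _ (hy1 0) h1.symm
  have hv2ne : v2 ≠ 1 := by
    intro h
    have h1 : v2 (y 0) = (y 0)⁻¹ := by rw [hv2, MulAut.mul_apply, a10, a00]
    rw [h, MulAut.one_apply] at h1
    exact hneinv _ (hy1 0) h1.symm
  obtain ⟨g0, hg0⟩ := hdisj v0 hv0I₀ hv0ne
  obtain ⟨g1, hg1⟩ := hdisj v1 hv1I₀ hv1ne
  obtain ⟨g2, hg2⟩ := hdisj v2 hv2I₀ hv2ne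
  have A00 : ∀ x, v0 x = x → T0 x = x⁻¹ :=
    (cyclic_fix_action p hp hp2 hP v0 T0 (hIc _ hv0I _ (hTI 0)) s0 g0 hg0 (y 0) hv0y (hy1 0)).1 a00
  have A01 : ∀ x, v0 x = x → T1 x = x :=
    (cyclic_fix_action p hp hp2 hP v0 T1 (hIc _ hv0I _ (hTI 1)) s1 g0 hg0 (y 0) hv0y (hy1 0)).2 a10
  have A02 : ∀ x, v0 x = x → T2 x = x :=
    (cyclic_fix_action p hp hp2 hP v0 T2 (hIc _ hv0I _ (hTI 2)) s2 g0 hg0 (y 0) hv0y (hy1 0)).2 a20
  have A10 : ∀ x, v1 x = x → T0 x = x :=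
    (cyclic_fix_action p hp hp2 hP v1 T0 (hIc _ hv1I _ (hTI 0)) s0 g1 hg1 (y 1) hv1y (hy1 1)).2 a01
  have A11 : ∀ x, v1 x = x → T1 x = x⁻¹ :=
    (cyclic_fix_action p hp hp2 hP v1 T1 (hIc _ hv1I _ (hTI 1)) s1 g1 hg1 (y 1) hv1y (hy1 1)).1 a11
  have A12 : ∀ x, v1 x = x → T2 x = x :=
    (cyclic_fix_action p hp hp2 hP v1 T2 (hIc _ hv1I _ (hTI 2)) s2 g1 hg1 (y 1) hv1y (hy1 1)).2 a21
  have A20 : ∀ x, v2 x = x → T0 x = x :=
    (cyclic_fix_action p hp hp2 hP v2 T0 (hIc _ hv2I _ (hTI 0)) s0 g2 hg2 (y 2) hv2y (hy1 2)).2 a02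
  have A21 : ∀ x, v2 x = x → T1 x = x :=
    (cyclic_fix_action p hp hp2 hP v2 T1 (hIc _ hv2I _ (hTI 1)) s1 g2 hg2 (y 2) hv2y (hy1 2)).2 a12
  have A22 : ∀ x, v2 x = x → T2 x = x⁻¹ :=
    (cyclic_fix_action p hp hp2 hP v2 T2 (hIc _ hv2I _ (hTI 2)) s2 g2 hg2 (y 2) hv2y (hy1 2)).1 a22
  have hxinv : ∀ x : P, x⁻¹ = x → x = 1 := fun x hx => by
    by_contra h
    exact hneinv x h hx
  -- fixed point subgroups
  have hF01 : Fx T0 T1 = Fx v2 v2 := by
    ext x
    constructor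
    · rintro ⟨h0, h1⟩
      have : v2 x = x := by rw [hv2, MulAut.mul_apply, h1, h0]
      exact ⟨this, this⟩
    · rintro ⟨h, -⟩
      exact ⟨A20 x h, A21 x h⟩
  have hF02 : Fx T0 T2 = Fx v1 v1 := by
    ext x
    constructor
    · rintro ⟨h0, h1⟩
      have : v1 x = x := by rw [hv1, MulAut.mul_apply, h1, h0]
      exact ⟨this, this⟩
    · rintro ⟨h, -⟩
      exact ⟨A10 x h, A12 x h⟩
  have hF12 : Fx T1 T2 = Fx v0 v0 := by
    ext x
    constructor
    · rintro ⟨h0, h1⟩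
      have : v0 x = x := by rw [hv0, MulAut.mul_apply, h1, h0]
      exact ⟨this, this⟩
    · rintro ⟨h, -⟩
      exact ⟨A01 x h, A02 x h⟩
  have hFv : Fx v0 v1 = ⊥ := by
    rw [eq_bot_iff]
    rintro x ⟨h0, h1⟩
    rw [Subgroup.mem_bot]
    apply hxinv
    rw [← A00 x h0, A10 x h1]
  set Tz := T0 * v0 with hTz
  have hTzI : Tz ∈ I := I.mul_mem (hTI 0) hv0I
  have hFz : Fx Tz v0 = ⊥ := by
    rw [eq_bot_iff]
    rintro x ⟨hz, h0⟩
    rw [Subgroup.mem_bot]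
    apply hxinv
    rw [hTz, MulAut.mul_apply, h0, A00 x h0] at hz
    exact hz
  have c01' : T0 * T1 = T1 * T0 := hIc _ (hTI 0) _ (hTI 1)
  have c02' : T0 * T2 = T2 * T0 := hIc _ (hTI 0) _ (hTI 2)
  have hv01 : v0 * v1 = v2 := by
    rw [hv0, hv1, hv2]
    calc T1 * T2 * (T0 * T2) = T1 * (T2 * (T0 * T2)) := by rw [mul_assoc]
      _ = T1 * (T2 * (T2 * T0)) := by rw [c02']
      _ = T1 * ((T2 * T2) * T0) := by rw [mul_assoc]
      _ = T1 * T0 := by rw [s2, one_mul]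
      _ = T0 * T1 := c01'.symm
  have hTzv0 : Tz * v0 = T0 := by
    rw [hTz, mul_assoc, hI2 v0 hv0I, mul_one]
  have E1 := bw2 p hP hPodd T0 T1 s0 s1 c01
  have E2 := bw2 p hP hPodd T0 T2 s0 s2 c02
  have E3 := bw2 p hP hPodd T1 T2 s1 s2 c12
  have E4 := bw2 p hP hPodd v0 v1 (hI2 _ hv0I) (hI2 _ hv1I) (hIc _ hv0I _ hv1I)
  have E5 := bw2 p hP hPodd Tz v0 (hI2 _ hTzI) (hI2 _ hv0I) (hIc _ hTzI _ hv0I)
  rw [hF01, ← hv2] at E1
  rw [hF02, ← hv1] at E2
  rw [hF12, ← hv0] at E3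
  rw [hFv, hv01, Subgroup.card_bot, one_pow, mul_one] at E4
  rw [hFz, hTzv0, Subgroup.card_bot, one_pow, mul_one] at E5
  obtain ⟨hF1, -⟩ := arith_bw (Nat.card P) _ _ _ _ _ _ _ Nat.card_pos Nat.card_pos Nat.card_pos
    Nat.card_pos E1 E2 E3 E4 E5
  have hTzfix : ∀ x, Tz x = x → x = 1 := by
    intro x hx
    have h1 : Fx Tz Tz = ⊥ := Subgroup.card_eq_one.mp hF1
    have h2 : x ∈ Fx Tz Tz := ⟨hx, hx⟩
    rw [h1] at h2
    exact Subgroup.mem_bot.mp h2
  have hfpf : MonoidHom.FixedPointFree Tz := hTzfix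
  have hinvol : Function.Involutive Tz := by
    intro x
    rw [← MulAut.mul_apply, hI2 Tz hTzI, MulAut.one_apply]
  have hcommP : ∀ a b : P, a * b = b * a := fun a b =>
    (MonoidHom.FixedPointFree.commute_all_of_involutive (φ := Tz) hfpf hinvol a b).eq
  -- generation by three elements
  have hC : ∀ (v : MulAut P) (g : P), (∀ x, v x = x ↔ x ∈ Subgroup.zpowers g) →
      Fx v v = Subgroup.zpowers g := by
    intro v g hg
    ext x
    constructor
    · rintro ⟨h, -⟩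
      exact (hg x).mp h
    · intro h
      exact ⟨(hg x).mpr h, (hg x).mpr h⟩
  have hnorm : ∀ A B : Subgroup P, B ≤ Subgroup.normalizer (A : Set P) := by
    intro A B x _
    rw [Subgroup.mem_normalizer_iff]
    intro n
    rw [hcommP x n, mul_inv_cancel_right]
  have hC12 : Fx v1 v1 ⊓ Fx v2 v2 = ⊥ := by
    rw [eq_bot_iff]
    rintro x ⟨⟨h1, -⟩, ⟨h2, -⟩⟩
    rw [Subgroup.mem_bot]
    apply hxinv
    rw [← A11 x h1, A21 x h2]
  have hC12le : Fx v1 v1 ⊔ Fx v2 v2 ≤ Fx T0 T0 :=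
    sup_le (fun x hx => ⟨A10 x hx.1, A10 x hx.1⟩) (fun x hx => ⟨A20 x hx.1, A20 x hx.1⟩)
  have hC0 : Fx v0 v0 ⊓ (Fx v1 v1 ⊔ Fx v2 v2) = ⊥ := by
    rw [eq_bot_iff]
    rintro x ⟨⟨h0, -⟩, h12⟩
    rw [Subgroup.mem_bot]
    apply hxinv
    rw [← A00 x h0]
    exact (hC12le h12).1
  have k1 := Cfsg.Agent.Lib.Helper17.card_sup_mul_card_inf_of_le_normalizer (Fx v1 v1) (Fx v2 v2)
    (hnorm _ _)
  rw [hC12, Subgroup.card_bot, mul_one] at k1
  have k2 := Cfsg.Agent.Lib.Helper17.card_sup_mul_card_inf_of_le_normalizer (Fx v0 v0)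
    (Fx v1 v1 ⊔ Fx v2 v2) (hnorm _ _)
  rw [hC0, Subgroup.card_bot, mul_one, k1] at k2
  have htop : Fx v0 v0 ⊔ (Fx v1 v1 ⊔ Fx v2 v2) = ⊤ := by
    apply (Subgroup.card_eq_iff_eq_top _).mp
    rw [k2, E4]
    ring
  have hgen3 : Subgroup.closure {g0, g1, g2} = ⊤ := by
    rw [eq_top_iff, ← htop, hC v0 g0 hg0, hC v1 g1 hg1, hC v2 g2 hg2]
    refine sup_le (Subgroup.zpowers_le.mpr (Subgroup.subset_closure (by simp)))
      (sup_le (Subgroup.zpowers_le.mpr (Subgroup.subset_closure (by simp)))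
        (Subgroup.zpowers_le.mpr (Subgroup.subset_closure (by simp))))
  -- not generated by two elements
  have hnot2 : ¬ ∃ a b : P, Subgroup.closure {a, b} = ⊤ := by
    rintro ⟨a, b, hab⟩
    have hgne : ∀ (v : MulAut P) (g : P) (z : P), (∀ x, v x = x ↔ x ∈ Subgroup.zpowers g) →
        v z = z → z ≠ 1 → g ≠ 1 := by
      intro v g z hg hz hz1 h
      rw [h] at hg
      have := (hg z).mp hz
      rw [Subgroup.zpowers_one_eq_bot, Subgroup.mem_bot] at this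
      exact hz1 this
    obtain ⟨z0, hz0, ho0⟩ := exists_orderOf_eq_prime p hp hP g0 (hgne v0 g0 _ hg0 hv0y (hy1 0))
    obtain ⟨z1, hz1, ho1⟩ := exists_orderOf_eq_prime p hp hP g1 (hgne v1 g1 _ hg1 hv1y (hy1 1))
    obtain ⟨z2, hz2, ho2⟩ := exists_orderOf_eq_prime p hp hP g2 (hgne v2 g2 _ hg2 hv2y (hy1 2))
    have hZ0 : Subgroup.zpowers z0 ≤ Fx v0 v0 := by
      rw [hC v0 g0 hg0]; exact Subgroup.zpowers_le.mpr hz0
    have hZ1 : Subgroup.zpowers z1 ≤ Fx v1 v1 := by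
      rw [hC v1 g1 hg1]; exact Subgroup.zpowers_le.mpr hz1
    have hZ2 : Subgroup.zpowers z2 ≤ Fx v2 v2 := by
      rw [hC v2 g2 hg2]; exact Subgroup.zpowers_le.mpr hz2
    have hZ12 : Subgroup.zpowers z1 ⊓ Subgroup.zpowers z2 = ⊥ := by
      rw [eq_bot_iff, ← hC12]
      exact inf_le_inf hZ1 hZ2
    have hZ0' : Subgroup.zpowers z0 ⊓ (Subgroup.zpowers z1 ⊔ Subgroup.zpowers z2) = ⊥ := by
      rw [eq_bot_iff, ← hC0]
      exact inf_le_inf hZ0 (sup_le_sup hZ1 hZ2)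
    have m1 := Cfsg.Agent.Lib.Helper17.card_sup_mul_card_inf_of_le_normalizer
      (Subgroup.zpowers z1) (Subgroup.zpowers z2) (hnorm _ _)
    rw [hZ12, Subgroup.card_bot, mul_one, Nat.card_zpowers, Nat.card_zpowers, ho1, ho2] at m1
    have m2 := Cfsg.Agent.Lib.Helper17.card_sup_mul_card_inf_of_le_normalizer
      (Subgroup.zpowers z0) (Subgroup.zpowers z1 ⊔ Subgroup.zpowers z2) (hnorm _ _)
    rw [hZ0', Subgroup.card_bot, mul_one, m1, Nat.card_zpowers, ho0] at m2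
    have hΩ : ∀ x ∈ Subgroup.zpowers z0 ⊔ (Subgroup.zpowers z1 ⊔ Subgroup.zpowers z2),
        x ^ p = 1 := by
      intro x hx
      have hpow : ∀ (z : P), orderOf z = p → ∀ w ∈ Subgroup.zpowers z, w ^ p = 1 := by
        intro z hz w hw
        have h1 : orderOf w ∣ orderOf z := orderOf_dvd_of_mem_zpowers hw
        rw [hz] at h1
        exact orderOf_dvd_iff_pow_eq_one.mp h1
      -- the elements of order dividing p form a subgroup
      let Ωp : Subgroup P :=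
        { carrier := {w | w ^ p = 1}
          mul_mem' := fun {u w} hu hw => by
            show (u * w) ^ p = 1
            rw [(show Commute u w from hcommP u w).mul_pow, hu, hw, one_mul]
          one_mem' := one_pow p
          inv_mem' := fun {u} hu => by
            show u⁻¹ ^ p = 1
            rw [inv_pow, hu, inv_one] }
      have hle : Subgroup.zpowers z0 ⊔ (Subgroup.zpowers z1 ⊔ Subgroup.zpowers z2) ≤ Ωp :=
        sup_le (fun w hw => hpow z0 ho0 w hw)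
          (sup_le (fun w hw => hpow z1 ho1 w hw) (fun w hw => hpow z2 ho2 w hw))
      exact hle hx
    have hle := card_ker_pow_le p hp hcommP a b hab _ hΩ
    rw [m2] at hle
    have hp2le : 2 ≤ p := hp.two_le
    nlinarith
  -- enumeration of I₀
  have hv0v1 : v0 ≠ v1 := by
    intro h
    have h1 : v1 (y 0) = (y 0)⁻¹ := by rw [hv1, MulAut.mul_apply, a20, a00]
    rw [← h, hv0y] at h1
    exact hneinv _ (hy1 0) h1.symm
  have hv0v2 : v0 ≠ v2 := by
    intro h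
    have h1 : v2 (y 0) = (y 0)⁻¹ := by rw [hv2, MulAut.mul_apply, a10, a00]
    rw [← h, hv0y] at h1
    exact hneinv _ (hy1 0) h1.symm
  have hv1v2 : v1 ≠ v2 := by
    intro h
    have h1 : v2 (y 1) = (y 1)⁻¹ := by rw [hv2, MulAut.mul_apply, a11, map_inv, a01]
    rw [← h, hv1y] at h1
    exact hneinv _ (hy1 1) h1.symm
  haveI hIfin : Finite ↥I := Nat.finite_of_card_ne_zero (by rw [hI8]; norm_num)
  haveI hI₀fin : Finite ↥I₀ :=
    Finite.of_injective (Subgroup.inclusion hI₀.le) (Subgroup.inclusion_injective _)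
  let s : Finset (MulAut P) := {1, v0, v1, v2}
  have hscard : s.card = 4 := by
    rw [Finset.card_insert_of_notMem, Finset.card_insert_of_notMem, Finset.card_insert_of_notMem,
      Finset.card_singleton]
    · simp only [Finset.mem_singleton]; exact hv1v2
    · simp only [Finset.mem_insert, Finset.mem_singleton, not_or]; exact ⟨hv0v1, hv0v2⟩
    · simp only [Finset.mem_insert, Finset.mem_singleton, not_or]
      exact ⟨hv0ne.symm, hv1ne.symm, hv2ne.symm⟩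
  have hssub : (s : Set (MulAut P)) ⊆ (I₀ : Set (MulAut P)) := by
    intro S hS
    simp only [s, Finset.coe_insert, Finset.coe_singleton, Set.mem_insert_iff,
      Set.mem_singleton_iff] at hS
    rcases hS with rfl | rfl | rfl | rfl
    · exact I₀.one_mem
    · exact hv0I₀
    · exact hv1I₀
    · exact hv2I₀
  have hI₀fin' : (I₀ : Set (MulAut P)).Finite := Set.toFinite _
  have hI₀card : Nat.card ↥I₀ = 4 := by
    have h4 : 4 ≤ Nat.card ↥I₀ := by
      have := Set.ncard_le_ncard hssub hI₀fin'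
      rw [Set.ncard_coe_finset, hscard] at this
      rw [← Nat.card_coe_set_eq] at this
      exact this
    have hdvd : Nat.card ↥I₀ ∣ 8 := by
      rw [← hI8]; exact Subgroup.card_dvd_of_le hI₀.le
    have hne8 : Nat.card ↥I₀ ≠ 8 := by
      intro h
      exact hI₀.ne (Subgroup.eq_of_le_of_card_ge hI₀.le (by rw [hI8, h]))
    have hle8 : Nat.card ↥I₀ ≤ 8 := Nat.le_of_dvd (by norm_num) hdvd
    interval_cases h : Nat.card ↥I₀ <;> first | rfl | omega | (norm_num at hdvd)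
  have hI₀set : ∀ S ∈ I₀, S = 1 ∨ S = v0 ∨ S = v1 ∨ S = v2 := by
    have heq : (s : Set (MulAut P)) = (I₀ : Set (MulAut P)) := by
      apply Set.eq_of_subset_of_ncard_le hssub _ hI₀fin'
      rw [Set.ncard_coe_finset, hscard, ← Nat.card_coe_set_eq]
      exact hI₀card.le
    intro S hS
    have : S ∈ (s : Set (MulAut P)) := by rw [heq]; exact hS
    simpa only [s, Finset.coe_insert, Finset.coe_singleton, Set.mem_insert_iff,
      Set.mem_singleton_iff] using this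
  -- the broad elements are exactly T 0, T 1, T 2
  have hTznb : ∃ g : P, ∀ x : P, (Tz x = x ↔ x ∈ Subgroup.zpowers g) := by
    refine ⟨1, fun x => ?_⟩
    rw [Subgroup.zpowers_one_eq_bot, Subgroup.mem_bot]
    constructor
    · exact hTzfix x
    · rintro rfl
      exact map_one Tz
  have hbroad_cases : ∀ S ∈ I, S ≠ 1 →
      (¬ ∃ g : P, ∀ x : P, (S x = x ↔ x ∈ Subgroup.zpowers g)) → ∃ i, S = T i := by
    intro S hS hS1 hSb
    have h := hprod T0 (hTI 0) S hS (hT1 0) hS1 (hbroad 0) hSb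
    have hS' : S = T0 * (T0 * S) := by rw [← mul_assoc, s0, one_mul]
    rcases hI₀set _ h with h1 | h1 | h1 | h1
    · refine ⟨0, ?_⟩
      rw [hS', h1, mul_one]
    · exfalso
      apply hSb
      rw [hS', h1]
      exact hTznb
    · refine ⟨2, ?_⟩
      rw [hS', h1, hv1, ← mul_assoc, s0, one_mul]
    · refine ⟨1, ?_⟩
      rw [hS', h1, hv2, ← mul_assoc, s0, one_mul]
  have hsetB : {S : MulAut P | S ∈ I ∧ S ≠ 1 ∧
      ¬ ∃ g : P, ∀ x : P, (S x = x ↔ x ∈ Subgroup.zpowers g)} = Set.range T := by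
    ext S
    constructor
    · rintro ⟨h1, h2, h3⟩
      obtain ⟨i, hi⟩ := hbroad_cases S h1 h2 h3
      exact ⟨i, hi.symm⟩
    · rintro ⟨i, rfl⟩
      exact ⟨hTI i, hT1 i, hbroad i⟩
  refine ⟨⟨⟨hcommP⟩⟩, ⟨g0, g1, g2, hgen3⟩, hnot2, ?_, ?_, ?_⟩
  · let f : Fin 3 → {S : MulAut P // S ∈ I ∧ S ≠ 1 ∧
        ¬ ∃ g : P, ∀ x : P, (S x = x ↔ x ∈ Subgroup.zpowers g)} :=
      fun i => ⟨T i, hTI i, hT1 i, hbroad i⟩
    have hf : Function.Bijective f := by
      constructor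
      · intro i j hij
        by_contra hne
        exact hTne i j hne (congrArg Subtype.val hij)
      · rintro ⟨S, h1, h2, h3⟩
        obtain ⟨i, hi⟩ := hbroad_cases S h1 h2 h3
        exact ⟨i, Subtype.ext hi.symm⟩
    rw [← Nat.card_congr (Equiv.ofBijective f hf), Nat.card_fin]
  · rw [hsetB, hgen]
  · ext S
    constructor
    · intro hS
      rcases hI₀set S hS with h1 | h1 | h1 | h1
      · exact ⟨T0, T0, hTI 0, hTI 0, hT1 0, hT1 0, hbroad 0, hbroad 0, by rw [h1, s0]⟩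
      · exact ⟨T1, T2, hTI 1, hTI 2, hT1 1, hT1 2, hbroad 1, hbroad 2, h1⟩
      · exact ⟨T0, T2, hTI 0, hTI 2, hT1 0, hT1 2, hbroad 0, hbroad 2, h1⟩
      · exact ⟨T0, T1, hTI 0, hTI 1, hT1 0, hT1 1, hbroad 0, hbroad 1, h1⟩
    · rintro ⟨A, B, hA, hB, hA1, hB1, hAb, hBb, rfl⟩
      exact hprod A hA B hB hA1 hB1 hAb hBb

end Cfsg.Agent.S4412
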