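import Cfsg.Statements.S4413
import Mathlib
import Cfsg.Agent.Lib.Helper22.ES32

set_option autoImplicit false
open Cfsg

namespace Cfsg.Agent.S4413

/-- Let P be an extraspecial 2-group of order 32 with no elementary abelian subgroup of order 8 (the central product of a dihedral and a quaternion group of order 8). Then the inner automorphism group of P has order 16 and the outer automorphism group Aut(P)/Inn(P) is isomorphic to the symmetric group of degree 5; in particular Aut(P) has order 1920. -/
theorem result {P : Type*} [Group P] [Finite P]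
    (hex : Cfsg.IsExtraspecial 2 P) (h32 : Nat.card P = 32)
    (hminus : ∀ A : Subgroup P, Cfsg.IsElementaryAbelian 2 A → Nat.card ↥A ≤ 4)
    [(MulAut.conj : P →* MulAut P).range.Normal] :
    Nat.card ↥(MulAut.conj : P →* MulAut P).range = 16 ∧ Nat.card (MulAut P) = 1920 ∧
      Nonempty ((MulAut P ⧸ (MulAut.conj : P →* MulAut P).range) ≃* Equiv.Perm (Fin 5)) := by
  obtain ⟨⟨hp, hfr, hcm⟩, hZ⟩ := hex
  obtain ⟨z, h⟩ := Cfsg.Agent.Lib.Helper22.ES32.esData_of hp hfr hcm hZ
  have hE : Cfsg.Agent.Lib.Helper22.ES32.NoE8 P z := by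
    apply Cfsg.Agent.Lib.Helper22.ES32.noE8_of_subgroups h
    intro A hc hs
    apply hminus A
    refine ⟨⟨⟨fun a b => Subtype.ext (hc a.1 a.2 b.1 b.2)⟩⟩, ?_⟩
    intro a ha
    rw [pow_two]; exact hs a ha
  exact Cfsg.Agent.Lib.Helper22.ES32.main h h32 hE hZ

end Cfsg.Agent.S4413
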