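import Cfsg.Statements.S4419
import Mathlib
import Cfsg.Agent.Lib.Helper14.MetaAut
import Cfsg.Agent.Lib.Helper11.FrobeniusLocal
import Cfsg.Agent.Lib.Helper2.Cores

set_option autoImplicit false
open Cfsg

namespace Cfsg.Agent.S4419

open Cfsg.Agent.Lib.Helper14 Cfsg.Agent.Lib.Helper2 Cfsg.Agent.Lib.Helper11

/-- an element whose order is a power of `q` lies in a normal subgroup of index prime to `q`. -/
theorem mem_of_orderOf_pow_of_coprime_index {G : Type*} [Group G] [Finite G] (K : Subgroup G)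
    [K.Normal] {q b : ℕ} (h : G) (ho : orderOf h = q ^ b)
    (hcop : (Nat.card (G ⧸ K)).Coprime q) : h ∈ K := by
  rw [← QuotientGroup.eq_one_iff, ← orderOf_eq_one_iff]
  have h1 : orderOf (QuotientGroup.mk h : G ⧸ K) ∣ q ^ b := by
    rw [← ho]
    exact orderOf_dvd_of_pow_eq_one (by rw [← QuotientGroup.mk_pow, pow_orderOf_eq_one]; rfl)
  have h2 : orderOf (QuotientGroup.mk h : G ⧸ K) ∣ Nat.card (G ⧸ K) := orderOf_dvd_natCard _
  have h3 : (orderOf (QuotientGroup.mk h : G ⧸ K)).Coprime (orderOf (QuotientGroup.mk h : G ⧸ K)) :=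
    Nat.Coprime.coprime_dvd_left h2 (Nat.Coprime.coprime_dvd_right h1 (hcop.pow_right b))
  exact (Nat.coprime_self _).mp h3

theorem qelement_centralizes {G : Type*} [Group G] [Finite G] (p : ℕ) [Fact p.Prime] (S : Sylow p G)
    (hS : Cfsg.IsMetacyclic ↥(S : Subgroup G))
    (hcop : Nat.Coprime (Nat.card (G ⧸ Cfsg.pPrimePCore p G)) (p ^ 2 - 1))
    (Q : Subgroup G) (hQS : Q ≤ (S : Subgroup G)) (q : ℕ) (hq : q.Prime) (hqp : q ≠ p) (b : ℕ)
    (h : G) (hh : h ∈ Subgroup.normalizer (Q : Set G)) (ho : orderOf h = q ^ b) :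
    h ∈ Subgroup.centralizer (Q : Set G) := by
  have hpp : p.Prime := Fact.out
  have hQp : IsPGroup p Q := S.2.to_le hQS
  by_cases hq2 : q ∣ p ^ 2 - 1
  · -- `h` lies in `O_{p',p}(G)`, hence in `O_{p'}(G)`
    have hKn : (Cfsg.pPrimePCore p G).Normal := by
      unfold Cfsg.pPrimePCore
      haveI := pCore_normal (G := G ⧸ pPrimeCore p G) p
      infer_instance
    have hcq : (Nat.card (G ⧸ Cfsg.pPrimePCore p G)).Coprime q :=
      Nat.Coprime.coprime_dvd_right hq2 hcop
    have hK : h ∈ Cfsg.pPrimePCore p G := mem_of_orderOf_pow_of_coprime_index _ h ho hcq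
    have hK' : (QuotientGroup.mk h : G ⧸ pPrimeCore p G) ∈ pCore p (G ⧸ pPrimeCore p G) := hK
    have hN : h ∈ pPrimeCore p G := by
      rw [← QuotientGroup.eq_one_iff, ← orderOf_eq_one_iff]
      have h1 : orderOf (QuotientGroup.mk h : G ⧸ pPrimeCore p G) ∣ q ^ b := by
        rw [← ho]
        exact orderOf_dvd_of_pow_eq_one (by rw [← QuotientGroup.mk_pow, pow_orderOf_eq_one]; rfl)
      obtain ⟨k, hk⟩ := (pCore_isPGroup (G := G ⧸ pPrimeCore p G) p) ⟨_, hK'⟩
      have h2 : orderOf (QuotientGroup.mk h : G ⧸ pPrimeCore p G) ∣ p ^ k := by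
        apply orderOf_dvd_of_pow_eq_one
        have := congrArg Subtype.val hk
        simpa using this
      have hqpc : Nat.Coprime (q ^ b) (p ^ k) :=
        Nat.Coprime.pow _ _ ((Nat.coprime_primes hq hpp).mpr hqp)
      exact Nat.eq_one_of_dvd_coprimes hqpc h1 h2
    rw [Subgroup.mem_centralizer_iff]
    intro x hx
    -- the commutator lies in `Q ⊓ O_{p'}(G)`
    have hc1 : h * x * h⁻¹ * x⁻¹ ∈ Q := by
      apply Q.mul_mem _ (Q.inv_mem hx)
      exact (Subgroup.mem_normalizer_iff.mp hh x).mp hx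
    have hNn : (pPrimeCore p G).Normal := inferInstance
    have hc2 : h * x * h⁻¹ * x⁻¹ ∈ pPrimeCore p G := by
      have h3 : x * h⁻¹ * x⁻¹ ∈ pPrimeCore p G := hNn.conj_mem _ (Subgroup.inv_mem _ hN) x
      have h4 : h * x * h⁻¹ * x⁻¹ = h * (x * h⁻¹ * x⁻¹) := by group
      rw [h4]
      exact Subgroup.mul_mem _ hN h3
    have hone : h * x * h⁻¹ * x⁻¹ = 1 := by
      rw [← orderOf_eq_one_iff]
      obtain ⟨k, hk⟩ := hQp ⟨_, hc1⟩
      have h5 : orderOf (h * x * h⁻¹ * x⁻¹) ∣ p ^ k := by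
        apply orderOf_dvd_of_pow_eq_one
        have := congrArg Subtype.val hk
        simpa using this
      have h6 : orderOf (h * x * h⁻¹ * x⁻¹) ∣ Nat.card (pPrimeCore p G) := by
        have := orderOf_dvd_natCard (⟨_, hc2⟩ : pPrimeCore p G)
        rwa [Subgroup.orderOf_mk] at this
      have h7 : Nat.Coprime (p ^ k) (Nat.card (pPrimeCore p G)) :=
        Nat.Coprime.pow_left _ (pPrimeCore_coprime (G := G) p).symm
      exact Nat.eq_one_of_dvd_coprimes h7 h5 h6
    have : h * x = (h * x * h⁻¹ * x⁻¹) * (x * h) := by group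
    rw [this, hone, one_mul]
  · -- the induced automorphism is trivial
    set α : MulAut Q := Q.normalizerMonoidHom ⟨h, hh⟩ with hα
    have hQm : IsMetacyclic Q := isMetacyclic_of_le hQS hS
    have hα1 : α = 1 := by
      by_contra hne
      have hdvd : orderOf α ∣ q ^ b := by
        rw [← ho]
        have h1 : orderOf (⟨h, hh⟩ : Subgroup.normalizer (Q : Set G)) = orderOf h :=
          Subgroup.orderOf_mk h hh
        rw [← h1]
        exact orderOf_map_dvd _ _
      obtain ⟨c, hc, hc'⟩ := (Nat.dvd_prime_pow hq).mp hdvd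
      have hc0 : c ≠ 0 := by
        rintro rfl
        rw [pow_zero, orderOf_eq_one_iff] at hc'
        exact hne hc'
      have hqd : q ∣ Nat.card (Subgroup.zpowers α) := by
        rw [Nat.card_zpowers, hc']
        exact dvd_pow_self q hc0
      exact hq2 (prime_dvd_sq_sub_one_of_isMetacyclic hQp hQm (Subgroup.zpowers α) hq hqp hqd)
    have hker : (⟨h, hh⟩ : Subgroup.normalizer (Q : Set G)) ∈ Q.normalizerMonoidHom.ker := by
      rw [MonoidHom.mem_ker]; exact hα1
    rw [Subgroup.normalizerMonoidHom_ker] at hker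
    exact Subgroup.mem_subgroupOf.mp hker

theorem local_hyp {G : Type*} [Group G] [Finite G] (p : ℕ) [Fact p.Prime] (S : Sylow p G)
    (hS : Cfsg.IsMetacyclic ↥(S : Subgroup G))
    (hcop : Nat.Coprime (Nat.card (G ⧸ Cfsg.pPrimePCore p G)) (p ^ 2 - 1))
    (Q : Subgroup G) (hQS : Q ≤ (S : Subgroup G)) :
    ∀ n : ℕ, ∀ g ∈ Subgroup.normalizer (Q : Set G), orderOf g = n → Nat.Coprime n p →
      g ∈ Subgroup.centralizer (Q : Set G) := by
  have hpp : p.Prime := Fact.out
  intro n
  induction n using Nat.strong_induction_on with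
  | _ n ih =>
    intro g hg hgo hcp
    by_cases hn1 : n = 1
    · rw [hn1, orderOf_eq_one_iff] at hgo
      rw [hgo]; exact Subgroup.one_mem _
    have hn0 : n ≠ 0 := by
      rw [← hgo]; exact (orderOf_pos g).ne'
    obtain ⟨q, hq, hqn⟩ := Nat.exists_prime_and_dvd hn1
    have hqp : q ≠ p := by
      rintro rfl
      exact hq.one_lt.ne' (Nat.eq_one_of_dvd_coprimes hcp hqn dvd_rfl) |> fun h => h
    obtain ⟨a, m', hqm', rfl⟩ := Nat.exists_eq_pow_mul_and_not_dvd hn0 q hq.one_lt.ne'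
    have ha0 : a ≠ 0 := by
      rintro rfl
      rw [pow_zero, one_mul] at hqn
      exact hqm' hqn
    have hm'0 : m' ≠ 0 := by
      rintro rfl; simp at hn0
    have hcopqm : Nat.Coprime (q ^ a) m' := Nat.Coprime.pow_left _ ((Nat.Prime.coprime_iff_not_dvd hq).mpr hqm')
    -- g ^ m' has order q ^ a
    have ho1 : orderOf (g ^ m') = q ^ a := by
      rw [orderOf_pow' g hm'0, hgo, Nat.gcd_eq_right (Dvd.intro_left _ rfl), Nat.mul_div_cancel _ (Nat.pos_of_ne_zero hm'0)]
    have ho2 : orderOf (g ^ (q ^ a)) = m' := by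
      rw [orderOf_pow' g (pow_ne_zero _ hq.pos.ne'), hgo, Nat.gcd_eq_right (Dvd.intro _ rfl),
        Nat.mul_div_cancel_left _ (pow_pos hq.pos a)]
    have hc1 : g ^ m' ∈ Subgroup.centralizer (Q : Set G) :=
      qelement_centralizes p S hS hcop Q hQS q hq hqp a _ (Subgroup.pow_mem _ hg _) ho1
    have hlt : m' < q ^ a * m' := by
      have : 1 < q ^ a := Nat.one_lt_pow ha0 hq.one_lt
      nlinarith [Nat.pos_of_ne_zero hm'0]
    have hc2 : g ^ (q ^ a) ∈ Subgroup.centralizer (Q : Set G) :=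
      ih m' hlt _ (Subgroup.pow_mem _ hg _) ho2 (Nat.Coprime.coprime_dvd_left (Dvd.intro_left _ rfl) hcp)
    -- Bezout
    have hb : (1 : ℤ) = (q ^ a : ℕ) * Nat.gcdA (q ^ a) m' + m' * Nat.gcdB (q ^ a) m' := by
      have := Nat.gcd_eq_gcd_ab (q ^ a) m'
      rw [hcopqm] at this
      exact_mod_cast this
    have hg1 : g = (g ^ (q ^ a)) ^ (Nat.gcdA (q ^ a) m') * (g ^ m') ^ (Nat.gcdB (q ^ a) m') := by
      rw [← zpow_natCast g (q ^ a), ← zpow_natCast g m', ← zpow_mul, ← zpow_mul, ← zpow_add, ← hb, zpow_one]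
    rw [hg1]
    exact Subgroup.mul_mem _ (Subgroup.zpow_mem _ hc2 _) (Subgroup.zpow_mem _ hc1 _)

/-- Let p be a prime and G a finite group whose Sylow p-subgroups are metacyclic (a cyclic normal subgroup with cyclic quotient). Then G has a normal p-complement if and only if the order of G/O_{p′,p}(G) is coprime to p² − 1. -/
theorem result {G : Type*} [Group G] [Finite G] (p : ℕ) [Fact p.Prime] (S : Sylow p G) (hS : Cfsg.IsMetacyclic ↥(S : Subgroup G)) : Cfsg.HasNormalPComplement p G ↔ Nat.Coprime (Nat.card (G ⧸ Cfsg.pPrimePCore p G)) (p ^ 2 - 1) := by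
  have hpp : p.Prime := Fact.out
  constructor
  · rintro ⟨P', M, hMn, hM⟩
    have hMcard : (Nat.card M).Coprime p := by
      have h1 : Nat.card M = (P' : Subgroup G).index := hM.index_eq_card.symm
      rw [h1]
      exact (Nat.Prime.coprime_iff_not_dvd hpp).mpr P'.not_dvd_index |>.symm
    have hMle : M ≤ pPrimeCore p G := le_pPrimeCore hMn hMcard
    have hpq : IsPGroup p (G ⧸ pPrimeCore p G) := by
      have h1 : Nat.card (G ⧸ pPrimeCore p G) ∣ Nat.card (P' : Subgroup G) := by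
        rw [← Subgroup.index_eq_card, ← hM.symm.index_eq_card]
        exact Subgroup.index_dvd_of_le hMle
      obtain ⟨k, hk⟩ := IsPGroup.iff_card.mp P'.2
      rw [hk] at h1
      obtain ⟨c, _, hc⟩ := (Nat.dvd_prime_pow hpp).mp h1
      exact IsPGroup.of_card hc
    have htop : pCore p (G ⧸ pPrimeCore p G) = ⊤ := by
      rw [eq_top_iff]
      apply le_pCore inferInstance
      exact hpq.to_subgroup ⊤
    have hK : Cfsg.pPrimePCore p G = ⊤ := by
      unfold Cfsg.pPrimePCore
      rw [htop, Subgroup.comap_top]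
    rw [hK]
    have : Nat.card (G ⧸ (⊤ : Subgroup G)) = 1 := by
      rw [← Subgroup.index_eq_card, Subgroup.index_top]
    rw [this]
    exact Nat.coprime_one_left _
  · intro hcop
    have hloc : LocalPNilpotent p G := by
      apply localPNilpotent_of_sylow S
      intro Q hQS g hg hgo
      exact local_hyp p S hS hcop Q hQS _ g hg rfl hgo
    obtain ⟨K, hKn, hK⟩ := exists_normal_complement_of_local hloc S
    exact ⟨S, K, hKn, hK⟩

end Cfsg.Agent.S4419
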