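import Cfsg.Statements.S4420

set_option autoImplicit false
open Cfsg

namespace Cfsg.Agent.S4420

/-- the property asked of `B` -/
def Good {H : Type*} [Group H] (B : Subgroup H) : Prop :=
  B.Normal ∧ IsMulCommutative ↥B ∧ B.index = 2 ∧
    (∀ x : H, x ∉ B → x ^ 2 = 1 ∧ ∀ b ∈ B, x * b * x⁻¹ = b⁻¹)

theorem comm_of_all_sq {H : Type*} [Group H] (h : ∀ x : H, x ^ 2 = 1) (a b : H) :
    a * b = b * a := by
  have inv_self : ∀ x : H, x⁻¹ = x := fun x =>
    inv_eq_of_mul_eq_one_right (by rw [← sq]; exact h x)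
  calc a * b = (a * b)⁻¹ := (inv_self _).symm
    _ = b⁻¹ * a⁻¹ := mul_inv_rev a b
    _ = b * a := by rw [inv_self a, inv_self b]

theorem unique_good {H : Type*} [Group H] [Finite H] {B B' : Subgroup H} (hB : Good B)
    (hB' : Good B') (hne : ¬ (IsMulCommutative H ∧ ∀ x : H, x ^ 2 = 1)) : B' = B := by
  by_contra hBB
  apply hne
  obtain ⟨_, hBc, hBi, hBx⟩ := hB
  obtain ⟨_, hBc', hBi', hBx'⟩ := hB'
  -- some y ∈ B \ B'
  have hy : ∃ y ∈ B, y ∉ B' := by
    by_contra hcon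
    push Not at hcon
    have hle : B ≤ B' := hcon
    have hc1 := B.card_mul_index
    have hc2 := B'.card_mul_index
    rw [hBi] at hc1
    rw [hBi'] at hc2
    have hcard : Nat.card B' ≤ Nat.card B := by omega
    exact hBB (Subgroup.eq_of_le_of_card_ge hle hcard).symm
  obtain ⟨y, hyB, hyB'⟩ := hy
  have hall : ∀ x : H, x ^ 2 = 1 := by
    intro x
    by_cases hxB : x ∈ B
    · by_cases hxB' : x ∈ B'
      · have h1 : y * x * y⁻¹ = x⁻¹ := (hBx' y hyB').2 x hxB'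
        have h2 : y * x = x * y := by
          have := hBc.is_comm.comm ⟨y, hyB⟩ ⟨x, hxB⟩
          exact congrArg Subtype.val this
        have h3 : y * x * y⁻¹ = x := by rw [h2, mul_inv_cancel_right]
        have h4 : x⁻¹ = x := h1.symm.trans h3
        rw [sq]
        nth_rewrite 1 [← h4]
        exact inv_mul_cancel x
      · exact (hBx' x hxB').1
    · exact (hBx x hxB).1
  exact ⟨⟨⟨comm_of_all_sq hall⟩⟩, hall⟩

theorem exists_good {H : Type*} [Group H] [Finite H] (A : Subgroup H) (hA : A ≠ ⊤)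
    (hD : ∀ x : H, x ∉ A → x ^ 2 = 1) : ∃ B : Subgroup H, Good B := by
  classical
  obtain ⟨x₀, hx₀⟩ : ∃ x₀ : H, x₀ ∉ A := by
    by_contra hcon
    push Not at hcon
    exact hA (eq_top_iff.mpr fun x _ => hcon x)
  -- F1
  have F1 : ∀ x : H, x ∉ A → ∀ a ∈ A, x * a * x⁻¹ = a⁻¹ := by
    intro x hx a ha
    have hxa : x * a ∉ A := by
      intro h
      apply hx
      have := A.mul_mem h (A.inv_mem ha)
      rwa [mul_inv_cancel_right] at this
    have h1 : (x * a) ^ 2 = 1 := hD _ hxa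
    have h2 : x ^ 2 = 1 := hD _ hx
    have hxinv : x⁻¹ = x := inv_eq_of_mul_eq_one_right (by rw [← sq]; exact h2)
    rw [hxinv]
    rw [sq] at h1
    -- x a x a = 1
    have : x * a * x * a = 1 := by simpa [mul_assoc] using h1
    exact eq_inv_of_mul_eq_one_left this
  -- F2
  have F2 : ∀ a ∈ A, ∀ b ∈ A, a * b = b * a := by
    intro a ha b hb
    have h1 := F1 x₀ hx₀ (a * b) (A.mul_mem ha hb)
    have h2 := F1 x₀ hx₀ a ha
    have h3 := F1 x₀ hx₀ b hb
    have h4 : x₀ * (a * b) * x₀⁻¹ = (x₀ * a * x₀⁻¹) * (x₀ * b * x₀⁻¹) := by group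
    rw [h4, h2, h3, mul_inv_rev] at h1
    -- a⁻¹ * b⁻¹ = b⁻¹ * a⁻¹
    have := congrArg (fun t => t⁻¹) h1
    simpa using this.symm
  by_cases hcase : ∀ x y : H, x ∉ A → y ∉ A → x * y ∈ A
  · -- A has index 2
    have hidx : A.index = 2 := by
      rw [Subgroup.index_eq_two_iff]
      refine ⟨x₀, fun b => ?_⟩
      by_cases hb : b ∈ A
      · right
        refine ⟨hb, ?_⟩
        intro h
        apply hx₀
        have := A.mul_mem (A.inv_mem hb) h
        rwa [inv_mul_cancel_left] at this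
      · left
        exact ⟨hcase b x₀ hb hx₀, hb⟩
    refine ⟨A, Subgroup.normal_of_index_eq_two hidx, ⟨⟨fun a b => ?_⟩⟩, hidx, fun x hx => ⟨hD x hx, F1 x hx⟩⟩
    exact Subtype.ext (F2 a a.2 b b.2)
  · push Not at hcase
    obtain ⟨x, y, hx, hy, hxy⟩ := hcase
    have hAsq : ∀ a ∈ A, a ^ 2 = 1 := by
      intro a ha
      have h1 := F1 (x * y) hxy a ha
      have h2 := F1 y hy a ha
      have h3 := F1 x hx a⁻¹ (A.inv_mem ha)
      have h4 : x * y * a * (x * y)⁻¹ = x * (y * a * y⁻¹) * x⁻¹ := by group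
      rw [h4, h2, h3, inv_inv] at h1
      -- a = a⁻¹
      rw [sq]
      nth_rewrite 1 [h1]
      exact inv_mul_cancel a
    have hall : ∀ z : H, z ^ 2 = 1 := by
      intro z
      by_cases hz : z ∈ A
      · exact hAsq z hz
      · exact hD z hz
    have hcomm := comm_of_all_sq hall
    have : Fact (Nat.Prime 2) := ⟨Nat.prime_two⟩
    have hp : IsPGroup 2 H := fun g => ⟨1, by rw [pow_one]; exact hall g⟩
    obtain ⟨n, hn⟩ := IsPGroup.iff_card.mp hp
    have hn1 : 1 ≤ n := by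
      by_contra h
      have h0 : n = 0 := by omega
      rw [h0, pow_zero] at hn
      have : Subsingleton H := (Nat.card_eq_one_iff_unique.mp hn).1
      exact hx₀ (by rw [Subsingleton.elim x₀ 1]; exact A.one_mem)
    obtain ⟨K, hK⟩ := Sylow.exists_subgroup_card_pow_prime 2
      (show 2 ^ (n - 1) ∣ Nat.card H by rw [hn]; exact pow_dvd_pow 2 (by omega))
    have hidx : K.index = 2 := by
      have h1 := K.card_mul_index
      rw [hK, hn] at h1
      have h2 : (2 : ℕ) ^ n = 2 ^ (n - 1) * 2 := by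
        rw [← pow_succ]; congr 1; omega
      rw [h2] at h1
      exact Nat.eq_of_mul_eq_mul_left (by positivity) h1
    refine ⟨K, Subgroup.normal_of_index_eq_two hidx, ⟨⟨fun a b => Subtype.ext (hcomm a b)⟩⟩, hidx,
      fun z _ => ⟨hall z, fun b _ => ?_⟩⟩
    have hbinv : b⁻¹ = b := inv_eq_of_mul_eq_one_right (by rw [← sq]; exact hall b)
    rw [hbinv, hcomm z b, mul_inv_cancel_right]

theorem result {H : Type*} [Group H] [Finite H] (A : Subgroup H) (hA : A ≠ ⊤) (hD : ∀ x : H, x ∉ A → x ^ 2 = 1) :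
    ∃ B : Subgroup H, B.Normal ∧ IsMulCommutative ↥B ∧ B.index = 2 ∧
      (∀ x : H, x ∉ B → x ^ 2 = 1 ∧ ∀ b ∈ B, x * b * x⁻¹ = b⁻¹) ∧
      (¬ (IsMulCommutative H ∧ ∀ x : H, x ^ 2 = 1) →
        ∀ B' : Subgroup H, B'.Normal → IsMulCommutative ↥B' → B'.index = 2 →
          (∀ x : H, x ∉ B' → x ^ 2 = 1 ∧ ∀ b ∈ B', x * b * x⁻¹ = b⁻¹) → B' = B) := by
  obtain ⟨B, hB⟩ := exists_good A hA hD
  refine ⟨B, hB.1, hB.2.1, hB.2.2.1, hB.2.2.2, ?_⟩
  intro hne B' h1 h2 h3 h4
  exact unique_good hB ⟨h1, h2, h3, h4⟩ hne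

end Cfsg.Agent.S4420
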