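import Cfsg.Statements.S4421

set_option autoImplicit false
open Cfsg

namespace Cfsg.Agent.S4421

theorem mem_conj {G : Type*} [Group G] (B : Subgroup G) (g x : G) :
    x ∈ B.map (MulAut.conj g).toMonoidHom ↔ g⁻¹ * x * g ∈ B := by
  constructor
  · rintro ⟨b, hb, rfl⟩
    have : g⁻¹ * ((MulAut.conj g).toMonoidHom b) * g = b := by
      simp [MulAut.conj_apply, mul_assoc]
    rw [this]
    exact hb
  · intro h
    refine ⟨g⁻¹ * x * g, h, ?_⟩
    simp [MulAut.conj_apply, mul_assoc]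

theorem L1 {G : Type*} [Group G] (B : Subgroup G) (g h : G)
    (e : B.map (MulAut.conj g).toMonoidHom = B.map (MulAut.conj h).toMonoidHom) :
    h⁻¹ * g ∈ Subgroup.normalizer (B : Set G) := by
  rw [Subgroup.mem_normalizer_iff]
  intro b
  have key : g * b * g⁻¹ ∈ B.map (MulAut.conj g).toMonoidHom ↔
      g * b * g⁻¹ ∈ B.map (MulAut.conj h).toMonoidHom := by rw [e]
  rw [mem_conj, mem_conj] at key
  have e1 : g⁻¹ * (g * b * g⁻¹) * g = b := by group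
  have e2 : h⁻¹ * (g * b * g⁻¹) * h = h⁻¹ * g * b * (h⁻¹ * g)⁻¹ := by group
  rw [e1, e2] at key
  exact key

theorem L2 {G : Type*} [Group G] (A S : Subgroup G) (hAS : A ≤ S) (w : G)
    (hw : w ∈ Subgroup.normalizer (S : Set G)) : A.map (MulAut.conj w).toMonoidHom ≤ S := by
  intro t ht
  rw [mem_conj] at ht
  have h1 : w⁻¹ * t * w ∈ S := hAS ht
  rw [Subgroup.mem_normalizer_iff] at hw
  have h2 := (hw (w⁻¹ * t * w)).mp h1
  have e : w * (w⁻¹ * t * w) * w⁻¹ = t := by group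
  rw [e] at h2
  exact h2

theorem result {G : Type*} [Group G] [Finite G] (A S H : Subgroup G)
    (hAS : A ≤ S) (hSH : S ≤ H)
    (h1 : ∀ g : G, A.map (MulAut.conj g).toMonoidHom ≤ S → ∃ s ∈ S, A.map (MulAut.conj g).toMonoidHom = A.map (MulAut.conj s).toMonoidHom)
    (h2 : ∀ g : G, S.map (MulAut.conj g).toMonoidHom ≤ H → ∃ y ∈ H, S.map (MulAut.conj g).toMonoidHom = S.map (MulAut.conj y).toMonoidHom)
    (h3 : ∀ x ∈ Subgroup.normalizer (A : Set G), S.map (MulAut.conj x).toMonoidHom ≤ H) :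
    ∀ x ∈ Subgroup.normalizer (A : Set G), ∃ y ∈ H ⊓ Subgroup.normalizer (A : Set G),
      ∃ z ∈ Subgroup.normalizer (S : Set G) ⊓ Subgroup.normalizer (A : Set G), x = y * z := by
  intro x hx
  obtain ⟨y, hyH, hy⟩ := h2 x (h3 x hx)
  have hw : y⁻¹ * x ∈ Subgroup.normalizer (S : Set G) := L1 S x y hy
  obtain ⟨s, hsS, hs⟩ := h1 (y⁻¹ * x) (L2 A S hAS _ hw)
  have hzA : s⁻¹ * (y⁻¹ * x) ∈ Subgroup.normalizer (A : Set G) := L1 A _ s hs
  have hzS : s⁻¹ * (y⁻¹ * x) ∈ Subgroup.normalizer (S : Set G) :=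
    Subgroup.mul_mem _ (Subgroup.inv_mem _ (Subgroup.le_normalizer hsS)) hw
  have hys : y * s = x * (s⁻¹ * (y⁻¹ * x))⁻¹ := by group
  refine ⟨y * s, ⟨H.mul_mem hyH (hSH hsS), ?_⟩, s⁻¹ * (y⁻¹ * x), ⟨hzS, hzA⟩, by group⟩
  rw [hys]
  exact Subgroup.mul_mem _ hx (Subgroup.inv_mem _ hzA)

end Cfsg.Agent.S4421
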