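import Cfsg.Statements.S4422

set_option autoImplicit false
open Cfsg

namespace Cfsg.Agent.S4422

theorem modEq_one_of_primes (e : ℕ) : ∀ m : ℕ, m ≠ 0 →
    (∀ p : ℕ, p.Prime → p ∣ m → p ≡ 1 [MOD e]) → m ≡ 1 [MOD e] := by
  intro m
  induction m using Nat.recOnMul with
  | zero => intro h; exact absurd rfl h
  | one => intro _ _; exact Nat.ModEq.refl 1
  | prime p hp => intro _ h; exact h p hp (dvd_refl p)
  | mul a b iha ihb =>
    intro hab h
    have ha : a ≠ 0 := fun h0 => hab (by rw [h0, zero_mul])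
    have hb : b ≠ 0 := fun h0 => hab (by rw [h0, mul_zero])
    have h1 := iha ha (fun p hp hpa => h p hp (dvd_mul_of_dvd_left hpa b))
    have h2 := ihb hb (fun p hp hpb => h p hp (dvd_mul_of_dvd_right hpb a))
    simpa using h1.mul h2

theorem result (q e m : ℕ) (hq : 2 ≤ q) (he : 1 ≤ e)
    (hm : m ∣ q ^ e - 1) (hcop : ∀ i : ℕ, 1 ≤ i → i < e → Nat.Coprime m (q ^ i - 1)) :
    m % e = 1 % e := by
  have hqe : 1 ≤ q ^ e := Nat.one_le_pow _ _ (by omega)
  have hqe2 : 2 ≤ q ^ e := by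
    calc 2 ≤ q := hq
      _ = q ^ 1 := (pow_one q).symm
      _ ≤ q ^ e := Nat.pow_le_pow_right (by omega) he
  have hm0 : m ≠ 0 := by
    rintro rfl
    have := Nat.eq_zero_of_zero_dvd hm
    omega
  apply modEq_one_of_primes e m hm0
  intro p hp hpm
  have : Fact p.Prime := ⟨hp⟩
  have hpq : p ∣ q ^ e - 1 := hpm.trans hm
  have hpow : ((q : ZMod p)) ^ e = 1 := by
    have h0 : ((q ^ e - 1 : ℕ) : ZMod p) = 0 := (ZMod.natCast_eq_zero_iff _ _).mpr hpq
    rw [Nat.cast_sub hqe, Nat.cast_pow, Nat.cast_one, sub_eq_zero] at h0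
    exact h0
  have hq0 : (q : ZMod p) ≠ 0 := by
    intro h0
    rw [h0, zero_pow (by omega)] at hpow
    exact zero_ne_one hpow
  have hd_dvd : orderOf (q : ZMod p) ∣ e := orderOf_dvd_of_pow_eq_one hpow
  have hd_pos : 0 < orderOf (q : ZMod p) :=
    orderOf_pos_iff.mpr (isOfFinOrder_iff_pow_eq_one.mpr ⟨e, he, hpow⟩)
  have hd_eq : orderOf (q : ZMod p) = e := by
    by_contra hne
    have hlt : orderOf (q : ZMod p) < e :=
      lt_of_le_of_ne (Nat.le_of_dvd he hd_dvd) hne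
    have hcop' := hcop _ hd_pos hlt
    have hqd : 1 ≤ q ^ orderOf (q : ZMod p) := Nat.one_le_pow _ _ (by omega)
    have hpd : p ∣ q ^ orderOf (q : ZMod p) - 1 := by
      rw [← ZMod.natCast_eq_zero_iff, Nat.cast_sub hqd, Nat.cast_pow, Nat.cast_one,
        pow_orderOf_eq_one, sub_self]
    have := Nat.dvd_gcd hpm hpd
    rw [hcop'] at this
    exact hp.one_lt.ne' (Nat.dvd_one.mp this)
  have hdvd : e ∣ p - 1 := by
    rw [← hd_eq]
    exact ZMod.orderOf_dvd_card_sub_one hq0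
  exact ((Nat.modEq_iff_dvd' hp.one_le).mpr hdvd).symm

end Cfsg.Agent.S4422
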