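import Cfsg.Statements.S4423
import Cfsg.Agent.Lib.Helper8.PrimPartBound
-- import your own Cfsg.Agent.* helpers here

set_option autoImplicit false
open Cfsg

namespace Cfsg.Agent.S4423

open Cfsg.Agent.Lib.Helper8.Zsig

/-- explicit primitive divisors `≥ 3e+1` for the small non-exceptional pairs -/
def wit : ℕ × ℕ → ℕ
  | (3, 3) => 13 | (5, 3) => 31 | (4, 4) => 17 | (5, 4) => 13 | (6, 4) => 37 | (2, 5) => 31
  | (3, 5) => 121 | (6, 6) => 31 | (7, 6) => 43 | (8, 6) => 19 | (9, 6) => 73 | (2, 7) => 127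
  | (3, 8) => 41 | (2, 9) => 73 | (3, 10) => 61 | (4, 10) => 41 | (3, 12) => 73 | (4, 12) => 241
  | (2, 14) => 43 | (2, 15) => 151 | (2, 16) => 257 | (2, 22) => 683 | (2, 24) => 241
  | (2, 28) => 3277 | (2, 30) => 331 | (2, 42) => 5419 | (2, 48) => 65281 | (2, 60) => 80581
  | _ => 1

/-- the primitive parts for the thirteen exceptional pairs -/
def pp : ℕ × ℕ → ℕ
  | (2, 3) => 7 | (4, 3) => 7 | (2, 4) => 5 | (3, 4) => 5 | (2, 6) => 1 | (3, 6) => 7
  | (4, 6) => 13 | (5, 6) => 7 | (2, 8) => 17 | (2, 10) => 11 | (2, 12) => 13 | (2, 18) => 19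
  | (2, 20) => 41
  | _ => 1

def L13 : List (ℕ × ℕ) :=
  [(2, 6), (2, 4), (2, 10), (2, 12), (2, 18), (3, 4), (3, 6), (5, 6), (2, 3), (2, 8), (2, 20), (4, 3), (4, 6)]

theorem wit_ok : ∀ x ∈ smallPairs, x ∉ L13 →
    wit x ∣ x.1 ^ x.2 - 1 ∧ (∀ i : ℕ, i < x.2 → 1 ≤ i → Nat.Coprime (wit x) (x.1 ^ i - 1)) ∧
      3 * x.2 + 1 ≤ wit x := by
  decide

theorem pp_ok : ∀ x ∈ L13, 0 < pp x ∧ pp x ≤ 2 * x.2 + 1 ∧
    (x.1 ^ x.2 - 1) ∣ (∏ i ∈ Finset.Ico 1 x.2, (x.1 ^ i - 1)) * pp x := by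
  decide

/-- Size of the primitive part of `q^e - 1`. For a prime power `q` and `e ≥ 3`, call a divisor of `q^e - 1` primitive when it is coprime to `q^i - 1` for every `1 ≤ i < e`; the primitive part is the largest primitive divisor. Apart from thirteen exceptional pairs, the primitive part is at least `3e + 1`: there is a primitive divisor `m ≥ 3e + 1` unless `(q, e)` is `(2, 6)` (where every primitive divisor is 1), one of `(2,4), (2,10), (2,12), (2,18), (3,4), (3,6), (5,6)` (where the primitive part is exactly `e + 1`), or one of `(2,3), (2,8), (2,20), (4,3), (4,6)` (where it is exactly `2e + 1`). The statement asserts the existence of a primitive divisor `m ≥ 3e + 1` outside the thirteen pairs, and that every primitive divisor is at most `2e + 1` for the thirteen pairs. -/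
theorem result (q e : ℕ) (hq : IsPrimePow q) (he : 3 ≤ e) :
    ((q, e) ∉ [(2, 6), (2, 4), (2, 10), (2, 12), (2, 18), (3, 4), (3, 6), (5, 6), (2, 3), (2, 8), (2, 20), (4, 3), (4, 6)] →
      ∃ m : ℕ, m ∣ q ^ e - 1 ∧ (∀ i : ℕ, 1 ≤ i → i < e → Nat.Coprime m (q ^ i - 1)) ∧ 3 * e + 1 ≤ m) ∧
    ((q, e) ∈ [(2, 6), (2, 4), (2, 10), (2, 12), (2, 18), (3, 4), (3, 6), (5, 6), (2, 3), (2, 8), (2, 20), (4, 3), (4, 6)] →
      ∀ m : ℕ, m ∣ q ^ e - 1 → (∀ i : ℕ, 1 ≤ i → i < e → Nat.Coprime m (q ^ i - 1)) → m ≤ 2 * e + 1) := by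
  have hq1 : 1 < q := hq.one_lt
  constructor
  · intro hnot
    by_cases hs : (q, e) ∈ smallPairs
    · obtain ⟨h1, h2, h3⟩ := wit_ok (q, e) hs hnot
      exact ⟨wit (q, e), h1, fun i hi1 hie => h2 i hie hi1, h3⟩
    · have hlt := lt_natCyc (by omega : 2 ≤ q) he hs
      obtain ⟨P, hP0, hPd, hPc, -, hPmod, hPle⟩ := exists_primitive_part hq1 he
      refine ⟨P, hPd, fun i hi1 hie => hPc i (by omega) hie, ?_⟩
      have h1 : e * (2 * e + 1) < e * P := lt_of_lt_of_le hlt hPle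
      have h2 : 2 * e + 1 < P := Nat.lt_of_mul_lt_mul_left h1
      have h3 : P % e = 1 := by
        have := hPmod
        unfold Nat.ModEq at this
        rw [this, Nat.mod_eq_of_lt (by omega)]
      have h4 := Nat.div_add_mod P e
      rw [h3] at h4
      have h5 : 3 ≤ P / e := by
        by_contra h
        have h6 : P / e ≤ 2 := by omega
        have h7 : e * (P / e) ≤ e * 2 := Nat.mul_le_mul_left e h6
        omega
      have h8 : e * 3 ≤ e * (P / e) := Nat.mul_le_mul_left e h5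
      omega
  · intro hmem m hmd hmc
    obtain ⟨h0, h1, h2⟩ := pp_ok (q, e) hmem
    simp only at h0 h1 h2
    have hcop : Nat.Coprime m (∏ i ∈ Finset.Ico 1 e, (q ^ i - 1)) := by
      apply Nat.Coprime.prod_right
      intro i hi
      rw [Finset.mem_Ico] at hi
      exact hmc i hi.1 hi.2
    have h3 : m ∣ pp (q, e) := hcop.dvd_of_dvd_mul_left (hmd.trans h2)
    exact (Nat.le_of_dvd h0 h3).trans h1

end Cfsg.Agent.S4423
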