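import Cfsg.Statements.S4424
import Cfsg.Agent.S0961
import Cfsg.Agent.Lib.Helper28.BlockOrthPReg
import Cfsg.Agent.Lib.Helper26.GenChar

set_option autoImplicit false
open Cfsg

namespace Cfsg.Agent.S4424

open scoped ComplexConjugate

open Cfsg.Agent.Lib.Helper28 in
theorem result {G : Type*} [Group G] [Finite G] (p : ℕ) [Fact p.Prime] (M : Ideal Cfsg.AlgInt) (hM : Cfsg.IsPModular p M) (B : Set (Cfsg.IrrCharacter G)) (hB : Cfsg.IsPBlock M B) (χ : Cfsg.IrrCharacter G) (hχ : χ ∈ B) : ∃ a : Cfsg.IrrCharacter G → ℤ, (∀ ψ, ψ ∉ B → a ψ = 0) ∧ (fun x : G => if p ∣ orderOf x then (0 : ℂ) else ((p ^ (Nat.card G).factorization p : ℕ) : ℂ) * (χ : G → ℂ) x) = fun x => ∑ᶠ ψ : Cfsg.IrrCharacter G, (a ψ : ℂ) * (ψ : G → ℂ) x := by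
  classical
  have : Fintype G := Fintype.ofFinite G
  have : Fintype (IrrCharacter G) := Fintype.ofFinite _
  have hprime : M.IsPrime := hM.2.1.isPrime
  have hX := Cfsg.Agent.S0961.result p χ
  obtain ⟨c, hc⟩ := Cfsg.Agent.Lib.Helper26.exists_int_coeff hX
  refine ⟨c, ?_, ?_⟩
  · intro ψ hψ
    have hns : ¬ SameBlock M (χ : G → ℂ) (ψ : G → ℂ) := fun h =>
      hψ ((mem_block_iff hB hχ ψ).mpr h)
    have h1 := preg_orthogonality hM χ ψ hns
    have h2 := hc ψ
    unfold classInner at h2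
    have h3 : ∑ g : G, (if p ∣ orderOf g then (0 : ℂ) else
        ((p ^ (Nat.card G).factorization p : ℕ) : ℂ) * (χ : G → ℂ) g) * conj ((ψ : G → ℂ) g) =
        ((p ^ (Nat.card G).factorization p : ℕ) : ℂ) *
        ∑ x : G, (if p ∣ orderOf x then 0 else (χ : G → ℂ) x * conj ((ψ : G → ℂ) x)) := by
      rw [Finset.mul_sum]
      refine Finset.sum_congr rfl fun g _ => ?_
      split_ifs
      · simp
      · ring
    rw [h3, h1, mul_zero, mul_zero] at h2
    exact_mod_cast h2.symm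
  · have h4 := Cfsg.Agent.Lib.Helper26.genChar_expansion hX c hc
    rw [h4]
    funext x
    rw [finsum_eq_sum_of_fintype, Finset.sum_apply]
    refine Finset.sum_congr rfl fun ψ _ => ?_
    simp

end Cfsg.Agent.S4424
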