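import Cfsg.Statements.S4425
import Cfsg.Agent.Lib.Helper28.DefectGen

set_option autoImplicit false
open Cfsg

namespace Cfsg.Agent.S4425

/-- Let χ be an irreducible character of the finite group G, p a prime, p^a the p-part of the order of G and p^b the p-part of the degree χ(1). Let χ̃ be the class function equal to p^a · χ on p-regular elements and zero on p-singular elements. Then p^(−b) · χ̃ is a generalized character of G, while p^(−(b+1)) · χ̃ is not. -/
theorem result {G : Type*} [Group G] [Finite G] (p : ℕ) [Fact p.Prime] (χ : Cfsg.IrrCharacter G) : Cfsg.IsGeneralizedCharacter G (fun x : G => if p ∣ orderOf x then (0 : ℂ) else ((p ^ ((Nat.card G).factorization p - (Cfsg.charDegree (χ : G → ℂ)).factorization p) : ℕ) : ℂ) * (χ : G → ℂ) x) ∧ ¬ Cfsg.IsGeneralizedCharacter G (fun x : G => if p ∣ orderOf x then (0 : ℂ) else ((p ^ (Nat.card G).factorization p : ℕ) : ℂ) / ((p ^ ((Cfsg.charDegree (χ : G → ℂ)).factorization p + 1) : ℕ) : ℂ) * (χ : G → ℂ) x) := by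
  classical
  have : Fintype G := Fintype.ofFinite G
  have hp : p.Prime := Fact.out
  refine ⟨Cfsg.Agent.Lib.Helper28.irr_pPart_isGeneralizedCharacter hp χ, ?_⟩
  intro hη
  obtain ⟨k, hk⟩ := Cfsg.Agent.Lib.Helper28.degree_of_vanish_pSingular (p := p) hη
    (fun x hx => by simp only [if_pos hx])
  obtain ⟨n, ρ, hirr, hρχ⟩ := χ.2
  have hn : n ≠ 0 := by
    have := Cfsg.Agent.Lib.Helper4.finrank_ne_zero_of_irreducible ρ hirr
    rw [Module.finrank_fin_fun] at this
    exact_mod_cast this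
  have hdeg : charDegree (χ : G → ℂ) = n := by
    rw [← hρχ]; exact Cfsg.Agent.Lib.Helper28.charDegree_character ρ
  have h1 : (χ : G → ℂ) 1 = (n : ℂ) := by
    rw [← hρχ, Representation.char_one, Module.finrank_fin_fun]
  have hnd : ¬ p ∣ orderOf (1 : G) := by
    rw [orderOf_one]; exact hp.one_lt.ne' ∘ Nat.dvd_one.mp
  simp only [if_neg hnd] at hk
  rw [hdeg, h1] at hk
  have hA : ((p ^ (Nat.card G).factorization p : ℕ) : ℂ) ≠ 0 := by
    exact_mod_cast pow_ne_zero _ hp.ne_zero
  have hB : ((p ^ (n.factorization p + 1) : ℕ) : ℂ) ≠ 0 := by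
    exact_mod_cast pow_ne_zero _ hp.ne_zero
  have h2 : (n : ℂ) = ((p ^ (n.factorization p + 1) : ℕ) : ℂ) * (k : ℂ) := by
    have h3 : ((p ^ (Nat.card G).factorization p : ℕ) : ℂ) * ((n : ℂ) /
        ((p ^ (n.factorization p + 1) : ℕ) : ℂ)) =
        ((p ^ (Nat.card G).factorization p : ℕ) : ℂ) * (k : ℂ) := by
      rw [← hk]; ring
    have h4 := mul_left_cancel₀ hA h3
    rw [← h4, mul_div_cancel₀ _ hB]
  have h5 : (n : ℤ) = ((p ^ (n.factorization p + 1) : ℕ) : ℤ) * k := by exact_mod_cast h2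
  have h6 : ((p ^ (n.factorization p + 1) : ℕ) : ℤ) ∣ (n : ℤ) := ⟨k, h5⟩
  exact Nat.pow_succ_factorization_not_dvd hn hp (Int.natCast_dvd_natCast.mp h6)

end Cfsg.Agent.S4425
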