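import Cfsg.Statements.S4426
import Cfsg.Agent.Lib.Helper28.HeightZeroG

set_option autoImplicit false
open Cfsg

namespace Cfsg.Agent.S4426

/-- Let χ be an irreducible character in the p-block B of the finite group G (relative to a maximal ideal M of the algebraic integers containing p), let p^a be the p-part of the order of G, and let χ̃ be the class function equal to p^a · χ on p-regular elements and zero elsewhere. For ξ ∈ B the inner product [χ̃, ξ] is an integer. The following are equivalent: (a) χ has height zero in B; (b) for some ξ ∈ B the integer [χ̃, ξ] is nonzero and the exact power of p dividing it equals the exact power of p dividing ξ(1); (c) the same holds for every ξ ∈ B. -/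
theorem result {G : Type*} [Group G] [Fintype G] (p : ℕ) [Fact p.Prime] (M : Ideal Cfsg.AlgInt) (hM : Cfsg.IsPModular p M) (B : Set (Cfsg.IrrCharacter G)) (hB : Cfsg.IsPBlock M B) (χ : Cfsg.IrrCharacter G) (hχ : χ ∈ B) : (Cfsg.blockHeight p B (χ : G → ℂ) = 0 ↔ ∃ ξ ∈ B, ∃ n : ℤ, Cfsg.classInner (fun x : G => if p ∣ orderOf x then (0 : ℂ) else ((p ^ (Nat.card G).factorization p : ℕ) : ℂ) * (χ : G → ℂ) x) (ξ : G → ℂ) = (n : ℂ) ∧ n ≠ 0 ∧ padicValInt p n = (Cfsg.charDegree (ξ : G → ℂ)).factorization p) ∧ (Cfsg.blockHeight p B (χ : G → ℂ) = 0 ↔ ∀ ξ ∈ B, ∃ n : ℤ, Cfsg.classInner (fun x : G => if p ∣ orderOf x then (0 : ℂ) else ((p ^ (Nat.card G).factorization p : ℕ) : ℂ) * (χ : G → ℂ) x) (ξ : G → ℂ) = (n : ℂ) ∧ n ≠ 0 ∧ padicValInt p n = (Cfsg.charDegree (ξ : G → ℂ)).factorization p) := by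
  classical
  have hprime : M.IsPrime := hM.2.1.isPrime
  have hMtop : M ≠ ⊤ := hM.2.1.ne_top
  have hp : p.Prime := Fact.out
  have hiff := Cfsg.Agent.Lib.Helper28.height_zero_iff_unit hM hB hχ
  -- forward: height zero gives the property at every member
  have hfwd : Cfsg.blockHeight p B (χ : G → ℂ) = 0 → ∀ ξ ∈ B, ∃ n : ℤ,
      Cfsg.classInner (fun x : G => if p ∣ orderOf x then (0 : ℂ) else
        ((p ^ (Nat.card G).factorization p : ℕ) : ℂ) * (χ : G → ℂ) x) (ξ : G → ℂ) = (n : ℂ) ∧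
      n ≠ 0 ∧ padicValInt p n = (Cfsg.charDegree (ξ : G → ℂ)).factorization p := by
    intro h ξ hξ
    have hu := hiff.mp h
    have hsame := (Cfsg.Agent.Lib.Helper28.mem_block_iff hB hχ ξ).mp hξ
    have hu' := (Cfsg.Agent.Lib.Helper28.unit_transfer hM hsame).mp hu
    obtain ⟨k, hk⟩ := Cfsg.Agent.Lib.Helper28.exists_int_classInner_pRegularPart' hp χ ξ
    obtain ⟨hk0, hkv⟩ := Cfsg.Agent.Lib.Helper28.natAbs_factorization_of_unit hM hk hu'
    refine ⟨k, ?_, hk0, ?_⟩
    · rw [Cfsg.Agent.Lib.Helper28.classInner_scaled_pRegular, ← hk]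
      push_cast
      rfl
    · rw [← hkv, Nat.factorization_def _ hp]
      rfl
  -- backward: the property at one member gives height zero
  have hbwd : ∀ ξ ∈ B, (∃ n : ℤ,
      Cfsg.classInner (fun x : G => if p ∣ orderOf x then (0 : ℂ) else
        ((p ^ (Nat.card G).factorization p : ℕ) : ℂ) * (χ : G → ℂ) x) (ξ : G → ℂ) = (n : ℂ) ∧
      n ≠ 0 ∧ padicValInt p n = (Cfsg.charDegree (ξ : G → ℂ)).factorization p) →
      Cfsg.blockHeight p B (χ : G → ℂ) = 0 := by
    rintro ξ hξ ⟨n, hn, hn0, hnv⟩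
    have hsame := (Cfsg.Agent.Lib.Helper28.mem_block_iff hB hχ ξ).mp hξ
    have hk : (p : ℂ) ^ (Nat.card G).factorization p *
        Cfsg.classInner (Cfsg.pRegularPart p (χ : G → ℂ)) (ξ : G → ℂ) = n := by
      rw [← hn, Cfsg.Agent.Lib.Helper28.classInner_scaled_pRegular]
      push_cast
      rfl
    have hv : n.natAbs.factorization p = (Cfsg.charDegree (ξ : G → ℂ)).factorization p := by
      rw [← hnv, Nat.factorization_def _ hp]
      rfl
    have hu' := Cfsg.Agent.Lib.Helper28.unit_of_natAbs_factorization hM hk hn0 hv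
    exact hiff.mpr ((Cfsg.Agent.Lib.Helper28.unit_transfer hM hsame).mpr hu')
  refine ⟨⟨fun h => ⟨χ, hχ, hfwd h χ hχ⟩, ?_⟩, ⟨hfwd, fun h => hbwd χ hχ (h χ hχ)⟩⟩
  rintro ⟨ξ, hξ, h⟩
  exact hbwd ξ hξ h

end Cfsg.Agent.S4426
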