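import Cfsg.Statements.S4444
import Cfsg.Agent.Lib.Helper7.GlaubP

set_option autoImplicit false
open Cfsg

namespace Cfsg.Agent.S4444

open Cfsg.Agent.Lib.Helper7.GlaubP

theorem gc_of_pgroup {Γ : Type*} [Group Γ] [Finite Γ] (G S : Subgroup Γ) [Fintype G]
    (hnorm : ∀ s ∈ S, ∀ g ∈ G, s * g * s⁻¹ ∈ G) (hcop : (Nat.card G).Coprime (Nat.card S))
    (p : ℕ) (hp : p.Prime) (hS : IsPGroup p S) (C : Subgroup Γ) [Fintype C]
    (hC : C = G ⊓ Subgroup.centralizer (S : Set Γ)) (hCG : C ≤ G) : GCProp p G S C hCG := by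
  have hC' : ∀ g ∈ G, g ∈ C ↔ ∀ s ∈ S, s * g * s⁻¹ = g := by
    intro g hg
    rw [hC, Subgroup.mem_inf, Subgroup.mem_centralizer_iff]
    constructor
    · rintro ⟨-, h⟩ s hs
      rw [h s hs, mul_inv_cancel_right]
    · intro h
      refine ⟨hg, fun s hs => ?_⟩
      have h1 := h s hs
      calc s * g = (s * g * s⁻¹) * s := by group
        _ = g * s := by rw [h1]
  by_cases hpG : p ∣ Nat.card G
  · -- then `S` is trivial
    haveI : Fact p.Prime := ⟨hp⟩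
    obtain ⟨k, hk⟩ := IsPGroup.iff_card.mp hS
    have hk0 : k = 0 := by
      by_contra hne
      have h1 : p ∣ Nat.card S := by rw [hk]; exact dvd_pow_self p hne
      have h2 : p ∣ Nat.gcd (Nat.card G) (Nat.card S) := Nat.dvd_gcd hpG h1
      rw [hcop] at h2
      exact hp.one_lt.ne' (Nat.dvd_one.mp h2)
    rw [hk0, pow_zero] at hk
    have hbot : S = ⊥ := Subgroup.eq_bot_of_card_eq S hk
    refine gc_trivial hp G S C hCG ?_ hC'
    intro s hs g _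
    rw [hbot, Subgroup.mem_bot] at hs
    rw [hs]; group
  · refine gc_aux hp S (Nat.card G) G C hCG le_rfl hnorm hpG ?_ hC'
    intro s hs
    obtain ⟨k, hk⟩ := hS ⟨s, hs⟩
    refine ⟨k, ?_⟩
    have h1 : s ^ p ^ k = 1 := by
      have := congrArg Subtype.val hk
      simpa using this
    rw [h1]
    exact Subgroup.one_mem _

/-- The Glauberman correspondence for a p-group of operators. Inside a finite group Γ let S normalise G with the orders of G and S coprime, S a p-group, and let C = G ⊓ C(S) be the fixed points. Call an irreducible character χ of G S-invariant when χ(s g s⁻¹) = χ(g) for s ∈ S, g ∈ G. Then: (i) for every S-invariant χ there is exactly one irreducible character β of C whose multiplicity [χ_C, β] in the restriction of χ is not divisible by p; (ii) that multiplicity is ≡ 1 or ≡ −1 (mod p); (iii) distinct S-invariant χ give distinct β; (iv) every irreducible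 character of C arises in this way. So χ ↦ β is a bijection from the S-invariant irreducible characters of G onto the irreducible characters of C. -/
theorem result {Γ : Type*} [Group Γ] [Fintype Γ] (G S : Subgroup Γ) [Fintype G] (hnorm : ∀ s ∈ S, ∀ g ∈ G, s * g * s⁻¹ ∈ G) (hcop : (Nat.card G).Coprime (Nat.card S)) (p : ℕ) (hp : p.Prime) (hS : IsPGroup p S) (C : Subgroup Γ) [Fintype C] (hC : C = G ⊓ Subgroup.centralizer (S : Set Γ)) (hCG : C ≤ G) : (∀ χ : Cfsg.IrrCharacter G, (∀ s ∈ S, ∀ g g' : G, (g' : Γ) = s * g * s⁻¹ → (χ : G → ℂ) g' = (χ : G → ℂ) g) → ∃! β : Cfsg.IrrCharacter C, ∃ m : ℕ, Cfsg.classInner (fun c : C => (χ : G → ℂ) ⟨c, hCG c.2⟩) (β : C → ℂ) = (m : ℂ) ∧ ¬ p ∣ m) ∧ (∀ χ : Cfsg.IrrCharacter G, (∀ s ∈ S, ∀ g g' : G, (g' : Γ) = s * g * s⁻¹ → (χ : G → ℂ) g' = (χ : G → ℂ) g) → ∀ β : Cfsg.IrrCharacter C, ∀ m : ℕ, Cfsg.classInner (fun c : C => (χ : G → ℂ) ⟨c,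 hCG c.2⟩) (β : C → ℂ) = (m : ℂ) → ¬ p ∣ m → ((m : ℤ) ≡ 1 [ZMOD p] ∨ (m : ℤ) ≡ -1 [ZMOD p])) ∧ (∀ χ χ' : Cfsg.IrrCharacter G, (∀ s ∈ S, ∀ g g' : G, (g' : Γ) = s * g * s⁻¹ → (χ : G → ℂ) g' = (χ : G → ℂ) g) → (∀ s ∈ S, ∀ g g' : G, (g' : Γ) = s * g * s⁻¹ → (χ' : G → ℂ) g' = (χ' : G → ℂ) g) → ∀ β : Cfsg.IrrCharacter C, ∀ m m' : ℕ, Cfsg.classInner (fun c : C => (χ : G → ℂ) ⟨c, hCG c.2⟩) (β : C → ℂ) = (m : ℂ) → ¬ p ∣ m → Cfsg.classInner (fun c : C => (χ' : G → ℂ) ⟨c, hCG c.2⟩) (β : C → ℂ) = (m' : ℂ) → ¬ p ∣ m' → χ = χ') ∧ (∀ β : Cfsg.IrrCharacter C, ∃ χ : Cfsg.IrrCharacter G, (∀ s ∈ S, ∀ g g' : G, (g' : Γ) = s * g * s⁻¹ → (χ : G → ℂ) g' = (χ : G → ℂ) g) ∧ ∃ m : ℕ, Cfsg.classInner (fun c : C => (χ : G → ℂ) ⟨c, hCG c.2⟩) (β : C → ℂ) = (m : ℂ) ∧ ¬ p ∣ m) := by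
  have hgc := gc_of_pgroup G S hnorm hcop p hp hS C hC hCG
  obtain ⟨hA, hB, hCc⟩ := hgc
  have huniq : ∀ χ : Cfsg.IrrCharacter G, SInv G S (χ : G → ℂ) → ∀ β₀ : Cfsg.IrrCharacter C,
      (∀ β : Cfsg.IrrCharacter C, β ≠ β₀ → ∃ m : ℕ,
        Cfsg.classInner (fun c : C => (χ : G → ℂ) ⟨c, hCG c.2⟩) (β : C → ℂ) = m ∧ p ∣ m) →
      ∀ (β : Cfsg.IrrCharacter C) (m : ℕ),
        Cfsg.classInner (fun c : C => (χ : G → ℂ) ⟨c, hCG c.2⟩) (β : C → ℂ) = (m : ℂ) →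
        ¬ p ∣ m → β = β₀ := by
    intro χ _ β₀ hoth β m hm hpm
    by_contra hne
    obtain ⟨m', hm', hpm'⟩ := hoth β hne
    rw [hm] at hm'
    have : m = m' := by exact_mod_cast hm'
    exact hpm (this ▸ hpm')
  refine ⟨?_, ?_, ?_, ?_⟩
  · intro χ hχ
    obtain ⟨β₀, ⟨m, hm, hm1⟩, hoth⟩ := hA χ hχ
    refine ⟨β₀, ⟨m, hm, not_dvd_of_pm_one hp m hm1⟩, ?_⟩
    rintro β ⟨m', hm', hpm'⟩
    exact huniq χ hχ β₀ hoth β m' hm' hpm'
  · intro χ hχ β m hm hpm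
    obtain ⟨β₀, ⟨m₀, hm₀, hm1⟩, hoth⟩ := hA χ hχ
    have hβ := huniq χ hχ β₀ hoth β m hm hpm
    rw [hβ, hm₀] at hm
    have : m₀ = m := by exact_mod_cast hm
    rw [← this]
    exact hm1
  · intro χ χ' hχ hχ' β m m' hm hpm hm' hpm'
    exact hB χ χ' hχ hχ' β m m' hm hpm hm' hpm'
  · intro β
    obtain ⟨χ, hχ, m, hm, hpm⟩ := hCc β
    exact ⟨χ, hχ, m, hm, hpm⟩

end Cfsg.Agent.S4444
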