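import Cfsg.Statements.S4447
import Cfsg.Agent.Lib.Helper4.RelAction
import Cfsg.Agent.Lib.Helper4.RelClifford
import Cfsg.Agent.Lib.Helper13.Glauberman

set_option autoImplicit false
open Cfsg

namespace Cfsg.Agent.S4447

open Cfsg.Agent.Lib.Helper26 Cfsg.Agent.Lib.Helper4 Cfsg.Agent.Lib.Helper7
open scoped ComplexConjugate


/-- Inside a finite group Γ let S normalise G and also normalise a normal subgroup N of G, with the order of S coprime to the index of N in G and S or G/N solvable. Then for every S-invariant irreducible character χ of G, the restriction of χ to N has an S-invariant irreducible constituent. -/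
theorem result {Γ : Type*} [Group Γ] [Fintype Γ] (G S N : Subgroup Γ) [Fintype G] [Fintype N] (hnorm : ∀ s ∈ S, ∀ g ∈ G, s * g * s⁻¹ ∈ G) (hNG : N ≤ G) [hNn : (N.subgroupOf G).Normal] (hNS : ∀ s ∈ S, ∀ n ∈ N, s * n * s⁻¹ ∈ N) (hcop : (N.relIndex G).Coprime (Nat.card S)) (hsolv : Group.IsSolvable S ∨ Group.IsSolvable (G ⧸ N.subgroupOf G)) (χ : Cfsg.IrrCharacter G) (hinv : (∀ s ∈ S, ∀ g g' : G, (g' : Γ) = s * g * s⁻¹ → (χ : G → ℂ) g' = (χ : G → ℂ) g)) : ∃ θ : Cfsg.IrrCharacter N, Cfsg.classInner (fun n : N => (χ : G → ℂ) ⟨n, hNG n.2⟩) (θ : N → ℂ) ≠ 0 ∧ (∀ s ∈ S, ∀ g g' : N, (g' : Γ) = s * g * s⁻¹ → (θ : N → ℂ) g' = (θ : N → ℂ) g) := by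
  classical
  -- S and G normalize N
  have hSN : S ≤ Subgroup.normalizer (N : Set Γ) := by
    intro s hs
    rw [Subgroup.mem_normalizer_iff]
    intro n
    constructor
    · intro hn
      exact hNS s hs n hn
    · intro hn
      have h1 := hNS s⁻¹ (S.inv_mem hs) _ hn
      have h2 : s⁻¹ * (s * n * s⁻¹) * s⁻¹⁻¹ = n := by group
      rwa [h2] at h1
  have hGN : G ≤ Subgroup.normalizer (N : Set Γ) := by
    intro g hg
    rw [Subgroup.mem_normalizer_iff]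
    intro n
    constructor
    · intro hn
      have h1 := hNn.conj_mem ⟨n, hNG hn⟩ (Subgroup.mem_subgroupOf.mpr hn) ⟨g, hg⟩
      exact Subgroup.mem_subgroupOf.mp h1
    · intro hn
      have h1 := hNn.conj_mem ⟨g * n * g⁻¹, hNG hn⟩ (Subgroup.mem_subgroupOf.mpr hn) ⟨g, hg⟩⁻¹
      have h2 := Subgroup.mem_subgroupOf.mp h1
      have h3 : (((⟨g, hg⟩ : G)⁻¹ * ⟨g * n * g⁻¹, hNG hn⟩ * (⟨g, hg⟩ : G)⁻¹⁻¹ : G) : Γ) = n := by
        show g⁻¹ * (g * n * g⁻¹) * g⁻¹⁻¹ = n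
        group
      rwa [h3] at h2
  letI := normalizerIrrAction N
  let φ : ↥(Subgroup.normalizer (N : Set Γ)) →* Equiv.Perm (Cfsg.IrrCharacter N) :=
    MulAction.toPermHom _ _
  have hφ : ∀ (x : ↥(Subgroup.normalizer (N : Set Γ))) (θ : Cfsg.IrrCharacter N),
      φ x θ = x • θ := fun x θ => rfl
  let ψS : ↥S →* Equiv.Perm (Cfsg.IrrCharacter N) := φ.comp (Subgroup.inclusion hSN)
  let ψG : ↥G →* Equiv.Perm (Cfsg.IrrCharacter N) := φ.comp (Subgroup.inclusion hGN)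
  have hψS : ∀ (s : ↥S) (θ : Cfsg.IrrCharacter N),
      ψS s θ = (⟨(s : Γ), hSN s.2⟩ : ↥(Subgroup.normalizer (N : Set Γ))) • θ := fun s θ => rfl
  have hψG : ∀ (g : ↥G) (θ : Cfsg.IrrCharacter N),
      ψG g θ = (⟨(g : Γ), hGN g.2⟩ : ↥(Subgroup.normalizer (N : Set Γ))) • θ := fun g θ => rfl
  -- conjugation of ψG by ψS
  have hconj : ∀ (s : ↥S) (g : ↥G), ψS s * ψG g * (ψS s)⁻¹ =
      ψG ⟨(s : Γ) * g * (s : Γ)⁻¹, hnorm s s.2 g g.2⟩ := by
    intro s g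
    rw [← map_inv]
    show φ _ * φ _ * φ _ = φ _
    rw [← map_mul, ← map_mul]
    congr 1
  -- N acts trivially
  have hker : N.subgroupOf G ≤ ψG.ker := by
    intro g hg
    rw [MonoidHom.mem_ker]
    ext θ : 1
    rw [hψG, Equiv.Perm.coe_one, id]
    rw [normalizerIrrAction_eq_iff]
    intro n n' hn'
    have hcf := Cfsg.Agent.Lib.Helper26.isClassFunction_of_isIrrCharacter θ.2
    have h1 := hcf n ⟨(g : Γ), Subgroup.mem_subgroupOf.mp hg⟩
    rw [← h1]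
    refine congrArg (θ : N → ℂ) (Subtype.ext ?_)
    rw [hn']
    rfl
  have hAK : ψS.range ≤ Subgroup.normalizer (ψG.range : Set (Equiv.Perm (Cfsg.IrrCharacter N))) := by
    rintro a ⟨s, rfl⟩
    rw [Subgroup.mem_normalizer_iff]
    intro k
    constructor
    · rintro ⟨g, rfl⟩
      rw [hconj]
      exact ⟨_, rfl⟩
    · intro hk
      obtain ⟨g, hg⟩ := hk
      have h1 : k = ψS s⁻¹ * ψG g * (ψS s⁻¹)⁻¹ := by
        rw [hg, map_inv]
        group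
      rw [h1, hconj]
      exact ⟨_, rfl⟩
  have hcopAK : (Nat.card ψS.range).Coprime (Nat.card ψG.range) := by
    have h1 : Nat.card ψS.range ∣ Nat.card S := Subgroup.card_range_dvd ψS
    have h2 : Nat.card ψG.range ∣ N.relIndex G := by
      rw [← Subgroup.index_ker]
      exact Subgroup.index_dvd_of_le hker
    exact (Nat.Coprime.coprime_dvd_left h2 (Nat.Coprime.coprime_dvd_right h1 hcop)).symm
  have hsolvAK : Group.IsSolvable ψS.range ∨ Group.IsSolvable ψG.range := by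
    rcases hsolv with h | h
    · left
      exact Group.isSolvable_of_surjective ψS.rangeRestrict_surjective
    · right
      have hlift : ∀ x ∈ N.subgroupOf G, ψG.rangeRestrict x = 1 := by
        intro x hx
        apply Subtype.ext
        exact MonoidHom.mem_ker.mp (hker hx)
      exact Group.isSolvable_of_surjective
        (f := QuotientGroup.lift (N.subgroupOf G) ψG.rangeRestrict hlift)
        (QuotientGroup.lift_surjective_of_surjective _ _ ψG.rangeRestrict_surjective _)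
  -- the set of constituents
  let SΩ : Set (Cfsg.IrrCharacter N) :=
    {θ | Cfsg.classInner (fun n : N => (χ : G → ℂ) ⟨n, hNG n.2⟩) (θ : N → ℂ) ≠ 0}
  have hχN : Cfsg.IsCharacter N (fun n : N => (χ : G → ℂ) ⟨n, hNG n.2⟩) :=
    Cfsg.Agent.Lib.Helper2.isCharacter_comp_hom (isCharacter_of_isIrrCharacter χ.2)
      (Subgroup.inclusion hNG)
  have hSne : SΩ.Nonempty := by
    obtain ⟨d, hd0, hd⟩ := irr_degree χ.2
    have h1 : (fun n : N => (χ : G → ℂ) ⟨n, hNG n.2⟩) 1 ≠ 0 := by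
      show (χ : G → ℂ) ⟨((1 : N) : Γ), _⟩ ≠ 0
      have h2 : (⟨((1 : N) : Γ), hNG (1 : N).2⟩ : G) = 1 := Subtype.ext rfl
      rw [h2, hd]
      exact_mod_cast hd0.ne'
    obtain ⟨μ, hμ⟩ := exists_constituent hχN h1
    exact ⟨μ, hμ⟩
  -- invariance of the restriction
  have hinvG : ∀ (g : ↥G) (n : N), (fun n : N => (χ : G → ℂ) ⟨n, hNG n.2⟩)
      (conjNorm N ⟨(g : Γ), hGN g.2⟩ n) = (fun n : N => (χ : G → ℂ) ⟨n, hNG n.2⟩) n := by
    intro g n
    have hcf := Cfsg.Agent.Lib.Helper26.isClassFunction_of_isIrrCharacter χ.2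
    have h1 := hcf ⟨n, hNG n.2⟩ g
    show (χ : G → ℂ) ⟨((conjNorm N ⟨(g : Γ), hGN g.2⟩ n : N) : Γ), _⟩ = (χ : G → ℂ) ⟨n, hNG n.2⟩
    rw [← h1]
    congr 1
  have hinvS : ∀ (s : ↥S) (n : N), (fun n : N => (χ : G → ℂ) ⟨n, hNG n.2⟩)
      (conjNorm N ⟨(s : Γ), hSN s.2⟩ n) = (fun n : N => (χ : G → ℂ) ⟨n, hNG n.2⟩) n := by
    intro s n
    exact hinv s s.2 ⟨n, hNG n.2⟩ _ rfl
  have hK : ∀ k ∈ ψG.range, ∀ x ∈ SΩ, k • x ∈ SΩ := by
    rintro k ⟨g, rfl⟩ x hx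
    show Cfsg.classInner _ ((ψG g x : Cfsg.IrrCharacter N) : N → ℂ) ≠ 0
    rw [hψG, classInner_smul_of_invariant N _ _ (hinvG g)]
    exact hx
  have hA : ∀ a ∈ ψS.range, ∀ x ∈ SΩ, a • x ∈ SΩ := by
    rintro a ⟨s, rfl⟩ x hx
    show Cfsg.classInner _ ((ψS s x : Cfsg.IrrCharacter N) : N → ℂ) ≠ 0
    rw [hψS, classInner_smul_of_invariant N _ _ (hinvS s)]
    exact hx
  have htrans : ∀ x ∈ SΩ, ∀ y ∈ SΩ, ∃ k ∈ ψG.range, k • x = y := by
    intro x hx y hy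
    obtain ⟨g, hg, hgxy⟩ := rel_constituents_conj G N hNG (χ : G → ℂ) χ.2 (x : N → ℂ) (y : N → ℂ)
      x.2 y.2 hx hy
    refine ⟨ψG ⟨g⁻¹, G.inv_mem hg⟩, ⟨_, rfl⟩, ?_⟩
    show ψG ⟨g⁻¹, G.inv_mem hg⟩ x = y
    rw [hψG, normalizerIrrAction_eq_iff]
    intro n n' hn'
    apply hgxy
    rw [hn']
    show (n : Γ) = g * (g⁻¹ * (n : Γ) * g⁻¹⁻¹) * g⁻¹
    group
  obtain ⟨θ, hθ, hfix⟩ := Cfsg.Agent.Lib.Helper13.glauberman_exists ψS.range ψG.range hAK hcopAK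
    hsolvAK SΩ hSne htrans hK hA
  refine ⟨θ, hθ, ?_⟩
  intro s hs
  have h1 := hfix (ψS ⟨s, hs⟩) ⟨_, rfl⟩
  have h2 : (⟨s, hSN hs⟩ : ↥(Subgroup.normalizer (N : Set Γ))) • θ = θ := h1
  rw [normalizerIrrAction_eq_iff] at h2
  exact h2

end Cfsg.Agent.S4447
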