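import Cfsg.Statements.S4448
import Cfsg.Agent.Lib.Helper4.AbelianAbove

set_option autoImplicit false
open Cfsg

namespace Cfsg.Agent.S4448

open Cfsg.Agent.Lib.Helper26 Cfsg.Agent.Lib.Helper4 Cfsg.Agent.Lib.Helper7
open scoped ComplexConjugate

theorem main {Γ : Type*} [Group Γ] [Finite Γ] (S : Subgroup Γ) (k : ℕ) :
    ∀ (G N : Subgroup Γ) (_iG : Fintype G) (_iN : Fintype N)
      (_hnorm : ∀ s ∈ S, ∀ g ∈ G, s * g * s⁻¹ ∈ G) (hNG : N ≤ G)
      (_hNn : (N.subgroupOf G).Normal)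
      (_hNS : ∀ s ∈ S, ∀ n ∈ N, s * n * s⁻¹ ∈ N) (_hcop : (N.relIndex G).Coprime (Nat.card S))
      (_hder : derivedSeries ↥G k ≤ N.subgroupOf G) (θ : Cfsg.IrrCharacter N)
      (_hinv : ∀ s ∈ S, ∀ g g' : N, (g' : Γ) = s * g * s⁻¹ →
        (θ : N → ℂ) g' = (θ : N → ℂ) g),
      ∃ χ : Cfsg.IrrCharacter G,
        Cfsg.classInner (fun n : N => (χ : G → ℂ) ⟨n, hNG n.2⟩) (θ : N → ℂ) ≠ 0 ∧
        (∀ s ∈ S, ∀ g g' : G, (g' : Γ) = s * g * s⁻¹ → (χ : G → ℂ) g' = (χ : G → ℂ) g) := by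
  classical
  induction k with
  | zero =>
    intro G N iG iN hnorm hNG hNn hNS hcop hder θ hinv
    have hGN : G ≤ N := by
      intro g hg
      have h1 : (⟨g, hg⟩ : G) ∈ derivedSeries ↥G 0 := by
        rw [derivedSeries_zero]
        exact Subgroup.mem_top _
      exact Subgroup.mem_subgroupOf.mp (hder h1)
    obtain rfl : N = G := le_antisymm hNG hGN
    obtain rfl : iG = iN := Subsingleton.elim _ _
    refine ⟨θ, ?_, hinv⟩
    show Cfsg.classInner (θ : N → ℂ) (θ : N → ℂ) ≠ 0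
    rw [Cfsg.Agent.Lib.Helper26.classInner_irr θ.2 θ.2, if_pos rfl]
    exact one_ne_zero
  | succ k ih =>
    intro G N iG iN hnorm hNG hNn hNS hcop hder θ hinv
    have hSG : S ≤ Subgroup.normalizer (G : Set Γ) := le_normalizer_of_conj_mem S G hnorm
    -- the intermediate subgroup
    let M' : Subgroup ↥G := N.subgroupOf G ⊔ derivedSeries ↥G k
    let M : Subgroup Γ := M'.map G.subtype
    have hMG : M ≤ G := Subgroup.map_subtype_le M'
    have hMsub : M.subgroupOf G = M' :=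
      Subgroup.comap_map_eq_self_of_injective G.subtype_injective M'
    have hmemM : ∀ (x : Γ) (hx : x ∈ G), x ∈ M ↔ (⟨x, hx⟩ : G) ∈ M' := by
      intro x hx
      rw [← hMsub, Subgroup.mem_subgroupOf]
    have hNM : N ≤ M := by
      intro n hn
      rw [hmemM n (hNG hn)]
      exact (le_sup_left : N.subgroupOf G ≤ M') (Subgroup.mem_subgroupOf.mpr hn)
    have hMn : (M.subgroupOf G).Normal := by
      rw [hMsub]
      infer_instance
    -- N is normal in M
    have hNMn : (N.subgroupOf M).Normal := by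
      constructor
      intro x hx g
      rw [Subgroup.mem_subgroupOf] at hx ⊢
      have h1 := hNn.conj_mem ⟨(x : Γ), hMG x.2⟩ (Subgroup.mem_subgroupOf.mpr hx)
        ⟨(g : Γ), hMG g.2⟩
      exact Subgroup.mem_subgroupOf.mp h1
    -- S normalizes M
    have hMS : ∀ s ∈ S, ∀ m ∈ M, s * m * s⁻¹ ∈ M := by
      intro s hs m hm
      have hmG : m ∈ G := hMG hm
      have hm' : (⟨m, hmG⟩ : G) ∈ M' := (hmemM m hmG).mp hm
      let c : ↥G ≃* ↥G := conjNorm G ⟨s, hSG hs⟩
      have hcm : c ⟨m, hmG⟩ ∈ M'.map c.toMonoidHom := Subgroup.mem_map_of_mem _ hm'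
      have hle : M'.map c.toMonoidHom ≤ M' := by
        rw [Subgroup.map_sup]
        apply sup_le_sup
        · rintro _ ⟨x, hx, rfl⟩
          rw [Subgroup.mem_subgroupOf]
          exact hNS s hs _ (Subgroup.mem_subgroupOf.mp hx)
        · exact (map_derivedSeries_eq (f := c.toMonoidHom) c.surjective k).le
      have h1 := hle hcm
      have h2 : s * m * s⁻¹ ∈ G := hnorm s hs m hmG
      rw [hmemM _ h2]
      exact h1
    -- commutators of M lie in N
    have hab : ∀ a b : ↥M, a * b * a⁻¹ * b⁻¹ ∈ N.subgroupOf M := by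
      intro a b
      rw [Subgroup.mem_subgroupOf]
      have ha : (⟨(a : Γ), hMG a.2⟩ : G) ∈ M' := (hmemM _ _).mp a.2
      have hb : (⟨(b : Γ), hMG b.2⟩ : G) ∈ M' := (hmemM _ _).mp b.2
      have h1 := comm_mem_of_derived (N.subgroupOf G) k hder _ _ ha hb
      exact Subgroup.mem_subgroupOf.mp h1
    -- indices
    have hidx : N.relIndex M * M.relIndex G = N.relIndex G :=
      Subgroup.relIndex_mul_relIndex N M G hNM hMG
    have hcop1 : (N.relIndex M).Coprime (Nat.card S) :=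
      Nat.Coprime.coprime_dvd_left (Dvd.intro _ hidx) hcop
    have hcop2 : (M.relIndex G).Coprime (Nat.card S) :=
      Nat.Coprime.coprime_dvd_left (Dvd.intro_left _ hidx) hcop
    have iM : Fintype M := Fintype.ofFinite _
    -- going up to M
    obtain ⟨φ, hφ, hφinv⟩ := exists_invariant_above_of_abelian M S N hMS hNM hNS hcop1 hab θ hinv
    -- going up to G
    have hder' : derivedSeries ↥G k ≤ M.subgroupOf G := by
      rw [hMsub]
      exact le_sup_right
    obtain ⟨χ, hχ, hχinv⟩ := ih G M iG iM hnorm hMG hMn hMS hcop2 hder' φ hφinv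
    refine ⟨χ, ?_, hχinv⟩
    exact classInner_restrict_ne_zero_trans G M N hNM hMG (χ : G → ℂ)
      (isCharacter_of_isIrrCharacter χ.2) φ (θ : N → ℂ) (isCharacter_of_isIrrCharacter θ.2) hχ hφ

/-- Inside a finite group Γ let S normalise G and also normalise a normal subgroup N of G, with the order of S coprime to the index of N in G and G/N solvable. Then for every S-invariant irreducible character ϑ of N, the induced character ϑ^G has an S-invariant irreducible constituent. -/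
theorem result {Γ : Type*} [Group Γ] [Fintype Γ] (G S N : Subgroup Γ) [Fintype G] [Fintype N] (hnorm : ∀ s ∈ S, ∀ g ∈ G, s * g * s⁻¹ ∈ G) (hNG : N ≤ G) [hNn : (N.subgroupOf G).Normal] (hNS : ∀ s ∈ S, ∀ n ∈ N, s * n * s⁻¹ ∈ N) (hcop : (N.relIndex G).Coprime (Nat.card S)) (hsolv : Group.IsSolvable (G ⧸ N.subgroupOf G)) (θ : Cfsg.IrrCharacter N) (hinv : (∀ s ∈ S, ∀ g g' : N, (g' : Γ) = s * g * s⁻¹ → (θ : N → ℂ) g' = (θ : N → ℂ) g)) : ∃ χ : Cfsg.IrrCharacter G, Cfsg.classInner (fun n : N => (χ : G → ℂ) ⟨n, hNG n.2⟩) (θ : N → ℂ) ≠ 0 ∧ (∀ s ∈ S, ∀ g g' : G, (g' : Γ) = s * g * s⁻¹ → (χ : G → ℂ) g' = (χ : G → ℂ) g) := by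
  classical
  have hsolv' := hsolv
  rw [Group.isSolvable_def] at hsolv'
  obtain ⟨k, hk⟩ := hsolv'
  have hder : derivedSeries ↥G k ≤ N.subgroupOf G := by
    have h1 := map_derivedSeries_eq (f := QuotientGroup.mk' (N.subgroupOf G))
      (QuotientGroup.mk'_surjective _) k
    rw [hk] at h1
    intro x hx
    rw [← QuotientGroup.ker_mk' (N.subgroupOf G), MonoidHom.mem_ker]
    have h2 : QuotientGroup.mk' (N.subgroupOf G) x ∈
        (derivedSeries ↥G k).map (QuotientGroup.mk' (N.subgroupOf G)) :=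
      Subgroup.mem_map_of_mem _ hx
    rw [h1] at h2
    exact Subgroup.mem_bot.mp h2
  exact main S k G N inferInstance inferInstance hnorm hNG hNn hNS hcop hder θ hinv

end Cfsg.Agent.S4448
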