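import Mathlib
import Cfsg.Prelude
import Cfsg.Agent.Lib.Helper7.InvAboveA
import Cfsg.Agent.Lib.Helper7.InvAboveF

set_option autoImplicit false
open Cfsg

namespace Cfsg.Agent.S4450

/-- Let N ≤ G be normal subgroups of the finite group Γ with the index of G in Γ coprime to the index of N in G, and Γ/G or G/N solvable. Then for every irreducible character ϑ of N invariant under conjugation by Γ, the induced character ϑ^G has an irreducible constituent invariant under conjugation by Γ. -/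
theorem result {Γ : Type*} [Group Γ] [Fintype Γ] (G N : Subgroup Γ) [hG : G.Normal] [hN : N.Normal] [Fintype G] [Fintype N] (hNG : N ≤ G) (hcop : (G.index).Coprime (N.relIndex G)) (hsolv : Group.IsSolvable (Γ ⧸ G) ∨ Group.IsSolvable (G ⧸ N.subgroupOf G)) (θ : Cfsg.IrrCharacter N) (hinv : ∀ (x : Γ) (n : N), (θ : N → ℂ) ⟨x * n * x⁻¹, hN.conj_mem n n.2 x⟩ = (θ : N → ℂ) n) : ∃ χ : Cfsg.IrrCharacter G, Cfsg.classInner (fun n : N => (χ : G → ℂ) ⟨n, hNG n.2⟩) (θ : N → ℂ) ≠ 0 ∧ ∀ (x : Γ) (g : G), (χ : G → ℂ) ⟨x * g * x⁻¹, hG.conj_mem g g.2 x⟩ = (χ : G → ℂ) g := by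
  classical
  rcases hsolv with hsolv | hsolv
  · -- `Γ ⧸ G` solvable
    have hsolv' := hsolv
    rw [Group.isSolvable_def] at hsolv'
    obtain ⟨k, hk⟩ := hsolv'
    have hder : derivedSeries Γ k ≤ G := by
      have h1 := map_derivedSeries_eq (f := QuotientGroup.mk' G)
        (QuotientGroup.mk'_surjective _) k
      rw [hk] at h1
      intro x hx
      have h2 : QuotientGroup.mk' G x ∈ (derivedSeries Γ k).map (QuotientGroup.mk' G) :=
        ⟨x, hx, rfl⟩
      rw [h1, Subgroup.mem_bot] at h2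
      exact (QuotientGroup.eq_one_iff x).mp h2
    obtain ⟨χ, hχ, hχN, hχinv⟩ :=
      Cfsg.Agent.Lib.Helper7.InvAbove.top_solvable G N hNG hcop k hder (θ : N → ℂ) θ.2
        (by
          intro x n n' h
          have h1 : n' = ⟨x * n * x⁻¹, hN.conj_mem n n.2 x⟩ := Subtype.ext h
          rw [h1]
          exact hinv x n)
    exact ⟨⟨χ, hχ⟩, hχN, fun x g => hχinv x g _ rfl⟩
  · exact Cfsg.Agent.Lib.Helper7.InvAbove.solvable_bottom G N hNG hcop hsolv θ hinv


end Cfsg.Agent.S4450
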