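import Mathlib
import Cfsg.Prelude
import Cfsg.Agent.S0886
import Cfsg.Agent.S0857
import Cfsg.Agent.S0900
import Cfsg.Agent.Lib.Helper26.TIInd
import Cfsg.Agent.Lib.Helper26.CohExt
import Cfsg.Agent.Lib.Helper7.CoprimeCount
import Cfsg.Agent.Lib.Helper7.GlaubFpf
import Cfsg.Agent.Lib.Helper7.FrobRam
import Cfsg.Agent.Lib.Helper28.DadeA

set_option autoImplicit false
open Cfsg

namespace Cfsg.Agent.S4454

open Cfsg.Agent.Lib.Helper26 Cfsg.Agent.Lib.Helper2 Cfsg.Agent.Lib.Helper7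
open scoped ComplexConjugate

/-- Let N ≤ G be normal subgroups of the finite group Γ with Γ/G cyclic and Γ/N a Frobenius group with kernel G/N: G ≠ Γ, N ≠ G, and no element of Γ outside G fixes a non-identity coset of N in G under conjugation. Let ϑ be an irreducible character of N invariant under conjugation by Γ and suppose ϑ is fully ramified in G: the character of G induced from ϑ equals e·χ for an irreducible character χ of G and a natural number e. Then the index of G in Γ divides e − 1 or e + 1. -/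
theorem result {Γ : Type*} [Group Γ] [Fintype Γ] (G N : Subgroup Γ) [hG : G.Normal] [hN : N.Normal] [Fintype G] [Fintype N] (hNG : N ≤ G) (hGlt : G ≠ ⊤) (hNlt : N ≠ G) (hcyc : IsCyclic (Γ ⧸ G)) (hfrob : ∀ x : Γ, x ∉ G → ∀ g : Γ, g ∈ G → x * g * x⁻¹ * g⁻¹ ∈ N → g ∈ N) (θ : Cfsg.IrrCharacter N) (hinv : ∀ (x : Γ) (n : N), (θ : N → ℂ) ⟨x * n * x⁻¹, hN.conj_mem n n.2 x⟩ = (θ : N → ℂ) n) (χ : Cfsg.IrrCharacter G) (e : ℕ) (hram : Cfsg.indFun (N.subgroupOf G) (fun n : N.subgroupOf G => (θ : N → ℂ) ⟨(n : G), n.2⟩) = fun g => (e : ℂ) * (χ : G → ℂ) g) : (G.index : ℤ) ∣ (e : ℤ) - 1 ∨ (G.index : ℤ) ∣ (e : ℤ) + 1 := by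
  classical
  haveI hGn : G.Normal := hG
  haveI hNn : N.Normal := hN
  set n := G.index with hn
  have hn0 : n ≠ 0 := Subgroup.index_ne_zero_of_finite
  have hn1 : n ≠ 1 := fun h => hGlt (Subgroup.index_eq_one.mp h)
  have hn2 : 2 ≤ n := by omega
  obtain ⟨q, hq⟩ := hcyc.exists_generator
  obtain ⟨x, rfl⟩ := QuotientGroup.mk_surjective q
  have hxG : x ∉ G := by
    intro hx
    apply hGlt
    rw [eq_top_iff]
    intro γ _
    obtain ⟨i, hi⟩ := Subgroup.mem_zpowers_iff.mp (hq (QuotientGroup.mk γ))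
    have h1 : (QuotientGroup.mk x : Γ ⧸ G) = 1 := (QuotientGroup.eq_one_iff x).mpr hx
    rw [h1, one_zpow] at hi
    exact (QuotientGroup.eq_one_iff γ).mp hi.symm
  have hdecomp : ∀ γ : Γ, ∃ i : ℤ, γ * (x ^ i)⁻¹ ∈ G := by
    intro γ
    obtain ⟨i, hi⟩ := Subgroup.mem_zpowers_iff.mp (hq (QuotientGroup.mk γ))
    refine ⟨i, ?_⟩
    apply (QuotientGroup.eq_one_iff _).mp
    rw [QuotientGroup.mk_mul, QuotientGroup.mk_inv, QuotientGroup.mk_zpow, hi, mul_inv_cancel]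
  have hpowN : ∀ i : ℤ, x ^ i ∈ G → x ^ i ∈ N := by
    intro i hi
    apply hfrob x hxG (x ^ i) hi
    have : x * x ^ i * x⁻¹ * (x ^ i)⁻¹ = 1 := by group
    rw [this]; exact N.one_mem
  set H : Subgroup Γ := N ⊔ Subgroup.zpowers x with hH
  have hNH : N ≤ H := le_sup_left
  have hxH : x ∈ H := (le_sup_right : Subgroup.zpowers x ≤ H) (Subgroup.mem_zpowers x)
  have hHmem : ∀ h : Γ, h ∈ H → ∃ m ∈ N, ∃ i : ℤ, m * x ^ i = h := by
    intro h hh
    rw [hH, ← SetLike.mem_coe, Subgroup.normal_mul, Set.mem_mul] at hh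
    obtain ⟨m, hm, z, hz, rfl⟩ := hh
    obtain ⟨i, rfl⟩ := Subgroup.mem_zpowers_iff.mp hz
    exact ⟨m, hm, i, rfl⟩
  have hHG : ∀ h ∈ H, h ∈ G → h ∈ N := by
    intro h hh hhG
    obtain ⟨m, hm, i, rfl⟩ := hHmem h hh
    have : x ^ i ∈ G := by
      have := G.mul_mem (G.inv_mem (hNG hm)) hhG
      simpa using this
    exact N.mul_mem hm (hpowN i this)
  have hTI : ∀ t ∈ H, t ∉ N → ∀ u : Γ, u * t * u⁻¹ ∈ H → u ∈ H := by
    intro t htH htN u hu
    have htG : t ∉ G := fun h => htN (hHG t htH h)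
    obtain ⟨i, hi⟩ := hdecomp u
    obtain ⟨g, hg⟩ : ∃ g, g = u * (x ^ i)⁻¹ := ⟨_, rfl⟩
    rw [← hg] at hi
    have hxiH : x ^ i ∈ H := H.zpow_mem hxH i
    obtain ⟨t', ht'⟩ : ∃ t', t' = x ^ i * t * (x ^ i)⁻¹ := ⟨_, rfl⟩
    have ht'H : t' ∈ H := by
      rw [ht']; exact H.mul_mem (H.mul_mem hxiH htH) (H.inv_mem hxiH)
    have ht'G : t' ∉ G := by
      intro h
      apply htG
      have := hGn.conj_mem t' h (x ^ i)⁻¹
      have e : (x ^ i)⁻¹ * t' * ((x ^ i)⁻¹)⁻¹ = t := by rw [ht']; group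
      rwa [e] at this
    have h1 : g * t' * g⁻¹ ∈ H := by
      have e : g * t' * g⁻¹ = u * t * u⁻¹ := by rw [hg, ht']; group
      rw [e]; exact hu
    have h2 : t' * g * t'⁻¹ * g⁻¹ ∈ N := by
      apply hHG
      · have e : t' * g * t'⁻¹ * g⁻¹ = t' * (g * t' * g⁻¹)⁻¹ := by group
        rw [e]; exact H.mul_mem ht'H (H.inv_mem h1)
      · exact G.mul_mem (hGn.conj_mem g hi t') (G.inv_mem hi)
    have hgN : g ∈ N := hfrob t' ht'G g hi h2
    have e : u = g * x ^ i := by rw [hg]; group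
    rw [e]; exact H.mul_mem (hNH hgN) hxiH
  -- covering
  have hcov : ∀ γ : Γ, γ ∉ G → ∃ u : Γ, u * γ * u⁻¹ ∈ H := by
    intro γ hγ
    obtain ⟨i, hi⟩ := hdecomp γ
    obtain ⟨g, hg⟩ : ∃ g, g = γ * (x ^ i)⁻¹ := ⟨_, rfl⟩
    rw [← hg] at hi
    obtain ⟨y, hy⟩ : ∃ y, y = x ^ i := ⟨_, rfl⟩
    have hγe : γ = g * y := by rw [hg, hy]; group
    have hyH : y ∈ H := by rw [hy]; exact H.zpow_mem hxH i
    have hyG : y ∉ G := by
      intro h
      apply hγ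
      rw [hγe]; exact G.mul_mem hi h
    set Gb : Subgroup (Γ ⧸ N) := G.map (QuotientGroup.mk' N) with hGb
    haveI hGbn : Gb.Normal := Subgroup.Normal.map hGn _ (QuotientGroup.mk'_surjective N)
    set yb : Γ ⧸ N := QuotientGroup.mk y with hyb
    have hfrobQ : ∀ w ∈ Gb, yb * w * yb⁻¹ * w⁻¹ = 1 → w = 1 := by
      intro w hw hcomm
      obtain ⟨g', hg', rfl⟩ := Subgroup.mem_map.mp hw
      have h1 : y * g' * y⁻¹ * g'⁻¹ ∈ N := by
        apply (QuotientGroup.eq_one_iff _).mp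
        rw [QuotientGroup.mk_mul, QuotientGroup.mk_mul, QuotientGroup.mk_mul, QuotientGroup.mk_inv,
          QuotientGroup.mk_inv]
        exact hcomm
      exact (QuotientGroup.eq_one_iff g').mpr (hfrob y hyG g' hg' h1)
    let φ : Gb → Gb := fun a => ⟨(a : Γ ⧸ N)⁻¹ * yb * (a : Γ ⧸ N) * yb⁻¹, by
      have h1 : (a : Γ ⧸ N)⁻¹ * yb * (a : Γ ⧸ N) * yb⁻¹ =
          (a : Γ ⧸ N)⁻¹ * (yb * (a : Γ ⧸ N) * yb⁻¹) := by group
      rw [h1]
      exact Gb.mul_mem (Gb.inv_mem a.2) (hGbn.conj_mem _ a.2 yb)⟩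
    have hφinj : Function.Injective φ := by
      intro a b hab
      have h0 : (a : Γ ⧸ N)⁻¹ * yb * (a : Γ ⧸ N) * yb⁻¹ =
          (b : Γ ⧸ N)⁻¹ * yb * (b : Γ ⧸ N) * yb⁻¹ :=
        congrArg Subtype.val hab
      have h1 : (a : Γ ⧸ N)⁻¹ * yb * (a : Γ ⧸ N) = (b : Γ ⧸ N)⁻¹ * yb * (b : Γ ⧸ N) :=
        mul_right_cancel h0
      have h2 : yb * ((b : Γ ⧸ N) * (a : Γ ⧸ N)⁻¹) * yb⁻¹ * ((b : Γ ⧸ N) * (a : Γ ⧸ N)⁻¹)⁻¹ = 1 := by
        calc yb * ((b : Γ ⧸ N) * (a : Γ ⧸ N)⁻¹) * yb⁻¹ * ((b : Γ ⧸ N) * (a : Γ ⧸ N)⁻¹)⁻¹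
            = (b : Γ ⧸ N) * ((b : Γ ⧸ N)⁻¹ * yb * (b : Γ ⧸ N)) * (a : Γ ⧸ N)⁻¹ * yb⁻¹ *
                ((b : Γ ⧸ N) * (a : Γ ⧸ N)⁻¹)⁻¹ := by group
          _ = (b : Γ ⧸ N) * ((a : Γ ⧸ N)⁻¹ * yb * (a : Γ ⧸ N)) * (a : Γ ⧸ N)⁻¹ * yb⁻¹ *
                ((b : Γ ⧸ N) * (a : Γ ⧸ N)⁻¹)⁻¹ := by rw [h1]
          _ = 1 := by group
      have h3 := hfrobQ _ (Gb.mul_mem b.2 (Gb.inv_mem a.2)) h2
      apply Subtype.ext
      have h4 : (b : Γ ⧸ N) = a := by
        have := mul_inv_eq_one.mp h3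
        exact this
      exact h4.symm
    have hφsurj : Function.Surjective φ := Finite.surjective_of_injective hφinj
    obtain ⟨a, ha⟩ := hφsurj ⟨QuotientGroup.mk g, Subgroup.mem_map.mpr ⟨g, hi, rfl⟩⟩
    obtain ⟨u, hu⟩ := QuotientGroup.mk_surjective (a : Γ ⧸ N)
    have h0 : (a : Γ ⧸ N)⁻¹ * yb * (a : Γ ⧸ N) * yb⁻¹ = QuotientGroup.mk g :=
      congrArg Subtype.val ha
    have h1 : (QuotientGroup.mk (u⁻¹ * y * u) : Γ ⧸ N) = QuotientGroup.mk (g * y) := by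
      rw [QuotientGroup.mk_mul, QuotientGroup.mk_mul, QuotientGroup.mk_mul, QuotientGroup.mk_inv,
        hu, ← h0, ← hyb]
      group
    have h2 : (u⁻¹ * y * u)⁻¹ * (g * y) ∈ N := QuotientGroup.eq.mp h1
    refine ⟨u, ?_⟩
    have h3 : u * γ * u⁻¹ = y * (u * ((u⁻¹ * y * u)⁻¹ * (g * y)) * u⁻¹) := by
      rw [hγe]; group
    rw [h3]
    exact H.mul_mem hyH (hNH (hNn.conj_mem _ h2 u))
  -- the quotient H/N
  haveI : Fintype H := Fintype.ofFinite H
  haveI hNHn : (N.subgroupOf H).Normal := Subgroup.normal_subgroupOf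
  haveI : Fintype (N.subgroupOf H) := Fintype.ofFinite _
  let f : H →* Γ ⧸ G := (QuotientGroup.mk' G).comp H.subtype
  have hf : Function.Surjective f := by
    intro q
    obtain ⟨γ, rfl⟩ := QuotientGroup.mk_surjective q
    obtain ⟨i, hi⟩ := hdecomp γ
    refine ⟨⟨x ^ i, H.zpow_mem hxH i⟩, ?_⟩
    show (QuotientGroup.mk (x ^ i) : Γ ⧸ G) = QuotientGroup.mk γ
    rw [QuotientGroup.eq]
    have := hGn.conj_mem _ hi (x ^ i)⁻¹
    have e : (x ^ i)⁻¹ * (γ * (x ^ i)⁻¹) * ((x ^ i)⁻¹)⁻¹ = (x ^ i)⁻¹ * γ := by group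
    rwa [e] at this
  have hker : f.ker = N.subgroupOf H := by
    ext h
    rw [MonoidHom.mem_ker, Subgroup.mem_subgroupOf]
    show (QuotientGroup.mk (h : Γ) : Γ ⧸ G) = 1 ↔ _
    rw [QuotientGroup.eq_one_iff]
    exact ⟨fun hh => hHG _ h.2 hh, fun hh => hNG hh⟩
  let eQ : H ⧸ N.subgroupOf H ≃* Γ ⧸ G :=
    (QuotientGroup.quotientMulEquivOfEq hker.symm).trans
      (QuotientGroup.quotientKerEquivOfSurjective f hf)
  haveI := hcyc
  have hcycH : IsCyclic (H ⧸ N.subgroupOf H) :=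
    isCyclic_of_surjective eQ.symm.toMonoidHom eQ.symm.surjective
  have hidxH : (N.subgroupOf H).index = n := by
    rw [hn]
    exact Nat.card_congr eQ.toEquiv
  have hcardΓ : Nat.card Γ = n * Nat.card G := (G.index_mul_card).symm
  have hcardNH : Nat.card (N.subgroupOf H) = Nat.card N :=
    Nat.card_congr (Subgroup.subgroupOfEquivOfLe hNH).toEquiv
  have hcardH : Nat.card H = n * Nat.card N := by
    rw [← hidxH, ← hcardNH]; exact ((N.subgroupOf H).index_mul_card).symm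
  -- the extension of θ to H
  let eN : N.subgroupOf H ≃* N := Subgroup.subgroupOfEquivOfLe hNH
  let θH : N.subgroupOf H → ℂ := (θ : N → ℂ) ∘ eN
  have hθH : IsIrrCharacter (N.subgroupOf H) θH := isIrrCharacter_comp_mulEquiv θ.2 eN
  have hinvH : ∀ (h : H) (m : N.subgroupOf H),
      θH ⟨h * m * h⁻¹, hNHn.conj_mem (m : H) m.2 h⟩ = θH m := by
    intro h m
    show (θ : N → ℂ) (eN _) = (θ : N → ℂ) (eN m)
    rw [← hinv (h : Γ) (eN m)]
    congr 1
  obtain ⟨θh, hθh, hθhext⟩ := Cfsg.Agent.S0886.result (N.subgroupOf H) hcycH θH hθH hinvH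
  -- the character χ
  haveI hNGn : (N.subgroupOf G).Normal := Subgroup.normal_subgroupOf
  haveI : Fintype (N.subgroupOf G) := Fintype.ofFinite _
  set θG : N.subgroupOf G → ℂ := fun m : N.subgroupOf G => (θ : N → ℂ) ⟨(m : G), m.2⟩ with hθG
  have hθGirr : IsIrrCharacter (N.subgroupOf G) θG :=
    isIrrCharacter_comp_mulEquiv θ.2 (Subgroup.subgroupOfEquivOfLe hNG)
  have hinvG : ∀ (g : G) (m : N.subgroupOf G),
      θG ⟨g * m * g⁻¹, hNGn.conj_mem (m : G) m.2 g⟩ = θG m := by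
    intro g m
    exact hinv (g : Γ) ⟨((m : G) : Γ), m.2⟩
  set idx : ℕ := (N.subgroupOf G).index with hidx
  have hidx0 : (idx : ℂ) ≠ 0 := Nat.cast_ne_zero.mpr Subgroup.index_ne_zero_of_finite
  have hval : ∀ g : G, (e : ℂ) * (χ : G → ℂ) g =
      if h : (g : Γ) ∈ N then (idx : ℂ) * (θ : N → ℂ) ⟨g, h⟩ else 0 := by
    intro g
    have h1 := Cfsg.Agent.Lib.Helper28.indFun_invariant_apply (N.subgroupOf G) θG hinvG g
    rw [hram] at h1
    have h1' : (e : ℂ) * (χ : G → ℂ) g = if h : g ∈ N.subgroupOf G then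
        ((N.subgroupOf G).index : ℂ) * θG ⟨g, h⟩ else 0 := h1
    rw [h1']
    by_cases h : (g : Γ) ∈ N
    · rw [dif_pos h, dif_pos (show g ∈ N.subgroupOf G from h)]
    · rw [dif_neg h, dif_neg (show ¬ g ∈ N.subgroupOf G from h)]
  obtain ⟨dθ, hdθ0, hdθ⟩ := irr_degree θ.2
  have he0 : (e : ℂ) ≠ 0 := by
    intro h
    have h1 := hval 1
    rw [h, zero_mul, dif_pos (show ((1 : G) : Γ) ∈ N from N.one_mem)] at h1
    have h2 : (⟨((1 : G) : Γ), N.one_mem⟩ : N) = 1 := rfl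
    rw [h2, hdθ] at h1
    have h3 : (idx : ℂ) * (dθ : ℂ) ≠ 0 := mul_ne_zero hidx0 (Nat.cast_ne_zero.mpr hdθ0.ne')
    exact h3 h1.symm
  have hχinv : ∀ (γ : Γ) (g : G),
      (χ : G → ℂ) ⟨γ * g * γ⁻¹, hGn.conj_mem g g.2 γ⟩ = (χ : G → ℂ) g := by
    intro γ g
    have h1 := hval ⟨γ * g * γ⁻¹, hGn.conj_mem g g.2 γ⟩
    have h2 := hval g
    by_cases h : (g : Γ) ∈ N
    · have h' : γ * g * γ⁻¹ ∈ N := hNn.conj_mem _ h γ
      rw [dif_pos h'] at h1
      rw [dif_pos h] at h2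
      have h3 : (θ : N → ℂ) ⟨γ * g * γ⁻¹, h'⟩ = (θ : N → ℂ) ⟨g, h⟩ := hinv γ ⟨g, h⟩
      rw [h3, ← h2] at h1
      exact mul_left_cancel₀ he0 h1
    · have h' : γ * g * γ⁻¹ ∉ N := by
        intro hh
        apply h
        have := hNn.conj_mem _ hh γ⁻¹
        have e5 : γ⁻¹ * (γ * g * γ⁻¹) * (γ⁻¹)⁻¹ = g := by group
        rwa [e5] at this
      rw [dif_neg h'] at h1
      rw [dif_neg h] at h2
      rw [← h2] at h1
      exact mul_left_cancel₀ he0 h1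
  obtain ⟨χh, hχh, hχhext⟩ := Cfsg.Agent.S0886.result G hcyc (χ : G → ℂ) χ.2 hχinv
  -- χ restricted to N is eθ
  have hχχ : classInner (χ : G → ℂ) (χ : G → ℂ) = 1 := by
    rw [classInner_irr χ.2 χ.2, if_pos rfl]
  have hθθ : classInner θG θG = 1 := by
    rw [classInner_irr hθGirr hθGirr, if_pos rfl]
  have hidxe : (idx : ℂ) = (e : ℂ) * (e : ℂ) := by
    obtain ⟨m, hm1, hm2⟩ := Cfsg.Agent.S0900.ind_coeff (N.subgroupOf G) θG
      (isCharacter_of_isIrrCharacter hθGirr) (χ : G → ℂ) (isCharacter_of_isIrrCharacter χ.2)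
    rw [hram] at hm1
    have h1 : (fun g => (e : ℂ) * (χ : G → ℂ) g) = (e : ℂ) • (χ : G → ℂ) := rfl
    rw [h1, classInner_smul_left, hχχ, mul_one] at hm1
    have h2 : (fun m : N.subgroupOf G => (χ : G → ℂ) m) = ((idx : ℂ) / (e : ℂ)) • θG := by
      funext m
      have h3 := hval (m : G)
      rw [dif_pos (show ((m : G) : Γ) ∈ N from m.2)] at h3
      show (χ : G → ℂ) m = (idx : ℂ) / (e : ℂ) * (θ : N → ℂ) ⟨(m : G), m.2⟩
      field_simp
      rw [mul_comm]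
      exact h3
    rw [h2, classInner_smul_left, hθθ, mul_one, ← hm1] at hm2
    field_simp at hm2
    rw [hm2, sq]
  have hχN : ∀ (m : Γ) (hm : m ∈ N), (χ : G → ℂ) ⟨m, hNG hm⟩ = (e : ℂ) * (θ : N → ℂ) ⟨m, hm⟩ := by
    intro m hm
    have h3 := hval ⟨m, hNG hm⟩
    rw [dif_pos (show ((⟨m, hNG hm⟩ : G) : Γ) ∈ N from hm), hidxe, mul_assoc] at h3
    exact mul_left_cancel₀ he0 h3
  -- the norm computation
  have hXcf : IsClassFunction Γ χh :=
    Cfsg.Agent.Lib.Helper26.isClassFunction_of_isIrrCharacter hχh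
  have hti := Cfsg.Agent.Lib.Helper7.FrobRam.ti_norm G N H hNG hHG hTI hcov χh hXcf
  set XH : H → ℂ := fun h => χh h with hXH
  have hXHc : IsCharacter H XH := isCharacter_restrict H (isCharacter_of_isIrrCharacter hχh)
  obtain ⟨P, hP⟩ := classInner_isCharacter_nat hXHc hXHc
  have hcG0 : (Nat.card G : ℂ) ≠ 0 := Nat.cast_ne_zero.mpr Nat.card_pos.ne'
  have hcN0 : (Nat.card N : ℂ) ≠ 0 := Nat.cast_ne_zero.mpr Nat.card_pos.ne'
  have hcΓ0 : (Nat.card Γ : ℂ) ≠ 0 := Nat.cast_ne_zero.mpr Nat.card_pos.ne'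
  have hcH0 : (Nat.card H : ℂ) ≠ 0 := Nat.cast_ne_zero.mpr Nat.card_pos.ne'
  have hnC0 : (n : ℂ) ≠ 0 := Nat.cast_ne_zero.mpr hn0
  have hsumΓ : ∑ γ : Γ, χh γ * conj (χh γ) = (Nat.card Γ : ℂ) := by
    have h1 := classInner_irr hχh hχh
    rw [if_pos rfl] at h1
    unfold classInner at h1
    rw [(inv_mul_eq_iff_eq_mul₀ hcΓ0).mp h1, mul_one]
  have hsumG : ∑ g : G, χh g * conj (χh g) = (Nat.card G : ℂ) := by
    have h1 := hχχ
    unfold classInner at h1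
    have h2 := (inv_mul_eq_iff_eq_mul₀ hcG0).mp h1
    rw [mul_one] at h2
    rw [← h2]
    refine Finset.sum_congr rfl fun g _ => ?_
    rw [hχhext]
  have hsumH : ∑ h : H, XH h * conj (XH h) = (Nat.card H : ℂ) * (P : ℂ) := by
    have h1 := hP
    unfold classInner at h1
    exact (inv_mul_eq_iff_eq_mul₀ hcH0).mp h1
  have hsumθ : ∑ m : N, (θ : N → ℂ) m * conj ((θ : N → ℂ) m) = (Nat.card N : ℂ) := by
    have h1 := classInner_irr θ.2 θ.2
    rw [if_pos rfl] at h1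
    unfold classInner at h1
    rw [(inv_mul_eq_iff_eq_mul₀ hcN0).mp h1, mul_one]
  have hχhN : ∀ m : N, χh m = (e : ℂ) * (θ : N → ℂ) m := by
    intro m
    have h1 := hχhext ⟨(m : Γ), hNG m.2⟩
    rw [hχN (m : Γ) m.2] at h1
    exact h1
  have hsumN : ∑ m : N, χh m * conj (χh m) = (e : ℂ) * (e : ℂ) * (Nat.card N : ℂ) := by
    rw [← hsumθ, Finset.mul_sum]
    refine Finset.sum_congr rfl fun m _ => ?_
    rw [hχhN m, map_mul, Complex.conj_natCast]
    ring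
  have hmain : (n : ℂ) * (P : ℂ) + 1 = (n : ℂ) + (e : ℂ) ^ 2 := by
    unfold classInner at hti
    rw [Cfsg.Agent.Lib.Helper7.FrobRam.norm_off (fun γ : Γ => γ ∈ G) χh,
      ← Cfsg.Agent.Lib.Helper7.FrobRam.sum_subtype_ite G (fun γ => χh γ * conj (χh γ)),
      hsumΓ, hsumG] at hti
    have h2 := Cfsg.Agent.Lib.Helper7.FrobRam.norm_off (K := H) (fun h : H => (h : Γ) ∈ N) XH
    have h3 : (∑ h : H, (if (h : Γ) ∈ N then 0 else χh h) * conj (if (h : Γ) ∈ N then 0 else χh h))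
        = (Nat.card H : ℂ) * (P : ℂ) - (e : ℂ) * (e : ℂ) * (Nat.card N : ℂ) := by
      rw [← hsumH, ← hsumN,
        ← Cfsg.Agent.Lib.Helper7.FrobRam.sum_ite_sub N H hNH (fun γ => χh γ * conj (χh γ))]
      exact h2
    rw [h3, hcardΓ, hcardH] at hti
    push_cast at hti
    field_simp at hti
    linear_combination (-1 : ℂ) * hti
  have hmainN : n * P + 1 = n + e ^ 2 := by exact_mod_cast hmain
  -- the dual group and the multiplicities
  have hcomm : ∀ a b : H ⧸ N.subgroupOf H, a * b = b * a := by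
    obtain ⟨g, hg⟩ := hcycH.exists_generator
    intro a b
    obtain ⟨i, rfl⟩ := Subgroup.mem_zpowers_iff.mp (hg a)
    obtain ⟨j, rfl⟩ := Subgroup.mem_zpowers_iff.mp (hg b)
    exact zpow_mul_comm g i j
  haveI : Fintype ((H ⧸ N.subgroupOf H) →* ℂˣ) := Fintype.ofFinite _
  have hΛ : Fintype.card ((H ⧸ N.subgroupOf H) →* ℂˣ) = n := by
    rw [Cfsg.Agent.Lib.Helper7.GlaubFpf.card_dual hcomm, ← hidxH]
    rfl
  set ξ : ((H ⧸ N.subgroupOf H) →* ℂˣ) → H → ℂ :=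
    fun lam h => ((lam (QuotientGroup.mk h) : ℂˣ) : ℂ) * θh h with hξdef
  have hξ : ∀ lam, IsIrrCharacter H (ξ lam) := fun lam =>
    Cfsg.Agent.S0857.isIrr_twist (lam.comp (QuotientGroup.mk' (N.subgroupOf H))) θh hθh
  have hξinj : ∀ lam lam', ξ lam = ξ lam' → lam = lam' := fun lam lam' h =>
    Cfsg.Agent.Lib.Helper7.CoprimeCount.twist_injective (N.subgroupOf H) θH hθH θh hθh hθhext
      lam lam' h
  choose c hc using fun lam =>
    classInner_isCharacter_nat hXHc (isCharacter_of_isIrrCharacter (hξ lam))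
  -- Bessel
  have hsq : ∑ lam, c lam ^ 2 ≤ P := by
    have hb := bessel_orth (Finset.univ : Finset ((H ⧸ N.subgroupOf H) →* ℂˣ)) ξ (fun _ => (1 : ℝ))
      (fun lam => (c lam : ℝ)) (P : ℝ) (fun _ _ => one_ne_zero)
      (by
        intro i _ j _
        rw [classInner_irr (hξ i) (hξ j)]
        by_cases hij : i = j
        · rw [if_pos hij, if_pos (by rw [hij])]; simp
        · rw [if_neg hij, if_neg (fun h => hij (hξinj i j h))])
      XH (by rw [hP]; simp) (fun i _ => by rw [hc i]; simp)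
    simp only [div_one] at hb
    exact_mod_cast hb
  -- the sum of the multiplicities
  have hsum : ∑ lam, c lam = e := by
    have h1 : ((∑ lam, c lam : ℕ) : ℂ) = classInner XH (∑ lam, ξ lam) := by
      rw [classInner_sum_right]
      push_cast
      exact Finset.sum_congr rfl fun lam _ => (hc lam).symm
    have h2 : (∑ lam, ξ lam) = fun h : H => if (h : Γ) ∈ N then (n : ℂ) * θh h else 0 := by
      funext h
      rw [Finset.sum_apply]
      show ∑ lam : (H ⧸ N.subgroupOf H) →* ℂˣ, ((lam (QuotientGroup.mk h) : ℂˣ) : ℂ) * θh h = _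
      rw [← Finset.sum_mul]
      by_cases hh : (h : Γ) ∈ N
      · rw [if_pos hh, Cfsg.Agent.S0857.sum_hom_quot_mem (N.subgroupOf H) hcomm
          (show h ∈ N.subgroupOf H from hh), hidxH]
      · rw [if_neg hh, Cfsg.Agent.S0857.sum_hom_quot_not_mem (N.subgroupOf H) hcomm
          (show h ∉ N.subgroupOf H from hh), zero_mul]
    have h3 : classInner XH (fun h : H => if (h : Γ) ∈ N then (n : ℂ) * θh h else 0) = (e : ℂ) := by
      unfold classInner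
      obtain ⟨F, hF⟩ : ∃ F : Γ → ℂ, F = fun γ : Γ => if hγ : γ ∈ N then
            (n : ℂ) * (e : ℂ) * ((θ : N → ℂ) ⟨γ, hγ⟩ * conj ((θ : N → ℂ) ⟨γ, hγ⟩)) else 0 :=
        ⟨_, rfl⟩
      have hFN : ∀ (γ : Γ) (hγ : γ ∈ N), F γ =
          (n : ℂ) * (e : ℂ) * ((θ : N → ℂ) ⟨γ, hγ⟩ * conj ((θ : N → ℂ) ⟨γ, hγ⟩)) := by
        intro γ hγ
        rw [hF]
        beta_reduce
        rw [dif_pos hγ]
      have h4 : ∀ h : H, XH h * conj (if (h : Γ) ∈ N then (n : ℂ) * θh h else 0) =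
          if (h : Γ) ∈ N then F h else 0 := by
        intro h
        by_cases hh : (h : Γ) ∈ N
        · rw [if_pos hh, if_pos hh, hFN _ hh]
          show χh h * _ = _
          have h5 : θh h = (θ : N → ℂ) ⟨(h : Γ), hh⟩ := hθhext ⟨h, hh⟩
          have h6 : χh h = (e : ℂ) * (θ : N → ℂ) ⟨(h : Γ), hh⟩ := hχhN ⟨(h : Γ), hh⟩
          rw [h5, h6, map_mul, Complex.conj_natCast]
          ring
        · rw [if_neg hh, if_neg hh, map_zero, mul_zero]
      rw [Finset.sum_congr rfl fun h _ => h4 h,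
        Cfsg.Agent.Lib.Helper7.FrobRam.sum_ite_sub N H hNH F]
      have h7 : ∀ m : N, F m =
          (n : ℂ) * (e : ℂ) * ((θ : N → ℂ) m * conj ((θ : N → ℂ) m)) := by
        intro m
        exact hFN (m : Γ) m.2
      rw [Finset.sum_congr rfl fun m _ => h7 m, ← Finset.mul_sum, hsumθ, hcardH]
      push_cast
      field_simp
    rw [h2, h3] at h1
    exact_mod_cast h1
  exact Cfsg.Agent.Lib.Helper7.FrobRam.arith n e P hn2 hΛ c hsum hsq hmainN


end Cfsg.Agent.S4454
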