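import Cfsg.Statements.S4455
import Cfsg.Agent.Lib.Helper7.PResChar
import Cfsg.Agent.Lib.Helper7.RestrictIrr
import Cfsg.Agent.Lib.Helper16.ResidualQuot

set_option autoImplicit false
open Cfsg

namespace Cfsg.Agent.S4455

open Cfsg.Agent.Lib.Helper26 Cfsg.Agent.Lib.Helper2 Cfsg.Agent.Lib.Helper7

/-- Fix a prime p and a finite group G. Let s be the sum of χ(1)² over the irreducible characters χ of G whose degree is not divisible by p and whose determinantal order o(χ) is not divisible by p. Then the order of O^p(G), the subgroup generated by the elements of order prime to p, is congruent to s modulo p. -/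
theorem result {G : Type*} [Group G] [Finite G] (p : ℕ) (hp : p.Prime) : (Nat.card (Cfsg.pResidual p G) : ℤ) ≡ (∑ᶠ χ ∈ {χ : Cfsg.IrrCharacter G | ¬ p ∣ Cfsg.charDegree (χ : G → ℂ) ∧ ¬ p ∣ Cfsg.detOrder (χ : G → ℂ)}, (Cfsg.charDegree (χ : G → ℂ) : ℤ) ^ 2) [ZMOD p] := by
  classical
  haveI : Fact p.Prime := ⟨hp⟩
  haveI : Fintype G := Fintype.ofFinite G
  haveI hD : (Cfsg.pResidual p G).Normal := Cfsg.Agent.Lib.Helper16.pResidual_normal p
  haveI : Fintype (Cfsg.pResidual p G) := Fintype.ofFinite _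
  have hQ : IsPGroup p (G ⧸ Cfsg.pResidual p G) :=
    Cfsg.Agent.Lib.Helper16.quotient_pResidual_isPGroup p
  obtain ⟨k, hk⟩ := IsPGroup.iff_card.mp hQ
  have hidx : (Cfsg.pResidual p G).index = p ^ k := by
    rw [Subgroup.index_eq_card]; exact hk
  have hsolv : Group.IsSolvable (G ⧸ Cfsg.pResidual p G) := by
    haveI := hQ.isNilpotent
    infer_instance
  let P : Sylow p G := default
  have hDP := Cfsg.Agent.Lib.Helper16.pResidual_sup_sylow p P
  haveI : Fintype (IrrCharacter (Cfsg.pResidual p G)) := Fintype.ofFinite _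
  haveI : Fintype (IrrCharacter G) := Fintype.ofFinite _
  have hA := card_modEq_sum_invariant (Cfsg.pResidual p G) (P : Subgroup G) P.isPGroup' hDP
  -- the finset of characters of G
  set X : Finset (IrrCharacter G) := Finset.univ.filter (fun χ : IrrCharacter G =>
    ¬ p ∣ Cfsg.charDegree (χ : G → ℂ) ∧ ¬ p ∣ Cfsg.detOrder (χ : G → ℂ)) with hX
  have hset : {χ : Cfsg.IrrCharacter G | ¬ p ∣ Cfsg.charDegree (χ : G → ℂ) ∧
      ¬ p ∣ Cfsg.detOrder (χ : G → ℂ)} = (X : Set (IrrCharacter G)) := by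
    ext χ; simp [hX]
  rw [hset, finsum_mem_coe_finset]
  set F : Finset (IrrCharacter (Cfsg.pResidual p G)) :=
    Finset.univ.filter (fun ψ : IrrCharacter (Cfsg.pResidual p G) =>
      ∀ (g : G) (n : Cfsg.pResidual p G),
        (ψ : ↥(Cfsg.pResidual p G) → ℂ) ⟨g * n * g⁻¹, hD.conj_mem (n : G) n.2 g⟩ =
        (ψ : ↥(Cfsg.pResidual p G) → ℂ) n) with hF
  -- drop the characters of degree divisible by p
  have hsplit : ∑ ψ ∈ F, (charDegree (ψ : ↥(Cfsg.pResidual p G) → ℂ)) ^ 2 ≡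
      ∑ ψ ∈ F.filter (fun ψ : IrrCharacter (Cfsg.pResidual p G) => ¬ p ∣ charDegree (ψ : ↥(Cfsg.pResidual p G) → ℂ)),
        (charDegree (ψ : ↥(Cfsg.pResidual p G) → ℂ)) ^ 2 [MOD p] := by
    rw [← Finset.sum_filter_add_sum_filter_not F
      (fun ψ : IrrCharacter (Cfsg.pResidual p G) => ¬ p ∣ charDegree (ψ : ↥(Cfsg.pResidual p G) → ℂ))]
    have h0 : ∑ ψ ∈ F.filter (fun ψ : IrrCharacter (Cfsg.pResidual p G) => ¬ ¬ p ∣ charDegree (ψ : ↥(Cfsg.pResidual p G) → ℂ)),
        (charDegree (ψ : ↥(Cfsg.pResidual p G) → ℂ)) ^ 2 ≡ 0 [MOD p] := by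
      rw [Nat.modEq_zero_iff_dvd]
      refine Finset.dvd_sum fun ψ hψ => ?_
      have := (Finset.mem_filter.mp hψ).2
      rw [not_not] at this
      exact dvd_pow this (by norm_num)
    have := Nat.ModEq.add_left (∑ ψ ∈ F.filter
      (fun ψ : IrrCharacter (Cfsg.pResidual p G) => ¬ p ∣ charDegree (ψ : ↥(Cfsg.pResidual p G) → ℂ)),
        (charDegree (ψ : ↥(Cfsg.pResidual p G) → ℂ)) ^ 2) h0
    rwa [add_zero] at this
  -- the bijection
  have hbij : ∑ χ ∈ X, (charDegree (χ : G → ℂ)) ^ 2 =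
      ∑ ψ ∈ F.filter (fun ψ : IrrCharacter (Cfsg.pResidual p G) => ¬ p ∣ charDegree (ψ : ↥(Cfsg.pResidual p G) → ℂ)),
        (charDegree (ψ : ↥(Cfsg.pResidual p G) → ℂ)) ^ 2 := by
    have hirr : ∀ χ ∈ X, IsIrrCharacter (Cfsg.pResidual p G)
        (fun n : Cfsg.pResidual p G => (χ : G → ℂ) n) := by
      intro χ hχX
      obtain ⟨c, _, hc⟩ := irr_degree χ.2
      have h1 := (Finset.mem_filter.mp hχX).2.1
      rw [charDegree_eq_of hc] at h1
      exact restrict_irr_pgroup p hp (Cfsg.pResidual p G) k hidx (χ : G → ℂ) χ.2 c hc h1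
    refine Finset.sum_bij (fun χ hχX => (⟨_, hirr χ hχX⟩ : IrrCharacter (Cfsg.pResidual p G)))
      ?_ ?_ ?_ ?_
    · intro χ hχX
      rw [Finset.mem_filter, hF, Finset.mem_filter]
      refine ⟨⟨Finset.mem_univ _, ?_⟩, ?_⟩
      · intro g n
        exact isClassFunction_of_isIrrCharacter χ.2 (n : G) g
      · have h1 := (Finset.mem_filter.mp hχX).2.1
        exact h1
    · intro χ₁ h₁X χ₂ h₂X heq
      have hfun : (fun n : Cfsg.pResidual p G => (χ₁ : G → ℂ) n) =
          fun n : Cfsg.pResidual p G => (χ₂ : G → ℂ) n := congrArg Subtype.val heq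
      obtain ⟨c, _, hc⟩ := irr_degree χ₁.2
      have hpc := (Finset.mem_filter.mp h₁X).2.1
      rw [charDegree_eq_of hc] at hpc
      apply Subtype.ext
      exact ext_pprime_unique p hp (Cfsg.pResidual p G) k hidx _ (hirr χ₁ h₁X) c
        (by show (χ₁ : G → ℂ) ((1 : Cfsg.pResidual p G) : G) = c; rw [Subgroup.coe_one, hc]) hpc
        (χ₁ : G → ℂ) (χ₂ : G → ℂ) χ₁.2 χ₂.2 (fun n => rfl) (fun n => (congrFun hfun n).symm)
        (Finset.mem_filter.mp h₁X).2.2 (Finset.mem_filter.mp h₂X).2.2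
    · intro ψ hψ
      rw [Finset.mem_filter, hF, Finset.mem_filter] at hψ
      obtain ⟨⟨-, hinv⟩, hpd⟩ := hψ
      obtain ⟨d, _, hd⟩ := irr_degree ψ.2
      rw [charDegree_eq_of hd] at hpd
      have hψc := isCharacter_of_isIrrCharacter ψ.2
      have hcop : Nat.Coprime (Cfsg.pResidual p G).index
          (detOrder (ψ : ↥(Cfsg.pResidual p G) → ℂ) * d) := by
        rw [hidx]
        apply Nat.Coprime.pow_left
        exact Nat.Coprime.mul_right (detOrder_pResidual_coprime p hψc).symm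
          ((Nat.Prime.coprime_iff_not_dvd hp).mpr hpd)
      obtain ⟨χ, hχ, hχe, hχo⟩ := ext_coprime_solvable (Cfsg.pResidual p G) hsolv
        (ψ : ↥(Cfsg.pResidual p G) → ℂ) ψ.2 hinv d hd hcop
      have hχ1 : χ 1 = d := by
        have := hχe 1
        rw [Subgroup.coe_one] at this
        rw [this, hd]
      have hχX : (⟨χ, hχ⟩ : IrrCharacter G) ∈ X := by
        rw [hX, Finset.mem_filter]
        refine ⟨Finset.mem_univ _, ?_, ?_⟩
        · show ¬ p ∣ charDegree χ
          rw [charDegree_eq_of hχ1]; exact hpd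
        · show ¬ p ∣ detOrder χ
          rw [hχo]
          intro hdvd
          have := detOrder_pResidual_coprime p hψc
          exact hp.one_lt.ne' (Nat.Coprime.eq_one_of_dvd this.symm hdvd)
      refine ⟨⟨χ, hχ⟩, hχX, ?_⟩
      apply Subtype.ext
      funext n
      exact hχe n
    · intro χ hχX
      obtain ⟨c, _, hc⟩ := irr_degree χ.2
      rw [charDegree_eq_of hc]
      rw [charDegree_eq_of (d := c) (by
        show (χ : G → ℂ) ((1 : Cfsg.pResidual p G) : G) = c; rw [Subgroup.coe_one, hc])]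
  have hfinal : Nat.card (Cfsg.pResidual p G) ≡ ∑ χ ∈ X, (charDegree (χ : G → ℂ)) ^ 2 [MOD p] := by
    rw [hbij]
    refine Nat.ModEq.trans ?_ hsplit
    refine hA.trans ?_
    show _ % p = _ % p
    congr 1
    refine Finset.sum_congr ?_ (fun _ _ => rfl)
    ext ψ
    simp only [hF, Finset.mem_filter, Finset.mem_univ, true_and]
  have := (Int.natCast_modEq_iff).mpr hfinal
  push_cast at this
  exact this

end Cfsg.Agent.S4455
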