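import Mathlib
import Cfsg.Prelude
import Cfsg.Agent.Lib.Helper7.TwoDegC
import Cfsg.Agent.S0178
import Cfsg.Agent.S0169
import Cfsg.Agent.Lib.Helper2.CharConj

set_option autoImplicit false
open Cfsg

namespace Cfsg.Agent.S4457

open Cfsg.Agent.Lib.Helper26 Cfsg.Agent.Lib.Helper2 Cfsg.Agent.Lib.Helper7
open Cfsg.Agent.Lib.Helper7.TwoDeg

/-- Let G be a finite group whose irreducible character degrees are exactly 1 and m (m ≠ 1). Then either G has an abelian normal subgroup of index m, or m is a power of a prime p and G is the direct product of a p-group and an abelian group: there are normal subgroups P and A with P a p-group, A abelian, P ⊓ A = 1 and P ⊔ A = G. -/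
theorem result {G : Type*} [Group G] [Finite G] (m : ℕ) (hcd : ∀ χ : Cfsg.IrrCharacter G, Cfsg.charDegree (χ : G → ℂ) = 1 ∨ Cfsg.charDegree (χ : G → ℂ) = m) (hm : ∃ χ : Cfsg.IrrCharacter G, Cfsg.charDegree (χ : G → ℂ) = m) (hm1 : m ≠ 1) : (∃ A : Subgroup G, A.Normal ∧ (∀ a ∈ A, ∀ b ∈ A, a * b = b * a) ∧ A.index = m) ∨ ∃ p e : ℕ, p.Prime ∧ m = p ^ e ∧ ∃ P A : Subgroup G, P.Normal ∧ A.Normal ∧ IsPGroup p P ∧ (∀ a ∈ A, ∀ b ∈ A, a * b = b * a) ∧ P ⊓ A = ⊥ ∧ P ⊔ A = ⊤ := by
  classical
  haveI : Fintype G := Fintype.ofFinite G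
  have hm2 : 2 ≤ m := by
    obtain ⟨χ, hχ⟩ := hm
    obtain ⟨d, hd0, hd⟩ := irr_degree χ.2
    have h1 := Cfsg.Agent.Lib.Helper7.CoprimeCount.irr_one_eq_charDegree χ
    rw [hd, hχ] at h1
    have h2 : d = m := by exact_mod_cast h1
    omega
  have hdeg : ∀ χ : G → ℂ, IsIrrCharacter G χ → χ 1 = 1 ∨ χ 1 = (m : ℂ) := by
    intro χ hχ
    have h := Cfsg.Agent.Lib.Helper7.CoprimeCount.irr_one_eq_charDegree ⟨χ, hχ⟩
    rcases hcd ⟨χ, hχ⟩ with h1 | h1
    · left
      rw [h1] at h
      simpa using h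
    · right
      rw [h1] at h
      exact h
  obtain ⟨N, hNn, hcop, hNcomm, hnil⟩ := exists_hall m hcd
  haveI := hNn
  set C := Subgroup.centralizer (N : Set G) with hC
  have hNC : N ≤ C := by
    intro x hx
    rw [hC, Subgroup.mem_centralizer_iff]
    intro n hn
    have := hNcomm ⟨n, hn⟩ ⟨x, hx⟩
    exact congrArg Subtype.val this
  by_cases hCtop : C = ⊤
  · -- the nilpotent case
    right
    have hNcen : N ≤ Subgroup.center G := by
      intro x hx
      rw [Subgroup.mem_center_iff]
      intro g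
      have hg : g ∈ C := hCtop ▸ Subgroup.mem_top g
      rw [hC, Subgroup.mem_centralizer_iff] at hg
      exact (hg x hx).symm
    haveI : Group.IsNilpotent G :=
      isNilpotent_of_ker_le_center (QuotientGroup.mk' N) (by rw [QuotientGroup.ker_mk']; exact hNcen)
    obtain ⟨p, hp, hpm⟩ := Nat.exists_prime_and_dvd hm1
    haveI : Fact p.Prime := ⟨hp⟩
    obtain ⟨A, hAn, hAc, k, hAi⟩ := Cfsg.Agent.S4456.result (G := G) p hp (by
      intro χ hχ
      rcases hcd χ with h | h
      · exact absurd h hχ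
      · rw [h]; exact hpm)
    haveI := hAn
    let P : Sylow p G := default
    haveI hPn : (P : Subgroup G).Normal := inferInstance
    obtain ⟨j, hPj⟩ := (IsPGroup.iff_card.mp P.2)
    have hPA : (P : Subgroup G) ⊓ A = ⊥ := by
      apply Subgroup.inf_eq_bot_of_coprime
      rw [hPj]
      exact Nat.Coprime.pow_left j hAc.symm
    have hPAtop : (P : Subgroup G) ⊔ A = ⊤ := by
      rw [← Subgroup.index_eq_one]
      have h1 : ((P : Subgroup G) ⊔ A).index ∣ p ^ k := hAi ▸ Subgroup.index_dvd_of_le le_sup_right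
      have h2 : ((P : Subgroup G) ⊔ A).index ∣ (P : Subgroup G).index :=
        Subgroup.index_dvd_of_le le_sup_left
      obtain ⟨i, -, hi⟩ := (Nat.dvd_prime_pow hp).mp h1
      rcases Nat.eq_zero_or_pos i with h0 | h0
      · rw [hi, h0, pow_zero]
      · exfalso
        apply P.not_dvd_index
        apply dvd_trans _ h2
        rw [hi]
        exact dvd_pow_self p h0.ne'
    have hcommPA : ∀ x ∈ (P : Subgroup G), ∀ a ∈ A, x * a = a * x := by
      intro x hx a ha
      exact Subgroup.commute_of_normal_of_disjoint _ _ hPn hAn (disjoint_iff.mpr hPA) x a hx ha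
    haveI : Fintype A := Fintype.ofFinite _
    -- A is abelian
    have hAlin : ∀ θ : A → ℂ, IsIrrCharacter A θ → θ 1 = 1 := by
      intro θ hθ
      obtain ⟨d, hd0, hd⟩ := irr_degree hθ
      have hθcl := Cfsg.Agent.Lib.Helper26.isClassFunction_of_isIrrCharacter hθ
      have hinv : ∀ (g : G) (n : A), θ ⟨g * n * g⁻¹, hAn.conj_mem (n : G) n.2 g⟩ = θ n := by
        intro g n
        have hg : g ∈ (((P : Subgroup G) ⊔ A : Subgroup G) : Set G) := by
          rw [hPAtop]; exact Set.mem_univ g
        rw [Subgroup.mul_normal] at hg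
        obtain ⟨x, hx, a, ha, rfl⟩ := Set.mem_mul.mp hg
        have h1 : x * a * n * (x * a)⁻¹ = a * n * a⁻¹ := by
          have h2 := hcommPA x hx (a * n * a⁻¹) (A.mul_mem (A.mul_mem ha n.2) (A.inv_mem ha))
          calc x * a * n * (x * a)⁻¹ = x * (a * n * a⁻¹) * x⁻¹ := by group
            _ = a * n * a⁻¹ := by rw [h2]; group
        have h3 : (⟨x * a * n * (x * a)⁻¹, hAn.conj_mem (n : G) n.2 (x * a)⟩ : A) =
            ⟨a, ha⟩ * n * ⟨a, ha⟩⁻¹ := Subtype.ext h1
        rw [h3]
        exact hθcl n ⟨a, ha⟩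
      have hdA : d ∣ Nat.card A := irr_degree_dvd_card hθ d hd
      have hoA : detOrder θ ∣ Nat.card A := detOrder_dvd_card (isCharacter_of_isIrrCharacter hθ)
      have hcopA : Nat.Coprime A.index (detOrder θ * d) := by
        rw [hAi]
        apply Nat.Coprime.pow_left
        apply Nat.Coprime.mul_right
        · exact Nat.Coprime.coprime_dvd_right hoA hAc.symm
        · exact Nat.Coprime.coprime_dvd_right hdA hAc.symm
      obtain ⟨χ, hχ, hχe, -⟩ := ext_coprime_solvable A inferInstance θ hθ hinv d hd hcopA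
      have hχ1 : χ 1 = d := by
        have := hχe 1
        rw [← hd]
        exact this
      rcases hdeg χ hχ with h | h
      · rw [hd, ← hχ1, h]
      · exfalso
        rw [hχ1] at h
        have hdm : d = m := by exact_mod_cast h
        have h1 : p ∣ Nat.card A := (hdm ▸ hpm).trans hdA
        have h2 := hAc.symm
        rw [Nat.Prime.coprime_iff_not_dvd hp] at h2
        exact h2 h1
    have hAcomm := comm_of_all_linear hAlin
    have hAcomm' : ∀ a ∈ A, ∀ b ∈ A, a * b = b * a := by
      intro a ha b hb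
      exact congrArg Subtype.val (hAcomm ⟨a, ha⟩ ⟨b, hb⟩)
    -- m is a power of p
    obtain ⟨χ, hχ⟩ := hm
    obtain ⟨n, ρ, hρ, hρχ⟩ := χ.2
    haveI := hρ
    have hito := Cfsg.Agent.S0169.result ρ A hAcomm'
    rw [Module.finrank_fin_fun, hAi] at hito
    have hnm : n = m := by
      have h1 := Cfsg.Agent.Lib.Helper7.CoprimeCount.irr_one_eq_charDegree χ
      rw [hχ, ← hρχ, Representation.char_one, Module.finrank_fin_fun] at h1
      exact_mod_cast h1
    rw [hnm] at hito
    obtain ⟨e, -, he⟩ := (Nat.dvd_prime_pow hp).mp hito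
    exact ⟨p, e, hp, he, (P : Subgroup G), A, hPn, hAn, P.2, hAcomm', hPA, hPAtop⟩
  · -- the main case
    left
    have hfacts := fun lam => inertia_facts N hcop m hm2 hdeg lam
    have hidx : ∀ lam : N →* ℂˣ, stab N lam ≠ ⊤ → (stab N lam).index = m := by
      intro lam hne
      rcases (hfacts lam).1 with h | h
      · exact absurd (Subgroup.index_eq_one.mp h) hne
      · exact h
    have hQab : ∀ lam : N →* ℂˣ, stab N lam ≠ ⊤ →
        ∀ a ∈ stab N lam, ∀ b ∈ stab N lam, a * b * a⁻¹ * b⁻¹ ∈ N := by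
      intro lam hne
      apply (hfacts lam).2
      intro h
      exact hne (Subgroup.index_eq_one.mp h)
    -- the quotient by C is nilpotent and nontrivial
    have hsurj : Function.Surjective (QuotientGroup.map N C (MonoidHom.id G) hNC) := by
      intro x
      obtain ⟨g, rfl⟩ := QuotientGroup.mk_surjective x
      exact ⟨QuotientGroup.mk g, rfl⟩
    haveI : Group.IsNilpotent (G ⧸ C) := nilpotent_of_surjective _ hsurj
    obtain ⟨g0, hg0⟩ : ∃ g : G, g ∉ C := by
      by_contra h
      push Not at h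
      exact hCtop (eq_top_iff.mpr fun g _ => h g)
    haveI : Nontrivial (G ⧸ C) := by
      refine ⟨⟨QuotientGroup.mk g0, 1, ?_⟩⟩
      intro h
      exact hg0 ((QuotientGroup.eq_one_iff g0).mp h)
    have hcen := Group.IsNilpotent.center_ne_bot (G := G ⧸ C)
    rw [Subgroup.ne_bot_iff_exists_ne_one] at hcen
    obtain ⟨⟨zbar, hzbar⟩, hzne⟩ := hcen
    obtain ⟨z, rfl⟩ := QuotientGroup.mk_surjective zbar
    have hz : z ∉ C := by
      intro h
      apply hzne
      apply Subtype.ext
      exact (QuotientGroup.eq_one_iff z).mpr h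
    have hcentral : ∀ q : G, (QuotientGroup.mk q : G ⧸ C) ∈ Subgroup.center (G ⧸ C) →
        ∀ g : G, g * q * g⁻¹ * q⁻¹ ∈ C := by
      intro q hq g
      rw [← QuotientGroup.eq_one_iff]
      rw [QuotientGroup.mk_mul, QuotientGroup.mk_mul, QuotientGroup.mk_mul, QuotientGroup.mk_inv,
        QuotientGroup.mk_inv]
      rw [Subgroup.mem_center_iff] at hq
      rw [hq (QuotientGroup.mk g)]
      group
    have hzc := hcentral z hzbar
    set k := C.index with hk
    have hkcop : Nat.Coprime k (Nat.card N) :=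
      Nat.Coprime.coprime_dvd_left (Subgroup.index_dvd_of_le hNC) hcop.symm
    obtain ⟨lam0, hl⟩ := exists_moved N hNcomm z k hkcop (Subgroup.pow_index_mem C z) hz
    set u := cj N z lam0 * lam0⁻¹ with hu
    set Q := stab N u with hQ
    have hQtop : Q ≠ ⊤ := fun h => hl (h ▸ Subgroup.mem_top z)
    have hQidx : Q.index = m := hidx u hQtop
    have hCQ : C ≤ Q := centralizer_le_stab N u
    have key1 : ∀ q ∈ Q, (∀ g : G, g * q * g⁻¹ * q⁻¹ ∈ C) → q ∈ C := by
      intro q hq hqc
      by_contra hqC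
      exact hQtop (fixed_of_central N hNcomm m hidx q k hkcop (Subgroup.pow_index_mem C q) hqc hqC u hq)
    -- the quotient by C is abelian
    have hab : ∀ a b : G, a * b * a⁻¹ * b⁻¹ ∈ C := by
      by_contra hcon
      push Not at hcon
      obtain ⟨a0, b0, hab0⟩ := hcon
      haveI : Fintype (G ⧸ C) := Fintype.ofFinite _
      have hex : ∃ θ : G ⧸ C → ℂ, IsIrrCharacter (G ⧸ C) θ ∧ θ 1 ≠ 1 := by
        by_contra hno
        push Not at hno
        have hcm := comm_of_all_linear hno (QuotientGroup.mk a0) (QuotientGroup.mk b0)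
        apply hab0
        rw [← QuotientGroup.eq_one_iff]
        rw [QuotientGroup.mk_mul, QuotientGroup.mk_mul, QuotientGroup.mk_mul, QuotientGroup.mk_inv,
          QuotientGroup.mk_inv, hcm]
        group
      obtain ⟨θ, hθ, hθ1⟩ := hex
      have hχ : IsIrrCharacter G (θ ∘ (QuotientGroup.mk' C)) :=
        isIrrCharacter_comp_of_surjective hθ _ (QuotientGroup.mk'_surjective C)
      obtain ⟨n, ρ, hρ, hρθ⟩ := hθ
      have hθn : θ 1 = n := by
        rw [← hρθ, Representation.char_one, Module.finrank_fin_fun]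
      have hnm : n = m := by
        rcases hdeg _ hχ with h | h
        · exfalso
          apply hθ1
          exact h
        · have h' : θ 1 = m := h
          rw [hθn] at h'
          exact_mod_cast h'
      set Qb : Subgroup (G ⧸ C) := Q.map (QuotientGroup.mk' C) with hQb
      set Zb : Subgroup (G ⧸ C) := Subgroup.center (G ⧸ C) with hZb
      have hQbidx : Qb.index = m := by
        rw [hQb, Subgroup.index_map_eq Q (QuotientGroup.mk'_surjective C)
          (by rw [QuotientGroup.ker_mk']; exact hCQ), hQidx]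
      have hQbcomm : ∀ x ∈ Qb, ∀ y ∈ Qb, x * y = y * x := by
        intro x hx y hy
        obtain ⟨a, ha, rfl⟩ := hx
        obtain ⟨b, hb, rfl⟩ := hy
        have h1 := hNC (hQab u hQtop a ha b hb)
        rw [← QuotientGroup.eq_one_iff] at h1
        rw [QuotientGroup.mk_mul, QuotientGroup.mk_mul, QuotientGroup.mk_mul, QuotientGroup.mk_inv,
          QuotientGroup.mk_inv] at h1
        show (QuotientGroup.mk a : G ⧸ C) * QuotientGroup.mk b = QuotientGroup.mk b * QuotientGroup.mk a
        have h2 : (QuotientGroup.mk a : G ⧸ C) * QuotientGroup.mk b =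
            ((QuotientGroup.mk a : G ⧸ C) * QuotientGroup.mk b * (QuotientGroup.mk a)⁻¹ *
              (QuotientGroup.mk b)⁻¹) * (QuotientGroup.mk b * QuotientGroup.mk a) := by group
        rw [h2, h1, one_mul]
      set Bb : Subgroup (G ⧸ C) := Qb ⊔ Zb with hBb
      have hBbcomm : ∀ x ∈ Bb, ∀ y ∈ Bb, x * y = y * x := by
        intro x hx y hy
        have hx' : x ∈ ((Qb ⊔ Zb : Subgroup (G ⧸ C)) : Set (G ⧸ C)) := hx
        have hy' : y ∈ ((Qb ⊔ Zb : Subgroup (G ⧸ C)) : Set (G ⧸ C)) := hy
        rw [Subgroup.mul_normal] at hx' hy'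
        obtain ⟨q1, hq1, z1, hz1, rfl⟩ := Set.mem_mul.mp hx'
        obtain ⟨q2, hq2, z2, hz2, rfl⟩ := Set.mem_mul.mp hy'
        have c1 : ∀ w : G ⧸ C, w * z1 = z1 * w := fun w => (Subgroup.mem_center_iff.mp hz1 w)
        have c2 : ∀ w : G ⧸ C, w * z2 = z2 * w := fun w => (Subgroup.mem_center_iff.mp hz2 w)
        have c3 := hQbcomm q1 hq1 q2 hq2
        calc q1 * z1 * (q2 * z2) = q1 * q2 * z1 * z2 := by
              rw [mul_assoc q1 z1, ← mul_assoc z1 q2, ← c1 q2]; simp only [mul_assoc]
          _ = q2 * q1 * z2 * z1 := by rw [c3, mul_assoc _ z1 z2, c2 z1, ← mul_assoc]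
          _ = q2 * z2 * (q1 * z1) := by
              rw [mul_assoc q2 z2, ← mul_assoc z2 q1, ← c2 q1]; simp only [mul_assoc]
      haveI := hρ
      have hle := Cfsg.Agent.S0178.result ρ Bb hBbcomm
      rw [Module.finrank_fin_fun, hnm] at hle
      -- but the index of Bb is less than m
      have hzB : (QuotientGroup.mk z : G ⧸ C) ∈ Bb := (le_sup_right : Zb ≤ Bb) hzbar
      have hzQ : (QuotientGroup.mk z : G ⧸ C) ∉ Qb := by
        intro h
        obtain ⟨q, hq, hqz⟩ := h
        have hqz' : (QuotientGroup.mk q : G ⧸ C) = QuotientGroup.mk z := hqz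
        have hqC : q ∈ C := key1 q hq (hcentral q (by rw [hqz']; exact hzbar))
        apply hzne
        apply Subtype.ext
        show (QuotientGroup.mk z : G ⧸ C) = 1
        rw [← hqz']
        exact (QuotientGroup.eq_one_iff q).mpr hqC
      have hQB : Qb ≤ Bb := le_sup_left
      have hdvd : Bb.index ∣ Qb.index := Subgroup.index_dvd_of_le hQB
      have hle2 : Bb.index ≤ m := by
        rw [← hQbidx]
        exact Nat.le_of_dvd (Nat.pos_of_ne_zero Subgroup.index_ne_zero_of_finite) hdvd
      have heq : Bb.index = Qb.index := by rw [hQbidx]; omega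
      have hcards : Nat.card Bb = Nat.card Qb := by
        have h1 := Subgroup.card_mul_index Bb
        have h2 := Subgroup.card_mul_index Qb
        rw [heq] at h1
        have hpos : 0 < Qb.index := Nat.pos_of_ne_zero Subgroup.index_ne_zero_of_finite
        exact Nat.eq_of_mul_eq_mul_right hpos (h1.trans h2.symm)
      have hQBeq : Qb = Bb := Subgroup.eq_of_le_of_card_ge hQB hcards.le
      exact hzQ (hQBeq ▸ hzB)
    -- hence Q = C
    have hQC : Q = C := by
      apply le_antisymm _ hCQ
      intro q hq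
      exact key1 q hq (fun g => hab g q)
    refine ⟨C, inferInstance, ?_, by rw [← hQC]; exact hQidx⟩
    intro a ha b hb
    have hc : a * b * a⁻¹ * b⁻¹ ∈ N := hQab u hQtop a (hCQ ha) b (hCQ hb)
    have hcomm_of : ∀ x ∈ C, ∀ n ∈ N, Commute n x := by
      intro x hx n hn
      rw [hC, Subgroup.mem_centralizer_iff] at hx
      exact hx n hn
    apply comm_of_class_two a b N.index (Nat.card N) hcop.symm (hcomm_of a ha _ hc)
      (hcomm_of b hb _ hc) (hcomm_of b hb _ (Subgroup.pow_index_mem N a))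
    have h1 : (⟨a * b * a⁻¹ * b⁻¹, hc⟩ : N) ^ Nat.card N = 1 := pow_card_eq_one'
    have h2 := congrArg Subtype.val h1
    rw [Subgroup.coe_pow] at h2
    exact h2


end Cfsg.Agent.S4457
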