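import Mathlib
import Cfsg.Prelude
import Cfsg.Agent.S4457
import Cfsg.Agent.S0176
import Cfsg.Agent.Lib.Helper26.CharKernel
import Cfsg.Agent.Lib.Helper26.BrauerSuzuki
import Cfsg.Agent.Lib.Helper26.UniquePSing
import Cfsg.Agent.Lib.Helper4.Monomial

set_option autoImplicit false
open Cfsg

namespace Cfsg.Agent.S4458

open Cfsg.Agent.Lib.Helper26 Cfsg.Agent.Lib.Helper2 Cfsg.Agent.Lib.Helper7
open Cfsg.Agent.Lib.Helper7.TwoDeg
open scoped commutatorElement

/-- If a finite group has exactly two irreducible character degrees, 1 and m with m ≠ 1, then its commutator subgroup is abelian. -/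
theorem result {G : Type*} [Group G] [Finite G] (m : ℕ) (hcd : ∀ χ : Cfsg.IrrCharacter G, Cfsg.charDegree (χ : G → ℂ) = 1 ∨ Cfsg.charDegree (χ : G → ℂ) = m) (hm : ∃ χ : Cfsg.IrrCharacter G, Cfsg.charDegree (χ : G → ℂ) = m) (hm1 : m ≠ 1) : ∀ a ∈ commutator G, ∀ b ∈ commutator G, a * b = b * a := by
  classical
  haveI : Fintype G := Fintype.ofFinite G
  haveI : Fintype (IrrCharacter G) := Fintype.ofFinite _
  have hm2 : 2 ≤ m := by
    obtain ⟨χ, hχ⟩ := hm
    obtain ⟨d, hd0, hd⟩ := irr_degree χ.2
    have h1 := Cfsg.Agent.Lib.Helper7.CoprimeCount.irr_one_eq_charDegree χ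
    rw [hd, hχ] at h1
    have h2 : d = m := by exact_mod_cast h1
    omega
  have hdeg : ∀ χ : G → ℂ, IsIrrCharacter G χ → χ 1 = 1 ∨ χ 1 = (m : ℂ) := by
    intro χ hχ
    have h := Cfsg.Agent.Lib.Helper7.CoprimeCount.irr_one_eq_charDegree ⟨χ, hχ⟩
    rcases hcd ⟨χ, hχ⟩ with h1 | h1
    · left
      rw [h1] at h
      simpa using h
    · right
      rw [h1] at h
      exact h
  -- nonlinear characters are monomial
  have hmono : ∀ χ : G → ℂ, IsIrrCharacter G χ → χ 1 = (m : ℂ) →
      ∃ (H : Subgroup G) (lam : H →* ℂˣ), χ = indFun H (fun h => ((lam h : ℂˣ) : ℂ)) := by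
    rcases Cfsg.Agent.S4457.result m hcd hm hm1 with
      ⟨A, hAn, hAc, hAi⟩ | ⟨p, e, hp, hme, P, A, hPn, hAn, hP, hAc, hPA, hPAtop⟩
    · intro χ hχ hχm
      haveI := hAn
      haveI : Fintype A := Fintype.ofFinite _
      have hχc := isCharacter_of_isIrrCharacter hχ
      have hχcl := isClassFunction_of_isCharacter hχc
      have hres : IsCharacter A (fun a : A => χ a) := isCharacter_comp_hom hχc A.subtype
      have hres1 : (fun a : A => χ a) 1 ≠ 0 := by
        show χ 1 ≠ 0
        rw [hχm]
        exact_mod_cast (by omega : m ≠ 0)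
      obtain ⟨θ, hθ⟩ := exists_constituent hres hres1
      have hθ1 : (θ : A → ℂ) 1 = 1 :=
        irr_degree_one_of_comm (fun a b => Subtype.ext (hAc a a.2 b b.2)) θ.2
      obtain ⟨n, ρ, hρ, hρθ⟩ := θ.2
      have hn : Module.finrank ℂ (Fin n → ℂ) = 1 := by
        rw [← hρθ, Representation.char_one] at hθ1
        exact_mod_cast hθ1
      obtain ⟨lam, hlam⟩ := Cfsg.Agent.Lib.Helper4.exists_hom_of_finrank_eq_one ρ hn
      have hlamθ : (fun h : A => ((lam h : ℂˣ) : ℂ)) = (θ : A → ℂ) := by
        funext h
        rw [hlam, hρθ]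
      refine ⟨A, lam, ?_⟩
      rw [hlamθ]
      symm
      apply Cfsg.Agent.Lib.Helper7.CoprimeCount.eq_of_constituent_of_degree _ _
        (isCharacter_indFun A (isCharacter_of_isIrrCharacter θ.2)) hχ
      · rw [classInner_indFun_left' A _ _ hχcl]
        intro h
        apply hθ
        rw [← classInner_conj_symm]
        have h' : classInner (θ : A → ℂ) (fun a : A => χ a) = 0 := h
        rw [h', map_zero]
      · rw [indFun_one, hθ1, hχm, mul_one, ← Nat.card_eq_fintype_card, ← Subgroup.card_mul_index A,
          hAi]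
        have hAne : (Nat.card A : ℂ) ≠ 0 := Nat.cast_ne_zero.mpr Nat.card_pos.ne'
        push_cast
        field_simp
    · -- nilpotent case
      haveI := hPn
      haveI := hAn
      have hcommPA : ∀ x ∈ P, ∀ a ∈ A, x * a = a * x := by
        intro x hx a ha
        exact Subgroup.commute_of_normal_of_disjoint _ _ hPn hAn (disjoint_iff.mpr hPA) x a hx ha
      have hAcen : A ≤ Subgroup.center G := by
        intro a ha
        rw [Subgroup.mem_center_iff]
        intro g
        have hg : g ∈ ((P ⊔ A : Subgroup G) : Set G) := by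
          rw [hPAtop]; exact Set.mem_univ g
        rw [Subgroup.mul_normal] at hg
        obtain ⟨x, hx, b, hb, rfl⟩ := Set.mem_mul.mp hg
        rw [mul_assoc, hAc b hb a ha, ← mul_assoc, hcommPA x hx a ha, mul_assoc]
      haveI : Fact p.Prime := ⟨hp⟩
      have hPq : IsPGroup p (G ⧸ A) := by
        have h1 : IsPGroup p (P.map (QuotientGroup.mk' A)) := hP.map _
        have h2 : P.map (QuotientGroup.mk' A) = ⊤ := by
          rw [eq_top_iff]
          intro x _
          obtain ⟨g, rfl⟩ := QuotientGroup.mk_surjective x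
          have hg : g ∈ ((P ⊔ A : Subgroup G) : Set G) := by
            rw [hPAtop]; exact Set.mem_univ g
          rw [Subgroup.mul_normal] at hg
          obtain ⟨y, hy, b, hb, rfl⟩ := Set.mem_mul.mp hg
          refine ⟨y, hy, ?_⟩
          show (QuotientGroup.mk y : G ⧸ A) = QuotientGroup.mk (y * b)
          rw [QuotientGroup.mk_mul, (QuotientGroup.eq_one_iff b).mpr hb, mul_one]
        rw [h2] at h1
        intro x
        obtain ⟨k, hk⟩ := h1 ⟨x, Subgroup.mem_top x⟩
        exact ⟨k, congrArg Subtype.val hk⟩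
      haveI : Group.IsNilpotent (G ⧸ A) := hPq.isNilpotent
      haveI : Group.IsNilpotent G :=
        isNilpotent_of_ker_le_center (QuotientGroup.mk' A) (by rw [QuotientGroup.ker_mk']; exact hAcen)
      intro χ hχ _
      exact Cfsg.Agent.S0176.result χ hχ
  have hker : ∀ χ : G → ℂ, IsIrrCharacter G χ → ∀ a ∈ commutator G, ∀ b ∈ commutator G,
      χ (a * b * a⁻¹ * b⁻¹) = χ 1 := by
    intro χ hχ a ha b hb
    rcases hdeg χ hχ with h1 | h1
    · rw [Cfsg.Agent.Lib.Helper4.irrChar_commutator_of_degree_one hχ h1, h1]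
    · obtain ⟨H, lam, hχH⟩ := hmono χ hχ h1
      haveI : Fintype H := Fintype.ofFinite _
      have hHne : (Nat.card H : ℂ) ≠ 0 := Nat.cast_ne_zero.mpr Nat.card_pos.ne'
      have hHidx : H.index = m := by
        have h2 : χ 1 = (H.index : ℂ) := by
          rw [hχH, indFun_one, map_one, ← Nat.card_eq_fintype_card, ← Subgroup.card_mul_index H]
          push_cast
          field_simp
        rw [h1] at h2
        exact_mod_cast h2.symm
      -- the permutation character
      set X : G → ℂ := indFun H (fun _ => (1 : ℂ)) with hX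
      have honeH : IsIrrCharacter H (fun _ => (1 : ℂ)) := Cfsg.Agent.Lib.Helper4.isIrrCharacter_one
      have honeG : IsIrrCharacter G (fun _ => (1 : ℂ)) := Cfsg.Agent.Lib.Helper4.isIrrCharacter_one
      have hXc : IsCharacter G X := isCharacter_indFun H (isCharacter_of_isIrrCharacter honeH)
      have hXcl := isClassFunction_of_isCharacter hXc
      have he : ∀ ψ : IrrCharacter G, ∃ e : ℕ, classInner X (ψ : G → ℂ) = e := fun ψ =>
        classInner_isCharacter_nat hXc (isCharacter_of_isIrrCharacter ψ.2)
      choose e he using he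
      have hexp := Cfsg.Agent.Lib.Helper4.classFunction_expansion X hXcl
      have hXg : ∀ g : G, X g = ∑ ψ : IrrCharacter G, (e ψ : ℂ) * (ψ : G → ℂ) g := by
        intro g
        have := congrFun hexp g
        rw [this]
        simp only [Finset.sum_apply, Pi.smul_apply, smul_eq_mul]
        refine Finset.sum_congr rfl fun ψ _ => ?_
        rw [he ψ]
      have hX1 : X 1 = (m : ℂ) := by
        rw [hX, indFun_one, ← Nat.card_eq_fintype_card, ← Subgroup.card_mul_index H, hHidx]
        push_cast
        field_simp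
      have hd : ∀ ψ : IrrCharacter G, ∃ d : ℕ, 0 < d ∧ (ψ : G → ℂ) 1 = d := fun ψ => irr_degree ψ.2
      choose d hdpos hd using hd
      have hsum : ∑ ψ : IrrCharacter G, e ψ * d ψ = m := by
        have h2 := hXg 1
        rw [hX1] at h2
        have h3 : (m : ℂ) = ((∑ ψ : IrrCharacter G, e ψ * d ψ : ℕ) : ℂ) := by
          rw [h2]
          push_cast
          refine Finset.sum_congr rfl fun ψ _ => ?_
          rw [hd ψ]
        exact_mod_cast h3.symm
      -- the principal character has multiplicity one
      set ψ1 : IrrCharacter G := ⟨fun _ => (1 : ℂ), honeG⟩ with hψ1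
      have he1 : e ψ1 = 1 := by
        have h2 := he ψ1
        rw [hX, classInner_indFun_left' H _ _ (isClassFunction_of_isCharacter
          (isCharacter_of_isIrrCharacter honeG))] at h2
        have h3 := classInner_irr honeH honeH
        rw [if_pos rfl] at h3
        have h4 : classInner (fun _ : H => (1 : ℂ)) ((ψ1 : G → ℂ) ∘ H.subtype) = 1 := h3
        rw [h4] at h2
        exact_mod_cast h2.symm
      have hd1 : d ψ1 = 1 := by
        have h2 := hd ψ1
        have h3 : (ψ1 : G → ℂ) 1 = 1 := rfl
        rw [h3] at h2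
        exact_mod_cast h2.symm
      -- all constituents are linear
      have hlin : ∀ ψ : IrrCharacter G, e ψ ≠ 0 → (ψ : G → ℂ) 1 = 1 := by
        intro ψ hψe
        rcases hdeg _ ψ.2 with h2 | h2
        · exact h2
        · exfalso
          have hdm : d ψ = m := by
            rw [hd ψ] at h2
            exact_mod_cast h2
          have hne : ψ ≠ ψ1 := by
            intro h
            rw [h, hd1] at hdm
            omega
          have h3 : e ψ1 * d ψ1 + e ψ * d ψ ≤ ∑ φ : IrrCharacter G, e φ * d φ := by
            rw [← Finset.sum_pair (f := fun φ : IrrCharacter G => e φ * d φ) hne.symm]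
            apply Finset.sum_le_sum_of_subset
            exact Finset.subset_univ _
          rw [hsum, he1, hd1, hdm] at h3
          have h4 : 1 ≤ e ψ := Nat.one_le_iff_ne_zero.mpr hψe
          nlinarith
      -- the commutator subgroup lies in H
      have hGH : commutator G ≤ H := by
        intro g hg
        apply mem_of_indFun_const_one_eq H g
        show X g = X 1
        rw [hXg g, hXg 1]
        refine Finset.sum_congr rfl fun ψ _ => ?_
        by_cases hψe : e ψ = 0
        · rw [hψe]; simp
        · have h2 := hlin ψ hψe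
          rw [linear_trivial_on_commutator ψ.2 h2 g hg, h2]
      -- the value at a commutator of commutators
      haveI : (commutator G).Normal := inferInstance
      set D : Subgroup G := ⁅commutator G, commutator G⁆ with hD
      haveI : D.Normal := Subgroup.commutator_normal _ _
      have hDH : D ≤ H := (Subgroup.commutator_le_left _ _).trans hGH
      have hDlam : ∀ x (hx : x ∈ D), lam ⟨x, hDH hx⟩ = 1 := by
        have hDle : D ≤ (lam.ker).map H.subtype := by
          rw [hD, Subgroup.commutator_le]
          intro a' ha' b' hb'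
          refine ⟨⁅(⟨a', hGH ha'⟩ : H), ⟨b', hGH hb'⟩⁆, ?_, rfl⟩
          show ⁅(⟨a', hGH ha'⟩ : H), ⟨b', hGH hb'⟩⁆ ∈ lam.ker
          rw [MonoidHom.mem_ker, map_commutatorElement]
          exact commutatorElement_eq_one_iff_commute.mpr (Commute.all _ _)
        intro x hx
        obtain ⟨y, hy, hyx⟩ := hDle hx
        have : (⟨x, hDH hx⟩ : H) = y := Subtype.ext hyx.symm
        rw [this]
        exact hy
      have hc : a * b * a⁻¹ * b⁻¹ ∈ D := by
        have := Subgroup.commutator_mem_commutator ha hb
        rwa [commutatorElement_def] at this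
      rw [hχH]
      apply indFun_eq_degree_of_normal_le_ker H _ D hDH _ _ hc
      intro x hx
      show ((lam ⟨x, hDH hx⟩ : ℂˣ) : ℂ) = ((lam 1 : ℂˣ) : ℂ)
      rw [hDlam x hx, map_one]
  intro a ha b hb
  by_contra hab
  have hc : a * b * a⁻¹ * b⁻¹ ≠ 1 := by
    intro h1
    apply hab
    have : a * b * a⁻¹ * b⁻¹ * (b * a) = b * a := by rw [h1, one_mul]
    rw [← this]
    group
  obtain ⟨θ, hθ⟩ := exists_irr_ne_of_ne_one _ hc
  exact hθ (hker _ θ.2 a ha b hb)


end Cfsg.Agent.S4458
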