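import Mathlib
import Cfsg.Prelude
import Cfsg.Agent.Lib.Helper7.TwoDegI
import Cfsg.Agent.S4457
import Cfsg.Agent.S0169
import Cfsg.Agent.S0179
import Cfsg.Agent.S1492
import Cfsg.Agent.S0855

set_option autoImplicit false
open Cfsg

namespace Cfsg.Agent.S4459

open Cfsg.Agent.Lib.Helper26 Cfsg.Agent.Lib.Helper2 Cfsg.Agent.Lib.Helper7
open Cfsg.Agent.Lib.Helper7.TwoDeg

theorem comm_prod {G : Type*} [Group G] (x1 a1 x2 a2 : G) (h1 : x1 * x2 = x2 * x1)
    (h2 : a1 * a2 = a2 * a1) (h3 : x2 * a1 = a1 * x2) (h4 : x1 * a2 = a2 * x1) :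
    x1 * a1 * (x2 * a2) = x2 * a2 * (x1 * a1) := by
  calc x1 * a1 * (x2 * a2) = x1 * (a1 * x2) * a2 := by group
    _ = x1 * (x2 * a1) * a2 := by rw [h3]
    _ = (x1 * x2) * (a1 * a2) := by group
    _ = (x2 * x1) * (a2 * a1) := by rw [h1, h2]
    _ = x2 * (x1 * a2) * a1 := by group
    _ = x2 * (a2 * x1) * a1 := by rw [h4]
    _ = x2 * a2 * (x1 * a1) := by group

section Transfer
variable {G : Type*} [Group G] [Finite G] (P A : Subgroup G) [hPn : P.Normal] [hAn : A.Normal]
  (hPA : P ⊓ A = ⊥) (hPAtop : P ⊔ A = ⊤)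

/-- the composite `P → G → G/A` -/
def fPA : P →* G ⧸ A := (QuotientGroup.mk' A).comp P.subtype

include hPA in
theorem fPA_injective : Function.Injective (fPA P A) := by
  rw [injective_iff_map_eq_one]
  intro x hx
  have h1 : (x : G) ∈ A := by
    have h0 : (QuotientGroup.mk (x : G) : G ⧸ A) = 1 := hx
    exact (QuotientGroup.eq_one_iff _).mp h0
  have h2 : (x : G) ∈ P ⊓ A := ⟨x.2, h1⟩
  rw [hPA, Subgroup.mem_bot] at h2
  exact Subtype.ext h2

include hPAtop in
theorem fPA_surjective : Function.Surjective (fPA P A) := by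
  intro y
  obtain ⟨g, rfl⟩ := QuotientGroup.mk_surjective y
  have hg : g ∈ ((P ⊔ A : Subgroup G) : Set G) := by rw [hPAtop]; exact Set.mem_univ g
  rw [Subgroup.mul_normal] at hg
  obtain ⟨x, hx, a, ha, rfl⟩ := Set.mem_mul.mp hg
  refine ⟨⟨x, hx⟩, ?_⟩
  show (QuotientGroup.mk x : G ⧸ A) = QuotientGroup.mk (x * a)
  rw [QuotientGroup.eq]
  simpa using ha

/-- transfer of a subgroup of `P` to `G`: `B ↦ B·A` -/
def tr (B : Subgroup P) : Subgroup G := (B.map (fPA P A)).comap (QuotientGroup.mk' A)

include hPA hPAtop in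
theorem tr_index (B : Subgroup P) : (tr P A B).index = B.index := by
  unfold tr
  rw [Subgroup.index_comap_of_surjective _ (QuotientGroup.mk'_surjective A)]
  apply Subgroup.index_map_eq _ (fPA_surjective P A hPAtop)
  rw [(MonoidHom.ker_eq_bot_iff _).mpr (fPA_injective P A hPA)]
  exact bot_le

theorem mem_tr (B : Subgroup P) (x : G) :
    x ∈ tr P A B ↔ ∃ b ∈ B, ∃ a ∈ A, x = (b : G) * a := by
  unfold tr
  rw [Subgroup.mem_comap, Subgroup.mem_map]
  constructor
  · rintro ⟨b, hb, hbx⟩
    have h1 : (QuotientGroup.mk (b : G) : G ⧸ A) = QuotientGroup.mk x := hbx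
    rw [QuotientGroup.eq] at h1
    exact ⟨b, hb, (b : G)⁻¹ * x, h1, by group⟩
  · rintro ⟨b, hb, a, ha, rfl⟩
    refine ⟨b, hb, ?_⟩
    show (QuotientGroup.mk (b : G) : G ⧸ A) = QuotientGroup.mk ((b : G) * a)
    rw [QuotientGroup.eq]
    simpa using ha

include hPAtop in
theorem tr_normal (B : Subgroup P) [B.Normal] : (tr P A B).Normal := by
  unfold tr
  haveI : (B.map (fPA P A)).Normal :=
    Subgroup.Normal.map inferInstance _ (fPA_surjective P A hPAtop)
  infer_instance

end Transfer

/-- Let G be a non-abelian finite group and p a prime. Then the irreducible character degrees of G are exactly 1 and p if and only if either G has an abelian normal subgroup of index p or the centre of G has index p³. -/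
theorem result {G : Type*} [Group G] [Finite G] (hG : ∃ a b : G, a * b ≠ b * a) (p : ℕ) (hp : p.Prime) : ((∀ χ : Cfsg.IrrCharacter G, Cfsg.charDegree (χ : G → ℂ) = 1 ∨ Cfsg.charDegree (χ : G → ℂ) = p) ∧ ∃ χ : Cfsg.IrrCharacter G, Cfsg.charDegree (χ : G → ℂ) = p) ↔ ((∃ A : Subgroup G, A.Normal ∧ (∀ a ∈ A, ∀ b ∈ A, a * b = b * a) ∧ A.index = p) ∨ (Subgroup.center G).index = p ^ 3) := by
  classical
  haveI : Fintype G := Fintype.ofFinite G
  haveI : Fact p.Prime := ⟨hp⟩
  have hnum : ∀ χ : IrrCharacter G, ∃ n : ℕ, ∃ ρ : Representation ℂ G (Fin n → ℂ),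
      ρ.IsIrreducible ∧ charDegree (χ : G → ℂ) = n := by
    intro χ
    obtain ⟨n, ρ, hρ, hρχ⟩ := χ.2
    refine ⟨n, ρ, hρ, ?_⟩
    have h1 := Cfsg.Agent.Lib.Helper7.CoprimeCount.irr_one_eq_charDegree χ
    have h2 : (χ : G → ℂ) 1 = (n : ℂ) := by
      rw [← hρχ, Representation.char_one, Module.finrank_fin_fun]
    rw [h2] at h1
    exact_mod_cast h1.symm
  have hnonlin : (∀ χ : IrrCharacter G, charDegree (χ : G → ℂ) = 1 ∨
      charDegree (χ : G → ℂ) = p) → ∃ χ : IrrCharacter G, charDegree (χ : G → ℂ) = p := by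
    intro hcd
    by_contra hno
    push Not at hno
    have hlin : ∀ θ : G → ℂ, IsIrrCharacter G θ → θ 1 = 1 := by
      intro θ hθ
      have h1 := Cfsg.Agent.Lib.Helper7.CoprimeCount.irr_one_eq_charDegree ⟨θ, hθ⟩
      rcases hcd ⟨θ, hθ⟩ with h | h
      · rw [h] at h1; simpa using h1
      · exact absurd h (hno ⟨θ, hθ⟩)
    obtain ⟨a, b, hab⟩ := hG
    exact hab (comm_of_all_linear hlin a b)
  constructor
  · rintro ⟨hcd, hm⟩
    rcases Cfsg.Agent.S4457.result p hcd hm hp.one_lt.ne' with
      hA | ⟨p', e, hp', hpe, P, A, hPn, hAn, hPp, hAc, hPA, hPAtop⟩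
    · left; exact hA
    · have hpp : p' = p := by
        have he : e ≠ 0 := by
          intro h; rw [h, pow_zero] at hpe; exact hp.one_lt.ne' hpe
        have h1 : p' ∣ p := hpe ▸ dvd_pow_self p' he
        exact (Nat.prime_dvd_prime_iff_eq hp' hp).mp h1
      rw [hpp] at hPp
      haveI := hPn
      haveI := hAn
      haveI : Fintype P := Fintype.ofFinite _
      have hcommPA : ∀ x ∈ P, ∀ a ∈ A, x * a = a * x := by
        intro x hx a ha
        exact Subgroup.commute_of_normal_of_disjoint _ _ hPn hAn (disjoint_iff.mpr hPA) x a hx ha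
      have hdecomp : ∀ g : G, ∃ x ∈ P, ∃ a ∈ A, g = x * a := by
        intro g
        have hg : g ∈ ((P ⊔ A : Subgroup G) : Set G) := by rw [hPAtop]; exact Set.mem_univ g
        rw [Subgroup.mul_normal] at hg
        obtain ⟨x, hx, a, ha, rfl⟩ := Set.mem_mul.mp hg
        exact ⟨x, hx, a, ha, rfl⟩
      have hdegP : ∀ θ : P → ℂ, IsIrrCharacter P θ → θ 1 = 1 ∨ θ 1 = (p : ℂ) := by
        intro θ hθ
        obtain ⟨χ, d, c, hd, hc, hdc⟩ := Cfsg.Agent.S0855.exists_dvd_degree P θ hθ
        have h1 := Cfsg.Agent.Lib.Helper7.CoprimeCount.irr_one_eq_charDegree χ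
        rw [hc] at h1
        have h2 : c = charDegree (χ : G → ℂ) := by exact_mod_cast h1
        rcases hcd χ with h | h
        · left
          rw [h] at h2; rw [h2] at hdc
          rw [hd, Nat.dvd_one.mp hdc]; simp
        · rw [h] at h2; rw [h2] at hdc
          rcases (Nat.dvd_prime hp).mp hdc with h3 | h3
          · left; rw [hd, h3]; simp
          · right; rw [hd, h3]
      have hPna : ∃ a b : P, a * b ≠ b * a := by
        by_contra hcon
        push Not at hcon
        obtain ⟨a, b, hab⟩ := hG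
        apply hab
        obtain ⟨x1, hx1, a1, ha1, rfl⟩ := hdecomp a
        obtain ⟨x2, hx2, a2, ha2, rfl⟩ := hdecomp b
        have h1 : x1 * x2 = x2 * x1 := congrArg Subtype.val (hcon ⟨x1, hx1⟩ ⟨x2, hx2⟩)
        exact comm_prod x1 a1 x2 a2 h1 (hAc a1 ha1 a2 ha2) (hcommPA x2 hx2 a1 ha1)
          (hcommPA x1 hx1 a2 ha2)
      rcases pgroup_case (P := P) p hp hPp hPna hdegP with ⟨B, hBc, hBi⟩ | hcen
      · left
        haveI hBn : B.Normal := by
          apply Subgroup.normal_of_index_eq_minFac_card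
          obtain ⟨n, hn⟩ := IsPGroup.iff_card.mp hPp
          have hn0 : n ≠ 0 := by
            intro h
            rw [h, pow_zero] at hn
            have h1 : B.index ∣ Nat.card P := Subgroup.index_dvd_card B
            rw [hn, hBi] at h1
            exact hp.one_lt.ne' (Nat.dvd_one.mp h1)
          rw [hBi, hn, Nat.pow_minFac hn0, hp.minFac_eq]
        refine ⟨tr P A B, tr_normal P A hPAtop B, ?_, ?_⟩
        · intro x hx y hy
          obtain ⟨b1, hb1, a1, ha1, rfl⟩ := (mem_tr P A B x).mp hx
          obtain ⟨b2, hb2, a2, ha2, rfl⟩ := (mem_tr P A B y).mp hy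
          have h1 : (b1 : G) * b2 = b2 * b1 := congrArg Subtype.val (hBc b1 hb1 b2 hb2)
          exact comm_prod _ a1 _ a2 h1 (hAc a1 ha1 a2 ha2) (hcommPA b2 b2.2 a1 ha1)
            (hcommPA b1 b1.2 a2 ha2)
        · rw [tr_index P A hPA hPAtop, hBi]
      · right
        have hZ : Subgroup.center G = tr P A (Subgroup.center P) := by
          ext z
          rw [mem_tr, Subgroup.mem_center_iff]
          constructor
          · intro hz
            obtain ⟨x, hx, a, ha, rfl⟩ := hdecomp z
            refine ⟨⟨x, hx⟩, ?_, a, ha, rfl⟩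
            rw [Subgroup.mem_center_iff]
            intro y
            apply Subtype.ext
            show (y : G) * x = x * y
            have h1 := hz y
            have h2 := hcommPA y y.2 a ha
            have h3 : (y : G) * x * a = x * y * a := by
              calc (y : G) * x * a = y * (x * a) := by group
                _ = x * a * y := h1
                _ = x * (a * y) := by group
                _ = x * (y * a) := by rw [h2]
                _ = x * y * a := by group
            exact mul_right_cancel h3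
          · rintro ⟨b, hb, a, ha, rfl⟩ g
            obtain ⟨x, hx, a', ha', rfl⟩ := hdecomp g
            rw [Subgroup.mem_center_iff] at hb
            have h1 : x * (b : G) = b * x := congrArg Subtype.val (hb ⟨x, hx⟩)
            exact comm_prod x a' _ a h1 (hAc a' ha' a ha) (hcommPA b b.2 a' ha')
              (hcommPA x hx a ha)
        rw [hZ, tr_index P A hPA hPAtop, hcen]
  · intro h
    have hcd : ∀ χ : IrrCharacter G, charDegree (χ : G → ℂ) = 1 ∨
        charDegree (χ : G → ℂ) = p := by
      intro χ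
      obtain ⟨n, ρ, hρ, hn⟩ := hnum χ
      haveI := hρ
      rcases h with ⟨A, hAn, hAc, hAi⟩ | hZ
      · haveI := hAn
        have hito := Cfsg.Agent.S0169.result ρ A hAc
        rw [Module.finrank_fin_fun, hAi] at hito
        rw [hn]
        exact (Nat.dvd_prime hp).mp hito
      · have h1 := Cfsg.Agent.S0179.result ρ
        rw [Module.finrank_fin_fun, hZ] at h1
        obtain ⟨i, hi3, hi⟩ := (Nat.dvd_prime_pow hp).mp h1
        have h2 := Cfsg.Agent.S1492.result (χ : G → ℂ) χ.2 ⊥ ⊤ (Subgroup.center G) bot_le le_top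
          (fun c _ b hb => by rw [Subgroup.mem_bot] at hb ⊢; rw [hb]; group)
          (fun d hd c _ => by
            rw [Subgroup.mem_bot]; rw [Subgroup.mem_center_iff] at hd; rw [← hd c]; group)
          (fun b hb => by rw [Subgroup.mem_bot.mp hb])
        have hχ1 : (χ : G → ℂ) 1 = (n : ℂ) := by
          have h0 := Cfsg.Agent.Lib.Helper7.CoprimeCount.irr_one_eq_charDegree χ
          rw [h0, hn]
        rw [hχ1, Complex.norm_natCast, Subgroup.card_top] at h2
        have hcz := Subgroup.card_mul_index (Subgroup.center G)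
        rw [hZ] at hcz
        have h3 : n ^ 2 * Nat.card G * Nat.card (Subgroup.center G) ≤ Nat.card G ^ 2 := by
          exact_mod_cast h2
        have hGpos : 0 < Nat.card G := Nat.card_pos
        have hZpos : 0 < Nat.card (Subgroup.center G) := Nat.card_pos
        have h4 : n ^ 2 ≤ p ^ 3 := by
          have h5 : n ^ 2 * (Nat.card G * Nat.card (Subgroup.center G)) ≤
              p ^ 3 * (Nat.card G * Nat.card (Subgroup.center G)) := by
            calc n ^ 2 * (Nat.card G * Nat.card (Subgroup.center G))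
                = n ^ 2 * Nat.card G * Nat.card (Subgroup.center G) := by ring
              _ ≤ Nat.card G ^ 2 := h3
              _ = p ^ 3 * (Nat.card G * Nat.card (Subgroup.center G)) := by rw [← hcz]; ring
          exact Nat.le_of_mul_le_mul_right h5 (Nat.mul_pos hGpos hZpos)
        rw [hi, ← pow_mul] at h4
        have h6 : i * 2 ≤ 3 := (Nat.pow_le_pow_iff_right hp.one_lt).mp h4
        have hi1 : i = 0 ∨ i = 1 := by omega
        rw [hn, hi]
        rcases hi1 with h | h
        · left; rw [h, pow_zero]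
        · right; rw [h, pow_one]
    exact ⟨hcd, hnonlin hcd⟩


end Cfsg.Agent.S4459
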