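import Cfsg.Statements.S4470
import Cfsg.Agent.Lib.Helper4.JordanE

set_option autoImplicit false
open Cfsg

namespace Cfsg.Agent.S4470

/-- Let the finite group G have a faithful character of degree n. Then G has an abelian normal subgroup A such that every abelian subgroup H of G satisfies [H : H ⊓ A] ≤ 12^n. -/
theorem result {G : Type*} [Group G] [Finite G] (χ : G → ℂ) (hχ : Cfsg.IsCharacter G χ) (hfaith : ∀ g : G, χ g = χ 1 → g = 1) (n : ℕ) (hn : Cfsg.charDegree χ = n) : ∃ A : Subgroup G, A.Normal ∧ (∀ x ∈ A, ∀ y ∈ A, x * y = y * x) ∧ ∀ H : Subgroup G, (∀ x ∈ H, ∀ y ∈ H, x * y = y * x) → (A.subgroupOf H).index ≤ 12 ^ n := by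
  obtain ⟨n', ρ, hρ⟩ := hχ
  have h1 : χ 1 = (n' : ℂ) := by
    rw [← hρ]
    simp [Representation.character]
  have hn' : n' = n := by
    rw [← hn]
    unfold Cfsg.charDegree
    rw [h1]
    simp
  subst hn'
  have hinj : Function.Injective ρ := by
    intro g h hgh
    have h3 : ρ (g * h⁻¹) = 1 := by
      rw [map_mul, hgh, ← map_mul, mul_inv_cancel, map_one]
    have h2 : χ (g * h⁻¹) = χ 1 := by
      rw [← hρ]
      simp only [Representation.character]
      rw [h3, map_one ρ]
    have h4 := hfaith _ h2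
    exact mul_inv_eq_one.mp h4
  exact Cfsg.Agent.Lib.Helper4.Jordan.jordan_rep ρ hinj

end Cfsg.Agent.S4470
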