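import Cfsg.Statements.S4473
import Cfsg.Agent.Lib.Helper4.Prim2E

set_option autoImplicit false
open Cfsg

namespace Cfsg.Agent.S4473

/-- Let the finite group G have a faithful irreducible character χ of degree 2 that is primitive: χ is not induced from a character of any proper subgroup. Then the centre of G has index 12, 24 or 60. -/
theorem result {G : Type*} [Group G] [Fintype G] (χ : Cfsg.IrrCharacter G) (hfaith : ∀ g : G, (χ : G → ℂ) g = (χ : G → ℂ) 1 → g = 1) (h2 : Cfsg.charDegree (χ : G → ℂ) = 2) (hprim : ∀ H : Subgroup G, H ≠ ⊤ → ∀ θ : H → ℂ, Cfsg.IsCharacter H θ → (χ : G → ℂ) ≠ Cfsg.indFun H θ) : (Subgroup.center G).index = 12 ∨ (Subgroup.center G).index = 24 ∨ (Subgroup.center G).index = 60 := by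
  obtain ⟨n', ρ, hirr, hρ⟩ := χ.2
  have h1 : (χ : G → ℂ) 1 = (n' : ℂ) := by
    rw [← hρ]
    simp [Representation.character]
  have hn' : n' = 2 := by
    rw [← h2]
    unfold Cfsg.charDegree
    rw [h1]
    simp
  subst hn'
  have hinj : Function.Injective ρ := by
    intro g h hgh
    have h3 : ρ (g * h⁻¹) = 1 := by
      rw [map_mul, hgh, ← map_mul, mul_inv_cancel, map_one]
    have h4 : (χ : G → ℂ) (g * h⁻¹) = (χ : G → ℂ) 1 := by
      rw [← hρ]
      simp only [Representation.character]
      rw [h3, map_one ρ]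
    have h5 := hfaith _ h4
    exact mul_inv_eq_one.mp h5
  have hprim' : ∀ H : Subgroup G, H ≠ ⊤ → ∀ θ : H → ℂ, Cfsg.IsCharacter H θ →
      ρ.character ≠ Cfsg.indFun H θ := by
    intro H hH θ hθ
    rw [hρ]
    exact hprim H hH θ hθ
  exact Cfsg.Agent.Lib.Helper4.Prim2.prim2_main hirr hinj hprim'

end Cfsg.Agent.S4473
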