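import Cfsg.Statements.S4474
-- import your own Cfsg.Agent.* helpers here
import Mathlib
import Cfsg.Agent.S0158

set_option autoImplicit false
open Cfsg

namespace Cfsg.Agent.S4474

open Cfsg.Agent.Lib.Helper4 Cfsg.Agent.Lib.Helper28 Cfsg.Agent.S0895 Cfsg.Agent.S0158
open scoped ComplexConjugate

section Basics

variable {G : Type*} [Group G] {n : ℕ}

/-- entrywise complex conjugation of matrices, as a ring homomorphism -/
noncomputable def cj : Matrix (Fin n) (Fin n) ℂ →+* Matrix (Fin n) (Fin n) ℂ :=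
  (starRingEnd ℂ).mapMatrix

theorem cj_apply (M : Matrix (Fin n) (Fin n) ℂ) (i j : Fin n) : cj M i j = conj (M i j) := rfl

theorem cj_cj (M : Matrix (Fin n) (Fin n) ℂ) : cj (cj M) = M := by
  ext i j
  rw [cj_apply, cj_apply, Complex.conj_conj]

theorem cj_transpose (M : Matrix (Fin n) (Fin n) ℂ) : cj M.transpose = (cj M).transpose := by
  ext i j
  rfl

theorem cj_smul (c : ℂ) (M : Matrix (Fin n) (Fin n) ℂ) : cj (c • M) = conj c • cj M := by
  ext i j
  rw [cj_apply, Matrix.smul_apply, Matrix.smul_apply, cj_apply, smul_eq_mul, smul_eq_mul, map_mul]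

theorem trace_mul_cj_transpose (M : Matrix (Fin n) (Fin n) ℂ) :
    (M * (cj M).transpose).trace = ((∑ i, ∑ j, Complex.normSq (M i j) : ℝ) : ℂ) := by
  rw [Matrix.trace]
  push_cast
  refine Finset.sum_congr rfl fun i _ => ?_
  rw [Matrix.diag_apply, Matrix.mul_apply]
  refine Finset.sum_congr rfl fun j _ => ?_
  rw [Matrix.transpose_apply, cj_apply, Complex.mul_conj]

variable [Fintype G]

theorem sum_sq_eq_of_sign {ρ : Representation ℂ G (Fin n → ℂ)} (ε : ℂ) (hεε : ε * ε = 1)
    (hsign : ∀ Y : Matrix (Fin n) (Fin n) ℂ, IsInv ρ Y → Y.transpose = ε • Y) :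
    ∑ s : G, ρ.character (s * s) = ε * ∑ s : G, ρ.character s * ρ.character s := by
  have hsq : ∀ s : G, ρ.character (s * s) = ∑ i, ∑ j, mat ρ s i j * mat ρ s j i := by
    intro s
    rw [← trace_mat, mat_mul, Matrix.trace]
    refine Finset.sum_congr rfl fun i _ => ?_
    rw [Matrix.diag_apply, Matrix.mul_apply]
  have hprod : ∀ s : G, ρ.character s * ρ.character s = ∑ i, ∑ j, mat ρ s i i * mat ρ s j j := by
    intro s
    rw [← trace_mat, Matrix.trace, Finset.sum_mul_sum]
    rfl
  have key : ∀ i j : Fin n, ∑ s : G, mat ρ s i i * mat ρ s j j =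
      ε * ∑ s : G, mat ρ s i j * mat ρ s j i := by
    intro i j
    have h1 := hsign _ (avgForm_isInv ρ (Pi.single j 1) (Pi.single i 1))
    rw [avgForm_transpose] at h1
    have h2 := congrFun (congrFun h1 i) j
    rw [Matrix.smul_apply, avgForm_apply, avgForm_apply, smul_eq_mul] at h2
    exact h2
  simp_rw [hsq, hprod]
  rw [Finset.sum_comm, Finset.sum_comm (f := fun s i => ∑ j, mat ρ s i i * mat ρ s j j)]
  simp_rw [Finset.sum_comm (s := (Finset.univ : Finset G))]
  simp_rw [key, ← Finset.mul_sum]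
  rw [← mul_assoc, hεε, one_mul]

theorem sum_char_mul_eq (ρ : Representation ℂ G (Fin n → ℂ)) :
    ∑ s : G, ρ.character s * ρ.character s =
      ∑ i, ∑ j, avgForm ρ (Pi.single i 1) (Pi.single j 1) i j := by
  have hprod : ∀ s : G, ρ.character s * ρ.character s = ∑ i, ∑ j, mat ρ s i i * mat ρ s j j := by
    intro s
    rw [← trace_mat, Matrix.trace, Finset.sum_mul_sum]
    rfl
  simp_rw [hprod, avgForm_apply]
  rw [Finset.sum_comm]
  refine Finset.sum_congr rfl fun i _ => ?_
  rw [Finset.sum_comm]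

theorem indicator_of_sign (χ : Cfsg.IrrCharacter G) {ρ : Representation ℂ G (Fin n → ℂ)}
    (hρχ : ρ.character = (χ : G → ℂ)) (ε : ℂ) (hεε : ε * ε = 1)
    (hsign : ∀ Y : Matrix (Fin n) (Fin n) ℂ, IsInv ρ Y → Y.transpose = ε • Y) :
    (Nat.card G : ℂ)⁻¹ * ∑ s : G, (χ : G → ℂ) (s * s) =
      ε * (if χ = irrConj χ then 1 else 0) := by
  have h1 := classInner_irr χ (irrConj χ)
  unfold Cfsg.classInner at h1
  simp only [irrConj_apply, Complex.conj_conj] at h1
  rw [← h1, ← hρχ, sum_sq_eq_of_sign ε hεε hsign]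
  ring

end Basics

section RealToSymm

variable {G : Type*} [Group G] [Fintype G] {n : ℕ}

theorem pos_of_irreducible {ρ : Representation ℂ G (Fin n → ℂ)} (hρ : ρ.IsIrreducible) :
    0 < n := by
  have hnt : Nontrivial (Fin n → ℂ) := by
    have := hρ
    by_contra hnt
    rw [not_nontrivial_iff_subsingleton] at hnt
    obtain ⟨a, b, hab⟩ := (inferInstance : Nontrivial (Subrepresentation ρ))
    apply hab
    ext x
    have : x = 0 := Subsingleton.elim _ _
    subst this
    simp only [Submodule.zero_mem]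
  rcases Nat.eq_zero_or_pos n with h | h
  · subst h
    exact absurd (inferInstance : Subsingleton (Fin 0 → ℂ)) (not_subsingleton _)
  · exact h

/-- an intertwiner into an irreducible representation is zero or invertible -/
theorem isUnit_of_intertwine {ρ : Representation ℂ G (Fin n → ℂ)} (hρ : ρ.IsIrreducible)
    (TC : G → Matrix (Fin n) (Fin n) ℂ) (P : Matrix (Fin n) (Fin n) ℂ)
    (hP : ∀ g : G, mat ρ g * P = P * TC g) (hP0 : P ≠ 0) : IsUnit P := by
  let σ : Subrepresentation ρ :=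
    { toSubmodule := LinearMap.range P.mulVecLin
      apply_mem_toSubmodule := by
        rintro g _ ⟨v, rfl⟩
        refine ⟨(TC g).mulVec v, ?_⟩
        rw [Matrix.mulVecLin_apply, Matrix.mulVecLin_apply, ← mat_mulVec, Matrix.mulVec_mulVec,
          Matrix.mulVec_mulVec, hP g] }
  rcases eq_bot_or_eq_top σ with h | h
  · exfalso
    apply hP0
    have h1 : LinearMap.range P.mulVecLin = ⊥ := congrArg Subrepresentation.toSubmodule h
    rw [LinearMap.range_eq_bot] at h1
    ext i j
    have h2 := congrFun (congrArg (fun f => f (Pi.single j 1)) h1) i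
    simpa [Matrix.mulVecLin_apply, Matrix.mulVec_single_one] using h2
  · have h1 : LinearMap.range P.mulVecLin = ⊤ := congrArg Subrepresentation.toSubmodule h
    rw [LinearMap.range_eq_top] at h1
    exact Matrix.mulVec_surjective_iff_isUnit.mp h1

theorem symm_form_of_real (ρ : Representation ℂ G (Fin n → ℂ)) (hρ : ρ.IsIrreducible)
    (T : Representation ℝ G (Fin n → ℝ))
    (hT : ∀ g : G, ((LinearMap.trace ℝ (Fin n → ℝ) (T g) : ℝ) : ℂ) = ρ.character g) :
    ∃ X : Matrix (Fin n) (Fin n) ℂ, IsInv ρ X ∧ X ≠ 0 ∧ X.transpose = X := by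
  classical
  have hn := pos_of_irreducible hρ
  obtain ⟨Tm, hTm⟩ : ∃ Tm : G → Matrix (Fin n) (Fin n) ℝ,
      ∀ g, Tm g = LinearMap.toMatrix' (T g) := ⟨_, fun _ => rfl⟩
  have hTmmul : ∀ g h, Tm (g * h) = Tm g * Tm h := by
    intro g h
    rw [hTm, hTm, hTm, map_mul, Module.End.mul_eq_comp, LinearMap.toMatrix'_comp]
  have hTm1 : Tm 1 = 1 := by
    rw [hTm, map_one, Module.End.one_eq_id, LinearMap.toMatrix'_id]
  have hTmtr : ∀ g, (((Tm g).trace : ℝ) : ℂ) = ρ.character g := by
    intro g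
    rw [← hT g, hTm, LinearMap.trace_eq_matrix_trace ℝ (Pi.basisFun ℝ (Fin n)),
      LinearMap.toMatrix_eq_toMatrix']
  obtain ⟨TC, hTC⟩ : ∃ TC : G → Matrix (Fin n) (Fin n) ℂ,
      ∀ g, TC g = Complex.ofRealHom.mapMatrix (Tm g) := ⟨_, fun _ => rfl⟩
  have hTCmul : ∀ g h, TC (g * h) = TC g * TC h := by
    intro g h
    rw [hTC, hTC, hTC, hTmmul, map_mul]
  have hTCentry : ∀ g i j, TC g i j = ((Tm g i j : ℝ) : ℂ) := by
    intro g i j
    rw [hTC]
    rfl
  have hTCtr : ∀ g, (TC g).trace = ρ.character g := by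
    intro g
    rw [← hTmtr g, Matrix.trace, Matrix.trace]
    push_cast
    refine Finset.sum_congr rfl fun i _ => ?_
    rw [Matrix.diag_apply, Matrix.diag_apply, hTCentry]
  -- the symmetric invariant form of the real representation
  obtain ⟨Sym, hSym⟩ : ∃ Sym : Matrix (Fin n) (Fin n) ℂ,
      Sym = ∑ h : G, TC h * (TC h).transpose := ⟨_, rfl⟩
  have hSymT : Sym.transpose = Sym := by
    rw [hSym, Matrix.transpose_sum]
    refine Finset.sum_congr rfl fun h _ => ?_
    rw [Matrix.transpose_mul, Matrix.transpose_transpose]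
  have hSyminv : ∀ g, TC g * Sym * (TC g).transpose = Sym := by
    intro g
    rw [hSym, Finset.mul_sum, Finset.sum_mul]
    refine Fintype.sum_equiv (Equiv.mulLeft g) _ _ (fun h => ?_)
    rw [Equiv.coe_mulLeft, hTCmul, Matrix.transpose_mul]
    simp only [Matrix.mul_assoc]
  have hSym0 : Sym ≠ 0 := by
    intro h0
    have h1 := congrFun (congrFun h0 ⟨0, hn⟩) ⟨0, hn⟩
    rw [hSym, Matrix.sum_apply] at h1
    have h2 : ∀ h : G, (TC h * (TC h).transpose) ⟨0, hn⟩ ⟨0, hn⟩ =
        ((∑ j, (Tm h ⟨0, hn⟩ j) ^ 2 : ℝ) : ℂ) := by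
      intro h
      rw [Matrix.mul_apply]
      push_cast
      refine Finset.sum_congr rfl fun j _ => ?_
      rw [Matrix.transpose_apply, hTCentry, sq]
    simp only [h2] at h1
    rw [Matrix.zero_apply, ← Complex.ofReal_sum] at h1
    have h3 : (∑ h : G, ∑ j, (Tm h ⟨0, hn⟩ j) ^ 2 : ℝ) = 0 := by exact_mod_cast h1
    have h4 : (1 : ℝ) ≤ ∑ h : G, ∑ j, (Tm h ⟨0, hn⟩ j) ^ 2 := by
      calc (1 : ℝ) = (Tm 1 ⟨0, hn⟩ ⟨0, hn⟩) ^ 2 := by rw [hTm1]; simp
        _ ≤ ∑ j, (Tm 1 ⟨0, hn⟩ j) ^ 2 :=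
            Finset.single_le_sum (f := fun j => (Tm 1 ⟨0, hn⟩ j) ^ 2)
              (fun j _ => sq_nonneg _) (Finset.mem_univ _)
        _ ≤ ∑ h : G, ∑ j, (Tm h ⟨0, hn⟩ j) ^ 2 :=
            Finset.single_le_sum (f := fun h => ∑ j, (Tm h ⟨0, hn⟩ j) ^ 2)
              (fun h _ => Finset.sum_nonneg (fun j _ => sq_nonneg _)) (Finset.mem_univ 1)
    linarith
  -- the averaged intertwiner
  obtain ⟨P, hP⟩ : ∃ P : (Fin n → ℂ) → (Fin n → ℂ) → Matrix (Fin n) (Fin n) ℂ,
      ∀ a b, P a b = ∑ g : G, Matrix.vecMulVec ((mat ρ g).mulVec a)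
        (Matrix.vecMul b (TC g⁻¹)) := ⟨_, fun _ _ => rfl⟩
  have hPint : ∀ a b h, mat ρ h * P a b = P a b * TC h := by
    intro a b h
    rw [hP, Finset.mul_sum, Finset.sum_mul]
    refine Fintype.sum_equiv (Equiv.mulLeft h) _ _ (fun g => ?_)
    rw [Equiv.coe_mulLeft, Matrix.mul_vecMulVec, Matrix.vecMulVec_mul, Matrix.mulVec_mulVec,
      Matrix.vecMul_vecMul, ← mat_mul, ← hTCmul, mul_inv_rev, inv_mul_cancel_right]
  have hPapply : ∀ i j k l : Fin n, P (Pi.single i 1) (Pi.single j 1) k l =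
      ∑ g : G, mat ρ g k i * TC g⁻¹ j l := by
    intro i j k l
    rw [hP, Matrix.sum_apply]
    refine Finset.sum_congr rfl fun g _ => ?_
    rw [Matrix.vecMulVec_apply, Matrix.mulVec_single_one, Matrix.single_one_vecMul]
    rfl
  have hPne : ∃ a b, P a b ≠ 0 := by
    by_contra hcon
    push Not at hcon
    have h1 : ∑ i, ∑ j, P (Pi.single i 1) (Pi.single j 1) i j = 0 := by
      refine Finset.sum_eq_zero fun i _ => Finset.sum_eq_zero fun j _ => ?_
      rw [hcon]; rfl
    have h2 : ∑ i, ∑ j, P (Pi.single i 1) (Pi.single j 1) i j =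
        ∑ g : G, ρ.character g * ρ.character g⁻¹ := by
      have h3 : ∀ g : G, ρ.character g * ρ.character g⁻¹ =
          ∑ i, ∑ j, mat ρ g i i * TC g⁻¹ j j := by
        intro g
        rw [← trace_mat, ← hTCtr, Matrix.trace, Matrix.trace, Finset.sum_mul_sum]
        rfl
      simp_rw [h3, hPapply]
      symm
      rw [Finset.sum_comm]
      refine Finset.sum_congr rfl fun i _ => ?_
      rw [Finset.sum_comm]
    have h4 : ∑ g : G, ρ.character g * ρ.character g⁻¹ = (Nat.card G : ℂ) := by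
      have h5 := classInner_character ρ ρ hρ hρ
      rw [if_pos ⟨Representation.Equiv.refl ρ⟩] at h5
      unfold Cfsg.classInner at h5
      have h6 : ∑ g : G, ρ.character g * ρ.character g⁻¹ =
          ∑ g : G, ρ.character g * conj (ρ.character g) := by
        refine Finset.sum_congr rfl fun g _ => ?_
        rw [character_inv]
      rw [h6]
      have hG0 : (Nat.card G : ℂ) ≠ 0 := card_ne_zero_complex
      rw [inv_mul_eq_iff_eq_mul₀ hG0] at h5
      rw [h5, mul_one]
    rw [h2, h4] at h1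
    exact card_ne_zero_complex h1
  obtain ⟨a, b, hab⟩ := hPne
  have hPu : IsUnit (P a b) := isUnit_of_intertwine hρ TC (P a b) (hPint a b) hab
  have hPdet : IsUnit (P a b).det := (Matrix.isUnit_iff_isUnit_det _).mp hPu
  refine ⟨P a b * Sym * (P a b).transpose, ?_, ?_, ?_⟩
  · intro g
    calc mat ρ g * (P a b * Sym * (P a b).transpose) * (mat ρ g).transpose
        = (mat ρ g * P a b) * Sym * (mat ρ g * P a b).transpose := by
          rw [Matrix.transpose_mul]; simp only [Matrix.mul_assoc]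
      _ = (P a b * TC g) * Sym * (P a b * TC g).transpose := by rw [hPint]
      _ = P a b * (TC g * Sym * (TC g).transpose) * (P a b).transpose := by
          rw [Matrix.transpose_mul]; simp only [Matrix.mul_assoc]
      _ = P a b * Sym * (P a b).transpose := by rw [hSyminv]
  · intro h0
    apply hSym0
    have h1 : (P a b)⁻¹ * (P a b) = 1 := Matrix.nonsing_inv_mul _ hPdet
    have h2 : (P a b).transpose * ((P a b)⁻¹).transpose = 1 := by
      rw [← Matrix.transpose_mul, h1, Matrix.transpose_one]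
    calc Sym = ((P a b)⁻¹ * (P a b)) * Sym * ((P a b).transpose * ((P a b)⁻¹).transpose) := by
          rw [h1, h2, Matrix.one_mul, Matrix.mul_one]
      _ = (P a b)⁻¹ * (P a b * Sym * (P a b).transpose) * ((P a b)⁻¹).transpose := by
          simp only [Matrix.mul_assoc]
      _ = 0 := by rw [h0, Matrix.mul_zero, Matrix.zero_mul]
  · rw [Matrix.transpose_mul, Matrix.transpose_mul, Matrix.transpose_transpose, hSymT,
      Matrix.mul_assoc]

end RealToSymm

section SymmToReal

variable {G : Type*} [Group G] [Fintype G] {n : ℕ}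

/-- the averaged Hermitian form `Σ R(g)ᴴ R(g)` -/
noncomputable def herm (ρ : Representation ℂ G (Fin n → ℂ)) : Matrix (Fin n) (Fin n) ℂ :=
  ∑ g : G, (cj (mat ρ g)).transpose * mat ρ g

theorem herm_inv (ρ : Representation ℂ G (Fin n → ℂ)) (h : G) :
    (cj (mat ρ h)).transpose * herm ρ * mat ρ h = herm ρ := by
  unfold herm
  rw [Finset.mul_sum, Finset.sum_mul]
  refine Fintype.sum_equiv (Equiv.mulRight h) _ _ (fun g => ?_)
  rw [Equiv.coe_mulRight, mat_mul, map_mul, Matrix.transpose_mul]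
  simp only [Matrix.mul_assoc]

theorem cj_herm (ρ : Representation ℂ G (Fin n → ℂ)) :
    cj (herm ρ) = ∑ h : G, (mat ρ h).transpose * cj (mat ρ h) := by
  unfold herm
  rw [map_sum]
  refine Finset.sum_congr rfl fun h _ => ?_
  rw [map_mul, cj_transpose, cj_cj]

/-- existence of an invertible matrix fixed by the antilinear involution `E ↦ N * cj E` -/
theorem exists_fixed_unit (N : Matrix (Fin n) (Fin n) ℂ) (hNN : N * cj N = 1) :
    ∃ E : Matrix (Fin n) (Fin n) ℂ, IsUnit E ∧ N * cj E = E := by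
  classical
  -- the family E_t = (t + i) + (t - i) N
  have hfix : ∀ t : ℝ, N * cj (((t : ℂ) + Complex.I) • (1 : Matrix (Fin n) (Fin n) ℂ) +
      ((t : ℂ) - Complex.I) • N) =
      ((t : ℂ) + Complex.I) • (1 : Matrix (Fin n) (Fin n) ℂ) + ((t : ℂ) - Complex.I) • N := by
    intro t
    rw [map_add, cj_smul, cj_smul, map_one, Matrix.mul_add, Matrix.mul_smul, Matrix.mul_smul,
      Matrix.mul_one, hNN, map_add, map_sub, Complex.conj_ofReal, Complex.conj_I]
    rw [sub_neg_eq_add, ← sub_eq_add_neg, add_comm]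
  -- the determinant polynomial
  obtain ⟨q, hq⟩ : ∃ q : Polynomial ℂ, q = Matrix.det ((Polynomial.X : Polynomial ℂ) •
      ((1 : Matrix (Fin n) (Fin n) ℂ) + N).map Polynomial.C +
      (Complex.I • ((1 : Matrix (Fin n) (Fin n) ℂ) - N)).map Polynomial.C) := ⟨_, rfl⟩
  have hqdeg : q.natDegree ≤ n := by
    rw [hq]
    have := Polynomial.natDegree_det_X_add_C_le ((1 : Matrix (Fin n) (Fin n) ℂ) + N)
      (Complex.I • ((1 : Matrix (Fin n) (Fin n) ℂ) - N))
    rwa [Fintype.card_fin] at this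
  have hqeval : ∀ t : ℂ, q.eval t = Matrix.det ((t + Complex.I) •
      (1 : Matrix (Fin n) (Fin n) ℂ) + (t - Complex.I) • N) := by
    intro t
    rw [hq, ← Polynomial.coe_evalRingHom, RingHom.map_det]
    congr 1
    ext i j
    simp only [RingHom.mapMatrix_apply, Matrix.map_apply, Matrix.add_apply, Matrix.smul_apply,
      Polynomial.coe_evalRingHom, Polynomial.eval_add, Polynomial.eval_C,
      Polynomial.eval_X, smul_eq_mul, Matrix.sub_apply, Polynomial.eval_mul]
    ring
  have hq0 : q ≠ 0 := by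
    intro h0
    have h1 := hqeval Complex.I
    rw [h0, Polynomial.eval_zero, sub_self, zero_smul, add_zero, Matrix.det_smul,
      Matrix.det_one, mul_one, Fintype.card_fin] at h1
    have h2 : (Complex.I + Complex.I) ^ n ≠ 0 := by
      apply pow_ne_zero
      rw [← two_mul]
      exact mul_ne_zero two_ne_zero Complex.I_ne_zero
    exact h2 h1.symm
  have hex : ∃ k : ℕ, q.eval ((k : ℝ) : ℂ) ≠ 0 := by
    by_contra hcon
    push Not at hcon
    apply hq0
    apply Polynomial.eq_zero_of_degree_lt_of_eval_finset_eq_zero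
      ((Finset.range (n + 1)).image (fun k : ℕ => (((k : ℝ) : ℂ))))
    · rw [Finset.card_image_of_injective _ (fun a b hab => by exact_mod_cast hab),
        Finset.card_range]
      calc q.degree ≤ (q.natDegree : WithBot ℕ) := Polynomial.degree_le_natDegree
        _ < ((n + 1 : ℕ) : WithBot ℕ) := by exact_mod_cast Nat.lt_succ_of_le hqdeg
    · intro x hx
      obtain ⟨k, _, rfl⟩ := Finset.mem_image.1 hx
      exact hcon k
  obtain ⟨k, hk⟩ := hex
  rw [hqeval] at hk
  refine ⟨_, (Matrix.isUnit_iff_isUnit_det _).2 (isUnit_iff_ne_zero.2 hk), hfix (k : ℝ)⟩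

theorem exists_real_of_symm (ρ : Representation ℂ G (Fin n → ℂ)) (hρ : ρ.IsIrreducible)
    (K : Matrix (Fin n) (Fin n) ℂ) (hK : IsInv ρ K) (hK0 : K ≠ 0) (hKs : K.transpose = K) :
    ∃ ρr : Representation ℝ G (Fin n → ℝ), ∀ g : G,
      ((LinearMap.trace ℝ (Fin n → ℝ) (ρr g) : ℝ) : ℂ) = ρ.character g := by
  classical
  have hn := pos_of_irreducible hρ
  have hKu : IsUnit K := (hK.eq_zero_or_isUnit hρ).resolve_left hK0
  have hKdet : IsUnit K.det := (Matrix.isUnit_iff_isUnit_det K).mp hKu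
  have hKK : K * K⁻¹ = 1 := Matrix.mul_nonsing_inv K hKdet
  have hcjKs : (cj K).transpose = cj K := by rw [← cj_transpose, hKs]
  -- the antilinear structure
  obtain ⟨N₀, hN₀⟩ : ∃ N₀ : Matrix (Fin n) (Fin n) ℂ, N₀ = K * cj (herm ρ) := ⟨_, rfl⟩
  have hHc : ∀ g : G, (mat ρ g).transpose * cj (herm ρ) * cj (mat ρ g) = cj (herm ρ) := by
    intro g
    have h := congrArg cj (herm_inv ρ g)
    rw [map_mul, map_mul, cj_transpose, cj_cj] at h
    exact h
  have hN₀R : ∀ g : G, mat ρ g * N₀ = N₀ * cj (mat ρ g) := by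
    intro g
    calc mat ρ g * N₀ = mat ρ g * K * ((mat ρ g).transpose * cj (herm ρ) * cj (mat ρ g)) := by
          rw [hHc g, hN₀, Matrix.mul_assoc]
      _ = (mat ρ g * K * (mat ρ g).transpose) * cj (herm ρ) * cj (mat ρ g) := by
          simp only [Matrix.mul_assoc]
      _ = N₀ * cj (mat ρ g) := by rw [hK g, hN₀]
  obtain ⟨Z, hZ⟩ : ∃ Z : Matrix (Fin n) (Fin n) ℂ, Z = N₀ * cj N₀ := ⟨_, rfl⟩
  have hZR : ∀ g : G, mat ρ g * Z = Z * mat ρ g := by
    intro g
    have h1 : cj (mat ρ g) * cj N₀ = cj N₀ * mat ρ g := by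
      have h := congrArg cj (hN₀R g)
      rw [map_mul, map_mul, cj_cj] at h
      exact h
    rw [hZ, ← Matrix.mul_assoc, hN₀R g, Matrix.mul_assoc, h1, ← Matrix.mul_assoc]
  have hZK : IsInv ρ (Z * K) := by
    intro g
    calc mat ρ g * (Z * K) * (mat ρ g).transpose
        = (mat ρ g * Z) * K * (mat ρ g).transpose := by simp only [Matrix.mul_assoc]
      _ = (Z * mat ρ g) * K * (mat ρ g).transpose := by rw [hZR g]
      _ = Z * (mat ρ g * K * (mat ρ g).transpose) := by simp only [Matrix.mul_assoc]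
      _ = Z * K := by rw [hK g]
  obtain ⟨c, hc⟩ := exists_smul_eq hρ hK hK0 hZK
  have hZc : Z = c • (1 : Matrix (Fin n) (Fin n) ℂ) := by
    calc Z = Z * K * K⁻¹ := by rw [Matrix.mul_assoc, hKK, Matrix.mul_one]
      _ = c • K * K⁻¹ := by rw [hc]
      _ = c • (1 : Matrix (Fin n) (Fin n) ℂ) := by rw [Matrix.smul_mul, hKK]
  -- positivity of c via the trace
  obtain ⟨r, hr⟩ : ∃ r : ℝ, r = ∑ h : G, ∑ g : G, ∑ i, ∑ j,
      Complex.normSq ((mat ρ g * K * (mat ρ h).transpose) i j) := ⟨_, rfl⟩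
  have htrZ : Z.trace = (r : ℂ) := by
    have hcjN : cj N₀ = cj K * herm ρ := by rw [hN₀, map_mul, cj_cj]
    have hZsum : Z = ∑ h : G, ∑ g : G, K * ((mat ρ h).transpose * cj (mat ρ h)) *
        (cj K * ((cj (mat ρ g)).transpose * mat ρ g)) := by
      rw [hZ, hcjN, hN₀, cj_herm]
      unfold herm
      rw [Finset.mul_sum, Finset.sum_mul]
      refine Finset.sum_congr rfl fun h _ => ?_
      rw [Finset.mul_sum, Finset.mul_sum]
    rw [hZsum, Matrix.trace_sum, hr]
    push_cast
    refine Finset.sum_congr rfl fun h _ => ?_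
    rw [Matrix.trace_sum]
    refine Finset.sum_congr rfl fun g _ => ?_
    have h1 := trace_mul_cj_transpose (mat ρ g * K * (mat ρ h).transpose)
    push_cast at h1
    rw [← h1]
    have h2 : (cj (mat ρ g * K * (mat ρ h).transpose)).transpose =
        cj (mat ρ h) * cj K * (cj (mat ρ g)).transpose := by
      rw [map_mul, map_mul, Matrix.transpose_mul, Matrix.transpose_mul, cj_transpose,
        Matrix.transpose_transpose, hcjKs, Matrix.mul_assoc]
    rw [h2]
    have h3 : mat ρ g * K * (mat ρ h).transpose *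
        (cj (mat ρ h) * cj K * (cj (mat ρ g)).transpose) =
        mat ρ g * (K * ((mat ρ h).transpose * cj (mat ρ h)) *
        (cj K * (cj (mat ρ g)).transpose)) := by
      simp only [Matrix.mul_assoc]
    rw [h3, Matrix.trace_mul_comm (mat ρ g)]
    congr 1
    simp only [Matrix.mul_assoc]
  have hrpos : 0 < r := by
    -- the term g = h = 1 is the squared norm of K
    obtain ⟨i, j, hij⟩ : ∃ i j, K i j ≠ 0 := by
      by_contra hcon
      push Not at hcon
      apply hK0
      ext i j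
      exact hcon i j
    have hterm : ∀ h g : G, 0 ≤ ∑ i, ∑ j,
        Complex.normSq ((mat ρ g * K * (mat ρ h).transpose) i j) :=
      fun h g => Finset.sum_nonneg fun i _ => Finset.sum_nonneg fun j _ => Complex.normSq_nonneg _
    have h1 : 0 < Complex.normSq (K i j) := Complex.normSq_pos.2 hij
    have h2 : Complex.normSq (K i j) ≤ ∑ i, ∑ j,
        Complex.normSq ((mat ρ 1 * K * (mat ρ 1).transpose) i j) := by
      rw [mat_one, Matrix.one_mul, Matrix.transpose_one, Matrix.mul_one]
      calc Complex.normSq (K i j) ≤ ∑ j, Complex.normSq (K i j) :=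
            Finset.single_le_sum (f := fun j => Complex.normSq (K i j))
              (fun j _ => Complex.normSq_nonneg _) (Finset.mem_univ j)
        _ ≤ ∑ i, ∑ j, Complex.normSq (K i j) :=
            Finset.single_le_sum (f := fun i => ∑ j, Complex.normSq (K i j))
              (fun i _ => Finset.sum_nonneg fun j _ => Complex.normSq_nonneg _)
              (Finset.mem_univ i)
    have h3 : ∑ i, ∑ j, Complex.normSq ((mat ρ 1 * K * (mat ρ 1).transpose) i j) ≤ r := by
      rw [hr]
      calc ∑ i, ∑ j, Complex.normSq ((mat ρ 1 * K * (mat ρ 1).transpose) i j)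
          ≤ ∑ g : G, ∑ i, ∑ j, Complex.normSq ((mat ρ g * K * (mat ρ 1).transpose) i j) :=
            Finset.single_le_sum (f := fun g : G => ∑ i, ∑ j,
              Complex.normSq ((mat ρ g * K * (mat ρ 1).transpose) i j))
              (fun g _ => hterm 1 g) (Finset.mem_univ 1)
        _ ≤ ∑ h : G, ∑ g : G, ∑ i, ∑ j,
              Complex.normSq ((mat ρ g * K * (mat ρ h).transpose) i j) :=
            Finset.single_le_sum (f := fun h : G => ∑ g : G, ∑ i, ∑ j,
              Complex.normSq ((mat ρ g * K * (mat ρ h).transpose) i j))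
              (fun h _ => Finset.sum_nonneg fun g _ => hterm h g) (Finset.mem_univ 1)
    linarith
  have hcn : c * (n : ℂ) = (r : ℂ) := by
    rw [← htrZ, hZc, Matrix.trace_smul, Matrix.trace_one, Fintype.card_fin, smul_eq_mul]
  have hn0 : (n : ℂ) ≠ 0 := by exact_mod_cast hn.ne'
  have hc' : c = ((r / n : ℝ) : ℂ) := by
    push_cast
    rw [eq_div_iff hn0]
    exact hcn
  obtain ⟨s, hs⟩ : ∃ s : ℝ, s = Real.sqrt (r / n) := ⟨_, rfl⟩
  have hspos : 0 < s := by
    rw [hs]
    exact Real.sqrt_pos.2 (div_pos hrpos (by exact_mod_cast hn))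
  have hss : s * s = r / n := by
    rw [hs]
    exact Real.mul_self_sqrt (div_pos hrpos (by exact_mod_cast hn)).le
  have hs0 : (s : ℂ) ≠ 0 := by exact_mod_cast hspos.ne'
  obtain ⟨N, hN⟩ : ∃ N : Matrix (Fin n) (Fin n) ℂ, N = ((s : ℂ)⁻¹) • N₀ := ⟨_, rfl⟩
  have hNN : N * cj N = 1 := by
    rw [hN, cj_smul, Matrix.smul_mul, Matrix.mul_smul, smul_smul, ← hZ, hZc, smul_smul, hc',
      map_inv₀, Complex.conj_ofReal]
    have h1 : (s : ℂ)⁻¹ * (s : ℂ)⁻¹ * ((r / n : ℝ) : ℂ) = 1 := by
      rw [← hss]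
      push_cast
      field_simp
    rw [h1, one_smul]
  have hNR : ∀ g : G, mat ρ g * N = N * cj (mat ρ g) := by
    intro g
    rw [hN, Matrix.mul_smul, Matrix.smul_mul, hN₀R g]
  obtain ⟨E, hEu, hNE⟩ := exists_fixed_unit N hNN
  have hEdet : IsUnit E.det := (Matrix.isUnit_iff_isUnit_det E).mp hEu
  have hEE : E * E⁻¹ = 1 := Matrix.mul_nonsing_inv E hEdet
  have hEE' : E⁻¹ * E = 1 := Matrix.nonsing_inv_mul E hEdet
  -- the real matrices
  obtain ⟨A, hA⟩ : ∃ A : G → Matrix (Fin n) (Fin n) ℂ, ∀ g, A g = E⁻¹ * mat ρ g * E :=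
    ⟨_, fun _ => rfl⟩
  have hEA : ∀ g, E * A g = mat ρ g * E := by
    intro g
    rw [hA, ← Matrix.mul_assoc, ← Matrix.mul_assoc, hEE, Matrix.one_mul]
  have hAreal : ∀ g, cj (A g) = A g := by
    intro g
    have h1 : E * cj (A g) = E * A g := by
      calc E * cj (A g) = N * cj E * cj (A g) := by rw [hNE]
        _ = N * cj (E * A g) := by rw [map_mul, Matrix.mul_assoc]
        _ = N * cj (mat ρ g * E) := by rw [hEA]
        _ = (N * cj (mat ρ g)) * cj E := by rw [map_mul, Matrix.mul_assoc]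
        _ = mat ρ g * (N * cj E) := by rw [← hNR g, Matrix.mul_assoc]
        _ = E * A g := by rw [hNE, hEA]
    calc cj (A g) = E⁻¹ * (E * cj (A g)) := by rw [← Matrix.mul_assoc, hEE', Matrix.one_mul]
      _ = E⁻¹ * (E * A g) := by rw [h1]
      _ = A g := by rw [← Matrix.mul_assoc, hEE', Matrix.one_mul]
  have hAmul : ∀ g h, A (g * h) = A g * A h := by
    intro g h
    rw [hA, hA, hA, mat_mul]
    calc E⁻¹ * (mat ρ g * mat ρ h) * E = E⁻¹ * mat ρ g * (E * E⁻¹) * mat ρ h * E := by
          rw [hEE, Matrix.mul_one]; simp only [Matrix.mul_assoc]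
      _ = E⁻¹ * mat ρ g * E * (E⁻¹ * mat ρ h * E) := by simp only [Matrix.mul_assoc]
  have hA1 : A 1 = 1 := by rw [hA, mat_one, Matrix.mul_one, hEE']
  have hAtr : ∀ g, (A g).trace = ρ.character g := by
    intro g
    rw [hA, Matrix.trace_mul_comm, ← Matrix.mul_assoc, hEE, Matrix.one_mul, trace_mat]
  obtain ⟨B, hB⟩ : ∃ B : G → Matrix (Fin n) (Fin n) ℝ, ∀ g, B g = (A g).map Complex.re :=
    ⟨_, fun _ => rfl⟩
  have hBA : ∀ g, Complex.ofRealHom.mapMatrix (B g) = A g := by
    intro g
    ext i j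
    have h1 := congrFun (congrFun (hAreal g) i) j
    rw [cj_apply] at h1
    rw [hB]
    exact Complex.conj_eq_iff_re.1 h1
  have hinj : Function.Injective (Complex.ofRealHom.mapMatrix :
      Matrix (Fin n) (Fin n) ℝ →+* Matrix (Fin n) (Fin n) ℂ) := by
    intro X Y hXY
    ext i j
    have h1 := congrFun (congrFun hXY i) j
    exact Complex.ofReal_injective h1
  have hBmul : ∀ g h, B (g * h) = B g * B h := by
    intro g h
    apply hinj
    rw [map_mul, hBA, hBA, hBA, hAmul]
  have hB1 : B 1 = 1 := by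
    apply hinj
    rw [map_one, hBA, hA1]
  refine ⟨{ toFun := fun g => Matrix.toLin' (B g)
            map_one' := by rw [hB1, Matrix.toLin'_one]; rfl
            map_mul' := fun g h => by rw [hBmul, Matrix.toLin'_mul]; rfl }, ?_⟩
  intro g
  show ((LinearMap.trace ℝ (Fin n → ℝ) (Matrix.toLin' (B g)) : ℝ) : ℂ) = ρ.character g
  rw [Matrix.trace_toLin'_eq, ← hAtr g, ← hBA g, Matrix.trace, Matrix.trace]
  push_cast
  rfl

end SymmToReal


/-- Let χ be an irreducible character of the finite group G. Then the Frobenius–Schur indicator of χ (the average over s ∈ G of χ(s²)) equals 1 if and only if χ is afforded by a real representation: there is a representation of G on a real coordinate space whose trace function, viewed in ℂ, is χ. -/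
theorem result {G : Type*} [Group G] [Fintype G] (χ : Cfsg.IrrCharacter G) : ((Nat.card G : ℂ)⁻¹ * ∑ s : G, (χ : G → ℂ) (s * s)) = 1 ↔ ∃ (n : ℕ) (ρ : Representation ℝ G (Fin n → ℝ)), ∀ g : G, ((LinearMap.trace ℝ (Fin n → ℝ) (ρ g) : ℝ) : ℂ) = (χ : G → ℂ) g := by
  classical
  obtain ⟨n, ρ, hρ, hρχ⟩ := χ.2
  obtain ⟨ε, hε, hsign⟩ := exists_sign hρ
  have hεε : ε * ε = 1 := by rcases hε with rfl | rfl <;> norm_num
  have hind := indicator_of_sign χ hρχ ε hεε hsign
  constructor
  · intro hν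
    rw [hind] at hν
    have hreal : χ = irrConj χ := by
      by_contra h
      rw [if_neg h, mul_zero] at hν
      exact zero_ne_one hν
    rw [if_pos hreal, mul_one] at hν
    have hK : ∃ K : Matrix (Fin n) (Fin n) ℂ, IsInv ρ K ∧ K ≠ 0 := by
      by_contra hcon
      push Not at hcon
      have h1 := sum_char_mul_eq ρ
      have h2 : ∑ s : G, ρ.character s * ρ.character s = 0 := by
        rw [h1]
        refine Finset.sum_eq_zero fun i _ => Finset.sum_eq_zero fun j _ => ?_
        rw [hcon _ (avgForm_isInv ρ _ _)]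
        rfl
      have h3 := classInner_irr χ (irrConj χ)
      rw [if_pos hreal] at h3
      unfold Cfsg.classInner at h3
      simp only [irrConj_apply, Complex.conj_conj] at h3
      rw [← hρχ, h2, mul_zero] at h3
      exact zero_ne_one h3
    obtain ⟨K, hK, hK0⟩ := hK
    have hKs : K.transpose = K := by rw [hsign K hK, hν, one_smul]
    obtain ⟨ρr, hρr⟩ := exists_real_of_symm ρ hρ K hK hK0 hKs
    exact ⟨n, ρr, fun g => by rw [hρr g, hρχ]⟩
  · rintro ⟨m, T, hT⟩
    have hmn : m = n := by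
      have h1 := hT 1
      rw [map_one, ← hρχ, Representation.char_one, LinearMap.trace_one,
        Module.finrank_fin_fun, Module.finrank_fin_fun] at h1
      exact_mod_cast h1
    subst hmn
    obtain ⟨X, hX, hX0, hXs⟩ := symm_form_of_real ρ hρ T (fun g => by rw [hT g, hρχ])
    have hε1 : ε = 1 := by
      have h1 := hsign X hX
      rw [hXs] at h1
      by_contra hne
      apply hX0
      have h2 : (1 - ε) • X = 0 := by rw [sub_smul, one_smul, ← h1, sub_self]
      rcases smul_eq_zero.1 h2 with h3 | h3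
      · exact absurd (sub_eq_zero.1 h3).symm hne
      · exact h3
    have hreal : χ = irrConj χ := by
      apply Subtype.ext
      funext g
      rw [irrConj_apply, ← hT g, Complex.conj_ofReal]
    rw [hind, hε1, if_pos hreal, mul_one]

end Cfsg.Agent.S4474
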