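import Cfsg.Statements.S4475
import Cfsg.Agent.S0158
import Cfsg.Agent.Lib.Helper26.CharBasic

set_option autoImplicit false
open Cfsg

namespace Cfsg.Agent.S4475

open Cfsg.Agent.Lib.Helper4 Cfsg.Agent.S0895 Cfsg.Agent.S0158
open scoped ComplexConjugate

section
variable {G : Type*} [Group G] {n : ℕ}

/-- invariance in the transposed convention -/
def IsInv' (ρ : Representation ℂ G (Fin n → ℂ)) (M : Matrix (Fin n) (Fin n) ℂ) : Prop :=
  ∀ g : G, (mat ρ g).transpose * M * mat ρ g = M

theorem mat_mul_inv (ρ : Representation ℂ G (Fin n → ℂ)) (g : G) :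
    mat ρ g * mat ρ g⁻¹ = 1 := by rw [← mat_mul, mul_inv_cancel, mat_one]

theorem mat_inv_mul (ρ : Representation ℂ G (Fin n → ℂ)) (g : G) :
    mat ρ g⁻¹ * mat ρ g = 1 := by rw [← mat_mul, inv_mul_cancel, mat_one]

theorem IsInv'.eq_zero_or_isUnit {ρ : Representation ℂ G (Fin n → ℂ)} (hρ : ρ.IsIrreducible)
    {M : Matrix (Fin n) (Fin n) ℂ} (hM : IsInv' ρ M) : M = 0 ∨ IsUnit M := by
  have hMX : ∀ g, M * mat ρ g = (mat ρ g⁻¹).transpose * M := by
    intro g
    have h1 := hM g
    calc M * mat ρ g = ((mat ρ g⁻¹).transpose * (mat ρ g).transpose) * M * mat ρ g := by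
          rw [← Matrix.transpose_mul, mat_mul_inv, Matrix.transpose_one, Matrix.one_mul]
      _ = (mat ρ g⁻¹).transpose * ((mat ρ g).transpose * M * mat ρ g) := by
          simp only [Matrix.mul_assoc]
      _ = (mat ρ g⁻¹).transpose * M := by rw [h1]
  let σ : Subrepresentation ρ :=
    { toSubmodule := LinearMap.ker M.mulVecLin
      apply_mem_toSubmodule := by
        intro g v hv
        rw [LinearMap.mem_ker, Matrix.mulVecLin_apply] at hv ⊢
        rw [← mat_mulVec, Matrix.mulVec_mulVec, hMX g, ← Matrix.mulVec_mulVec, hv,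
          Matrix.mulVec_zero] }
  have := hρ
  rcases eq_bot_or_eq_top σ with h | h
  · right
    have h1 : LinearMap.ker M.mulVecLin = ⊥ := congrArg Subrepresentation.toSubmodule h
    rw [LinearMap.ker_eq_bot] at h1
    exact Matrix.mulVec_injective_iff_isUnit.mp h1
  · left
    have h1 : LinearMap.ker M.mulVecLin = ⊤ := congrArg Subrepresentation.toSubmodule h
    ext i j
    have h2 : M.mulVecLin (Pi.single j 1) = 0 := by
      have : Pi.single j 1 ∈ LinearMap.ker M.mulVecLin := by rw [h1]; trivial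
      exact this
    have h3 := congrFun h2 i
    simpa [Matrix.mulVecLin_apply, Matrix.mulVec_single_one] using h3

theorem isInv_inv_of_isInv' {ρ : Representation ℂ G (Fin n → ℂ)}
    {M : Matrix (Fin n) (Fin n) ℂ} (hM : IsInv' ρ M) (hu : IsUnit M) : IsInv ρ M⁻¹ := by
  intro g
  have hdet : IsUnit M.det := (Matrix.isUnit_iff_isUnit_det M).mp hu
  have h1 : mat ρ g * M⁻¹ * (mat ρ g).transpose * M = 1 := by
    calc mat ρ g * M⁻¹ * (mat ρ g).transpose * M
        = mat ρ g * M⁻¹ * ((mat ρ g).transpose * M * mat ρ g) * mat ρ g⁻¹ := by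
          simp only [Matrix.mul_assoc]; rw [mat_mul_inv, Matrix.mul_one]
      _ = mat ρ g * (M⁻¹ * M) * mat ρ g⁻¹ := by rw [hM g]; simp only [Matrix.mul_assoc]
      _ = 1 := by rw [Matrix.nonsing_inv_mul M hdet, Matrix.mul_one, mat_mul_inv]
  exact (Matrix.inv_eq_left_inv h1).symm

theorem isInv'_inv_of_isInv {ρ : Representation ℂ G (Fin n → ℂ)}
    {K : Matrix (Fin n) (Fin n) ℂ} (hK : IsInv ρ K) (hu : IsUnit K) : IsInv' ρ K⁻¹ := by
  intro g
  have hdet : IsUnit K.det := (Matrix.isUnit_iff_isUnit_det K).mp hu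
  have h1 : K * ((mat ρ g).transpose * K⁻¹ * mat ρ g) = 1 := by
    calc K * ((mat ρ g).transpose * K⁻¹ * mat ρ g)
        = mat ρ g⁻¹ * (mat ρ g * K * (mat ρ g).transpose) * K⁻¹ * mat ρ g := by
          simp only [← Matrix.mul_assoc]; rw [mat_inv_mul, Matrix.one_mul]
      _ = mat ρ g⁻¹ * (K * K⁻¹) * mat ρ g := by rw [hK g]; simp only [Matrix.mul_assoc]
      _ = 1 := by rw [Matrix.mul_nonsing_inv K hdet, Matrix.mul_one, mat_inv_mul]
  exact (Matrix.inv_eq_right_inv h1).symm

variable [Fintype G]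

/-- `Σ χ(s²) = ε Σ χ(s)²` for any sign `ε` of `ρ` -/
theorem sum_sq_of_sign {ρ : Representation ℂ G (Fin n → ℂ)} (ε : ℂ) (hεε : ε * ε = 1)
    (hsign : ∀ Y : Matrix (Fin n) (Fin n) ℂ, IsInv ρ Y → Y.transpose = ε • Y) :
    ∑ s : G, ρ.character (s * s) = ε * ∑ s : G, ρ.character s * ρ.character s := by
  have hsq : ∀ s : G, ρ.character (s * s) = ∑ i, ∑ j, mat ρ s i j * mat ρ s j i := by
    intro s
    rw [← trace_mat, mat_mul, Matrix.trace]
    refine Finset.sum_congr rfl fun i _ => ?_
    rw [Matrix.diag_apply, Matrix.mul_apply]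
  have hprod : ∀ s : G, ρ.character s * ρ.character s = ∑ i, ∑ j, mat ρ s i i * mat ρ s j j := by
    intro s
    rw [← trace_mat, Matrix.trace, Finset.sum_mul_sum]
    rfl
  have key : ∀ i j : Fin n, ∑ s : G, mat ρ s i i * mat ρ s j j =
      ε * ∑ s : G, mat ρ s i j * mat ρ s j i := by
    intro i j
    have h1 := hsign _ (avgForm_isInv ρ (Pi.single j 1) (Pi.single i 1))
    rw [avgForm_transpose] at h1
    have h2 := congrFun (congrFun h1 i) j
    rw [Matrix.smul_apply, avgForm_apply, avgForm_apply, smul_eq_mul] at h2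
    exact h2
  simp_rw [hsq, hprod]
  rw [Finset.sum_comm, Finset.sum_comm (f := fun s i => ∑ j, mat ρ s i i * mat ρ s j j)]
  simp_rw [Finset.sum_comm (s := (Finset.univ : Finset G))]
  simp_rw [key, ← Finset.mul_sum]
  rw [← mul_assoc, hεε, one_mul]

end

/-- Let ρ be an irreducible representation of the finite group G on the coordinate space Fin n → ℂ whose character χ is real-valued, and let ν be the Frobenius–Schur indicator of χ (the average of χ(s²)). Writing X(g) for the matrix of ρ(g), there is a nonzero matrix M with X(g)ᵀ M X(g) = M for all g ∈ G; and every such M (zero or not) satisfies Mᵀ = ν·M. -/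
theorem result {G : Type*} [Group G] [Fintype G] (n : ℕ) (ρ : Representation ℂ G (Fin n → ℂ)) (hirr : ρ.IsIrreducible) (hreal : ∀ g : G, (ρ.character g).im = 0) : (∃ M : Matrix (Fin n) (Fin n) ℂ, M ≠ 0 ∧ ∀ g : G, (LinearMap.toMatrix' (ρ g)).transpose * M * LinearMap.toMatrix' (ρ g) = M) ∧ ∀ M : Matrix (Fin n) (Fin n) ℂ, (∀ g : G, (LinearMap.toMatrix' (ρ g)).transpose * M * LinearMap.toMatrix' (ρ g) = M) → M.transpose = ((Nat.card G : ℂ)⁻¹ * ∑ s : G, ρ.character (s * s)) • M := by
  classical
  have := hirr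
  have hG0 : (Nat.card G : ℂ) ≠ 0 := Nat.cast_ne_zero.mpr Nat.card_pos.ne'
  have hsumsq : ∑ s : G, ρ.character s * ρ.character s = (Nat.card G : ℂ) := by
    have h1 := Cfsg.Agent.Lib.Helper26.classInner_irr_rep ρ ρ
    rw [if_pos rfl] at h1
    unfold classInner at h1
    have hc : ∀ s, conj (ρ.character s) = ρ.character s :=
      fun s => Complex.conj_eq_iff_im.mpr (hreal s)
    simp only [hc] at h1
    have h2 := congrArg (fun t => (Nat.card G : ℂ) * t) h1
    simp only [mul_one] at h2
    rw [← h2, ← mul_assoc, mul_inv_cancel₀ hG0, one_mul]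
  obtain ⟨ε, hε, hsign⟩ := exists_sign hirr
  have hεε : ε * ε = 1 := by rcases hε with rfl | rfl <;> norm_num
  have hνε : (Nat.card G : ℂ)⁻¹ * ∑ s : G, ρ.character (s * s) = ε := by
    rw [sum_sq_of_sign ε hεε hsign, hsumsq]
    field_simp
  constructor
  · by_contra hcon
    push Not at hcon
    have hall : ∀ K : Matrix (Fin n) (Fin n) ℂ, IsInv ρ K → K = 0 := by
      intro K hK
      by_contra hK0
      have hu := (hK.eq_zero_or_isUnit hirr).resolve_left hK0
      have hdet : IsUnit K.det := (Matrix.isUnit_iff_isUnit_det K).mp hu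
      have hM := isInv'_inv_of_isInv hK hu
      have hne : K⁻¹ ≠ 0 := by
        intro h
        apply hK0
        have h1 : K = K * (K⁻¹ * K) := by rw [Matrix.nonsing_inv_mul K hdet, Matrix.mul_one]
        rw [h1, h, Matrix.zero_mul, Matrix.mul_zero]
      obtain ⟨g, hg⟩ := hcon K⁻¹ hne
      exact hg (hM g)
    have h1 := sum_sq_of_sign (ρ := ρ) 1 (by norm_num) (fun Y hY => by rw [hall Y hY]; simp)
    have h2 := sum_sq_of_sign (ρ := ρ) (-1) (by norm_num) (fun Y hY => by rw [hall Y hY]; simp)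
    rw [hsumsq] at h1 h2
    apply hG0
    linear_combination (h2 - h1) / 2
  · intro M hM
    rw [hνε]
    by_cases hM0 : M = 0
    · rw [hM0]; simp
    · have hM' : IsInv' ρ M := hM
      have hu := (hM'.eq_zero_or_isUnit hirr).resolve_left hM0
      have hdet : IsUnit M.det := (Matrix.isUnit_iff_isUnit_det M).mp hu
      have hdetT : IsUnit M.transpose.det := by rw [Matrix.det_transpose]; exact hdet
      have hK := isInv_inv_of_isInv' hM' hu
      have h1 := hsign _ hK
      rw [Matrix.transpose_nonsing_inv] at h1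
      have hA : M.transpose * (ε • M⁻¹) = 1 := by
        rw [← h1, Matrix.mul_nonsing_inv _ hdetT]
      have hB : M.transpose * M⁻¹ = ε • (1 : Matrix (Fin n) (Fin n) ℂ) := by
        rw [Matrix.mul_smul] at hA
        have := congrArg (fun t => ε • t) hA
        simp only [smul_smul, hεε, one_smul] at this
        exact this
      calc M.transpose = M.transpose * (M⁻¹ * M) := by
            rw [Matrix.nonsing_inv_mul M hdet, Matrix.mul_one]
        _ = (M.transpose * M⁻¹) * M := by rw [Matrix.mul_assoc]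
        _ = ε • M := by rw [hB, Matrix.smul_mul, Matrix.one_mul]

end Cfsg.Agent.S4475
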