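import Cfsg.Statements.S4476
import Cfsg.Agent.S0158
import Cfsg.Agent.Lib.Helper28.DualRep
import Cfsg.Agent.Lib.Helper4.CharOrtho
import Cfsg.Agent.Lib.Helper4.BurnsideClass
import Cfsg.Agent.Lib.Helper26.CharBasic

set_option autoImplicit false
open Cfsg

namespace Cfsg.Agent.S4476

open Cfsg.Agent.Lib.Helper26 Cfsg.Agent.Lib.Helper4
open scoped ComplexConjugate

section
variable {G : Type*} [Group G] [Fintype G]

/-- Frobenius–Schur indicator values -/
theorem indicator (χ : G → ℂ) (hχ : IsIrrCharacter G χ) :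
    ∃ e : ℤ, (e = 0 ∨ e = 1 ∨ e = -1) ∧ ∑ s : G, χ (s * s) = (e : ℂ) * (Nat.card G : ℂ) ∧
      (e ≠ 0 → ∀ g, conj (χ g) = χ g) := by
  classical
  have hχbar := Cfsg.Agent.Lib.Helper28.isIrrCharacter_conj hχ
  have hinner := classInner_irr hχ hχbar
  obtain ⟨n, ρ, hirr, rfl⟩ := hχ
  obtain ⟨ε, hε, hsum⟩ := Cfsg.Agent.S0158.sum_sq_eq hirr
  have hG0 : (Nat.card G : ℂ) ≠ 0 := Nat.cast_ne_zero.mpr Nat.card_pos.ne'
  have h1 : ∑ s : G, ρ.character s * ρ.character s =
      (Nat.card G : ℂ) * classInner ρ.character (fun g => conj (ρ.character g)) := by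
    unfold classInner
    rw [← mul_assoc, mul_inv_cancel₀ hG0, one_mul]
    refine Finset.sum_congr rfl fun s _ => ?_
    rw [Complex.conj_conj]
  rw [h1, hinner] at hsum
  by_cases heq : ρ.character = fun g => conj (ρ.character g)
  · rw [if_pos heq, mul_one] at hsum
    rcases hε with rfl | rfl
    · exact ⟨1, Or.inr (Or.inl rfl), by rw [hsum]; simp, fun _ g => (congrFun heq g).symm⟩
    · exact ⟨-1, Or.inr (Or.inr rfl), by rw [hsum]; simp, fun _ g => (congrFun heq g).symm⟩
  · rw [if_neg heq, mul_zero, mul_zero] at hsum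
    exact ⟨0, Or.inl rfl, by rw [hsum]; simp, fun h => absurd rfl h⟩

/-- counting square roots of the identity -/
theorem sqrt_count [DecidableEq G] [Fintype (IrrCharacter G)] (e : IrrCharacter G → ℤ)
    (he : ∀ χ : IrrCharacter G,
      ∑ s : G, (χ : G → ℂ) (s * s) = (e χ : ℂ) * (Nat.card G : ℂ)) :
    ((Finset.univ.filter (fun s : G => s * s = 1)).card : ℂ) =
      ∑ χ : IrrCharacter G, (e χ : ℂ) * (χ : G → ℂ) 1 := by
  let θ : G → ℂ := fun g => ((Finset.univ.filter (fun s : G => s * s = g)).card : ℂ)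
  have hθcf : IsClassFunction G θ := by
    intro g k
    show ((Finset.univ.filter (fun s : G => s * s = k * g * k⁻¹)).card : ℂ) =
      ((Finset.univ.filter (fun s : G => s * s = g)).card : ℂ)
    congr 1
    refine Finset.card_bij' (fun s _ => k⁻¹ * s * k) (fun s _ => k * s * k⁻¹) ?_ ?_ ?_ ?_
    · intro s hs
      rw [Finset.mem_filter] at hs ⊢
      refine ⟨Finset.mem_univ _, ?_⟩
      have : k⁻¹ * s * k * (k⁻¹ * s * k) = k⁻¹ * (s * s) * k := by group
      rw [this, hs.2]; group
    · intro s hs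
      rw [Finset.mem_filter] at hs ⊢
      refine ⟨Finset.mem_univ _, ?_⟩
      have : k * s * k⁻¹ * (k * s * k⁻¹) = k * (s * s) * k⁻¹ := by group
      rw [this, hs.2]
    · intro s _; group
    · intro s _; group
  have hG0 : (Nat.card G : ℂ) ≠ 0 := Nat.cast_ne_zero.mpr Nat.card_pos.ne'
  have hinner : ∀ χ : IrrCharacter G, classInner θ (χ : G → ℂ) = (e χ : ℂ) := by
    intro χ
    unfold classInner
    have h1 : ∑ g : G, θ g * conj ((χ : G → ℂ) g) = ∑ s : G, conj ((χ : G → ℂ) (s * s)) := by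
      have : ∀ g : G, θ g * conj ((χ : G → ℂ) g) =
          ∑ s : G, if s * s = g then conj ((χ : G → ℂ) g) else 0 := by
        intro g
        show ((Finset.univ.filter (fun s : G => s * s = g)).card : ℂ) * _ = _
        rw [Finset.card_filter]
        push_cast
        rw [Finset.sum_mul]
        refine Finset.sum_congr rfl fun s _ => ?_
        split_ifs <;> simp
      simp only [this]
      rw [Finset.sum_comm]
      refine Finset.sum_congr rfl fun s _ => ?_
      rw [Finset.sum_ite_eq]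
      simp
    rw [h1, ← map_sum, he χ]
    simp only [map_mul, map_intCast, map_natCast]
    field_simp
  have hexp := classFunction_expansion θ hθcf
  have := congrFun hexp 1
  simp only [Finset.sum_apply, Pi.smul_apply, smul_eq_mul, hinner] at this
  exact this

/-- the sum of the centralizer orders -/
theorem sum_card_centralizer :
    ∑ x : G, Nat.card (Subgroup.centralizer ({x} : Set G)) =
      Nat.card (ConjClasses G) * Nat.card G := by
  classical
  rw [← card_comm_eq_card_conjClasses_mul_card, Nat.card_eq_fintype_card, Fintype.card_subtype,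
    Finset.card_filter, Fintype.sum_prod_type]
  refine Finset.sum_congr rfl fun x _ => ?_
  rw [Nat.card_eq_fintype_card, Fintype.card_subtype, Finset.card_filter]
  refine Finset.sum_congr rfl fun y _ => ?_
  have : y ∈ Subgroup.centralizer ({x} : Set G) ↔ Commute x y := by
    rw [Subgroup.mem_centralizer_singleton_iff]
    exact ⟨fun h => h.symm, fun h => h.symm⟩
  simp only [this]

end

/-- Let G be a finite group of even order g with exactly t involutions, and put α = (g − 1)/t (a rational number). Then (a) some non-identity element x of G has at most α² conjugates; and (b) some non-principal real-valued irreducible character of G has degree at most α. -/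
theorem result {G : Type*} [Group G] [Fintype G] (heven : Even (Nat.card G)) (t : ℕ) (ht : Nat.card {x : G // orderOf x = 2} = t) : (∃ x : G, x ≠ 1 ∧ ((Subgroup.centralizer ({x} : Set G)).index : ℚ) ≤ (((Nat.card G : ℚ) - 1) / t) ^ 2) ∧ ∃ χ : Cfsg.IrrCharacter G, (χ : G → ℂ) ≠ (fun _ => 1) ∧ (∀ g : G, ((χ : G → ℂ) g).im = 0) ∧ (Cfsg.charDegree (χ : G → ℂ) : ℚ) ≤ ((Nat.card G : ℚ) - 1) / t := by
  classical
  have : Fintype (IrrCharacter G) := Fintype.ofFinite _
  have hG0 : (Nat.card G : ℂ) ≠ 0 := Nat.cast_ne_zero.mpr Nat.card_pos.ne'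
  have hdeg : ∀ χ : IrrCharacter G, ∃ n : ℕ, 0 < n ∧ (χ : G → ℂ) 1 = n := fun χ => irr_degree χ.2
  choose dn hdn0 hdn using hdeg
  have hind : ∀ χ : IrrCharacter G, ∃ e : ℤ, (e = 0 ∨ e = 1 ∨ e = -1) ∧
      ∑ s : G, (χ : G → ℂ) (s * s) = (e : ℂ) * (Nat.card G : ℂ) ∧
      (e ≠ 0 → ∀ g, conj ((χ : G → ℂ) g) = (χ : G → ℂ) g) := fun χ => indicator (G := G) (χ : G → ℂ) χ.2
  choose ε hε01 hεsum hεreal using hind
  let χ₀ : IrrCharacter G := ⟨fun _ => 1, isIrrCharacter_one⟩
  have hdn₀ : dn χ₀ = 1 := by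
    have h := hdn χ₀
    have h1 : (χ₀ : G → ℂ) 1 = 1 := rfl
    rw [h1] at h
    exact_mod_cast h.symm
  have hε₀ : ε χ₀ = 1 := by
    have h := hεsum χ₀
    have h1 : ∑ s : G, (χ₀ : G → ℂ) (s * s) = (Nat.card G : ℂ) := by
      show ∑ s : G, (1 : ℂ) = _
      simp [Nat.card_eq_fintype_card]
    rw [h1] at h
    have h3 : (ε χ₀ : ℂ) * (Nat.card G : ℂ) = 1 * (Nat.card G : ℂ) := by rw [one_mul]; exact h.symm
    have h2 : (ε χ₀ : ℂ) = 1 := mul_right_cancel₀ hG0 h3
    exact_mod_cast h2
  -- the number of square roots of 1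
  have hroots : (Finset.univ.filter (fun s : G => s * s = 1)).card = 1 + t := by
    have h1 : Finset.univ.filter (fun s : G => s * s = 1) =
        insert 1 (Finset.univ.filter (fun s : G => orderOf s = 2)) := by
      ext s
      simp only [Finset.mem_filter, Finset.mem_univ, true_and, Finset.mem_insert]
      constructor
      · intro hs
        by_cases h1 : s = 1
        · left; exact h1
        · right
          exact orderOf_eq_prime (by rw [pow_two]; exact hs) h1
      · rintro (rfl | hs)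
        · simp
        · rw [← pow_two, ← hs]; exact pow_orderOf_eq_one s
    rw [h1, Finset.card_insert_of_notMem, add_comm]
    · congr 1
      rw [← ht, Nat.card_eq_fintype_card, Fintype.card_subtype]
    · simp
  have hcount := sqrt_count ε hεsum
  have hZ : ((1 + t : ℕ) : ℤ) = ∑ χ : IrrCharacter G, ε χ * (dn χ : ℤ) := by
    have h : (((1 + t : ℕ) : ℤ) : ℂ) = ((∑ χ : IrrCharacter G, ε χ * (dn χ : ℤ) : ℤ) : ℂ) := by
      rw [← hroots]
      push_cast
      rw [hcount]
      refine Finset.sum_congr rfl fun χ _ => ?_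
      rw [hdn]
    exact_mod_cast h
  have hsq : ∑ χ : IrrCharacter G, (dn χ : ℤ) ^ 2 = (Nat.card G : ℤ) := by
    have h := sum_sq_degree (G := G)
    have h2 : ((∑ χ : IrrCharacter G, (dn χ : ℤ) ^ 2 : ℤ) : ℂ) = ((Nat.card G : ℤ) : ℂ) := by
      push_cast
      rw [← h]
      refine Finset.sum_congr rfl fun χ _ => ?_
      rw [hdn]
    exact_mod_cast h2
  -- remove the principal character
  have hmem₀ : χ₀ ∈ (Finset.univ : Finset (IrrCharacter G)) := Finset.mem_univ _
  have htS : (t : ℤ) = ∑ χ ∈ Finset.univ.erase χ₀, ε χ * (dn χ : ℤ) := by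
    rw [← Finset.add_sum_erase _ _ hmem₀, hε₀, hdn₀] at hZ
    push_cast at hZ
    linarith
  have hsqS : ∑ χ ∈ Finset.univ.erase χ₀, (dn χ : ℤ) ^ 2 = (Nat.card G : ℤ) - 1 := by
    rw [← Finset.add_sum_erase _ _ hmem₀, hdn₀] at hsq
    push_cast at hsq
    linarith
  -- the real nonprincipal characters
  set R := (Finset.univ.erase χ₀).filter (fun χ => ε χ ≠ 0) with hR
  have htR : (t : ℤ) ≤ ∑ χ ∈ R, (dn χ : ℤ) := by
    rw [htS, hR, Finset.sum_filter]
    refine Finset.sum_le_sum fun χ _ => ?_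
    by_cases h0 : ε χ = 0
    · simp [h0]
    · rw [if_pos h0]
      rcases hε01 χ with h | h | h
      · exact absurd h h0
      · rw [h, one_mul]
      · rw [h]; have := hdn0 χ; nlinarith
  have hRS : R ⊆ Finset.univ.erase χ₀ := Finset.filter_subset _ _
  have htS' : (t : ℤ) ≤ ∑ χ ∈ Finset.univ.erase χ₀, (dn χ : ℤ) :=
    htR.trans (Finset.sum_le_sum_of_subset_of_nonneg hRS (fun χ _ _ => by positivity))
  -- t is positive
  have htpos : 0 < t := by
    obtain ⟨x, hx⟩ := exists_prime_orderOf_dvd_card' (G := G) 2 (even_iff_two_dvd.mp heven)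
    rw [← ht]
    haveI : Nonempty {x : G // orderOf x = 2} := ⟨⟨x, hx⟩⟩
    exact Nat.card_pos
  have hgpos : 2 ≤ Nat.card G := by
    have h1 : 0 < Nat.card G := Nat.card_pos
    obtain ⟨r, hr⟩ := heven
    omega
  have htq : (0 : ℚ) < (t : ℚ) := by exact_mod_cast htpos
  have hgq : (1 : ℚ) < (Nat.card G : ℚ) := by exact_mod_cast hgpos
  set α : ℚ := ((Nat.card G : ℚ) - 1) / t with hα
  have hαpos : 0 < α := div_pos (by linarith) htq
  have htα : (t : ℚ) * α = (Nat.card G : ℚ) - 1 := by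
    rw [hα]; field_simp
  have hsqSq : ∑ χ ∈ Finset.univ.erase χ₀, (dn χ : ℚ) ^ 2 = (Nat.card G : ℚ) - 1 := by
    have := congrArg (fun z : ℤ => (z : ℚ)) hsqS
    push_cast at this
    exact this
  have htRq : (t : ℚ) ≤ ∑ χ ∈ R, (dn χ : ℚ) := by
    have := (Int.cast_le (R := ℚ)).mpr htR
    push_cast at this
    exact this
  have htSq : (t : ℚ) ≤ ∑ χ ∈ Finset.univ.erase χ₀, (dn χ : ℚ) := by
    have := (Int.cast_le (R := ℚ)).mpr htS'
    push_cast at this
    exact this
  constructor
  · -- (a)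
    by_contra ha
    push Not at ha
    have hk : Fintype.card (IrrCharacter G) = Nat.card (ConjClasses G) := by
      rw [← Nat.card_eq_fintype_card]; exact card_irr_eq_card_conjClasses
    have hCS : (∑ χ ∈ Finset.univ.erase χ₀, (dn χ : ℚ)) ^ 2 ≤
        ((Finset.univ.erase χ₀).card : ℚ) * ∑ χ ∈ Finset.univ.erase χ₀, (dn χ : ℚ) ^ 2 :=
      sq_sum_le_card_mul_sum_sq
    have hcardS : ((Finset.univ.erase χ₀).card : ℚ) = (Nat.card (ConjClasses G) : ℚ) - 1 := by
      rw [Finset.card_erase_of_mem hmem₀, Finset.card_univ, hk]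
      have : 1 ≤ Nat.card (ConjClasses G) := Nat.card_pos
      push_cast [Nat.cast_sub this]; ring
    have ht2 : (t : ℚ) ^ 2 ≤
        ((Nat.card (ConjClasses G) : ℚ) - 1) * ((Nat.card G : ℚ) - 1) := by
      rw [← hcardS, ← hsqSq]
      refine le_trans ?_ hCS
      exact pow_le_pow_left₀ htq.le htSq 2
    have hsumc := sum_card_centralizer (G := G)
    have hc1 : Nat.card (Subgroup.centralizer ({(1 : G)} : Set G)) = Nat.card G := by
      have : Subgroup.centralizer ({(1 : G)} : Set G) = ⊤ := by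
        ext y; simp [Subgroup.mem_centralizer_singleton_iff]
      rw [this, Subgroup.card_top]
    have hsumc' : ∑ x ∈ Finset.univ.erase (1 : G),
        (Nat.card (Subgroup.centralizer ({x} : Set G)) : ℚ) =
        ((Nat.card (ConjClasses G) : ℚ) - 1) * (Nat.card G : ℚ) := by
      have h1 := congrArg (fun z : ℕ => (z : ℚ)) hsumc
      push_cast at h1
      rw [← Finset.add_sum_erase _ _ (Finset.mem_univ (1 : G)), hc1] at h1
      linarith
    have hlt : ∀ x ∈ Finset.univ.erase (1 : G),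
        (Nat.card (Subgroup.centralizer ({x} : Set G)) : ℚ) * α ^ 2 < (Nat.card G : ℚ) := by
      intro x hx
      have hx1 : x ≠ 1 := (Finset.mem_erase.mp hx).1
      have h1 := ha x hx1
      have h2 : (Nat.card (Subgroup.centralizer ({x} : Set G)) : ℚ) *
          ((Subgroup.centralizer ({x} : Set G)).index : ℚ) = (Nat.card G : ℚ) := by
        exact_mod_cast (Subgroup.centralizer ({x} : Set G)).card_mul_index
      have h3 : (0 : ℚ) < (Nat.card (Subgroup.centralizer ({x} : Set G)) : ℚ) := by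
        exact_mod_cast Nat.card_pos
      rw [← h2]
      exact mul_lt_mul_of_pos_left h1 h3
    have hne1 : (Finset.univ.erase (1 : G)).Nonempty := by
      rw [← Finset.card_pos, Finset.card_erase_of_mem (Finset.mem_univ _), Finset.card_univ,
        ← Nat.card_eq_fintype_card]
      omega
    have hsumlt : ∑ x ∈ Finset.univ.erase (1 : G),
        (Nat.card (Subgroup.centralizer ({x} : Set G)) : ℚ) * α ^ 2 <
        ∑ x ∈ Finset.univ.erase (1 : G), (Nat.card G : ℚ) :=
      Finset.sum_lt_sum_of_nonempty hne1 hlt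
    rw [← Finset.sum_mul, hsumc', Finset.sum_const,
      Finset.card_erase_of_mem (Finset.mem_univ _), Finset.card_univ,
      ← Nat.card_eq_fintype_card, nsmul_eq_mul] at hsumlt
    have hg1 : ((Nat.card G - 1 : ℕ) : ℚ) = (Nat.card G : ℚ) - 1 := by
      have : 1 ≤ Nat.card G := by omega
      push_cast [Nat.cast_sub this]; ring
    rw [hg1] at hsumlt
    have hgq0 : (0:ℚ) < (Nat.card G : ℚ) := by linarith
    have h5 : ((Nat.card (ConjClasses G) : ℚ) - 1) * α ^ 2 < (Nat.card G : ℚ) - 1 := by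
      have : ((Nat.card (ConjClasses G) : ℚ) - 1) * α ^ 2 * (Nat.card G : ℚ) <
          ((Nat.card G : ℚ) - 1) * (Nat.card G : ℚ) := by
        calc ((Nat.card (ConjClasses G) : ℚ) - 1) * α ^ 2 * (Nat.card G : ℚ)
            = ((Nat.card (ConjClasses G) : ℚ) - 1) * (Nat.card G : ℚ) * α ^ 2 := by ring
          _ < _ := hsumlt
      exact lt_of_mul_lt_mul_right this hgq0.le
    have h6 : α ^ 2 * (t : ℚ) ^ 2 = ((Nat.card G : ℚ) - 1) ^ 2 := by
      rw [← mul_pow, mul_comm, htα]
    have ht2pos : (0:ℚ) < (t:ℚ)^2 := by positivity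
    have h7 : ((Nat.card (ConjClasses G) : ℚ) - 1) * ((Nat.card G : ℚ) - 1) ^ 2 <
        ((Nat.card G : ℚ) - 1) * (t : ℚ) ^ 2 := by
      rw [← h6]
      calc ((Nat.card (ConjClasses G) : ℚ) - 1) * (α ^ 2 * (t:ℚ) ^ 2)
          = (((Nat.card (ConjClasses G) : ℚ) - 1) * α ^ 2) * (t:ℚ)^2 := by ring
        _ < ((Nat.card G : ℚ) - 1) * (t:ℚ)^2 := mul_lt_mul_of_pos_right h5 ht2pos
    have hg1pos : (0:ℚ) < (Nat.card G : ℚ) - 1 := by linarith
    have h8 : ((Nat.card (ConjClasses G) : ℚ) - 1) * ((Nat.card G : ℚ) - 1) < (t : ℚ) ^ 2 := by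
      have : (((Nat.card (ConjClasses G) : ℚ) - 1) * ((Nat.card G : ℚ) - 1)) *
          ((Nat.card G : ℚ) - 1) < (t : ℚ) ^ 2 * ((Nat.card G : ℚ) - 1) := by
        calc (((Nat.card (ConjClasses G) : ℚ) - 1) * ((Nat.card G : ℚ) - 1)) *
            ((Nat.card G : ℚ) - 1)
            = ((Nat.card (ConjClasses G) : ℚ) - 1) * ((Nat.card G : ℚ) - 1) ^ 2 := by ring
          _ < ((Nat.card G : ℚ) - 1) * (t : ℚ) ^ 2 := h7
          _ = (t : ℚ) ^ 2 * ((Nat.card G : ℚ) - 1) := by ring
      exact lt_of_mul_lt_mul_right this hg1pos.le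
    linarith
  · -- (b)
    by_contra hb
    push Not at hb
    have hRne : R.Nonempty := by
      by_contra hne
      rw [Finset.not_nonempty_iff_eq_empty] at hne
      rw [hne, Finset.sum_empty] at htRq
      linarith
    have hlt : ∀ χ ∈ R, α < (dn χ : ℚ) := by
      intro χ hχ
      rw [hR, Finset.mem_filter, Finset.mem_erase] at hχ
      have h1 : (χ : G → ℂ) ≠ (fun _ => 1) := by
        intro h
        apply hχ.1.1
        exact Subtype.ext h
      have h2 : ∀ g : G, ((χ : G → ℂ) g).im = 0 := fun g =>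
        Complex.conj_eq_iff_im.mp (hεreal χ hχ.2 g)
      have h3 := hb χ h1 h2
      have h4 : charDegree (χ : G → ℂ) = dn χ := by
        unfold charDegree
        rw [hdn]
        simp
      rwa [h4] at h3
    have h1 : ∑ χ ∈ R, (dn χ : ℚ) * α < ∑ χ ∈ R, (dn χ : ℚ) ^ 2 := by
      refine Finset.sum_lt_sum_of_nonempty hRne fun χ hχ => ?_
      have h2 := hlt χ hχ
      have h3 : (0 : ℚ) < dn χ := by exact_mod_cast hdn0 χ
      nlinarith
    have h2 : ∑ χ ∈ R, (dn χ : ℚ) ^ 2 ≤ (Nat.card G : ℚ) - 1 := by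
      rw [← hsqSq]
      exact Finset.sum_le_sum_of_subset_of_nonneg hRS (fun χ _ _ => by positivity)
    rw [← Finset.sum_mul] at h1
    have h3 : (t : ℚ) * α ≤ (∑ χ ∈ R, (dn χ : ℚ)) * α :=
      mul_le_mul_of_nonneg_right htRq hαpos.le
    linarith

end Cfsg.Agent.S4476
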