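import Mathlib
import Cfsg.Prelude
import Cfsg.Statements.S4478
import Cfsg.Agent.S0158
import Cfsg.Agent.Lib.Helper7.KHA
import Cfsg.Agent.Lib.Helper28.DefectZero
import Cfsg.Agent.Lib.Helper28.BlockDefectB
import Cfsg.Agent.Lib.Helper28.BlockDefectE
import Cfsg.Agent.Lib.Helper4.CharOrtho
import Cfsg.Agent.Lib.Helper2.Order168d

set_option autoImplicit false
open Cfsg

namespace Cfsg.Agent.S4478

/-- Let G be a finite group of even order and χ an irreducible character of G whose degree x is divisible by the full power of 2 dividing the order of G and, for every odd prime p such that G has an element of order 2p, by the full power of p dividing the order of G. Then all involutions of G are conjugate, the centralizer of every involution has order exactly x with x coprime to its index, and the Frobenius–Schur indicator of χ equals 1. -/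
theorem result {G : Type*} [Group G] [Fintype G] (heven : Even (Nat.card G)) (χ : Cfsg.IrrCharacter G) (h2 : 2 ^ (Nat.card G).factorization 2 ∣ Cfsg.charDegree (χ : G → ℂ)) (hp : ∀ p : ℕ, p.Prime → p ≠ 2 → (∃ g : G, orderOf g = 2 * p) → p ^ (Nat.card G).factorization p ∣ Cfsg.charDegree (χ : G → ℂ)) : (∀ s t : G, orderOf s = 2 → orderOf t = 2 → IsConj s t) ∧ (∀ s : G, orderOf s = 2 → Nat.card (Subgroup.centralizer ({s} : Set G)) = Cfsg.charDegree (χ : G → ℂ) ∧ (Nat.card (Subgroup.centralizer ({s} : Set G))).Coprime (Subgroup.centralizer ({s} : Set G)).index) ∧ (Nat.card G : ℂ)⁻¹ * ∑ g : G, (χ : G → ℂ) (g * g) = 1 := by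
  classical
  haveI : Fintype (IrrCharacter G) := Fintype.ofFinite _
  haveI : Fact (Nat.Prime 2) := ⟨Nat.prime_two⟩
  obtain ⟨hx0, hx1, hxdvd⟩ := Cfsg.Agent.Lib.Helper28.irr_degree_nat χ.2
  obtain ⟨x, hxdef⟩ : ∃ x : ℕ, x = Cfsg.charDegree (χ : G → ℂ) := ⟨_, rfl⟩
  rw [← hxdef] at h2 hp hx0 hx1 hxdvd
  rw [← hxdef]
  obtain ⟨n, ρ, hirr, hρχ⟩ := χ.2
  have hn : n = x := by
    have h1 : ρ.character 1 = (n : ℂ) := by
      rw [Representation.char_one, Module.finrank_fin_fun]
    rw [hρχ, hx1] at h1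
    exact_mod_cast h1.symm
  obtain ⟨b, hb⟩ := hxdvd
  have hGpos : Nat.card G ≠ 0 := Nat.card_pos.ne'
  have hbcop : ∀ p : ℕ, p.Prime → p ^ (Nat.card G).factorization p ∣ x → b.Coprime p := by
    intro p hpp hdiv
    rw [Nat.coprime_comm, Nat.Prime.coprime_iff_not_dvd hpp]
    intro hpb
    obtain ⟨v, hv⟩ : ∃ v : ℕ, v = (Nat.card G).factorization p := ⟨_, rfl⟩
    rw [← hv] at hdiv
    obtain ⟨c, hc⟩ := hdiv
    obtain ⟨d, hd⟩ := hpb
    have h3 : p ^ (v + 1) ∣ Nat.card G :=
      ⟨c * d, by rw [hb, hc, hd, pow_succ]; ring⟩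
    rw [hv] at h3
    exact Nat.pow_succ_factorization_not_dvd hGpos hpp h3
  -- vanishing
  have hvan : ∀ p : ℕ, p.Prime → p ^ (Nat.card G).factorization p ∣ x →
      ∀ g : G, p ∣ orderOf g → (χ : G → ℂ) g = 0 := by
    intro p hpp hdiv g hg
    have := Cfsg.Agent.Lib.Helper28.defect_zero_vanish ρ hirr hpp (b := b)
      (by rw [Module.finrank_fin_fun, hn, hb]) (hbcop p hpp hdiv) g hg
    rw [← hρχ]; exact this
  have h2van : ∀ g : G, 2 ∣ orderOf g → (χ : G → ℂ) g = 0 := hvan 2 Nat.prime_two h2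
  -- involutions
  obtain ⟨t, ht⟩ : ∃ t : ℕ, t = (Finset.univ.filter (fun g : G => orderOf g = 2)).card :=
    ⟨_, rfl⟩
  obtain ⟨s₀, hs₀⟩ : ∃ s : G, orderOf s = 2 :=
    exists_prime_orderOf_dvd_card' 2 (even_iff_two_dvd.mp heven)
  have htpos : 0 < t := by
    rw [ht, Finset.card_pos]
    exact ⟨s₀, by rw [Finset.mem_filter]; exact ⟨Finset.mem_univ _, hs₀⟩⟩
  -- key vanishing for even order
  have hkey : ∀ g : G, ¬ Odd (orderOf g) → g * g ≠ 1 → (χ : G → ℂ) (g * g) = 0 := by
    intro g hg hne
    by_cases h2y : 2 ∣ orderOf (g * g)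
    · exact h2van _ h2y
    obtain ⟨k, hk⟩ : ∃ k, orderOf g = 2 * k := by
      obtain ⟨k, hk⟩ := Nat.not_odd_iff_even.mp hg
      exact ⟨k, by omega⟩
    have hs : orderOf (g ^ k) = 2 := by
      have := orderOf_pow_orderOf_div (x := g) (n := 2) (orderOf_pos g).ne' ⟨k, hk⟩
      rw [hk, Nat.mul_div_cancel_left k (by norm_num)] at this
      exact this
    obtain ⟨y, hy⟩ : ∃ y : G, y = g * g := ⟨_, rfl⟩
    rw [← hy] at h2y hne ⊢
    have hm1 : orderOf y ≠ 1 := fun h => hne (orderOf_eq_one_iff.mp h)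
    obtain ⟨p, hpp, hpm⟩ := Nat.exists_prime_and_dvd hm1
    have hp2 : p ≠ 2 := fun h => h2y (h ▸ hpm)
    have hy' : orderOf (y ^ (orderOf y / p)) = p :=
      orderOf_pow_orderOf_div (orderOf_pos y).ne' hpm
    have hcomm : Commute (g ^ k) (y ^ (orderOf y / p)) := by
      have : y = g ^ 2 := by rw [hy, pow_two]
      rw [this, ← pow_mul]
      exact Commute.pow_pow_self g _ _
    have hord : orderOf (g ^ k * y ^ (orderOf y / p)) = 2 * p := by
      have := hcomm.orderOf_mul_eq_mul_orderOf_of_coprime (by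
        rw [hs, hy']; exact (Nat.coprime_primes Nat.prime_two hpp).mpr (Ne.symm hp2))
      rw [this, hs, hy']
    exact hvan p hpp (hp p hpp hp2 ⟨_, hord⟩) y hpm
  -- the sum of `χ`
  have hx2 : 2 ∣ x := by
    have h1 : 2 ∣ Nat.card G := even_iff_two_dvd.mp heven
    have h3 : 1 ≤ (Nat.card G).factorization 2 :=
      (Nat.prime_two.dvd_iff_one_le_factorization hGpos).mp h1
    exact (dvd_pow_self 2 (by omega)).trans h2
  have hsumχ : ∑ g : G, (χ : G → ℂ) g = 0 := by
    have h1 := Cfsg.Agent.Lib.Helper4.classInner_irr χ (Cfsg.Agent.Lib.Helper28.trivIrr G)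
    have hne : χ ≠ Cfsg.Agent.Lib.Helper28.trivIrr G := by
      intro h
      have h3 : (χ : G → ℂ) 1 = 1 := by rw [h]; rfl
      rw [hx1] at h3
      have h4 : x = 1 := by exact_mod_cast h3
      omega
    rw [if_neg hne] at h1
    unfold Cfsg.classInner at h1
    have h3 : ∑ g : G, (χ : G → ℂ) g * (starRingEnd ℂ)
        (((Cfsg.Agent.Lib.Helper28.trivIrr G : IrrCharacter G) : G → ℂ) g) =
        ∑ g : G, (χ : G → ℂ) g := by
      refine Finset.sum_congr rfl fun g _ => ?_
      show (χ : G → ℂ) g * (starRingEnd ℂ) (1 : ℂ) = _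
      rw [map_one, mul_one]
    rw [h3] at h1
    exact (mul_eq_zero.mp h1).resolve_left (inv_ne_zero (Nat.cast_ne_zero.mpr hGpos))
  have hS : ∑ g : G, (χ : G → ℂ) (g * g) = (t : ℂ) * x := by
    rw [← Finset.sum_filter_add_sum_filter_not Finset.univ (fun g : G => Odd (orderOf g)),
      Cfsg.Agent.Lib.Helper7.KH.sum_sq_odd (fun y => (χ : G → ℂ) y)]
    have hodd : ∑ y ∈ Finset.univ.filter (fun g : G => Odd (orderOf g)), (χ : G → ℂ) y = 0 := by
      have h1 := Finset.sum_filter_add_sum_filter_not Finset.univ (fun g : G => Odd (orderOf g))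
        (fun g => (χ : G → ℂ) g)
      rw [hsumχ] at h1
      have h' : ∑ y ∈ Finset.univ.filter (fun g : G => ¬ Odd (orderOf g)), (χ : G → ℂ) y = 0 :=
        Finset.sum_eq_zero (fun y hy => by
          rw [Finset.mem_filter] at hy
          exact h2van y (even_iff_two_dvd.mp (Nat.not_odd_iff_even.mp hy.2)))
      rw [h', add_zero] at h1
      exact h1
    rw [hodd, zero_add]
    have hev : ∀ g ∈ Finset.univ.filter (fun g : G => ¬ Odd (orderOf g)),
        (χ : G → ℂ) (g * g) = if orderOf g = 2 then (x : ℂ) else 0 := by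
      intro g hg
      rw [Finset.mem_filter] at hg
      by_cases h1 : g * g = 1
      · have h3 : orderOf g = 2 := by
          have hd : orderOf g ∣ 2 := orderOf_dvd_of_pow_eq_one (by rw [pow_two]; exact h1)
          rcases (Nat.dvd_prime Nat.prime_two).mp hd with h | h
          · exfalso; exact hg.2 (h ▸ odd_one)
          · exact h
        rw [if_pos h3, h1, hx1]
      · have h3 : orderOf g ≠ 2 := fun h => h1 (by
          rw [← pow_two, ← h]; exact pow_orderOf_eq_one g)
        rw [if_neg h3]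
        exact hkey g hg.2 h1
    rw [Finset.sum_congr rfl hev, Finset.sum_ite, Finset.sum_const_zero, add_zero,
      Finset.sum_const, nsmul_eq_mul, Finset.filter_filter]
    congr 2
    rw [ht]
    congr 1
    ext g
    simp only [Finset.mem_filter, Finset.mem_univ, true_and]
    constructor
    · exact fun h => h.2
    · intro h
      refine ⟨?_, h⟩
      rw [h]; decide
  -- the indicator
  have hirr' : ρ.IsIrreducible := hirr
  have hν := (Cfsg.Agent.S0158.result ρ).1
  rw [hρχ, hS] at hν
  have hGC : (Nat.card G : ℂ) ≠ 0 := Nat.cast_ne_zero.mpr hGpos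
  have htx : t * x = Nat.card G := by
    rcases hν with h | h | h
    · exfalso
      have h3 := (mul_eq_zero.mp h).resolve_left (inv_ne_zero hGC)
      have h4 : ((t * x : ℕ) : ℂ) = ((0 : ℕ) : ℂ) := by push_cast; exact h3
      have h5 : t * x = 0 := by exact_mod_cast h4
      rcases Nat.mul_eq_zero.mp h5 with h6 | h6 <;> omega
    · have h3 : (t : ℂ) * x = (Nat.card G : ℂ) := by
        have h4 : (Nat.card G : ℂ) * ((Nat.card G : ℂ)⁻¹ * ((t : ℂ) * x)) =
            (Nat.card G : ℂ) * 1 := by rw [h]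
        rw [← mul_assoc, mul_inv_cancel₀ hGC, one_mul, mul_one] at h4
        exact h4
      exact_mod_cast h3
    · exfalso
      have h3 : (t : ℂ) * x = -(Nat.card G : ℂ) := by
        have h4 : (Nat.card G : ℂ) * ((Nat.card G : ℂ)⁻¹ * ((t : ℂ) * x)) =
            (Nat.card G : ℂ) * (-1) := by rw [h]
        rw [← mul_assoc, mul_inv_cancel₀ hGC, one_mul, mul_neg, mul_one] at h4
        exact h4
      have h4 : ((t * x + Nat.card G : ℕ) : ℂ) = ((0 : ℕ) : ℂ) := by
        push_cast; rw [h3]; ring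
      have h5 : t * x + Nat.card G = 0 := by exact_mod_cast h4
      omega
  have hν1 : (Nat.card G : ℂ)⁻¹ * ∑ g : G, (χ : G → ℂ) (g * g) = 1 := by
    rw [hS]
    have : (t : ℂ) * x = (Nat.card G : ℂ) := by exact_mod_cast htx
    rw [this, inv_mul_cancel₀ hGC]
  -- centralizers
  have hfull : ∀ s : G, orderOf s = 2 → ∀ p : ℕ, p.Prime →
      p ∣ Nat.card (Subgroup.centralizer ({s} : Set G)) →
      p ^ (Nat.card G).factorization p ∣ x := by
    intro s hs p hpp hpc
    by_cases hp2 : p = 2
    · rw [hp2]; exact h2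
    · have hfact : Fact p.Prime := ⟨hpp⟩
      obtain ⟨y, hy⟩ := exists_prime_orderOf_dvd_card' p hpc
      apply hp p hpp hp2
      refine ⟨s * (y : G), ?_⟩
      have hcomm : Commute s (y : G) := Subgroup.mem_centralizer_iff.mp y.2 s rfl
      rw [hcomm.orderOf_mul_eq_mul_orderOf_of_coprime (by
        rw [hs, Subgroup.orderOf_coe, hy]
        exact (Nat.coprime_primes Nat.prime_two hpp).mpr (Ne.symm hp2)), hs,
        Subgroup.orderOf_coe, hy]
  have hCdvd : ∀ s : G, orderOf s = 2 → Nat.card (Subgroup.centralizer ({s} : Set G)) ∣ x := by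
    intro s hs
    rw [← Nat.factorization_prime_le_iff_dvd Nat.card_pos.ne' hx0]
    intro p hpp
    by_cases hpc : p ∣ Nat.card (Subgroup.centralizer ({s} : Set G))
    · have hle1 : (Nat.card (Subgroup.centralizer ({s} : Set G))).factorization p ≤
          (Nat.card G).factorization p :=
        (Nat.factorization_le_iff_dvd Nat.card_pos.ne' hGpos).mpr
          (Subgroup.card_subgroup_dvd_card _) p
      exact hle1.trans ((hpp.pow_dvd_iff_le_factorization hx0).mp (hfull s hs p hpp hpc))
    · rw [Nat.factorization_eq_zero_of_not_dvd hpc]; exact Nat.zero_le _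
  -- class sizes
  have hclass : ∀ s : G, orderOf s = 2 →
      Nat.card (Subgroup.centralizer ({s} : Set G)) = x ∧
      Finset.univ.filter (fun g : G => IsConj s g) =
        Finset.univ.filter (fun g : G => orderOf g = 2) := by
    intro s hs
    have h1 := Cfsg.Agent.Lib.Helper2.Order168.card_conj_class s
    rw [← Cfsg.Agent.Lib.Helper2.Order168.card_isConj_eq s, Nat.card_eq_fintype_card,
      Fintype.card_subtype] at h1
    have hsub : Finset.univ.filter (fun g : G => IsConj s g) ⊆
        Finset.univ.filter (fun g : G => orderOf g = 2) := by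
      intro g hg
      rw [Finset.mem_filter] at hg ⊢
      obtain ⟨c, hc⟩ := hg.2
      exact ⟨Finset.mem_univ _, by rw [← hc.orderOf_eq, hs]⟩
    have hle : (Finset.univ.filter (fun g : G => IsConj s g)).card ≤ t := by
      rw [ht]; exact Finset.card_le_card hsub
    have hcle : Nat.card (Subgroup.centralizer ({s} : Set G)) ≤ x :=
      Nat.le_of_dvd (Nat.pos_of_ne_zero hx0) (hCdvd s hs)
    have hcpos : 0 < Nat.card (Subgroup.centralizer ({s} : Set G)) := Nat.card_pos
    have hceq : Nat.card (Subgroup.centralizer ({s} : Set G)) = x := by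
      by_contra hne
      have hlt : Nat.card (Subgroup.centralizer ({s} : Set G)) < x := lt_of_le_of_ne hcle hne
      have h3 : (Finset.univ.filter (fun g : G => IsConj s g)).card *
          Nat.card (Subgroup.centralizer ({s} : Set G)) < t * x :=
        lt_of_le_of_lt (Nat.mul_le_mul_right _ hle) (Nat.mul_lt_mul_of_pos_left hlt htpos)
      omega
    refine ⟨hceq, ?_⟩
    apply Finset.eq_of_subset_of_card_le hsub
    rw [← ht]
    rw [hceq, ← htx] at h1
    exact le_of_eq (Nat.eq_of_mul_eq_mul_right (Nat.pos_of_ne_zero hx0) h1).symm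
  refine ⟨?_, ?_, hν1⟩
  · intro s u hs hu
    have h1 := (hclass s hs).2
    have h3 : u ∈ Finset.univ.filter (fun g : G => IsConj s g) := by
      rw [h1, Finset.mem_filter]; exact ⟨Finset.mem_univ _, hu⟩
    rw [Finset.mem_filter] at h3
    exact h3.2
  · intro s hs
    have hc := (hclass s hs).1
    refine ⟨hc, ?_⟩
    have hidx : (Subgroup.centralizer ({s} : Set G)).index = b := by
      have h1 := Subgroup.card_mul_index (Subgroup.centralizer ({s} : Set G))
      rw [hc, hb] at h1
      exact Nat.eq_of_mul_eq_mul_left (Nat.pos_of_ne_zero hx0) h1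
    rw [hidx, hc]
    apply Nat.coprime_of_dvd
    intro p hpp hpx hpb
    have h1 := hbcop p hpp (hfull s hs p hpp (by rw [hc]; exact hpx))
    exact (Nat.Prime.coprime_iff_not_dvd hpp).mp h1.symm hpb


end Cfsg.Agent.S4478
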