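import Cfsg.Statements.S4485
import Cfsg.Agent.Lib.Helper26.BLE
-- import your own Cfsg.Agent.* helpers here

set_option autoImplicit false
open Cfsg

namespace Cfsg.Agent.S4485

open Cfsg.Agent.Lib.Helper26
open scoped Pointwise

/-- Let G be a finite group and p a prime dividing its order such that every non-identity element of a Sylow p-subgroup P has the same centralizer as P itself (so P is abelian); let p^n be the order of P. If G has a faithful character of degree x with x² < p^n − 1, then P is normal in G. -/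
theorem result {G : Type*} [Group G] [Finite G] (p : ℕ) (hp : p.Prime) (hpG : p ∣ Nat.card G) (P : Sylow p G) (hstar : ∀ x ∈ (P : Subgroup G), x ≠ 1 → Subgroup.centralizer ({x} : Set G) = Subgroup.centralizer ((P : Subgroup G) : Set G)) (n : ℕ) (hn : Nat.card P = p ^ n) (χ : G → ℂ) (hχ : Cfsg.IsCharacter G χ) (hfaith : ∀ g : G, χ g = χ 1 → g = 1) (hdeg : Cfsg.charDegree χ ^ 2 + 1 < p ^ n) : (P : Subgroup G).Normal := by
  classical
  haveI : Fact p.Prime := ⟨hp⟩
  letI : Fintype G := Fintype.ofFinite G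
  have hstarR : ∀ R : Subgroup G, IsPGroup p R → ∀ x ∈ R, x ≠ 1 → ∀ g : G, g * x = x * g →
      ∀ y ∈ R, g * y = y * g := by
    intro R hR x hx hx1 k hkx y hy
    obtain ⟨Q, hRQ⟩ := hR.exists_le_sylow
    obtain ⟨g, hg⟩ := MulAction.exists_smul_eq G P Q
    have hmem : ∀ w ∈ R, ∃ w₀ ∈ (P : Subgroup G), w = g * w₀ * g⁻¹ := by
      intro w hw
      have h1 : w ∈ (Q : Subgroup G) := hRQ hw
      rw [← hg, Sylow.coe_subgroup_smul, Subgroup.mem_smul_pointwise_iff_exists] at h1
      obtain ⟨w₀, hw₀, e⟩ := h1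
      refine ⟨w₀, hw₀, ?_⟩
      rw [← e]
      simp [MulAut.smul_def, MulAut.conj_apply]
    obtain ⟨x₀, hx₀, rfl⟩ := hmem x hx
    obtain ⟨y₀, hy₀, rfl⟩ := hmem y hy
    have hx₀1 : x₀ ≠ 1 := by
      intro e
      apply hx1
      rw [e]
      group
    have h1 : g⁻¹ * k * g ∈ Subgroup.centralizer ({x₀} : Set G) := by
      rw [Subgroup.mem_centralizer_iff]
      intro z hz
      rw [Set.mem_singleton_iff] at hz
      subst hz
      -- z * (g⁻¹ k g) = (g⁻¹ k g) * z
      have h2 : z * (g⁻¹ * k * g) = g⁻¹ * ((g * z * g⁻¹) * k) * g := by group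
      have h3 : g⁻¹ * k * g * z = g⁻¹ * (k * (g * z * g⁻¹)) * g := by group
      rw [h2, h3, hkx]
    rw [hstar x₀ hx₀ hx₀1] at h1
    rw [Subgroup.mem_centralizer_iff] at h1
    have h4 := h1 y₀ hy₀
    -- h4 : y₀ * (g⁻¹ * k * g) = g⁻¹ * k * g * y₀
    have h5 : k * (g * y₀ * g⁻¹) = g * (g⁻¹ * k * g * y₀) * g⁻¹ := by group
    have h6 : g * y₀ * g⁻¹ * k = g * (y₀ * (g⁻¹ * k * g)) * g⁻¹ := by group
    rw [h5, h6, h4]
  have hdeg' : (BL.deg χ) ^ 2 + 1 < Nat.card (P : Subgroup G) := by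
    have h1 : Nat.card (P : Subgroup G) = p ^ n := hn
    rw [h1]
    exact hdeg
  exact BL.main_aux p (Nat.card G) G rfl hstarR χ hχ hfaith P hdeg'

end Cfsg.Agent.S4485
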