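import Cfsg.Statements.S4488
import Cfsg.Agent.Lib.Helper4.PRational
import Cfsg.Agent.Lib.Helper4.Blichfeldt
import Cfsg.Agent.Lib.Helper4.Deflate

set_option autoImplicit false
open Cfsg

namespace Cfsg.Agent.S4488

open Cfsg.Agent.Lib.Helper26 Cfsg.Agent.Lib.Helper4
open scoped ComplexConjugate Nat

/-- the arithmetic part: `p ^ a ∣ p ^ K * K!` bounds `a` by Legendre's formula -/
theorem arith (p : ℕ) (hp : p.Prime) (n a : ℕ) (h : p ^ a ∣ p ^ (n / (p - 1)) * (n / (p - 1))!) :
    a ≤ ∑ i ∈ Finset.range (n + 1), n / ((p - 1) * p ^ i) := by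
  have : Fact p.Prime := ⟨hp⟩
  set K := n / (p - 1) with hK
  have hne : p ^ K * K ! ≠ 0 := mul_ne_zero (pow_ne_zero _ hp.ne_zero) (Nat.factorial_ne_zero K)
  have h1 : a ≤ (p ^ K * K !).factorization p := (hp.pow_dvd_iff_le_factorization hne).mp h
  rw [Nat.factorization_mul (pow_ne_zero _ hp.ne_zero) (Nat.factorial_ne_zero K),
    Finsupp.add_apply, hp.factorization_pow, Finsupp.single_eq_same, Nat.factorization_def _ hp] at h1
  have hKn : K ≤ n := Nat.div_le_self n (p - 1)
  have hlog : Nat.log p K < n + 1 := (Nat.log_le_self p K).trans_lt (Nat.lt_succ_of_le hKn)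
  rw [padicValNat_factorial hlog] at h1
  refine h1.trans (le_of_eq ?_)
  rw [Finset.range_eq_Ico, Finset.sum_eq_sum_Ico_succ_bot (Nat.succ_pos n)]
  congr 1
  · simp [hK]
  · refine Finset.sum_congr rfl fun i _ => ?_
    rw [hK, Nat.div_div_eq_div_mul]


/-- Let the finite group G have a faithful p-rational character χ of degree n (all values of χ lie in the field generated over ℚ by a root of unity of order prime to p), and let p^a be the order of a Sylow p-subgroup of G. Then a ≤ Σ_{i ≥ 0} ⌊n / ((p − 1)·p^i)⌋ (a finite sum; the terms vanish once (p − 1)p^i > n). -/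
theorem result {G : Type*} [Group G] [Finite G] (p : ℕ) (hp : p.Prime) (χ : G → ℂ) (hχ : Cfsg.IsCharacter G χ) (hfaith : ∀ g : G, χ g = χ 1 → g = 1) (hrat : (∃ r : ℕ, 0 < r ∧ ¬ p ∣ r ∧ ∀ g : G, χ g ∈ IntermediateField.adjoin ℚ ({Complex.exp (2 * Real.pi * Complex.I / r)} : Set ℂ))) (n : ℕ) (hn : Cfsg.charDegree χ = n) : (Nat.card G).factorization p ≤ ∑ i ∈ Finset.range (n + 1), n / ((p - 1) * p ^ i) := by
  classical
  have : Fintype G := Fintype.ofFinite G
  have : Fact p.Prime := ⟨hp⟩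
  obtain ⟨n', ρ, rfl⟩ := hχ
  obtain ⟨r, hr, hpr, hrat⟩ := hrat
  have hrat' : ∀ g : G, ρ.character g ∈ cycK r := hrat
  have hnn : n = Module.finrank ℂ (Fin n' → ℂ) := by
    rw [← hn, charDegree_character]
  have hp1 : 0 < p - 1 := Nat.sub_pos_of_lt hp.one_lt
  -- a Sylow subgroup
  let P : Sylow p G := default
  have hPcard : Nat.card (P : Subgroup G) = p ^ (Nat.card G).factorization p :=
    P.card_eq_multiplicity
  set a := (Nat.card G).factorization p with ha
  have hxo : ∀ x : (P : Subgroup G), (x : G) ^ (p ^ a) = 1 := by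
    intro x
    have h1 : x ^ Nat.card (P : Subgroup G) = 1 := pow_card_eq_one'
    rw [hPcard] at h1
    have h2 := congrArg (fun y : (P : Subgroup G) => (y : G)) h1
    simpa using h2
  have hz : ∀ x : (P : Subgroup G), ∃ z : ℤ, ρ.character (x : G) = z := fun x =>
    int_of_pRational ρ p hp r hr hpr hrat' x a (hxo x)
  choose z hz using hz
  have hχP : Cfsg.IsCharacter (P : Subgroup G) (fun x : (P : Subgroup G) => ρ.character (x : G)) :=
    isCharacter_restrict (P : Subgroup G) ⟨n', ρ, rfl⟩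
  set K := n / (p - 1) with hK
  let V : Finset ℤ := (Finset.range K).image (fun t : ℕ => (n : ℤ) - (p : ℤ) * ((t : ℤ) + 1))
  have hχ1 : ρ.character (1 : G) = ((n : ℤ) : ℂ) := by
    rw [Representation.char_one, hnn]
    simp
  have hV : ∀ x : (P : Subgroup G), x ≠ 1 →
      ∃ v ∈ V, (fun x : (P : Subgroup G) => ρ.character (x : G)) x = ((v : ℤ) : ℂ) := by
    intro x hx
    refine ⟨z x, ?_, hz x⟩
    have h1 : (p : ℤ) ∣ (n : ℤ) - z x := by
      rw [hnn]
      exact congr_of_pElement ρ p hp x a (hxo x) (z x) (hz x)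
    have h2 : 0 ≤ (n : ℤ) + ((p : ℤ) - 1) * z x := by
      rw [hnn]
      exact lower_bound_of_pRational ρ p hp r hr hpr hrat' x a (hxo x) (z x) (hz x)
    have h3 : z x ≤ n := by
      have h4 := norm_character_le ρ (x : G)
      rw [hz x, ← hnn] at h4
      have h5 : ((z x : ℤ) : ℝ) ≤ (n : ℝ) := by
        refine le_trans ?_ h4
        rw [Complex.norm_intCast]
        exact le_abs_self _
      exact_mod_cast h5
    have h6 : z x ≠ n := by
      intro h
      apply hx
      apply Subtype.ext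
      apply hfaith
      rw [hz x, h, hχ1]
    obtain ⟨t, ht⟩ := h1
    have hp0 : (0 : ℤ) < p := by exact_mod_cast hp.pos
    have htpos : 0 < t := by
      by_contra hcon
      push Not at hcon
      have : (p : ℤ) * t ≤ 0 := mul_nonpos_of_nonneg_of_nonpos hp0.le hcon
      have h7 : (n : ℤ) - z x ≤ 0 := ht ▸ this
      have : z x < n := lt_of_le_of_ne h3 h6
      omega
    have htK : t.toNat ≤ K := by
      rw [hK, Nat.le_div_iff_mul_le hp1]
      have h8 : ((p : ℤ) - 1) * ((n : ℤ) - z x) ≤ (p : ℤ) * n := by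
        have : ((p : ℤ) - 1) * ((n : ℤ) - z x) = (p : ℤ) * n - ((n : ℤ) + ((p : ℤ) - 1) * z x) := by
          ring
        rw [this]
        linarith
      rw [ht] at h8
      have h9 : (p : ℤ) * (((p : ℤ) - 1) * t) ≤ (p : ℤ) * n := by
        have : (p : ℤ) * (((p : ℤ) - 1) * t) = ((p : ℤ) - 1) * ((p : ℤ) * t) := by ring
        rw [this]
        exact h8
      have h10 : ((p : ℤ) - 1) * t ≤ n := le_of_mul_le_mul_left h9 hp0
      have h11 : ((t.toNat * (p - 1) : ℕ) : ℤ) ≤ (n : ℤ) := by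
        rw [Nat.cast_mul, Int.toNat_of_nonneg htpos.le, Nat.cast_sub hp.one_le, mul_comm]
        exact h10
      exact_mod_cast h11
    rw [Finset.mem_image]
    have htn : 0 < t.toNat := by
      rw [Int.lt_toNat]
      exact htpos
    refine ⟨t.toNat - 1, ?_, ?_⟩
    · rw [Finset.mem_range]
      omega
    · have h12 : ((t.toNat - 1 : ℕ) : ℤ) + 1 = t := by
        rw [Nat.cast_sub htn, Int.toNat_of_nonneg htpos.le]
        simp
      rw [h12, ← ht]
      ring
  have hdvd := card_dvd_prod_sub (fun x : (P : Subgroup G) => ρ.character (x : G)) hχP V hV n hχ1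
  -- compute the product
  have hprod : ∏ v ∈ V, ((n : ℤ) - v) = ((p ^ K * K ! : ℕ) : ℤ) := by
    have hinj : Set.InjOn (fun t : ℕ => (n : ℤ) - (p : ℤ) * ((t : ℤ) + 1))
        (Finset.range K : Set ℕ) := by
      intro t₁ _ t₂ _ h
      have hp0 : (p : ℤ) ≠ 0 := by exact_mod_cast hp.ne_zero
      have h1 : (p : ℤ) * ((t₁ : ℤ) + 1) = (p : ℤ) * ((t₂ : ℤ) + 1) := by
        have h2 : (n : ℤ) - (p : ℤ) * ((t₁ : ℤ) + 1) = (n : ℤ) - (p : ℤ) * ((t₂ : ℤ) + 1) := h
        linarith
      have h3 := mul_left_cancel₀ hp0 h1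
      have h4 : (t₁ : ℤ) = t₂ := by linarith
      exact_mod_cast h4
    rw [Finset.prod_image hinj]
    have h1 : ∀ t ∈ Finset.range K, ((n : ℤ) - ((n : ℤ) - (p : ℤ) * ((t : ℤ) + 1))) =
        (p : ℤ) * (((t + 1 : ℕ) : ℤ)) := by
      intro t _
      push_cast
      ring
    rw [Finset.prod_congr rfl h1, Finset.prod_mul_distrib, Finset.prod_const, Finset.card_range,
      ← Nat.cast_prod, Finset.prod_range_add_one_eq_factorial]
    push_cast
    rfl
  rw [hprod, hPcard] at hdvd
  have hdvd' : p ^ a ∣ p ^ K * K ! := by exact_mod_cast hdvd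
  exact arith p hp n a hdvd'

end Cfsg.Agent.S4488
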