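import Cfsg.Statements.S4490
import Cfsg.Agent.Lib.Helper28.RealOddC
import Cfsg.Agent.Lib.Helper28.DualRep
import Cfsg.Agent.Lib.Helper28.BrauerM

set_option autoImplicit false
open Cfsg

namespace Cfsg.Agent.S4490

/-- Let G be a finite group and M a maximal ideal of the algebraic integers containing 2. Every 2-block B of G whose defect groups are the Sylow 2-subgroups of G (a block of full defect) and which is not the principal block is different from its complex-conjugate block, the block formed by the complex conjugates of the members of B. -/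
theorem result {G : Type*} [Group G] [Finite G] (M : Ideal Cfsg.AlgInt) (hM : Cfsg.IsPModular 2 M) (B : Set (Cfsg.IrrCharacter G)) (hB : Cfsg.IsPBlock M B) (P : Sylow 2 G) (hfull : Cfsg.IsDefectGroup 2 M B (P : Subgroup G)) (hnp : B ≠ Cfsg.principalBlock M G) : {ψ : Cfsg.IrrCharacter G | ∃ χ ∈ B, (ψ : G → ℂ) = fun g => (starRingEnd ℂ) ((χ : G → ℂ) g)} ≠ B := by
  classical
  have : Fintype G := Fintype.ofFinite G
  have : Fact (Nat.Prime 2) := ⟨Nat.prime_two⟩
  intro hconj
  apply hnp
  have hinv : ∀ g : G, g ^ (Nat.card G - 1) = g⁻¹ := by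
    intro g
    apply eq_inv_of_mul_eq_one_left
    rw [← pow_succ, Nat.sub_add_cancel Nat.card_pos, pow_card_eq_one']
  have hdef : Cfsg.blockDefect 2 B = (Nat.card G).factorization 2 := by
    have h1 := Cfsg.Agent.Lib.Helper28.card_defectGroup hM hB hfull
    have h2 : Nat.card (P : Subgroup G) = 2 ^ (Nat.card G).factorization 2 :=
      P.card_eq_multiplicity
    rw [h2] at h1
    exact (Nat.pow_right_injective (le_refl 2) h1).symm
  apply Cfsg.Agent.Lib.Helper28.full_defect_stable_principal hM (Nat.card G - 1)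
    (fun g _ => hinv g) B hB hdef
  intro χ hχ
  have hirr : Cfsg.IsIrrCharacter G (fun g => (starRingEnd ℂ) ((χ : G → ℂ) g)) :=
    Cfsg.Agent.Lib.Helper28.isIrrCharacter_conj χ.2
  refine ⟨⟨_, hirr⟩, ?_, ?_⟩
  · rw [← hconj]
    exact ⟨χ, hχ, rfl⟩
  · intro g
    show (starRingEnd ℂ) ((χ : G → ℂ) g) = (χ : G → ℂ) (g ^ (Nat.card G - 1))
    rw [hinv g, Cfsg.Agent.Lib.Helper28.irr_inv_eq_conj]

end Cfsg.Agent.S4490
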