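import Cfsg.Statements.S4495
import Cfsg.Agent.Lib.Helper11.SelfCent
import Cfsg.Agent.Lib.Helper11.Burnside

set_option autoImplicit false
open Cfsg

namespace Cfsg.Agent.S4495

open Subgroup Cfsg.Agent.Lib.Helper11
open scoped commutatorElement

theorem result {G : Type*} [Group G] [Finite G] (p : ℕ) (hp : p.Prime) (x : G) (hx : orderOf x = p) (hC : Subgroup.centralizer ({x} : Set G) = Subgroup.zpowers x) (t : ℕ) (ht : Nat.card {C : ConjClasses G // ∃ g ∈ C.carrier, orderOf g = p} = t) : (t ≠ p - 1 → (commutator G).index * t ≤ p - 1) ∧ (t = p - 1 → (commutator G).index = p) := by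
  classical
  haveI : Fact p.Prime := ⟨hp⟩
  have hcount := selfCent_card_classes hp hx hC
  rw [ht] at hcount
  set e := (zpowers x).relIndex (normalizer (zpowers x : Set G)) with he
  have hx1 : x ≠ 1 := by
    intro h
    rw [h, orderOf_one] at hx
    exact hp.one_lt.ne hx
  have hp1 : 0 < p - 1 := Nat.sub_pos_of_lt hp.one_lt
  constructor
  · intro htne
    have he1 : e ≠ 1 := by
      intro h1
      rw [h1, mul_one] at hcount
      exact htne hcount
    -- some element of the normaliser is outside ⟨x⟩
    have hnle : ¬ normalizer (zpowers x : Set G) ≤ zpowers x := by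
      intro hle
      exact he1 (relIndex_eq_one.2 hle)
    obtain ⟨n, hnN, hnP⟩ := Set.not_subset.1 hnle
    have hnx : n * x * n⁻¹ ∈ zpowers x := ((mem_normalizer_iff.1 hnN) x).1 (mem_zpowers x)
    have hc : n * x * n⁻¹ * x⁻¹ ∈ zpowers x := mul_mem hnx (inv_mem (mem_zpowers x))
    have hc1 : n * x * n⁻¹ * x⁻¹ ≠ 1 := by
      intro h1
      apply hnP
      change n ∈ zpowers x
      rw [← hC, mem_centralizer_iff]
      intro w hw
      rw [Set.mem_singleton_iff.1 hw]
      have : n * x = n * x * n⁻¹ * x⁻¹ * (x * n) := by group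
      rw [this, h1, one_mul]
    have hcG : n * x * n⁻¹ * x⁻¹ ∈ commutator G := by
      rw [_root_.commutator_def]
      exact commutator_mem_commutator (mem_top n) (mem_top x)
    have hxG : x ∈ commutator G := by
      have h1 := selfCent_zpowers_eq hp hx hc hc1
      have h2 : x ∈ zpowers (n * x * n⁻¹ * x⁻¹) := h1 ▸ mem_zpowers x
      exact (zpowers_le.2 hcG) h2
    have hdvd := selfCent_index_dvd hx hC (commutator G) hxG
    have hepos : 0 < e := by
      rcases Nat.eq_zero_or_pos e with h0 | h0
      · rw [h0, mul_zero] at hcount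
        omega
      · exact h0
    have hle : (commutator G).index ≤ e := Nat.le_of_dvd hepos hdvd
    calc (commutator G).index * t ≤ e * t := Nat.mul_le_mul_right t hle
      _ = t * e := mul_comm _ _
      _ = p - 1 := hcount
  · intro hteq
    have he1 : e = 1 := by
      rw [hteq] at hcount
      have : (p - 1) * e = (p - 1) * 1 := by rw [hcount, mul_one]
      exact Nat.eq_of_mul_eq_mul_left hp1 this
    have hle : normalizer (zpowers x : Set G) ≤ zpowers x := relIndex_eq_one.1 he1
    obtain ⟨P, hP⟩ := selfCent_exists_sylow hx hC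
    have hPc : normalizer ((P : Subgroup G) : Set G) ≤ centralizer (P : Set G) := by
      rw [← Sylow.coe_coe, hP]
      intro n hn
      have hnP := hle hn
      rw [mem_centralizer_iff]
      intro w hw
      obtain ⟨a, rfl⟩ := mem_zpowers_iff.1 (show w ∈ zpowers x from hw)
      obtain ⟨b, rfl⟩ := mem_zpowers_iff.1 hnP
      rw [← zpow_add, ← zpow_add, add_comm]
    obtain ⟨P', K, hKn, hK⟩ := hasNormalPComplement_of_normalizer_le_centralizer P hPc
    -- |K| is prime to p, K has index p
    have hP'card : Nat.card (P' : Subgroup G) = p := by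
      have h1 : Nat.card (P' : Subgroup G) = Nat.card (P : Subgroup G) := by
        obtain ⟨g, hg⟩ := MulAction.exists_smul_eq G P P'
        rw [← hg]
        exact (Sylow.card_eq_multiplicity _).trans (Sylow.card_eq_multiplicity _).symm
      rw [h1, hP, Nat.card_zpowers, hx]
    have hKidx : K.index = p := by rw [hK.symm.index_eq_card, hP'card]
    have hKcard : ¬ p ∣ Nat.card K := by
      rw [← hK.index_eq_card]
      exact P'.not_dvd_index
    -- G' ≤ K
    have hGK : commutator G ≤ K := by
      rw [← Subgroup.Normal.quotient_commutative_iff_commutator_le]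
      have hq : Nat.card (G ⧸ K) = p := by rw [← Subgroup.index_eq_card, hKidx]
      haveI := isCyclic_of_prime_card hq
      exact ⟨⟨fun a b => (IsCyclic.commGroup (α := G ⧸ K)).mul_comm a b⟩⟩
    -- K ≤ G'
    have hKx : ∀ k ∈ K, k * x = x * k → k = 1 := by
      intro k hk hkx
      have hkP : k ∈ zpowers x := by
        rw [← hC, mem_centralizer_iff]
        intro w hw
        rw [Set.mem_singleton_iff.1 hw]
        exact hkx.symm
      have hord : orderOf k ∣ p := by
        have := Subgroup.orderOf_dvd_natCard (zpowers x) hkP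
        rwa [Nat.card_zpowers, hx] at this
      have hord' : orderOf k ∣ Nat.card K := Subgroup.orderOf_dvd_natCard K hk
      rcases (Nat.dvd_prime hp).1 hord with h1 | h1
      · exact orderOf_eq_one_iff.1 h1
      · exact absurd (h1 ▸ hord') hKcard
    have hKG : K ≤ commutator G := by
      let f : K → K := fun k => ⟨(k : G)⁻¹ * (x * k * x⁻¹), K.mul_mem (K.inv_mem k.2) (hKn.conj_mem k k.2 x)⟩
      have hinj : Function.Injective f := by
        intro k l hkl
        have h1 : (k : G)⁻¹ * (x * k * x⁻¹) = (l : G)⁻¹ * (x * l * x⁻¹) := congrArg Subtype.val hkl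
        have h2 : ((l : G) * (k : G)⁻¹) * x = x * ((l : G) * (k : G)⁻¹) := by
          have e1 : ((l : G) * (k : G)⁻¹) * x = (l : G) * ((k : G)⁻¹ * (x * k * x⁻¹)) * (x * (k : G)⁻¹) := by
            group
          rw [e1, h1]; group
        have h3 := hKx ((l : G) * (k : G)⁻¹) (K.mul_mem l.2 (K.inv_mem k.2)) h2
        apply Subtype.ext
        have : (l : G) = (l : G) * (k : G)⁻¹ * k := by group
        rw [this, h3, one_mul]
      have hsurj := Finite.injective_iff_surjective.1 hinj
      intro k hk
      obtain ⟨l, hl⟩ := hsurj ⟨k, hk⟩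
      have h1 : (l : G)⁻¹ * (x * l * x⁻¹) = k := congrArg Subtype.val hl
      rw [← h1, _root_.commutator_def]
      have : (l : G)⁻¹ * (x * l * x⁻¹) = ⁅(l : G)⁻¹, x⁆ := by
        rw [commutatorElement_def]; group
      rw [this]
      exact commutator_mem_commutator (mem_top _) (mem_top _)
    rw [le_antisymm hGK hKG, hKidx]

end Cfsg.Agent.S4495
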