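import Cfsg.Statements.S4497
import Cfsg.Agent.Lib.Helper11.SelfCent
import Cfsg.Agent.Lib.Helper20.Cores

set_option autoImplicit false
open Cfsg

namespace Cfsg.Agent.S4497

open Subgroup Cfsg.Agent.Lib.Helper11 Cfsg.Agent.Lib.Helper20

/-- Let the finite group G contain an element x of prime order p with C_G(x) = ⟨x⟩, let t be the number of conjugacy classes of elements of order p, and let S* = O_{p′}(G) be the largest normal subgroup of order prime to p. Then S* ≤ G′; if t ≠ p − 1 the quotient G′/S* is simple (in particular non-trivial); if t = p − 1 then G′ = S*. -/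
theorem result {G : Type*} [Group G] [Finite G] (p : ℕ) (hp : p.Prime) (x : G) (hx : orderOf x = p) (hC : Subgroup.centralizer ({x} : Set G) = Subgroup.zpowers x) (t : ℕ) (ht : Nat.card {C : ConjClasses G // ∃ g ∈ C.carrier, orderOf g = p} = t) : Cfsg.pPrimeCore p G ≤ commutator G ∧ (t ≠ p - 1 → ∀ h : ((Cfsg.pPrimeCore p G).subgroupOf (commutator G)).Normal, IsSimpleGroup (↥(commutator G) ⧸ (Cfsg.pPrimeCore p G).subgroupOf (commutator G))) ∧ (t = p - 1 → commutator G = Cfsg.pPrimeCore p G) := by
  classical
  haveI : Fact p.Prime := ⟨hp⟩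
  have hOn : (Cfsg.pPrimeCore p G).Normal := (pPrimeCore_mem' (G := G) p).1
  have hOc : (Nat.card (Cfsg.pPrimeCore p G)).Coprime p := pPrimeCore_coprime' p
  have hOp : ¬ p ∣ Nat.card (Cfsg.pPrimeCore p G) :=
    (Nat.Prime.coprime_iff_not_dvd hp).1 hOc.symm
  have hA : Cfsg.pPrimeCore p G ≤ commutator G :=
    selfCent_le_commutator_of_not_dvd hp hx hC _ hOn hOp
  have hcount := selfCent_card_classes hp hx hC
  rw [ht] at hcount
  have hp1 : 0 < p - 1 := Nat.sub_pos_of_lt hp.one_lt
  have hx1 : x ≠ 1 := by
    intro h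
    rw [h, orderOf_one] at hx
    exact hp.one_lt.ne hx
  refine ⟨hA, ?_, ?_⟩
  · intro htne hnorm
    have hnle : ¬ normalizer (zpowers x : Set G) ≤ zpowers x := by
      intro hle
      rw [relIndex_eq_one.2 hle, mul_one] at hcount
      exact htne hcount
    have hDn : (commutator G).Normal := inferInstance
    have hxD : x ∈ commutator G := selfCent_mem_commutator hp hx hC hnle
    have hxO : x ∉ Cfsg.pPrimeCore p G := by
      intro h
      apply hOp
      have := Subgroup.orderOf_dvd_natCard _ h
      rwa [hx] at this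
    have hnt : Nontrivial (↥(commutator G) ⧸ (Cfsg.pPrimeCore p G).subgroupOf (commutator G)) := by
      rw [QuotientGroup.nontrivial_iff]
      intro h
      rw [subgroupOf_eq_top] at h
      exact hxO (h hxD)
    refine @IsSimpleGroup.mk _ _ hnt (fun Hbar hHbar => ?_)
    set O' := (Cfsg.pPrimeCore p G).subgroupOf (commutator G) with hO'
    set π := QuotientGroup.mk' O' with hπ
    have hπs : Function.Surjective π := QuotientGroup.mk'_surjective O'
    set M' := Hbar.comap π with hM'
    have hM'n : M'.Normal := hHbar.comap π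
    have hO'M' : O' ≤ M' := by
      have : π.ker ≤ M' := MonoidHom.ker_le_comap π Hbar
      rwa [hπ, QuotientGroup.ker_mk'] at this
    have hHbar_eq : Hbar = M'.map π := (Subgroup.map_comap_eq_self_of_surjective hπs Hbar).symm
    set M := M'.map (commutator G).subtype with hM
    have hMD : M ≤ commutator G := Subgroup.map_subtype_le M'
    have hMsub : M.subgroupOf (commutator G) = M' :=
      Subgroup.comap_map_eq_self_of_injective (commutator G).subtype_injective M'
    have hMconj : ∀ m ∈ M, ∀ d ∈ commutator G, d * m * d⁻¹ ∈ M := by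
      rintro _ ⟨m', hm', rfl⟩ d hd
      exact ⟨⟨d, hd⟩ * m' * ⟨d, hd⟩⁻¹, hM'n.conj_mem m' hm' ⟨d, hd⟩, rfl⟩
    by_cases hpM : p ∣ Nat.card M
    · -- M = G'
      right
      obtain ⟨s, hs⟩ := exists_prime_orderOf_dvd_card' p hpM
      have hs' : orderOf (s : G) = p := by rw [Subgroup.orderOf_coe]; exact hs
      have hs1 : (s : G) ≠ 1 := by
        intro h1
        rw [h1, orderOf_one] at hs'
        exact hp.one_lt.ne hs'
      obtain ⟨d1, hd1, hd1s⟩ :=
        selfCent_exists_conj_mem_of_normal hx hC (commutator G) hxD (s : G) hs'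
      have hne : d1 * (s : G) * d1⁻¹ ≠ 1 := by
        intro h1
        apply hs1
        have : (s : G) = d1⁻¹ * (d1 * (s : G) * d1⁻¹) * d1 := by group
        rw [this, h1]; group
      have hz := selfCent_zpowers_eq hp hx hd1s hne
      have hPM : zpowers x ≤ M := by
        rw [← hz, zpowers_le]
        exact hMconj _ s.2 d1 hd1
      have hcore : x ∈ M.normalCore := by
        intro b
        have hyD : b * x * b⁻¹ ∈ commutator G := hDn.conj_mem x hxD b
        have hyo : orderOf (b * x * b⁻¹) = p := by
          rw [← MulAut.conj_apply, MulEquiv.orderOf_eq, hx]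
        obtain ⟨d2, hd2, hd2y⟩ :=
          selfCent_exists_conj_mem_of_normal hx hC (commutator G) hxD _ hyo
        have := hMconj _ (hPM hd2y) d2⁻¹ (inv_mem hd2)
        have h2 : d2⁻¹ * (d2 * (b * x * b⁻¹) * d2⁻¹) * d2⁻¹⁻¹ = b * x * b⁻¹ := by group
        rwa [h2] at this
      have hle : commutator G ≤ M :=
        (selfCent_commutator_le hx hC M.normalCore hcore).trans M.normalCore_le
      have hM'top : M' = ⊤ := by
        rw [← hMsub, subgroupOf_eq_top]
        exact hle
      rw [hHbar_eq, hM'top]
      exact Subgroup.map_top_of_surjective π hπs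
    · -- M ≤ O
      left
      have hsub : M.IsSubnormal :=
        Subgroup.IsSubnormal.step M (commutator G) hMD hDn.isSubnormal (hMsub ▸ hM'n)
      have hcop : (Nat.card M).Coprime p := ((Nat.Prime.coprime_iff_not_dvd hp).2 hpM).symm
      have hMO : M ≤ Cfsg.pPrimeCore p G := subnormal_coprime_le_pPrimeCore p M hsub hcop
      have hM'O' : M' ≤ O' := by
        rw [← hMsub, hO']
        exact Subgroup.comap_mono hMO
      rw [hHbar_eq, Subgroup.map_eq_bot_iff, hπ, QuotientGroup.ker_mk']
      exact hM'O'
  · intro hteq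
    have he1 : (zpowers x).relIndex (normalizer (zpowers x : Set G)) = 1 := by
      rw [hteq] at hcount
      have : (p - 1) * (zpowers x).relIndex (normalizer (zpowers x : Set G)) = (p - 1) * 1 := by
        rw [hcount, mul_one]
      exact Nat.eq_of_mul_eq_mul_left hp1 this
    have hle : normalizer (zpowers x : Set G) ≤ zpowers x := relIndex_eq_one.1 he1
    obtain ⟨hDp, -⟩ := selfCent_commutator_of_normalizer_le hx hC hle
    apply le_antisymm _ hA
    apply le_pPrimeCore' inferInstance
    exact ((Nat.Prime.coprime_iff_not_dvd hp).2 hDp).symm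

end Cfsg.Agent.S4497
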