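import Cfsg.Statements.S4498
import Cfsg.Agent.Lib.Helper4.BlockRegular
import Cfsg.Agent.Lib.Helper4.BurnsideClass

set_option autoImplicit false
open Cfsg

namespace Cfsg.Agent.S4498

/-- Let p and q be distinct primes dividing the order of the finite group G, and suppose G has no element of order p·q. Fix maximal ideals M_p over p and M_q over q of the algebraic integers. Then the principal p-block and the principal q-block of G have a non-principal irreducible character in common. -/
theorem result {G : Type*} [Group G] [Finite G] (p q : ℕ) [Fact p.Prime] [Fact q.Prime] (hpq : p ≠ q) (hp : p ∣ Nat.card G) (hq : q ∣ Nat.card G) (hno : ∀ g : G, orderOf g ≠ p * q) (Mp Mq : Ideal Cfsg.AlgInt) (hMp : Cfsg.IsPModular p Mp) (hMq : Cfsg.IsPModular q Mq) : ∃ χ : Cfsg.IrrCharacter G, (χ : G → ℂ) ≠ (fun _ => 1) ∧ χ ∈ Cfsg.principalBlock Mp G ∧ χ ∈ Cfsg.principalBlock Mq G := by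
  classical
  open Cfsg.Agent.Lib.Helper4 Cfsg.Agent.Lib.Helper28 in
  have : Fintype G := Fintype.ofFinite G
  have : Fintype (IrrCharacter G) := Fintype.ofFinite _
  have hpP : p.Prime := Fact.out
  have hqP : q.Prime := Fact.out
  have hMpprime : Mp.IsPrime := hMp.2.1.isPrime
  have hMqprime : Mq.IsPrime := hMq.2.1.isPrime
  have hMptop : Mp ≠ ⊤ := Ideal.IsPrime.ne_top hMpprime
  have hMqtop : Mq ≠ ⊤ := Ideal.IsPrime.ne_top hMqprime
  let triv : IrrCharacter G := ⟨fun _ => (1 : ℂ), isIrrCharacter_one⟩
  have hBp : IsPBlock Mp (principalBlock Mp G) := ⟨triv, rfl⟩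
  have hBq : IsPBlock Mq (principalBlock Mq G) := ⟨triv, rfl⟩
  have htp : triv ∈ principalBlock Mp G := sameBlock_refl hMptop _
  have htq : triv ∈ principalBlock Mq G := sameBlock_refl hMqtop _
  obtain ⟨y, hy⟩ := exists_prime_orderOf_dvd_card' (G := G) p hp
  obtain ⟨z, hz⟩ := exists_prime_orderOf_dvd_card' (G := G) q hq
  by_contra hcon
  push Not at hcon
  have honly : ∀ χ : IrrCharacter G, χ ∈ principalBlock Mp G → χ ∈ principalBlock Mq G →
      χ = triv := by
    intro χ h1 h2
    by_contra hne
    exact hcon χ (fun h => hne (Subtype.ext h)) h1 h2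
  -- every element is `p`-regular or `q`-regular
  have hreg : ∀ g : G, ¬ p ∣ orderOf g ∨ ¬ q ∣ orderOf g := by
    intro g
    by_contra h
    push Not at h
    have hcop : Nat.Coprime p q := (Nat.coprime_primes hpP hqP).mpr hpq
    have hdvd : p * q ∣ orderOf g := Nat.Coprime.mul_dvd_of_dvd_of_dvd hcop h.1 h.2
    exact hno _ (orderOf_pow_orderOf_div (orderOf_pos g).ne' hdvd)
  set α : G → ℂ := fun g => ∑ χ : IrrCharacter G, if χ ∈ principalBlock Mp G then
    (χ : G → ℂ) g * (starRingEnd ℂ) ((χ : G → ℂ) y) else 0 with hα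
  set β : G → ℂ := fun g => ∑ ψ : IrrCharacter G, if ψ ∈ principalBlock Mq G then
    (ψ : G → ℂ) g * (starRingEnd ℂ) ((ψ : G → ℂ) z) else 0 with hβ
  have hα0 : ∀ g, ¬ p ∣ orderOf g → α g = 0 := fun g hg =>
    weak_orthogonality_of_memLocalRing hMp _ (fun x => osima hBp x) g y hg (by rw [hy])
  have hβ0 : ∀ g, ¬ q ∣ orderOf g → β g = 0 := fun g hg =>
    weak_orthogonality_of_memLocalRing hMq _ (fun x => osima hBq x) g z hg (by rw [hz])
  have hsum0 : ∑ g, α g * (starRingEnd ℂ) (β g) = 0 := by
    apply Finset.sum_eq_zero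
    intro g _
    rcases hreg g with h | h
    · rw [hα0 g h, zero_mul]
    · rw [hβ0 g h, map_zero, mul_zero]
  -- expand
  have hG0 : (Nat.card G : ℂ) ≠ 0 := Nat.cast_ne_zero.mpr Nat.card_pos.ne'
  have hexp : ∑ g, α g * (starRingEnd ℂ) (β g) = (Nat.card G : ℂ) := by
    have h1 : ∀ g, α g * (starRingEnd ℂ) (β g) = ∑ χ : IrrCharacter G, ∑ ψ : IrrCharacter G,
        (if χ ∈ principalBlock Mp G then (if ψ ∈ principalBlock Mq G then
          ((starRingEnd ℂ) ((χ : G → ℂ) y) * (ψ : G → ℂ) z) *
            ((χ : G → ℂ) g * (starRingEnd ℂ) ((ψ : G → ℂ) g)) else 0) else 0) := by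
      intro g
      simp only [hα, hβ]
      rw [map_sum, Finset.sum_mul_sum]
      refine Finset.sum_congr rfl fun χ _ => Finset.sum_congr rfl fun ψ _ => ?_
      by_cases h1 : χ ∈ principalBlock Mp G
      · by_cases h2 : ψ ∈ principalBlock Mq G
        · rw [if_pos h1, if_pos h2, if_pos h1, if_pos h2, map_mul, Complex.conj_conj]
          ring
        · rw [if_pos h1, if_neg h2, if_pos h1, if_neg h2, map_zero, mul_zero]
      · rw [if_neg h1, if_neg h1, zero_mul]
    simp only [h1]
    rw [Finset.sum_comm]
    have h2 : ∀ χ : IrrCharacter G, ∑ g : G, ∑ ψ : IrrCharacter G,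
        (if χ ∈ principalBlock Mp G then (if ψ ∈ principalBlock Mq G then
          ((starRingEnd ℂ) ((χ : G → ℂ) y) * (ψ : G → ℂ) z) *
            ((χ : G → ℂ) g * (starRingEnd ℂ) ((ψ : G → ℂ) g)) else 0) else 0) =
        if χ = triv then (Nat.card G : ℂ) else 0 := by
      intro χ
      rw [Finset.sum_comm]
      by_cases h1 : χ ∈ principalBlock Mp G
      · simp only [if_pos h1]
        have h3 : ∀ ψ : IrrCharacter G, ∑ g : G, (if ψ ∈ principalBlock Mq G then
            ((starRingEnd ℂ) ((χ : G → ℂ) y) * (ψ : G → ℂ) z) *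
              ((χ : G → ℂ) g * (starRingEnd ℂ) ((ψ : G → ℂ) g)) else 0) =
            if χ = ψ then (if ψ ∈ principalBlock Mq G then
              ((starRingEnd ℂ) ((χ : G → ℂ) y) * (ψ : G → ℂ) z) * (Nat.card G : ℂ) else 0)
              else 0 := by
          intro ψ
          have hin := Cfsg.Agent.Lib.Helper4.classInner_irr χ ψ
          unfold classInner at hin
          have hs : ∑ g : G, (χ : G → ℂ) g * (starRingEnd ℂ) ((ψ : G → ℂ) g) =
              if χ = ψ then (Nat.card G : ℂ) else 0 := by
            by_cases hχψ : χ = ψ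
            · rw [if_pos hχψ] at hin ⊢
              field_simp at hin
              linear_combination hin
            · rw [if_neg hχψ] at hin ⊢
              rcases mul_eq_zero.mp hin with h | h
              · exact absurd h (inv_ne_zero hG0)
              · exact h
          by_cases h2 : ψ ∈ principalBlock Mq G
          · simp only [if_pos h2]
            rw [← Finset.mul_sum, hs]
            by_cases hχψ : χ = ψ
            · rw [if_pos hχψ, if_pos hχψ]
            · rw [if_neg hχψ, if_neg hχψ, mul_zero]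
          · simp only [if_neg h2, Finset.sum_const_zero, ite_self]
        simp only [h3]
        rw [Finset.sum_ite_eq]
        simp only [Finset.mem_univ, if_true]
        by_cases h2 : χ ∈ principalBlock Mq G
        · rw [if_pos h2]
          have := honly χ h1 h2
          rw [if_pos this, this]
          simp [triv]
        · rw [if_neg h2]
          have : χ ≠ triv := fun h => h2 (h ▸ htq)
          rw [if_neg this]
      · simp only [if_neg h1, Finset.sum_const_zero]
        have : χ ≠ triv := fun h => h1 (h ▸ htp)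
        rw [if_neg this]
    simp only [h2]
    rw [Finset.sum_ite_eq']
    simp
  rw [hexp] at hsum0
  exact hG0 hsum0

end Cfsg.Agent.S4498
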