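import Mathlib
import Cfsg.Prelude
import Cfsg.Agent.Lib.Helper7.PConj

set_option autoImplicit false
open Cfsg

namespace Cfsg.Agent.S4506

/-- Let G be a finite group, p a prime, p^a the p-part of the order of G and g′ its p′-part. Call two irreducible characters p-conjugate when one is obtained from the other by applying a field automorphism of ℂ that fixes the g′-th roots of unity, and let r be the number of characters p-conjugate to the irreducible character χ (χ included). Then the exponent of p in r·χ(1) is at most a; and if p^a divides r·χ(1) then p^a already divides χ(1). -/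
theorem result {G : Type*} [Group G] [Finite G] (p : ℕ) (hp : p.Prime) (χ : Cfsg.IrrCharacter G) (r : ℕ) (hr : Nat.card {ψ : Cfsg.IrrCharacter G // ∃ σ : ℂ ≃+* ℂ, σ (Complex.exp (2 * Real.pi * Complex.I / ((Nat.card G / p ^ (Nat.card G).factorization p) : ℕ))) = Complex.exp (2 * Real.pi * Complex.I / ((Nat.card G / p ^ (Nat.card G).factorization p) : ℕ)) ∧ (ψ : G → ℂ) = fun g => σ ((χ : G → ℂ) g)} = r) : (r * Cfsg.charDegree (χ : G → ℂ)).factorization p ≤ (Nat.card G).factorization p ∧ (p ^ (Nat.card G).factorization p ∣ r * Cfsg.charDegree (χ : G → ℂ) → p ^ (Nat.card G).factorization p ∣ Cfsg.charDegree (χ : G → ℂ)) := by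
  classical
  haveI : Fintype G := Fintype.ofFinite G
  haveI : Fintype (Cfsg.IrrCharacter G) := Fintype.ofFinite _
  have hG0 : Nat.card G ≠ 0 := Nat.card_pos.ne'
  have hN0 : (Nat.card G / p ^ (Nat.card G).factorization p) ≠ 0 := by
    have h := Nat.ordProj_mul_ordCompl_eq_self (Nat.card G) p
    intro h0; rw [h0, mul_zero] at h; exact hG0 h.symm
  have hζ := Complex.isPrimitiveRoot_exp _ hN0
  have hmain := Cfsg.Agent.Lib.Helper7.PConj.main p hp χ _ hζ
    (Finset.univ.filter (fun ψ : Cfsg.IrrCharacter G => ∃ σ : ℂ ≃+* ℂ,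
      σ (Complex.exp (2 * Real.pi * Complex.I /
        ((Nat.card G / p ^ (Nat.card G).factorization p) : ℕ))) =
        Complex.exp (2 * Real.pi * Complex.I /
          ((Nat.card G / p ^ (Nat.card G).factorization p) : ℕ)) ∧
      (ψ : G → ℂ) = fun g => σ ((χ : G → ℂ) g)))
    (by
      rw [Finset.mem_filter]
      exact ⟨Finset.mem_univ _, RingEquiv.refl ℂ, rfl, rfl⟩)
    (by
      intro ψ hψ
      exact (Finset.mem_filter.mp hψ).2)
  rw [← hr, Nat.card_eq_fintype_card, Fintype.card_subtype]
  exact hmain


end Cfsg.Agent.S4506
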