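import Mathlib
import Cfsg.Prelude
import Cfsg.Statements.S4508
import Cfsg.Agent.Lib.Helper7.KJD
import Cfsg.Agent.Lib.Helper7.KJE
import Cfsg.Agent.Lib.Helper7.KJG

set_option autoImplicit false
open Cfsg

namespace Cfsg.Agent.S4508

/-- Let the finite group G contain an element x of prime order p with C_G(x) = ⟨x⟩, and let t be the number of conjugacy classes of elements of order p. If G has an irreducible character of degree p − 1, then t is even or the commutator subgroup has even index. -/
theorem result {G : Type*} [Group G] [Finite G] (p : ℕ) (hp : p.Prime) (x : G) (hx : orderOf x = p) (hC : Subgroup.centralizer ({x} : Set G) = Subgroup.zpowers x) (t : ℕ) (ht : Nat.card {C : ConjClasses G // ∃ g ∈ C.carrier, orderOf g = p} = t) (χ : Cfsg.IrrCharacter G) (hχ : Cfsg.charDegree (χ : G → ℂ) + 1 = p) : Even t ∨ Even (commutator G).index := by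
  classical
  haveI : Fact p.Prime := ⟨hp⟩
  by_contra hcon
  push_neg at hcon
  obtain ⟨ht1, hidx⟩ := hcon
  rw [Nat.not_even_iff_odd] at ht1 hidx
  by_cases hp2 : p = 2
  · -- p = 2: normal 2-complement
    subst hp2
    obtain ⟨P, hP⟩ := Cfsg.Agent.Lib.Helper11.selfCent_exists_sylow hx hC
    have hcardP : Nat.card (P : Subgroup G) = 2 := by rw [hP, Nat.card_zpowers, hx]
    have hmin : (Nat.card G).minFac = 2 := by
      rw [Nat.minFac_eq_two_iff]
      rw [← hx]
      exact orderOf_dvd_natCard x
    have hcyc : IsCyclic (P : Subgroup G) := isCyclic_of_prime_card hcardP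
    have hcomp := IsCyclic.isComplement' hmin hcyc
    have hKidx := hcomp.symm.index_eq_card
    have hsup := hcomp.sup_eq_top
    have hle : commutator G ≤
        (MonoidHom.transferSylow P (hcyc.normalizer_le_centralizer hmin)).ker :=
      Subgroup.Normal.commutator_le_of_self_sup_commutative_eq_top hsup inferInstance
    have hdvd := Subgroup.index_dvd_of_le hle
    have h2 : 2 ∣ (commutator G).index := by
      rw [← hcardP, ← hKidx]
      exact hdvd
    exact (Nat.not_even_iff_odd.mpr hidx) (even_iff_two_dvd.mpr h2)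
  · haveI : Fintype G := Fintype.ofFinite G
    haveI : Fintype (IrrCharacter G) := Fintype.ofFinite _
    obtain ⟨s, L', w, hs, hw, hxw, hL', hq⟩ :=
      Cfsg.Agent.Lib.Helper7.KJ.exists_w x hx hC hp2 (by rw [ht]; exact ht1)
    obtain ⟨n, ρ, hirr, hρ⟩ := χ.2
    have hdeg : Cfsg.charDegree (χ : G → ℂ) = n := by
      unfold Cfsg.charDegree
      rw [← hρ, Representation.char_one, Module.finrank_fin_fun, Complex.natCast_re,
        Nat.floor_natCast]
    have hdim : Module.finrank ℂ (Fin n → ℂ) + 1 = p := by
      rw [Module.finrank_fin_fun, ← hdeg, hχ]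
    have hs1 : s ≠ 1 := by
      intro h
      rw [h, orderOf_one] at hs
      obtain ⟨k, hk⟩ := hL'
      omega
    have hR := Cfsg.Agent.Lib.Helper7.KJ.two_le_card_Rset x w s hs1 hxw
    have hm := Cfsg.Agent.Lib.Helper7.KJ.mult_eq_one x hx hC χ ρ hρ hdim hR
    have hdet := Cfsg.Agent.Lib.Helper7.KJ.det_eq ρ x w hm hdim s L' hs hw hxw
    rw [Odd.neg_one_pow hL', Odd.neg_one_pow hq] at hdet
    let d : G →* ℂˣ := ((LinearMap.det : ((Fin n → ℂ) →ₗ[ℂ] (Fin n → ℂ)) →* ℂ).comp ρ).toHomUnits
    have hker : commutator G ≤ d.ker := Abelianization.commutator_subset_ker d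
    have hmem : w ^ (commutator G).index ∈ commutator G := Subgroup.pow_index_mem _ w
    have h1 : d (w ^ (commutator G).index) = 1 := hker hmem
    rw [map_pow] at h1
    have h2 : ((d w : ℂˣ) : ℂ) = -1 := hdet
    have h3 : ((-1 : ℂ)) ^ (commutator G).index = 1 := by
      rw [← h2, ← Units.val_pow_eq_pow_val, h1, Units.val_one]
    rw [Odd.neg_one_pow hidx] at h3
    norm_num at h3


end Cfsg.Agent.S4508
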