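import Mathlib
import Cfsg.Prelude
import Cfsg.Statements.S4509
import Cfsg.Agent.S4497
import Cfsg.Agent.Lib.Helper7.KKD

set_option autoImplicit false
open Cfsg

namespace Cfsg.Agent.S4509

/-- Let the finite group G contain an element x of prime order p with C_G(x) = ⟨x⟩; let t be the number of conjugacy classes of elements of order p and 1 + n·p the number of subgroups of order p. Then G has a normal subgroup of order 1 + n·p if and only if either t = p − 1, or t < p − 1 and G″ ≠ G′. Moreover, if t = p − 1 then G′ has order 1 + n·p and G/G′ is cyclic of order p; and if t < p − 1 and G″ ≠ G′ then G″ has order 1 + n·p and G′ has order p·(1 + n·p). -/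
theorem result {G : Type*} [Group G] [Finite G] (p : ℕ) (hp : p.Prime) (x : G) (hx : orderOf x = p) (hC : Subgroup.centralizer ({x} : Set G) = Subgroup.zpowers x) (t : ℕ) (ht : Nat.card {C : ConjClasses G // ∃ g ∈ C.carrier, orderOf g = p} = t) (n : ℕ) (hn : Nat.card {H : Subgroup G // Nat.card H = p} = 1 + n * p) : ((∃ S : Subgroup G, S.Normal ∧ Nat.card S = 1 + n * p) ↔ (t = p - 1 ∨ (t < p - 1 ∧ derivedSeries G 2 ≠ derivedSeries G 1))) ∧ (t = p - 1 → Nat.card (commutator G) = 1 + n * p ∧ IsCyclic (G ⧸ commutator G) ∧ (commutator G).index = p) ∧ (t < p - 1 → derivedSeries G 2 ≠ derivedSeries G 1 → Nat.card (derivedSeries G 2) = 1 + n * p ∧ Nat.card (commutator G) = p * (1 + n * p)) := by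
  classical
  haveI : Fact p.Prime := ⟨hp⟩
  have hm := Cfsg.Agent.Lib.Helper7.KK.card_subgroups_eq_index hx hC
  rw [hn] at hm
  have hte := Cfsg.Agent.Lib.Helper11.selfCent_card_classes hp hx hC
  rw [ht] at hte
  obtain ⟨hKG, hsimp, heq⟩ := Cfsg.Agent.S4497.result p hp x hx hC t ht
  haveI hKn : (pPrimeCore p G).Normal := (Cfsg.Agent.Lib.Helper20.pPrimeCore_mem' p).1
  haveI hKn' : ((pPrimeCore p G).subgroupOf (commutator G)).Normal := inferInstance
  have hmp : ¬ p ∣ (Subgroup.normalizer (Subgroup.zpowers x : Set G)).index := by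
    rw [← hm]
    intro h
    have h1 : p ∣ 1 := (Nat.dvd_add_left (dvd_mul_left p n)).mp h
    exact hp.one_lt.ne' (Nat.dvd_one.mp h1)
  have hp1 : 1 ≤ p - 1 := by have := hp.two_le; omega
  have htle : t ≤ p - 1 := Nat.le_of_dvd (by omega) ⟨_, hte.symm⟩
  have he1 : t = p - 1 →
      (Subgroup.zpowers x).relIndex (Subgroup.normalizer (Subgroup.zpowers x : Set G)) = 1 := by
    intro h
    rw [h] at hte
    have h0 : 0 < p - 1 := by omega
    have h2 : (p - 1) * (Subgroup.zpowers x).relIndex
        (Subgroup.normalizer (Subgroup.zpowers x : Set G)) = (p - 1) * 1 := by rw [hte, mul_one]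
    exact Nat.eq_of_mul_eq_mul_left h0 h2
  have hcase1 : t = p - 1 → Nat.card (pPrimeCore p G) =
      (Subgroup.normalizer (Subgroup.zpowers x : Set G)).index := fun h =>
    Cfsg.Agent.Lib.Helper7.KK.case_one hx hC (he1 h)
  have hcase2 : t < p - 1 → IsSimpleGroup (Cfsg.Agent.Lib.Helper7.KK.Quo G p) :=
    fun h => hsimp (by omega) hKn'
  refine ⟨⟨?_, ?_⟩, ?_, ?_⟩
  · rintro ⟨S, hSn, hScard⟩
    by_cases h : t = p - 1
    · left; exact h
    · right
      have hlt : t < p - 1 := lt_of_le_of_ne htle h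
      refine ⟨hlt, ?_⟩
      haveI := hcase2 hlt
      have hScop : (Nat.card S).Coprime p := by
        rw [hScard, hm]
        exact ((Nat.Prime.coprime_iff_not_dvd hp).mpr hmp).symm
      have hSle : S ≤ pPrimeCore p G := Cfsg.Agent.Lib.Helper20.le_pPrimeCore' hSn hScop
      have h1 := Subgroup.card_dvd_of_le hSle
      have h2 := Cfsg.Agent.Lib.Helper7.KK.card_core_dvd hx hC
      have hKm : Nat.card (pPrimeCore p G) =
          (Subgroup.normalizer (Subgroup.zpowers x : Set G)).index :=
        Nat.dvd_antisymm h2 (by rw [← hm, ← hScard]; exact h1)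
      exact Cfsg.Agent.Lib.Helper7.KK.ne_of_card_core hx hC hKG hKm
  · rintro (h | ⟨hlt, hne⟩)
    · exact ⟨pPrimeCore p G, hKn, by rw [hcase1 h, hm]⟩
    · haveI := hcase2 hlt
      obtain ⟨-, -, h3⟩ := Cfsg.Agent.Lib.Helper7.KK.case_two_of_ne hx hC hKG hne hmp
      exact ⟨pPrimeCore p G, hKn, by rw [h3, hm]⟩
  · intro h
    have hG' : commutator G = pPrimeCore p G := heq h
    have hcard : Nat.card (commutator G) = 1 + n * p := by rw [hG', hcase1 h, hm]
    have hidx : (commutator G).index = p := by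
      have h1 := Subgroup.card_mul_index (commutator G)
      have h2 := Cfsg.Agent.Lib.Helper7.KK.card_eq hx (G := G)
      rw [he1 h, mul_one, ← hm] at h2
      rw [hcard, h2] at h1
      have h0 : 0 < 1 + n * p := by omega
      exact Nat.eq_of_mul_eq_mul_left h0 h1
    refine ⟨hcard, ?_, hidx⟩
    exact isCyclic_of_prime_card (p := p) (by rw [← Subgroup.index_eq_card, hidx])
  · intro hlt hne
    haveI := hcase2 hlt
    obtain ⟨h1, h2, h3⟩ := Cfsg.Agent.Lib.Helper7.KK.case_two_of_ne hx hC hKG hne hmp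
    exact ⟨by rw [h1, h3, hm], by rw [h2, h3, hm]⟩


end Cfsg.Agent.S4509
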