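import Cfsg.Statements.S4510
import Cfsg.Agent.Lib.Helper28.BlockCountB

set_option autoImplicit false
open Cfsg

namespace Cfsg.Agent.S4510

open Cfsg.Agent.Lib.Helper28 in
/-- Let G be a finite group, p a prime, M a maximal ideal of the algebraic integers containing p, and call the defect of a conjugacy class the exponent of p in the order of the centralizer of its elements. Two irreducible characters lying in p-blocks of defect exactly d lie in the same block if and only if their central characters (class size times χ(x)/χ(1)) agree modulo the local ideal at M at every p-regular element x whose class has defect exactly d. -/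
theorem result {G : Type*} [Group G] [Finite G] (p : ℕ) [Fact p.Prime] (M : Ideal Cfsg.AlgInt) (hM : Cfsg.IsPModular p M) (d : ℕ) (χ ψ : Cfsg.IrrCharacter G) (hχ : Cfsg.blockDefect p (Cfsg.blockOf M (χ : G → ℂ)) = d) (hψ : Cfsg.blockDefect p (Cfsg.blockOf M (ψ : G → ℂ)) = d) : Cfsg.SameBlock M (χ : G → ℂ) (ψ : G → ℂ) ↔ ∀ x : G, ¬ p ∣ orderOf x → (Nat.card (Subgroup.centralizer ({x} : Set G))).factorization p = d → Cfsg.MemLocalIdeal M (Cfsg.centralChar (χ : G → ℂ) x - Cfsg.centralChar (ψ : G → ℂ) x) := by
  classical
  have : Fintype G := Fintype.ofFinite G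
  have : Fintype (ConjClasses G) := Fintype.ofFinite _
  have hprime : M.IsPrime := hM.2.1.isPrime
  have hMtop : M ≠ ⊤ := hM.2.1.ne_top
  constructor
  · intro h x _ _
    exact h x
  · intro h
    let B : Set (IrrCharacter G) := blockOf M (χ : G → ℂ)
    let B' : Set (IrrCharacter G) := blockOf M (ψ : G → ℂ)
    have hB : IsPBlock M B := ⟨χ, rfl⟩
    have hB' : IsPBlock M B' := ⟨ψ, rfl⟩
    have hχB : χ ∈ B := sameBlock_refl hMtop _
    have hψB' : ψ ∈ B' := sameBlock_refl hMtop _
    obtain ⟨P, hPdef⟩ : ∃ P : G → Prop, P = fun g => ¬ p ∣ orderOf g ∧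
      (Nat.card (Subgroup.centralizer ({g} : Set G))).factorization p = d := ⟨_, rfl⟩
    have hPiff : ∀ g, P g ↔ (¬ p ∣ orderOf g ∧
      (Nat.card (Subgroup.centralizer ({g} : Set G))).factorization p = d) := by
      intro g; rw [hPdef]
    have hcase : ∀ x : G, ¬ P x → p ∣ orderOf x ∨
        (Nat.card (Subgroup.centralizer ({x} : Set G))).factorization p < d ∨
        d < (Nat.card (Subgroup.centralizer ({x} : Set G))).factorization p := by
      intro x hx
      by_cases hreg : p ∣ orderOf x
      · exact Or.inl hreg
      · right
        have : ¬ (Nat.card (Subgroup.centralizer ({x} : Set G))).factorization p = d :=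
          fun h => hx ((hPiff x).mpr ⟨hreg, h⟩)
        omega
    have h1 := omegaF_blockCoeff_trunc (M := M) B χ P (by
      intro x hx
      apply blockCoeff_mul_centralChar_memLocalIdeal hM hB hB hχB x
      rw [hχ]
      exact hcase x hx)
    have h2 := omegaF_blockCoeff_trunc (M := M) B ψ P (by
      intro x hx
      apply blockCoeff_mul_centralChar_memLocalIdeal hM hB' hB hψB' x
      rw [hψ, hχ]
      exact hcase x hx)
    rw [if_pos hχB] at h1
    by_contra hns
    have hψB : ψ ∉ B := hns
    rw [if_neg hψB] at h2
    have h3 : MemLocalIdeal M (∑ C : ConjClasses G, if P (Quotient.out C) then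
        blockCoeff B (Quotient.out C) * (centralChar (χ : G → ℂ) (Quotient.out C) -
          centralChar (ψ : G → ℂ) (Quotient.out C)) else 0) := by
      apply memLocalIdeal_sum
      intro C _
      split_ifs with hC
      · exact memLocalIdeal_mul_left (osima hB _)
          (h _ ((hPiff _).mp hC).1 ((hPiff _).mp hC).2)
      · exact memLocalIdeal_zero hMtop
    have h4 := memLocalIdeal_add (memLocalIdeal_sub h1 h2) h3
    have h5 : ((1 : ℂ) - ∑ C : ConjClasses G, (if P (Quotient.out C) then
        blockCoeff B (Quotient.out C) * centralChar (χ : G → ℂ) (Quotient.out C) else 0)) -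
        (0 - ∑ C : ConjClasses G, (if P (Quotient.out C) then
        blockCoeff B (Quotient.out C) * centralChar (ψ : G → ℂ) (Quotient.out C) else 0)) +
        ∑ C : ConjClasses G, (if P (Quotient.out C) then
        blockCoeff B (Quotient.out C) * (centralChar (χ : G → ℂ) (Quotient.out C) -
          centralChar (ψ : G → ℂ) (Quotient.out C)) else 0) =
        1 := by
      have : ∀ C : ConjClasses G, (if P (Quotient.out C) then
        blockCoeff B (Quotient.out C) * (centralChar (χ : G → ℂ) (Quotient.out C) -
          centralChar (ψ : G → ℂ) (Quotient.out C)) else 0) =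
          (if P (Quotient.out C) then
        blockCoeff B (Quotient.out C) * centralChar (χ : G → ℂ) (Quotient.out C) else 0) -
        (if P (Quotient.out C) then
        blockCoeff B (Quotient.out C) * centralChar (ψ : G → ℂ) (Quotient.out C) else 0) := by
        intro C
        split_ifs
        · ring
        · ring
      simp only [this, Finset.sum_sub_distrib]
      ring
    rw [h5] at h4
    exact not_memLocalIdeal_one hMtop h4

end Cfsg.Agent.S4510
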