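import Cfsg.Statements.S4518
import Cfsg.Agent.Lib.Helper7.CliffordCorr
import Cfsg.Agent.Lib.Helper4.GaloisConj
import Cfsg.Agent.S0169

set_option autoImplicit false
open Cfsg

namespace Cfsg.Agent.S4518

open Cfsg.Agent.Lib.Helper26
open scoped ComplexConjugate

section

variable {G : Type*} [Group G] [Fintype G] (N : Subgroup G) [hN : N.Normal]

omit [Fintype G] in
theorem conjFunN_conjFunN (θ : N → ℂ) (a b : G) :
    conjFunN N (conjFunN N θ a) b = conjFunN N θ (a * b) := by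
  funext n
  unfold conjFunN
  congr 1
  apply Subtype.ext
  show a * (b * (n : G) * b⁻¹) * a⁻¹ = a * b * (n : G) * (a * b)⁻¹
  group

omit [Fintype G] in
theorem conjFunN_pow (θ : N → ℂ) (g : G) (k : ℕ) :
    (fun n : N => conjFunN N θ g (n ^ k)) = conjFunN N (fun n : N => θ (n ^ k)) g := by
  funext n
  unfold conjFunN
  congr 1
  apply Subtype.ext
  show g * ((n ^ k : N) : G) * g⁻¹ = ((⟨g * (n : G) * g⁻¹, hN.conj_mem n n.2 g⟩ : N) ^ k : N)
  rw [Subgroup.coe_pow, Subgroup.coe_pow]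
  exact (conj_pow (a := g) (b := (n : G)) (i := k)).symm

end

/-- Let N be a normal subgroup of the finite group G whose index is not divisible by the prime p, and let k be coprime to the order of G with k ^ (p ^ e) ≡ 1 modulo the order of G for some e (so g ↦ g ^ k induces a field automorphism of p-power order on character values). If an irreducible character χ of G satisfies χ (g ^ k) = χ g for all g, then every irreducible constituent θ of the restriction of χ to N satisfies θ (n ^ k) = θ n for all n. -/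
theorem result {G : Type*} [Group G] [Fintype G] (p : ℕ) [Fact p.Prime] (N : Subgroup G) [N.Normal] [Fintype N] (hidx : ¬ p ∣ N.index) (k e : ℕ) (hk : Nat.Coprime k (Nat.card G)) (hke : k ^ (p ^ e) ≡ 1 [MOD Nat.card G]) (χ : Cfsg.IrrCharacter G) (hχ : ∀ g : G, (χ : G → ℂ) (g ^ k) = (χ : G → ℂ) g) (θ : Cfsg.IrrCharacter N) (hθ : Cfsg.classInner (fun n : N => (χ : G → ℂ) n) (θ : N → ℂ) ≠ 0) : ∀ n : N, (θ : N → ℂ) (n ^ k) = (θ : N → ℂ) n := by
  classical
  have hp : p.Prime := Fact.out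
  have hkN : k.Coprime (Nat.card N) :=
    Nat.Coprime.coprime_dvd_right (Subgroup.card_subgroup_dvd_card N) hk
  -- powers k^(p^e) act trivially
  have hpowN : ∀ n : N, n ^ (k ^ (p ^ e)) = n := by
    intro n
    have h1 : orderOf n ∣ Nat.card G :=
      dvd_trans (orderOf_dvd_natCard n) (Subgroup.card_subgroup_dvd_card N)
    have h2 : k ^ (p ^ e) ≡ 1 [MOD orderOf n] := hke.of_dvd h1
    calc n ^ (k ^ (p ^ e)) = n ^ 1 := (pow_eq_pow_iff_modEq.mpr h2)
      _ = n := pow_one n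
  -- σθ is a constituent
  set σθ : N → ℂ := fun n => (θ : N → ℂ) (n ^ k) with hσθ
  have hσirr : IsIrrCharacter N σθ :=
    Cfsg.Agent.Lib.Helper4.isIrrCharacter_pow (θ : N → ℂ) θ.2 k hkN
  have hresσ : (fun n : N => ((χ : G → ℂ) ∘ N.subtype) (n ^ k)) = (χ : G → ℂ) ∘ N.subtype := by
    funext n
    show (χ : G → ℂ) ((n ^ k : N) : G) = (χ : G → ℂ) (n : G)
    rw [Subgroup.coe_pow]
    exact hχ (n : G)
  have hσconst : classInner ((χ : G → ℂ) ∘ N.subtype) σθ ≠ 0 := by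
    have h1 := Cfsg.Agent.Lib.Helper4.classInner_pow_pow ((χ : G → ℂ) ∘ N.subtype)
      (θ : N → ℂ) k hkN
    rw [hresσ] at h1
    rw [hσθ, h1]
    exact hθ
  obtain ⟨g₀, hg₀⟩ : ∃ g₀ : G, σθ = conjFunN N (θ : N → ℂ) g₀ := by
    by_contra hcon
    push Not at hcon
    exact hσconst (classInner_restrict_eq_zero N χ.2 θ.2 hσirr hθ hcon)
  -- the orbit
  set Ω : Finset (N → ℂ) := Finset.univ.image (conjFunN N (θ : N → ℂ)) with hΩ
  have hΩcard : Ω.card = (Cfsg.Agent.S0169.inertia N (θ : N → ℂ)).index :=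
    Cfsg.Agent.Lib.Helper7.card_conj_image N (θ : N → ℂ) _ (fun g => Iff.rfl)
  have hle : N ≤ Cfsg.Agent.S0169.inertia N (θ : N → ℂ) :=
    Cfsg.Agent.S0169.le_inertia N (θ : N → ℂ) (isClassFunction_of_isIrrCharacter θ.2)
  have hpΩ : ¬ p ∣ Ω.card := by
    rw [hΩcard]
    intro h
    exact hidx (dvd_trans h (Subgroup.index_dvd_of_le hle))
  -- σ acts on Ω
  have hσΩ : ∀ ψ : N → ℂ, ψ ∈ Ω → (fun n : N => ψ (n ^ k)) ∈ Ω := by
    intro ψ hψ
    obtain ⟨g, -, rfl⟩ := Finset.mem_image.mp hψ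
    rw [conjFunN_pow N (θ : N → ℂ) g k]
    change conjFunN N σθ g ∈ Ω
    rw [hg₀, conjFunN_conjFunN]
    exact Finset.mem_image.mpr ⟨g₀ * g, Finset.mem_univ _, rfl⟩
  let f : Function.End {ψ : N → ℂ // ψ ∈ Ω} := fun ψ => ⟨fun n => ψ.1 (n ^ k), hσΩ ψ.1 ψ.2⟩
  have hfpow : ∀ (j : ℕ) (ψ : {ψ : N → ℂ // ψ ∈ Ω}),
      ((f ^ j) ψ).1 = fun n : N => ψ.1 (n ^ (k ^ j)) := by
    intro j
    induction j with
    | zero =>
      intro ψ
      funext n
      show ψ.1 n = ψ.1 (n ^ (k ^ 0))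
      rw [pow_zero, pow_one]
    | succ j ih =>
      intro ψ
      rw [pow_succ]
      show ((f ^ j) (f ψ)).1 = _
      rw [ih (f ψ)]
      funext n
      show ψ.1 ((n ^ (k ^ j)) ^ k) = ψ.1 (n ^ (k ^ (j + 1)))
      rw [← pow_mul, ← pow_succ]
  have hf : f ^ p ^ e = 1 := by
    funext ψ
    apply Subtype.ext
    rw [hfpow]
    funext n
    show ψ.1 (n ^ (k ^ (p ^ e))) = ψ.1 n
    rw [hpowN]
  have hmod := Equiv.Perm.card_fixedPoints_modEq (p := p) (n := e) hf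
  have hcardΩ : Fintype.card {ψ : N → ℂ // ψ ∈ Ω} = Ω.card := Fintype.card_coe Ω
  have hfix : 0 < Fintype.card (Function.fixedPoints f) := by
    rcases Nat.eq_zero_or_pos (Fintype.card (Function.fixedPoints f)) with h0 | h0
    · exfalso
      rw [h0, hcardΩ] at hmod
      exact hpΩ ((Nat.modEq_zero_iff_dvd).mp hmod)
    · exact h0
  obtain ⟨⟨ψ₀, hψ₀⟩⟩ := Fintype.card_pos_iff.mp hfix
  obtain ⟨g₁, -, hg₁⟩ := Finset.mem_image.mp ψ₀.2
  have hψ₀' : (fun n : N => ψ₀.1 (n ^ k)) = ψ₀.1 := congrArg Subtype.val hψ₀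
  -- θ = conj of ψ₀ by g₁⁻¹
  have hθψ : (θ : N → ℂ) = conjFunN N ψ₀.1 g₁⁻¹ := by
    rw [← hg₁, conjFunN_conjFunN, mul_inv_cancel]
    funext n
    unfold conjFunN
    refine congrArg (θ : N → ℂ) (Subtype.ext ?_)
    show (n : G) = 1 * (n : G) * 1⁻¹
    group
  intro n
  have h1 : (fun n : N => (θ : N → ℂ) (n ^ k)) = (θ : N → ℂ) := by
    conv_lhs => rw [hθψ]
    rw [conjFunN_pow N ψ₀.1 g₁⁻¹ k, hψ₀', ← hθψ]
  exact congrFun h1 n

end Cfsg.Agent.S4518
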