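import Cfsg.Statements.S4549
import Cfsg.Agent.Lib.Helper2.TateBlockD
import Cfsg.Agent.Lib.Helper28.PrimeCoreB
import Cfsg.Agent.Lib.Helper28.BlockDefectE

set_option autoImplicit false
open Cfsg

namespace Cfsg.Agent.S4549

/-- Let G be a finite group and M a maximal ideal of the algebraic integers containing 2. Let k be a natural number with g ^ k = g ^ 3 for every 2-element g and g ^ k = g for every element g of odd order (such k exist); an irreducible character χ is unchanged by g ↦ g ^ k exactly when it is fixed by the field automorphism that cubes the 2-power roots of unity and fixes the roots of unity of odd order. Then G has a normal 2-complement if and only if every member χ of the principal 2-block of odd degree with χ (g ^ k) = χ g for all g has degree one. -/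
theorem result {G : Type*} [Group G] [Finite G] (M : Ideal Cfsg.AlgInt) (hM : Cfsg.IsPModular 2 M) (k : ℕ) (hk₁ : ∀ g : G, (∃ j : ℕ, orderOf g = 2 ^ j) → g ^ k = g ^ 3) (hk₂ : ∀ g : G, Odd (orderOf g) → g ^ k = g) : Cfsg.HasNormalPComplement 2 G ↔ ∀ χ ∈ Cfsg.principalBlock M G, Odd (Cfsg.charDegree (χ : G → ℂ)) → (∀ g : G, (χ : G → ℂ) (g ^ k) = (χ : G → ℂ) g) → Cfsg.charDegree (χ : G → ℂ) = 1 := by
  classical
  have : Fintype G := Fintype.ofFinite G
  haveI : Fact (Nat.Prime 2) := ⟨Nat.prime_two⟩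
  have hprime : M.IsPrime := hM.2.1.isPrime
  have hMtop : M ≠ ⊤ := hM.2.1.ne_top
  constructor
  · intro hnpc χ hχ hodd _
    obtain ⟨K, hKn, hKc, j, hj⟩ := Cfsg.Agent.Lib.Helper13.npc_iff.mp hnpc
    haveI := hKn
    have : Fintype (G ⧸ K) := Fintype.ofFinite _
    obtain ⟨ψ, hψB, hψχ⟩ := (Cfsg.Agent.Lib.Helper28.bijOn_inflIrrQ hM K hKc).surjOn hχ
    have hdeg : Cfsg.charDegree (χ : G → ℂ) = Cfsg.charDegree (ψ : G ⧸ K → ℂ) := by
      rw [← hψχ]
      unfold Cfsg.charDegree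
      rw [Cfsg.Agent.Lib.Helper28.inflIrrQ_apply]
      rfl
    obtain ⟨-, -, hdvd⟩ := Cfsg.Agent.Lib.Helper28.irr_degree_nat ψ.2
    rw [← Subgroup.index_eq_card, hj] at hdvd
    obtain ⟨i, -, hi⟩ := (Nat.dvd_prime_pow Nat.prime_two).mp hdvd
    rw [hdeg, hi] at hodd
    rw [hdeg, hi]
    cases i with
    | zero => rfl
    | succ i =>
      exfalso
      have hev : Even (2 ^ (i + 1)) := ⟨2 ^ i, by ring⟩
      exact (Nat.not_even_iff_odd.mpr hodd) hev
  · intro hyp
    by_cases h2 : 2 ∣ Nat.card G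
    swap
    · apply Cfsg.Agent.Lib.Helper13.npc_iff.mpr
      exact Cfsg.Agent.Lib.Helper13.NPC.of_coprime
        ((Nat.Prime.coprime_iff_not_dvd Nat.prime_two).mpr h2).symm
    have hk : k.Coprime (Nat.card G) :=
      Cfsg.Agent.Lib.Helper2.TateBlock.coprime_of_pow_conditions hk₁ hk₂
    obtain ⟨P⟩ : Nonempty (Sylow 2 G) := inferInstance
    apply Cfsg.Agent.Lib.Helper2.TateBlock.hasNormalPComplement_of_residual_inf_le P
    apply Cfsg.Agent.Lib.Helper2.TateBlock.residual_inf_sylow_le_frattini_two P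
    intro φ hφ2
    obtain ⟨η, hηdef⟩ : ∃ η : Cfsg.IrrCharacter ↥(P : Subgroup G),
        η = Cfsg.Agent.Lib.Helper2.Kaz.linIrr φ := ⟨_, rfl⟩
    have hηapp : ∀ t : ↥(P : Subgroup G), (η : ↥(P : Subgroup G) → ℂ) t = ((φ t : ℂˣ) : ℂ) := by
      intro t
      rw [hηdef]
      rfl
    have hη1 : (η : ↥(P : Subgroup G) → ℂ) 1 = 1 := by
      rw [hηapp, map_one]
      rfl
    have hηk : ∀ t : ↥(P : Subgroup G),
        (η : ↥(P : Subgroup G) → ℂ) (t ^ k) = (η : ↥(P : Subgroup G) → ℂ) t := by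
      intro t
      have hord : ∃ j : ℕ, orderOf (t : G) = 2 ^ j := by
        obtain ⟨m, hm⟩ := P.2 t
        have hm' : (t : G) ^ 2 ^ m = 1 := by
          have := congrArg Subtype.val hm
          simpa using this
        obtain ⟨j, -, hj⟩ := (Nat.dvd_prime_pow Nat.prime_two).mp
          (orderOf_dvd_of_pow_eq_one hm')
        exact ⟨j, hj⟩
      have ht : (t : G) ^ k = (t : G) ^ 3 := hk₁ (t : G) hord
      have ht' : t ^ k = t ^ 3 := Subtype.ext (by simpa using ht)
      rw [ht', hηapp, hηapp, map_pow]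
      congr 1
      calc φ t ^ 3 = φ t ^ 2 * φ t := pow_succ _ 2
        _ = φ t := by rw [hφ2 t, one_mul]
    obtain ⟨τ, hτdef⟩ : ∃ τ : Equiv.Perm (Cfsg.IrrCharacter G),
        τ = Cfsg.Agent.Lib.Helper2.TateBlock.twistPerm k hk := ⟨_, rfl⟩
    have hτ : τ ^ 2 ^ (Nat.card G).factorization 2 = 1 := by
      apply Equiv.ext
      intro χ
      apply Subtype.ext
      funext g
      rw [hτdef, Cfsg.Agent.Lib.Helper2.TateBlock.twistPerm_pow_apply,
        Cfsg.Agent.Lib.Helper2.TateBlock.pow_pow_eq_self hk₁ hk₂ g]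
      rfl
    have hinv : ∀ χ : Cfsg.IrrCharacter G,
        Cfsg.Agent.Lib.Helper2.TateBlock.term 2 (P : Subgroup G)
          (η : ↥(P : Subgroup G) → ℂ) (τ χ) =
        Cfsg.Agent.Lib.Helper2.TateBlock.term 2 (P : Subgroup G)
          (η : ↥(P : Subgroup G) → ℂ) χ := by
      intro χ
      rw [hτdef, Cfsg.Agent.Lib.Helper2.TateBlock.twistPerm_apply]
      exact Cfsg.Agent.Lib.Helper2.TateBlock.term_twist 2 (P : Subgroup G) _ hk hηk χ
    obtain ⟨χ, hfix, hχB, hχd, hχne⟩ :=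
      Cfsg.Agent.Lib.Helper2.TateBlock.exists_fixed_over_linear hM P η hη1 τ hτ hinv
    have hfix' : ∀ g : G, (χ : G → ℂ) (g ^ k) = (χ : G → ℂ) g := by
      intro g
      have h := congrArg (fun ψ : Cfsg.IrrCharacter G => (ψ : G → ℂ) g) hfix
      rw [hτdef] at h
      exact h
    have hoddχ : Odd (Cfsg.charDegree (χ : G → ℂ)) :=
      Nat.not_even_iff_odd.mp (fun he => hχd (even_iff_two_dvd.mp he))
    have hχ1 : Cfsg.charDegree (χ : G → ℂ) = 1 := hyp χ hχB hoddχ hfix'
    have hχone : (χ : G → ℂ) 1 = 1 := by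
      rw [Cfsg.Agent.Lib.Helper4.irr_one_eq_charDegree χ, hχ1]
      simp
    obtain ⟨ψ, hψ⟩ := Cfsg.Agent.Lib.Helper24.exists_hom_of_isCharacter
      (Cfsg.Agent.Lib.Helper26.isCharacter_of_isIrrCharacter χ.2) hχone
    refine ⟨ψ, Cfsg.Agent.Lib.Helper2.TateBlock.eq_on_of_classInner_ne_zero
      (P : Subgroup G) φ ψ ?_⟩
    rw [← hψ]
    have hηfun : (η : ↥(P : Subgroup G) → ℂ) = fun h => ((φ h : ℂˣ) : ℂ) := funext hηapp
    rw [← hηfun]
    exact hχne

end Cfsg.Agent.S4549
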