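import Cfsg.Statements.S4558
import Mathlib
-- import your own Cfsg.Agent.* helpers here

set_option autoImplicit false
open Cfsg

namespace Cfsg.Agent.S4558

/-- Let χ be a character of the finite group G and g an element of p-power order for the prime p. If χ g = 0, then p divides the degree of χ. -/
theorem result {G : Type*} [Group G] [Finite G] (p : ℕ) [Fact p.Prime] (χ : G → ℂ) (hχ : Cfsg.IsCharacter G χ) (g : G) (hg : ∃ j : ℕ, orderOf g = p ^ j) (h0 : χ g = 0) : p ∣ Cfsg.charDegree χ := by
  classical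
  obtain ⟨n, ρ, rfl⟩ := hχ
  obtain ⟨j, hj⟩ := hg
  have hp : p.Prime := Fact.out
  -- the degree
  have hdeg : Cfsg.charDegree ρ.character = n := by
    unfold Cfsg.charDegree
    have : ρ.character 1 = (n : ℂ) := by
      simp [Representation.character]
    rw [this]
    simp
  rw [hdeg]
  set q := orderOf g with hq
  have hqpos : 0 < q := orderOf_pos g
  -- f = ρ g, f^q = 1
  set f : Module.End ℂ (Fin n → ℂ) := ρ g with hf
  have hfq : f ^ q = 1 := by
    rw [hf, ← map_pow, hq, pow_orderOf_eq_one, map_one]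
  have htr : LinearMap.trace ℂ (Fin n → ℂ) f = 0 := h0
  have hsplit : f.charpoly.Splits := IsAlgClosed.splits _
  have hsum : f.charpoly.roots.sum = 0 := by
    rw [← Module.End.trace_eq_sum_roots_charpoly_of_splits hsplit]; exact htr
  have hcard : f.charpoly.roots.card = n := by
    rw [IsAlgClosed.card_roots_eq_natDegree, LinearMap.charpoly_natDegree]
    simp
  -- every root is a q-th root of unity
  have hroot : ∀ μ ∈ f.charpoly.roots, μ ^ q = 1 := by
    intro μ hμ
    have hμ' : f.charpoly.IsRoot μ := (Polynomial.mem_roots'.mp hμ).2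
    have hev : f.HasEigenvalue μ := (Module.End.hasEigenvalue_iff_isRoot_charpoly f μ).mpr hμ'
    obtain ⟨v, hv⟩ := hev.exists_hasEigenvector
    have h1 : (f ^ q) v = μ ^ q • v := hv.pow_apply q
    rw [hfq] at h1
    have h2 : (μ ^ q - 1) • v = 0 := by
      rw [sub_smul, one_smul, ← h1]; simp
    rcases smul_eq_zero.mp h2 with h3 | h3
    · exact sub_eq_zero.mp h3
    · exact absurd h3 hv.2
  rcases Nat.eq_zero_or_pos j with hj0 | hjpos
  · -- g = 1
    have hq1 : q = 1 := by rw [hj, hj0, pow_zero]
    have hf1 : f = 1 := by rw [← pow_one f, ← hq1, hfq]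
    rw [hf1] at htr
    have : (n : ℂ) = 0 := by
      rw [← htr]; simp
    have hn0 : n = 0 := by exact_mod_cast this
    rw [hn0]; exact dvd_zero p
  · obtain ⟨j', rfl⟩ : ∃ j', j = j' + 1 := ⟨j - 1, by omega⟩
    have hq0 : q ≠ 0 := hqpos.ne'
    haveI : NeZero q := ⟨hq0⟩
    set ζ : ℂ := Complex.exp (2 * Real.pi * Complex.I / q) with hζdef
    have hζ : IsPrimitiveRoot ζ q := Complex.isPrimitiveRoot_exp q hq0
    -- exponent function
    have hex : ∀ μ : ℂ, ∃ i : ℕ, μ ^ q = 1 → ζ ^ i = μ := by
      intro μ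
      by_cases hμ : μ ^ q = 1
      · obtain ⟨i, -, hi⟩ := hζ.eq_pow_of_pow_eq_one hμ
        exact ⟨i, fun _ => hi⟩
      · exact ⟨0, fun h => absurd h hμ⟩
    choose e he using hex
    set R := f.charpoly.roots with hR
    let P : Polynomial ℤ := (R.map (fun μ => (Polynomial.X : Polynomial ℤ) ^ e μ)).sum
    have hPζ : Polynomial.aeval ζ P = 0 := by
      simp only [P, map_multiset_sum, Multiset.map_map, Function.comp_def, map_pow, Polynomial.aeval_X]
      rw [← hsum]
      congr 1
      exact Multiset.map_congr rfl (fun μ hμ => he μ (hroot μ hμ)) |>.trans (Multiset.map_id' R)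
    have hP1 : Polynomial.eval 1 P = (n : ℤ) := by
      have : Polynomial.eval 1 P = Polynomial.evalRingHom 1 P := rfl
      rw [this]
      simp only [P, map_multiset_sum, Multiset.map_map, Function.comp_def, map_pow, Polynomial.coe_evalRingHom,
        Polynomial.eval_X, Polynomial.eval_pow, one_pow]
      rw [Multiset.map_const', Multiset.sum_replicate, hcard]
      simp
    have hint : IsIntegral ℤ ζ := hζ.isIntegral hqpos
    have hdvd : Polynomial.cyclotomic q ℤ ∣ P := by
      rw [Polynomial.cyclotomic_eq_minpoly hζ hqpos]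
      exact minpoly.isIntegrallyClosed_dvd hint hPζ
    obtain ⟨H, hH⟩ := hdvd
    have h1 : (n : ℤ) = (p : ℤ) * Polynomial.eval 1 H := by
      rw [← hP1, hH, Polynomial.eval_mul, hj, Polynomial.eval_one_cyclotomic_prime_pow]
    have : (p : ℤ) ∣ (n : ℤ) := ⟨_, h1⟩
    exact_mod_cast this

end Cfsg.Agent.S4558
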