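import Mathlib
import Cfsg.Prelude
import Cfsg.Agent.S0886
import Cfsg.Agent.S0857
import Cfsg.Agent.S0900
import Cfsg.Agent.Lib.Helper26.TIInd
import Cfsg.Agent.Lib.Helper26.IndChar
import Cfsg.Agent.Lib.Helper7.CoprimeCount
import Cfsg.Agent.Lib.Helper7.GlaubFpf
import Cfsg.Agent.Lib.Helper7.FrobRam
import Cfsg.Agent.Lib.Helper4.AbelianAbove
import Cfsg.Agent.Lib.Helper4.CharOrtho

set_option autoImplicit false
open Cfsg

namespace Cfsg.Agent.S4565

open Cfsg.Agent.Lib.Helper26 Cfsg.Agent.Lib.Helper2 Cfsg.Agent.Lib.Helper7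
open scoped ComplexConjugate

/-- a class function all of whose irreducible constituents equal `χ` is a multiple of `χ` -/
theorem eq_smul_of_unique {H : Type*} [Group H] [Fintype H] (Ψ χ : H → ℂ)
    (hΨ : IsClassFunction H Ψ) (hχ : IsIrrCharacter H χ)
    (h : ∀ ψ, IsIrrCharacter H ψ → classInner Ψ ψ ≠ 0 → ψ = χ) : Ψ = classInner Ψ χ • χ := by
  classical
  haveI : Fintype (IrrCharacter H) := Fintype.ofFinite _
  have hexp := Cfsg.Agent.Lib.Helper4.classFunction_expansion Ψ hΨ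
  have h1 : ∑ ψ : IrrCharacter H, classInner Ψ (ψ : H → ℂ) • (ψ : H → ℂ) =
      classInner Ψ χ • χ := by
    rw [Finset.sum_eq_single (⟨χ, hχ⟩ : IrrCharacter H)]
    · intro ψ _ hne
      by_cases h0 : classInner Ψ (ψ : H → ℂ) = 0
      · rw [h0, zero_smul]
      · exact absurd (Subtype.ext (h ψ ψ.2 h0)) hne
    · intro h'
      exact absurd (Finset.mem_univ _) h'
  rw [← h1]
  exact hexp

/-- Let χ be an irreducible character of the finite group H that is fully ramified over the normal subgroup Z: the restriction of χ to Z is e times an irreducible character of Z with e ^ 2 equal to the index of Z. If Z ≠ H, then H/Z has no cyclic subgroup that is its own centralizer. -/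
theorem result {H : Type*} [Group H] [Finite H] (Z : Subgroup H) [Z.Normal] (χ : Cfsg.IrrCharacter H) (hfr : ∃ (θ : Cfsg.IrrCharacter ↥Z) (e : ℕ), e ^ 2 = Z.index ∧ ∀ z : ↥Z, (χ : H → ℂ) z = (e : ℂ) * (θ : ↥Z → ℂ) z) (hZ : Z ≠ ⊤) (C : Subgroup (H ⧸ Z)) (hC : IsCyclic C) : Subgroup.centralizer (C : Set (H ⧸ Z)) ≠ C := by
  classical
  haveI : Fintype H := Fintype.ofFinite H
  haveI : Fintype Z := Fintype.ofFinite Z
  haveI hZn : Z.Normal := inferInstance
  obtain ⟨θ, e, he2, hres⟩ := hfr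
  intro hcent
  have hidx0 : Z.index ≠ 0 := Subgroup.index_ne_zero_of_finite
  have he0 : e ≠ 0 := by
    intro h
    rw [h] at he2
    exact hidx0 (by rw [← he2]; simp)
  have hresf : (fun z : Z => (χ : H → ℂ) z) = (e : ℂ) • (θ : Z → ℂ) := funext hres
  have hθθ : classInner (θ : Z → ℂ) (θ : Z → ℂ) = 1 := by rw [classInner_irr θ.2 θ.2, if_pos rfl]
  have hcon : classInner (fun z : Z => (χ : H → ℂ) z) (θ : Z → ℂ) ≠ 0 := by
    rw [hresf, classInner_smul_left, hθθ, mul_one]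
    exact Nat.cast_ne_zero.mpr he0
  obtain ⟨h900a, h900b⟩ := Cfsg.Agent.S0900.result Z (χ : H → ℂ) χ.2 (θ : Z → ℂ) θ.2 hcon
  have hex : ∃ e : ℕ, (fun n : Z => (χ : H → ℂ) n) = (e : ℂ) • (θ : Z → ℂ) ∧ e ^ 2 = Z.index :=
    ⟨e, hresf, he2⟩
  obtain ⟨hvan, hinv⟩ := h900a.mp hex
  have huniq := ((h900b.mp hex) 1 1).2
  -- the generator
  obtain ⟨c₀, hc₀⟩ := hC.exists_generator
  obtain ⟨g, hg⟩ := QuotientGroup.mk_surjective (c₀ : H ⧸ Z)
  have hgC : (QuotientGroup.mk g : H ⧸ Z) ∈ C := by rw [hg]; exact c₀.2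
  have hgenC : ∀ c ∈ C, ∃ i : ℤ, (QuotientGroup.mk g : H ⧸ Z) ^ i = c := by
    intro c hc
    obtain ⟨i, hi⟩ := Subgroup.mem_zpowers_iff.mp (hc₀ ⟨c, hc⟩)
    refine ⟨i, ?_⟩
    rw [hg]
    have := congrArg Subtype.val hi
    simpa using this
  have hCcomm : ∀ a ∈ C, ∀ b ∈ C, a * b = b * a := by
    intro a ha b hb
    obtain ⟨i, rfl⟩ := hgenC a ha
    obtain ⟨j, rfl⟩ := hgenC b hb
    exact zpow_mul_comm _ i j
  have hgZ : g ∉ Z := by
    intro h
    have h1 : (QuotientGroup.mk g : H ⧸ Z) = 1 := (QuotientGroup.eq_one_iff g).mpr h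
    have hCbot : C = ⊥ := by
      rw [eq_bot_iff]
      intro c hc
      obtain ⟨i, rfl⟩ := hgenC c hc
      rw [h1, one_zpow]
      exact Subgroup.mem_bot.mpr rfl
    rw [hCbot] at hcent
    apply hZ
    rw [eq_top_iff]
    intro x _
    have h2 : (QuotientGroup.mk x : H ⧸ Z) ∈ Subgroup.centralizer ((⊥ : Subgroup (H ⧸ Z)) : Set (H ⧸ Z)) := by
      rw [Subgroup.mem_centralizer_iff]
      intro y hy
      have : y = 1 := Subgroup.mem_bot.mp hy
      rw [this, one_mul, mul_one]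
    rw [hcent] at h2
    exact (QuotientGroup.eq_one_iff x).mp (Subgroup.mem_bot.mp h2)
  -- the preimage of C
  obtain ⟨Ct, hCt⟩ : ∃ Ct : Subgroup H, Ct = C.comap (QuotientGroup.mk' Z) := ⟨_, rfl⟩
  have hmemCt : ∀ x : H, x ∈ Ct ↔ (QuotientGroup.mk x : H ⧸ Z) ∈ C := by
    intro x; rw [hCt]; rfl
  have hZC : Z ≤ Ct := by
    intro z hz
    rw [hmemCt, (QuotientGroup.eq_one_iff z).mpr hz]
    exact C.one_mem
  have hgCt : g ∈ Ct := (hmemCt g).mpr hgC
  -- the centralizer condition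
  have hcentx : ∀ x : H, (QuotientGroup.mk x : H ⧸ Z) * QuotientGroup.mk g =
      QuotientGroup.mk g * QuotientGroup.mk x → x ∈ Ct := by
    intro x hx
    rw [hmemCt, ← hcent, Subgroup.mem_centralizer_iff]
    intro c hc
    obtain ⟨i, rfl⟩ := hgenC c hc
    have : Commute (QuotientGroup.mk g : H ⧸ Z) (QuotientGroup.mk x) := hx.symm
    exact (this.zpow_left i).eq
  -- the quotient of the preimage
  haveI : Fintype Ct := Fintype.ofFinite Ct
  haveI hZ'n : (Z.subgroupOf Ct).Normal := Subgroup.normal_subgroupOf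
  haveI : Fintype (Z.subgroupOf Ct) := Fintype.ofFinite _
  have hmkeq : ∀ a b : Ct, (QuotientGroup.mk a : Ct ⧸ Z.subgroupOf Ct) = QuotientGroup.mk b ↔
      (QuotientGroup.mk (a : H) : H ⧸ Z) = QuotientGroup.mk (b : H) := by
    intro a b
    rw [QuotientGroup.eq, QuotientGroup.eq, Subgroup.mem_subgroupOf]
    rfl
  have hcomm : ∀ a b : Ct ⧸ Z.subgroupOf Ct, a * b = b * a := by
    intro a b
    obtain ⟨a, rfl⟩ := QuotientGroup.mk_surjective a
    obtain ⟨b, rfl⟩ := QuotientGroup.mk_surjective b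
    rw [← QuotientGroup.mk_mul, ← QuotientGroup.mk_mul, hmkeq]
    exact hCcomm _ ((hmemCt a).mp a.2) _ ((hmemCt b).mp b.2)
  have hcycQ : IsCyclic (Ct ⧸ Z.subgroupOf Ct) := by
    refine ⟨⟨QuotientGroup.mk ⟨g, hgCt⟩, fun q => ?_⟩⟩
    obtain ⟨a, rfl⟩ := QuotientGroup.mk_surjective q
    obtain ⟨i, hi⟩ := hgenC _ ((hmemCt a).mp a.2)
    refine Subgroup.mem_zpowers_iff.mpr ⟨i, ?_⟩
    rw [← QuotientGroup.mk_zpow, hmkeq]
    rw [← hi]
    rfl
  -- the extension of θ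
  let eN : Z.subgroupOf Ct ≃* Z := Subgroup.subgroupOfEquivOfLe hZC
  let θ' : Z.subgroupOf Ct → ℂ := (θ : Z → ℂ) ∘ eN
  have hθ' : IsIrrCharacter (Z.subgroupOf Ct) θ' := isIrrCharacter_comp_mulEquiv θ.2 eN
  have hinv' : ∀ (h : Ct) (m : Z.subgroupOf Ct),
      θ' ⟨h * m * h⁻¹, hZ'n.conj_mem (m : Ct) m.2 h⟩ = θ' m := by
    intro h m
    show (θ : Z → ℂ) (eN _) = (θ : Z → ℂ) (eN m)
    rw [← hinv (h : H) (eN m)]
    congr 1
  obtain ⟨θh, hθh, hθhext⟩ := Cfsg.Agent.S0886.result (Z.subgroupOf Ct) hcycQ θ' hθ' hinv'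
  have hθhcf : IsClassFunction Ct θh := Cfsg.Agent.Lib.Helper26.isClassFunction_of_isIrrCharacter hθh
  haveI : Fintype ((Ct ⧸ Z.subgroupOf Ct) →* ℂˣ) := Fintype.ofFinite _
  obtain ⟨ξ, hξdef⟩ : ∃ ξ : ((Ct ⧸ Z.subgroupOf Ct) →* ℂˣ) → Ct → ℂ,
      ξ = fun lam c => ((lam (QuotientGroup.mk c) : ℂˣ) : ℂ) * θh c := ⟨_, rfl⟩
  have hξ : ∀ lam, IsIrrCharacter Ct (ξ lam) := by
    intro lam
    rw [hξdef]
    exact Cfsg.Agent.S0857.isIrr_twist (lam.comp (QuotientGroup.mk' (Z.subgroupOf Ct))) θh hθh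
  have hξinj : ∀ lam lam', ξ lam = ξ lam' → lam = lam' := by
    intro lam lam' h
    rw [hξdef] at h
    exact Cfsg.Agent.Lib.Helper7.CoprimeCount.twist_injective (Z.subgroupOf Ct) θ' hθ' θh hθh
      hθhext lam lam' h
  have hξ1 : ξ 1 = θh := by
    rw [hξdef]
    funext c
    simp
  -- the induced characters are multiples of χ
  have hΨvan : ∀ lam, ∀ y : H, y ∉ Z → indFun Ct (ξ lam) y = 0 := by
    intro lam y hy
    have hcf := isClassFunction_indFun Ct (ξ lam)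
    have h1 := eq_smul_of_unique (indFun Ct (ξ lam)) (χ : H → ℂ) hcf χ.2 (by
      intro ψ hψ hne
      have hψcf := Cfsg.Agent.Lib.Helper26.isClassFunction_of_isIrrCharacter hψ
      rw [classInner_indFun_left' Ct (ξ lam) ψ hψcf] at hne
      have hne2 : classInner (ψ ∘ Ct.subtype) (ξ lam) ≠ 0 := by
        rw [← classInner_conj_symm]
        exact fun h => hne ((map_eq_zero _).mp h)
      haveI : Fintype (⊤ : Subgroup H) := Fintype.ofFinite _
      have h3 := Cfsg.Agent.Lib.Helper4.classInner_restrict_ne_zero_trans (⊤ : Subgroup H) Ct Z hZC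
        le_top (fun t : (⊤ : Subgroup H) => ψ (t : H))
        (isCharacter_comp_hom (isCharacter_of_isIrrCharacter hψ) (⊤ : Subgroup H).subtype)
        ⟨ξ lam, hξ lam⟩ (θ : Z → ℂ) (isCharacter_of_isIrrCharacter θ.2) hne2 (by
          have h4 : (fun n : Z => (ξ lam) ⟨(n : H), hZC n.2⟩) = (θ : Z → ℂ) := by
            funext n
            rw [hξdef]
            show ((lam (QuotientGroup.mk (⟨(n : H), hZC n.2⟩ : Ct)) : ℂˣ) : ℂ) *
              θh ⟨(n : H), hZC n.2⟩ = _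
            have h5 : (QuotientGroup.mk (⟨(n : H), hZC n.2⟩ : Ct) : Ct ⧸ Z.subgroupOf Ct) = 1 :=
              (QuotientGroup.eq_one_iff _).mpr (show (⟨(n : H), hZC n.2⟩ : Ct) ∈ Z.subgroupOf Ct
                from n.2)
            rw [h5, map_one, Units.val_one, one_mul]
            exact hθhext ⟨⟨(n : H), hZC n.2⟩, n.2⟩
          show classInner (fun n : Z => (ξ lam) ⟨(n : H), hZC n.2⟩) (θ : Z → ℂ) ≠ 0
          rw [h4, hθθ]
          exact one_ne_zero)
      apply huniq ψ hψ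
      rw [classInner_indFun_left' Z (θ : Z → ℂ) ψ hψcf, ← classInner_conj_symm]
      exact fun h => h3 ((map_eq_zero _).mp h))
    rw [h1]
    show _ * (χ : H → ℂ) y = 0
    rw [hvan y hy, mul_zero]
  -- orthogonality in the dual of the quotient
  obtain ⟨qg, hqg⟩ : ∃ qg : Ct ⧸ Z.subgroupOf Ct, qg = QuotientGroup.mk ⟨g, hgCt⟩ := ⟨_, rfl⟩
  have hcardQ0 : (Nat.card (Ct ⧸ Z.subgroupOf Ct) : ℂ) ≠ 0 :=
    Nat.cast_ne_zero.mpr Nat.card_pos.ne'
  have hcardCt0 : (Nat.card Ct : ℂ) ≠ 0 := Nat.cast_ne_zero.mpr Nat.card_pos.ne'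
  have horth : ∀ c : Ct, ∑ lam : (Ct ⧸ Z.subgroupOf Ct) →* ℂˣ,
      ((lam qg⁻¹ : ℂˣ) : ℂ) * ((lam (QuotientGroup.mk c) : ℂˣ) : ℂ) =
      if g⁻¹ * (c : H) ∈ Z then (Nat.card (Ct ⧸ Z.subgroupOf Ct) : ℂ) else 0 := by
    intro c
    have h1 : ∀ lam : (Ct ⧸ Z.subgroupOf Ct) →* ℂˣ,
        ((lam qg⁻¹ : ℂˣ) : ℂ) * ((lam (QuotientGroup.mk c) : ℂˣ) : ℂ) =
        ((lam (qg⁻¹ * QuotientGroup.mk c) : ℂˣ) : ℂ) := by
      intro lam
      rw [map_mul, Units.val_mul]
    rw [Finset.sum_congr rfl fun lam _ => h1 lam, Cfsg.Agent.S0857.sum_monoidHom_apply' hcomm]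
    have h2 : (qg⁻¹ * QuotientGroup.mk c = 1) ↔ g⁻¹ * (c : H) ∈ Z := by
      rw [hqg, ← QuotientGroup.mk_inv, ← QuotientGroup.mk_mul, QuotientGroup.eq_one_iff,
        Subgroup.mem_subgroupOf]
      rfl
    by_cases h : g⁻¹ * (c : H) ∈ Z
    · rw [if_pos h, if_pos (h2.mpr h)]
    · rw [if_neg h, if_neg (fun h' => h (h2.mp h'))]
  -- the extension vanishes on the generating coset
  have hθhvan : ∀ (y : H) (hy : y ∈ Ct), g⁻¹ * y ∈ Z → θh ⟨y, hy⟩ = 0 := by
    intro y hy hPy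
    have hyZ : y ∉ Z := by
      intro h
      apply hgZ
      have := Z.mul_mem h (Z.inv_mem hPy)
      have e : y * (g⁻¹ * y)⁻¹ = g := by group
      rwa [e] at this
    have hmky : (QuotientGroup.mk y : H ⧸ Z) = QuotientGroup.mk g := (QuotientGroup.eq.mpr hPy).symm
    have h0 : ∀ lam, ∑ x : H, extendByZero Ct (ξ lam) (x⁻¹ * y * x) = 0 := by
      intro lam
      have h1 := hΨvan lam y hyZ
      unfold indFun at h1
      rcases mul_eq_zero.mp h1 with h | h
      · exact absurd (inv_eq_zero.mp h) hcardCt0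
      · exact h
    have h1 : ∑ x : H, ∑ lam : (Ct ⧸ Z.subgroupOf Ct) →* ℂˣ,
        ((lam qg⁻¹ : ℂˣ) : ℂ) * extendByZero Ct (ξ lam) (x⁻¹ * y * x) = 0 := by
      rw [Finset.sum_comm]
      apply Finset.sum_eq_zero
      intro lam _
      rw [← Finset.mul_sum, h0 lam, mul_zero]
    have h2 : ∀ x : H, ∑ lam : (Ct ⧸ Z.subgroupOf Ct) →* ℂˣ,
        ((lam qg⁻¹ : ℂˣ) : ℂ) * extendByZero Ct (ξ lam) (x⁻¹ * y * x) =
        if x ∈ Ct then (Nat.card (Ct ⧸ Z.subgroupOf Ct) : ℂ) * θh ⟨y, hy⟩ else 0 := by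
      intro x
      have hmkw : (QuotientGroup.mk (x⁻¹ * y * x) : H ⧸ Z) =
          (QuotientGroup.mk x : H ⧸ Z)⁻¹ * QuotientGroup.mk g * QuotientGroup.mk x := by
        rw [QuotientGroup.mk_mul, QuotientGroup.mk_mul, QuotientGroup.mk_inv, hmky]
      by_cases hw : x⁻¹ * y * x ∈ Ct
      · have h3 : ∀ lam : (Ct ⧸ Z.subgroupOf Ct) →* ℂˣ,
            ((lam qg⁻¹ : ℂˣ) : ℂ) * extendByZero Ct (ξ lam) (x⁻¹ * y * x) =
            (((lam qg⁻¹ : ℂˣ) : ℂ) *
              ((lam (QuotientGroup.mk (⟨x⁻¹ * y * x, hw⟩ : Ct)) : ℂˣ) : ℂ)) *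
              θh ⟨x⁻¹ * y * x, hw⟩ := by
          intro lam
          rw [extendByZero_apply_mem Ct (ξ lam) _ hw, hξdef]
          ring
        rw [Finset.sum_congr rfl fun lam _ => h3 lam, ← Finset.sum_mul, horth ⟨_, hw⟩]
        by_cases hx : x ∈ Ct
        · rw [if_pos hx]
          have hP : g⁻¹ * (x⁻¹ * y * x) ∈ Z := by
            apply QuotientGroup.eq.mp
            rw [hmkw]
            have hc := hCcomm _ ((hmemCt x).mp hx) _ hgC
            rw [mul_assoc, ← hc, ← mul_assoc, inv_mul_cancel, one_mul]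
          rw [if_pos hP]
          have h4 := hθhcf ⟨y, hy⟩ (⟨x, hx⟩⁻¹ : Ct)
          congr 1
          rw [← h4]
          congr 1
          apply Subtype.ext
          simp
        · rw [if_neg hx]
          have hP : ¬ g⁻¹ * (x⁻¹ * y * x) ∈ Z := by
            intro h
            apply hx
            apply hcentx
            have h5 : (QuotientGroup.mk g : H ⧸ Z) = QuotientGroup.mk (x⁻¹ * y * x) :=
              QuotientGroup.eq.mpr h
            rw [hmkw] at h5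
            calc (QuotientGroup.mk x : H ⧸ Z) * QuotientGroup.mk g
                = QuotientGroup.mk x * ((QuotientGroup.mk x : H ⧸ Z)⁻¹ * QuotientGroup.mk g *
                    QuotientGroup.mk x) := by rw [← h5]
              _ = QuotientGroup.mk g * QuotientGroup.mk x := by group
          rw [if_neg hP, zero_mul]
      · have hx : x ∉ Ct := fun hx => hw (Ct.mul_mem (Ct.mul_mem (Ct.inv_mem hx) hy) hx)
        rw [if_neg hx]
        apply Finset.sum_eq_zero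
        intro lam _
        rw [extendByZero_apply_not_mem Ct (ξ lam) _ hw, mul_zero]
    rw [Finset.sum_congr rfl fun x _ => h2 x,
      ← Cfsg.Agent.Lib.Helper7.FrobRam.sum_subtype_ite Ct
        (fun _ : H => (Nat.card (Ct ⧸ Z.subgroupOf Ct) : ℂ) * θh ⟨y, hy⟩),
      Finset.sum_const, Finset.card_univ, nsmul_eq_mul, ← Nat.card_eq_fintype_card] at h1
    rcases mul_eq_zero.mp h1 with h | h
    · exact absurd h hcardCt0
    · rcases mul_eq_zero.mp h with h' | h'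
      · exact absurd h' hcardQ0
      · exact h'
  -- the norm on the generating coset
  have hT0 : ∑ c : Ct, (if g⁻¹ * (c : H) ∈ Z then θh c * conj (θh c) else 0) = 0 := by
    apply Finset.sum_eq_zero
    intro c _
    by_cases h : g⁻¹ * (c : H) ∈ Z
    · rw [if_pos h, hθhvan (c : H) c.2 h, zero_mul]
    · rw [if_neg h]
  have hT1 : (Nat.card (Ct ⧸ Z.subgroupOf Ct) : ℂ) *
      ∑ c : Ct, (if g⁻¹ * (c : H) ∈ Z then θh c * conj (θh c) else 0) = (Nat.card Ct : ℂ) := by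
    have h1 : ∀ c : Ct, (Nat.card (Ct ⧸ Z.subgroupOf Ct) : ℂ) *
        (if g⁻¹ * (c : H) ∈ Z then θh c * conj (θh c) else 0) =
        ∑ lam : (Ct ⧸ Z.subgroupOf Ct) →* ℂˣ,
          ((lam qg⁻¹ : ℂˣ) : ℂ) * (ξ lam c * conj (θh c)) := by
      intro c
      have h2 : ∀ lam : (Ct ⧸ Z.subgroupOf Ct) →* ℂˣ,
          ((lam qg⁻¹ : ℂˣ) : ℂ) * (ξ lam c * conj (θh c)) =
          (((lam qg⁻¹ : ℂˣ) : ℂ) * ((lam (QuotientGroup.mk c) : ℂˣ) : ℂ)) *
            (θh c * conj (θh c)) := by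
        intro lam
        rw [hξdef]
        ring
      rw [Finset.sum_congr rfl fun lam _ => h2 lam, ← Finset.sum_mul, horth c]
      by_cases h : g⁻¹ * (c : H) ∈ Z
      · rw [if_pos h, if_pos h]
      · rw [if_neg h, if_neg h, mul_zero, zero_mul]
    rw [Finset.mul_sum, Finset.sum_congr rfl fun c _ => h1 c, Finset.sum_comm]
    have h3 : ∀ lam : (Ct ⧸ Z.subgroupOf Ct) →* ℂˣ,
        ∑ c : Ct, ((lam qg⁻¹ : ℂˣ) : ℂ) * (ξ lam c * conj (θh c)) =
        if lam = 1 then (Nat.card Ct : ℂ) else 0 := by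
      intro lam
      rw [← Finset.mul_sum]
      have h4 := classInner_irr (hξ lam) hθh
      unfold classInner at h4
      have h5 := (inv_mul_eq_iff_eq_mul₀ hcardCt0).mp h4
      rw [h5]
      by_cases hl : lam = 1
      · rw [if_pos hl, if_pos (by rw [hl, hξ1]), hl]
        simp
      · rw [if_neg hl, if_neg (fun h => hl (hξinj lam 1 (by rw [h, hξ1]))), mul_zero, mul_zero]
    rw [Finset.sum_congr rfl fun lam _ => h3 lam, Finset.sum_ite_eq' Finset.univ 1]
    simp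
  rw [hT0, mul_zero] at hT1
  exact hcardCt0 hT1.symm


end Cfsg.Agent.S4565
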