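import Cfsg.Statements.S4566
import Cfsg.Agent.S0893
import Cfsg.Agent.S0894
import Cfsg.Agent.Lib.Helper26.CharBasic

set_option autoImplicit false
open Cfsg
open scoped ComplexConjugate

namespace Cfsg.Agent.S4566

open Cfsg.Agent.Lib.Helper26

/-- Let N be a central subgroup of the finite group G, ψ a faithful irreducible (hence degree-one) character of N, and χ an irreducible character of G whose restriction to N contains ψ. If g ∈ G and some x ∈ G has commutator x⁻¹ g⁻¹ x g in N but different from 1, then χ g = 0. -/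
theorem result {G : Type*} [Group G] [Fintype G] (N : Subgroup G) [Fintype N] (hN : N ≤ Subgroup.center G) (ψ : Cfsg.IrrCharacter ↥N) (hfaith : ∀ n : ↥N, (ψ : ↥N → ℂ) n = (ψ : ↥N → ℂ) 1 → n = 1) (χ : Cfsg.IrrCharacter G) (hover : Cfsg.classInner (fun n : ↥N => (χ : G → ℂ) n) (ψ : ↥N → ℂ) ≠ 0) (g x : G) (hcomm : x⁻¹ * g⁻¹ * x * g ∈ N) (hne : x⁻¹ * g⁻¹ * x * g ≠ 1) : (χ : G → ℂ) g = 0 := by
  classical
  obtain ⟨d, ρ, hirr, hχ⟩ := χ.2
  -- ψ is linear
  obtain ⟨dψ, σ, hσirr, hψ⟩ := ψ.2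
  have hdψ : dψ = 1 := by
    have h1 := Cfsg.Agent.S0894.finrank_eq_one_of_comm σ hσirr (by
      intro a b
      rw [← map_mul, ← map_mul]
      congr 1
      apply Subtype.ext
      simp only [Subgroup.coe_mul]
      exact Subgroup.mem_center_iff.mp (hN b.2) a)
    simpa using h1
  have hψ1 : (ψ : ↥N → ℂ) 1 = 1 := by
    rw [← hψ, Representation.char_one]; simp [hdψ]
  have hψc : IsCharacter N (ψ : ↥N → ℂ) := isCharacter_of_isIrrCharacter ψ.2
  have hψmul := Cfsg.Agent.S0893.lin_mul (ψ : ↥N → ℂ) hψc hψ1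
  set z : G := x⁻¹ * g⁻¹ * x * g with hz
  let zN : N := ⟨z, hcomm⟩
  have hzN1 : zN ≠ 1 := fun h => hne (congrArg Subtype.val h)
  have hψz : (ψ : ↥N → ℂ) zN ≠ 1 := by
    intro h
    exact hzN1 (hfaith zN (by rw [h, hψ1]))
  have hzc : z ∈ Subgroup.center G := hN hcomm
  -- ρ z is a scalar
  obtain ⟨ω, hω⟩ := Cfsg.Agent.S0894.schur_scalar ρ hirr (ρ z) (by
    intro k v
    rw [← Module.End.mul_apply, ← Module.End.mul_apply, ← map_mul, ← map_mul,
      Subgroup.mem_center_iff.mp hzc k])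
  have hshift : ∀ k : G, (χ : G → ℂ) (z * k) = ω * (χ : G → ℂ) k := by
    intro k
    rw [← hχ]
    unfold Representation.character
    rw [map_mul, hω, smul_mul_assoc, map_smul, smul_eq_mul]
    rfl
  -- ω ≠ 1
  have hω1 : ω ≠ 1 := by
    intro h1
    apply hover
    unfold classInner
    set S := ∑ n : N, (χ : G → ℂ) n * conj ((ψ : ↥N → ℂ) n) with hS
    have hSS : S = conj ((ψ : ↥N → ℂ) zN) * S := by
      conv_lhs => rw [hS, ← Equiv.sum_comp (Equiv.mulLeft zN)]
      rw [hS, Finset.mul_sum]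
      refine Finset.sum_congr rfl fun n _ => ?_
      rw [Equiv.coe_mulLeft, hψmul, map_mul]
      have : ((zN * n : N) : G) = z * n := rfl
      rw [this, hshift, h1, one_mul]
      ring
    have h2 : (1 - conj ((ψ : ↥N → ℂ) zN)) * S = 0 := by
      rw [sub_mul, one_mul, ← hSS, sub_self]
    rcases mul_eq_zero.mp h2 with h | h
    · exfalso
      apply hψz
      have h3 : conj ((ψ : ↥N → ℂ) zN) = 1 := (sub_eq_zero.mp h).symm
      have := congrArg (starRingEnd ℂ) h3
      simpa using this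
    · rw [h, mul_zero]
  -- conclusion
  have hcl := isClassFunction_of_isIrrCharacter χ.2
  have hg : g = z * (x⁻¹ * g * x⁻¹⁻¹) := by
    rw [← Subgroup.mem_center_iff.mp hzc (x⁻¹ * g * x⁻¹⁻¹), hz]; group
  have h1 : (χ : G → ℂ) g = ω * (χ : G → ℂ) (x⁻¹ * g * x⁻¹⁻¹) := by
    conv_lhs => rw [hg]
    exact hshift _
  rw [hcl g x⁻¹] at h1
  have h3 : (1 - ω) * (χ : G → ℂ) g = 0 := by rw [sub_mul, one_mul, ← h1, sub_self]
  rcases mul_eq_zero.mp h3 with h | h
  · exact absurd (sub_eq_zero.mp h).symm hω1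
  · exact h

end Cfsg.Agent.S4566
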