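import Cfsg.Statements.S4574
import Cfsg.Agent.Lib.Helper4.GaloisChar
import Cfsg.Agent.Lib.Helper4.CharIntegral
import Cfsg.Agent.Lib.Helper4.FaithfulIrr

set_option autoImplicit false
open Cfsg

namespace Cfsg.Agent.S4574

/-- Let χ be an irreducible character of the finite group G, of degree d, and let Z(χ) be the set of elements g with |χ g| = d (the centre of χ). Then χ vanishes on at least (d ^ 2 - 1) · |Z(χ)| elements of G, with equality when every value |χ g| is 0, 1 or d. -/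
theorem result {G : Type*} [Group G] [Fintype G] [DecidableEq G] (χ : G → ℂ) (hχ : Cfsg.IsIrrCharacter G χ) : (Cfsg.charDegree χ ^ 2 - 1) * (Finset.univ.filter (fun g : G => ‖χ g‖ = (Cfsg.charDegree χ : ℝ))).card ≤ (Finset.univ.filter (fun g : G => χ g = 0)).card ∧ ((∀ g : G, ‖χ g‖ = 0 ∨ ‖χ g‖ = 1 ∨ ‖χ g‖ = (Cfsg.charDegree χ : ℝ)) → (Cfsg.charDegree χ ^ 2 - 1) * (Finset.univ.filter (fun g : G => ‖χ g‖ = (Cfsg.charDegree χ : ℝ))).card = (Finset.univ.filter (fun g : G => χ g = 0)).card) := by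
  classical
  obtain ⟨n, ρ, hirr, rfl⟩ := hχ
  have hN : 0 < Nat.card G := Nat.card_pos
  have : NeZero (Nat.card G) := ⟨hN.ne'⟩
  have hd : Cfsg.charDegree ρ.character = n := by
    unfold Cfsg.charDegree
    rw [Representation.char_one]
    simp
  have hn1 : 1 ≤ n := by
    have := Cfsg.Agent.Lib.Helper4.nontrivial_of_irreducible ρ hirr
    have h2 : 0 < Module.finrank ℂ (Fin n → ℂ) := Module.finrank_pos
    simp only [Module.finrank_fin_fun] at h2
    omega
  rw [hd]
  set f : G → ℝ := fun g => Complex.normSq (ρ.character g) with hf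
  set k := Fintype.card (Cfsg.Agent.Lib.Helper4.cycK (Nat.card G) →ₐ[ℚ] ℂ) with hk
  have hkpos : 0 < k := by
    rw [hk, AlgHom.card ℚ (Cfsg.Agent.Lib.Helper4.cycK (Nat.card G)) ℂ]
    exact Module.finrank_pos
  have hkR : (0 : ℝ) < k := by exact_mod_cast hkpos
  -- f as a product in the cyclotomic field
  have hfK : ∀ g : G, ((f g : ℝ) : ℂ) =
      ((Cfsg.Agent.Lib.Helper4.charK ρ g * Cfsg.Agent.Lib.Helper4.charK ρ g⁻¹ :
        Cfsg.Agent.Lib.Helper4.cycK (Nat.card G)) : ℂ) := by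
    intro g
    simp only [hf]
    push_cast
    rw [Cfsg.Agent.Lib.Helper4.coe_charK, Cfsg.Agent.Lib.Helper4.coe_charK,
      Cfsg.Agent.Lib.Helper4.character_inv, Complex.mul_conj]
  -- Galois invariance
  have hgal : ∀ (σ : Cfsg.Agent.Lib.Helper4.cycK (Nat.card G) →ₐ[ℚ] ℂ) (m : ℕ),
      (∀ μ : Cfsg.Agent.Lib.Helper4.cycK (Nat.card G), (μ : ℂ) ^ Nat.card G = 1 →
        σ μ = (μ : ℂ) ^ m) → ∀ (g : G) (q : ℚ), f (g ^ m) = (q : ℝ) ↔ f g = (q : ℝ) := by
    intro σ m hσ g q
    have h1 : ((f (g ^ m) : ℝ) : ℂ) = σ (Cfsg.Agent.Lib.Helper4.charK ρ g *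
        Cfsg.Agent.Lib.Helper4.charK ρ g⁻¹) := by
      rw [map_mul, Cfsg.Agent.Lib.Helper4.embedding_charK ρ σ m hσ g,
        Cfsg.Agent.Lib.Helper4.embedding_charK ρ σ m hσ g⁻¹, inv_pow]
      simp only [hf]
      rw [Cfsg.Agent.Lib.Helper4.character_inv, Complex.mul_conj]
    have h2 : ((q : ℝ) : ℂ) = σ (algebraMap ℚ _ q) := by
      rw [AlgHom.commutes]
      simp
    constructor
    · intro h
      have h3 : σ (Cfsg.Agent.Lib.Helper4.charK ρ g * Cfsg.Agent.Lib.Helper4.charK ρ g⁻¹) =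
          σ (algebraMap ℚ _ q) := by
        rw [← h1, ← h2, h]
      have h4 := σ.toRingHom.injective h3
      have h5 : ((f g : ℝ) : ℂ) = ((q : ℝ) : ℂ) := by
        rw [hfK g, h4]
        simp
      exact_mod_cast h5
    · intro h
      have h5 : ((f g : ℝ) : ℂ) = ((q : ℝ) : ℂ) := by rw [h]
      rw [hfK g] at h5
      have h4 : (Cfsg.Agent.Lib.Helper4.charK ρ g * Cfsg.Agent.Lib.Helper4.charK ρ g⁻¹ :
          Cfsg.Agent.Lib.Helper4.cycK (Nat.card G)) = algebraMap ℚ _ q := by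
        apply Subtype.ext
        rw [h5]
        simp
      have h6 : ((f (g ^ m) : ℝ) : ℂ) = ((q : ℝ) : ℂ) := by
        rw [h1, h4, ← h2]
      exact_mod_cast h6
  -- the three sets
  set Z := Finset.univ.filter (fun g : G => f g = (n : ℝ) ^ 2) with hZ
  set Zr := Finset.univ.filter (fun g : G => f g = 0) with hZr
  set R := Finset.univ.filter (fun g : G => ¬ f g = (n : ℝ) ^ 2 ∧ ¬ f g = 0) with hR
  have hZeq : (Finset.univ.filter (fun g : G => ‖ρ.character g‖ = (n : ℝ))) = Z := by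
    rw [hZ]
    refine Finset.filter_congr fun g _ => ?_
    simp only [hf, Complex.normSq_eq_norm_sq]
    constructor
    · intro h; rw [h]
    · intro h
      have h1 : (0 : ℝ) ≤ ‖ρ.character g‖ := norm_nonneg _
      have h2 : (0 : ℝ) ≤ (n : ℝ) := Nat.cast_nonneg n
      nlinarith
  have hZreq : (Finset.univ.filter (fun g : G => ρ.character g = 0)) = Zr := by
    rw [hZr]
    refine Finset.filter_congr fun g _ => ?_
    simp only [hf, Complex.normSq_eq_zero]
  rw [hZeq, hZreq]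
  -- Galois sums over R
  have hRsum : (R.card : ℝ) ≤ ∑ g ∈ R, f g := by
    have hlow : ∀ g ∈ R, (k : ℝ) ≤ ∑ σ : Cfsg.Agent.Lib.Helper4.cycK (Nat.card G) →ₐ[ℚ] ℂ,
        Complex.normSq (σ (Cfsg.Agent.Lib.Helper4.charK ρ g)) := by
      intro g hg
      apply Cfsg.Agent.Lib.Helper4.sum_normSq_embeddings_ge
      · intro h
        have hg2 := (Finset.mem_filter.mp hg).2.2
        apply hg2
        have := congrArg (fun x : Cfsg.Agent.Lib.Helper4.cycK (Nat.card G) => (x : ℂ)) h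
        simp only [Cfsg.Agent.Lib.Helper4.coe_charK] at this
        simp only [hf, this]
        simp
      · exact Cfsg.Agent.Lib.Helper4.charK_isIntegral ρ g
    have h1 : ∑ _g ∈ R, (k : ℝ) ≤ ∑ g ∈ R, ∑ σ : Cfsg.Agent.Lib.Helper4.cycK (Nat.card G) →ₐ[ℚ] ℂ,
        Complex.normSq (σ (Cfsg.Agent.Lib.Helper4.charK ρ g)) := Finset.sum_le_sum hlow
    rw [Finset.sum_comm] at h1
    have hσ : ∀ σ : Cfsg.Agent.Lib.Helper4.cycK (Nat.card G) →ₐ[ℚ] ℂ,
        ∑ g ∈ R, Complex.normSq (σ (Cfsg.Agent.Lib.Helper4.charK ρ g)) = ∑ g ∈ R, f g := by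
      intro σ
      obtain ⟨m, hm, hσm⟩ := Cfsg.Agent.Lib.Helper4.embedding_pow (Nat.card G) hN σ
      simp only [Cfsg.Agent.Lib.Helper4.embedding_charK ρ σ m hσm]
      refine Finset.sum_equiv (powCoprime hm.symm) ?_ ?_
      · intro g
        simp only [hR, Finset.mem_filter, Finset.mem_univ, true_and, powCoprime_apply]
        have e1 := hgal σ m hσm g ((n : ℚ) ^ 2)
        have e2 := hgal σ m hσm g 0
        push_cast at e1 e2
        rw [e1, e2]
      · intro g _
        simp [hf]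
    simp only [hσ] at h1
    rw [Finset.sum_const, Finset.sum_const, Finset.card_univ, nsmul_eq_mul, nsmul_eq_mul,
      ← hk] at h1
    have h2 : (k : ℝ) * (R.card : ℝ) ≤ (k : ℝ) * ∑ g ∈ R, f g := by linarith
    exact le_of_mul_le_mul_left h2 hkR
  -- total
  have htot : ∑ g : G, f g = (Nat.card G : ℝ) := by
    have h1 := Cfsg.Agent.Lib.Helper4.sum_char_mul_char_inv ρ hirr
    have h2 : ∑ g : G, ρ.character g * ρ.character g⁻¹ =
        ((∑ g : G, Complex.normSq (ρ.character g) : ℝ) : ℂ) := by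
      rw [Complex.ofReal_sum]
      refine Finset.sum_congr rfl fun g _ => ?_
      rw [Cfsg.Agent.Lib.Helper4.character_inv, Complex.mul_conj]
    rw [h2] at h1
    exact_mod_cast h1
  have hn2 : (n : ℝ) ^ 2 ≠ 0 := by
    have : (1 : ℝ) ≤ n := by exact_mod_cast hn1
    positivity
  have hpt : ∀ g : G, f g = (if f g = (n : ℝ) ^ 2 then (n : ℝ) ^ 2 else 0) +
      (if ¬ f g = (n : ℝ) ^ 2 ∧ ¬ f g = 0 then f g else 0) := by
    intro g
    by_cases h1 : f g = (n : ℝ) ^ 2
    · simp [h1]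
    · by_cases h2 : f g = 0
      · simp [h2, hn2.symm]
      · simp [h1, h2]
  have hpt1 : ∀ g : G, (1 : ℝ) = (if f g = (n : ℝ) ^ 2 then 1 else 0) +
      (if f g = 0 then 1 else 0) + (if ¬ f g = (n : ℝ) ^ 2 ∧ ¬ f g = 0 then 1 else 0) := by
    intro g
    by_cases h1 : f g = (n : ℝ) ^ 2
    · have : ¬ f g = 0 := by rw [h1]; exact hn2
      simp [h1, hn2]
    · by_cases h2 : f g = 0
      · simp [h2, hn2.symm]
      · simp [h1, h2]
  have hsplit : ∑ g : G, f g = (n : ℝ) ^ 2 * Z.card + ∑ g ∈ R, f g := by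
    rw [Finset.sum_congr rfl (fun g _ => hpt g), Finset.sum_add_distrib, ← Finset.sum_filter,
      ← Finset.sum_filter, Finset.sum_const, nsmul_eq_mul]
    ring
  have hcard : (Nat.card G : ℝ) = Z.card + Zr.card + R.card := by
    have : (Nat.card G : ℝ) = ∑ _g : G, (1 : ℝ) := by
      rw [Finset.sum_const, Finset.card_univ, Nat.card_eq_fintype_card]; simp
    rw [this, Finset.sum_congr rfl (fun g _ => hpt1 g), Finset.sum_add_distrib,
      Finset.sum_add_distrib, ← Finset.sum_filter, ← Finset.sum_filter, ← Finset.sum_filter]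
    simp
    rfl
  have hcast : (((n ^ 2 - 1 : ℕ) : ℝ)) = (n : ℝ) ^ 2 - 1 := by
    rw [Nat.cast_sub (Nat.one_le_pow _ _ hn1)]
    simp
  constructor
  · have h : (((n ^ 2 - 1) * Z.card : ℕ) : ℝ) ≤ (Zr.card : ℝ) := by
      rw [Nat.cast_mul, hcast]
      nlinarith
    exact_mod_cast h
  · intro hall
    have hReq : ∑ g ∈ R, f g = (R.card : ℝ) := by
      rw [Finset.card_eq_sum_ones, Nat.cast_sum]
      refine Finset.sum_congr rfl fun g hg => ?_
      have hg1 := (Finset.mem_filter.mp hg).2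
      rcases hall g with h | h | h
      · exfalso
        apply hg1.2
        simp only [hf, Complex.normSq_eq_norm_sq, h]
        simp
      · simp only [hf, Complex.normSq_eq_norm_sq, h]
        simp
      · exfalso
        apply hg1.1
        simp only [hf, Complex.normSq_eq_norm_sq, h]
    have h : (((n ^ 2 - 1) * Z.card : ℕ) : ℝ) = (Zr.card : ℝ) := by
      rw [Nat.cast_mul, hcast]
      nlinarith
    exact_mod_cast h

end Cfsg.Agent.S4574
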