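import Cfsg.Statements.S4582
import Mathlib
-- import your own Cfsg.Agent.* helpers here

set_option autoImplicit false
open Cfsg

namespace Cfsg.Agent.S4582

/-- core statement in a group `K = M H` -/
theorem core {K : Type*} [Group K] [Finite K] (M : Subgroup K) [hMn : M.Normal] (H : Subgroup K)
    (hH2 : IsPGroup 2 H) (hodd : Odd H.index)
    (hKMH : ∀ k : K, ∃ m ∈ M, ∃ a ∈ H, k = m * a)
    (hP : ∀ x ∈ H, x ^ 2 ∈ (H ⊓ M) ⊔ ⁅H, H⁆)
    (hQ : ∀ x ∈ H ⊓ M, x ^ 2 ∈ ⁅H ⊓ M, H ⊓ M⁆)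
    (hoddM : Odd (Nat.card (Abelianization M))) :
    ∀ x ∈ H, x ^ 2 ∈ ⁅H, H⁆ := by
  classical
  intro g hg
  obtain ⟨V, hVdef⟩ : ∃ V : K →* Abelianization H,
      V = MonoidHom.transfer (Abelianization.of : H →* Abelianization H) := ⟨_, rfl⟩
  obtain ⟨S, hSdef⟩ : ∃ S : Subgroup (Abelianization H),
      S = ((H ⊓ M).subgroupOf H).map (Abelianization.of : H →* Abelianization H) := ⟨_, rfl⟩
  -- kernel of `of`
  have hker : ∀ h : H, (Abelianization.of h : Abelianization H) = 1 ↔ (h : K) ∈ ⁅H, H⁆ := by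
    intro h
    rw [← MonoidHom.mem_ker, Abelianization.ker_of, ← H.map_subtype_commutator]
    exact (Subgroup.mem_map_iff_mem H.subtype_injective (x := h)).symm
  -- S has exponent 2
  have hS2 : ∀ s ∈ S, s ^ 2 = 1 := by
    intro s hs
    rw [hSdef] at hs
    obtain ⟨u, hu, rfl⟩ := hs
    rw [← map_pow, hker]
    have hu' : (u : K) ∈ H ⊓ M := hu
    have h1 := hQ _ hu'
    have h2 : ⁅H ⊓ M, H ⊓ M⁆ ≤ ⁅H, H⁆ := Subgroup.commutator_mono inf_le_left inf_le_left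
    have h3 := h2 h1
    simpa using h3
  -- squares land in S
  have hsq : ∀ x : H, (Abelianization.of x : Abelianization H) ^ 2 ∈ S := by
    intro x
    have h1 := hP x x.2
    have hle : (H ⊓ M) ⊔ ⁅H, H⁆ ≤ (S.comap (Abelianization.of : H →* Abelianization H)).map H.subtype := by
      apply sup_le
      · intro y hy
        refine ⟨⟨y, hy.1⟩, ?_, rfl⟩
        rw [SetLike.mem_coe, Subgroup.mem_comap, hSdef]
        exact ⟨⟨y, hy.1⟩, hy, rfl⟩
      · intro y hy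
        have hyH : y ∈ H := H.commutator_le_self hy
        refine ⟨⟨y, hyH⟩, ?_, rfl⟩
        rw [SetLike.mem_coe, Subgroup.mem_comap, (hker ⟨y, hyH⟩).2 hy]
        exact S.one_mem
    obtain ⟨y, hy, he⟩ := hle h1
    have hyx : y = x ^ 2 := Subtype.ext (by simpa using he)
    rw [← map_pow, ← hyx]
    exact hy
  -- A is a 2-group
  have hA2 : IsPGroup 2 (Abelianization H) := hH2.to_quotient (commutator H)
  -- M ≤ ker V
  have hMV : M ≤ V.ker := by
    intro m hm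
    rw [MonoidHom.mem_ker]
    have e1 : V m = Abelianization.lift (V.comp M.subtype) (Abelianization.of ⟨m, hm⟩) := by
      rw [Abelianization.lift_apply_of]; rfl
    obtain ⟨k, hk⟩ := hA2 (V m)
    have d1 : orderOf (V m) ∣ 2 ^ k := orderOf_dvd_of_pow_eq_one hk
    have d2 : orderOf (V m) ∣ Nat.card (Abelianization M) := by
      rw [e1]
      exact (orderOf_map_dvd _ _).trans (orderOf_dvd_natCard _)
    have hcop : Nat.Coprime (2 ^ k) (Nat.card (Abelianization M)) :=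
      Nat.Coprime.pow_left k (Nat.coprime_two_left.2 hoddM)
    have d3 : orderOf (V m) ∣ 1 := by
      have := Nat.dvd_gcd d1 d2
      rwa [hcop] at this
    exact orderOf_eq_one_iff.1 (Nat.dvd_one.1 d3)
  -- commutators in ker V
  have hcV : ⁅H, H⁆ ≤ V.ker := by
    have h1 : ⁅H, H⁆ ≤ commutator K := by
      rw [commutator_def]
      exact Subgroup.commutator_mono le_top le_top
    exact h1.trans (Abelianization.commutator_subset_ker V)
  -- key computation of factors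
  have key : ∀ (t : K) (k : ℕ) (h : t⁻¹ * g ^ k * t ∈ H),
      (Abelianization.of (⟨t⁻¹ * g ^ k * t, h⟩ : H) : Abelianization H) *
        ((Abelianization.of (⟨g, hg⟩ : H) : Abelianization H) ^ k)⁻¹ ∈ S := by
    intro t k h
    obtain ⟨m, hm, a, ha, rfl⟩ := hKMH t
    have h1 : a⁻¹ * g ^ k * a ∈ H := H.mul_mem (H.mul_mem (H.inv_mem ha) (H.pow_mem hg k)) ha
    have h2M : (a⁻¹ * g ^ k * a)⁻¹ * ((m * a)⁻¹ * g ^ k * (m * a)) ∈ M := by
      have e : (a⁻¹ * g ^ k * a)⁻¹ * ((m * a)⁻¹ * g ^ k * (m * a))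
          = a⁻¹ * (((g ^ k)⁻¹ * m⁻¹ * (g ^ k)⁻¹⁻¹) * m) * a⁻¹⁻¹ := by group
      rw [e]
      exact hMn.conj_mem _ (M.mul_mem (hMn.conj_mem _ (M.inv_mem hm) _) hm) _
    have h2H : (a⁻¹ * g ^ k * a)⁻¹ * ((m * a)⁻¹ * g ^ k * (m * a)) ∈ H :=
      H.mul_mem (H.inv_mem h1) h
    have e1 : (⟨(m * a)⁻¹ * g ^ k * (m * a), h⟩ : H)
        = ((⟨a, ha⟩ : H)⁻¹ * (⟨g, hg⟩ : H) ^ k * ⟨a, ha⟩) * ⟨_, h2H⟩ := by
      apply Subtype.ext
      simp only [Subgroup.coe_mul, Subgroup.coe_inv, Subgroup.coe_pow]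
      group
    rw [e1, map_mul, map_mul, map_mul, map_inv, map_pow]
    have e2 : (Abelianization.of (⟨a, ha⟩ : H) : Abelianization H)⁻¹ *
        (Abelianization.of (⟨g, hg⟩ : H)) ^ k * Abelianization.of (⟨a, ha⟩ : H)
        = (Abelianization.of (⟨g, hg⟩ : H)) ^ k := by
      rw [mul_comm, ← mul_assoc, mul_inv_cancel, one_mul]
    rw [e2, mul_comm, ← mul_assoc, inv_mul_cancel, one_mul, hSdef]
    exact ⟨⟨_, h2H⟩, ⟨h2H, h2M⟩, rfl⟩
  -- transfer value
  have hV : V g * ((Abelianization.of (⟨g, hg⟩ : H) : Abelianization H) ^ H.index)⁻¹ ∈ S := by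
    haveI : Fintype (Quotient (MulAction.orbitRel (Subgroup.zpowers g) (K ⧸ H))) :=
      Fintype.ofFinite _
    rw [hVdef, MonoidHom.transfer_eq_prod_quotient_orbitRel_zpowers_quot,
      Subgroup.index_eq_sum_minimalPeriod H g, ← Finset.prod_pow_eq_pow_sum,
      ← Finset.prod_inv_distrib, ← Finset.prod_mul_distrib]
    apply Subgroup.prod_mem
    intro q _
    exact key _ _ _
  -- conclusion
  obtain ⟨j, hj⟩ := hodd
  obtain ⟨a, ha⟩ : ∃ a : Abelianization H, a = Abelianization.of (⟨g, hg⟩ : H) := ⟨_, rfl⟩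
  rw [← ha] at hV
  have ha2 : a ^ 2 ∈ S := by rw [ha]; exact hsq _
  obtain ⟨s, hs⟩ : ∃ s, s = V g * (a ^ H.index)⁻¹ := ⟨_, rfl⟩
  rw [← hs] at hV
  have hVg : V g = a * ((a ^ 2) ^ j * s) := by
    have h1 : V g = s * a ^ H.index := by rw [hs, inv_mul_cancel_right]
    rw [h1, hj, pow_succ, pow_mul]
    ac_rfl
  have hs' : (a ^ 2) ^ j * s ∈ S := S.mul_mem (S.pow_mem ha2 j) hV
  have h1 : V g ^ 2 = a ^ 2 := by rw [hVg, mul_pow, hS2 _ hs', mul_one]
  have h2 : V g ^ 2 = 1 := by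
    rw [← map_pow, ← MonoidHom.mem_ker]
    exact (sup_le (inf_le_right.trans hMV) hcV) (hP g hg)
  have h3 : a ^ 2 = 1 := h1 ▸ h2
  have h4 : (Abelianization.of ((⟨g, hg⟩ : H) ^ 2) : Abelianization H) = 1 := by
    rw [map_pow, ← ha]; exact h3
  have h5 := (hker _).1 h4
  simpa using h5

/-- Let N be a normal subgroup of the finite group G, P a Sylow 2-subgroup of G and Q = P ∩ N. Suppose that P/QP' and Q/Q' are elementary abelian (every square of an element of P lies in the subgroup generated by Q and the derived subgroup of P, and every square of an element of Q lies in the derived subgroup of Q), and that the commutator factor group N/N' has odd order. Then P/P' is elementary abelian. -/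
theorem result {G : Type*} [Group G] [Finite G] (N : Subgroup G) [N.Normal] (P : Sylow 2 G)
    (hP : ∀ x ∈ (P : Subgroup G), x ^ 2 ∈ ((P : Subgroup G) ⊓ N) ⊔ ⁅(P : Subgroup G), (P : Subgroup G)⁆)
    (hQ : ∀ x ∈ (P : Subgroup G) ⊓ N, x ^ 2 ∈ ⁅(P : Subgroup G) ⊓ N, (P : Subgroup G) ⊓ N⁆)
    (hodd : Odd (Nat.card (Abelianization N))) :
    ∀ x ∈ (P : Subgroup G), x ^ 2 ∈ ⁅(P : Subgroup G), (P : Subgroup G)⁆ := by
  classical
  obtain ⟨Pg, hPg⟩ : ∃ Pg : Subgroup G, Pg = (P : Subgroup G) := ⟨_, rfl⟩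
  rw [← hPg] at hP hQ ⊢
  obtain ⟨K, hK⟩ : ∃ K : Subgroup G, K = N ⊔ Pg := ⟨_, rfl⟩
  have hNK : N ≤ K := by rw [hK]; exact le_sup_left
  have hPK : Pg ≤ K := by rw [hK]; exact le_sup_right
  have hmapH : (Pg.subgroupOf K).map K.subtype = Pg := Subgroup.map_subgroupOf_eq_of_le hPK
  have hmapM : (N.subgroupOf K).map K.subtype = N := Subgroup.map_subgroupOf_eq_of_le hNK
  have hmapHM : (Pg.subgroupOf K ⊓ N.subgroupOf K).map K.subtype = Pg ⊓ N := by
    rw [Subgroup.map_inf _ _ _ K.subtype_injective, hmapH, hmapM]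
  have hmapc : (⁅Pg.subgroupOf K, Pg.subgroupOf K⁆).map K.subtype = ⁅Pg, Pg⁆ := by
    rw [Subgroup.map_commutator, hmapH]
  have hmapcQ : (⁅Pg.subgroupOf K ⊓ N.subgroupOf K, Pg.subgroupOf K ⊓ N.subgroupOf K⁆).map K.subtype
      = ⁅Pg ⊓ N, Pg ⊓ N⁆ := by
    rw [Subgroup.map_commutator, hmapHM]
  have c1 : IsPGroup 2 (Pg.subgroupOf K) := by
    rw [hPg]; exact P.isPGroup'.comap_subtype
  have c2 : Odd (Pg.subgroupOf K).index := by
    have h1 : (Pg.subgroupOf K).index = Pg.relIndex K := rfl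
    have h2 : Pg.relIndex K ∣ Pg.index := Dvd.intro _ (Subgroup.relIndex_mul_index hPK)
    have h3 : ¬ 2 ∣ Pg.index := by rw [hPg]; exact P.not_dvd_index
    rw [h1, ← Nat.not_even_iff_odd, even_iff_two_dvd]
    exact fun h => h3 (h.trans h2)
  have c3 : ∀ k : K, ∃ m ∈ N.subgroupOf K, ∃ a ∈ Pg.subgroupOf K, k = m * a := by
    rintro ⟨k, hk⟩
    have hk' : k ∈ N ⊔ Pg := by rw [← hK]; exact hk
    obtain ⟨n, hn, a, ha, hna⟩ := Subgroup.mem_sup_of_normal_left.1 hk'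
    exact ⟨⟨n, hNK hn⟩, hn, ⟨a, hPK ha⟩, ha, Subtype.ext hna.symm⟩
  have c4 : ∀ x ∈ Pg.subgroupOf K, x ^ 2 ∈ (Pg.subgroupOf K ⊓ N.subgroupOf K) ⊔
      ⁅Pg.subgroupOf K, Pg.subgroupOf K⁆ := by
    rintro ⟨x, hxK⟩ hx
    have h1 := hP x hx
    rw [← hmapHM, ← hmapc, ← Subgroup.map_sup] at h1
    obtain ⟨y, hy, he⟩ := h1
    have hyx : y = ⟨x, hxK⟩ ^ 2 := Subtype.ext (by simpa using he)
    rw [← hyx]; exact hy
  have c5 : ∀ x ∈ Pg.subgroupOf K ⊓ N.subgroupOf K, x ^ 2 ∈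
      ⁅Pg.subgroupOf K ⊓ N.subgroupOf K, Pg.subgroupOf K ⊓ N.subgroupOf K⁆ := by
    rintro ⟨x, hxK⟩ hx
    have hx' : x ∈ Pg ⊓ N := hx
    have h1 := hQ x hx'
    rw [← hmapcQ] at h1
    obtain ⟨y, hy, he⟩ := h1
    have hyx : y = ⟨x, hxK⟩ ^ 2 := Subtype.ext (by simpa using he)
    rw [← hyx]; exact hy
  have c6 : Odd (Nat.card (Abelianization (N.subgroupOf K))) := by
    have e : N.subgroupOf K ≃* N := Subgroup.subgroupOfEquivOfLe hNK
    rw [Nat.card_congr e.abelianizationCongr.toEquiv]; exact hodd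
  have key := core (N.subgroupOf K) (Pg.subgroupOf K) c1 c2 c3 c4 c5 c6
  intro x hx
  have hxK : x ∈ K := hPK hx
  have h1 := key ⟨x, hxK⟩ hx
  rw [← hmapc]
  exact ⟨_, h1, by simp⟩

end Cfsg.Agent.S4582
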