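import Cfsg.Statements.S4584
import Cfsg.Agent.S3807
import Cfsg.Agent.Lib.Helper2.NilpotentBasic
import Cfsg.Agent.Lib.Helper24.Extraspecial

set_option autoImplicit false
open Cfsg

namespace Cfsg.Agent.S4584

/-- Let p be a prime and P a group of order p^4. Then the derived subgroup P' has order p if and only if the centre Z(P) has index p^2 in P. -/
theorem result {P : Type*} [Group P] [Finite P] (p : ℕ) [Fact p.Prime] (hP : Nat.card P = p ^ 4) :
    Nat.card (commutator P) = p ↔ (Subgroup.center P).index = p ^ 2 := by
  classical
  have hp : p.Prime := Fact.out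
  have hS : IsPGroup p P := IsPGroup.of_card hP
  haveI : Group.IsNilpotent P := hS.isNilpotent
  have hcard_pos : 0 < Nat.card P := Nat.card_pos
  -- abelian ⇒ commutator trivial
  have hab : (∀ a b : P, a * b = b * a) → Nat.card (commutator P) = 1 := by
    intro h
    have : commutator P = ⊥ := by
      rw [commutator_def, eq_bot_iff, Subgroup.commutator_le]
      intro a _ b _
      rw [Subgroup.mem_bot, commutatorElement_eq_one_iff_mul_comm]
      exact h a b
    rw [this]; exact Subgroup.card_bot
  -- cyclic central quotient ⇒ abelian
  have hcyc : (Subgroup.center P).index = 1 ∨ (Subgroup.center P).index = p →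
      ∀ a b : P, a * b = b * a := by
    intro h
    haveI : IsCyclic (P ⧸ Subgroup.center P) := by
      rcases h with h | h
      · have h1 : Nat.card (P ⧸ Subgroup.center P) = 1 := h
        haveI : Subsingleton (P ⧸ Subgroup.center P) := (Nat.card_eq_one_iff_unique.mp h1).1
        infer_instance
      · have h1 : Nat.card (P ⧸ Subgroup.center P) = p := h
        exact isCyclic_of_prime_card h1
    exact commutative_of_cyclic_center_quotient (QuotientGroup.mk' (Subgroup.center P))
      (by rw [QuotientGroup.ker_mk'])
  constructor
  · -- (⇒)
    intro h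
    have hne : commutator P ≠ ⊥ := by
      intro h0
      rw [h0, Subgroup.card_bot] at h
      exact hp.one_lt.ne h
    have h1 := Cfsg.Agent.Lib.Helper2.normal_inf_center_ne_bot (commutator P) hne
    have hle : commutator P ≤ Subgroup.center P := by
      have hdvd : Nat.card (commutator P ⊓ Subgroup.center P : Subgroup P) ∣ p := by
        rw [← h]; exact Subgroup.card_dvd_of_le inf_le_left
      rcases (Nat.dvd_prime hp).mp hdvd with h2 | h2
      · exact absurd (Subgroup.card_eq_one.mp h2) h1
      · have h3 : commutator P ⊓ Subgroup.center P = commutator P :=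
          Subgroup.eq_of_le_of_card_ge inf_le_left (by rw [h2, h])
        rw [← h3]; exact inf_le_right
    have hc : ∀ a b : P, a * b * a⁻¹ * b⁻¹ ∈ Subgroup.center P := by
      intro a b
      apply hle
      rw [commutator_def]
      exact Subgroup.commutator_mem_commutator (Subgroup.mem_top a) (Subgroup.mem_top b)
    have hmul := Subgroup.card_mul_index (Subgroup.center P)
    rw [hP] at hmul
    have hdvd : Nat.card (Subgroup.center P) ∣ p ^ 4 := Dvd.intro _ hmul
    obtain ⟨k, hk4, hk⟩ := (Nat.dvd_prime_pow hp).mp hdvd
    have hppos : 0 < p := hp.pos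
    interval_cases k
    · -- |Z| = 1
      exfalso
      rw [pow_zero] at hk
      have hZ : Subgroup.center P = ⊥ := Subgroup.card_eq_one.mp hk
      rw [hZ, le_bot_iff] at hle
      exact hne hle
    · -- |Z| = p : extraspecial, impossible
      exfalso
      rw [pow_one] at hk
      obtain ⟨n, hn⟩ := Cfsg.Agent.Lib.Helper24.card_eq_prime_pow_odd p _ P rfl hk hc
      rw [hP] at hn
      have := Nat.pow_right_injective hp.two_le hn
      omega
    · -- |Z| = p^2
      rw [hk] at hmul
      have : p ^ 2 * (Subgroup.center P).index = p ^ 2 * p ^ 2 := by rw [hmul]; ring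
      exact Nat.eq_of_mul_eq_mul_left (pow_pos hppos 2) this
    · exfalso
      rw [hk] at hmul
      have : p ^ 3 * (Subgroup.center P).index = p ^ 3 * p := by rw [hmul]; ring
      have hi := Nat.eq_of_mul_eq_mul_left (pow_pos hppos 3) this
      have := hab (hcyc (Or.inr hi))
      rw [h] at this
      exact hp.one_lt.ne' this
    · exfalso
      rw [hk] at hmul
      have : p ^ 4 * (Subgroup.center P).index = p ^ 4 * 1 := by rw [hmul]; ring
      have hi := Nat.eq_of_mul_eq_mul_left (pow_pos hppos 4) this
      have := hab (hcyc (Or.inl hi))
      rw [h] at this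
      exact hp.one_lt.ne' this
  · -- (⇐)
    intro hZ
    have hna : ¬ IsMulCommutative P := by
      intro hcomm
      have hc : Subgroup.center P = ⊤ := by
        rw [eq_top_iff]
        intro x _
        rw [Subgroup.mem_center_iff]
        intro g
        exact hcomm.is_comm.comm g x
      rw [hc, Subgroup.index_top] at hZ
      have : 1 < p ^ 2 := Nat.one_lt_pow (by norm_num) hp.one_lt
      omega
    have hex : ∃ a : P, a ∉ Subgroup.center P := by
      by_contra hcon
      push_neg at hcon
      apply hna
      refine ⟨⟨fun a b => ?_⟩⟩
      exact (Subgroup.mem_center_iff.mp (hcon b) a)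
    obtain ⟨a, ha⟩ := hex
    set A : Subgroup P := Subgroup.center P ⊔ Subgroup.zpowers a with hAdef
    have hA : IsMulCommutative A := by
      rw [← Subgroup.le_centralizer_iff_isMulCommutative]
      have hZc : ∀ K : Subgroup P, Subgroup.center P ≤ Subgroup.centralizer (K : Set P) :=
        fun K => Subgroup.center_le_centralizer _
      apply sup_le (hZc A)
      rw [Subgroup.le_centralizer_iff]
      apply sup_le (hZc _)
      rw [Subgroup.le_centralizer_iff_isMulCommutative]
      infer_instance
    have hZA : Subgroup.center P ≤ A := le_sup_left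
    have haA : a ∈ A := le_sup_right (a := Subgroup.center P) (Subgroup.mem_zpowers a)
    have hrel := Subgroup.relIndex_mul_index hZA
    rw [hZ] at hrel
    have hr1 : (Subgroup.center P).relIndex A ≠ 1 := by
      intro h
      rw [Subgroup.relIndex_eq_one] at h
      exact ha (h haA)
    have hi1 : A.index ≠ 1 := by
      intro h
      rw [Subgroup.index_eq_one] at h
      apply hna
      refine ⟨⟨fun x y => ?_⟩⟩
      have hx : x ∈ A := by rw [h]; trivial
      have hy : y ∈ A := by rw [h]; trivial
      have := hA.is_comm.comm ⟨x, hx⟩ ⟨y, hy⟩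
      exact congrArg Subtype.val this
    have hAi : A.index = p := ((Nat.Prime.mul_eq_prime_sq_iff hp hr1 hi1).mp hrel).2
    have h3 := (Cfsg.Agent.S3807.result p hS hna A hA hAi).1
    rw [hZ] at h3
    have : p * p = p * Nat.card (commutator P) := by rw [← h3]; ring
    exact (Nat.eq_of_mul_eq_mul_left hp.pos this).symm

end Cfsg.Agent.S4584
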