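import Cfsg.Statements.S4585
import Cfsg.Agent.S4584
import Cfsg.Agent.Lib.Helper17.LowerCentral
open Cfsg.Agent.Lib.Helper17

set_option autoImplicit false
open Cfsg

namespace Cfsg.Agent.S4585

/-- Let p be a prime and P a group of order p^4. Then P' has index p^2 in P if and only if P has maximal nilpotency class, that is, nilpotency class exactly 3. -/
theorem result {P : Type*} [Group P] [Finite P] (p : ℕ) [Fact p.Prime] (hP : Nat.card P = p ^ 4) :
    (commutator P).index = p ^ 2 ↔ Group.nilpotencyClass P = 3 := by
  classical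
  have hp : p.Prime := Fact.out
  have hS : IsPGroup p P := IsPGroup.of_card hP
  haveI : Group.IsNilpotent P := hS.isNilpotent
  have hppos : 0 < p := hp.pos
  have hpow : ∀ H : Subgroup P, ∃ k ≤ 4, Nat.card H = p ^ k := by
    intro H
    have : Nat.card H ∣ p ^ 4 := by rw [← hP]; exact Subgroup.card_subgroup_dvd_card H
    exact (Nat.dvd_prime_pow hp).mp this
  have hlt : ∀ H K : Subgroup P, H < K → Nat.card H < Nat.card K := by
    intro H K hHK
    apply lt_of_le_of_ne (Subgroup.card_le_of_le hHK.le)
    intro h
    exact hHK.ne (Subgroup.eq_of_le_of_card_ge hHK.le h.ge)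
  have hmul := Subgroup.card_mul_index (commutator P)
  rw [hP] at hmul
  have h1 : Subgroup.lowerCentralSeries (⊤ : Subgroup P) 1 = commutator P := rfl
  have hclass : Group.nilpotencyClass P = 3 ↔
      Subgroup.lowerCentralSeries (⊤ : Subgroup P) 3 = ⊥ ∧
        Subgroup.lowerCentralSeries (⊤ : Subgroup P) 2 ≠ ⊥ := by
    rw [Subgroup.lowerCentralSeries_eq_bot_iff_nilpotencyClass_le, Ne,
      Subgroup.lowerCentralSeries_eq_bot_iff_nilpotencyClass_le]
    omega
  -- abelian ⇒ commutator trivial
  have hab : (∀ a b : P, a * b = b * a) → commutator P = ⊥ := by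
    intro h
    rw [commutator_def, eq_bot_iff, Subgroup.commutator_le]
    intro a _ b _
    rw [Subgroup.mem_bot, commutatorElement_eq_one_iff_mul_comm]
    exact h a b
  have hcyc : (Subgroup.center P).index = 1 ∨ (Subgroup.center P).index = p →
      ∀ a b : P, a * b = b * a := by
    intro h
    haveI : IsCyclic (P ⧸ Subgroup.center P) := by
      rcases h with h | h
      · have h1 : Nat.card (P ⧸ Subgroup.center P) = 1 := h
        haveI : Subsingleton (P ⧸ Subgroup.center P) := (Nat.card_eq_one_iff_unique.mp h1).1
        infer_instance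
      · have h1 : Nat.card (P ⧸ Subgroup.center P) = p := h
        exact isCyclic_of_prime_card h1
    exact commutative_of_cyclic_center_quotient (QuotientGroup.mk' (Subgroup.center P))
      (by rw [QuotientGroup.ker_mk'])
  rw [hclass]
  constructor
  · -- (⇒)
    intro h
    rw [h] at hmul
    have hcP : Nat.card (commutator P) = p ^ 2 := by
      have : Nat.card (commutator P) * p ^ 2 = p ^ 2 * p ^ 2 := by rw [hmul]; ring
      exact Nat.eq_of_mul_eq_mul_right (pow_pos hppos 2) this
    have hne1 : Subgroup.lowerCentralSeries (⊤ : Subgroup P) 1 ≠ ⊥ := by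
      rw [h1]
      intro h0
      rw [h0, Subgroup.card_bot] at hcP
      have : 1 < p ^ 2 := Nat.one_lt_pow (by norm_num) hp.one_lt
      omega
    have hne2 : Subgroup.lowerCentralSeries (⊤ : Subgroup P) 2 ≠ ⊥ := by
      intro h0
      have h2 : ⁅commutator P, (⊤ : Subgroup P)⁆ = ⊥ := h0
      rw [Subgroup.commutator_eq_bot_iff_le_centralizer, Subgroup.coe_top,
        Subgroup.centralizer_univ] at h2
      have hdvd : (Subgroup.center P).index ∣ p ^ 2 := by
        rw [← h]; exact Subgroup.index_dvd_of_le h2
      obtain ⟨k, hk2, hk⟩ := (Nat.dvd_prime_pow hp).mp hdvd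
      interval_cases k
      · have := hab (hcyc (Or.inl (by rw [hk, pow_zero])))
        rw [h1] at hne1
        exact hne1 this
      · have := hab (hcyc (Or.inr (by rw [hk, pow_one])))
        rw [h1] at hne1
        exact hne1 this
      · have h4 := (Cfsg.Agent.S4584.result p hP).mpr hk
        rw [hcP] at h4
        have h3 : p * p = p * 1 := by rw [mul_one, ← sq]; exact h4
        have := Nat.eq_of_mul_eq_mul_left hppos h3
        exact hp.one_lt.ne' this
    refine ⟨?_, hne2⟩
    have hlt2 := hlt _ _ (lowerCentralSeries_succ_lt (G := P) 1 hne1)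
    have hlt3 := hlt _ _ (lowerCentralSeries_succ_lt (G := P) 2 hne2)
    rw [h1, hcP] at hlt2
    obtain ⟨a, _, ha⟩ := hpow (Subgroup.lowerCentralSeries (⊤ : Subgroup P) 2)
    obtain ⟨b, _, hb⟩ := hpow (Subgroup.lowerCentralSeries (⊤ : Subgroup P) 3)
    rw [ha] at hlt2 hlt3
    rw [hb] at hlt3
    have ha2 : a < 2 := (Nat.pow_lt_pow_iff_right hp.one_lt).mp hlt2
    have hba : b < a := (Nat.pow_lt_pow_iff_right hp.one_lt).mp hlt3
    have hb0 : b = 0 := by omega
    rw [hb0, pow_zero] at hb
    exact Subgroup.card_eq_one.mp hb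
  · -- (⇐)
    rintro ⟨h3, hne2⟩
    have hne1 : Subgroup.lowerCentralSeries (⊤ : Subgroup P) 1 ≠ ⊥ := by
      intro h0
      apply hne2
      have := Subgroup.lowerCentralSeries_antitone (⊤ : Subgroup P) (show 1 ≤ 2 by norm_num)
      rw [h0] at this
      exact le_bot_iff.mp this
    have hlt2 := hlt _ _ (lowerCentralSeries_succ_lt (G := P) 1 hne1)
    obtain ⟨a, _, ha⟩ := hpow (Subgroup.lowerCentralSeries (⊤ : Subgroup P) 2)
    obtain ⟨b, hb4, hb⟩ := hpow (commutator P)
    rw [h1, ha, hb] at hlt2
    have hab' : a < b := (Nat.pow_lt_pow_iff_right hp.one_lt).mp hlt2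
    have ha0 : a ≠ 0 := by
      rintro rfl
      rw [pow_zero] at ha
      exact hne2 (Subgroup.card_eq_one.mp ha)
    rw [hb] at hmul
    have hidx : (commutator P).index = p ^ (4 - b) := by
      have : p ^ b * (commutator P).index = p ^ b * p ^ (4 - b) := by
        rw [hmul, ← pow_add]; congr 1; omega
      exact Nat.eq_of_mul_eq_mul_left (pow_pos hppos b) this
    have hb2 : b ≤ 2 := by
      by_contra hcon
      push_neg at hcon
      have hcases : 4 - b = 0 ∨ 4 - b = 1 := by omega
      haveI : IsCyclic (P ⧸ commutator P) := by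
        rcases hcases with h | h
        · have h1' : Nat.card (P ⧸ commutator P) = 1 := by
            have : (commutator P).index = 1 := by rw [hidx, h, pow_zero]
            exact this
          haveI : Subsingleton (P ⧸ commutator P) := (Nat.card_eq_one_iff_unique.mp h1').1
          infer_instance
        · have h1' : Nat.card (P ⧸ commutator P) = p := by
            have : (commutator P).index = p := by rw [hidx, h, pow_one]
            exact this
          exact isCyclic_of_prime_card h1'
      have := commutator_eq_bot_of_isCyclic_quotient (G := P)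
      rw [h1] at hne1
      exact hne1 this
    have hb2' : b = 2 := by omega
    rw [hidx, hb2']

end Cfsg.Agent.S4585
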