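import Cfsg.Statements.S4586
import Cfsg.Agent.Lib.Helper17.AbelianizationIndexP
open Cfsg.Agent.Lib.Helper17

set_option autoImplicit false
open Cfsg

namespace Cfsg.Agent.S4586

/-- Let p be a prime, P a finite p-group and N a normal subgroup of P of index p. For x ∈ P write c(x) for the number of elements n of N whose commutator x n x⁻¹ n⁻¹ lies in the derived subgroup N' (so c(x)/#N' is the order of the centralizer of x acting on N/N'). Then [P : P'] = p² if and only if c(x) = p·#N' for every x ∈ P outside N, and also if and only if c(x) = p·#N' for some x ∈ P outside N. -/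
theorem result {P : Type*} [Group P] [Finite P] (p : ℕ) [Fact p.Prime] (hP : IsPGroup p P) (N : Subgroup P) [N.Normal] (hN : N.index = p) :
    ((commutator P).index = p ^ 2 ↔ ∀ x : P, x ∉ N →
        Nat.card {n : N // x * n * x⁻¹ * (n : P)⁻¹ ∈ (commutator N).map N.subtype} = p * Nat.card (commutator N)) ∧
    ((commutator P).index = p ^ 2 ↔ ∃ x : P, x ∉ N ∧
        Nat.card {n : N // x * n * x⁻¹ * (n : P)⁻¹ ∈ (commutator N).map N.subtype} = p * Nat.card (commutator N)) := by
  haveI hpp : Fact p.Prime := inferInstance
  have hp := hpp.out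
  -- for x ∉ N, N ⊔ zpowers x = ⊤
  have hsup : ∀ x : P, x ∉ N → N ⊔ Subgroup.zpowers x = ⊤ := by
    intro x hx
    have hmax : IsCoatom N := by
      constructor
      · intro h
        rw [h, Subgroup.index_top] at hN
        exact hp.one_lt.ne hN
      · intro K hK
        have h1 : K.index ∣ p := hN ▸ Subgroup.index_dvd_of_le hK.le
        rcases (Nat.dvd_prime hp).mp h1 with h | h
        · exact Subgroup.index_eq_one.mp h
        · exfalso
          have h2 := Subgroup.relIndex_mul_index hK.le
          rw [hN, h] at h2
          have h3 : N.relIndex K = 1 := by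
            have h4 : N.relIndex K * p = 1 * p := by rw [h2, one_mul]
            exact Nat.eq_of_mul_eq_mul_right hp.pos h4
          exact hK.not_ge (Subgroup.relIndex_eq_one.mp h3)
    by_contra hne
    have hlt : N < N ⊔ Subgroup.zpowers x := by
      refine lt_of_le_of_ne le_sup_left ?_
      intro h
      apply hx
      have : Subgroup.zpowers x ≤ N := h ▸ le_sup_right
      exact this (Subgroup.mem_zpowers x)
    exact hne (hmax.2 _ hlt)
  have key : ∀ x : P, x ∉ N → ((commutator P).index = p ^ 2 ↔
      Nat.card {n : N // x * n * x⁻¹ * (n : P)⁻¹ ∈ (commutator N).map N.subtype} =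
        p * Nat.card (commutator N)) := by
    intro x hx
    have h := index_commutator_mul_card N x (hsup x hx)
    rw [hN] at h
    have hcpos : 0 < Nat.card (commutator N) := Nat.card_pos
    constructor
    · intro h2
      rw [h2] at h
      have : p * (p * Nat.card (commutator N)) = p * Nat.card {n : N // x * n * x⁻¹ * (n : P)⁻¹ ∈ (commutator N).map N.subtype} := by
        rw [← h]; ring
      exact (Nat.eq_of_mul_eq_mul_left hp.pos this).symm
    · intro h2
      rw [h2] at h
      apply Nat.eq_of_mul_eq_mul_right hcpos
      rw [h]; ring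
  have hex : ∃ x : P, x ∉ N := by
    by_contra hcon
    push_neg at hcon
    have : N = ⊤ := (Subgroup.eq_top_iff' N).2 hcon
    rw [this, Subgroup.index_top] at hN
    exact hp.one_lt.ne hN
  refine ⟨⟨fun h x hx => (key x hx).1 h, fun h => ?_⟩, ⟨fun h => ?_, ?_⟩⟩
  · obtain ⟨x, hx⟩ := hex
    exact (key x hx).2 (h x hx)
  · obtain ⟨x, hx⟩ := hex
    exact ⟨x, hx, (key x hx).1 h⟩
  · rintro ⟨x, hx, h⟩
    exact (key x hx).2 h

end Cfsg.Agent.S4586
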