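import Cfsg.Statements.S4602
import Mathlib
import Cfsg.Agent.Lib.Helper2.Cores
import Cfsg.Agent.Lib.Helper3.PSolvable
-- import your own Cfsg.Agent.* helpers here

set_option autoImplicit false
open Cfsg

namespace Cfsg.Agent.S4602

/-- Let G be a finite p-solvable group and q a prime different from p. Some Sylow p-subgroup of G normalizes some Sylow q-subgroup of G if and only if q does not divide the order of G/O_{p'}(G), the quotient by the largest normal subgroup of order prime to p. -/
theorem result {G : Type*} [Group G] [Finite G] (p q : ℕ) [Fact p.Prime] [Fact q.Prime] (hpq : p ≠ q) (hsolv : Cfsg.IsPSolvable p G) :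
    (∃ (P : Sylow p G) (Q : Sylow q G), (P : Subgroup G) ≤ Subgroup.normalizer ((Q : Subgroup G) : Set G)) ↔ ¬ q ∣ (Cfsg.pPrimeCore p G).index := by
  classical
  have hp : p.Prime := Fact.out
  have hq : q.Prime := Fact.out
  set K := Cfsg.pPrimeCore p G with hK
  constructor
  · rintro ⟨P, Q, hPQ⟩
    set f := QuotientGroup.mk' K with hf
    have hfs : Function.Surjective f := QuotientGroup.mk'_surjective K
    have hsolq : Cfsg.IsPSolvable p (G ⧸ K) := Cfsg.Agent.Lib.Helper3.isPSolvable_quotient hp hsolv K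
    have hbot : Cfsg.pPrimeCore p (G ⧸ K) = ⊥ :=
      Cfsg.Agent.Lib.Helper3.pPrimeCore_quotient_pPrimeCore (G := G) p
    have hHH := Cfsg.Agent.Lib.Helper3.centralizer_pCore_le hsolq hbot
    set R := Cfsg.pCore p (G ⧸ K) with hR
    have hRn : R.Normal := Cfsg.Agent.Lib.Helper2.pCore_normal p
    have hRp : IsPGroup p R := Cfsg.Agent.Lib.Helper2.pCore_isPGroup p
    have hRP : R ≤ (P : Subgroup G).map f :=
      Cfsg.Agent.Lib.Helper2.pCore_le_sylow p (P.mapSurjective hfs)
    set Qb := (Q : Subgroup G).map f with hQb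
    have hQbq : IsPGroup q Qb := Q.2.map f
    have hdisj : Disjoint R Qb := IsPGroup.disjoint_of_ne p q hpq R Qb hRp hQbq
    have hcent : Qb ≤ Subgroup.centralizer (R : Set (G ⧸ K)) := by
      intro y hy
      rw [Subgroup.mem_centralizer_iff]
      intro r hr
      obtain ⟨x, hx, hxr⟩ := hRP hr
      obtain ⟨z, hz, hzy⟩ := hy
      have hxN := hPQ hx
      have h1 : r * y * r⁻¹ ∈ Qb := by
        refine ⟨x * z * x⁻¹, (Subgroup.mem_normalizer_iff.mp hxN z).mp hz, ?_⟩
        rw [map_mul, map_mul, map_inv, hxr, hzy]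
      have h2 : r * y * r⁻¹ * y⁻¹ ∈ Qb := mul_mem h1 (inv_mem ⟨z, hz, hzy⟩)
      have h3 : r * y * r⁻¹ * y⁻¹ ∈ R := by
        have : r * (y * r⁻¹ * y⁻¹) ∈ R := mul_mem hr (hRn.conj_mem _ (inv_mem hr) _)
        simpa [mul_assoc] using this
      have h4 : r * y * r⁻¹ * y⁻¹ = 1 := by
        have := hdisj.le_bot (Subgroup.mem_inf.mpr ⟨h3, h2⟩)
        exact Subgroup.mem_bot.mp this
      calc r * y = (r * y * r⁻¹ * y⁻¹) * (y * r) := by group
        _ = y * r := by rw [h4, one_mul]
    have hQR : Qb ≤ R := hcent.trans hHH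
    have hQbot : Qb = ⊥ := by
      rw [eq_bot_iff]
      intro y hy
      exact hdisj.le_bot (Subgroup.mem_inf.mpr ⟨hQR hy, hy⟩)
    have hQK : (Q : Subgroup G) ≤ K := by
      intro x hx
      have : f x ∈ Qb := ⟨x, hx, rfl⟩
      rw [hQbot, Subgroup.mem_bot] at this
      exact (QuotientGroup.eq_one_iff x).mp this
    intro hdvd
    exact Q.not_dvd_index (hdvd.trans (Subgroup.index_dvd_of_le hQK))
  · intro hqK
    obtain Q0 : Sylow q ↥K := default
    set Qm := (Q0 : Subgroup K).map K.subtype with hQm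
    have hfr : Subgroup.normalizer ((Qm : Subgroup G) : Set G) ⊔ K = ⊤ :=
      Sylow.normalizer_sup_eq_top Q0
    have hcardpos : Nat.card G ≠ 0 := Nat.card_pos.ne'
    have hcardQm : Nat.card Qm = q ^ (Nat.card G).factorization q := by
      rw [hQm, Subgroup.card_map_of_injective K.subtype_injective, Q0.card_eq_multiplicity]
      congr 1
      exact (Cfsg.Agent.Lib.Helper3.factorization_of_mul_of_not_dvd K.card_mul_index hcardpos hqK).symm
    set M := Subgroup.normalizer ((Qm : Subgroup G) : Set G) with hM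
    have hidx : M.index ∣ Nat.card K :=
      Cfsg.Agent.Lib.Helper3.index_dvd_card_of_sup_eq_top' K M hfr
    have hcop : (Nat.card K).Coprime p := Cfsg.Agent.Lib.Helper2.pPrimeCore_coprime p
    have hpM : ¬ p ∣ M.index := by
      intro h
      have := (Nat.Prime.coprime_iff_not_dvd hp).mp hcop.symm
      exact this (h.trans hidx)
    obtain P0 : Sylow p ↥M := default
    set Pm := (P0 : Subgroup M).map M.subtype with hPm
    have hcardPm : Nat.card Pm = p ^ (Nat.card G).factorization p := by
      rw [hPm, Subgroup.card_map_of_injective M.subtype_injective, P0.card_eq_multiplicity]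
      congr 1
      exact (Cfsg.Agent.Lib.Helper3.factorization_of_mul_of_not_dvd M.card_mul_index hcardpos hpM).symm
    refine ⟨Sylow.ofCard Pm hcardPm, Sylow.ofCard Qm hcardQm, ?_⟩
    rw [Sylow.coe_ofCard, Sylow.coe_ofCard]
    rintro _ ⟨y, _, rfl⟩
    exact y.2

end Cfsg.Agent.S4602
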