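import Cfsg.Statements.S4604
import Cfsg.Agent.S0876
import Cfsg.Agent.Lib.Helper28.FrobCong

set_option autoImplicit false
open Cfsg

namespace Cfsg.Agent.S4604

open Cfsg.Agent.Lib.Helper28 Cfsg.Agent.Lib.Helper4 in
/-- Let G be a finite group, p a prime and p^a the p-part of the order of G. Let x, y ∈ G and let x′, y′ be their p-regular parts: x′ has order prime to p, commutes with x·x′⁻¹, and x·x′⁻¹ has p-power order (likewise for y). Then x′ and y′ are conjugate in G if and only if for every irreducible character χ of G the algebraic integer χ(x)^(p^a) − χ(y)^(p^a) is p times an algebraic integer. -/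
theorem result {G : Type*} [Group G] [Finite G] (p : ℕ) [Fact p.Prime] (x y x' y' : G)
    (hx : (∃ k : ℕ, orderOf (x * x'⁻¹) = p ^ k) ∧ Commute (x * x'⁻¹) x' ∧ ¬ p ∣ orderOf x')
    (hy : (∃ k : ℕ, orderOf (y * y'⁻¹) = p ^ k) ∧ Commute (y * y'⁻¹) y' ∧ ¬ p ∣ orderOf y') :
    IsConj x' y' ↔ ∀ χ : Cfsg.IrrCharacter G, ∃ γ : Cfsg.AlgInt,
      (χ : G → ℂ) x ^ (p ^ (Nat.card G).factorization p) - (χ : G → ℂ) y ^ (p ^ (Nat.card G).factorization p) = (p : ℂ) * (γ : ℂ) := by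
  classical
  have hp : p.Prime := Fact.out
  obtain ⟨⟨kx, hkx⟩, hcx, hpx⟩ := hx
  obtain ⟨⟨ky, hky⟩, hcy, hpy⟩ := hy
  obtain ⟨a, ha⟩ : ∃ a : ℕ, a = (Nat.card G).factorization p := ⟨_, rfl⟩
  rw [← ha]
  have hpel : ∀ (u : G) (k : ℕ), orderOf u = p ^ k → u ^ (p ^ a) = 1 := by
    intro u k hk
    apply orderOf_dvd_iff_pow_eq_one.mp
    rw [hk, ha]
    have h1 : p ^ k ∣ Nat.card G := hk ▸ orderOf_dvd_natCard u
    exact pow_dvd_pow p ((hp.pow_dvd_iff_le_factorization Nat.card_pos.ne').mp h1)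
  have hxq : x ^ (p ^ a) = x' ^ (p ^ a) := by
    have h1 : x = (x * x'⁻¹) * x' := by group
    conv_lhs => rw [h1]
    rw [hcx.mul_pow, hpel _ kx hkx, one_mul]
  have hyq : y ^ (p ^ a) = y' ^ (p ^ a) := by
    have h1 : y = (y * y'⁻¹) * y' := by group
    conv_lhs => rw [h1]
    rw [hcy.mul_pow, hpel _ ky hky, one_mul]
  constructor
  · intro hconj χ
    obtain ⟨n, ρ, _, hρ⟩ := χ.2
    obtain ⟨γ₁, h1⟩ := character_pow_prime_pow_sub ρ hp a x
    obtain ⟨γ₂, h2⟩ := character_pow_prime_pow_sub ρ hp a y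
    have h3 : ρ.character (x ^ (p ^ a)) = ρ.character (y ^ (p ^ a)) := by
      rw [hxq, hyq]
      obtain ⟨c, hc⟩ := isConj_iff.mp hconj
      rw [← hc, conj_pow]
      exact (Representation.char_conj ρ _ c).symm
    refine ⟨γ₁ - γ₂, ?_⟩
    rw [← hρ]
    push_cast
    rw [mul_sub, ← h1, ← h2, h3]
    ring
  · intro hall
    obtain ⟨M, hM⟩ := exists_isPModular hp
    have hprime : M.IsPrime := hM.2.1.isPrime
    have hax : IsPPart p x (x * x'⁻¹) := ⟨x', by group, hcx, ⟨kx, hkx⟩, hpx⟩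
    have hby : IsPPart p y (y * y'⁻¹) := ⟨y', by group, hcy, ⟨ky, hky⟩, hpy⟩
    have e1 : (x * x'⁻¹)⁻¹ * x = x' := by group
    have e2 : (y * y'⁻¹)⁻¹ * y = y' := by group
    have key := (Cfsg.Agent.S0876.result p M hM x y _ _ hax hby).mpr ?_
    · rw [e1, e2] at key
      exact key
    · intro χ
      obtain ⟨γ, hγ⟩ := hall χ
      obtain ⟨n, ρ, _, hρ⟩ := χ.2
      have hux : IsIntegral ℤ ((χ : G → ℂ) x) := by rw [← hρ]; exact character_isIntegral ρ x
      have hvy : IsIntegral ℤ ((χ : G → ℂ) y) := by rw [← hρ]; exact character_isIntegral ρ y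
      obtain ⟨u, hu⟩ : ∃ u : AlgInt, (u : ℂ) = (χ : G → ℂ) x := ⟨⟨_, hux⟩, rfl⟩
      obtain ⟨v, hv⟩ : ∃ v : AlgInt, (v : ℂ) = (χ : G → ℂ) y := ⟨⟨_, hvy⟩, rfl⟩
      have h1 : u ^ (p ^ a) - v ^ (p ^ a) = ((p : ℕ) : AlgInt) * γ := by
        apply Subtype.ext
        push_cast
        rw [hu, hv]
        exact hγ
      obtain ⟨r, hr⟩ := exists_add_pow_prime_pow_eq hp (u - v) v a
      have h2 : (u - v) ^ (p ^ a) = ((p : ℕ) : AlgInt) * (γ - (u - v) * v * r) := by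
        have h3 : u ^ (p ^ a) = (u - v) ^ (p ^ a) + v ^ (p ^ a) + (p : AlgInt) * (u - v) * v * r := by
          rw [← hr]; ring_nf
        linear_combination h1 - h3
      have h3 : (u - v) ^ (p ^ a) ∈ M := by
        rw [h2]
        exact M.mul_mem_right _ hM.2.2
      have h4 : u - v ∈ M := hprime.mem_of_pow_mem _ h3
      have h5 := memLocalIdeal_of_mem hM.2.1.ne_top h4
      rw [← hu, ← hv]
      simpa using h5

end Cfsg.Agent.S4604
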