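import Cfsg.Statements.S4611
import Cfsg.Agent.Lib.Helper4.PSolvPrincipal
import Cfsg.Agent.Lib.Lead.PSolvOfSolv
import Cfsg.Agent.Lib.Helper4.Deflate

set_option autoImplicit false
open Cfsg

namespace Cfsg.Agent.S4611

/-- Let G be a finite solvable group and π a nonempty set of primes, each dividing the order of G; fix for each p in π a maximal ideal M p of the algebraic integers containing p. Then the only irreducible character lying in the principal p-block for every p in π is the principal character if and only if G is generated by the subgroups O_{p'}(G), p in π (the largest normal subgroups of order prime to p). -/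
theorem result {G : Type*} [Group G] [Finite G] [Group.IsSolvable G] (π : Set ℕ) (hπ : ∀ p ∈ π, p.Prime ∧ p ∣ Nat.card G) (hne : π.Nonempty) (M : ℕ → Ideal Cfsg.AlgInt) (hM : ∀ p ∈ π, Cfsg.IsPModular p (M p)) :
    (∀ χ : Cfsg.IrrCharacter G, (∀ p ∈ π, χ ∈ Cfsg.principalBlock (M p) G) → (χ : G → ℂ) = fun _ => 1) ↔
      ⨆ p ∈ π, Cfsg.pPrimeCore p G = ⊤ := by
  classical
  open Cfsg.Agent.Lib.Helper4 Cfsg.Agent.Lib.Helper28 Cfsg.Agent.Lib.Helper26 in
  have : Fintype G := Fintype.ofFinite G
  have : Fintype (IrrCharacter G) := Fintype.ofFinite _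
  have hsolv : Group.IsSolvable G := inferInstance
  have hF : ∀ p ∈ π, ∀ χ : IrrCharacter G, χ ∈ principalBlock (M p) G ↔
      ∀ g ∈ pPrimeCore p G, (χ : G → ℂ) g = (χ : G → ℂ) 1 := by
    intro p hp χ
    have : Fact p.Prime := ⟨(hπ p hp).1⟩
    exact mem_principalBlock_iff_of_isPSolvable (hM p hp)
      (Cfsg.Agent.Lib.Lead.PSolvOfSolv.isPSolvable_of_isSolvable p hsolv) χ
  set L : Subgroup G := ⨆ p ∈ π, pPrimeCore p G with hL
  have hLn : L.Normal := by
    rw [hL]
    exact Subgroup.biSup_normal π (fun p => pPrimeCore p G)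
      (fun p _ => Cfsg.Agent.Lib.Helper2.pPrimeCore_normal p)
  have hker : ∀ χ : IrrCharacter G, (∀ p ∈ π, χ ∈ principalBlock (M p) G) ↔
      ∀ g ∈ L, (χ : G → ℂ) g = (χ : G → ℂ) 1 := by
    intro χ
    constructor
    · intro h
      have hle : L ≤ charKer χ := by
        rw [hL]
        apply iSup_le
        intro p
        apply iSup_le
        intro hp g hg
        rw [mem_charKer]
        exact (hF p hp χ).mp (h p hp) g hg
      intro g hg
      exact (mem_charKer χ g).mp (hle hg)
    · intro h p hp
      rw [hF p hp χ]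
      intro g hg
      apply h g
      rw [hL]
      exact (le_iSup₂ (f := fun p (_ : p ∈ π) => pPrimeCore p G) p hp) hg
  have hsum := sum_sq_degree_ker L
  constructor
  · intro h
    -- only the trivial character has `L` in its kernel
    have hfilter : Finset.univ.filter (fun χ : Cfsg.IrrCharacter G =>
        ∀ n ∈ L, (χ : G → ℂ) n = (χ : G → ℂ) 1) = {trivIrr G} := by
      ext χ
      simp only [Finset.mem_filter, Finset.mem_univ, true_and, Finset.mem_singleton]
      constructor
      · intro hχ
        apply Subtype.ext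
        exact h χ ((hker χ).mpr hχ)
      · rintro rfl n _
        rfl
    rw [hfilter, Finset.sum_singleton, trivIrr_apply] at hsum
    have hidx : L.index = 1 := by
      have : ((L.index : ℕ) : ℂ) = ((1 : ℕ) : ℂ) := by
        rw [← hsum]
        norm_num
      exact_mod_cast this
    exact Subgroup.index_eq_one.mp hidx
  · intro htop χ hχ
    have hall : ∀ g : G, (χ : G → ℂ) g = (χ : G → ℂ) 1 := by
      intro g
      apply (hker χ).mp hχ g
      rw [htop]
      exact Subgroup.mem_top g
    obtain ⟨d, hdpos, hd⟩ := irr_degree χ.2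
    have hnorm := classInner_irr χ.2 χ.2
    rw [if_pos rfl] at hnorm
    have hconst : (χ : G → ℂ) = fun _ => (d : ℂ) := by
      funext g
      rw [hall g, hd]
    rw [hconst] at hnorm
    unfold classInner at hnorm
    simp only [Complex.conj_natCast, Finset.sum_const, Finset.card_univ, nsmul_eq_mul] at hnorm
    have hG : (Fintype.card G : ℂ) ≠ 0 := by
      have : Fintype.card G ≠ 0 := Fintype.card_ne_zero
      exact_mod_cast this
    have hdd : ((d * d : ℕ) : ℂ) = ((1 : ℕ) : ℂ) := by
      push_cast
      rw [← hnorm, Nat.card_eq_fintype_card]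
      field_simp
    have hdd' : d * d = 1 := by exact_mod_cast hdd
    have hd1 : d = 1 := by nlinarith
    rw [hconst, hd1]
    simp


end Cfsg.Agent.S4611
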