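import Cfsg.Statements.S4620
import Mathlib
import Cfsg.Agent.Lib.Helper2.Cores
import Cfsg.Agent.Lib.Helper9.Fitting
import Cfsg.Agent.S4619
-- import your own Cfsg.Agent.* helpers here

set_option autoImplicit false
open scoped Pointwise
open Cfsg

namespace Cfsg.Agent.S4620

open Subgroup in
theorem mem_cj {H : Type*} [Group H] {K : Subgroup H} {g x : H} :
    x ∈ MulAut.conj g • K ↔ g⁻¹ * x * g ∈ K := by
  rw [Subgroup.mem_pointwise_smul_iff_inv_smul_mem]
  simp [MulAut.smul_def]

theorem cj_normal {H : Type*} [Group H] {K : Subgroup H} (hK : K.Normal) (g : H) :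
    MulAut.conj g • K = K := by
  ext x
  rw [mem_cj]
  constructor
  · intro h
    have := hK.conj_mem _ h g
    simpa [mul_assoc] using this
  · intro h
    have := hK.conj_mem _ h g⁻¹
    simpa [mul_assoc] using this

/-- a p-element of the normalizer of a Sylow p-subgroup lies in it -/
theorem pelem_mem {H : Type*} [Group H] {p : ℕ} [Fact p.Prime] (P : Sylow p H) {x : H}
    (hx : x ∈ Subgroup.normalizer ((P : Subgroup H) : Set H)) (hxp : ∃ k : ℕ, orderOf x = p ^ k) :
    x ∈ (P : Subgroup H) := by
  obtain ⟨k, hk⟩ := hxp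
  have hzp : IsPGroup p (Subgroup.zpowers x) := by
    apply IsPGroup.of_card (n := k)
    rw [Nat.card_zpowers, hk]
  have hle : Subgroup.zpowers x ≤ Subgroup.normalizer ((P : Subgroup H) : Set H) := by
    rw [Subgroup.zpowers_le]; exact hx
  have h1 := P.is_maximal' (hzp.to_sup_of_normal_right' P.2 hle) le_sup_right
  have h2 : Subgroup.zpowers x ≤ (P : Subgroup H) := by
    rw [← h1]; exact le_sup_left
  exact h2 (Subgroup.mem_zpowers x)

/-- a nontrivial normal subgroup has order divisible by p when O_{p'} = 1 -/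
theorem dvd_card_of_normal {H : Type*} [Group H] [Finite H] {p : ℕ} [hp : Fact p.Prime]
    (hOp' : Cfsg.pPrimeCore p H = ⊥) {K : Subgroup H} (hK : K.Normal) (hK1 : K ≠ ⊥) :
    p ∣ Nat.card K := by
  by_contra hnd
  apply hK1
  have hc : (Nat.card K).Coprime p :=
    Nat.Coprime.symm ((Nat.Prime.coprime_iff_not_dvd hp.out).mpr hnd)
  have := Cfsg.Agent.Lib.Helper2.le_pPrimeCore hK hc
  rw [hOp'] at this
  exact le_bot_iff.mp this

/-- a normal subgroup contained in the normalizer of the Sylow subgroup is trivial -/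
theorem eq_bot_of_le_normalizer {H : Type*} [Group H] [Finite H] {p : ℕ} [hp : Fact p.Prime]
    (hOp : Cfsg.pCore p H = ⊥) (hOp' : Cfsg.pPrimeCore p H = ⊥) (P : Sylow p H)
    {K : Subgroup H} (hK : K.Normal)
    (hKN : K ≤ Subgroup.normalizer ((P : Subgroup H) : Set H)) : K = ⊥ := by
  by_contra hK1
  have hdvd := dvd_card_of_normal hOp' hK hK1
  -- P ⊓ K is normal
  have hnorm : ((P : Subgroup H) ⊓ K).Normal := by
    constructor
    intro y hy h
    refine ⟨?_, hK.conj_mem y hy.2 h⟩
    apply pelem_mem P (hKN (hK.conj_mem y hy.2 h))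
    obtain ⟨k, hk⟩ := (IsPGroup.iff_orderOf.mp P.2) ⟨y, hy.1⟩
    refine ⟨k, ?_⟩
    have h1 : orderOf (h * y * h⁻¹) = orderOf y := by
      have := (MulAut.conj h).orderOf_eq y
      simpa using this
    rw [h1]
    have : orderOf (⟨y, hy.1⟩ : (P : Subgroup H)) = orderOf y := Subgroup.orderOf_mk y hy.1
    rw [← this]; exact hk
  have hpg : IsPGroup p ((P : Subgroup H) ⊓ K : Subgroup H) := P.2.to_le inf_le_left
  have hbot : (P : Subgroup H) ⊓ K = ⊥ := by
    have := Cfsg.Agent.Lib.Helper2.le_pCore hnorm hpg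
    rw [hOp] at this
    exact le_bot_iff.mp this
  haveI : Fact p.Prime := hp
  obtain ⟨x, hx⟩ := exists_prime_orderOf_dvd_card' (G := K) p hdvd
  have hxK : (x : H) ∈ K := x.2
  have hox : orderOf (x : H) = p := by rw [Subgroup.orderOf_coe]; exact hx
  have hxP : (x : H) ∈ (P : Subgroup H) := pelem_mem P (hKN hxK) ⟨1, by rw [hox, pow_one]⟩
  have : (x : H) ∈ (P : Subgroup H) ⊓ K := ⟨hxP, hxK⟩
  rw [hbot, Subgroup.mem_bot] at this
  rw [this, orderOf_one] at hox
  exact hp.out.one_lt.ne hox

/-- for a subgroup of order divisible by p, some conjugate meets P nontrivially -/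
theorem exists_conj_mem {H : Type*} [Group H] [Finite H] {p : ℕ} [hp : Fact p.Prime]
    (P : Sylow p H) {S : Subgroup H} (hdvd : p ∣ Nat.card S) :
    ∃ g : H, ∃ x : H, x ∈ MulAut.conj g • S ∧ x ∈ (P : Subgroup H) ∧ x ≠ 1 := by
  obtain ⟨x, hx⟩ := exists_prime_orderOf_dvd_card' (G := S) p hdvd
  have hox : orderOf (x : H) = p := by rw [Subgroup.orderOf_coe]; exact hx
  have hzp : IsPGroup p (Subgroup.zpowers (x : H)) := by
    apply IsPGroup.of_card (n := 1)
    rw [Nat.card_zpowers, hox, pow_one]
  obtain ⟨P', hP'⟩ := hzp.exists_le_sylow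
  obtain ⟨g, hg⟩ := MulAction.exists_smul_eq H P' P
  have hxP' : (x : H) ∈ (P' : Subgroup H) := hP' (Subgroup.mem_zpowers _)
  refine ⟨g, g * (x : H) * g⁻¹, ?_, ?_, ?_⟩
  · rw [mem_cj]
    have : g⁻¹ * (g * (x : H) * g⁻¹) * g = x := by group
    rw [this]; exact x.2
  · have h1 : g * (x : H) * g⁻¹ ∈ MulAut.conj g • (P' : Subgroup H) := by
      rw [mem_cj]
      have : g⁻¹ * (g * (x : H) * g⁻¹) * g = x := by group
      rw [this]; exact hxP'
    rw [← Sylow.coe_subgroup_smul, hg] at h1
    exact h1
  · intro h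
    have : (x : H) = 1 := by
      have h2 : (x : H) = g⁻¹ * (g * (x : H) * g⁻¹) * g := by group
      rw [h2, h]; group
    rw [this, orderOf_one] at hox
    exact hp.out.one_lt.ne hox

/-- a subgroup centralizing a nontrivial subgroup of the TI Sylow subgroup normalizes it -/
theorem le_normalizer_of_centralizes {H : Type*} [Group H] [Finite H] {p : ℕ} [Fact p.Prime]
    (P : Sylow p H)
    (hTI : ∀ g : H, g ∉ Subgroup.normalizer ((P : Subgroup H) : Set H) →
      (P : Subgroup H) ⊓ (MulAut.conj g • (P : Subgroup H)) = ⊥)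
    {x : H} (hxP : x ∈ (P : Subgroup H)) (hx1 : x ≠ 1) {y : H} (hy : y * x = x * y) :
    y ∈ Subgroup.normalizer ((P : Subgroup H) : Set H) := by
  have hQ : Subgroup.zpowers x ≤ (P : Subgroup H) := by rw [Subgroup.zpowers_le]; exact hxP
  have hQ1 : Subgroup.zpowers x ≠ ⊥ := by
    intro h
    apply hx1
    have := Subgroup.mem_zpowers x
    rw [h, Subgroup.mem_bot] at this
    exact this
  have h1 := (Cfsg.Agent.S4619.result p P hTI (Subgroup.zpowers x) hQ hQ1).1
  apply h1
  apply Subgroup.centralizer_le_normalizer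
  rw [Subgroup.mem_centralizer_iff]
  intro z hz
  obtain ⟨k, rfl⟩ := Subgroup.mem_zpowers_iff.mp hz
  exact ((Commute.zpow_right (show Commute y x from hy) k).eq).symm

/-- Let H be a finite group with no nontrivial normal p-subgroup and no nontrivial normal subgroup of order prime to p, whose Sylow p-subgroup P is nontrivial and a trivial-intersection set (P meets its conjugates by elements outside N_H(P) trivially). Then H has a unique minimal normal subgroup N; N is non-abelian simple with trivial centralizer in H (so H embeds in Aut(N)), and a Sylow p-subgroup of N is again a nontrivial trivial-intersection set in N. -/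
theorem result {H : Type*} [Group H] [Finite H] (p : ℕ) [Fact p.Prime] (hOp : Cfsg.pCore p H = ⊥) (hOp' : Cfsg.pPrimeCore p H = ⊥) (P : Sylow p H) (hP1 : (P : Subgroup H) ≠ ⊥)
    (hTI : ∀ g : H, g ∉ Subgroup.normalizer ((P : Subgroup H) : Set H) → (P : Subgroup H) ⊓ (MulAut.conj g • (P : Subgroup H)) = ⊥) :
    ∃ N : Subgroup H, N.Normal ∧ N ≠ ⊥ ∧ (∀ K : Subgroup H, K.Normal → K ≠ ⊥ → N ≤ K) ∧
      IsSimpleGroup N ∧ ¬ IsMulCommutative N ∧ Subgroup.centralizer (N : Set H) = ⊥ ∧
      ∀ Q : Sylow p N, (Q : Subgroup N) ≠ ⊥ ∧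
        ∀ n : N, n ∉ Subgroup.normalizer ((Q : Subgroup N) : Set N) → (Q : Subgroup N) ⊓ (MulAut.conj n • (Q : Subgroup N)) = ⊥ := by
  classical
  have hp : p.Prime := Fact.out
  set NP := Subgroup.normalizer ((P : Subgroup H) : Set H) with hNP
  -- Step 3: two nontrivial normal subgroups meet nontrivially
  have step3 : ∀ K1 K2 : Subgroup H, K1.Normal → K2.Normal → K1 ≠ ⊥ → K2 ≠ ⊥ → K1 ⊓ K2 ≠ ⊥ := by
    intro K1 K2 h1 h2 h11 h21 hdisj
    apply h21
    apply eq_bot_of_le_normalizer hOp hOp' P h2
    intro y hy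
    have hdvd := dvd_card_of_normal hOp' h1 h11
    obtain ⟨g, x, hxS, hxP, hx1⟩ := exists_conj_mem P hdvd
    rw [cj_normal h1] at hxS
    apply le_normalizer_of_centralizes P hTI hxP hx1
    have hd : Disjoint K1 K2 := disjoint_iff.mpr hdisj
    exact (Subgroup.commute_of_normal_of_disjoint K1 K2 h1 h2 hd x y hxS hy).eq.symm
  -- Step 4: a minimal normal subgroup
  have htop : (⊤ : Subgroup H) ≠ ⊥ := by
    intro h
    apply hP1
    rw [eq_bot_iff, ← h]
    exact le_top
  have hex : ∃ n, ∃ K : Subgroup H, K.Normal ∧ K ≠ ⊥ ∧ Nat.card K = n :=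
    ⟨_, ⊤, inferInstance, htop, rfl⟩
  obtain ⟨N, hNn, hN1, hNc⟩ := Nat.find_spec hex
  have hmin : ∀ K : Subgroup H, K.Normal → K ≠ ⊥ → Nat.card N ≤ Nat.card K := by
    intro K hK hK1
    rw [hNc]
    exact Nat.find_min' hex ⟨K, hK, hK1, rfl⟩
  have hNle : ∀ K : Subgroup H, K.Normal → K ≠ ⊥ → N ≤ K := by
    intro K hK hK1
    have h1 : (N ⊓ K).Normal := Subgroup.normal_inf_normal N K
    have h2 := step3 N K hNn hK hN1 hK1
    have h3 := hmin _ h1 h2
    have h4 : N ⊓ K = N := Subgroup.eq_of_le_of_card_ge inf_le_left h3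
    rw [← h4]; exact inf_le_right
  have hdvdN : p ∣ Nat.card N := dvd_card_of_normal hOp' hNn hN1
  -- Step 5: N is not abelian
  have hnonab : ¬ IsMulCommutative N := by
    intro hab
    apply hN1
    apply eq_bot_of_le_normalizer hOp hOp' P hNn
    intro y hy
    obtain ⟨g, x, hxS, hxP, hx1⟩ := exists_conj_mem P hdvdN
    rw [cj_normal hNn] at hxS
    apply le_normalizer_of_centralizes P hTI hxP hx1
    have := hab.is_comm.comm (⟨y, hy⟩ : N) ⟨x, hxS⟩
    exact congrArg Subtype.val this
  -- Step 6: centralizer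
  have hcent : Subgroup.centralizer (N : Set H) = ⊥ := by
    by_contra hC
    haveI := hNn
    have hCn : (Subgroup.centralizer (N : Set H)).Normal := Subgroup.normal_centralizer
    have hle := hNle _ hCn hC
    apply hnonab
    refine ⟨⟨fun a b => ?_⟩⟩
    have := (Subgroup.mem_centralizer_iff.mp (hle a.2)) b b.2
    exact Subtype.ext this.symm
  -- O_{p'}(N) = 1
  have hNcore : Cfsg.pPrimeCore p N = ⊥ := by
    haveI := hNn
    haveI : (Cfsg.pPrimeCore p N).Characteristic :=
      Cfsg.Agent.Lib.Helper9.pPrimeCore_characteristic p N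
    have hn : ((Cfsg.pPrimeCore p N).map N.subtype).Normal := inferInstance
    have hc : (Nat.card ((Cfsg.pPrimeCore p N).map N.subtype)).Coprime p := by
      have e := (Cfsg.pPrimeCore p N).equivMapOfInjective N.subtype N.subtype_injective
      rw [← Nat.card_congr e.toEquiv]
      exact Cfsg.Agent.Lib.Helper2.pPrimeCore_coprime p
    have := Cfsg.Agent.Lib.Helper2.le_pPrimeCore hn hc
    rw [hOp', le_bot_iff] at this
    exact (Subgroup.map_eq_bot_iff_of_injective _ N.subtype_injective).mp this
  -- Step 7 in the ambient group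
  have step7 : ∀ S : Subgroup H, S ≤ N → N ≤ Subgroup.normalizer (S : Set H) → S = ⊥ ∨ S = N := by
    by_contra hcon
    push Not at hcon
    have hex2 : ∃ n, ∃ S : Subgroup H, S ≤ N ∧ N ≤ Subgroup.normalizer (S : Set H) ∧ S ≠ ⊥ ∧ S ≠ N ∧
        Nat.card S = n := by
      obtain ⟨S, h1, h2, h3, h4⟩ := hcon
      exact ⟨_, S, h1, h2, h3, h4, rfl⟩
    obtain ⟨S, hSN, hSnorm, hS1, hSN', hSc⟩ := Nat.find_spec hex2
    have hSmin : ∀ S' : Subgroup H, S' ≤ N → N ≤ Subgroup.normalizer (S' : Set H) → S' ≠ ⊥ → S' ≠ N →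
        Nat.card S ≤ Nat.card S' := by
      intro S' h1 h2 h3 h4
      rw [hSc]
      exact Nat.find_min' hex2 ⟨S', h1, h2, h3, h4, rfl⟩
    have hcardlt : Nat.card S < Nat.card N := by
      rcases lt_or_ge (Nat.card S) (Nat.card N) with h | h
      · exact h
      · exact absurd (Subgroup.eq_of_le_of_card_ge hSN h) hSN'
    -- facts about conjugates
    have hconjle : ∀ h : H, MulAut.conj h • S ≤ N := by
      intro h
      have := Subgroup.pointwise_smul_le_pointwise_smul_iff (a := MulAut.conj h) |>.mpr hSN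
      rwa [cj_normal hNn] at this
    have hconjcard : ∀ h : H, Nat.card (MulAut.conj h • S : Subgroup H) = Nat.card S := by
      intro h
      exact (Nat.card_congr (Subgroup.equivSMul (MulAut.conj h) S).toEquiv).symm
    have hconjnorm : ∀ h : H, N ≤ Subgroup.normalizer ((MulAut.conj h • S : Subgroup H) : Set H) := by
      intro h n hn
      rw [Subgroup.mem_normalizer_iff]
      intro y
      rw [mem_cj, mem_cj]
      have hn' : h⁻¹ * n * h ∈ N := by
        have := hNn.conj_mem n hn h⁻¹
        simpa using this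
      have := (Subgroup.mem_normalizer_iff.mp (hSnorm hn')) (h⁻¹ * y * h)
      rw [this]
      have e : h⁻¹ * n * h * (h⁻¹ * y * h) * (h⁻¹ * n * h)⁻¹ = h⁻¹ * (n * y * n⁻¹) * h := by group
      rw [e]
    have hconj1 : ∀ h : H, MulAut.conj h • S ≠ ⊥ := by
      intro h hb
      apply hS1
      have := hconjcard h
      rw [hb, Subgroup.card_bot] at this
      exact (Subgroup.card_eq_one.mp this.symm)
    have hconjN : ∀ h : H, MulAut.conj h • S ≠ N := by
      intro h hb
      have := hconjcard h
      rw [hb] at this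
      omega
    -- p divides |S|
    have hdvdS : ∀ h : H, p ∣ Nat.card (MulAut.conj h • S : Subgroup H) := by
      intro h
      by_contra hnd
      apply hconj1 h
      have hc : (Nat.card (MulAut.conj h • S : Subgroup H)).Coprime p :=
        Nat.Coprime.symm ((Nat.Prime.coprime_iff_not_dvd hp).mpr hnd)
      have hnS : ((MulAut.conj h • S : Subgroup H).subgroupOf N).Normal :=
        (Subgroup.normal_subgroupOf_iff_le_normalizer (hconjle h)).mpr (hconjnorm h)
      have hc' : (Nat.card ((MulAut.conj h • S : Subgroup H).subgroupOf N)).Coprime p := by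
        rw [Nat.card_congr (Subgroup.subgroupOfEquivOfLe (hconjle h)).toEquiv]
        exact hc
      have := Cfsg.Agent.Lib.Helper2.le_pPrimeCore hnS hc'
      rw [hNcore, le_bot_iff, Subgroup.subgroupOf_eq_bot] at this
      have h2 := this.eq_bot
      rwa [inf_eq_left.mpr (hconjle h)] at h2
    -- distinct conjugates commute
    have hcomm : ∀ h1 h2 : H, MulAut.conj h1 • S ≠ MulAut.conj h2 • S →
        ∀ a ∈ MulAut.conj h1 • S, ∀ b ∈ MulAut.conj h2 • S, a * b = b * a := by
      intro h1 h2 hne a ha b hb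
      set S1 := MulAut.conj h1 • S with hS1def
      set S2 := MulAut.conj h2 • S with hS2def
      have hinter : S1 ⊓ S2 = ⊥ := by
        by_contra hne0
        have hle : S1 ⊓ S2 ≤ N := inf_le_left.trans (hconjle h1)
        have hnm : N ≤ Subgroup.normalizer ((S1 ⊓ S2 : Subgroup H) : Set H) := by
          intro n hn
          have e1 := Subgroup.mem_normalizer_iff.mp (hconjnorm h1 hn)
          have e2 := Subgroup.mem_normalizer_iff.mp (hconjnorm h2 hn)
          rw [Subgroup.mem_normalizer_iff]
          intro y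
          rw [Subgroup.mem_inf, Subgroup.mem_inf, ← e1 y, ← e2 y]
        have hneN : S1 ⊓ S2 ≠ N := by
          intro h
          have : Nat.card (S1 ⊓ S2 : Subgroup H) ≤ Nat.card S1 :=
            Subgroup.card_le_of_le inf_le_left
          rw [h, hconjcard h1] at this
          omega
        have h3 := hSmin _ hle hnm hne0 hneN
        have h4 : S1 ⊓ S2 = S1 :=
          Subgroup.eq_of_le_of_card_ge inf_le_left (by rw [hconjcard h1]; exact h3)
        have h5 : S1 ≤ S2 := by rw [← h4]; exact inf_le_right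
        have h6 : S1 = S2 :=
          Subgroup.eq_of_le_of_card_ge h5 (by rw [hconjcard h1, hconjcard h2])
        exact hne h6
      -- commutator lies in the intersection
      have hc1 : a * b * a⁻¹ * b⁻¹ ∈ S1 := by
        have hbN : b ∈ N := hconjle h2 hb
        have := (Subgroup.mem_normalizer_iff.mp (hconjnorm h1 hbN)) a⁻¹
        have h7 : b * a⁻¹ * b⁻¹ ∈ S1 := this.mp (inv_mem ha)
        have : a * b * a⁻¹ * b⁻¹ = a * (b * a⁻¹ * b⁻¹) := by group
        rw [this]; exact mul_mem ha h7
      have hc2 : a * b * a⁻¹ * b⁻¹ ∈ S2 := by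
        have haN : a ∈ N := hconjle h1 ha
        have := (Subgroup.mem_normalizer_iff.mp (hconjnorm h2 haN)) b
        have h7 : a * b * a⁻¹ ∈ S2 := this.mp hb
        exact mul_mem h7 (inv_mem hb)
      have : a * b * a⁻¹ * b⁻¹ ∈ S1 ⊓ S2 := ⟨hc1, hc2⟩
      rw [hinter, Subgroup.mem_bot] at this
      calc a * b = (a * b * a⁻¹ * b⁻¹) * (b * a) := by group
        _ = b * a := by rw [this, one_mul]
    -- choose a conjugate meeting P
    obtain ⟨g0, x0, hx0S, hx0P, hx01⟩ := exists_conj_mem P (hdvdS 1)
    have hS1eq : MulAut.conj g0 • (MulAut.conj (1 : H) • S) = MulAut.conj g0 • S := by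
      rw [map_one, one_smul]
    rw [hS1eq] at hx0S
    -- any conjugate different from conj g0 • S normalizes P
    have hother : ∀ h : H, MulAut.conj h • S ≠ MulAut.conj g0 • S → MulAut.conj h • S ≤ NP := by
      intro h hne y hy
      apply le_normalizer_of_centralizes P hTI hx0P hx01
      exact hcomm h g0 hne y hy x0 hx0S
    -- there is a conjugate different from conj g0 • S
    have hexists : ∃ h : H, MulAut.conj h • S ≠ MulAut.conj g0 • S := by
      by_contra hall
      push Not at hall
      -- then conj g0 • S is normal in H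
      have hnormal : (MulAut.conj g0 • S).Normal := by
        constructor
        intro y hy h
        have h1 : MulAut.conj (h * g0) • S = MulAut.conj g0 • S := hall (h * g0)
        rw [← h1, mem_cj]
        rw [mem_cj] at hy
        have e : (h * g0)⁻¹ * (h * y * h⁻¹) * (h * g0) = g0⁻¹ * y * g0 := by group
        rw [e]; exact hy
      have := hNle _ hnormal (hconj1 g0)
      exact hconjN g0 (le_antisymm (hconjle g0) this)
    obtain ⟨h0, hh0⟩ := hexists
    -- conj h0 • S meets P nontrivially as it normalizes P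
    have hS2P : ∃ x2 : H, x2 ∈ MulAut.conj h0 • S ∧ x2 ∈ (P : Subgroup H) ∧ x2 ≠ 1 := by
      obtain ⟨x, hx⟩ := exists_prime_orderOf_dvd_card' (G := (MulAut.conj h0 • S : Subgroup H)) p
        (hdvdS h0)
      have hox : orderOf (x : H) = p := by rw [Subgroup.orderOf_coe]; exact hx
      refine ⟨x, x.2, pelem_mem P (hother h0 hh0 x.2) ⟨1, by rw [hox, pow_one]⟩, ?_⟩
      intro h
      rw [h, orderOf_one] at hox
      exact hp.one_lt.ne hox
    obtain ⟨x2, hx2S, hx2P, hx21⟩ := hS2P
    have hself : MulAut.conj g0 • S ≤ NP := by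
      intro y hy
      apply le_normalizer_of_centralizes P hTI hx2P hx21
      exact hcomm g0 h0 (Ne.symm hh0) y hy x2 hx2S
    have hall : ∀ h : H, MulAut.conj h • S ≤ NP := by
      intro h
      by_cases hh : MulAut.conj h • S = MulAut.conj g0 • S
      · rw [hh]; exact hself
      · exact hother h hh
    -- the normal closure lies in NP
    have hM : Subgroup.normalClosure (S : Set H) ≤ NP := by
      unfold Subgroup.normalClosure
      rw [Subgroup.closure_le]
      intro y hy
      rw [Group.mem_conjugatesOfSet_iff] at hy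
      obtain ⟨s, hs, hsy⟩ := hy
      rw [isConj_iff] at hsy
      obtain ⟨c, rfl⟩ := hsy
      apply hall c
      rw [mem_cj]
      have e : c⁻¹ * (c * s * c⁻¹) * c = s := by group
      rw [e]; exact hs
    have := eq_bot_of_le_normalizer hOp hOp' P Subgroup.normalClosure_normal hM
    apply hS1
    rw [eq_bot_iff, ← this]
    exact Subgroup.le_normalClosure
  -- Step 7: N is simple
  have hsimple : IsSimpleGroup N := by
    haveI : Nontrivial N := by
      rw [Subgroup.nontrivial_iff_ne_bot]
      exact hN1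
    refine ⟨fun K hK => ?_⟩
    have hle : K.map N.subtype ≤ N := by
      rintro _ ⟨k, _, rfl⟩
      exact k.2
    have hnm : N ≤ Subgroup.normalizer ((K.map N.subtype : Subgroup H) : Set H) := by
      intro n hn
      rw [Subgroup.mem_normalizer_iff]
      intro y
      constructor
      · rintro ⟨k, hk, rfl⟩
        exact ⟨⟨n, hn⟩ * k * ⟨n, hn⟩⁻¹, hK.conj_mem k hk ⟨n, hn⟩, by simp⟩
      · rintro ⟨k, hk, hky⟩
        refine ⟨⟨n, hn⟩⁻¹ * k * ⟨n, hn⟩, ?_, ?_⟩
        · have := hK.conj_mem k hk ⟨n, hn⟩⁻¹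
          simpa using this
        · simp only [Subgroup.subtype_apply, Subgroup.coe_mul, Subgroup.coe_inv] at hky ⊢
          rw [hky]; group
    rcases step7 _ hle hnm with h | h
    · left
      exact (Subgroup.map_eq_bot_iff_of_injective _ N.subtype_injective).mp h
    · right
      rw [eq_top_iff]
      intro y _
      have : (y : H) ∈ K.map N.subtype := by rw [h]; exact y.2
      obtain ⟨k, hk, hky⟩ := this
      have : k = y := Subtype.ext hky
      rw [← this]; exact hk
  refine ⟨N, hNn, hN1, hNle, hsimple, hnonab, hcent, fun Q => ⟨?_, ?_⟩⟩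
  · exact Q.ne_bot_of_dvd_card hdvdN
  · intro n hn
    -- a Sylow subgroup of H containing the image of Q
    have hQp : IsPGroup p ((Q : Subgroup N).map N.subtype) := Q.2.map _
    obtain ⟨P', hP'⟩ := hQp.exists_le_sylow
    obtain ⟨g, hg⟩ := MulAction.exists_smul_eq H P P'
    have hP'eq : (P' : Subgroup H) = MulAut.conj g • (P : Subgroup H) := by
      rw [← hg, Sylow.coe_subgroup_smul]
    -- membership in Q
    have hQmem : ∀ y : N, y ∈ (Q : Subgroup N) ↔ (y : H) ∈ (P' : Subgroup H) := by
      intro y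
      constructor
      · intro hy
        exact hP' ⟨y, hy, rfl⟩
      · intro hy
        have hpg : IsPGroup p ((P' : Subgroup H).subgroupOf N) := P'.2.comap_subtype
        have hle : (Q : Subgroup N) ≤ (P' : Subgroup H).subgroupOf N := by
          intro z hz
          rw [Subgroup.mem_subgroupOf]
          exact hP' ⟨z, hz, rfl⟩
        have := Q.is_maximal' hpg hle
        have hy' : y ∈ (P' : Subgroup H).subgroupOf N := by
          rw [Subgroup.mem_subgroupOf]; exact hy
        rw [this] at hy'
        exact hy'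
    -- (n : H) does not normalize P'
    have hnP' : (n : H) ∉ Subgroup.normalizer ((P' : Subgroup H) : Set H) := by
      intro hn'
      apply hn
      rw [Subgroup.mem_normalizer_iff]
      intro y
      rw [hQmem, hQmem]
      have := Subgroup.mem_normalizer_iff.mp hn' (y : H)
      simpa using this
    -- so g⁻¹ n g does not normalize P
    have hnP : g⁻¹ * (n : H) * g ∉ Subgroup.normalizer ((P : Subgroup H) : Set H) := by
      intro hn'
      apply hnP'
      rw [Subgroup.mem_normalizer_iff]
      intro y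
      rw [hP'eq, mem_cj, mem_cj]
      have := Subgroup.mem_normalizer_iff.mp hn' (g⁻¹ * y * g)
      rw [this]
      have e : g⁻¹ * (n : H) * g * (g⁻¹ * y * g) * (g⁻¹ * (n : H) * g)⁻¹ =
          g⁻¹ * ((n : H) * y * (n : H)⁻¹) * g := by group
      rw [e]
    have hti := hTI _ hnP
    rw [eq_bot_iff]
    intro y hy
    rw [Subgroup.mem_bot]
    obtain ⟨hy1, hy2⟩ := hy
    have h1 : (y : H) ∈ (P' : Subgroup H) := (hQmem y).mp hy1
    have h2 : ((n⁻¹ * y * n : N) : H) ∈ (P' : Subgroup H) := by
      apply (hQmem _).mp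
      exact mem_cj.mp hy2
    rw [hP'eq, mem_cj] at h1 h2
    have h3 : g⁻¹ * (y : H) * g ∈ (P : Subgroup H) ⊓
        (MulAut.conj (g⁻¹ * (n : H) * g) • (P : Subgroup H)) := by
      refine Subgroup.mem_inf.mpr ⟨h1, ?_⟩
      rw [mem_cj]
      have e : (g⁻¹ * (n : H) * g)⁻¹ * (g⁻¹ * (y : H) * g) * (g⁻¹ * (n : H) * g) =
          g⁻¹ * ((n⁻¹ * y * n : N) : H) * g := by
        simp only [Subgroup.coe_mul, Subgroup.coe_inv]
        group
      rw [e]; exact h2
    rw [hti, Subgroup.mem_bot] at h3
    have h4 : (y : H) = 1 := by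
      have e : (y : H) = g * (g⁻¹ * (y : H) * g) * g⁻¹ := by group
      rw [e, h3]; group
    exact Subtype.ext h4

end Cfsg.Agent.S4620
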