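import Cfsg.Statements.S4626
import Cfsg.Agent.Lib.Helper28.BlockDefectE
import Cfsg.Agent.Lib.Helper4.Deflate

set_option autoImplicit false
open Cfsg

namespace Cfsg.Agent.S4626

open Cfsg.Agent.Lib.Helper28 in
theorem result {G : Type*} [Group G] [Finite G] (p : ℕ) [Fact p.Prime] (M : Ideal Cfsg.AlgInt) (hM : Cfsg.IsPModular p M) (P : Sylow p G) (N : Subgroup G) [N.Normal] (hidx : ¬ p ∣ N.index)
    (hC : Subgroup.centralizer ((P : Subgroup G) : Set G) ≤ N) (χ : Cfsg.IrrCharacter G) (hker : ∀ n ∈ N, (χ : G → ℂ) n = (χ : G → ℂ) 1) :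
    χ ∈ Cfsg.principalBlock M G := by
  classical
  have : Fintype G := Fintype.ofFinite G
  have hp : p.Prime := hM.1
  have hprime : M.IsPrime := hM.2.1.isPrime
  have hMtop : M ≠ ⊤ := hM.2.1.ne_top
  obtain ⟨n, ρ, hirr, hρχ⟩ := χ.2
  have hNker : N ≤ MonoidHom.ker ρ := by
    intro x hx
    rw [← Cfsg.Agent.Lib.Helper4.character_eq_one_iff_mem_ker, hρχ]
    exact hker x hx
  have hdvd : Module.finrank ℂ (Fin n → ℂ) ∣ N.index :=
    (Cfsg.Agent.Lib.Helper4.degree_dvd_index_ker ρ hirr).trans (Subgroup.index_dvd_of_le hNker)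
  rw [Module.finrank_fin_fun] at hdvd
  have hpn : ¬ p ∣ n := fun h => hidx (h.trans hdvd)
  have hncop : n.Coprime p := ((Nat.Prime.coprime_iff_not_dvd hp).mpr hpn).symm
  have hχ1 : (χ : G → ℂ) 1 = (n : ℂ) := by
    rw [← hρχ, Representation.char_one, Module.finrank_fin_fun]
  have hn0 : (n : ℂ) ≠ 0 := by
    rw [← hχ1]; exact irr_one_ne_zero χ.2
  show SameBlock M (fun _ : G => (1 : ℂ)) (χ : G → ℂ)
  intro g
  unfold centralChar
  rw [hχ1, mul_one, div_one]
  by_cases hpi : p ∣ (Subgroup.centralizer ({g} : Set G)).index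
  · obtain ⟨t, ht⟩ := hpi
    have e1 : ((Subgroup.centralizer ({g} : Set G)).index : ℂ) -
        ((Subgroup.centralizer ({g} : Set G)).index : ℂ) * (χ : G → ℂ) g / (n : ℂ) =
        (p : ℂ) * (((t : ℂ) * ((n : ℂ) - (χ : G → ℂ) g)) * (n : ℂ)⁻¹) := by
      rw [ht]
      push_cast
      field_simp
    rw [e1]
    apply memLocalIdeal_mul_right (memLocalIdeal_natCast_p hM)
    apply memLocalRing_mul _ (memLocalRing_inv_natCast hM hncop)
    apply memLocalRing_of_isIntegral hMtop
    have hnat : ∀ k : ℕ, IsIntegral ℤ (k : ℂ) := fun k => by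
      have h := isIntegral_algebraMap (R := ℤ) (A := ℂ) (x := (k : ℤ))
      simpa using h
    refine (hnat t).mul ((hnat n).sub ?_)
    rw [← hρχ]
    exact Cfsg.Agent.Lib.Helper4.character_isIntegral ρ g
  · -- g lies in N
    have hgN : g ∈ N := by
      obtain ⟨P'⟩ : Nonempty (Sylow p (Subgroup.centralizer ({g} : Set G))) := inferInstance
      have hcard : Nat.card ((P' : Subgroup (Subgroup.centralizer ({g} : Set G))).map
          (Subgroup.centralizer ({g} : Set G)).subtype) = p ^ (Nat.card G).factorization p := by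
        have h1 : Nat.card ((P' : Subgroup (Subgroup.centralizer ({g} : Set G))).map
            (Subgroup.centralizer ({g} : Set G)).subtype) =
            Nat.card (P' : Subgroup (Subgroup.centralizer ({g} : Set G))) :=
          Nat.card_congr ((P' : Subgroup (Subgroup.centralizer ({g} : Set G))).equivMapOfInjective
            (Subgroup.centralizer ({g} : Set G)).subtype
            (Subgroup.subtype_injective _)).toEquiv.symm
        rw [h1, P'.card_eq_multiplicity]
        congr 1
        have h2 := factorization_card_eq (p := p) g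
        have h3 : (Subgroup.centralizer ({g} : Set G)).index.factorization p = 0 :=
          Nat.factorization_eq_zero_of_not_dvd hpi
        omega
      let Sg : Sylow p G := Sylow.ofCard _ hcard
      obtain ⟨c, hc⟩ := MulAction.exists_smul_eq G Sg P
      -- c g c⁻¹ centralizes P
      have hcent : c * g * c⁻¹ ∈ Subgroup.centralizer ((P : Subgroup G) : Set G) := by
        rw [Subgroup.mem_centralizer_iff]
        intro s hs
        have hs1 : s ∈ (P : Subgroup G) := hs
        rw [← hc, Sylow.coe_subgroup_smul,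
          Subgroup.mem_pointwise_smul_iff_inv_smul_mem] at hs1
        have hs' : c⁻¹ * s * c ∈ (P' : Subgroup (Subgroup.centralizer ({g} : Set G))).map
            (Subgroup.centralizer ({g} : Set G)).subtype := by
          have : (MulAut.conj c)⁻¹ • s = c⁻¹ * s * c := by
            simp [MulAut.smul_def, MulAut.conj_inv_apply]
          rw [this] at hs1
          exact hs1
        obtain ⟨t, _, ht⟩ := Subgroup.mem_map.mp hs'
        have htc := (Subgroup.mem_centralizer_iff.mp t.2) g (Set.mem_singleton g)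
        have ht' : (t : G) = c⁻¹ * s * c := ht
        have hs2 : s = c * (t : G) * c⁻¹ := by rw [ht']; group
        rw [hs2]
        have e1 : c * (t : G) * c⁻¹ * (c * g * c⁻¹) = c * ((t : G) * g) * c⁻¹ := by group
        have e2 : c * g * c⁻¹ * (c * (t : G) * c⁻¹) = c * (g * (t : G)) * c⁻¹ := by group
        rw [e1, e2, htc]
      have h4 := hC hcent
      have h5 := ‹N.Normal›.conj_mem _ h4 c⁻¹
      have e3 : c⁻¹ * (c * g * c⁻¹) * c⁻¹⁻¹ = g := by group
      rwa [e3] at h5
    rw [hker g hgN, hχ1, mul_div_assoc, div_self hn0, mul_one, sub_self]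
    exact memLocalIdeal_zero hMtop

end Cfsg.Agent.S4626
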