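import Mathlib
import Cfsg.Statements.S4629
import Cfsg.Agent.Lib.Helper10.OmegaSylowJ
import Cfsg.Agent.S0286
import Cfsg.Agent.Lib.Helper10.SpSylowE4

set_option autoImplicit false
open Cfsg

namespace Cfsg.Agent.S4629


/-- Let F be a finite field of odd order and m ≥ 3. For the commutator subgroup Ω of the isometry group of the non-singular quadratic form x₀² + Σ x_i y_i in dimension 2m + 1 over F, a Sylow 2-subgroup P of Ω has P/P' elementary abelian: the square of every element of P lies in the derived subgroup of P. -/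
theorem result {F : Type*} [Field F] [Fintype F] (hF : Odd (Fintype.card F)) (m : ℕ) (hm : 3 ≤ m) (P : Sylow 2 (Cfsg.Omega F (Cfsg.quadFormOdd m F))) : ∀ x : (P : Subgroup (Cfsg.Omega F (Cfsg.quadFormOdd m F))), x ^ 2 ∈ commutator (P : Subgroup (Cfsg.Omega F (Cfsg.quadFormOdd m F))) := by
  classical
  open Cfsg.Agent.Lib.Helper10.OmegaSylow Cfsg.Agent.Lib.Helper10.SpSylowE
    Cfsg.Agent.Lib.Helper19.QuadStd in
  have h2 : (2 : F) ≠ 0 := Cfsg.Agent.Lib.Helper10.SpSylow.two_ne_zero_of_odd _ rfl hF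
  have hcardO : Nat.card ↥(Cfsg.isometryGroup F (Cfsg.quadFormOdd m F)) =
      2 * Nat.card ↥(Matrix.symplecticGroup (Fin m) F) := by
    rw [Cfsg.Agent.S0286.result rfl hF m,
      Cfsg.Agent.Lib.Helper27.SympTransv.card_symplecticGroup (F := F) rfl m, mul_assoc]
  have hv : (Nat.card ↥(Cfsg.isometryGroup F (Cfsg.quadFormOdd m F))).factorization 2 =
      m * (padicValNat 2 (Fintype.card F + 1) + padicValNat 2 (Fintype.card F - 1)) + ff m + 1 := by
    rw [hcardO, Nat.factorization_mul two_ne_zero (Nat.card_pos.ne'), Finsupp.add_apply,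
      Nat.prime_two.factorization_self, val_card_sp hF m]
    ring
  have hcard : Fintype.card (Unit ⊕ (Fin m ⊕ Fin m)) = 2 * m + 1 := by
    rw [Fintype.card_sum, Fintype.card_sum, Fintype.card_fin, Fintype.card_unit]
    ring
  have key : ∀ P : Sylow 2 ↥(Cfsg.Omega F ⇑(stdOdd m F)),
      SqComm ↥(P : Subgroup ↥(Cfsg.Omega F ⇑(stdOdd m F))) := fun P =>
    sqComm_sylow_omega_odd hF h2 (stdOdd m F) (stdOdd_nondeg m h2) m hm hcard
      (by rw [coe_stdOdd]; exact hv) P
  rw [coe_stdOdd] at key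
  exact key P

end Cfsg.Agent.S4629
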