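import Mathlib
import Cfsg.Statements.S4630
import Cfsg.Agent.Lib.Helper10.OmegaSylowP
import Cfsg.Agent.Lib.Helper10.OmegaSylowQ
import Cfsg.Agent.S0790
import Cfsg.Agent.S0287
import Cfsg.Agent.Lib.Helper19.QuadStd
import Cfsg.Agent.Lib.Helper19.OrthNegOne

set_option autoImplicit false
open Cfsg

namespace Cfsg.Agent.S4630


/-- Let F be a finite field of odd order and m ≥ 1 with m even or m ≥ 4. For the commutator subgroup Ω of the isometry group of the plus-type quadratic form Σ_{i<m} x_i y_i in dimension 2m over F, a Sylow 2-subgroup P of Ω has P/P' elementary abelian: the square of every element of P lies in the derived subgroup of P. -/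
theorem result {F : Type*} [Field F] [Fintype F] (hF : Odd (Fintype.card F)) (m : ℕ) (hm : 1 ≤ m) (hm' : Even m ∨ 4 ≤ m) (P : Sylow 2 (Cfsg.Omega F (Cfsg.quadFormPlus m F))) : ∀ x : (P : Subgroup (Cfsg.Omega F (Cfsg.quadFormPlus m F))), x ^ 2 ∈ commutator (P : Subgroup (Cfsg.Omega F (Cfsg.quadFormPlus m F))) := by
  classical
  open Cfsg.Agent.Lib.Helper10.OmegaSylow Cfsg.Agent.Lib.Helper10.SpSylowE
    Cfsg.Agent.Lib.Helper19.QuadStd in
  have h2 : (2 : F) ≠ 0 := Cfsg.Agent.Lib.Helper10.SpSylow.two_ne_zero_of_odd _ rfl hF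
  have hq2 : 2 ≤ Fintype.card F := Fintype.one_lt_card
  have hkey := Cfsg.Agent.S0790.result (F := F) rfl hF m hm
  have hO := Cfsg.Agent.S0287.result (F := F) rfl m hm
  rw [← coe_stdPlus] at hkey hO
  have hcard : Fintype.card (Fin m ⊕ Fin m) = 2 * m := by
    rw [Fintype.card_sum, Fintype.card_fin]
    ring
  have hQ := stdPlus_nondeg (F := F) m
  have hn2 : 2 ≤ Fintype.card (Fin m ⊕ Fin m) := by rw [hcard]; omega
  have he : Even (Fintype.card (Fin m ⊕ Fin m)) := by rw [hcard]; exact even_two_mul m
  rw [Cfsg.Agent.Lib.Helper19.OrthRefl.exists_negOne_mem_Omega_iff h2 _ hQ hn2 he] at hkey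
  have hqm : 2 ≤ Fintype.card F ^ m := by
    calc 2 ≤ Fintype.card F := hq2
      _ = Fintype.card F ^ 1 := (pow_one _).symm
      _ ≤ Fintype.card F ^ m := Nat.pow_le_pow_right (by omega) hm
  have hqmodd : Odd (Fintype.card F ^ m) := hF.pow
  have hval := val_card_even_aux (F := F) hF m (Fintype.card F ^ m - 1) (by omega)
  rw [← hO] at hval
  have hmc : m * (padicValNat 2 (Fintype.card F + 1) + padicValNat 2 (Fintype.card F - 1)) =
      (m - 1) * (padicValNat 2 (Fintype.card F + 1) + padicValNat 2 (Fintype.card F - 1)) +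
        (padicValNat 2 (Fintype.card F + 1) + padicValNat 2 (Fintype.card F - 1)) := by
    obtain ⟨t, rfl⟩ : ∃ t, m = t + 1 := ⟨m - 1, by omega⟩
    rw [Nat.add_sub_cancel]
    ring
  have hffm : ff m = padicValNat 2 m + ff (m - 1) := by
    have := ff_succ (m - 1)
    have h4 : m - 1 + 1 = m := by omega
    rw [h4] at this
    exact this
  have key : ∀ P : Sylow 2 ↥(Cfsg.Omega F ⇑(stdPlus m F)),
      SqComm ↥(P : Subgroup ↥(Cfsg.Omega F ⇑(stdPlus m F))) := by
    intro P
    refine sqComm_sylow_omega_even hF h2 (stdPlus m F) hQ m hm hcard ?_ ?_ P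
    · intro hsq
      have h1 := hkey.mp hsq
      have h3 := val_pow_sub_one_A (Fintype.card F) m hF hq2 hm h1
      constructor
      · rcases hm' with ⟨j, hj⟩ | h4
        · omega
        · omega
      · rw [hval]
        omega
    · intro hsq
      have h1 : Fintype.card F ^ m % 4 = 3 := by
        have hne : ¬ Fintype.card F ^ m % 4 = 1 := fun h => hsq (hkey.mpr h)
        obtain ⟨t, ht⟩ := hqmodd
        omega
      constructor
      · rcases hm' with ⟨j, hj⟩ | h4
        · exfalso
          have hj' : m = 2 * j := by omega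
          obtain ⟨t, ht⟩ := hF
          have h13 : Fintype.card F % 4 = 1 ∨ Fintype.card F % 4 = 3 := by omega
          rcases h13 with h13 | h13
          · rw [pow_mod_four_one _ m h13] at h1
            omega
          · rw [hj', pow_mod_four_three_even _ j h13] at h1
            omega
        · exact h4
      · rw [hval, val_two_mod_four (Fintype.card F ^ m - 1) (by omega)]
        omega
  rw [coe_stdPlus] at key
  exact key P

end Cfsg.Agent.S4630
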