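import Mathlib
import Cfsg.Statements.S4631
import Cfsg.Agent.Lib.Helper10.OmegaSylowP
import Cfsg.Agent.Lib.Helper10.OmegaSylowQ
import Cfsg.Agent.S0791
import Cfsg.Agent.S0288
import Cfsg.Agent.Lib.Helper19.QuadStd
import Cfsg.Agent.Lib.Helper19.OrthNegOne

set_option autoImplicit false
open Cfsg

namespace Cfsg.Agent.S4631


/-- Let F be a finite field of odd order, m ≥ 4, and a, b ∈ F with z₁² + a z₁ z₂ + b z₂² anisotropic. For the commutator subgroup Ω of the isometry group of the minus-type quadratic form Σ_{i<m−1} x_i y_i + (z₁² + a z₁ z₂ + b z₂²) in dimension 2m over F, a Sylow 2-subgroup P of Ω has P/P' elementary abelian: the square of every element of P lies in the derived subgroup of P. -/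
theorem result {F : Type*} [Field F] [Fintype F] (hF : Odd (Fintype.card F)) (m : ℕ) (hm : 4 ≤ m) (a b : F) (hab : ∀ z₁ z₂ : F, z₁ ^ 2 + a * z₁ * z₂ + b * z₂ ^ 2 = 0 → z₁ = 0 ∧ z₂ = 0) (P : Sylow 2 (Cfsg.Omega F (Cfsg.quadFormMinus (m - 1) F a b))) : ∀ x : (P : Subgroup (Cfsg.Omega F (Cfsg.quadFormMinus (m - 1) F a b))), x ^ 2 ∈ commutator (P : Subgroup (Cfsg.Omega F (Cfsg.quadFormMinus (m - 1) F a b))) := by
  classical
  open Cfsg.Agent.Lib.Helper10.OmegaSylow Cfsg.Agent.Lib.Helper10.SpSylowE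
    Cfsg.Agent.Lib.Helper19.QuadStd in
  have h2 : (2 : F) ≠ 0 := Cfsg.Agent.Lib.Helper10.SpSylow.two_ne_zero_of_odd _ rfl hF
  have hq2 : 2 ≤ Fintype.card F := Fintype.one_lt_card
  have hm1 : 1 ≤ m := by omega
  have hkey := Cfsg.Agent.S0791.result (F := F) rfl hF m hm1 a b hab
  have hO := Cfsg.Agent.S0288.result (F := F) rfl m hm1 a b hab
  rw [← coe_stdMinus] at hkey hO
  have hcard : Fintype.card ((Fin (m - 1) ⊕ Fin (m - 1)) ⊕ Fin 2) = 2 * m := by
    rw [Fintype.card_sum, Fintype.card_sum, Fintype.card_fin, Fintype.card_fin]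
    omega
  have hQ := stdMinus_nondeg (F := F) (m - 1) hab
  have hn2 : 2 ≤ Fintype.card ((Fin (m - 1) ⊕ Fin (m - 1)) ⊕ Fin 2) := by rw [hcard]; omega
  have he : Even (Fintype.card ((Fin (m - 1) ⊕ Fin (m - 1)) ⊕ Fin 2)) := by
    rw [hcard]; exact even_two_mul m
  rw [Cfsg.Agent.Lib.Helper19.OrthRefl.exists_negOne_mem_Omega_iff h2 _ hQ hn2 he] at hkey
  have hqm : 2 ≤ Fintype.card F ^ m := by
    calc 2 ≤ Fintype.card F := hq2
      _ = Fintype.card F ^ 1 := (pow_one _).symm
      _ ≤ Fintype.card F ^ m := Nat.pow_le_pow_right (by omega) hm1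
  have hqmodd : Odd (Fintype.card F ^ m) := hF.pow
  have hval := val_card_even_aux (F := F) hF m (Fintype.card F ^ m + 1) (by omega)
  rw [← hO] at hval
  have hmc : m * (padicValNat 2 (Fintype.card F + 1) + padicValNat 2 (Fintype.card F - 1)) =
      (m - 1) * (padicValNat 2 (Fintype.card F + 1) + padicValNat 2 (Fintype.card F - 1)) +
        (padicValNat 2 (Fintype.card F + 1) + padicValNat 2 (Fintype.card F - 1)) := by
    obtain ⟨t, rfl⟩ : ∃ t, m = t + 1 := ⟨m - 1, by omega⟩
    rw [Nat.add_sub_cancel]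
    ring
  have hffm : ff m = padicValNat 2 m + ff (m - 1) := by
    have := ff_succ (m - 1)
    have h4 : m - 1 + 1 = m := by omega
    rw [h4] at this
    exact this
  have key : ∀ P : Sylow 2 ↥(Cfsg.Omega F ⇑(stdMinus (m - 1) F a b)),
      SqComm ↥(P : Subgroup ↥(Cfsg.Omega F ⇑(stdMinus (m - 1) F a b))) := by
    intro P
    refine sqComm_sylow_omega_even hF h2 (stdMinus (m - 1) F a b) hQ m hm1 hcard ?_ ?_ P
    · intro hsq
      have h1 := hkey.mp hsq
      obtain ⟨h3, -⟩ := val_pow_add_one_A (Fintype.card F) m hF hq2 hm1 h1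
      constructor
      · omega
      · rw [hval]
        omega
    · intro hsq
      have h1 : Fintype.card F ^ m % 4 = 1 := by
        have hne : ¬ Fintype.card F ^ m % 4 = 3 := fun h => hsq (hkey.mpr h)
        obtain ⟨t, ht⟩ := hqmodd
        omega
      constructor
      · exact hm
      · rw [hval, val_two_mod_four (Fintype.card F ^ m + 1) (by omega)]
        omega
  rw [coe_stdMinus] at key
  exact key P

end Cfsg.Agent.S4631
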