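import Cfsg.Statements.S4636

set_option autoImplicit false
open Cfsg
open scoped Pointwise

namespace Cfsg.Agent.S4636

/-- From a nontrivial element killed by a power of `p`, extract a nontrivial power killed by `p`. -/
theorem exists_pow_ne_one {G : Type*} [Group G] {p : ℕ} (y : G) (hy : y ≠ 1)
    (h : ∃ k : ℕ, y ^ (p ^ k) = 1) : ∃ m : ℕ, y ^ m ≠ 1 ∧ (y ^ m) ^ p = 1 := by
  classical
  have hk0 : Nat.find h ≠ 0 := by
    intro h0
    have := Nat.find_spec h
    rw [h0, pow_zero, pow_one] at this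
    exact hy this
  obtain ⟨k, hk⟩ := Nat.exists_eq_succ_of_ne_zero hk0
  refine ⟨p ^ k, ?_, ?_⟩
  · exact Nat.find_min h (by omega)
  · have := Nat.find_spec h
    rw [hk, pow_succ, pow_mul] at this
    exact this

/-- In a cyclic group `P`, the elements killed by `p` all lie in the subgroup `Z` of order `p`. -/
theorem mem_of_pow_eq_one {G : Type*} [Group G] [Finite G] (p : ℕ) [Fact p.Prime]
    (P : Subgroup G) (hcyc : IsCyclic P) (Z : Subgroup G) (hZ : Z ≤ P) (hZcard : Nat.card Z = p)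
    (a : G) (haP : a ∈ P) (hap : a ^ p = 1) : a ∈ Z := by
  classical
  have : Fintype P := Fintype.ofFinite P
  have hp : 0 < p := (Fact.out : p.Prime).pos
  have hle := IsCyclic.card_pow_eq_one_le (α := P) hp
  -- the image of Z in P
  let S : Finset P := Finset.univ.filter fun b : P => b ^ p = 1
  let T : Finset P := Finset.univ.filter fun b : P => (b : G) ∈ Z
  have hTS : T ⊆ S := by
    intro b hb
    simp only [T, S, Finset.mem_filter, Finset.mem_univ, true_and] at hb ⊢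
    have h1 : (⟨(b : G), hb⟩ : Z) ^ Nat.card Z = 1 := pow_card_eq_one'
    rw [hZcard] at h1
    have h2 := congrArg (fun z : Z => (z : G)) h1
    simp only [Subgroup.coe_pow, Subgroup.coe_one] at h2
    exact Subtype.ext (by simpa using h2)
  have hTcard : T.card = p := by
    rw [← hZcard]
    have : T.card = Nat.card {b : P // (b : G) ∈ Z} := by
      rw [Nat.card_eq_fintype_card, Fintype.card_subtype]
    rw [this]
    apply Nat.card_congr
    exact
      { toFun := fun b => ⟨(b.1 : G), b.2⟩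
        invFun := fun z => ⟨⟨(z : G), hZ z.2⟩, z.2⟩
        left_inv := fun b => rfl
        right_inv := fun z => rfl }
  have hST : S = T := by
    symm
    apply Finset.eq_of_subset_of_card_le hTS
    rw [hTcard]
    exact hle
  have : (⟨a, haP⟩ : P) ∈ S := by
    simp only [S, Finset.mem_filter, Finset.mem_univ, true_and]
    exact Subtype.ext (by simpa using hap)
  rw [hST] at this
  simpa [T] using this

/-- If conjugation by `g` sends a nontrivial element of the prime-order group `Z` into `Z`, it sends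
all of `Z` into `Z`. -/
theorem conj_mem_of_conj_mem {G : Type*} [Group G] (p : ℕ) [Fact p.Prime]
    (Z : Subgroup G) (hZcard : Nat.card Z = p) (g w : G) (hw : w ∈ Z) (hw1 : w ≠ 1)
    (hgw : g * w * g⁻¹ ∈ Z) : ∀ h ∈ Z, g * h * g⁻¹ ∈ Z := by
  intro h hh
  have hZw : ∀ z : Z, z ∈ Subgroup.zpowers (⟨w, hw⟩ : Z) := by
    intro z
    have : (⟨w, hw⟩ : Z) ≠ 1 := fun h => hw1 (by simpa using congrArg Subtype.val h)
    have htop := zpowers_eq_top_of_prime_card (G := Z) (p := p) hZcard this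
    rw [htop]; trivial
  obtain ⟨k, hk⟩ := hZw ⟨h, hh⟩
  have hk' : w ^ k = h := by
    have := congrArg Subtype.val hk
    simpa using this
  rw [← hk']
  have : g * w ^ k * g⁻¹ = (g * w * g⁻¹) ^ k := by
    rw [conj_zpow]
  rw [this]
  exact Z.zpow_mem hgw k

theorem mem_normalizer_of_conj_mem {G : Type*} [Group G] (p : ℕ) [Fact p.Prime]
    (Z : Subgroup G) (hZcard : Nat.card Z = p) (g w : G) (hw : w ∈ Z) (hw1 : w ≠ 1)
    (hgw : g * w * g⁻¹ ∈ Z) : g ∈ Subgroup.normalizer (Z : Set G) := by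
  rw [Subgroup.mem_set_normalizer_iff]
  intro h
  constructor
  · exact conj_mem_of_conj_mem p Z hZcard g w hw hw1 hgw h
  · intro hh
    have hw1' : g * w * g⁻¹ ≠ 1 := by
      intro h1
      apply hw1
      have : w = g⁻¹ * (g * w * g⁻¹) * g := by group
      rw [this, h1]; group
    have hback : g⁻¹ * (g * w * g⁻¹) * g⁻¹⁻¹ ∈ Z := by
      have : g⁻¹ * (g * w * g⁻¹) * g⁻¹⁻¹ = w := by group
      rw [this]; exact hw
    have := conj_mem_of_conj_mem p Z hZcard g⁻¹ (g * w * g⁻¹) hgw hw1' hback _ hh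
    have e : g⁻¹ * (g * h * g⁻¹) * g⁻¹⁻¹ = h := by group
    rwa [e] at this

theorem result {G : Type*} [Group G] [Finite G] (p : ℕ) [Fact p.Prime] (P : Subgroup G) (hP : IsPGroup p P) (hP1 : P ≠ ⊥) (hcyc : IsCyclic P) (Z : Subgroup G) (hZ : Z ≤ P) (hZcard : Nat.card Z = p) : (∀ x : G, x ∉ Subgroup.normalizer (Z : Set G) → P ⊓ MulAut.conj x • P = ⊥) ∧ ∀ Q : Subgroup G, Q ≤ P → Q ≠ ⊥ → Subgroup.normalizer (Q : Set G) ≤ Subgroup.normalizer (Z : Set G) := by
  have hpk : ∀ y ∈ P, ∃ k : ℕ, y ^ (p ^ k) = 1 := by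
    intro y hy
    obtain ⟨k, hk⟩ := hP ⟨y, hy⟩
    refine ⟨k, ?_⟩
    have := congrArg Subtype.val hk
    simpa using this
  constructor
  · intro x hx
    by_contra hne
    obtain ⟨y, hy, hy1⟩ : ∃ y ∈ P ⊓ MulAut.conj x • P, y ≠ 1 := by
      obtain ⟨y, hy1⟩ := (Subgroup.ne_bot_iff_exists_ne_one (H := P ⊓ MulAut.conj x • P)).mp hne
      exact ⟨(y : G), y.2, fun h => hy1 (Subtype.ext h)⟩
    obtain ⟨hyP, hyxP⟩ := Subgroup.mem_inf.mp hy
    obtain ⟨m, hm1, hmp⟩ := exists_pow_ne_one y hy1 (hpk y hyP)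
    have hwP : y ^ m ∈ P := P.pow_mem hyP m
    have hwxP : y ^ m ∈ MulAut.conj x • P := (MulAut.conj x • P).pow_mem hyxP m
    rw [Subgroup.mem_pointwise_smul_iff_inv_smul_mem] at hwxP
    simp only [MulAut.smul_def, map_inv, MulAut.inv_apply, MulAut.conj_symm_apply] at hwxP
    have hwZ : y ^ m ∈ Z := mem_of_pow_eq_one p P hcyc Z hZ hZcard _ hwP hmp
    have hcp : (x⁻¹ * y ^ m * x) ^ p = 1 := by
      have : x⁻¹ * y ^ m * x = x⁻¹ * y ^ m * x⁻¹⁻¹ := by group
      rw [this, conj_pow, hmp]; group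
    have hcZ : x⁻¹ * y ^ m * x ∈ Z := mem_of_pow_eq_one p P hcyc Z hZ hZcard _ hwxP hcp
    have hcZ' : x⁻¹ * y ^ m * x⁻¹⁻¹ ∈ Z := by simpa using hcZ
    have := mem_normalizer_of_conj_mem p Z hZcard x⁻¹ (y ^ m) hwZ hm1 hcZ'
    exact hx (by simpa using (Subgroup.normalizer (Z : Set G)).inv_mem this)
  · intro Q hQP hQ1 g hg
    obtain ⟨y, hyQ, hy1⟩ : ∃ y ∈ Q, y ≠ 1 := by
      obtain ⟨y, hy1⟩ := (Subgroup.ne_bot_iff_exists_ne_one (H := Q)).mp hQ1
      exact ⟨(y : G), y.2, fun h => hy1 (Subtype.ext h)⟩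
    obtain ⟨m, hm1, hmp⟩ := exists_pow_ne_one y hy1 (hpk y (hQP hyQ))
    have hwQ : y ^ m ∈ Q := Q.pow_mem hyQ m
    have hwZ : y ^ m ∈ Z := mem_of_pow_eq_one p P hcyc Z hZ hZcard _ (hQP hwQ) hmp
    have hgQ : g * y ^ m * g⁻¹ ∈ Q := (Subgroup.mem_set_normalizer_iff.mp hg _).mp hwQ
    have hcp : (g * y ^ m * g⁻¹) ^ p = 1 := by
      rw [conj_pow, hmp]; group
    have hcZ : g * y ^ m * g⁻¹ ∈ Z := mem_of_pow_eq_one p P hcyc Z hZ hZcard _ (hQP hgQ) hcp
    exact mem_normalizer_of_conj_mem p Z hZcard g (y ^ m) hwZ hm1 hcZ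

end Cfsg.Agent.S4636
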