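import Cfsg.Statements.S4691
import Cfsg.Agent.Lib.Helper4.BrauerHom
import Cfsg.Agent.Lib.Helper4.BlockStab
import Cfsg.Agent.S0071
import Cfsg.Agent.S0086

set_option autoImplicit false
open Cfsg

namespace Cfsg.Agent.S4691

/-- Fix a prime p and a maximal ideal M of the algebraic integers containing p. A finite group G has a normal p-complement if and only if its principal p-block is nilpotent. -/
theorem result {G : Type*} [Group G] [Fintype G] (p : ℕ) [Fact p.Prime] (M : Ideal Cfsg.AlgInt) (hM : Cfsg.IsPModular p M) : Cfsg.HasNormalPComplement p G ↔ Cfsg.IsNilpotentBlock p M (Cfsg.principalBlock M G) := by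
  have hMprime : M.IsPrime := hM.2.1.isPrime
  have hMtop : M ≠ ⊤ := Ideal.IsPrime.ne_top hMprime
  have hp : p.Prime := Fact.out
  constructor
  · rintro ⟨P, N, hNn, hc⟩
    refine ⟨Cfsg.Agent.Lib.Helper28.isPBlock_principalBlock, ?_⟩
    intro Q e hQe x hx _ hreg
    have hQ : IsPGroup p Q := hQe.1.1
    have hxN : x ∈ N := (Cfsg.Agent.S0086.result P N hc x).mpr
      ((Nat.Prime.coprime_iff_not_dvd hp).mpr hreg).symm
    rw [Subgroup.mem_centralizer_iff]
    intro q hq
    -- the commutator lies in `N ∩ Q`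
    set c := x * q * x⁻¹ * q⁻¹ with hc_def
    have hcN : c ∈ N := by
      have h1 : q * x⁻¹ * q⁻¹ ∈ N := hNn.conj_mem _ (N.inv_mem hxN) q
      have : c = x * (q * x⁻¹ * q⁻¹) := by rw [hc_def]; group
      rw [this]
      exact N.mul_mem hxN h1
    have hcQ : c ∈ Q := by
      have h1 : x * q * x⁻¹ ∈ Q := (Subgroup.mem_normalizer_iff.mp hx q).mp hq
      exact Q.mul_mem h1 (Q.inv_mem hq)
    have hcop : Nat.Coprime (orderOf c) p := (Cfsg.Agent.S0086.result P N hc c).mp hcN
    obtain ⟨k, hk⟩ := hQ ⟨c, hcQ⟩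
    have hk' : c ^ p ^ k = 1 := by
      have := congrArg Subtype.val hk
      simpa using this
    have hdvd : orderOf c ∣ p ^ k := orderOf_dvd_of_pow_eq_one hk'
    have h1 : orderOf c = 1 := by
      have h2 : Nat.Coprime (orderOf c) (p ^ k) := Nat.Coprime.pow_right k hcop
      exact Nat.Coprime.eq_one_of_dvd h2 hdvd
    have hc1 : c = 1 := orderOf_eq_one_iff.mp h1
    have : x * q = q * x := by
      have h2 : x * q * x⁻¹ * q⁻¹ = 1 := hc1
      calc x * q = (x * q * x⁻¹ * q⁻¹) * q * x := by group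
        _ = q * x := by rw [h2, one_mul]
    exact this.symm
  · intro hnil
    obtain ⟨P⟩ : Nonempty (Sylow p G) := inferInstance
    refine ⟨P, (Cfsg.Agent.S0071.result P).mpr ?_⟩
    intro Q hQP g hg hcop
    have hQ : IsPGroup p Q := P.isPGroup'.to_le hQP
    have hpair := Cfsg.Agent.Lib.Helper4.isBrauerPairOf_principal hM Q hQ
    have hgC : g ∈ Subgroup.normalizer ((Subgroup.centralizer (Q : Set G) : Subgroup G) : Set G) := by
      rw [Subgroup.mem_normalizer_iff]
      have hg' := Subgroup.mem_normalizer_iff.mp hg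
      have hginv : g⁻¹ ∈ Subgroup.normalizer (Q : Set G) := (Subgroup.normalizer (Q : Set G)).inv_mem hg
      have hginv' := Subgroup.mem_normalizer_iff.mp hginv
      intro h
      simp only [Subgroup.mem_centralizer_iff]
      constructor
      · intro hh q hq
        have hq' : g⁻¹ * q * g⁻¹⁻¹ ∈ Q := (hginv' q).mp hq
        have := hh _ hq'
        have e1 : q * (g * h * g⁻¹) = g * ((g⁻¹ * q * g⁻¹⁻¹) * h) * g⁻¹ := by group
        have e2 : g * h * g⁻¹ * q = g * (h * (g⁻¹ * q * g⁻¹⁻¹)) * g⁻¹ := by group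
        rw [e1, e2, this]
      · intro hh q hq
        have hq' : g * q * g⁻¹ ∈ Q := (hg' q).mp hq
        have := hh _ hq'
        have e1 : q * h = g⁻¹ * ((g * q * g⁻¹) * (g * h * g⁻¹)) * g := by group
        have e2 : h * q = g⁻¹ * ((g * h * g⁻¹) * (g * q * g⁻¹)) * g := by group
        rw [e1, e2, this]
    exact hnil.2 Q _ hpair g hg
      (Cfsg.Agent.Lib.Helper4.stabilizesBlock_principalBlock _ g hgC)
      ((Nat.Prime.coprime_iff_not_dvd hp).mp hcop.symm)

end Cfsg.Agent.S4691
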