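import Cfsg.Statements.S4646
import Cfsg.Agent.S4691
import Cfsg.Agent.S0939
import Cfsg.Agent.S0086
import Cfsg.Agent.Lib.Helper4.TwoClasses
import Cfsg.Agent.Lib.Helper4.BlockRegular
import Cfsg.Agent.Lib.Helper17.NormalHall
import Cfsg.Agent.Lib.Helper20.Cores
import Cfsg.Agent.Lib.Helper28.BlockDefectE
import Cfsg.Agent.Lib.Helper28.BlockPReg

set_option autoImplicit false
open Cfsg

namespace Cfsg.Agent.S4646

open scoped ComplexConjugate in
theorem blockCoeff_one_ne_zero {G : Type*} [Group G] [Fintype G] {M : Ideal Cfsg.AlgInt}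
    (hMtop : M ≠ ⊤) : Cfsg.blockCoeff (Cfsg.principalBlock M G) (1 : G) ≠ 0 := by
  classical
  have : Fintype (Cfsg.IrrCharacter G) := Fintype.ofFinite _
  rw [Cfsg.Agent.Lib.Helper28.blockCoeff_eq_sum]
  have hG : (Nat.card G : ℂ) ≠ 0 := by
    have : Nat.card G ≠ 0 := Nat.card_pos.ne'
    exact_mod_cast this
  apply mul_ne_zero (inv_ne_zero hG)
  -- each term is a nonnegative real; the trivial character contributes 1
  have hterm : ∀ χ : Cfsg.IrrCharacter G,
      (if χ ∈ Cfsg.principalBlock M G then (χ : G → ℂ) 1 * conj ((χ : G → ℂ) 1) else 0)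
        = (((if χ ∈ Cfsg.principalBlock M G then Complex.normSq ((χ : G → ℂ) 1) else 0 : ℝ)) : ℂ) := by
    intro χ
    split_ifs
    · rw [Complex.mul_conj]
    · simp
  rw [Finset.sum_congr rfl (fun χ _ => hterm χ), ← Complex.ofReal_sum]
  rw [Ne, Complex.ofReal_eq_zero]
  apply ne_of_gt
  apply Finset.sum_pos'
  · intro χ _
    split_ifs
    · exact Complex.normSq_nonneg _
    · exact le_refl _
  · refine ⟨Cfsg.Agent.Lib.Helper28.trivIrr G, Finset.mem_univ _, ?_⟩
    rw [if_pos (Cfsg.Agent.Lib.Helper28.trivIrr_mem_principalBlock hMtop)]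
    show 0 < Complex.normSq ((fun _ : G => (1 : ℂ)) 1)
    simp

/-- For a finite group G, a prime p and a maximal ideal M of the algebraic integers containing p: the principal block of G is nilpotent if and only if its p-regular rank is 1 (the trivial Brauer character is its only irreducible Brauer character). -/
theorem result {G : Type*} [Group G] [Finite G] (p : ℕ) [Fact p.Prime] (M : Ideal Cfsg.AlgInt) (hM : Cfsg.IsPModular p M) : Cfsg.IsNilpotentBlock p M (Cfsg.principalBlock M G) ↔ Cfsg.blockRank p (Cfsg.principalBlock M G) = 1 := by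
  classical
  have : Fintype G := Fintype.ofFinite G
  have hMprime : M.IsPrime := hM.2.1.isPrime
  have hMtop : M ≠ ⊤ := Ideal.IsPrime.ne_top hMprime
  have hp : p.Prime := Fact.out
  set B := Cfsg.principalBlock M G with hB
  set v : G → ℂ := Cfsg.pRegularPart p ((Cfsg.Agent.Lib.Helper28.trivIrr G : Cfsg.IrrCharacter G) : G → ℂ) with hv
  have hv1 : v 1 = 1 := by
    rw [hv]
    unfold Cfsg.pRegularPart
    have : Cfsg.IsPRegular p (1 : G) := by
      unfold Cfsg.IsPRegular
      rw [orderOf_one]
      exact hp.not_dvd_one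
    simp only [if_pos this]
    rfl
  have hvne : v ≠ 0 := by
    intro h
    rw [h] at hv1
    simp at hv1
  have hvmem : v ∈ ((fun χ : Cfsg.IrrCharacter G => Cfsg.pRegularPart p (χ : G → ℂ)) '' B) :=
    ⟨Cfsg.Agent.Lib.Helper28.trivIrr G, Cfsg.Agent.Lib.Helper28.trivIrr_mem_principalBlock hMtop, rfl⟩
  constructor
  · intro hnil
    obtain ⟨P, N, hNn, hc⟩ := (Cfsg.Agent.S4691.result p M hM).mpr hnil
    -- `N` is a `p'`-group
    have hNcop : (Nat.card N).Coprime p := by
      rw [Nat.coprime_comm, Nat.Prime.coprime_iff_not_dvd hp]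
      intro hdvd
      obtain ⟨x, hx⟩ := exists_prime_orderOf_dvd_card' p hdvd
      have hx' : orderOf (x : G) = p := by rw [Subgroup.orderOf_coe]; exact hx
      have := (Cfsg.Agent.S0086.result P N hc (x : G)).mp x.2
      rw [hx'] at this
      exact hp.one_lt.ne' ((Nat.coprime_self p).mp this)
    have hNle : N ≤ Cfsg.pPrimeCore p G := Cfsg.Agent.Lib.Helper20.le_pPrimeCore' hNn hNcop
    have hidxN : N.index = Nat.card (P : Subgroup G) := hc.symm.index_eq_card
    obtain ⟨n, hn⟩ := IsPGroup.iff_card.mp P.isPGroup'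
    have hidx : ∃ k : ℕ, (Cfsg.pPrimeCore p G).index = p ^ k := by
      have h1 : (Cfsg.pPrimeCore p G).index ∣ p ^ n := by
        rw [← hn, ← hidxN]
        exact Subgroup.index_dvd_of_le hNle
      obtain ⟨k, _, hk⟩ := (Nat.dvd_prime_pow hp).mp h1
      exact ⟨k, hk⟩
    have hBeq := Cfsg.Agent.S0939.result p M hM hidx
    -- every member of the block is constant on `p`-regular elements
    have hconst : ∀ χ ∈ B, Cfsg.pRegularPart p ((χ : Cfsg.IrrCharacter G) : G → ℂ) = ((χ : G → ℂ) 1) • v := by
      intro χ hχ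
      rw [hB, hBeq] at hχ
      funext g
      rw [hv]
      unfold Cfsg.pRegularPart
      by_cases hg : Cfsg.IsPRegular p g
      · simp only [if_pos hg, Pi.smul_apply, smul_eq_mul]
        have hgN : g ∈ N := (Cfsg.Agent.S0086.result P N hc g).mpr
          ((Nat.Prime.coprime_iff_not_dvd hp).mpr hg).symm
        rw [hχ g (hNle hgN)]
        show _ = (χ : G → ℂ) 1 * 1
        rw [mul_one]
      · simp only [if_neg hg, Pi.smul_apply, smul_eq_mul, mul_zero]
    have hspan : Submodule.span ℂ ((fun χ : Cfsg.IrrCharacter G => Cfsg.pRegularPart p (χ : G → ℂ)) '' B)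
        = Submodule.span ℂ {v} := by
      apply le_antisymm
      · rw [Submodule.span_le]
        rintro _ ⟨χ, hχ, rfl⟩
        show Cfsg.pRegularPart p (χ : G → ℂ) ∈ Submodule.span ℂ {v}
        rw [hconst χ hχ]
        exact Submodule.smul_mem _ _ (Submodule.mem_span_singleton_self v)
      · rw [Submodule.span_le]
        intro w hw
        rw [Set.mem_singleton_iff] at hw
        rw [hw]
        exact Submodule.subset_span hvmem
    unfold Cfsg.blockRank
    rw [hspan]
    exact finrank_span_singleton hvne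
  · intro hrank
    unfold Cfsg.blockRank at hrank
    set S := Submodule.span ℂ ((fun χ : Cfsg.IrrCharacter G => Cfsg.pRegularPart p (χ : G → ℂ)) '' B) with hS
    have hvS : v ∈ S := Submodule.subset_span hvmem
    have hv' : (⟨v, hvS⟩ : S) ≠ 0 := by
      intro h
      apply hvne
      exact congrArg Subtype.val h
    have hall := (finrank_eq_one_iff_of_nonzero' (⟨v, hvS⟩ : S) hv').mp hrank
    -- every member of the block is constant on `p`-regular elements
    have hconst : ∀ χ ∈ B, ∀ g : G, Cfsg.IsPRegular p g → (χ : G → ℂ) g = (χ : G → ℂ) 1 := by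
      intro χ hχ g hg
      have hmem : Cfsg.pRegularPart p (χ : G → ℂ) ∈ S := Submodule.subset_span ⟨χ, hχ, rfl⟩
      obtain ⟨c, hc⟩ := hall ⟨_, hmem⟩
      have hc' : c • v = Cfsg.pRegularPart p (χ : G → ℂ) := congrArg Subtype.val hc
      have hreg1 : Cfsg.IsPRegular p (1 : G) := by
        unfold Cfsg.IsPRegular
        rw [orderOf_one]
        exact hp.not_dvd_one
      have h1 := congrFun hc' 1
      have hg' := congrFun hc' g
      have hvg : v g = 1 := by
        rw [hv]
        unfold Cfsg.pRegularPart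
        simp only [if_pos hg]
        rfl
      unfold Cfsg.pRegularPart at h1 hg'
      simp only [if_pos hreg1, if_pos hg, Pi.smul_apply, smul_eq_mul] at h1 hg'
      rw [hv1, mul_one] at h1
      rw [hvg, mul_one] at hg'
      rw [← hg', ← h1]
    -- the intersection of the kernels
    set N : Subgroup G := ⨅ χ ∈ B, Cfsg.Agent.Lib.Helper4.charKer χ with hN
    have hNn : N.Normal := by
      rw [hN]
      apply Subgroup.normal_iInf_normal
      intro χ
      apply Subgroup.normal_iInf_normal
      intro _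
      infer_instance
    have hmemN : ∀ g : G, g ∈ N ↔ ∀ χ ∈ B, (χ : G → ℂ) g = (χ : G → ℂ) 1 := by
      intro g
      rw [hN]
      simp only [Subgroup.mem_iInf, Cfsg.Agent.Lib.Helper4.mem_charKer]
    have hregN : ∀ g : G, Cfsg.IsPRegular p g → g ∈ N := fun g hg =>
      (hmemN g).mpr fun χ hχ => hconst χ hχ g hg
    have hNreg : ∀ g ∈ N, ¬ p ∣ orderOf g := by
      intro g hg hdvd
      have h0 := Cfsg.Agent.Lib.Helper4.blockCoeff_eq_zero_of_pSingular hM
        (Cfsg.Agent.Lib.Helper28.isPBlock_principalBlock (M := M) (G := G)) g hdvd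
      have h1 : Cfsg.blockCoeff B g = Cfsg.blockCoeff B 1 := by
        unfold Cfsg.blockCoeff
        congr 1
        apply finsum_mem_congr rfl
        intro χ hχ
        rw [(hmemN g).mp hg χ hχ]
      exact blockCoeff_one_ne_zero hMtop (by rw [← h1]; exact h0)
    have hNcop : (Nat.card N).Coprime p := by
      rw [Nat.coprime_comm, Nat.Prime.coprime_iff_not_dvd hp]
      intro hdvd
      obtain ⟨x, hx⟩ := exists_prime_orderOf_dvd_card' p hdvd
      have hx' : orderOf (x : G) = p := by rw [Subgroup.orderOf_coe]; exact hx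
      exact hNreg x x.2 (by rw [hx'])
    have hidx : ∃ n, N.index = p ^ n := by
      have hpg : IsPGroup p (G ⧸ N) := by
        intro q
        obtain ⟨g, rfl⟩ := QuotientGroup.mk_surjective q
        refine ⟨(Nat.card G).factorization p, ?_⟩
        rw [← QuotientGroup.mk_pow]
        rw [QuotientGroup.eq_one_iff]
        exact hregN _ (Cfsg.Agent.Lib.Helper28.pow_factorization_not_dvd_orderOf hp g)
      obtain ⟨n, hn⟩ := IsPGroup.iff_card.mp hpg
      exact ⟨n, by rw [Subgroup.index_eq_card]; exact hn⟩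
    have hnpc := Cfsg.Agent.Lib.Helper17.hasNormalPComplement_of_normal_coprime_ppow_index N hNcop hidx
    exact (Cfsg.Agent.S4691.result p M hM).mp hnpc

end Cfsg.Agent.S4646
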