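import Cfsg.Statements.S4652
import Cfsg.Agent.S0908
import Cfsg.Agent.Lib.Helper28.BlockDefectE

set_option autoImplicit false
open Cfsg

namespace Cfsg.Agent.S4652

open Cfsg.Agent.Lib.Helper28 in
theorem result {G : Type*} [Group G] [Fintype G] (p : ℕ) [Fact p.Prime] (M : Ideal Cfsg.AlgInt) (hM : Cfsg.IsPModular p M) (D : Subgroup G) : Cfsg.IsDefectGroup p M (Cfsg.principalBlock M G) D ↔ ∃ S : Sylow p G, (S : Subgroup G) = D := by
  classical
  have hB : IsPBlock M (principalBlock M G) := isPBlock_principalBlock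
  have hcardD : ∀ D' : Subgroup G, IsDefectGroup p M (principalBlock M G) D' →
      Nat.card D' = p ^ (Nat.card G).factorization p := by
    intro D' hD'
    rw [Cfsg.Agent.S0908.result p M hM _ hB D' hD', blockDefect_principalBlock hM]
  constructor
  · intro hD
    exact ⟨Sylow.ofCard D (hcardD D hD), rfl⟩
  · rintro ⟨S, rfl⟩
    obtain ⟨g, hg⟩ := exists_defectClass hM hB
    obtain ⟨P⟩ : Nonempty (Sylow p (Subgroup.centralizer ({g} : Set G))) := inferInstance
    have hDg : IsDefectGroup p M (principalBlock M G)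
        ((P : Subgroup (Subgroup.centralizer ({g} : Set G))).map
          (Subgroup.centralizer ({g} : Set G)).subtype) := ⟨g, hg, P, rfl⟩
    let Sg : Sylow p G := Sylow.ofCard _ (hcardD _ hDg)
    obtain ⟨c, hc⟩ := MulAction.exists_smul_eq G Sg S
    have hg' := isDefectClass_conj hg c
    refine ⟨c * g * c⁻¹, hg', ?_⟩
    -- S centralizes c g c⁻¹
    have hSle : (S : Subgroup G) ≤ Subgroup.centralizer ({c * g * c⁻¹} : Set G) := by
      intro s hs
      rw [← hc] at hs
      rw [Sylow.coe_subgroup_smul, Subgroup.mem_pointwise_smul_iff_inv_smul_mem] at hs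
      have hs' : c⁻¹ * s * c ∈ (P : Subgroup (Subgroup.centralizer ({g} : Set G))).map
          (Subgroup.centralizer ({g} : Set G)).subtype := by
        have : (MulAut.conj c)⁻¹ • s = c⁻¹ * s * c := by
          simp [MulAut.smul_def, MulAut.conj_inv_apply]
        rw [this] at hs
        exact hs
      obtain ⟨t, _, ht⟩ := Subgroup.mem_map.mp hs'
      have htc := (Subgroup.mem_centralizer_iff.mp t.2) g (Set.mem_singleton g)
      have ht' : (t : G) = c⁻¹ * s * c := ht
      rw [Subgroup.mem_centralizer_iff]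
      intro h hh
      rw [Set.mem_singleton_iff] at hh
      rw [hh]
      have hs2 : s = c * (t : G) * c⁻¹ := by rw [ht']; group
      rw [hs2]
      have e1 : c * g * c⁻¹ * (c * (t : G) * c⁻¹) = c * (g * (t : G)) * c⁻¹ := by group
      have e2 : c * (t : G) * c⁻¹ * (c * g * c⁻¹) = c * ((t : G) * g) * c⁻¹ := by group
      rw [e1, e2, htc]
    have hp' : IsPGroup p ((S : Subgroup G).subgroupOf
        (Subgroup.centralizer ({c * g * c⁻¹} : Set G))) := S.isPGroup'.comap_subtype
    obtain ⟨P', hP'⟩ := hp'.exists_le_sylow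
    refine ⟨P', ?_⟩
    have hQp : IsPGroup p ((P' : Subgroup (Subgroup.centralizer ({c * g * c⁻¹} : Set G))).map
        (Subgroup.centralizer ({c * g * c⁻¹} : Set G)).subtype) := P'.isPGroup'.map _
    have hle : (S : Subgroup G) ≤
        (P' : Subgroup (Subgroup.centralizer ({c * g * c⁻¹} : Set G))).map
        (Subgroup.centralizer ({c * g * c⁻¹} : Set G)).subtype := by
      intro s hs
      exact Subgroup.mem_map.mpr ⟨⟨s, hSle hs⟩, hP' (Subgroup.mem_subgroupOf.mpr hs), rfl⟩
    exact (S.is_maximal' hQp hle).symm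

end Cfsg.Agent.S4652
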