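import Cfsg.Statements.S4656
import Cfsg.Agent.Lib.Helper4.BrauerSub

set_option autoImplicit false
open Cfsg

namespace Cfsg.Agent.S4656

/-- Fix a prime p and a maximal ideal M of the algebraic integers containing p. Let (P, e) be a Brauer pair of the finite group G and Q a normal subgroup of P. Then there is exactly one p-block f of C_G(Q) that is stable under conjugation by P and such that e occurs in the Brauer-map image at P of the idempotent of f; that is, exactly one f with (Q, f) normally below (P, e). -/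
theorem result {G : Type*} [Group G] [Fintype G] (p : ℕ) [Fact p.Prime] (M : Ideal Cfsg.AlgInt) (hM : Cfsg.IsPModular p M) (P Q : Subgroup G) (e : Set (Cfsg.IrrCharacter (Subgroup.centralizer (P : Set G)))) (hPe : Cfsg.IsBrauerPair p M P e) (hQP : Q ≤ P) (hPN : P ≤ Subgroup.normalizer (Q : Set G)) : ∃! f : Set (Cfsg.IrrCharacter (Subgroup.centralizer (Q : Set G))), Cfsg.IsNormalSubpair p M Q f P e := by
  classical
  have hMprime : M.IsPrime := hM.2.1.isPrime
  obtain ⟨hP, he⟩ := hPe
  have hQ : IsPGroup p Q := hP.to_le hQP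
  have hPK : P ≤ Subgroup.normalizer
      ((Subgroup.centralizer (Q : Set G) : Subgroup G) : Set G) :=
    hPN.trans (Cfsg.Agent.Lib.Helper4.normalizer_le_normalizer_centralizer Q)
  have hCK : Subgroup.centralizer (P : Set G) ≤ Subgroup.centralizer (Q : Set G) :=
    Subgroup.centralizer_le hQP
  obtain ⟨ξ0, hξ0⟩ := Cfsg.Agent.Lib.Helper28.block_nonempty he
  obtain ⟨f, hf, hst, h1⟩ := Cfsg.Agent.Lib.Helper4.exists_stable_block hM hP hPK hCK ξ0.2
  refine ⟨f, ⟨⟨hQ, hf⟩, ⟨hP, he⟩, hQP, hPN, hst, ?_⟩, ?_⟩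
  · intro ξ hξ
    have hsb : Cfsg.SameBlock M (ξ : Subgroup.centralizer (P : Set G) → ℂ)
        (ξ0 : Subgroup.centralizer (P : Set G) → ℂ) :=
      (Cfsg.Agent.Lib.Helper28.mem_block_iff he hξ ξ0).mp hξ0
    have hinvK : Cfsg.Agent.Lib.Helper4.InvUnder (Subgroup.centralizer (P : Set G))
        (Cfsg.subgroupBlockCoeff (Subgroup.centralizer (Q : Set G)) f) :=
      Cfsg.Agent.Lib.Helper4.invUnder_mono hCK
        (Cfsg.Agent.Lib.Helper4.invUnder_extZero_self _
          (Cfsg.Agent.Lib.Helper28.isClassFunction_blockCoeff f))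
    have hR : ∀ g : G, Cfsg.MemLocalRing M
        (Cfsg.subgroupBlockCoeff (Subgroup.centralizer (Q : Set G)) f g) := by
      intro g
      by_cases hg : g ∈ Subgroup.centralizer (Q : Set G)
      · have e1 := Cfsg.Agent.Lib.Helper4.extZero_mem' (Subgroup.centralizer (Q : Set G))
          (Cfsg.blockCoeff f) ⟨g, hg⟩
        simp only at e1
        show Cfsg.MemLocalRing M (Cfsg.Agent.Lib.Helper4.extZero _ (Cfsg.blockCoeff f) g)
        rw [e1]
        exact Cfsg.Agent.Lib.Helper28.osima hf _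
      · show Cfsg.MemLocalRing M (Cfsg.Agent.Lib.Helper4.extZero _ (Cfsg.blockCoeff f) g)
        rw [Cfsg.Agent.Lib.Helper4.extZero_not_mem' _ _ hg]
        exact Cfsg.Agent.Lib.Helper28.memLocalRing_zero (Ideal.IsPrime.ne_top hMprime)
    have h2 := Cfsg.Agent.Lib.Helper4.brauerOmega_sameBlock P _ hinvK hR
      (Cfsg.Agent.Lib.Helper4.isClassFunction_of_isIrrCharacter ξ.2)
      (Cfsg.Agent.Lib.Helper4.isClassFunction_of_isIrrCharacter ξ0.2) hsb
    have := Cfsg.Agent.Lib.Helper28.memLocalIdeal_add h2 h1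
    rwa [sub_add_sub_cancel] at this
  · intro f' hf'
    obtain ⟨⟨_, hf'b⟩, _, _, _, hst', h1'⟩ := hf'
    exact Cfsg.Agent.Lib.Helper4.stable_block_unique hM hP hCK ξ0.2 hf'b hf hst' hst
      (h1' ξ0 hξ0) h1

end Cfsg.Agent.S4656
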