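import Cfsg.Statements.S4665
import Cfsg.Agent.Lib.Helper26.IndChar
import Cfsg.Agent.Lib.Helper4.BurnsideClass
import Cfsg.Agent.Lib.Helper4.CharOrtho

set_option autoImplicit false
open Cfsg

namespace Cfsg.Agent.S4665
open Cfsg.Agent.Lib.Helper26

/-- Fix a prime p, a maximal ideal M of the algebraic integers containing p, and a p-block B of the finite group G, and let p^a be the p-part of the order of G. Let χ be an integer combination of the irreducible characters in B. If the function that agrees with χ on p-regular elements and vanishes on p-singular elements is again an integer combination of the irreducible characters in B, then p^a divides χ(1). -/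
theorem result {G : Type*} [Group G] [Fintype G] (p : ℕ) [Fact p.Prime] (M : Ideal Cfsg.AlgInt) (hM : Cfsg.IsPModular p M) (B : Set (Cfsg.IrrCharacter G)) (hB : Cfsg.IsPBlock M B) (χ : G → ℂ) (hχ : (∃ n : Cfsg.IrrCharacter G → ℤ, ∀ g : G, χ g = ∑ᶠ ψ ∈ B, (n ψ : ℂ) * (ψ : G → ℂ) g)) (h0 : (∃ n : Cfsg.IrrCharacter G → ℤ, ∀ g : G, Cfsg.pRegularPart p χ g = ∑ᶠ ψ ∈ B, (n ψ : ℂ) * (ψ : G → ℂ) g)) : ∃ k : ℤ, χ 1 = (p ^ (Nat.card G).factorization p : ℂ) * k := by
  classical
  have hp : p.Prime := Fact.out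
  obtain ⟨n, hn⟩ := h0
  obtain ⟨θ, hθdef⟩ : ∃ θ : G → ℂ, θ = Cfsg.pRegularPart p χ := ⟨_, rfl⟩
  have hθapp : ∀ g : G, θ g = if Cfsg.IsPRegular p g then χ g else 0 := by
    intro g
    rw [hθdef]
    unfold Cfsg.pRegularPart
    congr
  have hθsum : θ = ∑ ψ ∈ (Set.toFinite B).toFinset, (n ψ) • (ψ : G → ℂ) := by
    funext g
    rw [hθdef, hn g, finsum_mem_eq_finite_toFinset_sum _ (Set.toFinite B), Finset.sum_apply]
    apply Finset.sum_congr rfl
    intro ψ _
    simp [zsmul_eq_mul]
  have hθgen : IsGeneralizedCharacter G θ := by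
    rw [hθsum]
    exact isGeneralizedCharacter_sum _ _ (fun ψ _ => isGeneralizedCharacter_zsmul
      (isGeneralizedCharacter_of_isCharacter (isCharacter_of_isIrrCharacter ψ.2)) _)
  obtain ⟨P⟩ : Nonempty (Sylow p G) := inferInstance
  have hrestr := isGeneralizedCharacter_restrict (P : Subgroup G) hθgen
  have h1gen : IsGeneralizedCharacter (P : Subgroup G) (fun _ => (1 : ℂ)) :=
    isGeneralizedCharacter_of_isCharacter
      (isCharacter_of_isIrrCharacter Cfsg.Agent.Lib.Helper4.isIrrCharacter_one)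
  obtain ⟨k, hk⟩ := classInner_generalized_int hrestr h1gen
  have hvanish : ∀ x : (P : Subgroup G), x ≠ 1 → θ (x : G) = 0 := by
    intro x hx
    rw [hθapp, if_neg]
    unfold Cfsg.IsPRegular
    rw [not_not]
    obtain ⟨j, hj⟩ := P.isPGroup' x
    have h2 : orderOf x ∣ p ^ j := orderOf_dvd_of_pow_eq_one hj
    obtain ⟨i, -, hi⟩ := (Nat.dvd_prime_pow hp).mp h2
    rw [Subgroup.orderOf_coe, hi]
    rcases Nat.eq_zero_or_pos i with h0 | hpos
    · exfalso
      rw [h0, pow_zero, orderOf_eq_one_iff] at hi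
      exact hx hi
    · exact dvd_pow_self p hpos.ne'
  have hcomp : classInner (θ ∘ (P : Subgroup G).subtype) (fun _ => (1 : ℂ)) =
      (Nat.card (P : Subgroup G) : ℂ)⁻¹ * θ 1 := by
    unfold classInner
    congr 1
    rw [Finset.sum_eq_single (1 : (P : Subgroup G))]
    · simp
    · intro x _ hx
      have h3 : (θ ∘ (P : Subgroup G).subtype) x = 0 := hvanish x hx
      rw [h3, zero_mul]
    · intro h; exact absurd (Finset.mem_univ _) h
  have hχ1 : χ 1 = θ 1 := by
    rw [hθapp, if_pos]
    unfold Cfsg.IsPRegular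
    rw [orderOf_one, Nat.dvd_one]
    exact hp.one_lt.ne'
  have hcardP : (Nat.card (P : Subgroup G) : ℂ) = (p : ℂ) ^ (Nat.card G).factorization p := by
    rw [Sylow.card_eq_multiplicity P]
    push_cast
    rfl
  have hne : (Nat.card (P : Subgroup G) : ℂ) ≠ 0 := by
    have : Nat.card (P : Subgroup G) ≠ 0 := Nat.card_pos.ne'
    exact_mod_cast this
  refine ⟨k, ?_⟩
  rw [hχ1, ← hcardP]
  have h4 := hcomp.symm.trans hk
  field_simp at h4
  linear_combination h4

end Cfsg.Agent.S4665
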