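import Cfsg.Statements.S4668
import Cfsg.Agent.Lib.Helper4.BlockCentralizer
import Cfsg.Agent.Lib.Helper4.BlockRegular
import Cfsg.Agent.Lib.Helper16.ThompsonAxB

set_option autoImplicit false
open Cfsg

namespace Cfsg.Agent.S4668

open Cfsg.Agent.Lib.Helper4 Cfsg.Agent.Lib.Helper16 in
/-- a `p'`-element normalizing a chain of `p`-subgroups and centralizing the part of the top term
that normalizes the chain centralizes the whole chain -/
theorem chain_centralize {G : Type*} [Group G] [Finite G] (p : ℕ) [Fact p.Prime] (m : ℕ)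
    (Q : Fin (m + 1) → Subgroup G) (hQ : StrictMono Q) (hQp : ∀ i, IsPGroup p (Q i)) (c : G)
    (hcop : (orderOf c).Coprime p) (hcN : ∀ i, c ∈ Subgroup.normalizer (Q i : Set G))
    (hfix : ∀ y : G, y ∈ Q (Fin.last m) → (∀ i, y ∈ Subgroup.normalizer (Q i : Set G)) →
      y * c = c * y) :
    ∀ k : ℕ, ∀ hk : k < m + 1, c ∈ Subgroup.centralizer (Q ⟨k, hk⟩ : Set G) := by
  have hmono : Monotone Q := hQ.monotone
  -- key: elements of `Q_k` centralizing `Q_j` for `j < k` are fixed
  have hkey : ∀ (k : Fin (m + 1)) (y : G), y ∈ Q k →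
      (∀ j : Fin (m + 1), j < k → y ∈ Subgroup.centralizer (Q j : Set G)) → y * c = c * y := by
    intro k y hy hcent
    apply hfix y (hmono (Fin.le_last k) hy)
    intro i
    by_cases hik : i < k
    · have := hcent i hik
      rw [Subgroup.mem_normalizer_iff]
      intro h
      constructor
      · intro hh
        have e := (Subgroup.mem_centralizer_iff.mp this) h hh
        have : y * h * y⁻¹ = h := by rw [← e]; group
        rw [this]; exact hh
      · intro hh
        have e := (Subgroup.mem_centralizer_iff.mp this) _ hh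
        have e3 : y * h = y * (y * h * y⁻¹) := by
          rw [← e]; group
        have : y * h * y⁻¹ = h := (mul_left_cancel e3).symm
        rw [this] at hh; exact hh
    · push Not at hik
      exact Subgroup.le_normalizer (hmono hik hy)
  intro k
  induction k using Nat.strong_induction_on with
  | _ k ih =>
    intro hk
    rcases Nat.eq_zero_or_pos k with rfl | hpos
    · rw [Subgroup.mem_centralizer_iff]
      intro y hy
      apply hkey ⟨0, hk⟩ y hy
      intro j hj
      exact absurd hj (by simp)
    · have hk' : k - 1 < m + 1 := by omega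
      have ihk := ih (k - 1) (by omega) hk'
      apply thompson_AxB (Q ⟨k - 1, hk'⟩) (Q ⟨k, hk⟩) c (hQp _) (hQp _) hcop ihk
      · have hle : Q ⟨k - 1, hk'⟩ ≤ Q ⟨k, hk⟩ := hmono (by simp [Fin.le_def])
        exact hle.trans Subgroup.le_normalizer
      · exact hcN _
      · rw [Subgroup.mem_centralizer_iff]
        intro y hy
        have hy' : y ∈ Q ⟨k, hk⟩ ∧ y ∈ Subgroup.centralizer (Q ⟨k - 1, hk'⟩ : Set G) := hy
        apply hkey ⟨k, hk⟩ y hy'.1
        intro j hj
        have hjle : Q j ≤ Q ⟨k - 1, hk'⟩ := hmono (by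
          rw [Fin.le_def]; rw [Fin.lt_def] at hj; simp only at hj ⊢; omega)
        exact Subgroup.centralizer_le hjle hy'.2

/-- Fix a prime p and a maximal ideal M of the algebraic integers containing p. Let Q₀ < Q₁ < ⋯ < Q_m be a strictly increasing chain of p-subgroups of the finite group G and N the intersection of their normalizers. Then every block idempotent of N is supported on C_G(Q_m): for every p-block E of N, the idempotent coefficient of E vanishes at every element of N outside C_G(Q_m). -/
theorem result {G : Type*} [Group G] [Fintype G] (p : ℕ) [Fact p.Prime] (M : Ideal Cfsg.AlgInt) (hM : Cfsg.IsPModular p M) (m : ℕ) (Q : Fin (m + 1) → Subgroup G) (hQ : StrictMono Q) (hQp : ∀ i, IsPGroup p (Q i)) (N : Subgroup G) (hN : ∀ g : G, g ∈ N ↔ ∀ i, g ∈ Subgroup.normalizer (Q i : Set G)) (E : Set (Cfsg.IrrCharacter N)) (hE : Cfsg.IsPBlock M E) (n : N) (hn : (n : G) ∉ Subgroup.centralizer (Q (Fin.last m) : Set G)) : Cfsg.blockCoeff E n = 0 := by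
  have hMprime : M.IsPrime := hM.2.1.isPrime
  have hp : p.Prime := Fact.out
  have : Fintype N := Fintype.ofFinite _
  by_cases hreg : p ∣ orderOf n
  · exact Cfsg.Agent.Lib.Helper4.blockCoeff_eq_zero_of_pSingular hM hE n hreg
  -- the normal `p`-subgroup `Q_m ∩ N` of `N`
  let P' : Subgroup N := (Q (Fin.last m)).subgroupOf N
  have hP'n : P'.Normal := by
    constructor
    intro y hy g
    have hg : (g : G) ∈ Subgroup.normalizer (Q (Fin.last m) : Set G) := (hN g).mp g.2 _
    rw [Subgroup.mem_subgroupOf] at hy ⊢
    have := (Subgroup.mem_normalizer_iff.mp hg (y : G)).mp hy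
    simpa using this
  have hP'p : IsPGroup p P' := by
    apply (hQp (Fin.last m)).comap_of_injective N.subtype
    exact Subgroup.subtype_injective N
  by_contra hne
  apply hn
  have hcent : n ∈ Subgroup.centralizer (P' : Set N) := by
    by_contra hnc
    exact hne (Cfsg.Agent.Lib.Helper4.blockCoeff_eq_zero_of_not_mem_centralizer hM P' hP'p hE n hnc)
  have hordn : orderOf (n : G) = orderOf n := Subgroup.orderOf_coe n
  have hcop : (orderOf (n : G)).Coprime p := by
    rw [hordn]
    exact ((Nat.Prime.coprime_iff_not_dvd hp).mpr hreg).symm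
  have := chain_centralize p m Q hQ hQp (n : G) hcop (fun i => (hN n).mp n.2 i) ?_ m (by omega)
  · exact this
  · intro y hy hyN
    have hyN' : y ∈ N := (hN y).mpr hyN
    have := (Subgroup.mem_centralizer_iff.mp hcent) ⟨y, hyN'⟩ (by
      show (⟨y, hyN'⟩ : N) ∈ P'
      rw [Subgroup.mem_subgroupOf]; exact hy)
    have h2 := congrArg (fun z : N => (z : G)) this
    simpa using h2

end Cfsg.Agent.S4668
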