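import Cfsg.Statements.S4683
import Cfsg.Agent.Lib.Helper28.SectionC

set_option autoImplicit false
open Cfsg

namespace Cfsg.Agent.S4683

/-- Fix a prime p and a maximal ideal M of the algebraic integers containing p, a p-block B of the finite group G, a p-element u and a p-block e of C = C_G(u) such that (⟨u⟩, e) is a Brauer pair of B (a Brauer element of B). For χ ∈ B let χ_u be the e-part of the class function c ↦ χ(u c) on C and χ_u' the e-part of c ↦ χ(u⁻¹ c). Then the sum over χ ∈ B and over the p-regular elements s of C of χ_u(s)·χ_u'(s⁻¹) equals the order of C times the p-regular rank of e (the number of irreducible Brauer characters of e). -/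
theorem result {G : Type*} [Group G] [Fintype G] (p : ℕ) [Fact p.Prime] (M : Ideal Cfsg.AlgInt) (hM : Cfsg.IsPModular p M) (B : Set (Cfsg.IrrCharacter G)) (u : G) (hu : ∃ k : ℕ, orderOf u = p ^ k) (e : Set (Cfsg.IrrCharacter (Subgroup.centralizer (Subgroup.zpowers u : Set G)))) (hBe : Cfsg.IsBrauerPairOf p M B (Subgroup.zpowers u) e) : ∑ᶠ χ ∈ B, ∑ᶠ s : Subgroup.centralizer (Subgroup.zpowers u : Set G), Cfsg.pRegularPart p (Cfsg.blockPart e (fun c : Subgroup.centralizer (Subgroup.zpowers u : Set G) => (χ : G → ℂ) (u * c))) s * Cfsg.blockPart e (fun c : Subgroup.centralizer (Subgroup.zpowers u : Set G) => (χ : G → ℂ) (u⁻¹ * c)) s⁻¹ = (Nat.card (Subgroup.centralizer (Subgroup.zpowers u : Set G)) : ℂ) * (Cfsg.blockRank p e : ℂ) := by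
  classical
  have hp : p.Prime := Fact.out
  have : Fintype (Subgroup.centralizer (Subgroup.zpowers u : Set G)) := Fintype.ofFinite _
  have : Fintype (IrrCharacter G) := Fintype.ofFinite _
  have hC : ∀ g : G, g ∈ Subgroup.centralizer (Subgroup.zpowers u : Set G) ↔ g * u = u * g := by
    intro g
    constructor
    · intro hg
      rw [Subgroup.mem_centralizer_iff] at hg
      exact (hg u (Subgroup.mem_zpowers u)).symm
    · intro hg
      apply Cfsg.Agent.Lib.Helper28.centralizer_singleton_le_centralizer_zpowers u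
      rw [Subgroup.mem_centralizer_iff]
      intro w hw
      rw [Set.mem_singleton_iff] at hw
      rw [hw, hg]
  have hPab : Subgroup.zpowers u ≤ Subgroup.centralizer (Subgroup.zpowers u : Set G) := by
    rw [Subgroup.zpowers_le]
    exact (hC u).mpr rfl
  have hind := Cfsg.Agent.Lib.Helper28.isInducedBlock_of_isBrauerPairOf hM (Subgroup.zpowers u) hPab hBe
  have he : IsPBlock M e := hBe.1.2
  rw [← Cfsg.Agent.Lib.Helper28.section_norm_total hM u hu
    (Subgroup.centralizer (Subgroup.zpowers u : Set G)) hC he]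
  rw [Cfsg.Agent.Lib.Helper28.finsum_mem_eq_sum_ite]
  refine Finset.sum_congr rfl fun χ _ => ?_
  by_cases hχ : χ ∈ B
  · rw [if_pos hχ, finsum_eq_sum_of_fintype]
    refine Finset.sum_congr rfl fun s _ => ?_
    have h1 : (fun c : Subgroup.centralizer (Subgroup.zpowers u : Set G) => (χ : G → ℂ) (u⁻¹ * c)) =
        fun c => (starRingEnd ℂ) (Cfsg.Agent.Lib.Helper28.shiftRes u
          (Subgroup.centralizer (Subgroup.zpowers u : Set G)) (χ : G → ℂ) c⁻¹) := by
      funext c
      show (χ : G → ℂ) (u⁻¹ * c) = (starRingEnd ℂ) ((χ : G → ℂ) (u * ((c⁻¹ : Subgroup.centralizer (Subgroup.zpowers u : Set G)) : G)))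
      rw [Cfsg.Agent.Lib.Helper26.isCharacter_conj_eq_inv
        (Cfsg.Agent.Lib.Helper26.isCharacter_of_isIrrCharacter χ.2)]
      rw [Subgroup.coe_inv, mul_inv_rev, inv_inv]
      have hc := (hC c).mp c.2
      have : u⁻¹ * (c : G) = (c : G) * u⁻¹ := by
        have := congrArg (fun x => u⁻¹ * x * u⁻¹) hc
        simpa [mul_assoc] using this
      rw [this]
    show Cfsg.pRegularPart p (Cfsg.blockPart e (Cfsg.Agent.Lib.Helper28.shiftRes u
      (Subgroup.centralizer (Subgroup.zpowers u : Set G)) (χ : G → ℂ))) s *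
      Cfsg.blockPart e (fun c : Subgroup.centralizer (Subgroup.zpowers u : Set G) =>
        (χ : G → ℂ) (u⁻¹ * c)) s⁻¹ = _
    rw [h1, Cfsg.Agent.Lib.Helper28.blockPart_star]
    by_cases hs : p ∣ orderOf s
    · rw [Cfsg.Agent.Lib.Helper28.pRegularPart_of_dvd _ hs, zero_mul, zero_mul]
    · rw [Cfsg.Agent.Lib.Helper28.pRegularPart_of_not_dvd _ hs]
  · rw [if_neg hχ]
    symm
    apply Finset.sum_eq_zero
    intro s _
    by_cases hs : p ∣ orderOf s
    · rw [Cfsg.Agent.Lib.Helper28.pRegularPart_of_dvd _ hs, zero_mul]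
    · rw [Cfsg.Agent.Lib.Helper28.pRegularPart_of_not_dvd _ hs,
        Cfsg.Agent.Lib.Helper28.section_blockPart_eq_zero hM u hu _ hC hind χ hχ s hs, zero_mul]

end Cfsg.Agent.S4683
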