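import Mathlib
import Cfsg.Statements.S4702
import Cfsg.Agent.Lib.Helper16.Sharp3
set_option autoImplicit false
set_option maxHeartbeats 1000000
open Cfsg

namespace Cfsg.Agent.S4702

theorem result {α : Type*} [Fintype α] [DecidableEq α] (hm : 3 ≤ Fintype.card α) (hodd : Odd (Fintype.card α)) (G : Subgroup (Equiv.Perm α)) (h3 : MulAction.IsMultiplyPretransitive G α 3) (hfix : ∀ g : G, 3 ≤ Nat.card (MulAction.fixedBy α g) → g = 1) : ∃ a : ℕ, 1 ≤ a ∧ Fintype.card α = 2 ^ a + 1 ∧ ∃ (F : Type) (_ : Field F) (_ : Fintype F), Fintype.card F = 2 ^ a ∧ Nonempty (G ≃* Matrix.SpecialLinearGroup (Fin 2) F) := by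
  classical
  have hsharp : ∀ x : Fin 3 ↪ α, MulAction.stabilizer G x = ⊥ := by
    intro x
    rw [Subgroup.eq_bot_iff_forall]
    intro g hg
    apply hfix
    have hgx : ∀ i, g • x i = x i := by
      intro i
      have := DFunLike.congr_fun (MulAction.mem_stabilizer_iff.mp hg) i
      exact this
    have h01 : x 0 ≠ x 1 := x.injective.ne (by decide)
    have h02 : x 0 ≠ x 2 := x.injective.ne (by decide)
    have h12 : x 1 ≠ x 2 := x.injective.ne (by decide)
    rw [Nat.card_coe_set_eq]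
    have : 2 < (MulAction.fixedBy α g).ncard :=
      (Set.two_lt_ncard_iff (Set.toFinite _)).mpr
        ⟨x 0, x 1, x 2, hgx 0, hgx 1, hgx 2, h01, h02, h12⟩
    omega
  obtain ⟨F, iF, iFt, hc, ⟨hiso⟩⟩ :=
    Cfsg.Agent.Lib.Helper16.Sharp3.main (Γ := G) h3 hsharp hodd hm
  let _ := iF
  let _ := iFt
  obtain ⟨p, _hch, n, hp, hpn⟩ := FiniteField.card' F
  have heven : Even (Fintype.card F) := by
    rcases Nat.even_or_odd (Fintype.card F) with h | h
    · exact h
    · exfalso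
      have : Even (Fintype.card α) := by rw [hc]; exact h.add_one
      exact (Nat.not_even_iff_odd.mpr hodd) this
  have hp2 : p = 2 := by
    rw [hpn] at heven
    have h2 : 2 ∣ p ^ (n : ℕ) := heven.two_dvd
    have h2' : 2 ∣ p := Nat.Prime.dvd_of_dvd_pow Nat.prime_two h2
    exact ((Nat.prime_dvd_prime_iff_eq Nat.prime_two hp).mp h2').symm
  subst hp2
  have h2F : (2 : F) = 0 := by
    have h0 : ((Fintype.card F : ℕ) : F) = 0 := Nat.cast_card_eq_zero F
    rw [hpn, Nat.cast_pow] at h0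
    have := (pow_eq_zero_iff (n.pos.ne')).mp h0
    exact_mod_cast this
  obtain ⟨hsl⟩ := Cfsg.Agent.Lib.Helper16.Sharp3.sl_equiv_pgl h2F
  exact ⟨(n : ℕ), n.pos, by rw [hc, hpn], F, iF, iFt, hpn, ⟨hiso.trans hsl.symm⟩⟩

end Cfsg.Agent.S4702
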