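import Cfsg.Statements.S4713
import Cfsg.Agent.S4493
import Cfsg.Agent.S0173
import Cfsg.Agent.Lib.Helper3.PSolvable
import Cfsg.Agent.Lib.Helper14.ConjUnion
import Cfsg.Agent.Lib.Helper26.GlaubClass

set_option autoImplicit false
set_option linter.style.haveILetI false
open Cfsg

namespace Cfsg.Agent.S4713

open Cfsg.Agent.Lib.Helper26 Cfsg.Agent.Lib.Helper2 Cfsg.Agent.Lib.Helper7 Cfsg.Agent.Lib.Helper4
open Cfsg.Agent.S4493

universe u

/-- an element of order coprime to a normal subgroup which fixes all of its irreducible characters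
centralizes it -/
theorem centralizes_of_fixes_irr {L : Type*} [Group L] [Finite L] (K : Subgroup L) [hK : K.Normal]
    (x : L) (hx : Nat.Coprime (orderOf x) (Nat.card K))
    (hfix : ∀ θ : IrrCharacter K, ∀ k : K,
      (θ : K → ℂ) ⟨x * k * x⁻¹, hK.conj_mem k k.2 x⟩ = (θ : K → ℂ) k) :
    ∀ k ∈ K, x * k = k * x := by
  classical
  have : Fintype K := Fintype.ofFinite K
  let α : K ≃* K := MulAut.conjNormal x
  have hα : ∀ k : K, α k = ⟨x * k * x⁻¹, hK.conj_mem k k.2 x⟩ := fun k =>
    Subtype.ext (MulAut.conjNormal_apply x k)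
  have h1 := Cfsg.Agent.S0173.result α
  have h2 : Nat.card {χ : IrrCharacter K // (χ : K → ℂ) ∘ α = (χ : K → ℂ)} =
      Nat.card (IrrCharacter K) := by
    refine Nat.card_congr (Equiv.subtypeUnivEquiv fun χ => ?_)
    funext k
    show (χ : K → ℂ) (α k) = _
    rw [hα]; exact hfix χ k
  have h3 : Nat.card (IrrCharacter K) = Nat.card (ConjClasses K) := card_irr_eq_card_conjClasses
  have hall : ∀ C : ConjClasses K, ConjClasses.map α.toMonoidHom C = C := by
    by_contra hne
    push Not at hne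
    obtain ⟨C, hC⟩ := hne
    have : Fintype (ConjClasses K) := Fintype.ofFinite _
    have hlt := Fintype.card_subtype_lt (p := fun C : ConjClasses K =>
      ConjClasses.map α.toMonoidHom C = C) hC
    rw [← Nat.card_eq_fintype_card, ← Nat.card_eq_fintype_card, h1, h2, h3] at hlt
    exact lt_irrefl _ hlt
  let D : Subgroup K :=
    { carrier := {k | x * (k : L) * x⁻¹ = k}
      mul_mem' := by
        intro a b ha hb
        show x * ((a * b : K) : L) * x⁻¹ = ((a * b : K) : L)
        have ha' : x * (a : L) * x⁻¹ = a := ha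
        have hb' : x * (b : L) * x⁻¹ = b := hb
        rw [Subgroup.coe_mul]
        calc x * ((a : L) * b) * x⁻¹ = (x * a * x⁻¹) * (x * b * x⁻¹) := by group
          _ = a * b := by rw [ha', hb']
      one_mem' := by
        show x * ((1 : K) : L) * x⁻¹ = ((1 : K) : L)
        simp
      inv_mem' := by
        intro a ha
        have ha' : x * (a : L) * x⁻¹ = a := ha
        show x * ((a⁻¹ : K) : L) * x⁻¹ = ((a⁻¹ : K) : L)
        rw [Subgroup.coe_inv]
        calc x * (a : L)⁻¹ * x⁻¹ = (x * a * x⁻¹)⁻¹ := by group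
          _ = (a : L)⁻¹ := by rw [ha'] }
  have hD : D = ⊤ := by
    by_contra hne
    obtain ⟨g, hg⟩ := Cfsg.Agent.Lib.Helper14.exists_not_mem_conj D hne
    obtain ⟨s, hs, hsC, hsx⟩ := exists_fixed_of_invariant_class K x hx (ConjClasses.mk g)
      (hall _)
    rw [ConjClasses.mk_eq_mk_iff_isConj, isConj_iff] at hsC
    obtain ⟨c, hc⟩ := hsC
    apply hg c
    have h4 : c⁻¹ * g * c = ⟨s, hs⟩ := by rw [← hc]; group
    rw [h4]
    exact hsx
  intro k hk
  have h5 : (⟨k, hk⟩ : K) ∈ D := by rw [hD]; exact Subgroup.mem_top _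
  have h6 : x * k * x⁻¹ = k := h5
  calc x * k = (x * k * x⁻¹) * x := by group
    _ = k * x := by rw [h6]

theorem main' (p : ℕ) (hp : p.Prime) : ∀ (n : ℕ) (G : Type u) [Group G] [Finite G],
    Nat.card G = n → IsPSolvable p G →
    (∀ χ : IrrCharacter G, ¬ p ∣ charDegree (χ : G → ℂ)) →
    ∃ P : Subgroup G, P.Normal ∧ (∀ x ∈ P, ∀ y ∈ P, x * y = y * x) ∧ IsPGroup p P ∧
      ¬ p ∣ P.index := by
  intro n
  induction n using Nat.strong_induction_on with
  | _ n ih =>
  intro G _ _ hcard hsolv hdeg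
  classical
  haveI : Fact p.Prime := ⟨hp⟩
  haveI : Fintype G := Fintype.ofFinite G
  by_cases htriv : (⊤ : Subgroup G) = ⊥
  · refine ⟨⊥, inferInstance, ?_, IsPGroup.of_bot, ?_⟩
    · intro x hx y hy
      rw [Subgroup.mem_bot] at hx hy
      rw [hx, hy]
    · rw [← htriv, Subgroup.index_top]
      exact fun h => hp.one_lt.ne' (Nat.dvd_one.mp h)
  -- a nontrivial normal subgroup which is a `p`-group or a `p'`-group
  obtain ⟨M, hMn, hMbot, -, hMpp⟩ := Cfsg.Agent.Lib.Helper3.exists_normal_between hp hsolv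
    (Z := ⊥) (C := ⊤) inferInstance inferInstance (lt_of_le_of_ne bot_le (Ne.symm htriv))
  rw [Subgroup.relIndex_bot_left] at hMpp
  haveI := hMn
  have hMne : M ≠ ⊥ := hMbot.ne'
  have hMcard : 1 < Nat.card M := (Subgroup.one_lt_card_iff_ne_bot M).mpr hMne
  -- the quotient
  have hcardQ : Nat.card (G ⧸ M) < n := by
    rw [← hcard, ← M.index_mul_card]
    show M.index < M.index * Nat.card M
    have : 0 < M.index := Nat.pos_of_ne_zero M.index_ne_zero_of_finite
    nlinarith
  have hdegQ : ∀ χ : IrrCharacter (G ⧸ M), ¬ p ∣ charDegree (χ : G ⧸ M → ℂ) := by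
    intro χ
    have hirr := Cfsg.Agent.Lib.Helper2.isIrrCharacter_comp_of_surjective χ.2 (QuotientGroup.mk' M)
      (QuotientGroup.mk'_surjective M)
    have h1 := hdeg ⟨_, hirr⟩
    have h2 : charDegree ((χ : G ⧸ M → ℂ) ∘ (QuotientGroup.mk' M)) =
        charDegree (χ : G ⧸ M → ℂ) := by
      unfold charDegree
      simp
    rw [← h2]
    exact h1
  obtain ⟨Pbar, hPn, hPab, hPp, hPidx⟩ := ih _ hcardQ (G ⧸ M) rfl
    (Cfsg.Agent.Lib.Helper3.isPSolvable_quotient hp hsolv M) hdegQ
  set Q : Subgroup G := Pbar.comap (QuotientGroup.mk' M) with hQdef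
  haveI hQn : Q.Normal := hPn.comap _
  have hQmem : ∀ x : G, x ∈ Q ↔ (QuotientGroup.mk x : G ⧸ M) ∈ Pbar := fun x => Iff.rfl
  have hMQ : M ≤ Q := by
    intro x hx
    rw [hQmem, (QuotientGroup.eq_one_iff x).mpr hx]
    exact Pbar.one_mem
  have hQidx : Q.index = Pbar.index :=
    Subgroup.index_comap_of_surjective _ (QuotientGroup.mk'_surjective M)
  have hQcomm : ∀ x ∈ Q, ∀ y ∈ Q, x * y * x⁻¹ * y⁻¹ ∈ M := by
    intro x hx y hy
    rw [← QuotientGroup.eq_one_iff]
    have h1 := hPab _ ((hQmem x).mp hx) _ ((hQmem y).mp hy)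
    simp only [QuotientGroup.mk_mul, QuotientGroup.mk_inv]
    rw [h1]
    group
  have hQp : ∀ x ∈ Q, ∃ k : ℕ, x ^ (p ^ k) ∈ M := by
    intro x hx
    obtain ⟨k, hk⟩ := hPp ⟨_, (hQmem x).mp hx⟩
    refine ⟨k, ?_⟩
    rw [← QuotientGroup.eq_one_iff]
    have := congrArg (fun z : Pbar => (z : G ⧸ M)) hk
    simpa using this
  haveI : Fintype Q := Fintype.ofFinite _
  rcases hMpp with ⟨mexp, hMexp⟩ | hMcop
  · -- `M` is a `p`-group
    have hQpg : IsPGroup p Q := by
      intro x
      obtain ⟨k, hk⟩ := hQp x x.2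
      refine ⟨k + mexp, ?_⟩
      apply Subtype.ext
      have h1 : (⟨(x : G) ^ p ^ k, hk⟩ : M) ^ (p ^ mexp) = 1 := by
        rw [← hMexp]; exact pow_card_eq_one'
      have h2 := congrArg (fun z : M => (z : G)) h1
      simp only [Subgroup.coe_pow, Subgroup.coe_one] at h2
      rw [Subgroup.coe_pow, Subgroup.coe_one, pow_add, pow_mul]
      exact h2
    obtain ⟨nq, hnq⟩ := (IsPGroup.iff_card).mp hQpg
    have hlin : ∀ θ : IrrCharacter Q, (θ : Q → ℂ) 1 = 1 := by
      intro θ
      obtain ⟨χ, hχ⟩ := exists_over Q θ θ.2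
      obtain ⟨m, hm⟩ := degree_dvd_of_constituent Q χ χ.2 θ θ.2 hχ
      obtain ⟨D, hD, hD1⟩ := irr_degree χ.2
      obtain ⟨dθ, ρ, hirr, hρ⟩ := θ.2
      have hdvd := degree_dvd_card ρ hirr
      have hfin : Module.finrank ℂ (Fin dθ → ℂ) = dθ := by simp
      rw [hfin, hnq] at hdvd
      have hθ1 : (θ : Q → ℂ) 1 = dθ := by rw [← hρ]; simp
      obtain ⟨j, -, hj⟩ := (Nat.dvd_prime_pow hp).mp hdvd
      have hDeq : D = m * dθ := by
        have : (D : ℂ) = ((m * dθ : ℕ) : ℂ) := by rw [← hD1, hm, hθ1]; push_cast; ring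
        exact_mod_cast this
      have hnd : ¬ p ∣ D := by
        have := hdeg χ
        have h4 : charDegree (χ : G → ℂ) = D := by unfold charDegree; rw [hD1]; simp
        rwa [h4] at this
      have hj0 : j = 0 := by
        by_contra hj0
        apply hnd
        rw [hDeq, hj]
        exact Dvd.dvd.mul_left (dvd_pow_self p hj0) m
      rw [hθ1, hj, hj0, pow_zero]; simp
    have hQab := comm_of_all_linear hlin
    refine ⟨Q, hQn, ?_, hQpg, by rw [hQidx]; exact hPidx⟩
    intro x hx y hy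
    have := hQab ⟨x, hx⟩ ⟨y, hy⟩
    exact congrArg Subtype.val this
  · -- `M` is a `p'`-group
    haveI hM'n : (M.subgroupOf Q).Normal := Subgroup.normal_subgroupOf
    haveI : Fintype (M.subgroupOf Q) := Fintype.ofFinite _
    have hM'card : Nat.card (M.subgroupOf Q) = Nat.card M :=
      Nat.card_congr (Subgroup.subgroupOfEquivOfLe hMQ).toEquiv
    have hQM : IsPGroup p (Q ⧸ M.subgroupOf Q) := by
      intro x
      induction x using QuotientGroup.induction_on with
      | H x =>
        obtain ⟨k, hk⟩ := hQp x x.2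
        refine ⟨k, ?_⟩
        rw [← QuotientGroup.mk_pow, QuotientGroup.eq_one_iff]
        exact hk
    obtain ⟨nidx, hnidx⟩ := (IsPGroup.iff_card).mp hQM
    have hidx : (M.subgroupOf Q).index = p ^ nidx := hnidx
    -- all irreducible characters of `M` are `Q`-invariant
    have hinvall : ∀ (θ : IrrCharacter (M.subgroupOf Q)) (y : Q) (w : M.subgroupOf Q),
        (θ : M.subgroupOf Q → ℂ) ⟨y * w * y⁻¹, hM'n.conj_mem (w : Q) w.2 y⟩ =
          (θ : M.subgroupOf Q → ℂ) w := by
      intro θ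
      by_contra hninv
      push Not at hninv
      have hninv' : ¬ ∀ (y : Q) (w : M.subgroupOf Q),
          (θ : M.subgroupOf Q → ℂ) ⟨y * w * y⁻¹, hM'n.conj_mem (w : Q) w.2 y⟩ =
          (θ : M.subgroupOf Q → ℂ) w := by
        intro hall
        obtain ⟨y, w, hyw⟩ := hninv
        exact hyw (hall y w)
      obtain ⟨ψ, hψ⟩ := exists_over (M.subgroupOf Q) _ θ.2
      obtain ⟨d, hd⟩ := p_dvd_of_not_invariant (M.subgroupOf Q) p hp nidx hidx _ θ.2 hninv'
        ψ ψ.2 hψ
      obtain ⟨χ, hχ⟩ := exists_over Q ψ ψ.2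
      obtain ⟨mm, hmm⟩ := degree_dvd_of_constituent Q χ χ.2 ψ ψ.2 hχ
      apply hdeg χ
      have h4 : charDegree (χ : G → ℂ) = mm * (p * d) := by
        have h5 : ((mm : ℂ) * ((p * d : ℕ) : ℂ)) = ((mm * (p * d) : ℕ) : ℂ) := by push_cast; ring
        have h6 : ((χ : G → ℂ) 1).re = ((mm * (p * d) : ℕ) : ℝ) := by
          rw [hmm, hd, h5]; exact Complex.natCast_re _
        unfold charDegree
        rw [h6]
        exact Nat.floor_natCast _
      rw [h4]
      exact ⟨mm * d, by ring⟩
    obtain ⟨S⟩ : Nonempty (Sylow p Q) := inferInstance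
    -- elements of `S` centralize `M`
    have hScent : ∀ x ∈ (S : Subgroup Q), ∀ w ∈ M.subgroupOf Q, x * w = w * x := by
      intro x hx
      apply centralizes_of_fixes_irr (M.subgroupOf Q) x
      · obtain ⟨k, hk⟩ := S.isPGroup' ⟨x, hx⟩
        have hk' : x ^ (p ^ k) = 1 := by
          have := congrArg (fun z : (S : Subgroup Q) => (z : Q)) hk
          simpa using this
        have h1 : orderOf x ∣ p ^ k := orderOf_dvd_of_pow_eq_one hk'
        rw [hM'card]
        exact Nat.Coprime.coprime_dvd_left h1 (Nat.Coprime.pow_left k hMcop.symm)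
      · intro θ k
        exact hinvall θ x k
    -- `S` is normal in `Q`
    have hsup : (M.subgroupOf Q) ⊔ (S : Subgroup Q) = ⊤ := by
      rw [← Subgroup.index_eq_one]
      have h1 : ((M.subgroupOf Q) ⊔ (S : Subgroup Q)).index ∣ p ^ nidx := by
        rw [← hidx]; exact Subgroup.index_dvd_of_le le_sup_left
      have h2 : ((M.subgroupOf Q) ⊔ (S : Subgroup Q)).index ∣ (S : Subgroup Q).index :=
        Subgroup.index_dvd_of_le le_sup_right
      obtain ⟨j, -, hj⟩ := (Nat.dvd_prime_pow hp).mp h1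
      rcases Nat.eq_zero_or_pos j with h0 | hpos
      · rw [hj, h0, pow_zero]
      · exfalso
        apply S.not_dvd_index
        exact (dvd_pow_self p hpos.ne').trans (hj ▸ h2)
    have hSn : (S : Subgroup Q).Normal := by
      rw [← Subgroup.normalizer_eq_top_iff, eq_top_iff, ← hsup, sup_le_iff]
      refine ⟨?_, Subgroup.le_normalizer⟩
      intro w hw
      rw [Subgroup.mem_normalizer_iff]
      intro x
      constructor
      · intro hx
        have h1 := hScent x hx w hw
        have h2 : w * x * w⁻¹ = x := by rw [← h1]; group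
        rw [h2]; exact hx
      · intro hx
        have h1 := hScent _ hx w hw
        have h2 : x = w * x * w⁻¹ := by
          have h3 : w * x * w⁻¹ * w = w * (w * x * w⁻¹) := h1
          have h4 : w * x = w * (w * x * w⁻¹) := by rw [← h3]; group
          exact mul_left_cancel h4
        rw [h2]; exact hx
    haveI := hSn
    haveI hSc : (S : Subgroup Q).Characteristic := Sylow.characteristic_of_normal S hSn
    refine ⟨(S : Subgroup Q).map Q.subtype, ConjAct.normal_of_characteristic_of_normal,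
      ?_, ?_, ?_⟩
    · rintro a ha b hb
      obtain ⟨a', ha', rfl⟩ := Subgroup.mem_map.mp ha
      obtain ⟨b', hb', rfl⟩ := Subgroup.mem_map.mp hb
      have hc : a' * b' * a'⁻¹ * b'⁻¹ ∈ (S : Subgroup Q) :=
        (S : Subgroup Q).mul_mem ((S : Subgroup Q).mul_mem ((S : Subgroup Q).mul_mem ha' hb')
          ((S : Subgroup Q).inv_mem ha')) ((S : Subgroup Q).inv_mem hb')
      obtain ⟨k, hk⟩ := S.isPGroup' ⟨_, hc⟩
      have hk' : (a' * b' * a'⁻¹ * b'⁻¹ : Q) ^ (p ^ k) = 1 := by
        have := congrArg (fun z : (S : Subgroup Q) => (z : Q)) hk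
        simpa using this
      have hcM : ((a' * b' * a'⁻¹ * b'⁻¹ : Q) : G) ∈ M := by
        have := hQcomm _ a'.2 _ b'.2
        simpa using this
      have hq' : (a' * b' * a'⁻¹ * b'⁻¹ : Q) ^ (Nat.card M) = 1 := by
        apply Subtype.ext
        have h1 : (⟨((a' * b' * a'⁻¹ * b'⁻¹ : Q) : G), hcM⟩ : M) ^ (Nat.card M) = 1 :=
          pow_card_eq_one'
        have h2 : (((⟨((a' * b' * a'⁻¹ * b'⁻¹ : Q) : G), hcM⟩ : M) ^ (Nat.card M) : M) : G) = 1 := by
          rw [h1]; rfl
        rw [Subgroup.coe_pow] at h2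
        rw [Subgroup.coe_pow, Subgroup.coe_one]
        exact h2
      have h1 : orderOf (a' * b' * a'⁻¹ * b'⁻¹ : Q) ∣ p ^ k := orderOf_dvd_of_pow_eq_one hk'
      have h2 : orderOf (a' * b' * a'⁻¹ * b'⁻¹ : Q) ∣ Nat.card M := orderOf_dvd_of_pow_eq_one hq'
      have hcop : Nat.Coprime (p ^ k) (Nat.card M) := Nat.Coprime.pow_left k hMcop.symm
      have h3 : orderOf (a' * b' * a'⁻¹ * b'⁻¹ : Q) = 1 :=
        Nat.Coprime.eq_one_of_dvd (Nat.Coprime.coprime_dvd_left h1 hcop) h2
      rw [orderOf_eq_one_iff] at h3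
      have h4 : a' * b' = b' * a' := by
        calc a' * b' = (a' * b' * a'⁻¹ * b'⁻¹) * (b' * a') := by group
          _ = b' * a' := by rw [h3, one_mul]
      have := congrArg (fun z : Q => (z : G)) h4
      simpa using this
    · exact S.isPGroup'.map Q.subtype
    · rw [Subgroup.index_map_subtype]
      intro hdvd
      rcases (Nat.Prime.dvd_mul hp).mp hdvd with h | h
      · exact S.not_dvd_index h
      · rw [hQidx] at h; exact hPidx h

/-- Let p be a prime and G a finite p-solvable group. Then G has a normal abelian Sylow p-subgroup if and only if the degree of every irreducible character of G is prime to p. -/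
theorem result {G : Type*} [Group G] [Finite G] (p : ℕ) [Fact p.Prime] (hsolv : Cfsg.IsPSolvable p G) (P : Sylow p G) : ((P : Subgroup G).Normal ∧ IsMulCommutative P) ↔ ∀ χ : Cfsg.IrrCharacter G, ¬ p ∣ Cfsg.charDegree (χ : G → ℂ) := by
  have hp : p.Prime := Fact.out
  constructor
  · rintro ⟨hPn, hPab⟩ χ hdvd
    apply P.not_dvd_index
    obtain ⟨n, ρ, hirr, hρ⟩ := χ.2
    haveI := hirr
    haveI := hPn
    have h1 := Cfsg.Agent.S0169.result ρ (P : Subgroup G) (fun a ha b hb => by
      have := hPab.is_comm.comm ⟨a, ha⟩ ⟨b, hb⟩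
      exact congrArg Subtype.val this)
    have hfin : Module.finrank ℂ (Fin n → ℂ) = n := by simp
    rw [hfin] at h1
    have h2 : charDegree (χ : G → ℂ) = n := by
      have h3 : ((χ : G → ℂ) 1).re = (n : ℝ) := by
        rw [← hρ]; simp
      unfold charDegree
      rw [h3]
      exact Nat.floor_natCast _
    rw [h2] at hdvd
    exact hdvd.trans h1
  · intro hdeg
    obtain ⟨Q, hQn, hQab, hQp, hQidx⟩ := main' p hp _ G rfl hsolv hdeg
    haveI := hQn
    have hQP : Q ≤ (P : Subgroup G) := hQp.le_sylow_of_normal P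
    have hPQ : (P : Subgroup G) = Q := by
      have h1 := (hQp.toSylow hQidx).is_maximal' P.isPGroup' (by
        rw [IsPGroup.toSylow_coe]; exact hQP)
      rw [h1, IsPGroup.toSylow_coe]
    refine ⟨hPQ ▸ hQn, ⟨⟨fun a b => ?_⟩⟩⟩
    apply Subtype.ext
    have ha : (a : G) ∈ Q := hPQ ▸ a.2
    have hb : (b : G) ∈ Q := hPQ ▸ b.2
    exact hQab _ ha _ hb

end Cfsg.Agent.S4713
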