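import Cfsg.Statements.S4720
import Cfsg.Agent.Lib.Helper28.SectionG

set_option autoImplicit false
open Cfsg

namespace Cfsg.Agent.S4720

/-- Let p be a prime, M a maximal ideal of the algebraic integers containing p, P a p-subgroup of the finite group G, N a subgroup with P ≤ N ≤ N_G(P), and U a nonempty subset of P normalized by N such that an element of U and an element of P that are conjugate in G are already conjugate in N, and such that λ(C_G(y)) = w·#C_N(y) for every y ∈ U with one rational number w, where λ(X) denotes the sum of the squares of the degrees of the irreducible characters in the principal p-block of X. For a complex function θ on P and χ in the principal block of G put a_χ(θ) = #P⁻¹ Σ_{y ∈ P} χ(y) θ(y⁻¹). Then for generalized characters θ, η of P with θ vanishing outside U, Σ_χ a_χ(θ)·conj(a_χ(η)) = (w/#P²)·Σ_{y ∈ P} θ(y)·conj(Σ_{x ∈ N} η(x y x⁻¹)) (η extended by zero off P; the conjugates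 lie in P), the first sum over the principal p-block of G. -/
theorem result {G : Type*} [Group G] [Finite G] (p : ℕ) [Fact p.Prime] (M : Ideal Cfsg.AlgInt) (hM : Cfsg.IsPModular p M) (P : Subgroup G) (hP : IsPGroup p P) (N : Subgroup G) (hPN : P ≤ N) (hNN : N ≤ Subgroup.normalizer (P : Set G)) (U : Set G) (hUne : U.Nonempty) (hUP : U ⊆ (P : Set G)) (hUN : ∀ n ∈ N, ∀ u ∈ U, n * u * n⁻¹ ∈ U) (hfus : ∀ u ∈ U, ∀ g : G, g * u * g⁻¹ ∈ (P : Set G) → ∃ n ∈ N, n * u * n⁻¹ = g * u * g⁻¹) (w : ℚ) (hw : ∀ y ∈ U, ((∑ᶠ ψ ∈ Cfsg.principalBlock M ↥(Subgroup.centralizer ({y} : Set G)), Cfsg.charDegree (ψ : ↥(Subgroup.centralizer ({y} : Set G)) → ℂ) ^ 2) : ℚ) = w * Nat.card ↥(N ⊓ Subgroup.centralizer ({y} : Set G))) (θ η : ↥P → ℂ) (hθ : Cfsg.IsGeneralizedCharacter ↥P θ) (hη : Cfsg.IsGeneralizedCharacter ↥P η) (hθU : ∀ y : ↥P, (y : G) ∉ U → θ y = 0) : ∑ᶠ χ ∈ Cfsg.principalBlock M G, ((Nat.card ↥P : ℂ)⁻¹ * ∑ᶠ y : ↥P, (χ :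 G → ℂ) (y : G) * θ y⁻¹) * (starRingEnd ℂ) ((Nat.card ↥P : ℂ)⁻¹ * ∑ᶠ y : ↥P, (χ : G → ℂ) (y : G) * η y⁻¹) = ((w : ℂ) / ((Nat.card ↥P : ℂ) ^ 2)) * ∑ᶠ y : ↥P, θ y * (starRingEnd ℂ) (∑ᶠ x : ↥N, Cfsg.extendByZero P η ((x : G) * (y : G) * (x : G)⁻¹)) := by
  classical
  have hp : p.Prime := Fact.out
  have : Fintype G := Fintype.ofFinite G
  have : Fintype P := Fintype.ofFinite _
  have : Fintype N := Fintype.ofFinite _
  have : Fintype (IrrCharacter G) := Fintype.ofFinite _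
  haveI hFC : ∀ x : G, Fintype (Subgroup.centralizer ({x} : Set G)) := fun x => Fintype.ofFinite _
  haveI hFI : ∀ x : G, Fintype (IrrCharacter (Subgroup.centralizer ({x} : Set G))) :=
    fun x => Fintype.ofFinite _
  have hpel : ∀ v : P, ∃ k : ℕ, orderOf (v : G) = p ^ k := by
    intro v
    obtain ⟨k, hk⟩ := IsPGroup.iff_orderOf.mp hP v
    exact ⟨k, by rw [Subgroup.orderOf_coe]; exact hk⟩
  obtain ⟨c, hc⟩ : ∃ c : ℂ, c = (Nat.card P : ℂ) := ⟨_, rfl⟩
  have hcconj : (starRingEnd ℂ) c⁻¹ = c⁻¹ := by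
    rw [hc, map_inv₀, Complex.conj_natCast]
  -- the columns of the principal block
  have hS : ∀ v : P, (v : G) ∈ U → ∀ v' : P,
      (∑ χ : IrrCharacter G, if χ ∈ principalBlock M G then
        (χ : G → ℂ) (v' : G) * (starRingEnd ℂ) ((χ : G → ℂ) (v : G)) else 0) =
      if (∃ n ∈ N, n * (v : G) * n⁻¹ = (v' : G)) then
        (w : ℂ) * (Nat.card ↥(N ⊓ Subgroup.centralizer ({(v : G)} : Set G)) : ℂ) else 0 := by
    intro v hvU v'
    rw [Cfsg.Agent.Lib.Helper28.principal_column_orth hM (v : G) (v' : G) (hpel v) (hpel v')]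
    by_cases hcj : IsConj (v : G) (v' : G)
    · have hex : ∃ n ∈ N, n * (v : G) * n⁻¹ = (v' : G) := by
        obtain ⟨g, hg⟩ := isConj_iff.mp hcj
        obtain ⟨n, hn, hnn⟩ := hfus (v : G) hvU g (by rw [hg]; exact v'.2)
        exact ⟨n, hn, hnn.trans hg⟩
      rw [if_pos hcj, if_pos hex, Cfsg.Agent.Lib.Helper28.sum_degree_sq_cast, hw (v : G) hvU]
      push_cast
      rfl
    · have hex : ¬ ∃ n ∈ N, n * (v : G) * n⁻¹ = (v' : G) := by
        rintro ⟨n, hn, hnn⟩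
        exact hcj (isConj_iff.mpr ⟨n, hnn⟩)
      rw [if_neg hcj, if_neg hex]
  -- the coefficients `a_χ`
  have ha : ∀ (χ : IrrCharacter G) (ϑ : P → ℂ), ∑ᶠ y : P, (χ : G → ℂ) (y : G) * ϑ y⁻¹ =
      ∑ v : P, ϑ v * (starRingEnd ℂ) ((χ : G → ℂ) (v : G)) := by
    intro χ ϑ
    rw [finsum_eq_sum_of_fintype, ← Equiv.sum_comp (Equiv.inv P)]
    refine Finset.sum_congr rfl fun v _ => ?_
    show (χ : G → ℂ) ((v⁻¹ : P) : G) * ϑ (v⁻¹)⁻¹ = _
    rw [inv_inv, Subgroup.coe_inv, ← Cfsg.Agent.Lib.Helper26.isCharacter_conj_eq_inv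
      (Cfsg.Agent.Lib.Helper26.isCharacter_of_isIrrCharacter χ.2), mul_comm]
  -- the left side
  have hL : ∑ᶠ χ ∈ principalBlock M G, ((Nat.card ↥P : ℂ)⁻¹ * ∑ᶠ y : ↥P, (χ : G → ℂ) (y : G) * θ y⁻¹) *
      (starRingEnd ℂ) ((Nat.card ↥P : ℂ)⁻¹ * ∑ᶠ y : ↥P, (χ : G → ℂ) (y : G) * η y⁻¹) =
      c⁻¹ * c⁻¹ * ∑ v : P, θ v * ∑ v' : P, (starRingEnd ℂ) (η v') *
        (∑ χ : IrrCharacter G, if χ ∈ principalBlock M G then
          (χ : G → ℂ) (v' : G) * (starRingEnd ℂ) ((χ : G → ℂ) (v : G)) else 0) := by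
    rw [Cfsg.Agent.Lib.Helper28.finsum_mem_eq_sum_ite, ← hc]
    have h1 : ∀ χ : IrrCharacter G, (c⁻¹ * ∑ᶠ y : ↥P, (χ : G → ℂ) (y : G) * θ y⁻¹) *
        (starRingEnd ℂ) (c⁻¹ * ∑ᶠ y : ↥P, (χ : G → ℂ) (y : G) * η y⁻¹) =
        c⁻¹ * c⁻¹ * ∑ v : P, ∑ v' : P, θ v * (starRingEnd ℂ) (η v') *
          ((χ : G → ℂ) (v' : G) * (starRingEnd ℂ) ((χ : G → ℂ) (v : G))) := by
      intro χ
      rw [ha χ θ, ha χ η, map_mul, hcconj, map_sum]
      have : (c⁻¹ * ∑ v : P, θ v * (starRingEnd ℂ) ((χ : G → ℂ) (v : G))) *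
          (c⁻¹ * ∑ v' : P, (starRingEnd ℂ) (η v' * (starRingEnd ℂ) ((χ : G → ℂ) (v' : G)))) =
          c⁻¹ * c⁻¹ * ((∑ v : P, θ v * (starRingEnd ℂ) ((χ : G → ℂ) (v : G))) *
            (∑ v' : P, (starRingEnd ℂ) (η v' * (starRingEnd ℂ) ((χ : G → ℂ) (v' : G))))) := by ring
      rw [this, Finset.sum_mul_sum]
      congr 1
      refine Finset.sum_congr rfl fun v _ => ?_
      refine Finset.sum_congr rfl fun v' _ => ?_
      rw [map_mul, Complex.conj_conj]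
      ring
    have h2 : ∀ χ : IrrCharacter G, (if χ ∈ principalBlock M G then
        (c⁻¹ * ∑ᶠ y : ↥P, (χ : G → ℂ) (y : G) * θ y⁻¹) *
        (starRingEnd ℂ) (c⁻¹ * ∑ᶠ y : ↥P, (χ : G → ℂ) (y : G) * η y⁻¹) else 0) =
        c⁻¹ * c⁻¹ * ∑ v : P, ∑ v' : P, θ v * (starRingEnd ℂ) (η v') *
          (if χ ∈ principalBlock M G then
            (χ : G → ℂ) (v' : G) * (starRingEnd ℂ) ((χ : G → ℂ) (v : G)) else 0) := by
      intro χ
      by_cases hχ : χ ∈ principalBlock M G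
      · simp only [if_pos hχ]
        exact h1 χ
      · simp only [if_neg hχ, mul_zero, Finset.sum_const_zero]
    rw [Finset.sum_congr rfl fun χ _ => h2 χ, ← Finset.mul_sum, Finset.sum_comm]
    congr 1
    refine Finset.sum_congr rfl fun v _ => ?_
    rw [Finset.sum_comm, Finset.mul_sum]
    refine Finset.sum_congr rfl fun v' _ => ?_
    rw [Finset.mul_sum, Finset.mul_sum]
    refine Finset.sum_congr rfl fun χ _ => ?_
    ring
  -- the right side
  have hR : ∀ v : P, (starRingEnd ℂ) (∑ᶠ x : ↥N, Cfsg.extendByZero P η ((x : G) * (v : G) * (x : G)⁻¹)) =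
      ∑ v' : P, (starRingEnd ℂ) (η v') *
        (if (∃ n ∈ N, n * (v : G) * n⁻¹ = (v' : G)) then
          (Nat.card ↥(N ⊓ Subgroup.centralizer ({(v : G)} : Set G)) : ℂ) else 0) := by
    intro v
    rw [finsum_eq_sum_of_fintype]
    have h1 : ∀ x : N, Cfsg.extendByZero P η ((x : G) * (v : G) * (x : G)⁻¹) =
        ∑ v' : P, η v' * (if (x : G) * (v : G) * (x : G)⁻¹ = (v' : G) then (1 : ℂ) else 0) := by
      intro x
      rw [Cfsg.Agent.Lib.Helper28.extendByZero_eq_sum]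
      refine Finset.sum_congr rfl fun v' _ => ?_
      by_cases h : (v' : G) = (x : G) * (v : G) * (x : G)⁻¹
      · rw [if_pos h, if_pos h.symm, mul_one]
      · rw [if_neg h, if_neg (fun h' => h h'.symm), mul_zero]
    rw [Finset.sum_congr rfl fun x _ => h1 x, Finset.sum_comm, map_sum]
    refine Finset.sum_congr rfl fun v' _ => ?_
    rw [← Finset.mul_sum, Cfsg.Agent.Lib.Helper28.card_conjugators_subgroup, map_mul]
    congr 1
    split_ifs
    · exact Complex.conj_natCast _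
    · exact map_zero _
  rw [hL, finsum_eq_sum_of_fintype, ← hc]
  have hfin : c⁻¹ * c⁻¹ * ∑ v : P, θ v * ∑ v' : P, (starRingEnd ℂ) (η v') *
        (∑ χ : IrrCharacter G, if χ ∈ principalBlock M G then
          (χ : G → ℂ) (v' : G) * (starRingEnd ℂ) ((χ : G → ℂ) (v : G)) else 0) =
      (w : ℂ) / c ^ 2 * ∑ v : P, θ v * ∑ v' : P, (starRingEnd ℂ) (η v') *
        (if (∃ n ∈ N, n * (v : G) * n⁻¹ = (v' : G)) then
          (Nat.card ↥(N ⊓ Subgroup.centralizer ({(v : G)} : Set G)) : ℂ) else 0) := by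
    have h3 : (w : ℂ) / c ^ 2 = c⁻¹ * c⁻¹ * (w : ℂ) := by
      rw [div_eq_mul_inv, sq, mul_inv]; ring
    rw [h3, mul_assoc (c⁻¹ * c⁻¹), Finset.mul_sum (a := (w : ℂ))]
    congr 1
    refine Finset.sum_congr rfl fun v _ => ?_
    by_cases hvU : (v : G) ∈ U
    · rw [← mul_assoc, mul_comm (w : ℂ), mul_assoc, Finset.mul_sum (a := (w : ℂ))]
      congr 1
      refine Finset.sum_congr rfl fun v' _ => ?_
      rw [hS v hvU v']
      split_ifs
      · ring
      · ring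
    · rw [hθU v hvU, zero_mul, zero_mul, mul_zero]
  rw [hfin]
  congr 1
  refine Finset.sum_congr rfl fun v _ => ?_
  rw [hR v]

end Cfsg.Agent.S4720
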