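import Cfsg.Statements.S4730
import Cfsg.Agent.Lib.Helper4.BlockRegular
import Cfsg.Agent.Lib.Helper4.BlockIdem
import Cfsg.Agent.Lib.Helper4.Deflate
import Cfsg.Agent.Lib.Helper4.BurnsideClass
import Cfsg.Agent.Lib.Helper26.CharInt

set_option autoImplicit false
open Cfsg

namespace Cfsg.Agent.S4730

open Cfsg.Agent.Lib.Helper4 Cfsg.Agent.Lib.Helper28 Cfsg.Agent.Lib.Helper26
open scoped ComplexConjugate

/-- a faithful irreducible character of a group with trivial centre vanishes at every nontrivial
element whose class size is coprime to the degree -/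
theorem char_eq_zero_of_faithful {G : Type*} [Group G] [Fintype G]
    (hZ : Subgroup.center G = ⊥) (χ : Cfsg.IrrCharacter G)
    (hfaith : ∀ g : G, (χ : G → ℂ) g = (χ : G → ℂ) 1 → g = 1) (z : G) (hz : z ≠ 1) (d : ℕ)
    (hd : (χ : G → ℂ) 1 = d)
    (hcop : Nat.Coprime d (Subgroup.centralizer ({z} : Set G)).index) : (χ : G → ℂ) z = 0 := by
  obtain ⟨n, ρ, hirr, hχ⟩ := χ.2
  have hn : Module.finrank ℂ (Fin n → ℂ) = n := by simp
  have hdn : d = n := by
    have h1 : (χ : G → ℂ) 1 = (n : ℂ) := by
      rw [← hχ, Representation.char_one, hn]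
    rw [hd] at h1
    exact_mod_cast h1
  have hcop' : Nat.Coprime (Module.finrank ℂ (Fin n → ℂ))
      (Subgroup.centralizer ({z} : Set G)).index := by
    rw [hn, ← hdn]; exact hcop
  rcases character_eq_zero_or_norm_eq ρ hirr z hcop' with h | h
  · rw [← hχ]; exact h
  · exfalso
    obtain ⟨ω, hω⟩ := (norm_character_eq_finrank_iff ρ z).mp h
    have hker : ∀ k : G, k ∈ MonoidHom.ker ρ → k = 1 := by
      intro k hk
      apply hfaith
      rw [← hχ]
      exact (character_eq_one_iff_mem_ker ρ k).mpr hk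
    have hzc : z ∈ Subgroup.center G := by
      rw [Subgroup.mem_center_iff]
      intro y
      have h1 : ρ (y * z) = ρ (z * y) := by
        rw [map_mul, map_mul, hω]
        ext v
        simp
      have h2 : (y * z) * (z * y)⁻¹ ∈ MonoidHom.ker ρ := by
        rw [MonoidHom.mem_ker, map_mul, h1, ← map_mul, mul_inv_cancel, map_one]
      exact mul_inv_eq_one.mp (hker _ h2)
    rw [hZ, Subgroup.mem_bot] at hzc
    exact hz hzc

/-- Let p be a prime, M a maximal ideal of the algebraic integers containing p, and G a finite group with trivial centre, Sylow p-subgroup P of order p^a and centre Z(P) of order p^b. If χ is a faithful irreducible character of G whose degree is a power of p, then the p-block of χ has defect at most a − b; in particular, if P is abelian then χ lies in a block of defect zero. -/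
theorem result {G : Type*} [Group G] [Finite G] (p : ℕ) [Fact p.Prime] (M : Ideal Cfsg.AlgInt) (hM : Cfsg.IsPModular p M) (hZ : Subgroup.center G = ⊥) (P : Sylow p G) (a b : ℕ) (ha : Nat.card P = p ^ a) (hb : Nat.card (Subgroup.center ↥(P : Subgroup G)) = p ^ b) (χ : Cfsg.IrrCharacter G) (hfaith : ∀ g : G, (χ : G → ℂ) g = (χ : G → ℂ) 1 → g = 1) (n : ℕ) (hdeg : Cfsg.charDegree (χ : G → ℂ) = p ^ n) : Cfsg.blockDefect p (Cfsg.blockOf M (χ : G → ℂ)) ≤ a - b ∧ (IsMulCommutative ↥(P : Subgroup G) → Cfsg.blockDefect p (Cfsg.blockOf M (χ : G → ℂ)) = 0) := by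
  classical
  have : Fintype G := Fintype.ofFinite G
  have hpP : p.Prime := Fact.out
  have hMprime : M.IsPrime := hM.2.1.isPrime
  have hMtop : M ≠ ⊤ := Ideal.IsPrime.ne_top hMprime
  -- the exponent `a`
  have ha' : (Nat.card G).factorization p = a := by
    have h1 := Sylow.card_eq_multiplicity P
    rw [ha] at h1
    exact (Nat.pow_right_injective hpP.two_le h1).symm
  -- the centre of `P` inside `G`
  set Z : Subgroup G := (Subgroup.center ↥(P : Subgroup G)).map (P : Subgroup G).subtype with hZdef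
  have hZcard : Nat.card Z = p ^ b := by
    rw [hZdef, Subgroup.card_map_of_injective (Subgroup.subtype_injective _), hb]
  have hZmem : ∀ z ∈ Z, z ∈ (P : Subgroup G) ∧ ∀ w ∈ (P : Subgroup G), z * w = w * z := by
    intro z hz
    obtain ⟨z', hz', rfl⟩ := Subgroup.mem_map.mp hz
    refine ⟨z'.2, fun w hw => ?_⟩
    have := (Subgroup.mem_center_iff.mp hz') ⟨w, hw⟩
    have h2 := congrArg Subtype.val this
    simpa using h2.symm
  have : Fintype Z := Fintype.ofFinite _
  -- degrees
  obtain ⟨d, hdpos, hd⟩ := irr_degree χ.2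
  have hdeg' : d = p ^ n := by
    rw [← hdeg]
    unfold charDegree
    rw [hd]
    simp
  -- class sizes of elements of `Z`
  have hidx : ∀ z ∈ Z, Nat.Coprime (Subgroup.centralizer ({z} : Set G)).index p := by
    intro z hz
    have hle : (P : Subgroup G) ≤ Subgroup.centralizer ({z} : Set G) := by
      intro w hw
      rw [Subgroup.mem_centralizer_iff]
      intro y hy
      rw [Set.mem_singleton_iff] at hy
      subst hy
      exact (hZmem y hz).2 w hw
    have h1 := Subgroup.index_dvd_of_le hle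
    have h2 : ¬ p ∣ (P : Subgroup G).index := Sylow.not_dvd_index P
    exact Nat.Coprime.symm ((Nat.Prime.coprime_iff_not_dvd hpP).mpr (fun h => h2 (h.trans h1)))
  -- `χ` vanishes on `Z \ 1`
  have hχ0 : ∀ z ∈ Z, z ≠ 1 → (χ : G → ℂ) z = 0 := by
    intro z hz hz1
    apply char_eq_zero_of_faithful hZ χ hfaith z hz1 d hd
    rw [hdeg']
    exact Nat.Coprime.pow_left n (hidx z hz).symm
  -- the key divisibility
  have hkey : ∀ ψ ∈ blockOf M (χ : G → ℂ), b ≤ (charDegree (ψ : G → ℂ)).factorization p := by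
    intro ψ hψ
    obtain ⟨e, hepos, he⟩ := irr_degree ψ.2
    have hcd : charDegree (ψ : G → ℂ) = e := by
      unfold charDegree
      rw [he]
      simp
    rw [hcd]
    have hsame : SameBlock M (χ : G → ℂ) (ψ : G → ℂ) := hψ
    have he0 : (e : ℂ) ≠ 0 := Nat.cast_ne_zero.mpr hepos.ne'
    -- `ψ z / ψ 1` in the local ideal
    have hloc : ∀ z : Z, (z : G) ≠ 1 → MemLocalIdeal M ((ψ : G → ℂ) (z : G) / (ψ : G → ℂ) 1) := by
      intro z hz1
      have h1 := hsame (z : G)
      have h2 : centralChar (χ : G → ℂ) (z : G) = 0 := by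
        unfold centralChar
        rw [hχ0 (z : G) z.2 hz1, mul_zero, zero_div]
      rw [h2, zero_sub] at h1
      have h3 := memLocalIdeal_neg h1
      rw [neg_neg] at h3
      have h4 := memLocalIdeal_div_nat hM (hidx (z : G) z.2) h3
      have hi0 : ((Subgroup.centralizer ({(z : G)} : Set G)).index : ℂ) ≠ 0 :=
        Nat.cast_ne_zero.mpr (Subgroup.index_ne_zero_of_finite)
      have h5 : centralChar (ψ : G → ℂ) (z : G) /
          ((Subgroup.centralizer ({(z : G)} : Set G)).index : ℂ) =
          (ψ : G → ℂ) (z : G) / (ψ : G → ℂ) 1 := by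
        unfold centralChar
        field_simp
      rwa [h5] at h4
    -- the sum over `Z`
    obtain ⟨m, hm⟩ := classInner_isCharacter_nat
      (isCharacter_restrict Z (isCharacter_of_isIrrCharacter ψ.2))
      (isCharacter_of_isIrrCharacter (isIrrCharacter_one (G := Z)))
    unfold classInner at hm
    have hZ0 : (Nat.card Z : ℂ) ≠ 0 := Nat.cast_ne_zero.mpr Nat.card_pos.ne'
    have hsum : ∑ z : Z, (ψ : G → ℂ) (z : G) = (p : ℂ) ^ b * (m : ℂ) := by
      have h1 : ∑ z : Z, ((ψ : G → ℂ) ∘ Z.subtype) z * conj ((fun _ : Z => (1 : ℂ)) z) =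
          (Nat.card Z : ℂ) * (m : ℂ) := by
        field_simp at hm
        linear_combination hm
      rw [hZcard] at h1
      push_cast at h1
      rw [← h1]
      refine Finset.sum_congr rfl fun z _ => ?_
      simp
    have hsplit : ∑ z : Z, (ψ : G → ℂ) (z : G) / (ψ : G → ℂ) 1 =
        1 + ∑ z ∈ Finset.univ.erase (1 : Z), (ψ : G → ℂ) (z : G) / (ψ : G → ℂ) 1 := by
      rw [← Finset.add_sum_erase Finset.univ (fun z : Z => (ψ : G → ℂ) (z : G) / (ψ : G → ℂ) 1)
        (Finset.mem_univ (1 : Z))]
      congr 1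
      show (ψ : G → ℂ) ((1 : Z) : G) / (ψ : G → ℂ) 1 = 1
      rw [Subgroup.coe_one, he, div_self he0]
    have hrest : MemLocalIdeal M (∑ z ∈ Finset.univ.erase (1 : Z),
        (ψ : G → ℂ) (z : G) / (ψ : G → ℂ) 1) := by
      apply memLocalIdeal_sum
      intro z hz
      apply hloc
      intro h
      apply (Finset.mem_erase.mp hz).1
      exact Subtype.ext h
    have hcong : MemLocalIdeal M ((p : ℂ) ^ b * (m : ℂ) / (e : ℂ) - 1) := by
      have : (p : ℂ) ^ b * (m : ℂ) / (e : ℂ) - 1 = ∑ z ∈ Finset.univ.erase (1 : Z),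
          (ψ : G → ℂ) (z : G) / (ψ : G → ℂ) 1 := by
        rw [← hsum, Finset.sum_div, ← he, hsplit]
        ring
      rw [this]
      exact hrest
    -- valuation
    by_contra hlt
    push Not at hlt
    set c := e.factorization p with hc
    obtain ⟨e', he'⟩ : p ^ c ∣ e := Nat.ordProj_dvd e p
    have he'cop : Nat.Coprime e' p := by
      have h1 : ¬ p ∣ e / p ^ c := Nat.not_dvd_ordCompl hpP hepos.ne'
      have h2 : e / p ^ c = e' := by
        rw [he']
        exact Nat.mul_div_cancel_left e' (pow_pos hpP.pos c)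
      rw [h2] at h1
      exact Nat.Coprime.symm ((Nat.Prime.coprime_iff_not_dvd hpP).mpr h1)
    have he'0 : (e' : ℂ) ≠ 0 := by
      intro h
      have : e' = 0 := by exact_mod_cast h
      rw [this, mul_zero] at he'
      omega
    obtain ⟨k, hk⟩ : ∃ k, b = c + (k + 1) := ⟨b - c - 1, by omega⟩
    have hpc0 : (p : ℂ) ^ c ≠ 0 := pow_ne_zero _ (Nat.cast_ne_zero.mpr hpP.ne_zero)
    have hfrac : (p : ℂ) ^ b * (m : ℂ) / (e : ℂ) = (p : ℂ) * ((p : ℂ) ^ k * (m : ℂ)) / (e' : ℂ) := by
      rw [he', hk]
      push_cast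
      field_simp
      ring
    have hmem : MemLocalIdeal M ((p : ℂ) ^ b * (m : ℂ) / (e : ℂ)) := by
      rw [hfrac]
      apply memLocalIdeal_div_nat hM he'cop
      apply memLocalIdeal_mul_right (memLocalIdeal_natCast_p hM)
      apply memLocalRing_of_isIntegral hMtop
      exact (IsIntegral.pow (isIntegral_algebraMap (R := ℤ) (A := ℂ) (x := (p : ℤ)) |>
        fun h => by simpa using h) k).mul
        (isIntegral_algebraMap (R := ℤ) (A := ℂ) (x := (m : ℤ)) |> fun h => by simpa using h)
    have hone := memLocalIdeal_sub hmem hcong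
    rw [sub_sub_cancel] at hone
    exact not_memLocalIdeal_one hMtop hone
  -- the defect
  have hdef : blockDefect p (blockOf M (χ : G → ℂ)) ≤ a - b := by
    unfold blockDefect
    rw [ha']
    apply Nat.sub_le_sub_left
    apply le_csInf
    · exact ⟨_, χ, sameBlock_refl hMtop _, rfl⟩
    · rintro x ⟨ψ, hψ, rfl⟩
      exact hkey ψ hψ
  refine ⟨hdef, fun hcomm => ?_⟩
  have hcen : Subgroup.center ↥(P : Subgroup G) = ⊤ := by
    ext x
    simp only [Subgroup.mem_top, iff_true]
    rw [Subgroup.mem_center_iff]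
    intro y
    exact hcomm.is_comm.comm y x
  have hab : a = b := by
    rw [hcen] at hb
    have h1 : Nat.card (⊤ : Subgroup ↥(P : Subgroup G)) = Nat.card P := Subgroup.card_top
    rw [h1, ha] at hb
    exact Nat.pow_right_injective hpP.two_le hb
  rw [hab, Nat.sub_self] at hdef
  exact Nat.le_zero.mp hdef

end Cfsg.Agent.S4730
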