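import Cfsg.Statements.S4731
import Cfsg.Agent.Lib.Helper4.BlockRegular
import Cfsg.Agent.Lib.Helper4.BlockIdem
import Cfsg.Agent.Lib.Helper26.CharInt

set_option autoImplicit false
open Cfsg

namespace Cfsg.Agent.S4731

/-- Let p ≠ q be primes, M_p and M_q maximal ideals of the algebraic integers containing p and q respectively, and G a finite group with no element of order pq; let q^b be the q-part of the order of G. For a p-block B_p (relative to M_p), a q-block B_q (relative to M_q) and a p-singular element y, the sum of χ(1)χ(y) over the irreducible characters χ lying in both B_p and B_q is q^b times an algebraic integer. -/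
theorem result {G : Type*} [Group G] [Finite G] (p q : ℕ) [Fact p.Prime] [Fact q.Prime] (hpq : p ≠ q) (Mp Mq : Ideal Cfsg.AlgInt) (hMp : Cfsg.IsPModular p Mp) (hMq : Cfsg.IsPModular q Mq) (hno : ∀ g : G, orderOf g ≠ p * q) (b : ℕ) (hb : (Nat.card G).factorization q = b) (Bp : Set (Cfsg.IrrCharacter G)) (hBp : Cfsg.IsPBlock Mp Bp) (Bq : Set (Cfsg.IrrCharacter G)) (hBq : Cfsg.IsPBlock Mq Bq) (y : G) (hy : p ∣ orderOf y) : ∃ ω : Cfsg.AlgInt, ∑ᶠ χ ∈ Bp ∩ Bq, (Cfsg.charDegree (χ : G → ℂ) : ℂ) * (χ : G → ℂ) y = (q : ℂ) ^ b * (ω : ℂ) := by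
  classical
  open Cfsg.Agent.Lib.Helper4 Cfsg.Agent.Lib.Helper28 Cfsg.Agent.Lib.Helper26 in
  have : Fintype G := Fintype.ofFinite G
  have : Fintype (IrrCharacter G) := Fintype.ofFinite _
  have hpP : p.Prime := Fact.out
  have hqP : q.Prime := Fact.out
  have hMpprime : Mp.IsPrime := hMp.2.1.isPrime
  have hMqprime : Mq.IsPrime := hMq.2.1.isPrime
  have hG0 : (Nat.card G : ℂ) ≠ 0 := Nat.cast_ne_zero.mpr Nat.card_pos.ne'
  -- every element is `p`-regular or `q`-regular
  have hreg : ∀ g : G, ¬ p ∣ orderOf g ∨ ¬ q ∣ orderOf g := by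
    intro g
    by_contra h
    push Not at h
    have hcop : Nat.Coprime p q := (Nat.coprime_primes hpP hqP).mpr hpq
    have hdvd : p * q ∣ orderOf g := Nat.Coprime.mul_dvd_of_dvd_of_dvd hcop h.1 h.2
    exact hno _ (orderOf_pow_orderOf_div (orderOf_pos g).ne' hdvd)
  -- degrees
  have hdeg : ∀ χ : IrrCharacter G, ((charDegree (χ : G → ℂ) : ℕ) : ℂ) = (χ : G → ℂ) 1 := by
    intro χ
    obtain ⟨d, _, hd⟩ := irr_degree χ.2
    unfold charDegree
    rw [hd]
    simp
  -- the finsum as a finite sum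
  have hfin : ∑ᶠ χ ∈ Bp ∩ Bq, (Cfsg.charDegree (χ : G → ℂ) : ℂ) * (χ : G → ℂ) y =
      ∑ χ : IrrCharacter G, if χ ∈ Bp ∩ Bq then (χ : G → ℂ) y * (starRingEnd ℂ) ((χ : G → ℂ) 1)
        else 0 := by
    rw [finsum_mem_def, finsum_eq_sum_of_fintype]
    refine Finset.sum_congr rfl fun χ _ => ?_
    rw [Set.indicator_apply]
    by_cases h : χ ∈ Bp ∩ Bq
    · rw [if_pos h, if_pos h, hdeg, irr_one_conj χ.2, mul_comm]
    · rw [if_neg h, if_neg h]
  -- Θ vanishes on `p`-regular elements
  set Θ : G → ℂ := fun h => ∑ χ : IrrCharacter G, if χ ∈ Bp then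
    (χ : G → ℂ) y * (starRingEnd ℂ) ((χ : G → ℂ) h) else 0 with hΘ
  have hΘ0 : ∀ h : G, ¬ p ∣ orderOf h → Θ h = 0 := by
    intro h hh
    have h1 := weak_orthogonality_of_memLocalRing hMp Bp (fun x => osima hBp x) h y hh hy
    have h2 : Θ h = (starRingEnd ℂ) (∑ χ : IrrCharacter G, if χ ∈ Bp then
        (χ : G → ℂ) h * (starRingEnd ℂ) ((χ : G → ℂ) y) else 0) := by
      rw [map_sum, hΘ]
      simp only
      refine Finset.sum_congr rfl fun χ _ => ?_
      by_cases hχ : χ ∈ Bp
      · rw [if_pos hχ, if_pos hχ, map_mul, Complex.conj_conj, mul_comm]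
      · rw [if_neg hχ, if_neg hχ, map_zero]
    rw [h2, h1, map_zero]
  set Ψ : G → ℂ := fun g => ∑ χ : IrrCharacter G, if χ ∈ Bp ∩ Bq then
    (χ : G → ℂ) y * (starRingEnd ℂ) ((χ : G → ℂ) g) else 0 with hΨ
  -- Ψ as a double sum
  have hΨeq : ∀ g : G, Ψ g = (Nat.card G : ℂ)⁻¹ * ∑ h : G, Θ h *
      ∑ ψ : IrrCharacter G, if ψ ∈ Bq then (ψ : G → ℂ) h * (starRingEnd ℂ) ((ψ : G → ℂ) g)
        else 0 := by
    intro g
    have h1 : ∀ h : G, Θ h * (∑ ψ : IrrCharacter G, if ψ ∈ Bq then
        (ψ : G → ℂ) h * (starRingEnd ℂ) ((ψ : G → ℂ) g) else 0) =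
        ∑ χ : IrrCharacter G, ∑ ψ : IrrCharacter G, (if χ ∈ Bp then (if ψ ∈ Bq then
          ((χ : G → ℂ) y * (starRingEnd ℂ) ((ψ : G → ℂ) g)) *
            ((ψ : G → ℂ) h * (starRingEnd ℂ) ((χ : G → ℂ) h)) else 0) else 0) := by
      intro h
      rw [hΘ]
      simp only
      rw [Finset.sum_mul_sum]
      refine Finset.sum_congr rfl fun χ _ => Finset.sum_congr rfl fun ψ _ => ?_
      by_cases h1 : χ ∈ Bp
      · by_cases h2 : ψ ∈ Bq
        · rw [if_pos h1, if_pos h2, if_pos h1, if_pos h2]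
          ring
        · rw [if_pos h1, if_neg h2, if_pos h1, if_neg h2, mul_zero]
      · rw [if_neg h1, if_neg h1, zero_mul]
    simp only [h1]
    rw [Finset.sum_comm, Finset.mul_sum]
    rw [hΨ]
    simp only
    refine Finset.sum_congr rfl fun χ _ => ?_
    rw [Finset.sum_comm]
    by_cases h1 : χ ∈ Bp
    · simp only [if_pos h1]
      have h3 : ∀ ψ : IrrCharacter G, ∑ h : G, (if ψ ∈ Bq then
          ((χ : G → ℂ) y * (starRingEnd ℂ) ((ψ : G → ℂ) g)) *
            ((ψ : G → ℂ) h * (starRingEnd ℂ) ((χ : G → ℂ) h)) else 0) =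
          if ψ = χ then (if ψ ∈ Bq then
            ((χ : G → ℂ) y * (starRingEnd ℂ) ((ψ : G → ℂ) g)) * (Nat.card G : ℂ) else 0)
            else 0 := by
        intro ψ
        have hin := Cfsg.Agent.Lib.Helper4.classInner_irr ψ χ
        unfold classInner at hin
        have hs : ∑ h : G, (ψ : G → ℂ) h * (starRingEnd ℂ) ((χ : G → ℂ) h) =
            if ψ = χ then (Nat.card G : ℂ) else 0 := by
          by_cases hχψ : ψ = χ
          · rw [if_pos hχψ] at hin ⊢
            field_simp at hin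
            linear_combination hin
          · rw [if_neg hχψ] at hin ⊢
            rcases mul_eq_zero.mp hin with h | h
            · exact absurd h (inv_ne_zero hG0)
            · exact h
        by_cases h2 : ψ ∈ Bq
        · simp only [if_pos h2]
          rw [← Finset.mul_sum, hs]
          by_cases hχψ : ψ = χ
          · rw [if_pos hχψ, if_pos hχψ]
          · rw [if_neg hχψ, if_neg hχψ, mul_zero]
        · simp only [if_neg h2, Finset.sum_const_zero, ite_self]
      simp only [h3]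
      rw [Finset.sum_ite_eq']
      simp only [Finset.mem_univ, if_true]
      by_cases h2 : χ ∈ Bq
      · rw [if_pos h2, if_pos ⟨h1, h2⟩]
        field_simp
      · rw [if_neg h2, if_neg (fun h => h2 h.2), mul_zero]
    · simp only [if_neg h1, Finset.sum_const_zero, mul_zero]
      rw [if_neg (fun h => h1 h.1)]
  -- Ψ vanishes on `q`-singular elements
  have hΨ0 : ∀ g : G, q ∣ orderOf g → Ψ g = 0 := by
    intro g hg
    rw [hΨeq]
    have : ∑ h : G, Θ h * ∑ ψ : IrrCharacter G, (if ψ ∈ Bq then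
        (ψ : G → ℂ) h * (starRingEnd ℂ) ((ψ : G → ℂ) g) else 0) = 0 := by
      apply Finset.sum_eq_zero
      intro h _
      by_cases hh : p ∣ orderOf h
      · have hhq : ¬ q ∣ orderOf h := by
          rcases hreg h with h1 | h1
          · exact absurd hh h1
          · exact h1
        rw [weak_orthogonality_of_memLocalRing hMq Bq (fun x => osima hBq x) h g hhq hg, mul_zero]
      · rw [hΘ0 h hh, zero_mul]
    rw [this, mul_zero]
  -- sum over a Sylow `q`-subgroup
  obtain ⟨Q⟩ : Nonempty (Sylow q G) := inferInstance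
  have hQcard : Nat.card (Q : Subgroup G) = q ^ b := by
    rw [Sylow.card_eq_multiplicity, hb]
  have : Fintype (Q : Subgroup G) := Fintype.ofFinite _
  have hsumQ : ∑ g : (Q : Subgroup G), Ψ (g : G) = Ψ 1 := by
    rw [Finset.sum_eq_single (1 : (Q : Subgroup G))]
    · rfl
    · intro g _ hg
      apply hΨ0
      obtain ⟨k, hk⟩ := Q.isPGroup' g
      have hk' : (g : G) ^ (q ^ k) = 1 := by
        have := congrArg Subtype.val hk
        simpa using this
      have hdvd : orderOf (g : G) ∣ q ^ k := orderOf_dvd_of_pow_eq_one hk'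
      obtain ⟨j, _, hj⟩ := (Nat.dvd_prime_pow hqP).mp hdvd
      rcases Nat.eq_zero_or_pos j with h0 | hpos
      · rw [h0, pow_zero] at hj
        exfalso
        apply hg
        apply Subtype.ext
        exact orderOf_eq_one_iff.mp hj
      · rw [hj]
        exact dvd_pow_self q hpos.ne'
    · intro h
      exact absurd (Finset.mem_univ _) h
  -- multiplicities of the trivial character of `Q`
  have hmult : ∀ χ : IrrCharacter G, ∃ m : ℕ,
      ∑ g : (Q : Subgroup G), (starRingEnd ℂ) ((χ : G → ℂ) (g : G)) = (q : ℂ) ^ b * (m : ℂ) := by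
    intro χ
    obtain ⟨m, hm⟩ := classInner_isCharacter_nat
      (isCharacter_restrict (Q : Subgroup G) (isCharacter_of_isIrrCharacter χ.2))
      (isCharacter_of_isIrrCharacter (isIrrCharacter_one (G := (Q : Subgroup G))))
    refine ⟨m, ?_⟩
    unfold classInner at hm
    have hQ0 : (Nat.card (Q : Subgroup G) : ℂ) ≠ 0 := Nat.cast_ne_zero.mpr Nat.card_pos.ne'
    have h1 : ∑ g : (Q : Subgroup G), ((χ : G → ℂ) ∘ (Q : Subgroup G).subtype) g *
        (starRingEnd ℂ) ((fun _ : (Q : Subgroup G) => (1 : ℂ)) g) =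
        (Nat.card (Q : Subgroup G) : ℂ) * (m : ℂ) := by
      field_simp at hm
      linear_combination hm
    have h2 := congrArg (starRingEnd ℂ) h1
    rw [map_sum, map_mul, Complex.conj_natCast, Complex.conj_natCast, hQcard] at h2
    rw [← Nat.cast_pow, ← h2]
    refine Finset.sum_congr rfl fun g _ => ?_
    simp
  choose m hm using hmult
  have hT : Ψ 1 = (q : ℂ) ^ b * ∑ χ : IrrCharacter G, if χ ∈ Bp ∩ Bq then
      (χ : G → ℂ) y * (m χ : ℂ) else 0 := by
    rw [← hsumQ, hΨ]
    simp only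
    rw [Finset.sum_comm, Finset.mul_sum]
    refine Finset.sum_congr rfl fun χ _ => ?_
    by_cases h : χ ∈ Bp ∩ Bq
    · simp only [if_pos h]
      rw [← Finset.mul_sum, hm χ]
      ring
    · simp only [if_neg h, Finset.sum_const_zero, mul_zero]
  have hint : IsIntegral ℤ (∑ χ : IrrCharacter G, if χ ∈ Bp ∩ Bq then
      (χ : G → ℂ) y * (m χ : ℂ) else 0) := by
    apply IsIntegral.sum
    intro χ _
    split_ifs
    · exact (isIntegral_of_isIrrCharacter χ.2 y).mul (isIntegral_algebraMap (R := ℤ) (A := ℂ) (x := (m χ : ℤ)) |> fun h => by simpa using h)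
    · exact isIntegral_zero
  refine ⟨⟨_, hint⟩, ?_⟩
  rw [hfin]
  exact hT

end Cfsg.Agent.S4731
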