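import Cfsg.Statements.S4733
import Cfsg.Agent.Lib.Helper28.BlockRankD

set_option autoImplicit false
open Cfsg

namespace Cfsg.Agent.S4733

/-- Let p be a prime, M a maximal ideal of the algebraic integers containing p, and B a p-block of the finite group G with k irreducible characters and p-regular rank l (the number of irreducible Brauer characters). Then l ≤ k, and the following are equivalent: B has defect 0; k = l = 1; k = l. -/
theorem result {G : Type*} [Group G] [Finite G] (p : ℕ) [Fact p.Prime] (M : Ideal Cfsg.AlgInt) (hM : Cfsg.IsPModular p M) (B : Set (Cfsg.IrrCharacter G)) (hB : Cfsg.IsPBlock M B) : Cfsg.blockRank p B ≤ Nat.card B ∧ (Cfsg.blockDefect p B = 0 ↔ (Nat.card B = 1 ∧ Cfsg.blockRank p B = 1)) ∧ (Cfsg.blockDefect p B = 0 ↔ Nat.card B = Cfsg.blockRank p B) := by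
  classical
  have : Fintype G := Fintype.ofFinite G
  have : Fintype (IrrCharacter G) := Fintype.ofFinite _
  have hp : p.Prime := hM.1
  have key1 : Cfsg.blockDefect p B = 0 → (Nat.card B = 1 ∧ Cfsg.blockRank p B = 1) := by
    intro hd
    obtain ⟨χ, rfl⟩ := Cfsg.Agent.Lib.Helper28.block_eq_singleton_of_defect_zero hM hB hd
    refine ⟨by simp, ?_⟩
    unfold Cfsg.blockRank
    rw [Set.image_singleton]
    apply finrank_span_singleton
    intro h0
    have h1 := congrFun h0 1
    rw [Cfsg.Agent.Lib.Helper28.pRegularPart_of_not_dvd] at h1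
    · exact Cfsg.Agent.Lib.Helper28.irr_one_ne_zero χ.2 h1
    · rw [orderOf_one]
      exact hp.one_lt.ne' ∘ Nat.dvd_one.mp
  have key2 : Nat.card B = Cfsg.blockRank p B → Cfsg.blockDefect p B = 0 :=
    Cfsg.Agent.Lib.Helper28.blockDefect_eq_zero_of_card_eq hM hB
  refine ⟨Cfsg.Agent.Lib.Helper28.blockRank_le_card p B, ⟨key1, ?_⟩, ⟨?_, key2⟩⟩
  · rintro ⟨h1, h2⟩
    exact key2 (h1.trans h2.symm)
  · intro hd
    obtain ⟨h1, h2⟩ := key1 hd
    exact h1.trans h2.symm

end Cfsg.Agent.S4733
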