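import Cfsg.Statements.S4736
import Cfsg.Agent.Lib.Helper4.PSolvPrincipal
import Cfsg.Agent.Lib.Helper4.ItoPSolv
import Cfsg.Agent.S0169

set_option autoImplicit false
open Cfsg

namespace Cfsg.Agent.S4736

/-- Let p be a prime, M a maximal ideal of the algebraic integers containing p, and G a finite p-solvable group with Sylow p-subgroup P. Then P is abelian if and only if every irreducible character in the principal p-block of G has height zero. -/
theorem result {G : Type*} [Group G] [Finite G] (p : ℕ) [Fact p.Prime] (M : Ideal Cfsg.AlgInt) (hM : Cfsg.IsPModular p M) (hsolv : Cfsg.IsPSolvable p G) (P : Sylow p G) : IsMulCommutative P ↔ ∀ χ ∈ Cfsg.principalBlock M G, Cfsg.blockHeight p (Cfsg.principalBlock M G) (χ : G → ℂ) = 0 := by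
  classical
  open Cfsg.Agent.Lib.Helper4 Cfsg.Agent.Lib.Helper28 Cfsg.Agent.Lib.Helper26 in
  have : Fintype G := Fintype.ofFinite G
  have hp : p.Prime := Fact.out
  have hMprime : M.IsPrime := hM.2.1.isPrime
  have hMtop : M ≠ ⊤ := Ideal.IsPrime.ne_top hMprime
  have hNn : (pPrimeCore p G).Normal := Cfsg.Agent.Lib.Helper2.pPrimeCore_normal p
  have hNc : (Nat.card (pPrimeCore p G)).Coprime p := Cfsg.Agent.Lib.Helper2.pPrimeCore_coprime p
  have hF := fun χ : IrrCharacter G => mem_principalBlock_iff_of_isPSolvable hM hsolv χ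
  have hsolQ : IsPSolvable p (G ⧸ pPrimeCore p G) :=
    Cfsg.Agent.Lib.Helper3.isPSolvable_quotient hp hsolv _
  have hO : pPrimeCore p (G ⧸ pPrimeCore p G) = ⊥ :=
    Cfsg.Agent.Lib.Helper3.pPrimeCore_quotient_pPrimeCore p
  have hπ : Function.Surjective (QuotientGroup.mk' (pPrimeCore p G)) :=
    QuotientGroup.mk'_surjective _
  -- `P ∩ N = 1`
  have hPN : ∀ x : G, x ∈ (P : Subgroup G) → x ∈ pPrimeCore p G → x = 1 := by
    intro x hxP hxN
    obtain ⟨k, hk⟩ := (IsPGroup.iff_orderOf.mp P.2) ⟨x, hxP⟩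
    rw [Subgroup.orderOf_mk] at hk
    have h1 : orderOf x ∣ Nat.card (pPrimeCore p G) := Subgroup.orderOf_dvd_natCard _ hxN
    have h2 : orderOf x = 1 := by
      apply Nat.eq_one_of_dvd_coprimes (Nat.Coprime.pow_left k hNc.symm) _ h1
      rw [hk]
    exact orderOf_eq_one_iff.mp h2
  -- the trivial character lies in the principal block and has degree one
  have h1B : trivIrr G ∈ principalBlock M G := sameBlock_refl hMtop _
  have hinf0 : sInf ((fun ψ : IrrCharacter G => (charDegree (ψ : G → ℂ)).factorization p) ''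
      principalBlock M G) = 0 := by
    rw [Nat.sInf_eq_zero]
    left
    refine ⟨trivIrr G, h1B, ?_⟩
    have : charDegree (trivIrr G : G → ℂ) = 1 :=
      charDegree_eq_of_one_eq'' (by rw [trivIrr_apply]; simp)
    show (charDegree (trivIrr G : G → ℂ)).factorization p = 0
    rw [this]
    simp
  have hheight : ∀ χ : IrrCharacter G, χ ∈ principalBlock M G →
      (blockHeight p (principalBlock M G) (χ : G → ℂ) = 0 ↔ ¬ p ∣ charDegree (χ : G → ℂ)) := by
    intro χ _
    unfold blockHeight
    rw [hinf0, Nat.sub_zero]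
    obtain ⟨d, hd0, hd⟩ := irr_degree χ.2
    rw [charDegree_eq_of_one_eq'' hd]
    constructor
    · intro h hdvd
      have := (Nat.factorization_eq_zero_iff d p).mp h
      rcases this with h1 | h1 | h1
      · exact h1 hp
      · exact h1 hdvd
      · omega
    · intro h
      exact Nat.factorization_eq_zero_of_not_dvd h
  constructor
  · -- abelian Sylow ⟹ heights zero
    intro hab χ hχ
    rw [hheight χ hχ]
    obtain ⟨ψ, hψ⟩ := exists_deflate_irr (pPrimeCore p G) χ ((hF χ).mp hχ)
    have hdegeq : charDegree (χ : G → ℂ) = charDegree (ψ : G ⧸ pPrimeCore p G → ℂ) := by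
      unfold charDegree
      rw [← hψ 1]
      rfl
    rw [hdegeq]
    -- the image of `P` is a Sylow subgroup of the quotient
    set Pt : Sylow p (G ⧸ pPrimeCore p G) := P.mapSurjective hπ with hPt
    have hPtcoe : (Pt : Subgroup (G ⧸ pPrimeCore p G)) =
        (P : Subgroup G).map (QuotientGroup.mk' (pPrimeCore p G)) := Sylow.coe_mapSurjective hπ P
    have hPtab : ∀ a ∈ (Pt : Subgroup (G ⧸ pPrimeCore p G)),
        ∀ b ∈ (Pt : Subgroup (G ⧸ pPrimeCore p G)), a * b = b * a := by
      intro a ha b hb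
      rw [hPtcoe] at ha hb
      obtain ⟨a', ha', rfl⟩ := Subgroup.mem_map.mp ha
      obtain ⟨b', hb', rfl⟩ := Subgroup.mem_map.mp hb
      have h1 : (⟨a', ha'⟩ : (P : Subgroup G)) * ⟨b', hb'⟩ = ⟨b', hb'⟩ * ⟨a', ha'⟩ :=
        hab.is_comm.comm _ _
      have h2 : a' * b' = b' * a' := congrArg Subtype.val h1
      rw [← map_mul, ← map_mul, h2]
    have hQle : pCore p (G ⧸ pPrimeCore p G) ≤ (Pt : Subgroup (G ⧸ pPrimeCore p G)) :=
      Cfsg.Agent.Lib.Helper2.pCore_le_sylow p Pt
    have hQc := Cfsg.Agent.Lib.Helper3.centralizer_pCore_le hsolQ hO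
    have hPtle : (Pt : Subgroup (G ⧸ pPrimeCore p G)) ≤ pCore p (G ⧸ pPrimeCore p G) := by
      intro a ha
      apply hQc
      rw [Subgroup.mem_centralizer_iff]
      intro b hb
      exact hPtab b (hQle hb) a ha
    have hQeq : pCore p (G ⧸ pPrimeCore p G) = (Pt : Subgroup (G ⧸ pPrimeCore p G)) :=
      le_antisymm hQle hPtle
    have hQn : (pCore p (G ⧸ pPrimeCore p G)).Normal := Cfsg.Agent.Lib.Helper2.pCore_normal p
    obtain ⟨n, ρ, hρ, hρψ⟩ := ψ.2
    have hito := Cfsg.Agent.S0169.result ρ (pCore p (G ⧸ pPrimeCore p G)) (by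
      intro a ha b hb
      exact hPtab a (hQle ha) b (hQle hb))
    have hfin : Module.finrank ℂ (Fin n → ℂ) = n := by simp
    rw [hfin, hQeq] at hito
    have hψ1 : (ψ : G ⧸ pPrimeCore p G → ℂ) 1 = n := by rw [← hρψ]; simp
    rw [charDegree_eq_of_one_eq'' hψ1]
    intro hdvd
    exact Sylow.not_dvd_index Pt (hdvd.trans hito)
  · -- heights zero ⟹ abelian Sylow
    intro hh
    have hdegQ : ∀ ψ : IrrCharacter (G ⧸ pPrimeCore p G),
        ¬ p ∣ charDegree (ψ : G ⧸ pPrimeCore p G → ℂ) := by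
      intro ψ
      have hirr := Cfsg.Agent.Lib.Helper2.isIrrCharacter_comp_of_surjective ψ.2
        (QuotientGroup.mk' (pPrimeCore p G)) hπ
      have hmem : (⟨_, hirr⟩ : IrrCharacter G) ∈ principalBlock M G := by
        rw [hF]
        intro g hg
        show (ψ : G ⧸ pPrimeCore p G → ℂ) (QuotientGroup.mk' _ g) =
          (ψ : G ⧸ pPrimeCore p G → ℂ) (QuotientGroup.mk' _ 1)
        have : QuotientGroup.mk' (pPrimeCore p G) g = QuotientGroup.mk' (pPrimeCore p G) 1 := by
          rw [map_one]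
          exact (QuotientGroup.eq_one_iff g).mpr hg
        rw [this]
      have h1 := (hheight _ hmem).mp (hh _ hmem)
      have h2 : charDegree ((ψ : G ⧸ pPrimeCore p G → ℂ) ∘ (QuotientGroup.mk' (pPrimeCore p G))) =
          charDegree (ψ : G ⧸ pPrimeCore p G → ℂ) := by
        unfold charDegree
        simp
      rw [← h2]
      exact h1
    have hcomm := pSubgroup_comm_of_pPrime_degrees p hsolQ hdegQ
      ((P : Subgroup G).map (QuotientGroup.mk' (pPrimeCore p G))) (P.2.map _)
    refine ⟨⟨fun a b => ?_⟩⟩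
    have h1 := hcomm _ (Subgroup.mem_map_of_mem _ a.2) _ (Subgroup.mem_map_of_mem _ b.2)
    rw [← map_mul, ← map_mul] at h1
    have h2 : ((a : G) * b) * ((b : G) * a)⁻¹ ∈ pPrimeCore p G := by
      rw [← QuotientGroup.eq_one_iff]
      have h3 : (QuotientGroup.mk (((a : G) * b) * ((b : G) * a)⁻¹) : G ⧸ pPrimeCore p G) =
          QuotientGroup.mk' (pPrimeCore p G) ((a : G) * b) *
            (QuotientGroup.mk' (pPrimeCore p G) ((b : G) * a))⁻¹ := by
        simp
      rw [h3, h1, mul_inv_cancel]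
    have h4 : ((a : G) * b) * ((b : G) * a)⁻¹ ∈ (P : Subgroup G) :=
      (P : Subgroup G).mul_mem ((P : Subgroup G).mul_mem a.2 b.2)
        ((P : Subgroup G).inv_mem ((P : Subgroup G).mul_mem b.2 a.2))
    have h5 := hPN _ h4 h2
    apply Subtype.ext
    show (a : G) * b = b * a
    calc (a : G) * b = ((a : G) * b) * ((b : G) * a)⁻¹ * ((b : G) * a) := by group
      _ = b * a := by rw [h5, one_mul]


end Cfsg.Agent.S4736
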