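import Cfsg.Statements.S4738
import Cfsg.Agent.Lib.Helper28.DefZeroClassH
import Cfsg.Agent.Lib.Helper4.BurnsideClass

set_option autoImplicit false
open Cfsg

namespace Cfsg.Agent.S4738

/-- Let p be an odd prime and G a finite group of even order containing no element of order 2p. Then either G has an irreducible character of p-defect zero (its degree has the same p-part as the order of G), or every Sylow p-subgroup of G is abelian and all involutions of G are conjugate. -/
theorem result {G : Type*} [Group G] [Finite G] (p : ℕ) [Fact p.Prime] (hp2 : p ≠ 2) (hG : Even (Nat.card G)) (h2p : ∀ g : G, orderOf g ≠ 2 * p) : (∃ χ : Cfsg.IrrCharacter G, (Cfsg.charDegree (χ : G → ℂ)).factorization p = (Nat.card G).factorization p) ∨ ((∀ P : Sylow p G, IsMulCommutative ↥(P : Subgroup G)) ∧ ∀ s t : G, orderOf s = 2 → orderOf t = 2 → IsConj s t) := by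
  classical
  have : Fintype G := Fintype.ofFinite G
  have hp : p.Prime := Fact.out
  by_cases hex : ∃ χ : Cfsg.IrrCharacter G,
      (Cfsg.charDegree (χ : G → ℂ)).factorization p = (Nat.card G).factorization p
  · exact Or.inl hex
  · right
    push Not at hex
    have hpG : p ∣ Nat.card G := by
      by_contra hnd
      apply hex ⟨fun _ => 1, Cfsg.Agent.Lib.Helper4.isIrrCharacter_one⟩
      have h1 : Cfsg.charDegree (fun _ : G => (1 : ℂ)) = 1 := by
        unfold Cfsg.charDegree
        simp
      show (Cfsg.charDegree (fun _ : G => (1 : ℂ))).factorization p = _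
      rw [h1, Nat.factorization_one, Finsupp.zero_apply,
        Nat.factorization_eq_zero_of_not_dvd hnd]
    have h2G : 2 ∣ Nat.card G := even_iff_two_dvd.mp hG
    have hC : ∀ g : G, g ≠ 1 → (∃ k : ℕ, orderOf g = p ^ k) →
        Odd (Nat.card (Subgroup.centralizer ({g} : Set G))) := by
      intro g hg1 hgp
      obtain ⟨k, hk⟩ := hgp
      by_contra hnodd
      rw [Nat.not_odd_iff_even, even_iff_two_dvd] at hnodd
      obtain ⟨t, ht⟩ := exists_prime_orderOf_dvd_card' 2 hnodd
      have hto : orderOf (t : G) = 2 := by rw [Subgroup.orderOf_coe]; exact ht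
      have hk0 : k ≠ 0 := by
        rintro rfl
        rw [pow_zero, orderOf_eq_one_iff] at hk
        exact hg1 hk
      have hxo : orderOf (g ^ p ^ (k - 1)) = p := by
        rw [orderOf_pow_of_dvd (pow_ne_zero _ hp.ne_zero)
          (by rw [hk]; exact pow_dvd_pow p (Nat.sub_le k 1)), hk,
          Nat.pow_div (Nat.sub_le k 1) hp.pos]
        have : k - (k - 1) = 1 := by omega
        rw [this, pow_one]
      have hcomm : Commute (t : G) g := by
        have := Subgroup.mem_centralizer_iff.mp t.2 g rfl
        exact this.symm
      have hcomm' : Commute (t : G) (g ^ p ^ (k - 1)) := hcomm.pow_right _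
      have hcop : (orderOf (t : G)).Coprime (orderOf (g ^ p ^ (k - 1))) := by
        rw [hto, hxo]
        exact (Nat.coprime_primes Nat.prime_two hp).mpr (Ne.symm hp2)
      have := hcomm'.orderOf_mul_eq_mul_orderOf_of_coprime hcop
      rw [hto, hxo] at this
      exact h2p _ this
    exact ⟨fun P =>
      (Cfsg.Agent.Lib.Helper28.sylow_even_normalizer_of_no_defect_zero p h2G hC hex P).2,
      fun s t hs ht =>
        Cfsg.Agent.Lib.Helper28.involutions_conj_of_no_defect_zero p hpG hC hex s t hs ht⟩

end Cfsg.Agent.S4738
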