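import Cfsg.Statements.S4740
import Cfsg.Agent.Lib.Helper4.ClassMult
import Cfsg.Agent.Lib.Helper4.BlockIdem
import Cfsg.Agent.Lib.Helper4.BurnsideClass
import Cfsg.Agent.Lib.Helper28.FrobCong
import Cfsg.Agent.Lib.Helper28.LocalRingB
import Cfsg.Agent.Lib.Helper28.BlockWeakOrth
import Cfsg.Agent.Lib.Helper26.CharInt

set_option autoImplicit false
open Cfsg

namespace Cfsg.Agent.S4740

/-- Let p be an odd prime, G a finite group of even order, x an involution of G and P a subgroup of G of order p ^ c such that no conjugate of x inverts a non-identity element of P. If p ^ a is the p-part of the order of C_G(x), then some irreducible character of G has degree divisible by p ^ (c - a). -/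
theorem result {G : Type*} [Group G] [Finite G] (p : ℕ) [Fact p.Prime] (hp2 : p ≠ 2) (hG : Even (Nat.card G)) (x : G) (hx : orderOf x = 2) (P : Subgroup G) (c : ℕ) (hP : Nat.card ↥P = p ^ c) (hinv : ∀ g : G, IsConj x g → ∀ z ∈ P, z ≠ 1 → g * z * g⁻¹ ≠ z⁻¹) (a : ℕ) (ha : (Nat.card ↥(Subgroup.centralizer ({x} : Set G))).factorization p = a) : ∃ χ : Cfsg.IrrCharacter G, p ^ (c - a) ∣ Cfsg.charDegree (χ : G → ℂ) := by
  classical
  open Cfsg.Agent.Lib.Helper4 Cfsg.Agent.Lib.Helper28 Cfsg.Agent.Lib.Helper26 in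
  have : Fintype G := Fintype.ofFinite G
  have : Fintype (IrrCharacter G) := Fintype.ofFinite _
  have : Fintype P := Fintype.ofFinite _
  have hpP : p.Prime := Fact.out
  obtain ⟨M, hM⟩ := exists_isPModular hpP
  have hMprime : M.IsPrime := hM.2.1.isPrime
  have hMtop : M ≠ ⊤ := Ideal.IsPrime.ne_top hMprime
  have hx2 : x * x = 1 := by
    have := pow_orderOf_eq_one x
    rwa [hx, pow_two] at this
  have hxinv : x⁻¹ = x := inv_eq_of_mul_eq_one_right hx2
  have hconjsq : ∀ u : G, IsConj x u → u * u = 1 := by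
    intro u hu
    obtain ⟨k, rfl⟩ := isConj_iff.mp hu
    calc k * x * k⁻¹ * (k * x * k⁻¹) = k * (x * x) * k⁻¹ := by group
      _ = 1 := by rw [hx2]; group
  have hreal : ∀ χ : IrrCharacter G, (starRingEnd ℂ) ((χ : G → ℂ) x) = (χ : G → ℂ) x := by
    intro χ
    obtain ⟨n, ρ, _, hρ⟩ := χ.2
    rw [← hρ, ← character_inv ρ x, hxinv]
  -- degrees
  have hdegex : ∀ χ : IrrCharacter G, ∃ d : ℕ, 0 < d ∧ (χ : G → ℂ) 1 = d := fun χ => irr_degree χ.2
  choose d hdpos hd using hdegex
  have hcd : ∀ χ : IrrCharacter G, charDegree (χ : G → ℂ) = d χ := by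
    intro χ
    unfold charDegree
    rw [hd]
    simp
  -- vanishing of the structure constants
  have hS : ∀ z ∈ P, z ≠ 1 → ∑ χ : IrrCharacter G,
      (χ : G → ℂ) x * (χ : G → ℂ) x * (starRingEnd ℂ) ((χ : G → ℂ) z) / (χ : G → ℂ) 1 = 0 := by
    intro z hz hz1
    have h1 := card_class_mult x x z
    have hempty : Finset.univ.filter
        (fun q : G × G => IsConj x q.1 ∧ IsConj x q.2 ∧ q.1 * q.2 = z) = ∅ := by
      rw [Finset.filter_eq_empty_iff]
      rintro ⟨u, v⟩ _ ⟨hu, hv, huv⟩
      simp only at hu hv huv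
      apply hinv u hu z hz hz1
      have hu2 := hconjsq u hu
      have hv2 := hconjsq v hv
      have huinv : u⁻¹ = u := inv_eq_of_mul_eq_one_right hu2
      have hvinv : v⁻¹ = v := inv_eq_of_mul_eq_one_right hv2
      rw [← huv, huinv, mul_inv_rev, huinv, hvinv]
      calc u * (u * v) * u = (u * u) * v * u := by group
        _ = v * u := by rw [hu2, one_mul]
    rw [hempty, Finset.card_empty, Nat.cast_zero] at h1
    have hC0 : (Nat.card (Subgroup.centralizer ({x} : Set G)) : ℂ) ≠ 0 :=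
      Nat.cast_ne_zero.mpr Nat.card_pos.ne'
    have hG0 : (Nat.card G : ℂ) ≠ 0 := Nat.cast_ne_zero.mpr Nat.card_pos.ne'
    rcases mul_eq_zero.mp h1.symm with h | h
    · exfalso
      rcases div_eq_zero_iff.mp h with h | h
      · exact hG0 h
      · rcases mul_eq_zero.mp h with h | h <;> exact hC0 h
    · exact h
  -- column orthogonality
  have hcol : ∑ χ : IrrCharacter G, (χ : G → ℂ) x * (χ : G → ℂ) x =
      (Nat.card (Subgroup.centralizer ({x} : Set G)) : ℂ) := by
    have h1 := column_orthogonality x x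
    rw [if_pos (IsConj.refl x)] at h1
    rw [← h1]
    refine Finset.sum_congr rfl fun χ _ => ?_
    rw [hreal]
  -- multiplicities of the trivial character of `P`
  have hmult : ∀ χ : IrrCharacter G, ∃ m : ℕ,
      ∑ z : P, (starRingEnd ℂ) ((χ : G → ℂ) (z : G)) = (p : ℂ) ^ c * (m : ℂ) := by
    intro χ
    obtain ⟨m, hm⟩ := classInner_isCharacter_nat
      (isCharacter_restrict P (isCharacter_of_isIrrCharacter χ.2))
      (isCharacter_of_isIrrCharacter (isIrrCharacter_one (G := P)))
    refine ⟨m, ?_⟩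
    unfold classInner at hm
    have hQ0 : (Nat.card P : ℂ) ≠ 0 := Nat.cast_ne_zero.mpr Nat.card_pos.ne'
    have h1 : ∑ g : P, ((χ : G → ℂ) ∘ P.subtype) g *
        (starRingEnd ℂ) ((fun _ : P => (1 : ℂ)) g) = (Nat.card P : ℂ) * (m : ℂ) := by
      field_simp at hm
      linear_combination hm
    have h2 := congrArg (starRingEnd ℂ) h1
    rw [map_sum, map_mul, Complex.conj_natCast, Complex.conj_natCast, hP] at h2
    rw [← Nat.cast_pow, ← h2]
    refine Finset.sum_congr rfl fun g _ => ?_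
    simp
  choose m hm using hmult
  -- the main identity
  have hmain : (Nat.card (Subgroup.centralizer ({x} : Set G)) : ℂ) =
      ∑ χ : IrrCharacter G, (χ : G → ℂ) x * (χ : G → ℂ) x / (d χ : ℂ) * ((p : ℂ) ^ c * (m χ : ℂ)) := by
    have h1 : ∑ z : P, ∑ χ : IrrCharacter G, (χ : G → ℂ) x * (χ : G → ℂ) x *
        (starRingEnd ℂ) ((χ : G → ℂ) (z : G)) / (χ : G → ℂ) 1 =
        (Nat.card (Subgroup.centralizer ({x} : Set G)) : ℂ) := by
      rw [Finset.sum_eq_single (1 : P)]
      · rw [← hcol]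
        refine Finset.sum_congr rfl fun χ _ => ?_
        have hd0 : (d χ : ℂ) ≠ 0 := Nat.cast_ne_zero.mpr (hdpos χ).ne'
        rw [Subgroup.coe_one, hd, Complex.conj_natCast]
        field_simp
      · intro z _ hz
        apply hS (z : G) z.2
        intro h
        exact hz (Subtype.ext h)
      · intro h
        exact absurd (Finset.mem_univ _) h
    rw [← h1, Finset.sum_comm]
    refine Finset.sum_congr rfl fun χ _ => ?_
    rw [← hm χ, Finset.mul_sum]
    refine Finset.sum_congr rfl fun z _ => ?_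
    rw [hd]
    ring
  -- contradiction from valuations
  by_contra hcon
  push Not at hcon
  have hcon' : ∀ χ : IrrCharacter G, ¬ p ^ (c - a) ∣ d χ := by
    intro χ
    rw [← hcd]
    exact hcon χ
  let triv : IrrCharacter G := ⟨fun _ => (1 : ℂ), isIrrCharacter_one⟩
  have hca : a < c := by
    by_contra h
    push Not at h
    apply hcon' triv
    rw [Nat.sub_eq_zero_of_le h, pow_zero]
    exact one_dvd _
  have hval : ∀ χ : IrrCharacter G, (d χ).factorization p + (a + 1) ≤ c := by
    intro χ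
    have h1 := hcon' χ
    rw [(Nat.Prime.pow_dvd_iff_le_factorization hpP (hdpos χ).ne')] at h1
    omega
  -- each term is `p^(a+1)` times a local integer
  have hterm : ∀ χ : IrrCharacter G, ∃ s : ℂ, MemLocalRing M s ∧
      (χ : G → ℂ) x * (χ : G → ℂ) x / (d χ : ℂ) * ((p : ℂ) ^ c * (m χ : ℂ)) =
        (p : ℂ) ^ (a + 1) * s := by
    intro χ
    set ν := (d χ).factorization p with hν
    obtain ⟨e', he'⟩ : p ^ ν ∣ d χ := Nat.ordProj_dvd (d χ) p
    have he'cop : Nat.Coprime e' p := by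
      have h1 : ¬ p ∣ d χ / p ^ ν := Nat.not_dvd_ordCompl hpP (hdpos χ).ne'
      have h2 : d χ / p ^ ν = e' := by
        rw [he']
        exact Nat.mul_div_cancel_left e' (pow_pos hpP.pos ν)
      rw [h2] at h1
      exact Nat.Coprime.symm ((Nat.Prime.coprime_iff_not_dvd hpP).mpr h1)
    have he'0 : (e' : ℂ) ≠ 0 := by
      intro h
      have h0 : e' = 0 := by exact_mod_cast h
      have := hdpos χ
      rw [he', h0, mul_zero] at this
      omega
    obtain ⟨k, hk⟩ : ∃ k, c = ν + (a + 1) + k := ⟨c - (ν + (a + 1)), by have := hval χ; omega⟩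
    have hp0 : (p : ℂ) ≠ 0 := Nat.cast_ne_zero.mpr hpP.ne_zero
    refine ⟨(p : ℂ) ^ k * ((χ : G → ℂ) x * (χ : G → ℂ) x * (m χ : ℂ)) * ((e' : ℕ) : ℂ)⁻¹, ?_, ?_⟩
    · apply memLocalRing_mul _ (memLocalRing_inv_natCast hM he'cop)
      apply memLocalRing_of_isIntegral hMtop
      have hpint : IsIntegral ℤ ((p : ℂ)) := by
        have := isIntegral_algebraMap (R := ℤ) (A := ℂ) (x := (p : ℤ))
        simpa using this
      have hmint : IsIntegral ℤ ((m χ : ℂ)) := by
        have := isIntegral_algebraMap (R := ℤ) (A := ℂ) (x := (m χ : ℤ))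
        simpa using this
      have hχint := isIntegral_of_isIrrCharacter χ.2 x
      exact (hpint.pow k).mul ((hχint.mul hχint).mul hmint)
    · rw [he', hk]
      push_cast
      have hpν : (p : ℂ) ^ ν ≠ 0 := pow_ne_zero _ hp0
      field_simp
      ring
  choose s hsloc hs using hterm
  have htotal : (Nat.card (Subgroup.centralizer ({x} : Set G)) : ℂ) =
      (p : ℂ) ^ (a + 1) * ∑ χ : IrrCharacter G, s χ := by
    rw [hmain, Finset.mul_sum]
    exact Finset.sum_congr rfl fun χ _ => hs χ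
  have hsumloc : MemLocalRing M (∑ χ : IrrCharacter G, s χ) :=
    memLocalRing_sum _ _ (fun χ _ => hsloc χ)
  -- the `p'`-part of the centralizer order
  set C := Nat.card (Subgroup.centralizer ({x} : Set G)) with hC
  have hCpos : 0 < C := Nat.card_pos
  obtain ⟨u, hu⟩ : p ^ a ∣ C := by rw [← ha]; exact Nat.ordProj_dvd C p
  have hucop : Nat.Coprime u p := by
    have h1 : ¬ p ∣ C / p ^ C.factorization p := Nat.not_dvd_ordCompl hpP hCpos.ne'
    rw [ha] at h1
    have h2 : C / p ^ a = u := by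
      rw [hu]
      exact Nat.mul_div_cancel_left u (pow_pos hpP.pos a)
    rw [h2] at h1
    exact Nat.Coprime.symm ((Nat.Prime.coprime_iff_not_dvd hpP).mpr h1)
  have hp0 : (p : ℂ) ≠ 0 := Nat.cast_ne_zero.mpr hpP.ne_zero
  have hu' : (u : ℂ) = (p : ℂ) * ∑ χ : IrrCharacter G, s χ := by
    have h1 : ((p ^ a * u : ℕ) : ℂ) = (p : ℂ) ^ (a + 1) * ∑ χ : IrrCharacter G, s χ := by
      rw [← hu]; exact htotal
    push_cast at h1
    have hpa : (p : ℂ) ^ a ≠ 0 := pow_ne_zero _ hp0
    have h2 : (p : ℂ) ^ a * (u : ℂ) = (p : ℂ) ^ a * ((p : ℂ) * ∑ χ : IrrCharacter G, s χ) := by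
      rw [h1, pow_succ]; ring
    exact mul_left_cancel₀ hpa h2
  apply not_memLocalIdeal_natCast hM hucop
  rw [hu']
  exact memLocalIdeal_mul_right (memLocalIdeal_natCast_p hM) hsumloc

end Cfsg.Agent.S4740
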