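import Cfsg.Statements.S4743
import Cfsg.Agent.Lib.Helper28.DefZeroClassB
import Cfsg.Agent.Lib.Helper28.DefZeroClassF

set_option autoImplicit false
open Cfsg

namespace Cfsg.Agent.S4743

/-- Let p ≠ q be primes dividing the order of the finite group G, suppose the centralizer of every non-identity p-element has order prime to q, and suppose G is p-solvable or q-solvable. Then G has an irreducible character of p-defect zero or an irreducible character of q-defect zero. -/
theorem result {G : Type*} [Group G] [Finite G] (p q : ℕ) [Fact p.Prime] [Fact q.Prime] (hppq : p ≠ q) (hpG : p ∣ Nat.card G) (hqG : q ∣ Nat.card G) (hC : ∀ g : G, g ≠ 1 → (∃ k : ℕ, orderOf g = p ^ k) → ¬ q ∣ Nat.card ↥(Subgroup.centralizer ({g} : Set G))) (hsolv : Cfsg.IsPSolvable p G ∨ Cfsg.IsPSolvable q G) : (∃ χ : Cfsg.IrrCharacter G, (Cfsg.charDegree (χ : G → ℂ)).factorization p = (Nat.card G).factorization p) ∨ (∃ χ : Cfsg.IrrCharacter G, (Cfsg.charDegree (χ : G → ℂ)).factorization q = (Nat.card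 G).factorization q) := by
  classical
  have : Fintype G := Fintype.ofFinite G
  have hp : p.Prime := Fact.out
  have hq : q.Prime := Fact.out
  -- the hypothesis is symmetric
  have hC' : ∀ z : G, z ≠ 1 → (∃ k : ℕ, orderOf z = q ^ k) →
      ¬ p ∣ Nat.card ↥(Subgroup.centralizer ({z} : Set G)) := by
    intro z hz1 hzq hdvd
    obtain ⟨x, hx⟩ := exists_prime_orderOf_dvd_card' p hdvd
    have hxo : orderOf (x : G) = p := by rw [Subgroup.orderOf_coe]; exact hx
    have hx1 : (x : G) ≠ 1 := by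
      intro h
      rw [h, orderOf_one] at hxo
      exact hp.one_lt.ne hxo
    apply hC (x : G) hx1 ⟨1, by rw [hxo, pow_one]⟩
    have hzmem : z ∈ Subgroup.centralizer ({(x : G)} : Set G) := by
      rw [Subgroup.mem_centralizer_iff]
      intro y hy
      rw [Set.mem_singleton_iff] at hy
      subst hy
      have := Subgroup.mem_centralizer_iff.mp x.2 z rfl
      exact this.symm
    obtain ⟨k, hk⟩ := hzq
    have hk0 : k ≠ 0 := by
      rintro rfl
      rw [pow_zero, orderOf_eq_one_iff] at hk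
      exact hz1 hk
    have h1 : orderOf (⟨z, hzmem⟩ : Subgroup.centralizer ({(x : G)} : Set G)) ∣
        Nat.card (Subgroup.centralizer ({(x : G)} : Set G)) := orderOf_dvd_natCard _
    rw [← Subgroup.orderOf_coe, hk] at h1
    exact (dvd_pow_self q hk0).trans h1
  have hU : ∃ U : Subgroup G, U.Normal ∧ ((p ∣ Nat.card U ∧ ¬ q ∣ Nat.card U) ∨
      (q ∣ Nat.card U ∧ ¬ p ∣ Nat.card U)) := by
    rcases hsolv with hs | hs
    · exact Cfsg.Agent.Lib.Helper28.exists_normal_of_isPSolvable hp hq hppq hpG hs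
    · obtain ⟨U, hUn, h⟩ :=
        Cfsg.Agent.Lib.Helper28.exists_normal_of_isPSolvable hq hp hppq.symm hqG hs
      exact ⟨U, hUn, h.symm⟩
  obtain ⟨U, hUn, hcase⟩ := hU
  have aux : ∀ (r : ℕ) (u : G), u ∈ U → ∀ g h : G, IsConj u g → IsConj u h → g * h⁻¹ ≠ 1 →
      ∀ k : ℕ, orderOf (g * h⁻¹) = r ^ k → r ∣ Nat.card U := by
    intro r u hu g h hg hh hne k hk
    obtain ⟨c, rfl⟩ := isConj_iff.mp hg
    obtain ⟨d, rfl⟩ := isConj_iff.mp hh
    have hmem : c * u * c⁻¹ * (d * u * d⁻¹)⁻¹ ∈ U :=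
      U.mul_mem (hUn.conj_mem u hu c) (U.inv_mem (hUn.conj_mem u hu d))
    have hk0 : k ≠ 0 := by
      rintro rfl
      rw [pow_zero, orderOf_eq_one_iff] at hk
      exact hne hk
    have h1 : orderOf (⟨_, hmem⟩ : U) ∣ Nat.card U := orderOf_dvd_natCard _
    rw [← Subgroup.orderOf_coe, hk] at h1
    exact (dvd_pow_self r hk0).trans h1
  by_contra hcon
  push Not at hcon
  obtain ⟨hnop, hnoq⟩ := hcon
  rcases hcase with ⟨hpU, hqU⟩ | ⟨hqU, hpU⟩
  · obtain ⟨x, hx⟩ := exists_prime_orderOf_dvd_card' p hpU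
    have hxo : orderOf (x : G) = p := by rw [Subgroup.orderOf_coe]; exact hx
    have hx1 : (x : G) ≠ 1 := by
      intro h
      rw [h, orderOf_one] at hxo
      exact hp.one_lt.ne hxo
    obtain ⟨g, h, hg, hh, hne, k, hk⟩ :=
      Cfsg.Agent.Lib.Helper28.exists_conj_pair_of_no_defect_zero q hnoq (x : G)
        (hC (x : G) hx1 ⟨1, by rw [hxo, pow_one]⟩)
    exact hqU (aux q (x : G) x.2 g h hg hh hne k hk)
  · obtain ⟨x, hx⟩ := exists_prime_orderOf_dvd_card' q hqU
    have hxo : orderOf (x : G) = q := by rw [Subgroup.orderOf_coe]; exact hx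
    have hx1 : (x : G) ≠ 1 := by
      intro h
      rw [h, orderOf_one] at hxo
      exact hq.one_lt.ne hxo
    obtain ⟨g, h, hg, hh, hne, k, hk⟩ :=
      Cfsg.Agent.Lib.Helper28.exists_conj_pair_of_no_defect_zero p hnop (x : G)
        (hC' (x : G) hx1 ⟨1, by rw [hxo, pow_one]⟩)
    exact hpU (aux p (x : G) x.2 g h hg hh hne k hk)

end Cfsg.Agent.S4743
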