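import Mathlib
import Cfsg.Prelude
import Cfsg.Statements.S4746
import Cfsg.Agent.Lib.Helper28.DefZeroClassE
import Cfsg.Agent.Lib.Helper4.CharOrtho
import Cfsg.Agent.Lib.Helper24.StrEmb

set_option autoImplicit false
open Cfsg

namespace Cfsg.Agent.S4746

open scoped ComplexConjugate

/-- parity of a character value at an involution -/
theorem invol_value {G : Type*} [Group G] [Finite G] {n : ℕ}
    (ρ : Representation ℂ G (Fin n → ℂ)) (t : G) (ht : t * t = 1) :
    ∃ m : ℕ, ρ.character t = (n : ℂ) - 2 * (m : ℂ) := by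
  classical
  have h1 := Cfsg.Agent.Lib.Helper4.character_eq_sum ρ t
  have h2 := Cfsg.Agent.Lib.Helper4.finrank_eq_sum ρ t
  have hfin : Module.finrank ℂ (Fin n → ℂ) = n := by simp
  rw [hfin] at h2
  have hμ : ∀ μ ∈ Cfsg.Agent.Lib.Helper4.eigvals ρ t, μ = 1 ∨ μ = -1 := by
    intro μ hμ
    rw [Cfsg.Agent.Lib.Helper4.mem_eigvals] at hμ
    have h3 := Cfsg.Agent.Lib.Helper4.eigenvalue_pow_orderOf ρ t μ hμ
    have h4 : orderOf t ∣ 2 := orderOf_dvd_of_pow_eq_one (by rw [pow_two]; exact ht)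
    obtain ⟨c, hc⟩ := h4
    have h5 : μ ^ 2 = 1 := by rw [hc, pow_mul, h3, one_pow]
    have h6 : (μ - 1) * (μ + 1) = 0 := by linear_combination h5
    rcases mul_eq_zero.mp h6 with h | h
    · left; linear_combination h
    · right; linear_combination h
  refine ⟨∑ μ ∈ Cfsg.Agent.Lib.Helper4.eigvals ρ t,
    if μ = -1 then Cfsg.Agent.Lib.Helper4.eigmult ρ t μ else 0, ?_⟩
  rw [h1, h2]
  push_cast
  rw [Finset.mul_sum, ← Finset.sum_sub_distrib]
  refine Finset.sum_congr rfl fun μ hμm => ?_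
  rcases hμ μ hμm with h | h
  · subst h
    rw [if_neg (by norm_num)]
    ring
  · subst h
    rw [if_pos rfl]
    ring

/-- sum of squares versus square of the sum, modulo 2 -/
theorem sum_sq_eq {ι : Type*} (s : Finset ι) (a : ι → ℂ) (ha : ∀ i ∈ s, IsIntegral ℤ (a i)) :
    ∃ B : ℂ, IsIntegral ℤ B ∧ ∑ i ∈ s, a i ^ 2 = (∑ i ∈ s, a i) ^ 2 - 2 * B := by
  classical
  induction s using Finset.induction_on with
  | empty => exact ⟨0, isIntegral_zero, by simp⟩
  | insert i s hi ih =>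
    obtain ⟨B, hB, hBe⟩ := ih (fun j hj => ha j (Finset.mem_insert_of_mem hj))
    refine ⟨B + (∑ j ∈ s, a j) * a i, ?_, ?_⟩
    · exact hB.add (IsIntegral.mul
        (IsIntegral.sum _ fun j hj => ha j (Finset.mem_insert_of_mem hj))
        (ha i (Finset.mem_insert_self i s)))
    · rw [Finset.sum_insert hi, Finset.sum_insert hi, hBe]
      ring

/-- one half is not an algebraic integer -/
theorem half_not_integral : ¬ IsIntegral ℤ ((1 : ℂ) / 2) := by
  intro hint
  have h1 : ((1 : ℂ) / 2) = algebraMap ℚ ℂ (1 / 2) := by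
    simp
  rw [h1] at hint
  have hint' : IsIntegral ℤ ((1 : ℚ) / 2) :=
    (isIntegral_algebraMap_iff (algebraMap ℚ ℂ).injective).mp hint
  obtain ⟨z, hz⟩ := IsIntegrallyClosed.isIntegral_iff.mp hint'
  have h2 : (2 : ℚ) * (z : ℚ) = 1 := by
    have : (algebraMap ℤ ℚ) z = (z : ℚ) := rfl
    rw [this] at hz
    rw [hz]; norm_num
  have h3 : (2 : ℤ) * z = 1 := by exact_mod_cast h2
  omega

/-- Let p be an odd prime and G a finite group of even order divisible by p in which the centralizer of every non-identity p-element has odd order. Then G has an irreducible character of p-defect zero or an irreducible character of even degree. -/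
theorem result {G : Type*} [Group G] [Finite G] (p : ℕ) [Fact p.Prime] (hp2 : p ≠ 2) (hpG : p ∣ Nat.card G) (h2G : 2 ∣ Nat.card G) (hC : ∀ g : G, g ≠ 1 → (∃ k : ℕ, orderOf g = p ^ k) → Odd (Nat.card ↥(Subgroup.centralizer ({g} : Set G)))) : (∃ χ : Cfsg.IrrCharacter G, (Cfsg.charDegree (χ : G → ℂ)).factorization p = (Nat.card G).factorization p) ∨ ∃ χ : Cfsg.IrrCharacter G, Even (Cfsg.charDegree (χ : G → ℂ)) := by
  classical
  haveI : Fintype G := Fintype.ofFinite G
  by_contra hcon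
  push_neg at hcon
  obtain ⟨hno, hodd⟩ := hcon
  have hp : p.Prime := Fact.out
  obtain ⟨P⟩ : Nonempty (Sylow p G) := inferInstance
  obtain ⟨hNeven, -⟩ :=
    Cfsg.Agent.Lib.Helper28.sylow_even_normalizer_of_no_defect_zero p h2G hC hno P
  obtain ⟨t, htN, hto⟩ := Cfsg.Agent.Lib.Helper24.exists_involution_of_even_card _ hNeven
  have ht2 : t * t = 1 := by rw [← pow_two, ← hto, pow_orderOf_eq_one]
  have ht1 : t ≠ 1 := by
    intro h
    rw [h, orderOf_one] at hto
    norm_num at hto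
  have htinv : t⁻¹ = t := inv_eq_of_mul_eq_one_right ht2
  have hPne : (P : Subgroup G) ≠ ⊥ := Sylow.ne_bot_of_dvd_card P hpG
  obtain ⟨⟨x, hxP⟩, hx1'⟩ := Subgroup.ne_bot_iff_exists_ne_one.mp hPne
  have hx1 : x ≠ 1 := by
    intro h
    apply hx1'
    exact Subtype.ext h
  have hpel : ∀ g ∈ (P : Subgroup G), ∃ k : ℕ, orderOf g = p ^ k := by
    intro g hg
    obtain ⟨k, hk⟩ := (IsPGroup.iff_orderOf.mp P.2) ⟨g, hg⟩
    exact ⟨k, by rw [← hk, Subgroup.orderOf_mk]⟩
  have hcx : t * x * t⁻¹ ∈ (P : Subgroup G) :=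
    ((Subgroup.mem_normalizer_iff.1 htN) x).1 hxP
  set y : G := x⁻¹ * (t * x * t⁻¹) with hy
  have hyP : y ∈ (P : Subgroup G) :=
    (P : Subgroup G).mul_mem ((P : Subgroup G).inv_mem hxP) hcx
  have hy1 : y ≠ 1 := by
    intro h
    have h1 : t * x * t⁻¹ = x := by
      have h2 : x * y = x := by rw [h, mul_one]
      rw [hy, mul_inv_cancel_left] at h2
      exact h2
    have hcomm : t * x = x * t := by
      calc t * x = t * x * t⁻¹ * t := by group
        _ = x * t := by rw [h1]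
    exact Cfsg.Agent.Lib.Helper28.not_odd_centralizer_of_involution t x ht2 ht1 hcomm
      (hC x hx1 (hpel x hxP))
  have hyinv : t * y * t⁻¹ = y⁻¹ := by
    have h1 : y⁻¹ = t * x⁻¹ * t⁻¹ * x := by rw [hy]; group
    rw [h1, hy]
    calc t * (x⁻¹ * (t * x * t⁻¹)) * t⁻¹ = t * x⁻¹ * (t * x * t⁻¹) * t⁻¹ := by group
      _ = t * x⁻¹ * (t * x * t) * t := by rw [htinv]
      _ = t * x⁻¹ * t * x * (t * t) := by group
      _ = t * x⁻¹ * t * x := by rw [ht2, mul_one]
      _ = t * x⁻¹ * t⁻¹ * x := by rw [htinv]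
  have hCy : Odd (Nat.card (Subgroup.centralizer ({y} : Set G))) := hC y hy1 (hpel y hyP)
  have hnc : ¬ IsConj y t := by
    intro hc
    obtain ⟨c, hc⟩ := isConj_iff.mp hc
    have hyy : y * y = 1 := by
      have h1 : y = c⁻¹ * t * c := by rw [← hc]; group
      rw [h1]
      calc c⁻¹ * t * c * (c⁻¹ * t * c) = c⁻¹ * (t * t) * c := by group
        _ = 1 := by rw [ht2]; group
    obtain ⟨k, hk⟩ := hpel y hyP
    have hd : orderOf y ∣ 2 := orderOf_dvd_of_pow_eq_one (by rw [pow_two]; exact hyy)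
    rcases Nat.eq_zero_or_pos k with hk0 | hk0
    · rw [hk0, pow_zero] at hk
      exact hy1 (orderOf_eq_one_iff.mp hk)
    · have h2 : p ∣ 2 := by
        have h3 : p ∣ orderOf y := by rw [hk]; exact dvd_pow_self p hk0.ne'
        exact h3.trans hd
      exact hp2 ((Nat.prime_dvd_prime_iff_eq hp Nat.prime_two).mp h2)
  haveI : Fintype (Cfsg.IrrCharacter G) := Fintype.ofFinite _
  -- facts about each irreducible character
  have hfacts : ∀ χ : Cfsg.IrrCharacter G,
      conj ((χ : G → ℂ) y) = (χ : G → ℂ) y ∧ IsIntegral ℤ ((χ : G → ℂ) y) ∧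
      ∃ c : ℤ, (χ : G → ℂ) t = 1 + 2 * (c : ℂ) := by
    intro χ
    obtain ⟨n, ρ, hirr, hρ⟩ := χ.2
    refine ⟨?_, ?_, ?_⟩
    · rw [← hρ, ← Cfsg.Agent.Lib.Helper4.character_inv ρ y, ← hyinv]
      exact Representation.char_conj ρ y t
    · rw [← hρ]
      exact Cfsg.Agent.Lib.Helper4.character_isIntegral ρ y
    · obtain ⟨m, hm⟩ := invol_value ρ t ht2
      have hdeg : Cfsg.charDegree (χ : G → ℂ) = n := by
        have h1 : (χ : G → ℂ) 1 = (n : ℂ) := by
          rw [← hρ, Representation.char_one]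
          simp
        unfold Cfsg.charDegree
        rw [h1, Complex.natCast_re, Nat.floor_natCast]
      have hnodd : Odd n := by
        rw [← hdeg]
        exact Nat.not_even_iff_odd.mp (hodd χ)
      obtain ⟨e, he⟩ := hnodd
      refine ⟨(e : ℤ) - (m : ℤ), ?_⟩
      rw [← hρ, hm, he]
      push_cast
      ring
  choose hreal hint c hc using hfacts
  have h_yy := Cfsg.Agent.Lib.Helper4.column_orthogonality y y
  rw [if_pos (IsConj.refl y)] at h_yy
  have h_yt := Cfsg.Agent.Lib.Helper4.column_orthogonality y t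
  rw [if_neg hnc] at h_yt
  -- the sum of the values at y is twice an algebraic integer
  set A : ℂ := - ∑ χ : Cfsg.IrrCharacter G, (c χ : ℂ) * (χ : G → ℂ) y with hA
  have hAint : IsIntegral ℤ A := by
    rw [hA]
    refine IsIntegral.neg (IsIntegral.sum _ fun χ _ => ?_)
    exact IsIntegral.mul (isIntegral_intCast (c χ)) (hint χ)
  have hsum : ∑ χ : Cfsg.IrrCharacter G, (χ : G → ℂ) y = 2 * A := by
    have h1 : ∑ χ : Cfsg.IrrCharacter G, (χ : G → ℂ) y * conj ((χ : G → ℂ) t) =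
        ∑ χ : Cfsg.IrrCharacter G, (χ : G → ℂ) y +
          2 * ∑ χ : Cfsg.IrrCharacter G, (c χ : ℂ) * (χ : G → ℂ) y := by
      rw [Finset.mul_sum, ← Finset.sum_add_distrib]
      refine Finset.sum_congr rfl fun χ _ => ?_
      rw [hc χ]
      simp only [map_add, map_one, map_mul, Complex.conj_ofNat, map_intCast]
      ring
    rw [h1] at h_yt
    rw [hA]
    linear_combination h_yt
  obtain ⟨B, hBint, hB⟩ := sum_sq_eq Finset.univ (fun χ : Cfsg.IrrCharacter G => (χ : G → ℂ) y)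
    (fun χ _ => hint χ)
  have h2 : (Nat.card (Subgroup.centralizer ({y} : Set G)) : ℂ) = 2 * (2 * A ^ 2 - B) := by
    rw [← h_yy]
    have h3 : ∑ χ : Cfsg.IrrCharacter G, (χ : G → ℂ) y * conj ((χ : G → ℂ) y) =
        ∑ χ : Cfsg.IrrCharacter G, ((χ : G → ℂ) y) ^ 2 := by
      refine Finset.sum_congr rfl fun χ _ => ?_
      rw [hreal χ, pow_two]
    rw [h3, hB, hsum]
    ring
  obtain ⟨j, hj⟩ := hCy
  rw [hj] at h2
  apply half_not_integral
  have h4 : (1 : ℂ) / 2 = 2 * A ^ 2 - B - (j : ℂ) := by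
    push_cast at h2
    linear_combination h2 / 2
  rw [h4]
  have h5 : IsIntegral ℤ ((2 : ℂ)) := by
    have := isIntegral_natCast (R := ℤ) (B := ℂ) 2
    simpa using this
  exact ((IsIntegral.mul h5 (hAint.pow 2)).sub hBint).sub (isIntegral_natCast j)


end Cfsg.Agent.S4746
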