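import Cfsg.Statements.S4754
import Cfsg.Agent.Lib.Helper4.ClassSep
import Cfsg.Agent.Lib.Helper4.ClassMult

set_option autoImplicit false
open Cfsg

namespace Cfsg.Agent.S4754

/-- For elements x, y of a finite group G, the conjugacy class of x y equals the set of all products of a conjugate of x with a conjugate of y if and only if χ(1) χ(a x a⁻¹ b y b⁻¹) = χ(x) χ(y) for all a, b ∈ G and every irreducible character χ. -/
theorem result {G : Type*} [Group G] [Finite G] (x y : G) : (∀ z : G, IsConj (x * y) z ↔ ∃ a b : G, z = a * x * a⁻¹ * (b * y * b⁻¹)) ↔ ∀ (a b : G) (χ : Cfsg.IrrCharacter G), (χ : G → ℂ) 1 * (χ : G → ℂ) (a * x * a⁻¹ * (b * y * b⁻¹)) = (χ : G → ℂ) x * (χ : G → ℂ) y := by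
  classical
  have : Fintype G := Fintype.ofFinite G
  constructor
  · intro hcl a b χ
    obtain ⟨n, ρ, hρ, hχ⟩ := χ.2
    have hirr : ρ.IsIrreducible := hρ
    rw [← hχ]
    have hsum := Cfsg.Agent.Lib.Helper4.sum_char_mul_conj ρ hirr (a * x * a⁻¹) y
    have hconst : ∀ k : G, ρ.character (a * x * a⁻¹ * (k * y * k⁻¹)) =
        ρ.character (a * x * a⁻¹ * (b * y * b⁻¹)) := by
      intro k
      have h1 : IsConj (x * y) (a * x * a⁻¹ * (k * y * k⁻¹)) := (hcl _).mpr ⟨a, k, rfl⟩
      have h2 : IsConj (x * y) (a * x * a⁻¹ * (b * y * b⁻¹)) := (hcl _).mpr ⟨a, b, rfl⟩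
      obtain ⟨c, hc⟩ := isConj_iff.mp (h1.symm.trans h2)
      rw [← hc, Representation.char_conj]
    simp only [hconst] at hsum
    rw [Finset.sum_const, Finset.card_univ, nsmul_eq_mul, ← Nat.card_eq_fintype_card,
      Representation.char_conj] at hsum
    have hG : (Nat.card G : ℂ) ≠ 0 := Nat.cast_ne_zero.mpr Nat.card_pos.ne'
    have hd : (Module.finrank ℂ (Fin n → ℂ) : ℂ) ≠ 0 :=
      Cfsg.Agent.Lib.Helper4.finrank_ne_zero_of_irreducible ρ hirr
    rw [Representation.char_one]
    have h3 : (Nat.card G : ℂ) * ((Module.finrank ℂ (Fin n → ℂ) : ℂ) *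
        ρ.character (a * x * a⁻¹ * (b * y * b⁻¹))) =
        (Nat.card G : ℂ) * (ρ.character x * ρ.character y) := by
      rw [mul_left_comm, hsum]
      field_simp
    exact mul_left_cancel₀ hG h3
  · intro h z
    constructor
    · intro hz
      obtain ⟨c, hc⟩ := isConj_iff.mp hz
      refine ⟨c, c, ?_⟩
      rw [← hc]
      group
    · rintro ⟨a, b, rfl⟩
      apply Cfsg.Agent.Lib.Helper4.isConj_of_forall_irr_eq
      intro χ
      have h1 := h a b χ
      have h2 := h 1 1 χ
      simp only [one_mul, inv_one, mul_one] at h2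
      have hd : (χ : G → ℂ) 1 ≠ 0 := by
        obtain ⟨n, ρ, hρ, hχ⟩ := χ.2
        rw [← hχ, Representation.char_one]
        exact Cfsg.Agent.Lib.Helper4.finrank_ne_zero_of_irreducible ρ hρ
      apply mul_left_cancel₀ hd
      rw [h1, h2]

end Cfsg.Agent.S4754
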