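import Cfsg.Statements.S4755
import Cfsg.Agent.Lib.Helper4.ClassSep
import Cfsg.Agent.Lib.Helper4.ClassMult
import Cfsg.Agent.S0154

set_option autoImplicit false
open Cfsg

namespace Cfsg.Agent.S4755

open scoped commutatorElement

/-- Let x, y be non-identity elements of the finite group G such that χ(x' y') = χ(x') χ(y') for all conjugates x' of x, y' of y and every irreducible character χ. Then the conjugacy class of x y is the set of all products of a conjugate of x with a conjugate of y; every irreducible character of degree greater than 1 vanishes at x y; and the conjugacy class of x y is the coset of the commutator subgroup containing x y. -/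
theorem result {G : Type*} [Group G] [Finite G] (x y : G) (hx : x ≠ 1) (hy : y ≠ 1) (h : ∀ (a b : G) (χ : Cfsg.IrrCharacter G), (χ : G → ℂ) (a * x * a⁻¹ * (b * y * b⁻¹)) = (χ : G → ℂ) (a * x * a⁻¹) * (χ : G → ℂ) (b * y * b⁻¹)) : (∀ z : G, IsConj (x * y) z ↔ ∃ a b : G, z = a * x * a⁻¹ * (b * y * b⁻¹)) ∧ (∀ χ : Cfsg.IrrCharacter G, (χ : G → ℂ) 1 ≠ 1 → (χ : G → ℂ) (x * y) = 0) ∧ (∀ z : G, IsConj (x * y) z ↔ (x * y)⁻¹ * z ∈ commutator G) := by
  classical
  have : Fintype G := Fintype.ofFinite G
  have : Fintype (Cfsg.IrrCharacter G) := Fintype.ofFinite _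
  have hcf : ∀ (χ : Cfsg.IrrCharacter G) (g k : G), (χ : G → ℂ) (k * g * k⁻¹) = (χ : G → ℂ) g := by
    intro χ g k
    obtain ⟨n, ρ, hρ, hχ⟩ := χ.2
    rw [← hχ, Representation.char_conj]
  have hmul : ∀ (a b : G) (χ : Cfsg.IrrCharacter G),
      (χ : G → ℂ) (a * x * a⁻¹ * (b * y * b⁻¹)) = (χ : G → ℂ) x * (χ : G → ℂ) y := by
    intro a b χ
    rw [h a b χ, hcf, hcf]
  have hxy : ∀ χ : Cfsg.IrrCharacter G, (χ : G → ℂ) (x * y) = (χ : G → ℂ) x * (χ : G → ℂ) y := by
    intro χ
    have := hmul 1 1 χ
    simpa using this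
  -- nonlinear characters vanish at x * y
  have hvan : ∀ χ : Cfsg.IrrCharacter G, (χ : G → ℂ) 1 ≠ 1 → (χ : G → ℂ) (x * y) = 0 := by
    intro χ hχ1
    obtain ⟨n, ρ, hρ, hχ⟩ := χ.2
    have hirr : ρ.IsIrreducible := hρ
    have hsum := Cfsg.Agent.Lib.Helper4.sum_char_mul_conj ρ hirr x y
    have hconst : ∀ k : G, ρ.character (x * (k * y * k⁻¹)) = ρ.character x * ρ.character y := by
      intro k
      have := hmul 1 k χ
      rw [← hχ] at this
      simpa using this
    simp only [hconst] at hsum
    rw [Finset.sum_const, Finset.card_univ, nsmul_eq_mul, ← Nat.card_eq_fintype_card] at hsum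
    have hG : (Nat.card G : ℂ) ≠ 0 := Nat.cast_ne_zero.mpr Nat.card_pos.ne'
    have hd : (Module.finrank ℂ (Fin n → ℂ) : ℂ) ≠ 0 :=
      Cfsg.Agent.Lib.Helper4.finrank_ne_zero_of_irreducible ρ hirr
    have hd1 : (Module.finrank ℂ (Fin n → ℂ) : ℂ) ≠ 1 := by
      rw [← Representation.char_one ρ, hχ]
      exact hχ1
    rw [hxy χ, ← hχ]
    have h3 : (ρ.character x * ρ.character y) * ((Module.finrank ℂ (Fin n → ℂ) : ℂ) - 1) = 0 := by
      have h4 : (Nat.card G : ℂ) * ((ρ.character x * ρ.character y) *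
          ((Module.finrank ℂ (Fin n → ℂ) : ℂ) - 1)) = 0 := by
        have h5 : (Nat.card G : ℂ) * (ρ.character x * ρ.character y) *
            (Module.finrank ℂ (Fin n → ℂ) : ℂ) =
            (Nat.card G : ℂ) * ρ.character x * ρ.character y := by
          rw [hsum]
          field_simp
        linear_combination h5
      exact (mul_eq_zero.mp h4).resolve_left hG
    exact (mul_eq_zero.mp h3).resolve_right (sub_ne_zero.mpr hd1)
  have hcl : ∀ z : G, IsConj (x * y) z ↔ ∃ a b : G, z = a * x * a⁻¹ * (b * y * b⁻¹) := by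
    intro z
    constructor
    · intro hz
      obtain ⟨c, hc⟩ := isConj_iff.mp hz
      refine ⟨c, c, ?_⟩
      rw [← hc]
      group
    · rintro ⟨a, b, rfl⟩
      apply Cfsg.Agent.Lib.Helper4.isConj_of_forall_irr_eq
      intro χ
      rw [hmul a b χ, hxy χ]
  refine ⟨hcl, hvan, ?_⟩
  set g := x * y with hg
  -- centralizer bound
  have hcent : Nat.card (Subgroup.centralizer ({g} : Set G)) ≤ (commutator G).index := by
    have h1 := Cfsg.Agent.Lib.Helper4.sum_normSq_char g
    have h2 : ∑ χ : Cfsg.IrrCharacter G, Complex.normSq ((χ : G → ℂ) g) ≤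
        ((Finset.univ.filter (fun χ : Cfsg.IrrCharacter G => (χ : G → ℂ) 1 = 1)).card : ℝ) := by
      rw [Finset.card_eq_sum_ones, Nat.cast_sum, Finset.sum_filter]
      refine Finset.sum_le_sum fun χ _ => ?_
      split_ifs with hχ1
      · obtain ⟨n, ρ, hρ, hχ⟩ := χ.2
        have h3 := Cfsg.Agent.Lib.Helper4.norm_character_le ρ g
        have h4 : (Module.finrank ℂ (Fin n → ℂ) : ℂ) = 1 := by
          rw [← Representation.char_one ρ, hχ]; exact hχ1
        have h5 : (Module.finrank ℂ (Fin n → ℂ) : ℝ) = 1 := by exact_mod_cast h4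
        rw [h5] at h3
        rw [← hχ, Complex.normSq_eq_norm_sq]
        have h6 : 0 ≤ ‖ρ.character g‖ := norm_nonneg _
        push_cast
        nlinarith
      · rw [hvan χ hχ1]
        simp
    rw [h1] at h2
    have h3 : (Finset.univ.filter (fun χ : Cfsg.IrrCharacter G => (χ : G → ℂ) 1 = 1)).card =
        (commutator G).index := by
      rw [← Cfsg.Agent.S0154.result (G := G), Nat.card_eq_fintype_card, Fintype.card_subtype]
    rw [h3] at h2
    exact_mod_cast h2
  set A : Finset G := Finset.univ.filter (fun z : G => IsConj g z) with hA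
  set B : Finset G := Finset.univ.filter (fun z : G => g⁻¹ * z ∈ commutator G) with hB
  have hAB : A ⊆ B := by
    intro z hz
    rw [hA, Finset.mem_filter] at hz
    rw [hB, Finset.mem_filter]
    refine ⟨Finset.mem_univ _, ?_⟩
    obtain ⟨c, hc⟩ := isConj_iff.mp hz.2
    rw [← hc, commutator_def]
    have : g⁻¹ * (c * g * c⁻¹) = ⁅g⁻¹, c⁆ := by
      rw [commutatorElement_def, inv_inv]
      group
    rw [this]
    exact Subgroup.commutator_mem_commutator (Subgroup.mem_top _) (Subgroup.mem_top _)
  have hBcard : B.card = Nat.card (commutator G) := by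
    rw [Nat.card_eq_fintype_card, Fintype.card_subtype, hB]
    refine Finset.card_bij (fun z _ => g⁻¹ * z) ?_ ?_ ?_
    · intro z hz
      rw [Finset.mem_filter] at hz ⊢
      exact ⟨Finset.mem_univ _, hz.2⟩
    · intro a _ b _ hab
      exact mul_left_cancel hab
    · intro w hw
      rw [Finset.mem_filter] at hw
      refine ⟨g * w, ?_, by group⟩
      rw [Finset.mem_filter]
      refine ⟨Finset.mem_univ _, ?_⟩
      rw [inv_mul_cancel_left]
      exact hw.2
  have hAcard := Cfsg.Agent.Lib.Helper4.card_class_mul_card_centralizer g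
  rw [← hA] at hAcard
  have hle : B.card ≤ A.card := by
    rw [hBcard]
    have h1 := Subgroup.card_mul_index (commutator G)
    have hpos : 0 < Nat.card (Subgroup.centralizer ({g} : Set G)) := Nat.card_pos
    have h2 : Nat.card (commutator G) * Nat.card (Subgroup.centralizer ({g} : Set G)) ≤
        A.card * Nat.card (Subgroup.centralizer ({g} : Set G)) := by
      rw [hAcard, ← h1]
      exact Nat.mul_le_mul_left _ hcent
    exact Nat.le_of_mul_le_mul_right h2 hpos
  have hEq : A = B := Finset.eq_of_subset_of_card_le hAB hle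
  intro z
  have hzA : z ∈ A ↔ IsConj g z := by rw [hA, Finset.mem_filter]; simp
  have hzB : z ∈ B ↔ g⁻¹ * z ∈ commutator G := by rw [hB, Finset.mem_filter]; simp
  rw [← hzA, ← hzB, hEq]

end Cfsg.Agent.S4755
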