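import Mathlib
import Cfsg.Prelude
import Cfsg.Agent.Lib.Helper7.PSingA
import Cfsg.Agent.Lib.Helper7.PSingB

set_option autoImplicit false
open Cfsg

namespace Cfsg.Agent.S4763

/-- Let p be a prime and G a finite group that is not nilpotent and has a normal p-complement (a normal subgroup of order prime to p and index a power of p). If G has exactly one irreducible complex character of degree divisible by p, then G has exactly one conjugacy class whose size is divisible by p. -/
theorem result {G : Type*} [Group G] [Finite G] (p : ℕ) [Fact p.Prime] (hnil : ¬ Group.IsNilpotent G) (N : Subgroup G) [N.Normal] (hN : (Nat.card N).Coprime p) (hidx : ∃ k : ℕ, N.index = p ^ k) (hone : Nat.card {χ : Cfsg.IrrCharacter G // p ∣ Cfsg.charDegree (χ : G → ℂ)} = 1) : Nat.card {C : ConjClasses G // p ∣ Nat.card C.carrier} = 1 := by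
  classical
  obtain ⟨k, hk⟩ := hidx
  by_cases hab : ∀ a b : G ⧸ N, a * b = b * a
  · exact Cfsg.Agent.Lib.Helper7.PSing.caseB p N hN k hk hone hab
  · exfalso
    push Not at hab
    have hsub : ∀ χ χ' : IrrCharacter G, p ∣ charDegree (χ : G → ℂ) →
        p ∣ charDegree (χ' : G → ℂ) → χ = χ' := by
      intro χ χ' h h'
      have hs := (Nat.card_eq_one_iff_unique.mp hone).1
      have := hs.elim (⟨χ, h⟩ : {χ : IrrCharacter G // p ∣ charDegree (χ : G → ℂ)}) ⟨χ', h'⟩
      exact congrArg Subtype.val this
    have hbot := Cfsg.Agent.Lib.Helper7.PSing.caseA p N hN k hk hsub hab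
    apply hnil
    have hcard : Nat.card G = p ^ k := by
      rw [← hk, hbot, Subgroup.index_bot]
    exact (IsPGroup.of_card hcard).isNilpotent


end Cfsg.Agent.S4763
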