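import Cfsg.Statements.S4784
import Cfsg.Agent.Lib.Helper4.Decomp
import Cfsg.Agent.Lib.Helper4.BurnsideClass
import Cfsg.Agent.Lib.Helper4.RepEigen
import Cfsg.Agent.Lib.Helper4.CharOrtho
import Cfsg.Agent.Lib.Helper26.IndChar
import Cfsg.Agent.Lib.Helper26.CharInt
import Cfsg.Agent.S0161
import Cfsg.Agent.S0158

set_option autoImplicit false
open Cfsg

namespace Cfsg.Agent.S4784

open Cfsg.Agent.Lib.Helper26 in
/-- if the pull-back of a representation is irreducible then so is the representation -/
theorem isIrreducible_of_comp {G H : Type*} [Group G] [Group H] {V : Type*} [AddCommGroup V]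
    [Module ℂ V] (ρ : Representation ℂ G V) (f : H →* G)
    (h : Representation.IsIrreducible (ρ.comp f : Representation ℂ H V)) : ρ.IsIrreducible := by
  have := h
  have hbt : (⊥ : Subrepresentation ρ) ≠ ⊤ := by
    intro h1
    have h2 : (⊥ : Submodule ℂ V) = ⊤ := congrArg Subrepresentation.toSubmodule h1
    have h3 : (⊥ : Subrepresentation (ρ.comp f : Representation ℂ H V)) = ⊤ :=
      Subrepresentation.toSubmodule_injective h2
    exact bot_ne_top h3
  exact { exists_pair_ne := ⟨⊥, ⊤, hbt⟩
          eq_bot_or_eq_top := fun σ => by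
            let σ' : Subrepresentation (ρ.comp f : Representation ℂ H V) :=
              ⟨σ.toSubmodule, fun g v hv => σ.apply_mem_toSubmodule (f g) hv⟩
            rcases eq_bot_or_eq_top σ' with h1 | h1
            · left
              apply Subrepresentation.toSubmodule_injective
              have h2 : σ'.toSubmodule =
                  (⊥ : Subrepresentation (ρ.comp f : Representation ℂ H V)).toSubmodule :=
                congrArg Subrepresentation.toSubmodule h1
              exact h2
            · right
              apply Subrepresentation.toSubmodule_injective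
              have h2 : σ'.toSubmodule =
                  (⊤ : Subrepresentation (ρ.comp f : Representation ℂ H V)).toSubmodule :=
                congrArg Subrepresentation.toSubmodule h1
              exact h2 }

/-- the value of a permutation character -/
theorem indFun_one_apply {G : Type*} [Group G] [Fintype G] (H : Subgroup G)
    [DecidablePred (· ∈ H)] (x : G) :
    Cfsg.indFun H (fun _ : H => (1 : ℂ)) x =
      (Nat.card H : ℂ)⁻¹ * ((Finset.univ.filter (fun y : G => y⁻¹ * x * y ∈ H)).card : ℂ) := by
  unfold Cfsg.indFun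
  congr 1
  rw [Finset.card_filter, Nat.cast_sum]
  refine Finset.sum_congr rfl fun y _ => ?_
  by_cases hy : y⁻¹ * x * y ∈ H
  · rw [Cfsg.Agent.Lib.Helper26.extendByZero_apply_mem H _ _ hy, if_pos hy]
    simp
  · rw [Cfsg.Agent.Lib.Helper26.extendByZero_apply_not_mem H _ _ hy, if_neg hy]
    simp


/-- Let H be a subgroup of the finite group G and consider the permutation character of G on the cosets of H (the function induced from the principal character of H). Then exactly one irreducible constituent of it is real-valued with Frobenius–Schur indicator +1 (namely the principal character) if and only if the normal core of H has odd index in G. -/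
theorem result {G : Type*} [Group G] [Fintype G] (H : Subgroup G) : Nat.card {χ : Cfsg.IrrCharacter G // Cfsg.classInner (Cfsg.indFun H (fun _ : H => (1 : ℂ))) (χ : G → ℂ) ≠ 0 ∧ (∀ g : G, (starRingEnd ℂ) ((χ : G → ℂ) g) = (χ : G → ℂ) g) ∧ (Nat.card G : ℂ)⁻¹ * ∑ g : G, (χ : G → ℂ) (g * g) = 1} = 1 ↔ Odd H.normalCore.index := by
  classical
  have : Fintype H := Fintype.ofFinite H
  have : Fintype (Cfsg.IrrCharacter G) := Fintype.ofFinite _
  have hGne : (Nat.card G : ℂ) ≠ 0 := Nat.cast_ne_zero.mpr Nat.card_pos.ne'
  have hHne : (Nat.card H : ℂ) ≠ 0 := Nat.cast_ne_zero.mpr Nat.card_pos.ne'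
  set π := Cfsg.indFun H (fun _ : H => (1 : ℂ)) with hπ
  have hπchar : Cfsg.IsCharacter G π :=
    Cfsg.Agent.Lib.Helper26.isCharacter_indFun H
      (Cfsg.Agent.Lib.Helper26.isCharacter_of_isIrrCharacter
        (Cfsg.Agent.Lib.Helper4.isIrrCharacter_one (G := H)))
  have hπcf : Cfsg.IsClassFunction G π :=
    Cfsg.Agent.Lib.Helper26.isClassFunction_of_isCharacter hπchar
  let one : Cfsg.IrrCharacter G := ⟨fun _ => 1, Cfsg.Agent.Lib.Helper4.isIrrCharacter_one⟩
  have hone_inner : Cfsg.classInner π (one : G → ℂ) = 1 := by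
    have hcf1 : Cfsg.IsClassFunction G (one : G → ℂ) := fun _ _ => rfl
    rw [Cfsg.Agent.Lib.Helper26.classInner_indFun_left' H _ _ hcf1]
    unfold Cfsg.classInner
    simp only [one, Function.comp_apply, map_one, mul_one, Finset.sum_const, Finset.card_univ,
      nsmul_eq_mul]
    rw [← Nat.card_eq_fintype_card, inv_mul_cancel₀ hHne]
  have hone_mem : Cfsg.classInner π (one : G → ℂ) ≠ 0 ∧
      (∀ g : G, (starRingEnd ℂ) ((one : G → ℂ) g) = (one : G → ℂ) g) ∧
      (Nat.card G : ℂ)⁻¹ * ∑ g : G, (one : G → ℂ) (g * g) = 1 := by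
    refine ⟨by rw [hone_inner]; exact one_ne_zero, fun g => by simp [one], ?_⟩
    simp only [one, Finset.sum_const, Finset.card_univ, nsmul_eq_mul, mul_one]
    rw [← Nat.card_eq_fintype_card, inv_mul_cancel₀ hGne]
  constructor
  · intro hcard
    by_contra hodd
    rw [Nat.not_odd_iff_even] at hodd
    obtain ⟨x0, hx0⟩ := Nat.card_eq_one_iff_exists.mp hcard
    -- an element of order two in the quotient
    have h2dvd : 2 ∣ Nat.card (G ⧸ H.normalCore) := by
      rw [← Subgroup.index_eq_card]
      exact even_iff_two_dvd.mp hodd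
    haveI : Fact (Nat.Prime 2) := ⟨Nat.prime_two⟩
    have : Fintype (G ⧸ H.normalCore) := Fintype.ofFinite _
    obtain ⟨q, hq⟩ := exists_prime_orderOf_dvd_card' 2 h2dvd
    obtain ⟨t, rfl⟩ := QuotientGroup.mk_surjective q
    have htN : t ∉ H.normalCore := by
      intro h
      have : (t : G ⧸ H.normalCore) = 1 := (QuotientGroup.eq_one_iff t).mpr h
      rw [this, orderOf_one] at hq
      omega
    have httN : t * t ∈ H.normalCore := by
      rw [← QuotientGroup.eq_one_iff, QuotientGroup.mk_mul, ← pow_two, ← hq, pow_orderOf_eq_one]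
    have hex : ∃ b : G, b * t * b⁻¹ ∉ H := by
      by_contra hcon
      push Not at hcon
      exact htN hcon
    obtain ⟨b, hb⟩ := hex
    -- the two sets of pairs
    let A : Finset (G × G) := Finset.univ.filter (fun p : G × G => p.2⁻¹ * p.1 * p.2 ∈ H)
    let B : Finset (G × G) := Finset.univ.filter (fun p : G × G => p.2⁻¹ * (p.1 * p.1) * p.2 ∈ H)
    have hAB : A ⊂ B := by
      rw [Finset.ssubset_iff_of_subset]
      · refine ⟨(t, b⁻¹), ?_, ?_⟩
        · simp only [B, Finset.mem_filter, Finset.mem_univ, true_and, inv_inv]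
          exact httN b
        · simp only [A, Finset.mem_filter, Finset.mem_univ, true_and, inv_inv]
          exact hb
      · intro p hp
        simp only [A, B, Finset.mem_filter, Finset.mem_univ, true_and] at hp ⊢
        have := H.mul_mem hp hp
        convert this using 1
        group
    have hAB' : A.card < B.card := Finset.card_lt_card hAB
    have hsumA : ∑ g : G, π g = (Nat.card H : ℂ)⁻¹ * (A.card : ℂ) := by
      simp only [hπ, indFun_one_apply]
      rw [← Finset.mul_sum]
      congr 1
      simp only [A]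
      rw [Finset.card_filter, Nat.cast_sum, Fintype.sum_prod_type]
      refine Finset.sum_congr rfl fun g _ => ?_
      rw [Finset.card_filter, Nat.cast_sum]
    have hsumB : ∑ g : G, π (g * g) = (Nat.card H : ℂ)⁻¹ * (B.card : ℂ) := by
      simp only [hπ, indFun_one_apply]
      rw [← Finset.mul_sum]
      congr 1
      simp only [B]
      rw [Finset.card_filter, Nat.cast_sum, Fintype.sum_prod_type]
      refine Finset.sum_congr rfl fun g _ => ?_
      rw [Finset.card_filter, Nat.cast_sum]
    have hA : (A.card : ℂ) = (Nat.card G : ℂ) * (Nat.card H : ℂ) := by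
      have h1 : Cfsg.classInner π (one : G → ℂ) = (Nat.card G : ℂ)⁻¹ * ∑ g : G, π g := by
        unfold Cfsg.classInner
        simp [one]
      rw [hone_inner, hsumA] at h1
      have h2 : (A.card : ℂ) = (Nat.card G : ℂ) * (Nat.card H : ℂ) *
          ((Nat.card G : ℂ)⁻¹ * ((Nat.card H : ℂ)⁻¹ * (A.card : ℂ))) := by
        field_simp
      rw [h2, ← h1]
      ring
    -- expansion
    have hexp := Cfsg.Agent.Lib.Helper4.classFunction_expansion π hπcf
    have ha : ∀ χ : Cfsg.IrrCharacter G, ∃ n : ℕ, Cfsg.classInner π (χ : G → ℂ) = n := fun χ =>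
      Cfsg.Agent.Lib.Helper26.classInner_isCharacter_nat hπchar
        (Cfsg.Agent.Lib.Helper26.isCharacter_of_isIrrCharacter χ.2)
    choose a ha using ha
    let ν : Cfsg.IrrCharacter G → ℂ := fun χ => (Nat.card G : ℂ)⁻¹ * ∑ g : G, (χ : G → ℂ) (g * g)
    have hν : ∀ χ : Cfsg.IrrCharacter G, (ν χ = 0 ∨ ν χ = 1 ∨ ν χ = -1) ∧
        (ν χ = 0 ↔ ∃ s : G, ((χ : G → ℂ) s).im ≠ 0) := by
      intro χ
      obtain ⟨k, τ, hτ, hτχ⟩ := χ.2
      haveI := hτ
      have := Cfsg.Agent.S0158.result τ
      simp only [ν, ← hτχ]
      exact this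
    have hsum : ∑ χ : Cfsg.IrrCharacter G, (a χ : ℂ) * ν χ =
        (Nat.card G : ℂ)⁻¹ * ((Nat.card H : ℂ)⁻¹ * (B.card : ℂ)) := by
      rw [← hsumB]
      have h1 : ∀ g : G, π (g * g) = ∑ χ : Cfsg.IrrCharacter G, (a χ : ℂ) * (χ : G → ℂ) (g * g) := by
        intro g
        have := congrFun hexp (g * g)
        simp only [Finset.sum_apply, Pi.smul_apply, smul_eq_mul, ha] at this
        exact this
      simp only [h1]
      rw [Finset.sum_comm, Finset.mul_sum]
      refine Finset.sum_congr rfl fun χ _ => ?_
      simp only [ν]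
      rw [← Finset.mul_sum]
      ring
    -- real parts
    have hBre : (1 : ℝ) < (∑ χ : Cfsg.IrrCharacter G, (a χ : ℂ) * ν χ).re := by
      rw [hsum]
      have hGpos : (0 : ℝ) < Nat.card G := by exact_mod_cast Nat.card_pos
      have hHpos : (0 : ℝ) < Nat.card H := by exact_mod_cast Nat.card_pos
      have h1 : (Nat.card G : ℂ)⁻¹ * ((Nat.card H : ℂ)⁻¹ * (B.card : ℂ)) =
          (((Nat.card G : ℝ)⁻¹ * ((Nat.card H : ℝ)⁻¹ * (B.card : ℝ)) : ℝ) : ℂ) := by
        push_cast
        ring
      rw [h1, Complex.ofReal_re]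
      have h2 : (Nat.card G : ℝ) * (Nat.card H : ℝ) < (B.card : ℝ) := by
        have h3 : (A.card : ℝ) = (Nat.card G : ℝ) * (Nat.card H : ℝ) := by
          have := hA
          exact_mod_cast this
        rw [← h3]
        exact_mod_cast hAB'
      rw [← mul_assoc, ← mul_inv, lt_inv_mul_iff₀ (mul_pos hGpos hHpos), mul_one]
      exact h2
    -- some nontrivial χ
    have hex2 : ∃ χ : Cfsg.IrrCharacter G, χ ≠ one ∧ a χ ≠ 0 ∧ ν χ = 1 := by
      by_contra hcon
      push Not at hcon
      have hle : ∀ χ ∈ Finset.univ.erase one, ((a χ : ℂ) * ν χ).re ≤ 0 := by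
        intro χ hχ
        have hne := Finset.ne_of_mem_erase hχ
        rcases (hν χ).1 with h0 | h1 | hm1
        · rw [h0]; simp
        · by_cases ha0 : a χ = 0
          · rw [ha0]; simp
          · exact absurd h1 (hcon χ hne ha0)
        · rw [hm1]
          simp
      have hone_term : ((a one : ℂ) * ν one).re = 1 := by
        have h1 : (a one : ℂ) = 1 := by rw [← ha one, hone_inner]
        have h2 : ν one = 1 := hone_mem.2.2
        rw [h1, h2]
        simp
      rw [Complex.re_sum, ← Finset.add_sum_erase Finset.univ _ (Finset.mem_univ one),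
        hone_term] at hBre
      have := Finset.sum_nonpos hle
      linarith
    obtain ⟨χ, hχne, haχ, hνχ⟩ := hex2
    have hreal : ∀ g : G, (starRingEnd ℂ) ((χ : G → ℂ) g) = (χ : G → ℂ) g := by
      intro g
      rw [Complex.conj_eq_iff_im]
      by_contra him
      have := (hν χ).2.mpr ⟨g, him⟩
      rw [hνχ] at this
      exact one_ne_zero this
    have hχmem : Cfsg.classInner π (χ : G → ℂ) ≠ 0 := by
      rw [ha χ]
      exact_mod_cast haχ
    have e1 := hx0 ⟨χ, hχmem, hreal, hνχ⟩
    have e2 := hx0 ⟨one, hone_mem⟩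
    apply hχne
    have := e1.trans e2.symm
    exact congrArg Subtype.val this
  · intro hodd
    rw [Nat.card_eq_one_iff_exists]
    refine ⟨⟨one, hone_mem⟩, ?_⟩
    rintro ⟨χ, hχ1, hχ2, hχ3⟩
    apply Subtype.ext
    apply Subtype.ext
    show (χ : G → ℂ) = fun _ => 1
    obtain ⟨k, τ, hτ, hτχ⟩ := χ.2
    obtain ⟨n', ρ', hρ'⟩ := hπchar
    rw [← hρ', ← hτχ] at hχ1
    obtain ⟨f, hf⟩ := Cfsg.Agent.Lib.Helper4.exists_injective_of_classInner_ne_zero τ ρ' hτ hχ1
    -- the core acts trivially
    have hN : ∀ n ∈ H.normalCore, τ n = 1 := by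
      intro n hn
      have hπn : π n = π 1 := by
        simp only [hπ, indFun_one_apply]
        have hfil : (Finset.univ.filter (fun y : G => y⁻¹ * n * y ∈ H)) =
            (Finset.univ.filter (fun y : G => y⁻¹ * 1 * y ∈ H)) := by
          apply Finset.filter_congr
          intro y _
          constructor
          · intro _
            simp [H.one_mem]
          · intro _
            have := hn y⁻¹
            simpa using this
        rw [hfil]
      have hρn : ρ' n = LinearMap.id := by
        rw [← Cfsg.Agent.Lib.Helper4.character_eq_finrank_iff, ← Representation.char_one ρ']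
        rw [hρ']
        exact hπn
      apply LinearMap.ext
      intro v
      apply hf
      rw [f.isIntertwining, hρn]
      rfl
    let τbar : Representation ℂ (G ⧸ H.normalCore) (Fin k → ℂ) :=
      QuotientGroup.lift H.normalCore τ hN
    have hcomp : (τbar.comp (QuotientGroup.mk' H.normalCore) : Representation ℂ G (Fin k → ℂ)) = τ := by
      apply MonoidHom.ext
      intro g
      rfl
    have hirr : τbar.IsIrreducible := by
      apply isIrreducible_of_comp τbar (QuotientGroup.mk' H.normalCore)
      rw [hcomp]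
      exact hτ
    let χbar : Cfsg.IrrCharacter (G ⧸ H.normalCore) := ⟨τbar.character, k, τbar, hirr, rfl⟩
    have hval : ∀ g : G, τbar.character (g : G ⧸ H.normalCore) = (χ : G → ℂ) g := by
      intro g
      rw [← hτχ]
      rfl
    have hrealbar : ∀ q : G ⧸ H.normalCore, ((χbar : G ⧸ H.normalCore → ℂ) q).im = 0 := by
      intro q
      obtain ⟨g, rfl⟩ := QuotientGroup.mk_surjective q
      show (τbar.character (g : G ⧸ H.normalCore)).im = 0
      rw [hval g, ← Complex.conj_eq_iff_im]
      exact hχ2 g
    have hoddbar : Odd (Nat.card (G ⧸ H.normalCore)) := by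
      rw [← Subgroup.index_eq_card]
      exact hodd
    have hres := Cfsg.Agent.S0161.result hoddbar χbar hrealbar
    funext g
    rw [← hval g]
    exact congrFun hres (g : G ⧸ H.normalCore)

end Cfsg.Agent.S4784
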