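import Cfsg.Statements.S4797
import Cfsg.Agent.Lib.Helper4.Deflate
import Cfsg.Agent.Lib.Helper4.FaithfulIrr
import Cfsg.Agent.Lib.Helper4.BurnsideClass
import Cfsg.Agent.Lib.Helper4.CharOrtho
import Cfsg.Agent.Lib.Helper4.Artin
import Cfsg.Agent.S0154

set_option autoImplicit false
open Cfsg

namespace Cfsg.Agent.S4797

open Cfsg.Agent.Lib.Helper4
open scoped commutatorElement

/-- group-theoretic core: a perfect group of order `d * p` with `d < p` has a central element
of order `p` -/
theorem central_of_perfect {Q : Type*} [Group Q] [Finite Q] (p : ℕ) (hp : p.Prime) (d : ℕ)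
    (hd : 0 < d) (hdp : d < p) (hcard : Nat.card Q = d * p) (hperf : commutator Q = ⊤) :
    ∃ x : Q, orderOf x = p ∧ x ∈ Subgroup.center Q := by
  classical
  haveI : Fact p.Prime := ⟨hp⟩
  let P : Sylow p Q := default
  have hpd : ¬ p ∣ d := Nat.not_dvd_of_pos_of_lt hd hdp
  have hPcard : Nat.card P = p := by
    rw [Sylow.card_eq_multiplicity, hcard, Nat.factorization_mul hd.ne' hp.ne_zero]
    simp only [Finsupp.coe_add, Pi.add_apply]
    rw [Nat.factorization_eq_zero_of_not_dvd hpd, hp.factorization_self, zero_add, pow_one]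
  have hPidx : (P : Subgroup Q).index = d := by
    have h1 := Subgroup.card_mul_index (P : Subgroup Q)
    rw [hcard] at h1
    have h2 : Nat.card (P : Subgroup Q) = p := hPcard
    rw [h2, mul_comm] at h1
    exact Nat.eq_of_mul_eq_mul_right hp.pos h1
  have hn1 : Nat.card (Sylow p Q) = 1 := by
    have h1 := Sylow.card_dvd_index P
    rw [hPidx] at h1
    have h2 : Nat.card (Sylow p Q) ≡ 1 [MOD p] := card_sylow_modEq_one p Q
    have h3 : Nat.card (Sylow p Q) < p := lt_of_le_of_lt (Nat.le_of_dvd hd h1) hdp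
    unfold Nat.ModEq at h2
    rw [Nat.mod_eq_of_lt h3, Nat.mod_eq_of_lt hp.one_lt] at h2
    exact h2
  have hPn : (P : Subgroup Q).Normal := by
    have h1 := Sylow.card_eq_index_normalizer P
    rw [hn1] at h1
    have h2 : Subgroup.normalizer ((P : Subgroup Q) : Set Q) = ⊤ := Subgroup.index_eq_one.mp h1.symm
    exact Subgroup.normalizer_eq_top_iff.mp h2
  haveI : IsCyclic P := isCyclic_of_prime_card hPcard
  obtain ⟨x, hx⟩ := IsCyclic.exists_generator (α := P)
  have hxord : orderOf (x : Q) = p := by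
    rw [Subgroup.orderOf_coe, orderOf_eq_card_of_forall_mem_zpowers hx, hPcard]
  refine ⟨(x : Q), hxord, ?_⟩
  -- conjugation acts by powers
  have hconj : ∀ a : Q, ∃ i : ℤ, a * (x : Q) * a⁻¹ = (x : Q) ^ i := by
    intro a
    have hmem : a * (x : Q) * a⁻¹ ∈ (P : Subgroup Q) := hPn.conj_mem _ x.2 a
    obtain ⟨i, hi⟩ := Subgroup.mem_zpowers_iff.mp (hx ⟨_, hmem⟩)
    refine ⟨i, ?_⟩
    have := congrArg (fun y : P => (y : Q)) hi
    simp only [Subgroup.coe_zpow] at this
    exact this.symm
  have hE : ∀ a b : Q, (a * b) * (x : Q) * (a * b)⁻¹ = (b * a) * (x : Q) * (b * a)⁻¹ := by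
    intro a b
    obtain ⟨i, hi⟩ := hconj a
    obtain ⟨j, hj⟩ := hconj b
    have h1 : (a * b) * (x : Q) * (a * b)⁻¹ = a * (b * (x : Q) * b⁻¹) * a⁻¹ := by group
    have h2 : (b * a) * (x : Q) * (b * a)⁻¹ = b * (a * (x : Q) * a⁻¹) * b⁻¹ := by group
    rw [h1, h2, hi, hj, ← conj_zpow, ← conj_zpow, hi, hj, ← zpow_mul, ← zpow_mul, mul_comm]
  have hcomm : ∀ a b : Q, ⁅a, b⁆ * (x : Q) * ⁅a, b⁆⁻¹ = (x : Q) := by
    intro a b
    have h1 := hE b⁻¹ a⁻¹
    have h2 : ⁅a, b⁆ * (x : Q) * ⁅a, b⁆⁻¹ =
        (a * b) * ((a⁻¹ * b⁻¹) * (x : Q) * (a⁻¹ * b⁻¹)⁻¹) * (a * b)⁻¹ := by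
      rw [commutatorElement_def]; group
    rw [h2, ← h1]
    group
  have hle : commutator Q ≤ Subgroup.centralizer ({(x : Q)} : Set Q) := by
    rw [commutator_eq_closure, Subgroup.closure_le]
    rintro g ⟨a, b, rfl⟩
    rw [SetLike.mem_coe, Subgroup.mem_centralizer_iff]
    intro y hy
    rw [Set.mem_singleton_iff] at hy
    subst hy
    have := hcomm a b
    calc (x : Q) * ⁅a, b⁆ = (⁅a, b⁆ * (x : Q) * ⁅a, b⁆⁻¹) * ⁅a, b⁆ := by rw [this]
      _ = ⁅a, b⁆ * (x : Q) := by group
  rw [hperf] at hle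
  rw [Subgroup.mem_center_iff]
  intro g
  have hg : g ∈ Subgroup.centralizer ({(x : Q)} : Set Q) := hle (Subgroup.mem_top g)
  rw [Subgroup.mem_centralizer_iff] at hg
  exact (hg (x : Q) (Set.mem_singleton _)).symm

theorem sum_sq_charDegree {Q : Type*} [Group Q] [Fintype Q] [Fintype (Cfsg.IrrCharacter Q)] :
    ∑ χ : Cfsg.IrrCharacter Q, Cfsg.charDegree (χ : Q → ℂ) ^ 2 = Nat.card Q := by
  have h1 := Cfsg.Agent.S0134.result (G := Q)
  rw [finsum_eq_sum_of_fintype] at h1
  have : ((∑ χ : Cfsg.IrrCharacter Q, Cfsg.charDegree (χ : Q → ℂ) ^ 2 : ℕ) : ℂ) =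
      (Nat.card Q : ℂ) := by
    rw [← h1]
    push_cast
    refine Finset.sum_congr rfl fun χ _ => ?_
    obtain ⟨n, ρ, hρ, hχ⟩ := χ.2
    rw [← hχ, charDegree_character, Representation.char_one]
  exact_mod_cast this

theorem no_perfect {Q : Type*} [Group Q] [Fintype Q] {V : Type*} [AddCommGroup V] [Module ℂ V]
    [FiniteDimensional ℂ V] (ρ : Representation ℂ Q V) (hirr : ρ.IsIrreducible) (p : ℕ)
    (hp : p.Prime) (hcard : Nat.card Q = Module.finrank ℂ V * p) (hperf : commutator Q = ⊤) :
    False := by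
  classical
  have : Fintype (Cfsg.IrrCharacter Q) := Fintype.ofFinite _
  haveI : Fact p.Prime := ⟨hp⟩
  set d := Module.finrank ℂ V with hd
  have hd0 : d ≠ 0 := by
    intro h
    apply finrank_ne_zero_of_irreducible ρ hirr
    rw [← hd, h]; simp
  by_cases hd1 : d = 1
  · rw [hd1, one_mul] at hcard
    haveI : IsCyclic Q := isCyclic_of_prime_card hcard
    obtain ⟨g, hg⟩ := IsCyclic.exists_generator (α := Q)
    have hbot : commutator Q = ⊥ := by
      rw [eq_bot_iff, commutator_eq_closure, Subgroup.closure_le]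
      rintro y ⟨a, b, rfl⟩
      obtain ⟨i, rfl⟩ := Subgroup.mem_zpowers_iff.mp (hg a)
      obtain ⟨j, rfl⟩ := Subgroup.mem_zpowers_iff.mp (hg b)
      rw [SetLike.mem_coe, Subgroup.mem_bot, commutatorElement_eq_one_iff_commute]
      exact (Commute.refl g).zpow_zpow i j
    rw [hperf] at hbot
    have h1 : Nat.card (⊤ : Subgroup Q) = 1 := by rw [hbot, Subgroup.card_bot]
    rw [Subgroup.card_top, hcard] at h1
    exact hp.one_lt.ne' h1
  · have hd2 : 2 ≤ d := by omega
    -- two distinct characters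
    let χ0 : Cfsg.IrrCharacter Q := ⟨fun _ => 1, isIrrCharacter_one⟩
    let χ1 : Cfsg.IrrCharacter Q := ⟨ρ.character, isIrrCharacter_of_irreducible ρ hirr⟩
    have hdeg0 : Cfsg.charDegree (χ0 : Q → ℂ) = 1 := by
      show Cfsg.charDegree (fun _ : Q => (1 : ℂ)) = 1
      unfold Cfsg.charDegree
      simp
    have hdeg1 : Cfsg.charDegree (χ1 : Q → ℂ) = d := charDegree_character ρ
    have hne : χ0 ≠ χ1 := by
      intro h
      have := congrArg (fun χ : Cfsg.IrrCharacter Q => Cfsg.charDegree (χ : Q → ℂ)) h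
      simp only [hdeg0, hdeg1] at this
      omega
    have hsum := sum_sq_charDegree (Q := Q)
    have hle : 1 + d ^ 2 ≤ Nat.card Q := by
      rw [← hsum]
      have h1 : ∑ χ ∈ ({χ0, χ1} : Finset (Cfsg.IrrCharacter Q)),
          Cfsg.charDegree (χ : Q → ℂ) ^ 2 = 1 + d ^ 2 := by
        rw [Finset.sum_pair hne, hdeg0, hdeg1, one_pow]
      rw [← h1]
      exact Finset.sum_le_sum_of_subset (Finset.subset_univ _)
    rw [hcard] at hle
    have hdp : d < p := by
      by_contra hcon
      push Not at hcon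
      have : d * p ≤ d * d := Nat.mul_le_mul_left d hcon
      nlinarith
    obtain ⟨x, hxord, hxc⟩ := central_of_perfect p hp d (by omega) hdp hcard hperf
    -- total norm
    have htot : ∑ g : Q, Complex.normSq (ρ.character g) = (Nat.card Q : ℝ) := by
      have h1 := sum_char_mul_char_inv ρ hirr
      have h2 : ∑ g : Q, ρ.character g * ρ.character g⁻¹ =
          ((∑ g : Q, Complex.normSq (ρ.character g) : ℝ) : ℂ) := by
        rw [Complex.ofReal_sum]
        refine Finset.sum_congr rfl fun g _ => ?_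
        rw [character_inv, Complex.mul_conj]
      rw [h2] at h1
      exact_mod_cast h1
    set Z : Finset Q := Finset.univ.filter (fun g => g ∈ Subgroup.zpowers x) with hZ
    have hZcard : Z.card = p := by
      rw [hZ, ← Fintype.card_subtype, ← Nat.card_eq_fintype_card, Nat.card_zpowers, hxord]
    have hZval : ∀ z ∈ Z, Complex.normSq (ρ.character z) = (d : ℝ) ^ 2 := by
      intro z hz
      rw [hZ, Finset.mem_filter] at hz
      have hzc : z ∈ Subgroup.center Q := (Subgroup.zpowers_le.mpr hxc) hz.2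
      obtain ⟨c, hc⟩ := exists_scalar_of_mem_center ρ hirr z hzc
      have h1 := (norm_character_eq_finrank_iff ρ z).mpr ⟨c, hc⟩
      rw [Complex.normSq_eq_norm_sq, h1]
    have hZsum : ∑ z ∈ Z, Complex.normSq (ρ.character z) = (p : ℝ) * (d : ℝ) ^ 2 := by
      rw [Finset.sum_congr rfl hZval, Finset.sum_const, hZcard, nsmul_eq_mul]
    have hZle : ∑ z ∈ Z, Complex.normSq (ρ.character z) ≤
        ∑ g : Q, Complex.normSq (ρ.character g) :=
      Finset.sum_le_sum_of_subset_of_nonneg (Finset.subset_univ _)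
        (fun g _ _ => Complex.normSq_nonneg _)
    rw [hZsum, htot, hcard] at hZle
    have hZle' : p * d ^ 2 ≤ d * p := by exact_mod_cast hZle
    have hppos := hp.pos
    nlinarith

/-- a non-perfect group has a linear character of prime codegree -/
theorem exists_prime_codegree {G : Type*} [Group G] [Fintype G] (h : commutator G ≠ ⊤) :
    ∃ χ : Cfsg.IrrCharacter G, (Nat.card G / (Nat.card {g : G // (χ : G → ℂ) g = (χ : G → ℂ) 1} *
      Cfsg.charDegree (χ : G → ℂ))).Prime := by
  classical
  have hidx : (commutator G).index ≠ 1 := fun h1 => h (Subgroup.index_eq_one.mp h1)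
  obtain ⟨p, hp, hpdvd⟩ := Nat.exists_prime_and_dvd hidx
  haveI : Fact p.Prime := ⟨hp⟩
  let Q := Abelianization G
  have hQfin : Finite Q := by
    show Finite (G ⧸ commutator G)
    infer_instance
  have hQcard : Nat.card Q = (commutator G).index := by
    rw [Subgroup.index_eq_card]
    rfl
  haveI : Finite (Q →* ℂˣ) := finite_monoidHom_units
  have : NeZero ((Monoid.exponent Q : ℕ) : ℂ) :=
    ⟨Nat.cast_ne_zero.mpr Monoid.exponent_ne_zero_of_finite⟩
  have hL : Nat.card (Q →* ℂˣ) = Nat.card Q :=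
    CommGroup.card_monoidHom_of_hasEnoughRootsOfUnity Q ℂ
  have hdvd : p ∣ Nat.card (Q →* ℂˣ) := by rw [hL, hQcard]; exact hpdvd
  obtain ⟨lam, hlam⟩ := exists_prime_orderOf_dvd_card' p hdvd
  let lam' : G →* ℂˣ := lam.comp Abelianization.of
  have hpow : ∀ g : G, lam' g ^ p = 1 := by
    intro g
    have h2 : lam ^ p = 1 := by rw [← hlam]; exact pow_orderOf_eq_one lam
    have h3 : lam (Abelianization.of g) ^ p = 1 := by
      have := DFunLike.congr_fun h2 (Abelianization.of g)
      simpa using this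
    exact h3
  have hirr : (Cfsg.Agent.S0154.linRep lam').IsIrreducible :=
    Cfsg.Agent.S0154.irreducible_of_finrank_one _ (by simp)
  refine ⟨⟨(Cfsg.Agent.S0154.linRep lam').character, 1, Cfsg.Agent.S0154.linRep lam', hirr, rfl⟩, ?_⟩
  show (Nat.card G / (Nat.card {g : G // (Cfsg.Agent.S0154.linRep lam').character g =
    (Cfsg.Agent.S0154.linRep lam').character 1} *
    Cfsg.charDegree (Cfsg.Agent.S0154.linRep lam').character)).Prime
  rw [codegree_eq _ hirr]
  have hker : MonoidHom.ker (Cfsg.Agent.S0154.linRep lam') = lam'.ker := by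
    ext g
    rw [← character_eq_one_iff_mem_ker, Cfsg.Agent.S0154.linRep_character,
      Cfsg.Agent.S0154.linRep_character, map_one, MonoidHom.mem_ker]
    constructor
    · intro h1
      apply Units.ext
      simpa using h1
    · intro h1
      rw [h1]
  rw [hker, Subgroup.index_ker]
  have hfr : Module.finrank ℂ (Fin 1 → ℂ) = 1 := by simp
  rw [hfr, Nat.div_one]
  have hle : lam'.range ≤ rootsOfUnity p ℂ := by
    rintro y ⟨g, rfl⟩
    rw [mem_rootsOfUnity]
    exact hpow g
  have hdvd2 := Subgroup.card_dvd_of_le hle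
  haveI : NeZero p := ⟨hp.ne_zero⟩
  have hcardroots : Nat.card (rootsOfUnity p ℂ) = p := Complex.card_rootsOfUnity p
  rw [hcardroots] at hdvd2
  rcases (Nat.dvd_prime hp).mp hdvd2 with h1 | h1
  · exfalso
    have hbot : lam'.range = ⊥ := Subgroup.card_eq_one.mp h1
    have hlam1 : lam = 1 := by
      apply MonoidHom.ext
      intro q
      obtain ⟨g, rfl⟩ := QuotientGroup.mk_surjective q
      have : lam' g ∈ lam'.range := ⟨g, rfl⟩
      rw [hbot, Subgroup.mem_bot] at this
      exact this
    rw [hlam1, orderOf_one] at hlam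
    exact hp.one_lt.ne' hlam.symm
  · rw [h1]
    exact hp

/-- The codegree of an irreducible complex character χ of a finite group G is [G : ker χ] / χ(1), where ker χ is the set of elements at which χ takes the value χ(1). A non-trivial finite group is perfect if and only if no irreducible complex character of it has prime codegree. -/
theorem result {G : Type*} [Group G] [Finite G] [Nontrivial G] : commutator G = ⊤ ↔ ∀ χ : Cfsg.IrrCharacter G, ¬ ((Nat.card G / (Nat.card {g : G // (χ : G → ℂ) g = (χ : G → ℂ) 1} * Cfsg.charDegree (χ : G → ℂ)))).Prime := by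
  classical
  have : Fintype G := Fintype.ofFinite G
  constructor
  · intro hperf χ hprime
    obtain ⟨n, ρ, hρ, hχ⟩ := χ.2
    have hirr : ρ.IsIrreducible := hρ
    rw [← hχ, codegree_eq ρ hirr] at hprime
    set K : Subgroup G := MonoidHom.ker ρ with hK
    have hKn : K.Normal := MonoidHom.normal_ker ρ
    have : Fintype (G ⧸ K) := Fintype.ofFinite _
    have hdvd := degree_dvd_index_ker ρ hirr
    rw [← hK] at hdvd
    have hidx : K.index = Module.finrank ℂ (Fin n → ℂ) * (K.index / Module.finrank ℂ (Fin n → ℂ)) :=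
      (Nat.mul_div_cancel' hdvd).symm
    have hperfQ : commutator (G ⧸ K) = ⊤ := by
      rw [commutator_def, ← Subgroup.map_top_of_surjective (QuotientGroup.mk' K)
        (QuotientGroup.mk'_surjective K), ← Subgroup.map_commutator, ← commutator_def, hperf]
    refine no_perfect (deflate ρ K le_rfl) (deflate_isIrreducible ρ K le_rfl hirr) _ hprime ?_ hperfQ
    rw [← Subgroup.index_eq_card]
    exact hidx
  · intro h
    by_contra hne
    obtain ⟨χ, hχ⟩ := exists_prime_codegree hne
    exact h χ hχ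

end Cfsg.Agent.S4797
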