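import Cfsg.Statements.S4796
import Cfsg.Agent.Lib.Helper4.CenterBound
import Cfsg.Agent.Lib.Helper4.ResInd
import Cfsg.Agent.Lib.Helper4.TwoClasses
import Cfsg.Agent.S4797
import Cfsg.Agent.S4798
import Cfsg.Agent.S0034

set_option autoImplicit false
open Cfsg

namespace Cfsg.Agent.S4796

open Cfsg.Agent.Lib.Helper4 Cfsg.Agent.Lib.Helper26

section grp

variable {G : Type*} [Group G]

theorem comm_of_prime_card (p : ℕ) [Fact p.Prime] (P : Subgroup G) (hPc : Nat.card P = p)
    (x y : G) (hx : x ∈ P) (hy : y ∈ P) : x * y = y * x := by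
  by_cases hx1 : x = 1
  · rw [hx1, one_mul, mul_one]
  · have hyx : (⟨y, hy⟩ : P) ∈ Subgroup.zpowers (⟨x, hx⟩ : P) :=
      mem_zpowers_of_prime_card hPc (by
        intro h
        apply hx1
        exact congrArg Subtype.val h)
    obtain ⟨i, hi⟩ := Subgroup.mem_zpowers_iff.mp hyx
    have hy' : y = x ^ i := by
      have := congrArg Subtype.val hi
      simpa using this.symm
    rw [hy']
    exact ((Commute.refl x).zpow_right i).eq

/-- Frobenius complement from a self-centralizing normal subgroup of prime order -/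
theorem frobenius_of_complement (p : ℕ) [Fact p.Prime] (P H : Subgroup G) [hPn : P.Normal]
    (hPc : Nat.card P = p) (hcent : Subgroup.centralizer (P : Set G) = P)
    (hHP : Subgroup.IsComplement' H P) (hH1 : H ≠ ⊥) :
    Cfsg.IsFrobeniusComplement H := by
  have hdisj : H ⊓ P = ⊥ := hHP.disjoint.eq_bot
  have hsup : H ⊔ P = ⊤ := hHP.sup_eq_top
  refine ⟨hH1, ?_, ?_⟩
  · intro htop
    rw [htop, top_inf_eq] at hdisj
    rw [hdisj, Subgroup.card_bot] at hPc
    exact (Fact.out : p.Prime).one_lt.ne hPc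
  · intro g hg
    rw [eq_bot_iff]
    intro h hh
    rw [Subgroup.mem_inf] at hh
    obtain ⟨hhH, hhg⟩ := hh
    rw [Cfsg.Agent.S0034.mem_conj_smul] at hhg
    rw [Subgroup.mem_bot]
    have hgmem : g ∈ H ⊔ P := hsup ▸ Subgroup.mem_top g
    obtain ⟨h₀, hh₀, x, hx, rfl⟩ := Subgroup.mem_sup_of_normal_right.mp hgmem
    have hx1 : x ≠ 1 := by
      rintro rfl
      apply hg
      rwa [mul_one]
    set h₂ := h₀⁻¹ * h * h₀ with hh₂
    have hh₂H : h₂ ∈ H := H.mul_mem (H.mul_mem (H.inv_mem hh₀) hhH) hh₀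
    have h₁H : x⁻¹ * h₂ * x ∈ H := by
      have : x⁻¹ * h₂ * x = (h₀ * x)⁻¹ * h * (h₀ * x) := by rw [hh₂]; group
      rw [this]
      exact hhg
    have hc : h₂⁻¹ * (x⁻¹ * h₂ * x) ∈ H ⊓ P := by
      refine Subgroup.mem_inf.mpr ⟨H.mul_mem (H.inv_mem hh₂H) h₁H, ?_⟩
      have : h₂⁻¹ * (x⁻¹ * h₂ * x) = (h₂⁻¹ * x⁻¹ * h₂⁻¹⁻¹) * x := by group
      rw [this]
      exact P.mul_mem (hPn.conj_mem _ (P.inv_mem hx) _) hx
    rw [hdisj, Subgroup.mem_bot] at hc
    have hcomm : h₂ * x = x * h₂ := by
      have h3 : x⁻¹ * h₂ * x = h₂ := by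
        calc x⁻¹ * h₂ * x = h₂ * (h₂⁻¹ * (x⁻¹ * h₂ * x)) := by group
          _ = h₂ := by rw [hc, mul_one]
      calc h₂ * x = x * (x⁻¹ * h₂ * x) := by group
        _ = x * h₂ := by rw [h3]
    have hh₂c : h₂ ∈ Subgroup.centralizer (P : Set G) := by
      rw [Subgroup.mem_centralizer_iff]
      intro y hy
      have hyx : (⟨y, hy⟩ : P) ∈ Subgroup.zpowers (⟨x, hx⟩ : P) :=
        mem_zpowers_of_prime_card hPc (by
          intro h
          apply hx1
          exact congrArg Subtype.val h)
      obtain ⟨i, hi⟩ := Subgroup.mem_zpowers_iff.mp hyx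
      have hy' : y = x ^ i := by
        have := congrArg Subtype.val hi
        simpa using this.symm
      rw [hy']
      exact ((Commute.zpow_right (show Commute h₂ x from hcomm) i).eq).symm
    rw [hcent] at hh₂c
    have h4 : h₂ ∈ H ⊓ P := ⟨hh₂H, hh₂c⟩
    rw [hdisj, Subgroup.mem_bot] at h4
    calc h = h₀ * h₂ * h₀⁻¹ := by rw [hh₂]; group
      _ = 1 := by rw [h4]; group

end grp

/-- Let G be a finite group with a faithful irreducible complex character χ whose codegree #G / χ(1) is a prime p (for a faithful character the kernel is trivial, so the codegree is #G / χ(1)). Then either G is cyclic of order p, or G is a Frobenius group whose Frobenius kernel has order p: some proper non-trivial subgroup H satisfies H ∩ gHg⁻¹ = 1 for every element g outside H, and the set of elements lying in no conjugate of H, together with the identity, has exactly p elements. -/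
theorem result {G : Type*} [Group G] [Finite G] (χ : Cfsg.IrrCharacter G) (hfaith : ∀ g : G, (χ : G → ℂ) g = (χ : G → ℂ) 1 → g = 1) (p : ℕ) (hp : p.Prime) (hcod : Nat.card G = p * Cfsg.charDegree (χ : G → ℂ)) : (IsCyclic G ∧ Nat.card G = p) ∨ ∃ H : Subgroup G, Cfsg.IsFrobeniusComplement H ∧ Nat.card ↥(Cfsg.frobeniusKernel H) = p := by
  classical
  have : Fintype G := Fintype.ofFinite G
  have : Fintype (Cfsg.IrrCharacter G) := Fintype.ofFinite _
  have : Fact p.Prime := ⟨hp⟩
  obtain ⟨n, ρ, hρ, hχρ⟩ := χ.2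
  have hfin : Module.finrank ℂ (Fin n → ℂ) = n := by simp
  have hdeg : Cfsg.charDegree (χ : G → ℂ) = n := by rw [← hχρ, charDegree_character, hfin]
  rw [hdeg] at hcod
  have hn0 : 0 < n := by
    have h1 := finrank_ne_zero_of_irreducible ρ hρ
    rw [hfin] at h1
    exact Nat.pos_of_ne_zero (fun h => h1 (by rw [h, Nat.cast_zero]))
  by_cases hn1 : n = 1
  · left
    have hc : Nat.card G = p := by rw [hcod, hn1, mul_one]
    exact ⟨isCyclic_of_prime_card hc, hc⟩
  right
  have hnp : n < p := by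
    have hsum := Cfsg.Agent.S4797.sum_sq_charDegree (Q := G)
    let τ : Cfsg.IrrCharacter G := ⟨fun _ => 1, isIrrCharacter_one⟩
    have hτd : Cfsg.charDegree (τ : G → ℂ) = 1 := by
      show ⌊((1 : ℂ)).re⌋₊ = 1
      simp
    have hτχ : τ ≠ χ := by
      intro h
      apply hn1
      rw [← hdeg, ← h, hτd]
    have hle : ∑ ψ ∈ ({χ, τ} : Finset (Cfsg.IrrCharacter G)), Cfsg.charDegree (ψ : G → ℂ) ^ 2 ≤
        ∑ ψ : Cfsg.IrrCharacter G, Cfsg.charDegree (ψ : G → ℂ) ^ 2 :=
      Finset.sum_le_sum_of_subset (Finset.subset_univ _)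
    rw [Finset.sum_pair hτχ.symm, hdeg, hτd, hsum, hcod] at hle
    by_contra hcon
    push Not at hcon
    have h2 : p * n ≤ n * n := Nat.mul_le_mul_right n hcon
    nlinarith
  have hpn : ¬ p ∣ n := Nat.not_dvd_of_pos_of_lt hn0 hnp
  let P : Sylow p G := default
  have hPcard : Nat.card (P : Subgroup G) = p := by
    rw [Sylow.card_eq_multiplicity, hcod, Nat.factorization_mul hp.ne_zero hn0.ne',
      Finsupp.add_apply, hp.factorization_self, Nat.factorization_eq_zero_of_not_dvd hpn, add_zero,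
      pow_one]
  have hidx : (P : Subgroup G).index = n := by
    have h1 := Subgroup.card_mul_index (P : Subgroup G)
    rw [hPcard, hcod] at h1
    exact Nat.eq_of_mul_eq_mul_left hp.pos h1
  have hPn : (P : Subgroup G).Normal := by
    have h1 := card_sylow_modEq_one p G
    have h2 := Sylow.card_dvd_index P
    rw [hidx] at h2
    have h3 : Nat.card (Sylow p G) ≤ n := Nat.le_of_dvd hn0 h2
    have h4 : Nat.card (Sylow p G) = 1 := by
      have h5 : Nat.card (Sylow p G) < p := lt_of_le_of_lt h3 hnp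
      have h6 : Nat.card (Sylow p G) % p = 1 % p := h1
      rw [Nat.mod_eq_of_lt h5, Nat.mod_eq_of_lt hp.one_lt] at h6
      exact h6
    have : Subsingleton (Sylow p G) := (Nat.card_eq_one_iff_unique.mp h4).1
    exact Sylow.normal_of_subsingleton P
  set K := Subgroup.centralizer ((P : Subgroup G) : Set G) with hK
  have hPK : (P : Subgroup G) ≤ K := by
    intro x hx
    rw [hK, Subgroup.mem_centralizer_iff]
    intro y hy
    exact comm_of_prime_card p (P : Subgroup G) hPcard y x hy hx
  have : Fintype K := Fintype.ofFinite _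
  have : Fintype (Cfsg.IrrCharacter K) := Fintype.ofFinite _
  have hres : IsCharacter K ((χ : G → ℂ) ∘ K.subtype) :=
    isCharacter_restrict _ (isCharacter_of_isIrrCharacter χ.2)
  obtain ⟨c, hc, hexp⟩ := Cfsg.Agent.S4798.char_decomp _ hres
  have hex : ∃ μ, c μ ≠ 0 := by
    by_contra hcon
    push Not at hcon
    have h1 := hexp 1
    simp only [hcon, Nat.cast_zero, zero_mul, Finset.sum_const_zero] at h1
    have h2 : (χ : G → ℂ) 1 = 0 := h1
    exact char_one_ne_zero' χ h2
  obtain ⟨μ, hμ⟩ := hex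
  obtain ⟨m', τ, hτ, hτμ⟩ := μ.2
  have hne : Cfsg.classInner (ρ.character ∘ K.subtype) τ.character ≠ 0 := by
    rw [hχρ, hτμ, hc μ]
    exact Nat.cast_ne_zero.mpr hμ
  have h3 := degree_le_index_mul ρ hρ K τ hne
  rw [hfin] at h3
  have hsubc : (P : Subgroup G).subgroupOf K ≤ Subgroup.center K := by
    intro a ha
    rw [Subgroup.mem_center_iff]
    intro k
    apply Subtype.ext
    rw [Subgroup.coe_mul, Subgroup.coe_mul]
    have hk : (k : G) ∈ Subgroup.centralizer ((P : Subgroup G) : Set G) := k.2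
    rw [Subgroup.mem_centralizer_iff] at hk
    exact (hk (a : G) (Subgroup.mem_subgroupOf.mp ha)).symm
  have h4 := sq_degree_mul_card_le τ hτ ((P : Subgroup G).subgroupOf K) hsubc
  have hfin' : Module.finrank ℂ (Fin m' → ℂ) = m' := by simp
  rw [hfin', Nat.card_congr (Subgroup.subgroupOfEquivOfLe hPK).toEquiv, hPcard] at h4
  have hm'0 : 0 < m' := by
    have h1 := finrank_ne_zero_of_irreducible τ hτ
    rw [hfin'] at h1
    exact Nat.pos_of_ne_zero (fun h => h1 (by rw [h, Nat.cast_zero]))
  have h5 := Subgroup.card_mul_index K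
  rw [hcod] at h5
  have hi0 : 0 < K.index := Nat.pos_of_ne_zero Subgroup.index_ne_zero_of_finite
  have hKcard : Nat.card K = p := by
    have e1 : Nat.card K * K.index ≤ p * m' * K.index := by
      rw [h5]
      calc p * n ≤ p * (K.index * m') := Nat.mul_le_mul_left p h3
        _ = p * m' * K.index := by ring
    have e2 : Nat.card K ≤ p * m' := Nat.le_of_mul_le_mul_right e1 hi0
    have e3 : m' ^ 2 * p ≤ p * m' := le_trans h4 e2
    have e4 : m' * m' ≤ m' := by
      have : p * (m' * m') ≤ p * m' := by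
        calc p * (m' * m') = m' ^ 2 * p := by ring
          _ ≤ p * m' := e3
      exact Nat.le_of_mul_le_mul_left this hp.pos
    have e5 : m' ≤ 1 := by nlinarith
    have e6 : m' = 1 := by omega
    rw [e6] at h4 e2
    omega
  have hcent : K = (P : Subgroup G) :=
    (Subgroup.eq_of_le_of_card_ge hPK (by rw [hKcard, hPcard])).symm
  have hcop : Nat.Coprime (Nat.card (P : Subgroup G)) (P : Subgroup G).index := by
    rw [hPcard, hidx]
    exact (Nat.Prime.coprime_iff_not_dvd hp).mpr hpn
  obtain ⟨H, hH⟩ := Subgroup.exists_left_complement'_of_coprime hcop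
  have hHcard : Nat.card H = n := by
    have h1 := hH.card_mul_card
    rw [hPcard, hcod, mul_comm] at h1
    exact Nat.eq_of_mul_eq_mul_left hp.pos h1
  have hH1 : H ≠ ⊥ := by
    intro h
    rw [h, Subgroup.card_bot] at hHcard
    exact hn1 hHcard.symm
  have hfrob := frobenius_of_complement p (P : Subgroup G) H hPcard hcent hH hH1
  refine ⟨H, hfrob, ?_⟩
  rw [Cfsg.Agent.S0034.card_kernel H hfrob]
  have h6 := Subgroup.card_mul_index H
  rw [hHcard, hcod, mul_comm p n] at h6
  exact Nat.eq_of_mul_eq_mul_left hn0 h6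

end Cfsg.Agent.S4796
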