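import Cfsg.Statements.S4801
import Cfsg.Agent.Lib.Helper4.TwoClasses
import Cfsg.Agent.S4797
import Cfsg.Agent.S4798

set_option autoImplicit false
open Cfsg

namespace Cfsg.Agent.S4801

open Cfsg.Agent.Lib.Helper4 Cfsg.Agent.Lib.Helper26

section

variable {S : Type*} [Group S] [Fintype S]

/-- an irreducible character that is constant equal to its degree is the trivial character -/
theorem eq_one_of_ker_top (χ : Cfsg.IrrCharacter S) (h : ∀ g : S, (χ : S → ℂ) g = (χ : S → ℂ) 1) :
    (χ : S → ℂ) = fun _ => (1 : ℂ) := by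
  classical
  have h0 := classInner_irr χ.2 (isIrrCharacter_one (G := S))
  by_cases hχ : (χ : S → ℂ) = fun _ => (1 : ℂ)
  · exact hχ
  · exfalso
    rw [if_neg hχ] at h0
    unfold Cfsg.classInner at h0
    have hne : (Nat.card S : ℂ)⁻¹ ≠ 0 := inv_ne_zero (Nat.cast_ne_zero.mpr Nat.card_pos.ne')
    have h1 := (mul_eq_zero.mp h0).resolve_left hne
    simp only [h, map_one, mul_one, Finset.sum_const, Finset.card_univ, nsmul_eq_mul] at h1
    rcases mul_eq_zero.mp h1 with h2 | h2
    · have : (Fintype.card S : ℂ) ≠ 0 := Nat.cast_ne_zero.mpr Fintype.card_pos.ne'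
      exact this h2
    · exact char_one_ne_zero' χ h2

/-- in a simple group, a nonprincipal irreducible character has trivial kernel -/
theorem card_ker_of_simple (hS : IsSimpleGroup S) (χ : Cfsg.IrrCharacter S)
    (hχ : (χ : S → ℂ) ≠ fun _ => (1 : ℂ)) :
    Nat.card {g : S // (χ : S → ℂ) g = (χ : S → ℂ) 1} = 1 := by
  have hker : charKer χ = ⊥ := by
    rcases (charKer_normal χ).eq_bot_or_eq_top with h | h
    · exact h
    · exfalso
      apply hχ
      apply eq_one_of_ker_top χ
      intro g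
      have : g ∈ charKer χ := h ▸ Subgroup.mem_top g
      exact this
  rw [Nat.card_eq_one_iff_unique]
  refine ⟨⟨?_⟩, ⟨⟨1, rfl⟩⟩⟩
  rintro ⟨a, ha⟩ ⟨b, hb⟩
  have ha' : a ∈ charKer χ := ha
  have hb' : b ∈ charKer χ := hb
  rw [hker, Subgroup.mem_bot] at ha' hb'
  apply Subtype.ext
  show a = b
  rw [ha', hb']

/-- for a prime `p` dividing `|S|` there is a nonprincipal character of degree prime to `p` -/
theorem exists_pprime_degree (p : ℕ) (hp : p.Prime) (hpS : p ∣ Nat.card S) :
    ∃ χ : Cfsg.IrrCharacter S, ((χ : S → ℂ) ≠ fun _ => (1 : ℂ)) ∧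
      ¬ p ∣ Cfsg.charDegree (χ : S → ℂ) := by
  classical
  have : Fintype (Cfsg.IrrCharacter S) := Fintype.ofFinite _
  by_contra hcon
  push Not at hcon
  have hsum := Cfsg.Agent.S4797.sum_sq_charDegree (Q := S)
  let τ : Cfsg.IrrCharacter S := ⟨fun _ => 1, isIrrCharacter_one⟩
  have hτd : Cfsg.charDegree (τ : S → ℂ) = 1 := by
    show ⌊((1 : ℂ)).re⌋₊ = 1
    simp
  rw [← Finset.add_sum_erase Finset.univ _ (Finset.mem_univ τ), hτd] at hsum
  have hdvd : p ∣ ∑ χ ∈ Finset.univ.erase τ, Cfsg.charDegree (χ : S → ℂ) ^ 2 := by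
    apply Finset.dvd_sum
    intro χ hχ
    have hne : (χ : S → ℂ) ≠ fun _ => (1 : ℂ) := by
      intro h
      exact Finset.ne_of_mem_erase hχ (Subtype.ext h)
    exact Dvd.dvd.pow (hcon χ hne) (by norm_num)
  rw [← hsum] at hpS
  have h1 : p ∣ 1 ^ 2 := (Nat.dvd_add_iff_left hdvd).mpr hpS
  rw [one_pow] at h1
  exact hp.one_lt.ne' (Nat.dvd_one.mp h1)

end

/-- The codegree of an irreducible complex character χ of a finite group G is [G : ker χ] / χ(1), where ker χ is the set of elements at which χ takes the value χ(1). Let S be a finite simple group and G a finite group such that every codegree of an irreducible character of S is a codegree of an irreducible character of G. Then the order of S divides the order of G. -/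
theorem result {S : Type*} [Group S] [Finite S] (hS : IsSimpleGroup S) {G : Type*} [Group G] [Finite G] (hsub : ∀ χ : Cfsg.IrrCharacter S, ∃ ψ : Cfsg.IrrCharacter G, (Nat.card S / (Nat.card {g : S // (χ : S → ℂ) g = (χ : S → ℂ) 1} * Cfsg.charDegree (χ : S → ℂ))) = (Nat.card G / (Nat.card {g : G // (ψ : G → ℂ) g = (ψ : G → ℂ) 1} * Cfsg.charDegree (ψ : G → ℂ)))) : Nat.card S ∣ Nat.card G := by
  classical
  have : Fintype S := Fintype.ofFinite S
  have : Fintype G := Fintype.ofFinite G
  have hS0 : Nat.card S ≠ 0 := Nat.card_pos.ne'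
  have hG0 : Nat.card G ≠ 0 := Nat.card_pos.ne'
  rw [← Nat.factorization_prime_le_iff_dvd hS0 hG0]
  intro p hp
  by_cases hpS : p ∣ Nat.card S
  · obtain ⟨χ, hχ1, hχp⟩ := exists_pprime_degree p hp hpS
    obtain ⟨ψ, hψ⟩ := hsub χ
    rw [card_ker_of_simple hS χ hχ1, one_mul] at hψ
    obtain ⟨_, hddvd, hd0⟩ := Cfsg.Agent.S4798.charDegree_irr χ
    obtain ⟨e, he⟩ := hddvd
    have hcod : Nat.card S / Cfsg.charDegree (χ : S → ℂ) = e := by
      rw [he]
      exact Nat.mul_div_cancel_left e hd0
    rw [hcod] at hψ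
    have he0 : e ≠ 0 := by
      rintro rfl
      rw [mul_zero] at he
      exact hS0 he
    have hfac : (Nat.card S).factorization p = e.factorization p := by
      rw [he, Nat.factorization_mul hd0.ne' he0, Finsupp.add_apply,
        Nat.factorization_eq_zero_of_not_dvd hχp, zero_add]
    have hedvd : e ∣ Nat.card G := by
      rw [hψ]
      obtain ⟨n, ρ, hρ, hρψ⟩ := ψ.2
      have h1 := card_ker_mul_degree_dvd ρ hρ
      rw [hρψ] at h1
      exact Nat.div_dvd_of_dvd h1
    rw [hfac]
    exact (Nat.factorization_le_iff_dvd he0 hG0).mpr hedvd p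
  · rw [Nat.factorization_eq_zero_of_not_dvd hpS]
    exact Nat.zero_le _

end Cfsg.Agent.S4801
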