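import Mathlib
import Cfsg.Statements.S4802
import Cfsg.Agent.Lib.Helper4.CommCount
import Cfsg.Agent.Lib.Helper4.BurnsideClass

set_option autoImplicit false
open Cfsg

namespace Cfsg.Agent.S4802

open Cfsg.Agent.Lib.Helper4
open scoped ComplexConjugate

section
variable {G : Type*} [Group G] [Fintype G]

/-- If `‖z‖ ≤ n` and `re z = n` then `z = n`. -/
theorem eq_of_norm_le_of_re_eq {z : ℂ} {n : ℝ} (h1 : ‖z‖ ≤ n) (h2 : z.re = n) : z = (n : ℂ) := by
  have hn : 0 ≤ n := le_trans (norm_nonneg z) h1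
  have h3 : ‖z‖ ^ 2 ≤ n ^ 2 := pow_le_pow_left₀ (norm_nonneg z) h1 2
  rw [Complex.sq_norm, Complex.normSq_apply, h2] at h3
  have h4 : z.im * z.im ≤ 0 := by nlinarith
  have h5 : z.im = 0 := by nlinarith [mul_self_nonneg z.im]
  apply Complex.ext
  · simp [h2]
  · simp [h5]

/-- If an irreducible character does not vanish at `g` and `χ(g y) = χ(g)` for all `y ∈ N`, then
`N` lies in the kernel of `χ`. -/
theorem const_on_of_ne_zero (N : Subgroup G) [N.Normal] (χ : Cfsg.IrrCharacter G) (g : G)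
    (hg : (χ : G → ℂ) g ≠ 0) (hconst : ∀ y ∈ N, (χ : G → ℂ) (g * y) = (χ : G → ℂ) g) :
    ∀ x ∈ N, (χ : G → ℂ) x = (χ : G → ℂ) 1 := by
  classical
  obtain ⟨n, ρ, hρ, hχ⟩ := χ.2
  have hfin : Module.finrank ℂ (Fin n → ℂ) = n := by simp
  have hone : (χ : G → ℂ) 1 = (n : ℂ) := by rw [← hχ, Representation.char_one, hfin]
  have hnorm : ∀ y : G, ‖(χ : G → ℂ) y‖ ≤ (n : ℝ) := by
    intro y
    rw [← hχ]
    have := norm_character_le ρ y
    rwa [hfin] at this
  obtain ⟨F, hFdef⟩ : ∃ F : G → ℂ, F = fun y => if y ∈ N then (1 : ℂ) else 0 := ⟨_, rfl⟩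
  have hF : Cfsg.IsClassFunction G F := by
    intro y k
    rw [hFdef]
    show (if k * y * k⁻¹ ∈ N then (1 : ℂ) else 0) = if y ∈ N then 1 else 0
    have : k * y * k⁻¹ ∈ N ↔ y ∈ N := by
      constructor
      · intro h
        have := ‹N.Normal›.conj_mem _ h k⁻¹
        have e : k⁻¹ * (k * y * k⁻¹) * k⁻¹⁻¹ = y := by group
        rwa [e] at this
      · intro h
        exact ‹N.Normal›.conj_mem _ h k
    simp only [this]
  have h1 := sum_mul_char_mul ρ hρ F hF g
  rw [hχ, hfin] at h1
  -- left side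
  have hL : ∑ y : G, F y * (χ : G → ℂ) (g * y) = (∑ y : G, F y) * (χ : G → ℂ) g := by
    rw [Finset.sum_mul]
    refine Finset.sum_congr rfl fun y _ => ?_
    rw [hFdef]
    by_cases hy : y ∈ N
    · simp only [if_pos hy, one_mul]
      exact hconst y hy
    · simp only [if_neg hy, zero_mul]
  rw [hL] at h1
  have h2 : ∑ y : G, F y = (∑ y : G, F y * (χ : G → ℂ) y) / (n : ℂ) :=
    mul_right_cancel₀ hg h1
  have hn0 : (n : ℂ) ≠ 0 := by
    rw [← hone, ← hχ, Representation.char_one, hfin]
    intro h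
    have hn : n = 0 := by exact_mod_cast h
    subst hn
    have := hρ
    have hb : (⊥ : Subrepresentation ρ) ≠ ⊤ := bot_ne_top
    apply hb
    apply Subrepresentation.toSubmodule_injective
    apply Subsingleton.elim
  have h3 : ∑ y : G, F y * ((n : ℂ) - (χ : G → ℂ) y) = 0 := by
    have : ∑ y : G, F y * ((n : ℂ) - (χ : G → ℂ) y) =
        (∑ y : G, F y) * (n : ℂ) - ∑ y : G, F y * (χ : G → ℂ) y := by
      rw [Finset.sum_mul, ← Finset.sum_sub_distrib]
      refine Finset.sum_congr rfl fun y _ => ?_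
      ring
    rw [this, h2]
    field_simp
    ring
  -- real parts
  have h4 : ∑ y : G, (F y * ((n : ℂ) - (χ : G → ℂ) y)).re = 0 := by
    rw [← Complex.re_sum, h3, Complex.zero_re]
  have hnonneg : ∀ y ∈ (Finset.univ : Finset G), 0 ≤ (F y * ((n : ℂ) - (χ : G → ℂ) y)).re := by
    intro y _
    rw [hFdef]
    by_cases hy : y ∈ N
    · simp only [if_pos hy, one_mul, Complex.sub_re, Complex.natCast_re]
      have := (Complex.re_le_norm ((χ : G → ℂ) y)).trans (hnorm y)
      linarith
    · simp only [if_neg hy, zero_mul, Complex.zero_re, le_refl]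
  have h5 := (Finset.sum_eq_zero_iff_of_nonneg hnonneg).mp h4
  intro x hx
  have h6 := h5 x (Finset.mem_univ x)
  rw [hFdef] at h6
  simp only [if_pos hx, one_mul, Complex.sub_re, Complex.natCast_re] at h6
  have h7 : ((χ : G → ℂ) x).re = (n : ℝ) := by linarith
  rw [hone]
  have := eq_of_norm_le_of_re_eq (hnorm x) h7
  rw [this]
  simp

end

/-- Let N < M be normal subgroups of the finite group G and g ∈ M ∖ N. Then the conjugacy class of g is exactly M ∖ N if and only if every irreducible complex character of G whose kernel contains N takes the same value at all elements of M ∖ N, and every irreducible complex character of G whose kernel does not contain N vanishes at g. -/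
theorem result {G : Type*} [Group G] [Finite G] (N M : Subgroup G) [N.Normal] [M.Normal] (hNM : N < M) (g : G) (hgM : g ∈ M) (hgN : g ∉ N) : {h : G | IsConj g h} = (M : Set G) \ (N : Set G) ↔ ((∀ χ : Cfsg.IrrCharacter G, (∀ x ∈ N, (χ : G → ℂ) x = (χ : G → ℂ) 1) → ∀ x ∈ M, x ∉ N → ∀ y ∈ M, y ∉ N → (χ : G → ℂ) x = (χ : G → ℂ) y) ∧ (∀ χ : Cfsg.IrrCharacter G, (∃ x ∈ N, (χ : G → ℂ) x ≠ (χ : G → ℂ) 1) → (χ : G → ℂ) g = 0)) := by
  classical
  haveI : Fintype G := Fintype.ofFinite G
  haveI : Fintype (Cfsg.IrrCharacter G) := Fintype.ofFinite _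
  constructor
  · intro hcl
    have hconj : ∀ x ∈ M, x ∉ N → IsConj g x := by
      intro x hxM hxN
      have : x ∈ {h : G | IsConj g h} := by
        rw [hcl]; exact ⟨hxM, hxN⟩
      exact this
    constructor
    · intro χ _ x hxM hxN y hyM hyN
      have hcf := isClassFunction_of_isIrrCharacter χ.2
      rw [← char_eq_of_isConj hcf (hconj x hxM hxN), ← char_eq_of_isConj hcf (hconj y hyM hyN)]
    · rintro χ ⟨x₀, hx₀N, hx₀⟩
      by_contra hg0
      apply hx₀
      apply const_on_of_ne_zero N χ g hg0 _ x₀ hx₀N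
      intro y hy
      have hcf := isClassFunction_of_isIrrCharacter χ.2
      have hgyM : g * y ∈ M := M.mul_mem hgM (hNM.le hy)
      have hgyN : g * y ∉ N := by
        intro h
        apply hgN
        have := N.mul_mem h (N.inv_mem hy)
        simpa using this
      exact (char_eq_of_isConj hcf (hconj _ hgyM hgyN)).symm
  · rintro ⟨hA, hB⟩
    ext y
    simp only [Set.mem_setOf_eq, Set.mem_diff, SetLike.mem_coe]
    constructor
    · intro hy
      obtain ⟨k, rfl⟩ := isConj_iff.mp hy
      refine ⟨‹M.Normal›.conj_mem g hgM k, ?_⟩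
      intro h
      apply hgN
      have := ‹N.Normal›.conj_mem _ h k⁻¹
      have e : k⁻¹ * (k * g * k⁻¹) * k⁻¹⁻¹ = g := by group
      rwa [e] at this
    · rintro ⟨hyM, hyN⟩
      by_contra hnc
      have hco := column_orthogonality g y
      rw [if_neg hnc] at hco
      have hre : (∑ χ : Cfsg.IrrCharacter G, (χ : G → ℂ) g * conj ((χ : G → ℂ) y)).re = 0 := by
        rw [hco]; simp
      rw [Complex.re_sum] at hre
      have hnonneg : ∀ χ ∈ (Finset.univ : Finset (Cfsg.IrrCharacter G)),
          0 ≤ ((χ : G → ℂ) g * conj ((χ : G → ℂ) y)).re := by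
        intro χ _
        by_cases hk : ∀ x ∈ N, (χ : G → ℂ) x = (χ : G → ℂ) 1
        · rw [hA χ hk y hyM hyN g hgM hgN, Complex.mul_conj]
          simp only [Complex.ofReal_re]
          exact Complex.normSq_nonneg _
        · push Not at hk
          rw [hB χ hk, zero_mul, Complex.zero_re]
      have hzero := (Finset.sum_eq_zero_iff_of_nonneg hnonneg).mp hre
      have h1 := hzero ⟨fun _ => 1, isIrrCharacter_one⟩ (Finset.mem_univ _)
      simp at h1

end Cfsg.Agent.S4802
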