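import Cfsg.Statements.S4808
import Cfsg.Agent.Lib.Helper4.Deflate

set_option autoImplicit false
open Cfsg

namespace Cfsg.Agent.S4808

open Cfsg.Agent.Lib.Helper4

/-- in a group all of whose nontrivial normal subgroups have index prime to `p`, with `p`
dividing the order, there is a faithful irreducible character of degree prime to `p` -/
theorem key {Q : Type*} [Group Q] [Fintype Q] (p : ℕ) (hp : p.Prime) (hpQ : p ∣ Nat.card Q)
    (hmax : ∀ K : Subgroup Q, K.Normal → K ≠ ⊥ → ¬ p ∣ K.index) :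
    ∃ χ : Cfsg.IrrCharacter Q, (∀ g : Q, (χ : Q → ℂ) g = (χ : Q → ℂ) 1 → g = 1) ∧
      ¬ p ∣ Cfsg.charDegree (χ : Q → ℂ) := by
  classical
  have : Fintype (Cfsg.IrrCharacter Q) := Fintype.ofFinite _
  have hnt : Nontrivial Q := by
    rw [← Finite.one_lt_card_iff_nontrivial]
    exact lt_of_lt_of_le hp.one_lt (Nat.le_of_dvd Nat.card_pos hpQ)
  -- a nontrivial normal subgroup of minimal order
  obtain ⟨M, ⟨hMn, hM1⟩, hMmin⟩ := Set.exists_min_image
    {K : Subgroup Q | K.Normal ∧ K ≠ ⊥} (fun K => Nat.card K) (Set.toFinite _)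
    ⟨⊤, inferInstance, top_ne_bot⟩
  haveI := hMn
  have hpidx : ¬ p ∣ M.index := hmax M hMn hM1
  have hpM : p ∣ Nat.card M := by
    have h1 := Subgroup.card_mul_index M
    rw [← h1] at hpQ
    exact (hp.dvd_mul.mp hpQ).resolve_right hpidx
  -- degrees as naturals
  have hdeg : ∀ χ : Cfsg.IrrCharacter Q, (χ : Q → ℂ) 1 = (Cfsg.charDegree (χ : Q → ℂ) : ℂ) := by
    intro χ
    obtain ⟨n, ρ, hρ, hχ⟩ := χ.2
    rw [← hχ, charDegree_character, Representation.char_one]
  have hsumall : ∑ χ : Cfsg.IrrCharacter Q, (χ : Q → ℂ) 1 ^ 2 = (Nat.card Q : ℂ) := by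
    have h1 := Cfsg.Agent.S0134.result (G := Q)
    rwa [finsum_eq_sum_of_fintype] at h1
  have hsumM := sum_sq_degree_ker (G := Q) M
  have hsplit := Finset.sum_filter_add_sum_filter_not (Finset.univ : Finset (Cfsg.IrrCharacter Q))
    (fun χ : Cfsg.IrrCharacter Q => ∀ n ∈ M, (χ : Q → ℂ) n = (χ : Q → ℂ) 1)
    (fun χ => (χ : Q → ℂ) 1 ^ 2)
  rw [hsumall, hsumM] at hsplit
  have hnat : M.index + ∑ χ ∈ Finset.univ.filter (fun χ : Cfsg.IrrCharacter Q =>
      ¬ ∀ n ∈ M, (χ : Q → ℂ) n = (χ : Q → ℂ) 1), Cfsg.charDegree (χ : Q → ℂ) ^ 2 =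
      Nat.card Q := by
    have : ((M.index + ∑ χ ∈ Finset.univ.filter (fun χ : Cfsg.IrrCharacter Q =>
      ¬ ∀ n ∈ M, (χ : Q → ℂ) n = (χ : Q → ℂ) 1), Cfsg.charDegree (χ : Q → ℂ) ^ 2 : ℕ) : ℂ) =
      (Nat.card Q : ℂ) := by
      rw [← hsplit]
      push_cast
      congr 1
      refine Finset.sum_congr rfl fun χ _ => ?_
      rw [hdeg χ]
    exact_mod_cast this
  have hex : ∃ χ : Cfsg.IrrCharacter Q, (¬ ∀ n ∈ M, (χ : Q → ℂ) n = (χ : Q → ℂ) 1) ∧
      ¬ p ∣ Cfsg.charDegree (χ : Q → ℂ) := by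
    by_contra hcon0
    have hcon : ∀ χ : Cfsg.IrrCharacter Q, (¬ ∀ n ∈ M, (χ : Q → ℂ) n = (χ : Q → ℂ) 1) →
        p ∣ Cfsg.charDegree (χ : Q → ℂ) := by
      intro χ h
      by_contra h2
      exact hcon0 ⟨χ, h, h2⟩
    have h1 : p ∣ ∑ χ ∈ Finset.univ.filter (fun χ : Cfsg.IrrCharacter Q =>
        ¬ ∀ n ∈ M, (χ : Q → ℂ) n = (χ : Q → ℂ) 1), Cfsg.charDegree (χ : Q → ℂ) ^ 2 := by
      apply Finset.dvd_sum
      intro χ hχ
      have := hcon χ (Finset.mem_filter.mp hχ).2
      exact dvd_pow this two_ne_zero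
    have h2 : p ∣ M.index := by
      rw [← Nat.dvd_add_left h1, hnat]
      exact hpQ
    exact hpidx h2
  obtain ⟨χ, hχM, hχp⟩ := hex
  refine ⟨χ, ?_, hχp⟩
  obtain ⟨n, ρ, hρ, hχ⟩ := χ.2
  set K : Subgroup Q := MonoidHom.ker ρ with hK
  have hKn : K.Normal := MonoidHom.normal_ker ρ
  have hKbot : K = ⊥ := by
    by_contra hK1
    have hpK : ¬ p ∣ K.index := hmax K hKn hK1
    have hMK : M ⊓ K = ⊥ := by
      by_contra hne
      have hn : (M ⊓ K).Normal := inferInstance
      have h1 := hMmin (M ⊓ K) ⟨hn, hne⟩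
      have h2 : M ⊓ K = M := Subgroup.eq_of_le_of_card_ge inf_le_left h1
      apply hχM
      intro m hm
      have hmK : m ∈ K := by
        have : m ∈ M ⊓ K := by rw [h2]; exact hm
        exact this.2
      rw [← hχ]
      exact (character_eq_one_iff_mem_ker ρ m).mpr hmK
    have hinj : Function.Injective ((QuotientGroup.mk' K).comp M.subtype) := by
      rw [injective_iff_map_eq_one]
      intro m hm
      have h1 : (m : Q) ∈ K := by
        have : (QuotientGroup.mk' K) (m : Q) = 1 := hm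
        exact (QuotientGroup.eq_one_iff _).mp this
      have h2 : (m : Q) ∈ M ⊓ K := ⟨m.2, h1⟩
      rw [hMK, Subgroup.mem_bot] at h2
      exact Subtype.ext h2
    have hdvd := Subgroup.card_dvd_of_injective _ hinj
    rw [← Subgroup.index_eq_card] at hdvd
    exact hpK (hpM.trans hdvd)
  intro g hg
  rw [← hχ] at hg
  have := (character_eq_one_iff_mem_ker ρ g).mp hg
  rw [← hK, hKbot, Subgroup.mem_bot] at this
  exact this

/-- The codegree of an irreducible complex character χ of a finite group G is [G : ker χ] / χ(1), where ker χ is the set of elements at which χ takes the value χ(1). A prime divides the order of G if and only if it divides the codegree of some irreducible complex character of G. -/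
theorem result {G : Type*} [Group G] [Finite G] (p : ℕ) (hp : p.Prime) : p ∣ Nat.card G ↔ ∃ χ : Cfsg.IrrCharacter G, p ∣ (Nat.card G / (Nat.card {g : G // (χ : G → ℂ) g = (χ : G → ℂ) 1} * Cfsg.charDegree (χ : G → ℂ))) := by
  classical
  have : Fintype G := Fintype.ofFinite G
  constructor
  · intro hpG
    -- a normal subgroup of maximal order with index divisible by p
    obtain ⟨N, ⟨hNn, hNp⟩, hNmax⟩ := Set.exists_max_image
      {N : Subgroup G | N.Normal ∧ p ∣ N.index} (fun N => Nat.card N) (Set.toFinite _)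
      ⟨⊥, inferInstance, by rw [Subgroup.index_bot]; exact hpG⟩
    haveI := hNn
    have : Fintype (G ⧸ N) := Fintype.ofFinite _
    have hpQ : p ∣ Nat.card (G ⧸ N) := by rw [← Subgroup.index_eq_card]; exact hNp
    have hmax : ∀ K : Subgroup (G ⧸ N), K.Normal → K ≠ ⊥ → ¬ p ∣ K.index := by
      intro K hKn hK1 hpK
      haveI := hKn
      set N' : Subgroup G := K.comap (QuotientGroup.mk' N) with hN'
      have hN'n : N'.Normal := inferInstance
      have hidx : N'.index = K.index :=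
        Subgroup.index_comap_of_surjective K (QuotientGroup.mk'_surjective N)
      have hle : N ≤ N' := by
        intro x hx
        rw [hN', Subgroup.mem_comap]
        have : (QuotientGroup.mk' N) x = 1 := (QuotientGroup.eq_one_iff x).mpr hx
        rw [this]
        exact K.one_mem
      have hcard := hNmax N' ⟨hN'n, by rw [hidx]; exact hpK⟩
      have hEq : N = N' := Subgroup.eq_of_le_of_card_ge hle hcard
      apply hK1
      rw [← Subgroup.map_comap_eq_self_of_surjective (QuotientGroup.mk'_surjective N) K, ← hN',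
        ← hEq, QuotientGroup.map_mk'_self]
    obtain ⟨ψ, hψf, hψp⟩ := key p hp hpQ hmax
    let π : G →* G ⧸ N := QuotientGroup.mk' N
    have hπ : Function.Surjective π := QuotientGroup.mk'_surjective N
    let χ : Cfsg.IrrCharacter G :=
      ⟨(ψ : G ⧸ N → ℂ) ∘ π, isIrrCharacter_comp_of_surjective ψ.2 π hπ⟩
    refine ⟨χ, ?_⟩
    have hχ1 : (χ : G → ℂ) 1 = (ψ : G ⧸ N → ℂ) 1 := by
      show (ψ : G ⧸ N → ℂ) (π 1) = _
      rw [map_one]
    have hker : Nat.card {g : G // (χ : G → ℂ) g = (χ : G → ℂ) 1} = Nat.card N := by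
      apply Nat.card_congr
      apply Equiv.subtypeEquivRight
      intro g
      rw [hχ1]
      show (ψ : G ⧸ N → ℂ) (π g) = (ψ : G ⧸ N → ℂ) 1 ↔ g ∈ N
      constructor
      · intro h
        exact (QuotientGroup.eq_one_iff g).mp (hψf _ h)
      · intro h
        have : π g = 1 := (QuotientGroup.eq_one_iff g).mpr h
        rw [this]
    have hdeg : Cfsg.charDegree (χ : G → ℂ) = Cfsg.charDegree (ψ : G ⧸ N → ℂ) := by
      unfold Cfsg.charDegree
      rw [hχ1]
    rw [hker, hdeg, ← Subgroup.card_mul_index N, Nat.mul_div_mul_left _ _ Nat.card_pos]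
    -- the degree divides the order of the quotient
    obtain ⟨n, ρ, hρ, hρψ⟩ := ψ.2
    have hd : Cfsg.charDegree (ψ : G ⧸ N → ℂ) ∣ N.index := by
      rw [← hρψ, charDegree_character, Subgroup.index_eq_card]
      exact degree_dvd_card ρ hρ
    obtain ⟨c, hc⟩ := hd
    have hdpos : 0 < Cfsg.charDegree (ψ : G ⧸ N → ℂ) := by
      rcases Nat.eq_zero_or_pos (Cfsg.charDegree (ψ : G ⧸ N → ℂ)) with h0 | h0
      · exfalso
        rw [h0, zero_mul] at hc
        have : 0 < N.index := Nat.pos_of_ne_zero Subgroup.index_ne_zero_of_finite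
        omega
      · exact h0
    rw [hc, Nat.mul_div_cancel_left _ hdpos]
    rw [hc] at hNp
    exact (hp.dvd_mul.mp hNp).resolve_left hψp
  · rintro ⟨χ, hχ⟩
    obtain ⟨n, ρ, hρ, hρχ⟩ := χ.2
    have h1 := card_ker_mul_degree_dvd ρ hρ
    rw [hρχ] at h1
    exact hχ.trans (Nat.div_dvd_of_dvd h1)

end Cfsg.Agent.S4808
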