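import Mathlib
import Cfsg.Statements.S4814
import Cfsg.Agent.Lib.Helper4.CommCount
import Cfsg.Agent.Lib.Helper4.BurnsideClass

set_option autoImplicit false
open Cfsg

namespace Cfsg.Agent.S4814

open Cfsg.Agent.Lib.Helper4
open scoped ComplexConjugate

section
variable {G : Type*} [Group G] [Fintype G]

/-- value at `1` of an irreducible character is a positive natural number -/
theorem irr_one (χ : Cfsg.IrrCharacter G) : ∃ n : ℕ, 0 < n ∧ (χ : G → ℂ) 1 = (n : ℂ) ∧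
    ∀ g : G, ‖(χ : G → ℂ) g‖ ≤ (n : ℝ) := by
  obtain ⟨n, ρ, hρ, hχ⟩ := χ.2
  have hfin : Module.finrank ℂ (Fin n → ℂ) = n := by simp
  refine ⟨n, ?_, ?_, ?_⟩
  · by_contra h0
    have hn : n = 0 := by omega
    subst hn
    have := hρ
    have h1 : (⊥ : Subrepresentation ρ) ≠ ⊤ := by
      exact bot_ne_top
    apply h1
    apply Subrepresentation.toSubmodule_injective
    apply Subsingleton.elim
  · rw [← hχ, Representation.char_one, hfin]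
  · intro g
    rw [← hχ]
    have := norm_character_le ρ g
    rwa [hfin] at this

/-- generalized orthogonality for two irreducible characters -/
theorem sum_inv_mul (χ ψ : Cfsg.IrrCharacter G) (x : G) :
    ∑ h : G, (χ : G → ℂ) h⁻¹ * (ψ : G → ℂ) (x * h) =
      if χ = ψ then (Nat.card G : ℂ) / (ψ : G → ℂ) 1 * (ψ : G → ℂ) x else 0 := by
  classical
  obtain ⟨m, σ, hσ, hψ⟩ := ψ.2
  obtain ⟨n, ρ, hρ, hχ⟩ := χ.2
  have hF : Cfsg.IsClassFunction G (fun a => (χ : G → ℂ) a⁻¹) := by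
    intro g k
    show (χ : G → ℂ) (k * g * k⁻¹)⁻¹ = (χ : G → ℂ) g⁻¹
    have : (k * g * k⁻¹)⁻¹ = k * g⁻¹ * k⁻¹ := by group
    rw [this, ← hχ, Representation.char_conj]
  have h1 := sum_mul_char_mul σ hσ _ hF x
  rw [hψ] at h1
  rw [h1]
  have h2 : ∑ g : G, (χ : G → ℂ) g⁻¹ * (ψ : G → ℂ) g =
      (Nat.card G : ℂ) * Cfsg.classInner (ψ : G → ℂ) (χ : G → ℂ) := by
    unfold Cfsg.classInner
    rw [← mul_assoc, mul_inv_cancel₀ card_ne_zero_complex, one_mul]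
    refine Finset.sum_congr rfl fun g _ => ?_
    rw [← hχ, character_inv, mul_comm]
  rw [h2, classInner_irr]
  have hone : (ψ : G → ℂ) 1 = (Module.finrank ℂ (Fin m → ℂ) : ℂ) := by
    rw [← hψ, Representation.char_one]
  by_cases hcp : χ = ψ
  · rw [if_pos hcp, if_pos hcp.symm, mul_one, hone]
  · rw [if_neg hcp, if_neg (fun h => hcp h.symm), mul_zero, zero_div, zero_mul]

theorem irr_one_ne_zero (χ : Cfsg.IrrCharacter G) : (χ : G → ℂ) 1 ≠ 0 := by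
  obtain ⟨n, hn, h1, -⟩ := irr_one χ
  rw [h1]
  exact_mod_cast hn.ne'

/-- convolution of the commutator-count function with itself -/
theorem sum_conv [Fintype (Cfsg.IrrCharacter G)] (N : G → ℂ)
    (hN : ∀ h, N h = (Nat.card G : ℂ) * ∑ χ : Cfsg.IrrCharacter G, (χ : G → ℂ) h⁻¹ / (χ : G → ℂ) 1)
    (g : G) :
    ∑ h : G, N h * N (h⁻¹ * g) =
      (Nat.card G : ℂ) ^ 3 * ∑ χ : Cfsg.IrrCharacter G, (χ : G → ℂ) g⁻¹ / ((χ : G → ℂ) 1) ^ 3 := by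
  classical
  have e1 : ∀ h : G, N h * N (h⁻¹ * g) = (Nat.card G : ℂ) ^ 2 *
      ∑ χ : Cfsg.IrrCharacter G, ∑ ψ : Cfsg.IrrCharacter G,
        ((χ : G → ℂ) h⁻¹ * (ψ : G → ℂ) (g⁻¹ * h)) / ((χ : G → ℂ) 1 * (ψ : G → ℂ) 1) := by
    intro h
    rw [hN h, hN (h⁻¹ * g)]
    have : (h⁻¹ * g)⁻¹ = g⁻¹ * h := by group
    rw [this]
    have e2 : ((Nat.card G : ℂ) * ∑ χ : Cfsg.IrrCharacter G, (χ : G → ℂ) h⁻¹ / (χ : G → ℂ) 1) *
        ((Nat.card G : ℂ) * ∑ ψ : Cfsg.IrrCharacter G, (ψ : G → ℂ) (g⁻¹ * h) / (ψ : G → ℂ) 1) =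
        (Nat.card G : ℂ) ^ 2 * ((∑ χ : Cfsg.IrrCharacter G, (χ : G → ℂ) h⁻¹ / (χ : G → ℂ) 1) *
          (∑ ψ : Cfsg.IrrCharacter G, (ψ : G → ℂ) (g⁻¹ * h) / (ψ : G → ℂ) 1)) := by ring
    rw [e2, Finset.sum_mul_sum]
    congr 1
    refine Finset.sum_congr rfl fun χ _ => Finset.sum_congr rfl fun ψ _ => ?_
    rw [div_mul_div_comm]
  simp_rw [e1]
  rw [← Finset.mul_sum, Finset.sum_comm]
  have e3 : ∀ χ : Cfsg.IrrCharacter G, ∑ h : G, ∑ ψ : Cfsg.IrrCharacter G,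
      ((χ : G → ℂ) h⁻¹ * (ψ : G → ℂ) (g⁻¹ * h)) / ((χ : G → ℂ) 1 * (ψ : G → ℂ) 1) =
      (Nat.card G : ℂ) * ((χ : G → ℂ) g⁻¹ / ((χ : G → ℂ) 1) ^ 3) := by
    intro χ
    rw [Finset.sum_comm]
    have e4 : ∀ ψ : Cfsg.IrrCharacter G, ∑ h : G,
        ((χ : G → ℂ) h⁻¹ * (ψ : G → ℂ) (g⁻¹ * h)) / ((χ : G → ℂ) 1 * (ψ : G → ℂ) 1) =
        (if χ = ψ then (Nat.card G : ℂ) / (ψ : G → ℂ) 1 * (ψ : G → ℂ) g⁻¹ else 0) /
          ((χ : G → ℂ) 1 * (ψ : G → ℂ) 1) := by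
      intro ψ
      rw [← Finset.sum_div, sum_inv_mul]
    simp_rw [e4]
    rw [Finset.sum_eq_single χ]
    · rw [if_pos rfl]
      have h0 := irr_one_ne_zero χ
      field_simp
    · intro ψ _ hne
      rw [if_neg (fun h => hne h.symm), zero_div]
    · intro h
      exact absurd (Finset.mem_univ χ) h
  simp_rw [e3]
  rw [← Finset.mul_sum, ← mul_assoc]
  ring

end

/-- Let `G` be a finite group such that the sum, over the irreducible complex characters χ of G, of 1/χ(1)² is less than 2. Then every element of G is a product of two commutators. -/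
theorem result {G : Type*} [Group G] [Finite G]
    (h : ∑ᶠ χ : Cfsg.IrrCharacter G, 1 / ‖(χ : G → ℂ) 1‖ ^ 2 < (2 : ℝ)) (g : G) :
    ∃ a b c d : G, (a * b * a⁻¹ * b⁻¹) * (c * d * c⁻¹ * d⁻¹) = g := by
  classical
  haveI : Fintype G := Fintype.ofFinite G
  haveI : Fintype (Cfsg.IrrCharacter G) := Fintype.ofFinite _
  by_contra hno
  push Not at hno
  obtain ⟨N, hNdef⟩ : ∃ N : G → ℂ, N = fun k =>
    ((Finset.univ.filter (fun p : G × G => p.1 * p.2 * p.1⁻¹ * p.2⁻¹ = k)).card : ℂ) := ⟨_, rfl⟩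
  have hN : ∀ k, N k = (Nat.card G : ℂ) *
      ∑ χ : Cfsg.IrrCharacter G, (χ : G → ℂ) k⁻¹ / (χ : G → ℂ) 1 := by
    intro k
    rw [hNdef]
    convert card_commutator_pairs k using 3
  have hzero : ∀ k : G, N k * N (k⁻¹ * g) = 0 := by
    intro k
    by_contra hne
    obtain ⟨h1, h2⟩ := mul_ne_zero_iff.mp hne
    rw [hNdef] at h1 h2
    simp only [ne_eq, Nat.cast_eq_zero, Finset.card_eq_zero] at h1 h2
    obtain ⟨⟨a, b⟩, hab⟩ := Finset.nonempty_iff_ne_empty.mpr h1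
    obtain ⟨⟨c, d⟩, hcd⟩ := Finset.nonempty_iff_ne_empty.mpr h2
    rw [Finset.mem_filter] at hab hcd
    apply hno a b c d
    rw [hab.2, hcd.2]
    group
  have hsum := sum_conv N hN g
  simp_rw [hzero] at hsum
  rw [Finset.sum_const_zero] at hsum
  have hS : ∑ χ : Cfsg.IrrCharacter G, (χ : G → ℂ) g⁻¹ / ((χ : G → ℂ) 1) ^ 3 = 0 := by
    rcases mul_eq_zero.mp hsum.symm with h1 | h1
    · exact absurd (pow_eq_zero_iff (by norm_num) |>.mp h1) card_ne_zero_complex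
    · exact h1
  -- the trivial character
  obtain ⟨χ₀, hχ₀⟩ : ∃ χ₀ : Cfsg.IrrCharacter G, (χ₀ : G → ℂ) = fun _ => 1 :=
    ⟨⟨fun _ => 1, isIrrCharacter_one⟩, rfl⟩
  rw [← Finset.add_sum_erase Finset.univ _ (Finset.mem_univ χ₀)] at hS
  have h0 : (χ₀ : G → ℂ) g⁻¹ / ((χ₀ : G → ℂ) 1) ^ 3 = 1 := by
    rw [hχ₀]; norm_num
  rw [h0] at hS
  have hrest : ∑ χ ∈ Finset.univ.erase χ₀, (χ : G → ℂ) g⁻¹ / ((χ : G → ℂ) 1) ^ 3 = -1 := by
    rw [← sub_eq_zero, sub_neg_eq_add, add_comm]; exact hS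
  have hnorm : (1 : ℝ) ≤ ∑ χ ∈ Finset.univ.erase χ₀, 1 / ‖(χ : G → ℂ) 1‖ ^ 2 := by
    have h1 : ‖∑ χ ∈ Finset.univ.erase χ₀, (χ : G → ℂ) g⁻¹ / ((χ : G → ℂ) 1) ^ 3‖ = 1 := by
      rw [hrest]; simp
    have hb : ‖∑ χ ∈ Finset.univ.erase χ₀, (χ : G → ℂ) g⁻¹ / ((χ : G → ℂ) 1) ^ 3‖ ≤
        ∑ χ ∈ Finset.univ.erase χ₀, 1 / ‖(χ : G → ℂ) 1‖ ^ 2 := ?_
    · rw [h1] at hb; exact hb
    refine (norm_sum_le _ _).trans (Finset.sum_le_sum fun χ _ => ?_)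
    obtain ⟨n, hn, hn1, hnb⟩ := irr_one χ
    rw [norm_div, norm_pow, hn1]
    have hnn : ‖(n : ℂ)‖ = (n : ℝ) := by simp
    rw [hnn]
    have hnpos : (0 : ℝ) < n := by exact_mod_cast hn
    rw [div_le_div_iff₀ (by positivity) (by positivity)]
    have := hnb g⁻¹
    calc ‖(χ : G → ℂ) g⁻¹‖ * (n : ℝ) ^ 2 ≤ (n : ℝ) * (n : ℝ) ^ 2 :=
          mul_le_mul_of_nonneg_right this (by positivity)
      _ = 1 * (n : ℝ) ^ 3 := by ring
  rw [finsum_eq_sum_of_fintype] at h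
  rw [← Finset.add_sum_erase Finset.univ _ (Finset.mem_univ χ₀)] at h
  have h00 : 1 / ‖(χ₀ : G → ℂ) 1‖ ^ 2 = (1 : ℝ) := by
    rw [hχ₀]; norm_num
  rw [h00] at h
  linarith

end Cfsg.Agent.S4814
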