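import Cfsg.Statements.S4835
import Cfsg.Agent.Lib.Helper4.TwoClasses

set_option autoImplicit false
open Cfsg

namespace Cfsg.Agent.S4835

/-- Let G be a finite group of order greater than 2 with an irreducible character χ that is nonzero on exactly two conjugacy classes. Then G has a unique minimal normal subgroup N; N is an elementary abelian p-group for some prime p; χ is nonzero exactly at the elements of N; and any two nonidentity elements of N are conjugate in G. -/
theorem result {G : Type*} [Group G] [Finite G] (hG : 2 < Nat.card G) (χ : Cfsg.IrrCharacter G) (hχ : Nat.card {C : ConjClasses G // ∃ g ∈ C.carrier, (χ : G → ℂ) g ≠ 0} = 2) :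
    ∃ N : Subgroup G, N.Normal ∧ N ≠ ⊥ ∧ (∀ K : Subgroup G, K.Normal → K ≠ ⊥ → N ≤ K) ∧
      (∃ p : ℕ, p.Prime ∧ Cfsg.IsElementaryAbelian p N) ∧
      (∀ g : G, (χ : G → ℂ) g ≠ 0 ↔ g ∈ N) ∧
      (∀ x ∈ N, ∀ y ∈ N, x ≠ 1 → y ≠ 1 → ∃ g : G, g * x * g⁻¹ = y) := by
  classical
  have : Fintype G := Fintype.ofFinite G
  have : Fintype (Cfsg.IrrCharacter G) := Fintype.ofFinite _
  obtain ⟨g, hg1, hg, hsupp⟩ := Cfsg.Agent.Lib.Helper4.two_classes_rep χ hχ
  set N := Subgroup.normalClosure ({g} : Set G) with hN
  have hNn : N.Normal := Subgroup.normalClosure_normal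
  have hgN : g ∈ N := Subgroup.subset_normalClosure (Set.mem_singleton g)
  have hmem : ∀ x : G, (χ : G → ℂ) x ≠ 0 ↔ x ∈ N := by
    intro x
    constructor
    · intro hx
      rcases hsupp x hx with h | h
      · rw [h]
        exact N.one_mem
      · obtain ⟨c, hc⟩ := isConj_iff.mp h
        rw [← hc]
        exact hNn.conj_mem g hgN c
    · intro hx
      by_cases hx1 : x = 1
      · rw [hx1]
        exact Cfsg.Agent.Lib.Helper4.char_one_ne_zero' χ
      · exact Cfsg.Agent.Lib.Helper4.two_classes_closure hG χ g hg1 hsupp x hx hx1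
  have hconj : ∀ x ∈ N, x ≠ 1 → IsConj g x := by
    intro x hx hx1
    rcases hsupp x ((hmem x).mpr hx) with h | h
    · exact absurd h hx1
    · exact h
  refine ⟨N, hNn, ?_, ?_, ?_, hmem, ?_⟩
  · intro h
    rw [h, Subgroup.mem_bot] at hgN
    exact hg1 hgN
  · intro K hK hK1
    have := hK
    have hfilter : Finset.univ.filter (fun ψ : Cfsg.IrrCharacter G =>
        ∀ n ∈ K, (ψ : G → ℂ) n = (ψ : G → ℂ) 1) =
        Finset.univ.filter (fun ψ : Cfsg.IrrCharacter G =>
        ∀ n ∈ K ⊔ N, (ψ : G → ℂ) n = (ψ : G → ℂ) 1) := by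
      ext ψ
      simp only [Finset.mem_filter, Finset.mem_univ, true_and]
      constructor
      · intro h
        have hψ : ψ ≠ χ := by
          rintro rfl
          rcases K.bot_or_exists_ne_one with hb | ⟨k, hk, hk1⟩
          · exact hK1 hb
          · exact hk1 (Cfsg.Agent.Lib.Helper4.two_classes_faithful hG ψ g hg1 hsupp k (h k hk))
        have hK' : K ≤ Cfsg.Agent.Lib.Helper4.charKer ψ := fun k hk => h k hk
        have hN' : N ≤ Cfsg.Agent.Lib.Helper4.charKer ψ := by
          apply Subgroup.normalClosure_le_normal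
          intro y hy
          rw [Set.mem_singleton_iff] at hy
          subst hy
          exact Cfsg.Agent.Lib.Helper4.two_classes_other hG χ y hg1 hsupp ψ hψ
        intro n hn
        exact (sup_le hK' hN') hn
      · intro h n hn
        exact h n ((le_sup_left : K ≤ K ⊔ N) hn)
    have h1 := Cfsg.Agent.Lib.Helper4.sum_sq_degree_ker K
    have h2 := Cfsg.Agent.Lib.Helper4.sum_sq_degree_ker (K ⊔ N)
    rw [hfilter] at h1
    have h3 : (K.index : ℂ) = ((K ⊔ N).index : ℂ) := h1.symm.trans h2
    have h4 : K.index = (K ⊔ N).index := by exact_mod_cast h3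
    have h5 : K = K ⊔ N := by
      apply Subgroup.eq_of_le_of_card_ge le_sup_left
      have e1 := Subgroup.card_mul_index K
      have e2 := Subgroup.card_mul_index (K ⊔ N)
      rw [h4] at e1
      have hpos : 0 < (K ⊔ N).index := Nat.pos_of_ne_zero Subgroup.index_ne_zero_of_finite
      have : Nat.card K = Nat.card (K ⊔ N : Subgroup G) :=
        Nat.eq_of_mul_eq_mul_right hpos (e1.trans e2.symm)
      exact this.ge
    rw [h5]
    exact le_sup_right
  · set p := (orderOf g).minFac with hp
    have hord : orderOf g ≠ 1 := by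
      rw [Ne, orderOf_eq_one_iff]
      exact hg1
    have hpp : p.Prime := Nat.minFac_prime hord
    have hpd : p ∣ orderOf g := Nat.minFac_dvd _
    have hh : orderOf (g ^ (orderOf g / p)) = p :=
      orderOf_pow_orderOf_div (orderOf_pos g).ne' hpd
    have hhN : g ^ (orderOf g / p) ∈ N := N.pow_mem hgN _
    have hh1 : g ^ (orderOf g / p) ≠ 1 := by
      intro h
      rw [h, orderOf_one] at hh
      exact hpp.one_lt.ne hh
    have hgp : g ^ p = 1 := by
      obtain ⟨c, hc⟩ := isConj_iff.mp (hconj _ hhN hh1)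
      have h1 : (g ^ (orderOf g / p)) ^ p = 1 := by
        have h0 := pow_orderOf_eq_one (g ^ (orderOf g / p))
        rwa [hh] at h0
      rw [← hc, conj_pow, conj_eq_one_iff] at h1
      exact h1
    have hpow : ∀ x ∈ N, x ^ p = 1 := by
      intro x hx
      by_cases hx1 : x = 1
      · rw [hx1, one_pow]
      · obtain ⟨c, hc⟩ := isConj_iff.mp (hconj x hx hx1)
        rw [← hc, conj_pow, hgp, mul_one, mul_inv_cancel]
    refine ⟨p, hpp, ?_, hpow⟩
    have : Fact p.Prime := ⟨hpp⟩
    have hPG : IsPGroup p N := by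
      intro x
      refine ⟨1, ?_⟩
      apply Subtype.ext
      rw [pow_one, Subgroup.coe_pow, Subgroup.coe_one]
      exact hpow x x.2
    have : Nontrivial N := ⟨⟨⟨g, hgN⟩, 1, fun h => hg1 (congrArg Subtype.val h)⟩⟩
    have hcen := hPG.center_nontrivial
    obtain ⟨z, hz⟩ := exists_ne (1 : Subgroup.center N)
    have hz1 : ((z : N) : G) ≠ 1 := by
      intro h
      apply hz
      apply Subtype.ext
      apply Subtype.ext
      exact h
    have hzc : ∀ n : N, n * (z : N) = (z : N) * n := fun n => Subgroup.mem_center_iff.mp z.2 n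
    have hcomm : ∀ a b : N, a * b = b * a := by
      intro a b
      by_cases ha1 : (a : G) = 1
      · have : a = 1 := Subtype.ext ha1
        rw [this, one_mul, mul_one]
      · have h1 : IsConj ((z : N) : G) (a : G) :=
          (hconj _ (z : N).2 hz1).symm.trans (hconj _ a.2 ha1)
        obtain ⟨c, hc⟩ := isConj_iff.mp h1
        have hb' : c⁻¹ * (b : G) * c ∈ N := by
          have := hNn.conj_mem (b : G) b.2 c⁻¹
          rwa [inv_inv] at this
        have h2 := hzc ⟨c⁻¹ * (b : G) * c, hb'⟩
        have h3 : c⁻¹ * (b : G) * c * ((z : N) : G) = ((z : N) : G) * (c⁻¹ * (b : G) * c) :=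
          congrArg Subtype.val h2
        apply Subtype.ext
        rw [Subgroup.coe_mul, Subgroup.coe_mul, ← hc]
        calc c * ((z : N) : G) * c⁻¹ * (b : G)
            = c * (((z : N) : G) * (c⁻¹ * (b : G) * c)) * c⁻¹ := by group
          _ = c * (c⁻¹ * (b : G) * c * ((z : N) : G)) * c⁻¹ := by rw [h3]
          _ = (b : G) * (c * ((z : N) : G) * c⁻¹) := by group
    exact ⟨⟨fun a b => hcomm a b⟩⟩
  · intro x hx y hy hx1 hy1
    have := (hconj x hx hx1).symm.trans (hconj y hy hy1)
    exact isConj_iff.mp this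

end Cfsg.Agent.S4835
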