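import Mathlib
import Cfsg.Prelude
import Cfsg.Agent.Lib.Helper7.GagolaA

set_option autoImplicit false
open Cfsg

namespace Cfsg.Agent.S4837

/-- Let G be a finite group of order greater than 2 with an irreducible character χ nonzero on exactly two conjugacy classes, and let N be the set of elements where χ is nonzero, given as a nontrivial normal p-subgroup of G for the prime p. Then for every nonidentity x in N the centralizer C_G(x) is a Sylow p-subgroup of G, and for every irreducible character λ ≠ 1 of N the stabilizer of λ in G (its inertia group) is a Sylow p-subgroup of G. -/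
theorem result {G : Type*} [Group G] [Finite G] (hG : 2 < Nat.card G) (χ : Cfsg.IrrCharacter G) (hχ : Nat.card {C : ConjClasses G // ∃ g ∈ C.carrier, (χ : G → ℂ) g ≠ 0} = 2) (p : ℕ) [Fact p.Prime] (N : Subgroup G) [N.Normal] (hN : ∀ g : G, g ∈ N ↔ (χ : G → ℂ) g ≠ 0) (hNp : IsPGroup p N) (hN1 : N ≠ ⊥) :
    (∀ x ∈ N, x ≠ 1 → ∃ P : Sylow p G, Subgroup.centralizer ({x} : Set G) = P) ∧
      (∀ μ : Cfsg.IrrCharacter N, (μ : N → ℂ) ≠ (fun _ => (1 : ℂ)) → ∃ P : Sylow p G, ∀ g : G, g ∈ (P : Subgroup G) ↔ ∀ n n' : N, (n' : G) = g * n * g⁻¹ → (μ : N → ℂ) n' = (μ : N → ℂ) n) := by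
  classical
  haveI : Fintype G := Fintype.ofFinite G
  haveI : Fintype N := Fintype.ofFinite N
  have hyp : Cfsg.Agent.Lib.Helper7.Gagola.Hyp (χ : G → ℂ) N :=
    ⟨χ.2, hN, Cfsg.Agent.Lib.Helper7.Gagola.conj_of_card (χ : G → ℂ) N hχ hN, hN1, hG⟩
  constructor
  · intro x hx hx1
    have hcard := hyp.card_centralizer hNp hx hx1
    exact ⟨Sylow.ofCard (Subgroup.centralizer ({x} : Set G)) hcard, rfl⟩
  · intro μ hμ1
    have hcard := hyp.card_inertia hNp (μ : N → ℂ) μ.2 hμ1
    refine ⟨Sylow.ofCard (Cfsg.Agent.S0169.inertia N (μ : N → ℂ)) hcard, ?_⟩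
    intro g
    show g ∈ Cfsg.Agent.S0169.inertia N (μ : N → ℂ) ↔ _
    rw [Cfsg.Agent.S0169.mem_inertia]
    constructor
    · intro h n n' hn'
      have h1 := h n
      have h2 : n' = ⟨g * (n : G) * g⁻¹, ‹N.Normal›.conj_mem (n : G) n.2 g⟩ := Subtype.ext hn'
      rw [h2]
      exact h1
    · intro h n
      exact h n _ rfl


end Cfsg.Agent.S4837
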