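import Mathlib
import Cfsg.Prelude
import Cfsg.Statements.S4843
import Cfsg.Agent.Lib.Helper7.KLF
import Cfsg.Agent.Lib.Helper9.Fitting
import Cfsg.Agent.Lib.Helper4.Garrison
import Cfsg.Agent.Lib.Helper4.CharOrtho

set_option autoImplicit false
open Cfsg

namespace Cfsg.Agent.S4843

/-- Let G be a finite group with a faithful irreducible character χ (taking the value χ(1) only at the identity) and let k be prime to the order of G, so that g ↦ χ(g^k) is a Galois conjugate of χ. If the pointwise product g ↦ χ(g)·χ(g^k) is again an irreducible character, then the Fitting subgroup of G equals its centre. -/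
theorem result {G : Type*} [Group G] [Finite G] (χ : Cfsg.IrrCharacter G) (hfaith : ∀ g : G, (χ : G → ℂ) g = (χ : G → ℂ) 1 → g = 1) (k : ℕ) (hk : Nat.Coprime k (Nat.card G)) (hirr : Cfsg.IsIrrCharacter G (fun g => (χ : G → ℂ) g * (χ : G → ℂ) (g ^ k))) : Cfsg.fittingSubgroup G = Subgroup.center G := by
  classical
  haveI : Fintype G := Fintype.ofFinite G
  obtain ⟨d, ρ, hρirr, hρχ⟩ := χ.2
  by_contra hne
  have hZF : Subgroup.center G ≤ Cfsg.fittingSubgroup G :=
    fun z hz => Cfsg.Agent.Lib.Helper9.mem_fittingSubgroup_of_mem_center hz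
  have hF : ¬ Cfsg.fittingSubgroup G ≤ Subgroup.center G := fun h => hne (le_antisymm h hZF)
  haveI : (Cfsg.fittingSubgroup G).Normal := Cfsg.Agent.Lib.Helper4.fitting_normal
  obtain ⟨x₀, hx₀, hx₀c⟩ := Cfsg.Agent.Lib.Helper7.KL.exists_mem_secondCenter
    (Cfsg.fittingSubgroup G) Cfsg.Agent.Lib.Helper4.fitting_nilpotent hF
  have hfaith' : ∀ g : G, ρ.character g = ρ.character 1 → g = 1 := by
    rw [hρχ]
    exact hfaith
  have h := Cfsg.Agent.Lib.Helper7.KL.inner_ne_one ρ hρirr hfaith' k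
    (by convert hk) (Cfsg.fittingSubgroup G) x₀ hx₀ hx₀c
  apply h
  rw [hρχ]
  have h2 := Cfsg.Agent.Lib.Helper4.classInner_irr
    (⟨_, hirr⟩ : Cfsg.IrrCharacter G) (⟨_, hirr⟩ : Cfsg.IrrCharacter G)
  rw [if_pos rfl] at h2
  exact h2


end Cfsg.Agent.S4843
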