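import Mathlib
import Cfsg.Prelude
import Cfsg.Agent.Lib.Helper7.GalConjF

set_option autoImplicit false
open Cfsg

namespace Cfsg.Agent.S4845

open Cfsg.Agent.Lib.Helper7 Cfsg.Agent.Lib.Helper7.GalConj

/-- Let p be a prime and P a finite non-commutative p-group. Then every two irreducible characters of P of the same degree greater than 1 are Galois conjugate (one is obtained from the other by composing with g ↦ g^k for some k prime to the order of P) if and only if the centre of P is cyclic and the derived subgroup of P has order p. -/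
theorem result {P : Type*} [Group P] [Finite P] (p : ℕ) [Fact p.Prime] (hP : IsPGroup p P) (hna : ¬ IsMulCommutative P) :
    (∀ χ ψ : Cfsg.IrrCharacter P, Cfsg.charDegree (χ : P → ℂ) ≠ 1 → Cfsg.charDegree (χ : P → ℂ) = Cfsg.charDegree (ψ : P → ℂ) → ∃ k : ℕ, Nat.Coprime k (Nat.card P) ∧ ∀ g : P, (ψ : P → ℂ) g = (χ : P → ℂ) (g ^ k)) ↔
      (IsCyclic (Subgroup.center P) ∧ Nat.card (commutator P) = p) := by
  classical
  haveI : Fintype P := Fintype.ofFinite P
  have hna' : ∃ a b : P, a * b ≠ b * a := by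
    by_contra hcon
    push Not at hcon
    exact hna ⟨⟨fun a b => hcon a b⟩⟩
  have hdeg : ∀ ψ : IrrCharacter P, (ψ : P → ℂ) 1 = (charDegree (ψ : P → ℂ) : ℂ) :=
    fun ψ => CoprimeCount.irr_one_eq_charDegree ψ
  constructor
  · intro h
    have hH : GalH P := by
      intro χ ψ hχ hψ hχ1 hχψ
      have h1 := hdeg ⟨χ, hχ⟩
      have h2 := hdeg ⟨ψ, hψ⟩
      apply h ⟨χ, hχ⟩ ⟨ψ, hψ⟩
      · intro hc
        apply hχ1
        have h3 : χ 1 = (charDegree χ : ℂ) := h1
        rw [h3, hc]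
        simp
      · have h3 : χ 1 = (charDegree χ : ℂ) := h1
        have h4 : ψ 1 = (charDegree ψ : ℂ) := h2
        rw [h3, h4] at hχψ
        exact_mod_cast hχψ
    have hc := card_commutator_of_galH p (Nat.card P) P rfl hP hH hna'
    exact ⟨cyclic_center_of_galH p hP hH hc, hc⟩
  · rintro ⟨hcyc, hc⟩ χ ψ hχ1 hχψ
    obtain ⟨n₁, ρ₁, h₁, hρ₁⟩ := χ.2
    obtain ⟨n₂, ρ₂, h₂, hρ₂⟩ := ψ.2
    have e1 : charDegree (χ : P → ℂ) = n₁ := by
      have h3 := hdeg χ
      rw [← hρ₁, Representation.char_one, Module.finrank_fin_fun] at h3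
      have h4 : (n₁ : ℂ) = (charDegree (ρ₁.character) : ℂ) := h3
      rw [← hρ₁]
      exact_mod_cast h4.symm
    have e2 : charDegree (ψ : P → ℂ) = n₂ := by
      have h3 := hdeg ψ
      rw [← hρ₂, Representation.char_one, Module.finrank_fin_fun] at h3
      have h4 : (n₂ : ℂ) = (charDegree (ρ₂.character) : ℂ) := h3
      rw [← hρ₂]
      exact_mod_cast h4.symm
    have hn₁ : n₁ ≠ 1 := by rw [← e1]; exact hχ1
    have hn₂ : n₂ ≠ 1 := by rw [← e2, ← hχψ]; exact hχ1
    obtain ⟨k, hk, hkg⟩ := galois_of_cyclic p hP hcyc hc ρ₁ ρ₂ h₁ h₂ hn₁ hn₂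
    refine ⟨k, hk, ?_⟩
    intro g
    rw [← hρ₁, ← hρ₂]
    exact hkg g


end Cfsg.Agent.S4845
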