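import Cfsg.Statements.S4859
import Cfsg.Agent.S4476

set_option autoImplicit false
open Cfsg

namespace Cfsg.Agent.S4859

open Cfsg.Agent.Lib.Helper26 Cfsg.Agent.Lib.Helper4
open scoped ComplexConjugate

section
variable {G : Type*} [Group G] [Fintype G]

/-- counting square roots of an arbitrary element -/
theorem sqrt_count_at [DecidableEq G] [Fintype (IrrCharacter G)] (e : IrrCharacter G → ℤ)
    (he : ∀ χ : IrrCharacter G,
      ∑ s : G, (χ : G → ℂ) (s * s) = (e χ : ℂ) * (Nat.card G : ℂ)) (g₀ : G) :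
    ((Finset.univ.filter (fun s : G => s * s = g₀)).card : ℂ) =
      ∑ χ : IrrCharacter G, (e χ : ℂ) * (χ : G → ℂ) g₀ := by
  let θ : G → ℂ := fun g => ((Finset.univ.filter (fun s : G => s * s = g)).card : ℂ)
  have hθcf : IsClassFunction G θ := by
    intro g k
    show ((Finset.univ.filter (fun s : G => s * s = k * g * k⁻¹)).card : ℂ) =
      ((Finset.univ.filter (fun s : G => s * s = g)).card : ℂ)
    congr 1
    refine Finset.card_bij' (fun s _ => k⁻¹ * s * k) (fun s _ => k * s * k⁻¹) ?_ ?_ ?_ ?_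
    · intro s hs
      rw [Finset.mem_filter] at hs ⊢
      refine ⟨Finset.mem_univ _, ?_⟩
      have : k⁻¹ * s * k * (k⁻¹ * s * k) = k⁻¹ * (s * s) * k := by group
      rw [this, hs.2]; group
    · intro s hs
      rw [Finset.mem_filter] at hs ⊢
      refine ⟨Finset.mem_univ _, ?_⟩
      have : k * s * k⁻¹ * (k * s * k⁻¹) = k * (s * s) * k⁻¹ := by group
      rw [this, hs.2]
    · intro s _; group
    · intro s _; group
  have hG0 : (Nat.card G : ℂ) ≠ 0 := Nat.cast_ne_zero.mpr Nat.card_pos.ne'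
  have hinner : ∀ χ : IrrCharacter G, classInner θ (χ : G → ℂ) = (e χ : ℂ) := by
    intro χ
    unfold classInner
    have h1 : ∑ g : G, θ g * conj ((χ : G → ℂ) g) = ∑ s : G, conj ((χ : G → ℂ) (s * s)) := by
      have : ∀ g : G, θ g * conj ((χ : G → ℂ) g) =
          ∑ s : G, if s * s = g then conj ((χ : G → ℂ) g) else 0 := by
        intro g
        show ((Finset.univ.filter (fun s : G => s * s = g)).card : ℂ) * _ = _
        rw [Finset.card_filter]
        push_cast
        rw [Finset.sum_mul]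
        refine Finset.sum_congr rfl fun s _ => ?_
        split_ifs <;> simp
      simp only [this]
      rw [Finset.sum_comm]
      refine Finset.sum_congr rfl fun s _ => ?_
      rw [Finset.sum_ite_eq]
      simp
    rw [h1, ← map_sum, he χ]
    simp only [map_mul, map_intCast, map_natCast]
    field_simp
  have hexp := classFunction_expansion θ hθcf
  have := congrFun hexp g₀
  simp only [Finset.sum_apply, Pi.smul_apply, smul_eq_mul, hinner] at this
  exact this

end

section grp

variable {G : Type*} [Group G] [Finite G]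

theorem not_square (p : ℕ) [Fact p.Prime] (hp : p ≠ 2) (x : G) (hx : ∃ k : ℕ, orderOf x = p ^ k)
    (heven : Even (Nat.card (Subgroup.centralizer ({x} : Set G)))) (y : G)
    (hy : y ∈ Subgroup.centralizer ({x} : Set G)) (hy2 : ∃ k : ℕ, orderOf y = 2 ^ k)
    (hmax : ∀ z ∈ Subgroup.centralizer ({x} : Set G), (∃ k : ℕ, orderOf z = 2 ^ k) →
      orderOf z ≤ orderOf y) : ¬ ∃ u : G, u * u = x * y := by
  rintro ⟨u, hu⟩
  obtain ⟨k, hk⟩ := hx
  obtain ⟨b, hb⟩ := hy2
  have hpp : p.Prime := Fact.out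
  have hpodd : Odd p := hpp.odd_of_ne_two hp
  have hnodd : Odd (p ^ k) := hpodd.pow
  have hxy : Commute x y := by
    have := Subgroup.mem_centralizer_singleton_iff.mp hy
    exact this.symm
  -- b ≥ 1 by Cauchy
  have hb1 : 1 ≤ b := by
    have : Fact (Nat.Prime 2) := ⟨Nat.prime_two⟩
    obtain ⟨z, hz⟩ := exists_prime_orderOf_dvd_card' (G := Subgroup.centralizer ({x} : Set G)) 2
      heven.two_dvd
    have hz' : orderOf (z : G) = 2 := by rw [Subgroup.orderOf_coe, hz]
    have := hmax (z : G) z.2 ⟨1, by rw [hz', pow_one]⟩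
    rw [hz', hb] at this
    by_contra hlt
    have : b = 0 := by omega
    subst this
    omega
  -- u commutes with x
  have hcop : Nat.Coprime (2 ^ b) (orderOf x) := by
    rw [hk]
    exact Nat.Coprime.pow _ _ ((Nat.coprime_primes Nat.prime_two hpp).mpr (Ne.symm hp))
  obtain ⟨j, hj⟩ := exists_pow_eq_self_of_coprime hcop
  have hxy2 : (x * y) ^ (2 ^ b) = x ^ (2 ^ b) := by
    rw [hxy.mul_pow, ← hb, pow_orderOf_eq_one, mul_one]
  have hux : Commute u x := by
    have h1 : Commute u (x * y) := by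
      rw [← hu]
      exact (Commute.refl u).mul_right (Commute.refl u)
    have h2 : Commute u (((x * y) ^ (2 ^ b)) ^ j) := (h1.pow_right _).pow_right _
    rwa [hxy2, hj] at h2
  -- decomposition of the order of u
  obtain ⟨a, m, hm, ho⟩ := Nat.exists_eq_two_pow_mul_odd (orderOf_pos u).ne'
  have hm0 : m ≠ 0 := by
    rintro rfl
    exact (Nat.not_odd_iff_even.mpr (by decide : Even 0)) hm
  have hw : orderOf (u ^ m) = 2 ^ a := by
    rw [orderOf_pow_of_dvd hm0 (Dvd.intro_left _ ho.symm), ho, Nat.mul_div_cancel _ (Nat.pos_of_ne_zero hm0)]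
  have hwC : u ^ m ∈ Subgroup.centralizer ({x} : Set G) := by
    rw [Subgroup.mem_centralizer_singleton_iff]
    exact (hux.pow_left m).eq
  have hab : 2 ^ a ≤ 2 ^ b := by
    have := hmax (u ^ m) hwC ⟨a, hw⟩
    rwa [hw, hb] at this
  -- u^(2 p^k) = y^(p^k)
  have h1 : u ^ (2 * p ^ k) = y ^ (p ^ k) := by
    rw [pow_mul, pow_two, hu, hxy.mul_pow, ← hk, pow_orderOf_eq_one, one_mul]
  have h2 : orderOf (y ^ (p ^ k)) = 2 ^ b := by
    rw [Nat.Coprime.orderOf_pow, hb]
    rw [hb]
    exact Nat.Coprime.pow _ _ ((Nat.coprime_primes Nat.prime_two hpp).mpr (Ne.symm hp))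
  have ha1 : 1 ≤ a := by
    by_contra hlt
    have ha0 : a = 0 := by omega
    subst ha0
    rw [pow_zero, one_mul] at ho
    have h3 : (y ^ (p ^ k)) ^ m = 1 := by
      rw [← h1, ← pow_mul, mul_comm, pow_mul, ← ho, pow_orderOf_eq_one, one_pow]
    have h4 : 2 ^ b ∣ m := by
      rw [← h2]
      exact orderOf_dvd_of_pow_eq_one h3
    have h5 : 2 ∣ m := dvd_trans (dvd_pow_self 2 (by omega)) h4
    exact (Nat.not_even_iff_odd.mpr hm) (even_iff_two_dvd.mpr h5)
  have h3 : (y ^ (p ^ k)) ^ (2 ^ (a - 1) * m) = 1 := by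
    rw [← h1, ← pow_mul]
    have : 2 * p ^ k * (2 ^ (a - 1) * m) = orderOf u * p ^ k := by
      rw [ho]
      have : 2 ^ a = 2 * 2 ^ (a - 1) := by
        rw [← pow_succ']
        congr 1
        omega
      rw [this]
      ring
    rw [this, pow_mul, pow_orderOf_eq_one, one_pow]
  have h4 : 2 ^ b ∣ 2 ^ (a - 1) * m := by
    rw [← h2]
    exact orderOf_dvd_of_pow_eq_one h3
  have h5 : 2 ^ b ∣ 2 ^ (a - 1) := by
    apply Nat.Coprime.dvd_of_dvd_mul_right _ h4
    exact Nat.Coprime.pow_left _ (Nat.coprime_two_left.mpr hm)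
  have h6 : b ≤ a - 1 := (Nat.pow_dvd_pow_iff_le_right (by norm_num)).mp h5
  have h7 : a ≤ b := (Nat.pow_le_pow_iff_right (by norm_num)).mp hab
  omega

end grp

/-- Let p be an odd prime, G a finite group and x an element of G whose order is a power of p (possibly 1) and whose centralizer has even order. Let y be a 2-element of the centralizer of x whose order is largest among the 2-elements of that centralizer. Then x * y is not a square in G, and some non-principal real-valued irreducible character of G does not vanish at x * y. -/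
theorem result {G : Type*} [Group G] [Finite G] (p : ℕ) [Fact p.Prime] (hp : p ≠ 2) (x : G) (hx : ∃ k : ℕ, orderOf x = p ^ k) (heven : Even (Nat.card (Subgroup.centralizer ({x} : Set G)))) (y : G) (hy : y ∈ Subgroup.centralizer ({x} : Set G)) (hy2 : ∃ k : ℕ, orderOf y = 2 ^ k) (hmax : ∀ z ∈ Subgroup.centralizer ({x} : Set G), (∃ k : ℕ, orderOf z = 2 ^ k) → orderOf z ≤ orderOf y) : (¬ ∃ u : G, u * u = x * y) ∧ ∃ χ : Cfsg.IrrCharacter G, ¬ ((χ : G → ℂ) = fun _ => (1 : ℂ)) ∧ (∀ g : G, ((χ : G → ℂ) g).im = 0) ∧ (χ : G → ℂ) (x * y) ≠ 0 := by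
  classical
  have : Fintype G := Fintype.ofFinite G
  have : Fintype (Cfsg.IrrCharacter G) := Fintype.ofFinite _
  have hns := not_square p hp x hx heven y hy hy2 hmax
  refine ⟨hns, ?_⟩
  choose e he1 he2 he3 using fun χ : Cfsg.IrrCharacter G =>
    Cfsg.Agent.S4476.indicator (χ : G → ℂ) χ.2
  have hcount := sqrt_count_at e he2 (x * y)
  have hzero : (Finset.univ.filter (fun s : G => s * s = x * y)).card = 0 := by
    rw [Finset.card_eq_zero, Finset.filter_eq_empty_iff]
    intro s _ hs
    exact hns ⟨s, hs⟩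
  rw [hzero, Nat.cast_zero] at hcount
  let τ : Cfsg.IrrCharacter G := ⟨fun _ => 1, isIrrCharacter_one⟩
  have hG0 : (Nat.card G : ℂ) ≠ 0 := Nat.cast_ne_zero.mpr Nat.card_pos.ne'
  have heτ : (e τ : ℂ) = 1 := by
    have h := he2 τ
    have h1 : ∑ s : G, (τ : G → ℂ) (s * s) = (Nat.card G : ℂ) := by
      simp [τ, Nat.card_eq_fintype_card]
    rw [h1] at h
    have h2 : ((e τ : ℂ) - 1) * (Nat.card G : ℂ) = 0 := by linear_combination -h
    rcases mul_eq_zero.mp h2 with h3 | h3
    · exact sub_eq_zero.mp h3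
    · exact absurd h3 hG0
  rw [← Finset.add_sum_erase Finset.univ _ (Finset.mem_univ τ), heτ] at hcount
  have hτv : (τ : G → ℂ) (x * y) = 1 := rfl
  rw [hτv, mul_one] at hcount
  have hne : ∑ χ ∈ Finset.univ.erase τ, (e χ : ℂ) * (χ : G → ℂ) (x * y) ≠ 0 := by
    intro h
    rw [h, add_zero] at hcount
    exact one_ne_zero hcount.symm
  obtain ⟨χ, hχmem, hχne⟩ := Finset.exists_ne_zero_of_sum_ne_zero hne
  have hχτ : χ ≠ τ := Finset.ne_of_mem_erase hχmem
  have heχ : e χ ≠ 0 := by
    intro h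
    apply hχne
    rw [h, Int.cast_zero, zero_mul]
  refine ⟨χ, ?_, ?_, ?_⟩
  · intro h
    apply hχτ
    exact Subtype.ext h
  · intro g
    have := he3 χ heχ g
    rw [Complex.conj_eq_iff_im] at this
    exact this
  · intro h
    apply hχne
    rw [h, mul_zero]

end Cfsg.Agent.S4859
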