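import Cfsg.Statements.S4866
import Cfsg.Agent.Lib.Helper4.OrbitCount
import Cfsg.Agent.Lib.Helper4.PermLemma
import Cfsg.Agent.Lib.Helper28.DualRep
import Cfsg.Agent.S4518

set_option autoImplicit false
open Cfsg

namespace Cfsg.Agent.S4866

open Cfsg.Agent.Lib.Helper26 Cfsg.Agent.Lib.Helper4
open scoped ComplexConjugate

section

variable {G : Type*} [Group G] [Fintype G] (K : Subgroup G) [hK : K.Normal]

/-- the action of `G` on the irreducible characters of the normal subgroup `K` -/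
@[reducible] noncomputable def irrAction : MulAction G (Cfsg.IrrCharacter ↥K) where
  smul g θ := ⟨conjFunN K (θ : ↥K → ℂ) g⁻¹, isIrrCharacter_conjFunN K θ.2 g⁻¹⟩
  one_smul θ := by
    apply Subtype.ext
    funext n
    show conjFunN K (θ : ↥K → ℂ) (1 : G)⁻¹ n = (θ : ↥K → ℂ) n
    unfold conjFunN
    refine congrArg (θ : ↥K → ℂ) (Subtype.ext ?_)
    show (1 : G)⁻¹ * (n : G) * ((1 : G)⁻¹)⁻¹ = n
    group
  mul_smul g h θ := by
    apply Subtype.ext
    show conjFunN K (θ : ↥K → ℂ) (g * h)⁻¹ = conjFunN K (conjFunN K (θ : ↥K → ℂ) h⁻¹) g⁻¹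
    rw [Cfsg.Agent.S4518.conjFunN_conjFunN, mul_inv_rev]

theorem irrAction_apply (g : G) (θ : Cfsg.IrrCharacter ↥K) (k : ↥K) :
    letI := irrAction K
    ((g • θ : Cfsg.IrrCharacter ↥K) : ↥K → ℂ) k =
      (θ : ↥K → ℂ) ⟨g⁻¹ * (k : G) * g, by
        have := hK.conj_mem k k.2 g⁻¹
        rwa [inv_inv] at this⟩ := by
  show conjFunN K (θ : ↥K → ℂ) g⁻¹ k = _
  unfold conjFunN
  refine congrArg (θ : ↥K → ℂ) (Subtype.ext ?_)
  show g⁻¹ * (k : G) * (g⁻¹)⁻¹ = g⁻¹ * (k : G) * g
  rw [inv_inv]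

/-- the action of `G` on the conjugacy classes of the normal subgroup `K` -/
@[reducible] noncomputable def ccAction : MulAction G (ConjClasses ↥K) where
  smul g C := ConjClasses.map ((MulAut.conjNormal g : ↥K ≃* ↥K).toMonoidHom) C
  one_smul C := by
    obtain ⟨x, rfl⟩ := ConjClasses.exists_rep C
    show ConjClasses.mk ((MulAut.conjNormal (1 : G) : ↥K ≃* ↥K) x) = ConjClasses.mk x
    rw [map_one]
    rfl
  mul_smul g h C := by
    obtain ⟨x, rfl⟩ := ConjClasses.exists_rep C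
    show ConjClasses.mk ((MulAut.conjNormal (g * h) : ↥K ≃* ↥K) x) =
      ConjClasses.mk ((MulAut.conjNormal g : ↥K ≃* ↥K) ((MulAut.conjNormal h : ↥K ≃* ↥K) x))
    rw [map_mul]
    rfl

theorem ccAction_mk (g : G) (x : ↥K) :
    letI := ccAction K
    (g • (ConjClasses.mk x : ConjClasses ↥K)) =
      ConjClasses.mk ((MulAut.conjNormal g : ↥K ≃* ↥K) x) := rfl

/-- the inverse class -/
def invCC : ConjClasses ↥K → ConjClasses ↥K :=
  Quotient.map (fun x => x⁻¹) (by
    intro a b hab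
    have hab' : IsConj a b := hab
    show IsConj a⁻¹ b⁻¹
    obtain ⟨c, hc⟩ := isConj_iff.mp hab'
    refine isConj_iff.mpr ⟨c, ?_⟩
    rw [← hc]
    group)

theorem invCC_mk (x : ↥K) : invCC K (ConjClasses.mk x) = ConjClasses.mk x⁻¹ := rfl

theorem irr_triv (k : G) (hk : k ∈ K) (θ : Cfsg.IrrCharacter ↥K) :
    letI := irrAction K
    k • θ = θ := by
  letI := irrAction K
  apply Subtype.ext
  funext n
  rw [irrAction_apply]
  have hcf := Cfsg.Agent.Lib.Helper26.isClassFunction_of_isIrrCharacter θ.2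
  have h1 := hcf n (⟨k, hk⟩⁻¹ : ↥K)
  rw [← h1]
  refine congrArg (θ : ↥K → ℂ) (Subtype.ext ?_)
  show k⁻¹ * (n : G) * k = k⁻¹ * (n : G) * (k⁻¹)⁻¹
  rw [inv_inv]

theorem cc_triv (k : G) (hk : k ∈ K) (C : ConjClasses ↥K) :
    letI := ccAction K
    k • C = C := by
  letI := ccAction K
  obtain ⟨x, rfl⟩ := ConjClasses.exists_rep C
  rw [ccAction_mk, ConjClasses.mk_eq_mk_iff_isConj, isConj_comm, isConj_iff]
  refine ⟨⟨k, hk⟩, ?_⟩
  apply Subtype.ext
  rw [MulAut.conjNormal_apply]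
  rfl

theorem irrConj_smul (g : G) (θ : Cfsg.IrrCharacter ↥K) :
    letI := irrAction K
    Cfsg.Agent.Lib.Helper28.irrConj (g • θ) = g • Cfsg.Agent.Lib.Helper28.irrConj θ := by
  letI := irrAction K
  apply Subtype.ext
  funext n
  rw [Cfsg.Agent.Lib.Helper28.irrConj_apply, irrAction_apply, irrAction_apply,
    Cfsg.Agent.Lib.Helper28.irrConj_apply]

theorem invCC_smul (g : G) (C : ConjClasses ↥K) :
    letI := ccAction K
    invCC K (g • C) = g • invCC K C := by
  letI := ccAction K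
  obtain ⟨x, rfl⟩ := ConjClasses.exists_rep C
  rw [ccAction_mk, invCC_mk, invCC_mk, ccAction_mk, map_inv]

theorem invCC_invCC (C : ConjClasses ↥K) : invCC K (invCC K C) = C := by
  obtain ⟨x, rfl⟩ := ConjClasses.exists_rep C
  rw [invCC_mk, invCC_mk, inv_inv]

theorem real_iff (θ : Cfsg.IrrCharacter ↥K) :
    (∀ k : ↥K, ((θ : ↥K → ℂ) k).im = 0) ↔ Cfsg.Agent.Lib.Helper28.irrConj θ = θ := by
  constructor
  · intro h
    apply Subtype.ext
    funext k
    rw [Cfsg.Agent.Lib.Helper28.irrConj_apply]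
    exact Complex.conj_eq_iff_im.mpr (h k)
  · intro h k
    have h1 := congrFun (congrArg Subtype.val h) k
    rw [Cfsg.Agent.Lib.Helper28.irrConj_apply] at h1
    exact Complex.conj_eq_iff_im.mp h1

theorem per_g (hodd : Odd K.index) (g : G) :
    letI := irrAction K
    letI := ccAction K
    Nat.card {θ : Cfsg.IrrCharacter ↥K // (∀ k : ↥K, ((θ : ↥K → ℂ) k).im = 0) ∧ g • θ = θ} =
    Nat.card {C : ConjClasses ↥K // invCC K C = C ∧ g • C = C} := by
  classical
  letI := irrAction K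
  letI := ccAction K
  have : Fintype ↥K := Fintype.ofFinite _
  have hpow : ∀ g : G, g ^ K.index ∈ K := fun g => Subgroup.pow_index_mem K g
  -- step A
  have hA : Nat.card {θ : Cfsg.IrrCharacter ↥K //
        (∀ k : ↥K, ((θ : ↥K → ℂ) k).im = 0) ∧ g • θ = θ} =
      Nat.card {θ : Cfsg.IrrCharacter ↥K // Cfsg.Agent.Lib.Helper28.irrConj (g • θ) = θ} := by
    refine Nat.card_congr (Equiv.subtypeEquivRight fun θ => ?_)
    rw [real_iff]
    exact (fixed_iota_iff (G := G) (X := Cfsg.IrrCharacter ↥K) Cfsg.Agent.Lib.Helper28.irrConj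
      Cfsg.Agent.Lib.Helper28.irrConj_irrConj (irrConj_smul K) g K.index hodd θ
      (irr_triv K _ (hpow g) θ)).symm
  -- step C
  have hC : Nat.card {C : ConjClasses ↥K // invCC K (g⁻¹ • C) = C} =
      Nat.card {C : ConjClasses ↥K // invCC K C = C ∧ g • C = C} := by
    refine Nat.card_congr (Equiv.subtypeEquivRight fun C => ?_)
    rw [fixed_iota_iff (G := G) (X := ConjClasses ↥K) (invCC K) (invCC_invCC K) (invCC_smul K)
      g⁻¹ K.index hodd C (cc_triv K _ (hpow g⁻¹) C), inv_smul_eq_iff]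
    constructor
    · rintro ⟨h1, h2⟩
      exact ⟨h1, h2.symm⟩
    · rintro ⟨h1, h2⟩
      exact ⟨h1, h2.symm⟩
  -- step B
  have hB := card_fixed_irr_eq (G := ↥K)
    (fun k => ((MulAut.conjNormal g⁻¹ : ↥K ≃* ↥K) k)⁻¹)
    (fun θ => Cfsg.Agent.Lib.Helper28.irrConj (g • θ))
    (by
      intro θ k
      rw [Cfsg.Agent.Lib.Helper28.irrConj_apply, irrAction_apply,
        Cfsg.Agent.Lib.Helper26.isCharacter_conj_eq_inv
          (Cfsg.Agent.Lib.Helper26.isCharacter_of_isIrrCharacter θ.2)]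
      refine congrArg (θ : ↥K → ℂ) (congrArg (fun x => x⁻¹) (Subtype.ext ?_))
      rw [MulAut.conjNormal_apply]
      show g⁻¹ * (k : G) * g = g⁻¹ * (k : G) * (g⁻¹)⁻¹
      rw [inv_inv])
    (fun C => invCC K (g⁻¹ • C) = C)
    (by
      intro k
      rw [ccAction_mk, invCC_mk, ConjClasses.mk_eq_mk_iff_isConj])
  rw [hA, ← hC]
  exact hB

end


/-- Let K be a normal subgroup of odd index in the finite group G. Then G has as many orbits on the real-valued irreducible complex characters of K (acting by conjugation) as it has orbits on the conjugacy classes of K that are real in K; equivalently, the number of G-orbits of real-valued irreducible characters of K equals the number of G-conjugacy classes of elements of K that are conjugate in K to their inverses. -/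
theorem result {G : Type*} [Group G] [Finite G] (K : Subgroup G) [K.Normal] (hodd : Odd K.index) : Nat.card (Quot (fun θ η : {θ : Cfsg.IrrCharacter ↥K // (∀ k : ↥K, ((θ : ↥K → ℂ) k).im = 0)} => ∃ g : G, ∀ k k' : ↥K, (k' : G) = g * (k : G) * g⁻¹ → (η.1 : ↥K → ℂ) k' = (θ.1 : ↥K → ℂ) k)) = Nat.card (Quot (fun x y : {x : ↥K // IsConj x x⁻¹} => ∃ g : G, (y.1 : G) = g * x.1 * g⁻¹)) := by
  classical
  have : Fintype G := Fintype.ofFinite G
  have : Fintype ↥K := Fintype.ofFinite _
  letI := irrAction K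
  letI := ccAction K
  have hB1 := burnside_subtype (G := G) (X := Cfsg.IrrCharacter ↥K)
    (fun θ => ∀ k : ↥K, ((θ : ↥K → ℂ) k).im = 0) (by
      intro g θ hθ k
      rw [irrAction_apply]
      exact hθ _)
  have hB2 := burnside_subtype (G := G) (X := ConjClasses ↥K)
    (fun C => invCC K C = C) (by
      intro g C hC
      rw [invCC_smul, hC])
  have hsum : (∑ᶠ g : G, Nat.card {θ : Cfsg.IrrCharacter ↥K //
        (∀ k : ↥K, ((θ : ↥K → ℂ) k).im = 0) ∧ g • θ = θ}) =
      ∑ᶠ g : G, Nat.card {C : ConjClasses ↥K // invCC K C = C ∧ g • C = C} :=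
    finsum_congr (per_g K hodd)
  have h12 := Nat.eq_of_mul_eq_mul_right (Nat.card_pos (α := G)) (hB1.trans (hsum.trans hB2.symm))
  have hL : Nat.card (Quot (fun θ η : {θ : Cfsg.IrrCharacter ↥K //
        (∀ k : ↥K, ((θ : ↥K → ℂ) k).im = 0)} => ∃ g : G, ∀ k k' : ↥K,
          (k' : G) = g * (k : G) * g⁻¹ → (η.1 : ↥K → ℂ) k' = (θ.1 : ↥K → ℂ) k)) =
      Nat.card (Quot (fun a b : {θ : Cfsg.IrrCharacter ↥K //
        (∀ k : ↥K, ((θ : ↥K → ℂ) k).im = 0)} => ∃ g : G, b.1 = g • a.1)) := by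
    refine card_quot_eq_of_surj _ _ (orbit_rel_equivalence (G := G) _) id
      (fun b => ⟨b, 1, (one_smul G b.1).symm⟩) ?_
    intro a b
    show _ ↔ ∃ g : G, b.1 = g • a.1
    constructor
    · rintro ⟨g, hg⟩
      refine ⟨g, ?_⟩
      apply Subtype.ext
      funext n
      rw [irrAction_apply]
      refine hg _ n ?_
      show (n : G) = g * (g⁻¹ * (n : G) * g) * g⁻¹
      group
    · rintro ⟨g, hg⟩
      refine ⟨g, ?_⟩
      intro k k' hkk'
      rw [hg, irrAction_apply]
      refine congrArg (a.1 : ↥K → ℂ) (Subtype.ext ?_)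
      show g⁻¹ * (k' : G) * g = k
      rw [hkk']
      group
  have hR : Nat.card (Quot (fun x y : {x : ↥K // IsConj x x⁻¹} =>
        ∃ g : G, (y.1 : G) = g * x.1 * g⁻¹)) =
      Nat.card (Quot (fun a b : {C : ConjClasses ↥K // invCC K C = C} =>
        ∃ g : G, b.1 = g • a.1)) := by
    refine card_quot_eq_of_surj _ _ (orbit_rel_equivalence (G := G) _)
      (fun x => ⟨ConjClasses.mk x.1, by
        rw [invCC_mk, ConjClasses.mk_eq_mk_iff_isConj]
        exact x.2.symm⟩) ?_ ?_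
    · rintro ⟨C, hC⟩
      obtain ⟨x, rfl⟩ := ConjClasses.exists_rep C
      have hx : IsConj x x⁻¹ := by
        rw [invCC_mk, ConjClasses.mk_eq_mk_iff_isConj] at hC
        exact hC.symm
      exact ⟨⟨x, hx⟩, 1, (one_smul G _).symm⟩
    · intro a b
      show _ ↔ ∃ g : G, ConjClasses.mk b.1 = g • ConjClasses.mk a.1
      constructor
      · rintro ⟨g, hg⟩
        refine ⟨g, ?_⟩
        rw [ccAction_mk]
        congr 1
        apply Subtype.ext
        rw [MulAut.conjNormal_apply]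
        exact hg
      · rintro ⟨g, hg⟩
        rw [ccAction_mk, ConjClasses.mk_eq_mk_iff_isConj, isConj_comm, isConj_iff] at hg
        obtain ⟨c, hc⟩ := hg
        refine ⟨(c : G) * g, ?_⟩
        have h1 := congrArg Subtype.val hc
        rw [Subgroup.coe_mul, Subgroup.coe_mul, MulAut.conjNormal_apply] at h1
        rw [← h1, Subgroup.coe_inv]
        group
  rw [hL, hR, h12]

end Cfsg.Agent.S4866
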