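import Mathlib
import Cfsg.Prelude
import Cfsg.Agent.Lib.Helper7.OddGalois
import Cfsg.Agent.S0159
import Cfsg.Agent.S4476

set_option autoImplicit false

namespace Cfsg.Agent.S4873

open Cfsg Cfsg.Agent.Lib.Helper26
open scoped ComplexConjugate

theorem sqrtCount_restrict {G : Type*} [Group G] [Fintype G] [DecidableEq G] (N : Subgroup G)
    [N.Normal] [Fintype N] [DecidableEq N] (hodd : Odd N.index) (n : N) :
    Cfsg.Agent.S0159.sqrtCount (n : G) = Cfsg.Agent.S0159.sqrtCount n := by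
  classical
  unfold Cfsg.Agent.S0159.sqrtCount
  have hmem : ∀ s : G, s * s = (n : G) → s ∈ N := by
    intro s hs
    obtain ⟨j, hj⟩ := hodd
    have h1 : s ^ N.index ∈ N := Subgroup.pow_index_mem N s
    have h2 : (s * s) ^ j ∈ N := by rw [hs]; exact N.pow_mem n.2 j
    have h0 : s ^ N.index = (s * s) ^ j * s := by
      rw [hj, pow_succ, pow_mul, pow_two]
    have h3 : s = ((s * s) ^ j)⁻¹ * s ^ N.index := by
      rw [h0, inv_mul_cancel_left]
    rw [h3]
    exact N.mul_mem (N.inv_mem h2) h1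
  have h4 : ∑ s : G, (if s * s = (n : G) then (1 : ℂ) else 0) =
      ∑ s ∈ Finset.univ.filter (fun s : G => s ∈ N), (if s * s = (n : G) then (1 : ℂ) else 0) := by
    symm
    apply Finset.sum_subset (Finset.filter_subset _ _)
    intro s _ hs
    rw [Finset.mem_filter] at hs
    have : ¬ s * s = (n : G) := fun h => hs ⟨Finset.mem_univ _, hmem s h⟩
    rw [if_neg this]
  rw [h4]
  rw [Finset.sum_subtype (Finset.univ.filter (fun s : G => s ∈ N)) (p := fun s => s ∈ N)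
    (fun s => by simp) (fun s => if s * s = (n : G) then (1 : ℂ) else 0)]
  apply Finset.sum_congr rfl
  intro s _
  have : ((s : G) * (s : G) = (n : G)) ↔ s * s = n := by
    rw [← Subgroup.coe_mul, Subtype.ext_iff]
  simp only [this]

/-- Let N be a normal subgroup of odd index in the finite group G. Then every irreducible complex character of N with Frobenius–Schur indicator +1 lies under exactly one irreducible character of G with Frobenius–Schur indicator +1. -/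
theorem result {G : Type*} [Group G] [Finite G] (N : Subgroup G) [N.Normal] (hodd : Odd N.index) (φ : Cfsg.IrrCharacter ↥N) (hφ : (Nat.card ↥N : ℂ)⁻¹ * ∑ᶠ g : ↥N, (φ : ↥N → ℂ) (g * g) = 1) : ∃! χ : Cfsg.IrrCharacter G, (Nat.card G : ℂ)⁻¹ * ∑ᶠ g : G, (χ : G → ℂ) (g * g) = 1 ∧ (∑ᶠ n : ↥N, (χ : G → ℂ) n * (starRingEnd ℂ) ((φ : ↥N → ℂ) n)) ≠ 0 := by
  classical
  haveI : Fintype G := Fintype.ofFinite G
  haveI : Fintype N := Fintype.ofFinite N
  haveI : Fintype (Cfsg.IrrCharacter G) := Fintype.ofFinite _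
  have hG0 : (Nat.card G : ℂ) ≠ 0 := Nat.cast_ne_zero.mpr Nat.card_pos.ne'
  have hN0 : (Nat.card N : ℂ) ≠ 0 := Nat.cast_ne_zero.mpr Nat.card_pos.ne'
  rw [finsum_eq_sum_of_fintype] at hφ
  simp only [finsum_eq_sum_of_fintype]
  -- the exponent k
  set c := Nat.card G with hc
  have hcpos : 0 < c := Nat.card_pos
  set k := 2 * c - 1 with hkdef
  have hk1 : k + 1 = 2 * c := by omega
  have hk : k.Coprime c := by
    have h1 : Nat.Coprime k (k + 1) := by simp
    exact Nat.Coprime.coprime_dvd_right ⟨2, by rw [hk1, mul_comm]⟩ h1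
  have hpowG : ∀ g : G, g ^ k = g⁻¹ := by
    intro g
    have h1 : g ^ (k + 1) = 1 := by
      rw [hk1, mul_comm, pow_mul, hc, pow_card_eq_one', one_pow]
    rw [pow_succ] at h1
    exact eq_inv_of_mul_eq_one_left h1
  have hk₂ : ∀ g : G, Odd (orderOf g) → g ^ k = g⁻¹ := fun g _ => hpowG g
  have hpowN : ∀ n : N, n ^ k = n⁻¹ := by
    intro n
    apply Subtype.ext
    rw [Subgroup.coe_pow, Subgroup.coe_inv]
    exact hpowG n
  -- indicator facts
  have hind : ∀ (H : Type _) [Group H] [Fintype H] (ξ : H → ℂ), IsIrrCharacter H ξ →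
      (Nat.card H : ℂ)⁻¹ * ∑ s : H, ξ (s * s) = 1 → ∀ h, conj (ξ h) = ξ h := by
    intro H _ _ ξ hξ h1
    obtain ⟨e, -, he, hreal⟩ := Cfsg.Agent.S4476.indicator ξ hξ
    apply hreal
    rintro rfl
    rw [he] at h1
    simp at h1
  have hφreal : ∀ n : N, conj ((φ : N → ℂ) n) = (φ : N → ℂ) n := hind N _ φ.2 hφ
  have hφc := isCharacter_of_isIrrCharacter φ.2
  have hφfix : ∀ n : N, (φ : N → ℂ) (n ^ k) = (φ : N → ℂ) n := by
    intro n
    rw [hpowN, ← isCharacter_conj_eq_inv hφc, hφreal]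
  obtain ⟨χ₀, hχ₀, hone, hχ₀f, -, huniq⟩ :=
    Cfsg.Agent.Lib.Helper7.OddGalois.main N hodd hk hk₂ (φ : N → ℂ) φ.2 hφfix
  -- fixed ↔ real
  have hfix_of_real : ∀ χ : G → ℂ, IsCharacter G χ → (∀ g, conj (χ g) = χ g) →
      ∀ g, χ (g ^ k) = χ g := by
    intro χ hχ hr g
    rw [hpowG, ← isCharacter_conj_eq_inv hχ, hr]
  -- ν of an irreducible character
  let ν : Cfsg.IrrCharacter G → ℂ := fun χ => (Nat.card G : ℂ)⁻¹ * ∑ s : G, (χ : G → ℂ) (s * s)
  have hexp := Cfsg.Agent.Lib.Helper4.classFunction_expansion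
    (Cfsg.Agent.S0159.sqrtCount (G := G)) Cfsg.Agent.S0159.isClassFunction_sqrtCount
  simp only [Cfsg.Agent.S0159.classInner_sqrtCount] at hexp
  -- restrict to N and pair with φ
  have hres : (fun n : N => Cfsg.Agent.S0159.sqrtCount (n : G)) =
      ∑ χ : Cfsg.IrrCharacter G, ν χ • (fun n : N => (χ : G → ℂ) n) := by
    funext n
    have := congrFun hexp (n : G)
    simp only [Finset.sum_apply, Pi.smul_apply] at this ⊢
    exact this
  have hresN : (fun n : N => Cfsg.Agent.S0159.sqrtCount (n : G)) =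
      Cfsg.Agent.S0159.sqrtCount (G := N) := by
    funext n
    exact sqrtCount_restrict N hodd n
  have hpair : classInner (Cfsg.Agent.S0159.sqrtCount (G := N)) (φ : N → ℂ) =
      ∑ χ : Cfsg.IrrCharacter G, ν χ * classInner (fun n : N => (χ : G → ℂ) n) (φ : N → ℂ) := by
    rw [← hresN, hres, Cfsg.Agent.Lib.Helper26.classInner_sum_left]
    refine Finset.sum_congr rfl fun χ _ => ?_
    rw [classInner_smul_left]
  rw [Cfsg.Agent.S0159.classInner_sqrtCount φ, hφ] at hpair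
  have hterm : ∀ χ : Cfsg.IrrCharacter G, χ ≠ ⟨χ₀, hχ₀⟩ →
      ν χ * classInner (fun n : N => (χ : G → ℂ) n) (φ : N → ℂ) = 0 := by
    intro χ hne
    by_contra h0
    have h1 : ν χ ≠ 0 := left_ne_zero_of_mul h0
    have h2 : classInner (fun n : N => (χ : G → ℂ) n) (φ : N → ℂ) ≠ 0 := right_ne_zero_of_mul h0
    obtain ⟨e, -, he, hreal⟩ := Cfsg.Agent.S4476.indicator (χ : G → ℂ) χ.2
    have he0 : e ≠ 0 := by
      rintro rfl
      apply h1
      show (Nat.card G : ℂ)⁻¹ * ∑ s : G, (χ : G → ℂ) (s * s) = 0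
      rw [he]; simp
    have hf := hfix_of_real (χ : G → ℂ) (isCharacter_of_isIrrCharacter χ.2) (hreal he0)
    exact hne (Subtype.ext (huniq (χ : G → ℂ) χ.2 h2 hf))
  rw [Finset.sum_eq_single (⟨χ₀, hχ₀⟩ : Cfsg.IrrCharacter G) (fun χ _ hne => hterm χ hne)
    (fun h => absurd (Finset.mem_univ _) h)] at hpair
  have hν₀ : ν ⟨χ₀, hχ₀⟩ = 1 := by
    have : classInner (fun n : N => ((⟨χ₀, hχ₀⟩ : Cfsg.IrrCharacter G) : G → ℂ) n) (φ : N → ℂ)
        = 1 := hone
    rw [this, mul_one] at hpair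
    exact hpair.symm
  have hsum_eq : ∀ χ : G → ℂ, (∑ n : N, χ n * (starRingEnd ℂ) ((φ : N → ℂ) n)) =
      (Nat.card N : ℂ) * classInner (fun n : N => χ n) (φ : N → ℂ) := by
    intro χ
    unfold Cfsg.classInner
    rw [← mul_assoc, mul_inv_cancel₀ hN0, one_mul]
  refine ⟨⟨χ₀, hχ₀⟩, ⟨hν₀, ?_⟩, ?_⟩
  · show (∑ n : N, χ₀ n * (starRingEnd ℂ) ((φ : N → ℂ) n)) ≠ 0
    rw [hsum_eq, hone, mul_one]; exact hN0
  · rintro χ ⟨hν, hcon⟩
    have hreal := hind G _ χ.2 hν
    have hf := hfix_of_real (χ : G → ℂ) (isCharacter_of_isIrrCharacter χ.2) hreal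
    have h2 : classInner (fun n : N => (χ : G → ℂ) n) (φ : N → ℂ) ≠ 0 := by
      intro h0
      apply hcon
      rw [hsum_eq, h0, mul_zero]
    exact Subtype.ext (huniq (χ : G → ℂ) χ.2 h2 hf)

end Cfsg.Agent.S4873
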