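import Cfsg.Statements.S4885
import Cfsg.Agent.Lib.Helper4.PSolvPrincipal
import Cfsg.Agent.Lib.Helper4.KerPPrime
import Cfsg.Agent.Lib.Helper4.TateCore

set_option autoImplicit false
open Cfsg

namespace Cfsg.Agent.S4885

/-- Let p and q be primes dividing the order of the finite group G, and suppose G is p-solvable and q-solvable. Fix maximal ideals of the algebraic integers containing p and q, defining the principal p-block and the principal q-block. If the irreducible characters of degree prime to p in the principal p-block are exactly the irreducible characters of degree prime to q in the principal q-block, then p = q. -/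
theorem result {G : Type*} [Group G] [Finite G] (p q : ℕ) [Fact p.Prime] [Fact q.Prime] (hp : p ∣ Nat.card G) (hq : q ∣ Nat.card G) (hps : Cfsg.IsPSolvable p G) (hqs : Cfsg.IsPSolvable q G) (Mp Mq : Ideal Cfsg.AlgInt) (hMp : Cfsg.IsPModular p Mp) (hMq : Cfsg.IsPModular q Mq) (h : ∀ χ : Cfsg.IrrCharacter G, (χ ∈ Cfsg.principalBlock Mp G ∧ ¬ p ∣ Cfsg.charDegree (χ : G → ℂ)) ↔ (χ ∈ Cfsg.principalBlock Mq G ∧ ¬ q ∣ Cfsg.charDegree (χ : G → ℂ))) : p = q := by
  classical
  open Cfsg.Agent.Lib.Helper4 Cfsg.Agent.Lib.Helper28 Cfsg.Agent.Lib.Helper26 in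
  have : Fintype G := Fintype.ofFinite G
  have hNpn : (pPrimeCore p G).Normal := Cfsg.Agent.Lib.Helper2.pPrimeCore_normal p
  have hNqn : (pPrimeCore q G).Normal := Cfsg.Agent.Lib.Helper2.pPrimeCore_normal q
  have hLn : (pPrimeCore p G ⊔ pPrimeCore q G).Normal := Subgroup.sup_normal _ _
  -- characters of `p'`-degree in `B₀(p)` have `L` in their kernel
  have hkerp : ∀ χ : IrrCharacter G, (∀ n ∈ pPrimeCore p G, (χ : G → ℂ) n = (χ : G → ℂ) 1) →
      ¬ p ∣ charDegree (χ : G → ℂ) → pPrimeCore p G ⊔ pPrimeCore q G ≤ charKer χ := by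
    intro χ h1 h2
    have hB : χ ∈ principalBlock Mp G := (mem_principalBlock_iff_of_isPSolvable hMp hps χ).mpr h1
    have hq' := (h χ).mp ⟨hB, h2⟩
    have h3 := (mem_principalBlock_iff_of_isPSolvable hMq hqs χ).mp hq'.1
    exact sup_le (fun n hn => (mem_charKer χ n).mpr (h1 n hn))
      (fun n hn => (mem_charKer χ n).mpr (h3 n hn))
  have hkerq : ∀ χ : IrrCharacter G, (∀ n ∈ pPrimeCore q G, (χ : G → ℂ) n = (χ : G → ℂ) 1) →
      ¬ q ∣ charDegree (χ : G → ℂ) → pPrimeCore p G ⊔ pPrimeCore q G ≤ charKer χ := by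
    intro χ h1 h2
    have hB : χ ∈ principalBlock Mq G := (mem_principalBlock_iff_of_isPSolvable hMq hqs χ).mpr h1
    have hp' := (h χ).mpr ⟨hB, h2⟩
    have h3 := (mem_principalBlock_iff_of_isPSolvable hMp hps χ).mp hp'.1
    exact sup_le (fun n hn => (mem_charKer χ n).mpr (h3 n hn))
      (fun n hn => (mem_charKer χ n).mpr (h1 n hn))
  obtain ⟨P⟩ : Nonempty (Sylow p G) := inferInstance
  obtain ⟨Q⟩ : Nonempty (Sylow q G) := inferInstance
  have hLP : (pPrimeCore p G ⊔ pPrimeCore q G) ⊓ (P : Subgroup G) ≤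
      (frattini P).map (P : Subgroup G).subtype := by
    intro x hx
    obtain ⟨hxL, hxP⟩ := Subgroup.mem_inf.mp hx
    have hc := mem_commutator_of_ker_pPrime (pPrimeCore p G)
      (Cfsg.Agent.Lib.Helper2.pPrimeCore_coprime p) P ⟨x, hxP⟩
      (fun χ h1 h2 => (mem_charKer χ x).mp (hkerp χ h1 h2 hxL))
    exact ⟨⟨x, hxP⟩, Cfsg.Agent.Lib.Helper14.commutator_le_frattini_of_isPGroup' P.2 hc, rfl⟩
  have hLQ : (pPrimeCore p G ⊔ pPrimeCore q G) ⊓ (Q : Subgroup G) ≤
      (frattini Q).map (Q : Subgroup G).subtype := by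
    intro x hx
    obtain ⟨hxL, hxQ⟩ := Subgroup.mem_inf.mp hx
    have hc := mem_commutator_of_ker_pPrime (pPrimeCore q G)
      (Cfsg.Agent.Lib.Helper2.pPrimeCore_coprime q) Q ⟨x, hxQ⟩
      (fun χ h1 h2 => (mem_charKer χ x).mp (hkerq χ h1 h2 hxL))
    exact ⟨⟨x, hxQ⟩, Cfsg.Agent.Lib.Helper14.commutator_le_frattini_of_isPGroup' Q.2 hc, rfl⟩
  exact prime_eq_of_frattini hps hp P Q (pPrimeCore p G ⊔ pPrimeCore q G) le_sup_left le_sup_right
    hLP hLQ


end Cfsg.Agent.S4885
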