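import Cfsg.Statements.S4888
import Cfsg.Agent.Lib.Helper2.TateBlockB
import Cfsg.Agent.Lib.Helper28.PrimeCoreB
import Cfsg.Agent.Lib.Helper28.BlockDefectE

set_option autoImplicit false
open Cfsg

namespace Cfsg.Agent.S4888

/-- Let G be a finite group, p a prime and M a maximal ideal of the algebraic integers containing p. Then all height-zero irreducible characters of the principal p-block of G (equivalently, all its characters of degree prime to p) have the same degree if and only if G has a normal p-complement. -/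
theorem result {G : Type*} [Group G] [Finite G] (p : ℕ) [Fact p.Prime] (M : Ideal Cfsg.AlgInt) (hM : Cfsg.IsPModular p M) : (∃ d : ℕ, ∀ χ : Cfsg.IrrCharacter G, χ ∈ (Cfsg.principalBlock M G) → Cfsg.blockHeight p (Cfsg.principalBlock M G) (χ : G → ℂ) = 0 → Cfsg.charDegree (χ : G → ℂ) = d) ↔ Cfsg.HasNormalPComplement p G := by
  classical
  have : Fintype G := Fintype.ofFinite G
  have hp : p.Prime := Fact.out
  have hprime : M.IsPrime := hM.2.1.isPrime
  have hMtop : M ≠ ⊤ := hM.2.1.ne_top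
  have hdeg1 : Cfsg.charDegree ((Cfsg.Agent.Lib.Helper28.trivIrr G : Cfsg.IrrCharacter G) : G → ℂ) = 1 := by
    show Cfsg.charDegree (fun _ : G => (1 : ℂ)) = 1
    unfold Cfsg.charDegree
    simp
  constructor
  · rintro ⟨d, hd⟩
    have hd1 : d = 1 := by
      have h0 := hd (Cfsg.Agent.Lib.Helper28.trivIrr G)
        (Cfsg.Agent.Lib.Helper28.trivIrr_mem_principalBlock hMtop)
        (by unfold Cfsg.blockHeight; rw [hdeg1]; simp)
      rw [hdeg1] at h0
      exact h0.symm
    have key : ∀ χ : Cfsg.IrrCharacter G, χ ∈ Cfsg.principalBlock M G →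
        ¬ p ∣ Cfsg.charDegree (χ : G → ℂ) → Cfsg.charDegree (χ : G → ℂ) = 1 := by
      intro χ hχ hnd
      rw [← hd1]
      apply hd χ hχ
      unfold Cfsg.blockHeight
      rw [Nat.factorization_eq_zero_of_not_dvd hnd]
      exact Nat.zero_sub _
    obtain ⟨P⟩ : Nonempty (Sylow p G) := inferInstance
    apply Cfsg.Agent.Lib.Helper2.TateBlock.hasNormalPComplement_of_residual_inf_le P
    apply Cfsg.Agent.Lib.Helper2.TateBlock.residual_inf_sylow_le_frattini P
    intro φ
    have hη1 : ((Cfsg.Agent.Lib.Helper2.Kaz.linIrr φ : Cfsg.IrrCharacter ↥(P : Subgroup G)) :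
        ↥(P : Subgroup G) → ℂ) 1 = 1 := by
      rw [Cfsg.Agent.Lib.Helper2.Kaz.linIrr_apply, map_one]
      rfl
    obtain ⟨χ, hχB, hχd, hχne⟩ := Cfsg.Agent.Lib.Helper2.TateBlock.exists_over_linear hM P
      (Cfsg.Agent.Lib.Helper2.Kaz.linIrr φ) hη1
    have hχ1 : Cfsg.charDegree (χ : G → ℂ) = 1 := key χ hχB hχd
    have hχone : (χ : G → ℂ) 1 = 1 := by
      rw [Cfsg.Agent.Lib.Helper4.irr_one_eq_charDegree χ, hχ1]
      simp
    obtain ⟨ψ, hψ⟩ := Cfsg.Agent.Lib.Helper24.exists_hom_of_isCharacter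
      (Cfsg.Agent.Lib.Helper26.isCharacter_of_isIrrCharacter χ.2) hχone
    refine ⟨ψ, Cfsg.Agent.Lib.Helper2.TateBlock.eq_on_of_classInner_ne_zero
      (P : Subgroup G) φ ψ ?_⟩
    rw [← hψ]
    exact hχne
  · intro hnpc
    obtain ⟨K, hKn, hKc, k, hk⟩ := Cfsg.Agent.Lib.Helper13.npc_iff.mp hnpc
    haveI := hKn
    have : Fintype (G ⧸ K) := Fintype.ofFinite _
    refine ⟨1, ?_⟩
    intro χ hχ hht
    obtain ⟨ψ, hψB, hψχ⟩ := (Cfsg.Agent.Lib.Helper28.bijOn_inflIrrQ hM K hKc).surjOn hχ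
    have hdeg : Cfsg.charDegree (χ : G → ℂ) = Cfsg.charDegree (ψ : G ⧸ K → ℂ) := by
      rw [← hψχ]
      unfold Cfsg.charDegree
      rw [Cfsg.Agent.Lib.Helper28.inflIrrQ_apply]
      rfl
    obtain ⟨-, -, hdvd⟩ := Cfsg.Agent.Lib.Helper28.irr_degree_nat ψ.2
    rw [← Subgroup.index_eq_card, hk] at hdvd
    obtain ⟨j, -, hj⟩ := (Nat.dvd_prime_pow hp).mp hdvd
    rw [hdeg, hj]
    cases j with
    | zero => rfl
    | succ j =>
      exfalso
      unfold Cfsg.blockHeight at hht
      rw [hdeg, hj] at hht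
      have hfac : (p ^ (j + 1)).factorization p = j + 1 := by
        rw [Nat.Prime.factorization_pow hp]
        simp
      rw [hfac] at hht
      have hle : sInf ((fun ψ : Cfsg.IrrCharacter G =>
          (Cfsg.charDegree (ψ : G → ℂ)).factorization p) '' Cfsg.principalBlock M G) ≤ 0 := by
        apply Nat.sInf_le
        refine ⟨Cfsg.Agent.Lib.Helper28.trivIrr G,
          Cfsg.Agent.Lib.Helper28.trivIrr_mem_principalBlock hMtop, ?_⟩
        show (Cfsg.charDegree ((Cfsg.Agent.Lib.Helper28.trivIrr G : Cfsg.IrrCharacter G) :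
          G → ℂ)).factorization p = 0
        rw [hdeg1]
        simp
      omega

end Cfsg.Agent.S4888
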