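import Mathlib
import Cfsg.Prelude
import Cfsg.Agent.Lib.Helper7.GlaubReal

set_option autoImplicit false
set_option linter.style.haveILetI false

namespace Cfsg.Agent.S4911

open Cfsg Cfsg.Agent.Lib.Helper7.GlaubP Cfsg.Agent.Lib.Helper7.GlaubCount
  Cfsg.Agent.Lib.Helper7.GlaubReal

/-- Let P and K be subgroups of a finite group with P a p-group normalizing K and K of order prime to p. Then the number of P-invariant real-valued irreducible complex characters of K equals the number of conjugacy classes of K that are real (closed under inversion) and P-invariant. Moreover, if every real-valued irreducible character of K is P-invariant, then every real element of K (one conjugate in K to its inverse) is conjugate in K to an element centralized by P. -/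
theorem result {G : Type*} [Group G] [Finite G] (p : ℕ) [Fact p.Prime] (P K : Subgroup G) (hP : IsPGroup p ↥P) (hK : ¬ p ∣ Nat.card ↥K) (hPK : P ≤ Subgroup.normalizer (K : Set G)) : Nat.card {θ : Cfsg.IrrCharacter ↥K // (∀ k : ↥K, ((θ : ↥K → ℂ) k).im = 0) ∧ (∀ x ∈ P, ∀ k k' : ↥K, (k' : G) = x * (k : G) * x⁻¹ → (θ : ↥K → ℂ) k' = (θ : ↥K → ℂ) k)} = Nat.card {c : ConjClasses ↥K // (∀ k : ↥K, ConjClasses.mk k = c → IsConj k k⁻¹) ∧ ∀ k : ↥K, ConjClasses.mk k = c → ∀ x ∈ P, ∀ k' : ↥K, (k' : G) = x * (k : G) * x⁻¹ → ConjClasses.mk k' = c} ∧ ((∀ θ : Cfsg.IrrCharacter ↥K, (∀ k : ↥K, ((θ : ↥K → ℂ) k).im = 0) → (∀ x ∈ P, ∀ k k' : ↥K, (k' : G) = x * (k : G) * x⁻¹ → (θ : ↥K → ℂ) k' = (θ : ↥K → ℂ) k)) → ∀ k : ↥K, IsConj k k⁻¹ → ∃ k' : ↥K, IsConj k k' ∧ ∀ x ∈ P, x * (k' : G) * x⁻¹ = (k' : G)) := by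
  classical
  have hp : p.Prime := Fact.out
  set C : Subgroup G := K ⊓ Subgroup.centralizer (P : Set G) with hCdef
  have hCK : C ≤ K := inf_le_left
  have hnorm : ∀ s ∈ P, ∀ g ∈ K, s * g * s⁻¹ ∈ K := by
    intro s hs g hg
    exact (Subgroup.mem_normalizer_iff.mp (hPK hs) g).mp hg
  have hcop : (Nat.card K).Coprime (Nat.card P) := by
    obtain ⟨n, hn⟩ := IsPGroup.iff_card.mp hP
    rw [hn]
    exact Nat.Coprime.pow_right n ((Nat.Prime.coprime_iff_not_dvd hp).mpr hK).symm
  have hsolv : Group.IsSolvable P := by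
    haveI := hP.isNilpotent
    infer_instance
  have hpk : ∀ s ∈ P, ∃ k : ℕ, s ^ p ^ k ∈ Subgroup.centralizer (K : Set G) := by
    intro s hs
    obtain ⟨k, hk⟩ := hP ⟨s, hs⟩
    refine ⟨k, ?_⟩
    have : s ^ p ^ k = 1 := by
      have := congrArg Subtype.val hk
      simpa using this
    rw [this]
    exact Subgroup.one_mem _
  have hCfix : ∀ g ∈ K, g ∈ C ↔ ∀ s ∈ P, s * g * s⁻¹ = g := by
    intro g hg
    rw [hCdef, mem_fixedSub]
    exact ⟨fun h => h.2, fun h => ⟨hg, h⟩⟩
  haveI : Fintype K := Fintype.ofFinite _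
  haveI : Fintype C := Fintype.ofFinite _
  have hgc : GCProp p K P C hCK :=
    gc_aux hp P (Nat.card K) K C hCK le_rfl hnorm hK hpk hCfix
  have h1 := card_real_inv_eq hp K P C hCK hgc
  have h2 := card_real_irr (H := C)
  have h3 := card_classes_real K P C hnorm hcop hsolv hCdef hCK
  have hclsEq : ∀ c : ConjClasses K,
      ((∀ k : ↥K, ConjClasses.mk k = c → IsConj k k⁻¹) ∧ ∀ k : ↥K, ConjClasses.mk k = c →
        ∀ x ∈ P, ∀ k' : ↥K, (k' : G) = x * (k : G) * x⁻¹ → ConjClasses.mk k' = c) ↔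
      (ClassReal c ∧ ClassInv K P c) := by
    intro c
    refine and_congr Iff.rfl ⟨fun h s hs g g' hgg' hg => h g hg s hs g' hgg',
      fun h k hk x hx k' hk' => h x hx k k' hk' hk⟩
  have hcard : Nat.card {θ : Cfsg.IrrCharacter ↥K // FnReal (θ : ↥K → ℂ) ∧ SInv K P (θ : ↥K → ℂ)} =
      Nat.card {c : ConjClasses K // ClassReal c ∧ ClassInv K P c} := by
    rw [h1, h2, h3]
  refine ⟨?_, ?_⟩
  · rw [Nat.card_congr (Equiv.subtypeEquivRight hclsEq)]
    exact hcard
  · intro hall k hk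
    have h4 : Nat.card {θ : Cfsg.IrrCharacter ↥K // FnReal (θ : ↥K → ℂ)} =
        Nat.card {θ : Cfsg.IrrCharacter ↥K // FnReal (θ : ↥K → ℂ) ∧ SInv K P (θ : ↥K → ℂ)} := by
      refine Nat.card_congr (Equiv.subtypeEquivRight ?_)
      intro θ
      exact ⟨fun h => ⟨h, hall θ h⟩, fun h => h.1⟩
    have h5 := card_real_irr (H := K)
    have h6 : Nat.card {c : ConjClasses K // ClassReal c} =
        Nat.card {c : ConjClasses K // ClassReal c ∧ ClassInv K P c} := by
      rw [← h5, h4, hcard]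
    let ι : {c : ConjClasses K // ClassReal c ∧ ClassInv K P c} → {c : ConjClasses K // ClassReal c} :=
      fun c => ⟨c.1, c.2.1⟩
    have hι : Function.Injective ι := by
      intro a b hab
      have h8 : (ι a).1 = (ι b).1 := congrArg Subtype.val hab
      exact Subtype.ext h8
    have hιs : Function.Surjective ι :=
      (hι.bijective_of_nat_card_le h6.le).2
    obtain ⟨⟨c, hcr, hci⟩, hc⟩ := hιs ⟨ConjClasses.mk k, (classReal_mk k).mpr hk⟩
    have hck : c = ConjClasses.mk k := congrArg Subtype.val hc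
    subst hck
    obtain ⟨e, he⟩ := classes_bij K P C hnorm hcop hsolv hCdef hCK
    obtain ⟨c0, hc0⟩ := e.surjective ⟨ConjClasses.mk k, hci⟩
    have h7 : ConjClasses.map (Subgroup.inclusion hCK) c0 = ConjClasses.mk k := by
      rw [← he c0, hc0]
    obtain ⟨k0, rfl⟩ := ConjClasses.mk_surjective c0
    rw [map_mk', ConjClasses.mk_eq_mk_iff_isConj] at h7
    refine ⟨Subgroup.inclusion hCK k0, h7.symm, ?_⟩
    intro x hx
    exact ((hCfix (k0 : G) (hCK k0.2)).mp k0.2) x hx

end Cfsg.Agent.S4911
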