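import Cfsg.Statements.S4916
import Cfsg.Agent.S0914
import Cfsg.Agent.Lib.Helper28.BlockDefectE

set_option autoImplicit false
open Cfsg

namespace Cfsg.Agent.S4916

open scoped ComplexConjugate

open Cfsg.Agent.Lib.Helper28 in
theorem result {G : Type*} [Group G] [Finite G] (p : ℕ) [Fact p.Prime] (M : Ideal Cfsg.AlgInt) (hM : Cfsg.IsPModular p M) : (∀ χ : Cfsg.IrrCharacter G, χ ∈ Cfsg.principalBlock M G → ¬ p ∣ Cfsg.charDegree (χ : G → ℂ) → (χ : G → ℂ) = fun _ => (1 : ℂ)) ↔ ¬ p ∣ Nat.card G := by
  classical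
  have : Fintype G := Fintype.ofFinite G
  have : Fintype (IrrCharacter G) := Fintype.ofFinite _
  have hp : p.Prime := hM.1
  have hprime : M.IsPrime := hM.2.1.isPrime
  have hMtop : M ≠ ⊤ := hM.2.1.ne_top
  have hB : IsPBlock M (principalBlock M G) := isPBlock_principalBlock
  have hdeg1 : charDegree ((trivIrr G : IrrCharacter G) : G → ℂ) = 1 := by
    show charDegree (fun _ : G => (1 : ℂ)) = 1
    unfold charDegree
    simp
  constructor
  · intro h hpG
    obtain ⟨y, hy⟩ := exists_prime_orderOf_dvd_card' p hpG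
    have h1 := weak_orthogonality_of_memLocalRing hM (principalBlock M G)
      (fun g => osima hB g) 1 y (by simp [hp.ne_one]) (by rw [hy])
    rw [← Finset.add_sum_erase Finset.univ _ (Finset.mem_univ (trivIrr G)),
      if_pos (trivIrr_mem_principalBlock hMtop)] at h1
    have h2 : ((trivIrr G : IrrCharacter G) : G → ℂ) 1 *
        conj (((trivIrr G : IrrCharacter G) : G → ℂ) y) = 1 := by
      show (1 : ℂ) * conj (1 : ℂ) = 1
      simp
    rw [h2] at h1
    have h3 : MemLocalIdeal M (∑ χ ∈ Finset.univ.erase (trivIrr G),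
        if χ ∈ principalBlock M G then (χ : G → ℂ) 1 * conj ((χ : G → ℂ) y) else 0) := by
      apply memLocalIdeal_sum
      intro χ hχ
      have hne : χ ≠ trivIrr G := (Finset.mem_erase.mp hχ).1
      split_ifs with hχB
      · have hpd : p ∣ charDegree (χ : G → ℂ) := by
          by_contra hnd
          apply hne
          apply Subtype.ext
          exact h χ hχB hnd
        obtain ⟨t, ht⟩ := hpd
        obtain ⟨-, hχ1, -⟩ := irr_degree_nat χ.2
        rw [hχ1, ht]
        push_cast
        rw [mul_assoc]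
        apply memLocalIdeal_mul_right (memLocalIdeal_natCast_p hM)
        apply memLocalRing_of_isIntegral hMtop
        refine IsIntegral.mul ?_ ?_
        · have h := isIntegral_algebraMap (R := ℤ) (A := ℂ) (x := (t : ℤ))
          simpa using h
        · rw [Cfsg.Agent.Lib.Helper26.isCharacter_conj_eq_inv
            (Cfsg.Agent.Lib.Helper26.isCharacter_of_isIrrCharacter χ.2)]
          obtain ⟨n, ρ, hirr, hρ⟩ := χ.2
          rw [← hρ]
          exact Cfsg.Agent.Lib.Helper4.character_isIntegral ρ y⁻¹
      · exact memLocalIdeal_zero hMtop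
    have h4 : (1 : ℂ) = -(∑ χ ∈ Finset.univ.erase (trivIrr G),
        if χ ∈ principalBlock M G then (χ : G → ℂ) 1 * conj ((χ : G → ℂ) y) else 0) := by
      linear_combination h1
    apply not_memLocalIdeal_one hMtop
    rw [h4]
    exact memLocalIdeal_neg h3
  · intro hpG χ hχ _
    have h1 : ¬ p ∣ Nat.card G / charDegree ((trivIrr G : IrrCharacter G) : G → ℂ) := by
      rw [hdeg1, Nat.div_one]
      exact hpG
    have h2 := (Cfsg.Agent.S0914.result p M hM (trivIrr G)).mp h1
    have h3 : χ ∈ blockOf M ((trivIrr G : IrrCharacter G) : G → ℂ) := hχ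
    rw [h2, Set.mem_singleton_iff] at h3
    rw [h3]
    rfl

end Cfsg.Agent.S4916
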