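import Mathlib
import Cfsg.Prelude
import Cfsg.Agent.Lib.Helper7.KGVStab

set_option autoImplicit false
open Cfsg

namespace Cfsg.Agent.S4955

theorem card_conjClasses_congr {A B : Type*} [Group A] [Group B] (e : A ≃* B) :
    Nat.card (ConjClasses A) = Nat.card (ConjClasses B) := by
  apply Nat.card_congr
  refine ⟨ConjClasses.map e.toMonoidHom, ConjClasses.map e.symm.toMonoidHom, ?_, ?_⟩
  · intro c
    obtain ⟨a, rfl⟩ := ConjClasses.mk_surjective c
    show ConjClasses.mk (e.symm (e a)) = ConjClasses.mk a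
    rw [MulEquiv.symm_apply_apply]
  · intro c
    obtain ⟨a, rfl⟩ := ConjClasses.mk_surjective c
    show ConjClasses.mk (e (e.symm a)) = ConjClasses.mk a
    rw [MulEquiv.apply_symm_apply]

theorem card_centralizer_of_complement {X : Type*} [Group X] [Finite X] (V G : Subgroup X)
    (hab : ∀ a ∈ V, ∀ b ∈ V, a * b = b * a) (hGV : Subgroup.IsComplement' V G) (v : X)
    (hv : v ∈ V) :
    Nat.card (Subgroup.centralizer ({v} : Set X)) =
      Nat.card ↥(G ⊓ Subgroup.centralizer ({v} : Set X)) * Nat.card V := by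
  classical
  have hVC : ∀ u ∈ V, u ∈ Subgroup.centralizer ({v} : Set X) := by
    intro u hu
    rw [Subgroup.mem_centralizer_singleton_iff]
    exact hab u hu v hv
  rw [← Nat.card_prod]
  symm
  apply Nat.card_congr
  refine Equiv.ofBijective (fun x : ↥(G ⊓ Subgroup.centralizer ({v} : Set X)) × V =>
    (⟨(x.2 : X) * (x.1 : X), Subgroup.mul_mem _ (hVC _ x.2.2) x.1.2.2⟩ :
      Subgroup.centralizer ({v} : Set X))) ⟨?_, ?_⟩
  · rintro ⟨⟨g, hg⟩, ⟨u, hu⟩⟩ ⟨⟨g', hg'⟩, ⟨u', hu'⟩⟩ h
    have h1 : u * g = u' * g' := congrArg Subtype.val h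
    have h2 := hGV.1 (a₁ := ((⟨u, hu⟩ : (V : Set X)), (⟨g, hg.1⟩ : (G : Set X))))
      (a₂ := ((⟨u', hu'⟩ : (V : Set X)), (⟨g', hg'.1⟩ : (G : Set X)))) h1
    have h3 : u = u' := congrArg (fun x => ((x.1 : (V : Set X)) : X)) h2
    have h4 : g = g' := congrArg (fun x => ((x.2 : (G : Set X)) : X)) h2
    subst h3
    subst h4
    rfl
  · rintro ⟨c, hc⟩
    obtain ⟨⟨⟨u, hu⟩, ⟨g, hg⟩⟩, h⟩ := hGV.2 c
    have h1 : u * g = c := h
    have hgc : g ∈ Subgroup.centralizer ({v} : Set X) := by
      have h2 : g = u⁻¹ * c := by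
        rw [← h1]
        group
      rw [h2]
      exact Subgroup.mul_mem _ (Subgroup.inv_mem _ (hVC u hu)) hc
    exact ⟨(⟨g, ⟨hg, hgc⟩⟩, ⟨u, hu⟩), Subtype.ext h1⟩

/-- Let X be a finite group with an abelian normal Sylow p-subgroup V (a normal p-subgroup of index prime to p in which any two elements commute), and let G be a complement to V in X. Then for every v in V, writing C for the centralizer of v in G, the number k(X) of conjugacy classes of X satisfies k(X) ≤ (order of C)·(order of V) − ((order of G) − k(G)); the statement is written with the subtracted term moved to the left. In particular, if some v in V is centralized by no nonidentity element of G, then k(X) is at most the order of V. -/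
theorem result {X : Type*} [Group X] [Finite X] (p : ℕ) [Fact p.Prime] (V : Subgroup X) [V.Normal] (hVp : IsPGroup p V) (hidx : ¬ p ∣ V.index) (hab : ∀ a ∈ V, ∀ b ∈ V, a * b = b * a) (G : Subgroup X) (hGV : Subgroup.IsComplement' V G) (v : X) (hv : v ∈ V) : Nat.card (ConjClasses X) + Nat.card G ≤ Nat.card ↥(G ⊓ Subgroup.centralizer ({v} : Set X)) * Nat.card V + Nat.card (ConjClasses G) := by
  classical
  haveI : Fintype X := Fintype.ofFinite X
  have h1 := Cfsg.Agent.Lib.Helper7.KGV.stabilizer_bound p V hVp hidx hab v hv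
  have h2 : V.index = Nat.card G := hGV.symm.index_eq_card
  have h3 : Nat.card (ConjClasses (X ⧸ V)) = Nat.card (ConjClasses G) :=
    card_conjClasses_congr hGV.symm.QuotientMulEquiv
  have h4 := card_centralizer_of_complement V G hab hGV v hv
  rw [h2, h3, h4] at h1
  exact h1


end Cfsg.Agent.S4955
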