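import Cfsg.Statements.S4956
import Mathlib

set_option autoImplicit false
open Cfsg

namespace Cfsg.Agent.S4956

theorem card_eq_mul_of_fibers {α β : Type*} [Finite α] [Finite β] (f : α → β) (k : ℕ)
    (h : ∀ b, Nat.card {a : α // f a = b} = k) : Nat.card α = Nat.card β * k := by
  classical
  haveI := Fintype.ofFinite β
  rw [Nat.card_congr (Equiv.sigmaFiberEquiv f).symm, Nat.card_sigma]
  simp [h, Nat.card_eq_fintype_card]

theorem card_eq_sum_fibers {α β : Type*} [Finite α] [Fintype β] (f : α → β) :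
    Nat.card α = ∑ b, Nat.card {a : α // f a = b} := by
  classical
  rw [Nat.card_congr (Equiv.sigmaFiberEquiv f).symm, Nat.card_sigma]

/-- abstract counting lemma for two commuting endomorphisms -/
theorem lemmaB {V : Type*} [CommGroup V] [Finite V] (a b : V →* V)
    (hcomm : ∀ v, a (b v) = b (a v)) (hdisj : a.ker ⊓ a.range = ⊥) :
    Nat.card {q : V × V // b q.1 = a q.2} = Nat.card V * Nat.card ↥(a.ker ⊓ b.ker) := by
  have hcard : Nat.card a.ker * Nat.card a.range = Nat.card V := by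
    have h1 := Subgroup.card_eq_card_quotient_mul_card_subgroup a.ker
    have h2 : Nat.card (V ⧸ a.ker) = Nat.card a.range :=
      Nat.card_congr (QuotientGroup.quotientKerEquivRange a).toEquiv
    rw [h1, h2, mul_comm]
  have hC : Subgroup.IsComplement' a.ker a.range :=
    Subgroup.isComplement'_of_card_mul_and_disjoint hcard (disjoint_iff.mpr hdisj)
  have hex : ∀ v : V, ∃ v1 ∈ a.ker, ∃ v2 ∈ a.range, v = v1 * v2 := by
    intro v
    obtain ⟨⟨⟨v1, h1⟩, ⟨v2, h2⟩⟩, h, -⟩ := hC.existsUnique v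
    exact ⟨v1, h1, v2, h2, h.symm⟩
  choose p1 hp1 p2 hp2 hp using hex
  have huniq : ∀ v1 ∈ a.ker, ∀ v2 ∈ a.range, p1 (v1 * v2) = v1 ∧ p2 (v1 * v2) = v2 := by
    intro v1 h1 v2 h2
    have e := hp (v1 * v2)
    have hmem : (p1 (v1 * v2))⁻¹ * v1 ∈ a.ker ⊓ a.range := by
      refine Subgroup.mem_inf.mpr ⟨mul_mem (inv_mem (hp1 _)) h1, ?_⟩
      have e2 : (p1 (v1 * v2))⁻¹ * v1 = p2 (v1 * v2) * v2⁻¹ := by
        rw [inv_mul_eq_iff_eq_mul, ← mul_assoc, ← e, mul_inv_cancel_right]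
      rw [e2]; exact mul_mem (hp2 _) (inv_mem h2)
    rw [hdisj, Subgroup.mem_bot, inv_mul_eq_one] at hmem
    refine ⟨hmem, ?_⟩
    rw [hmem] at e
    exact (mul_left_cancel e).symm
  have hbker : ∀ v ∈ a.ker, b v ∈ a.ker := by
    intro v hv
    rw [MonoidHom.mem_ker] at hv ⊢
    rw [hcomm, hv, map_one]
  have hbrange : ∀ v ∈ a.range, b v ∈ a.range := by
    rintro v ⟨w, rfl⟩
    exact ⟨b w, hcomm w⟩
  -- the map to `(ker a ⊓ ker b) × range a`
  have hkey : ∀ q : {q : V × V // b q.1 = a q.2}, p1 q.1.1 ∈ a.ker ⊓ b.ker := by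
    intro q
    refine Subgroup.mem_inf.mpr ⟨hp1 _, ?_⟩
    rw [MonoidHom.mem_ker]
    have e := hp q.1.1
    have h1 : b (p1 q.1.1) ∈ a.ker := hbker _ (hp1 _)
    have h2 : b (p1 q.1.1) ∈ a.range := by
      have e' : b q.1.1 = b (p1 q.1.1) * b (p2 q.1.1) := by rw [← map_mul, ← e]
      have e2 : b (p1 q.1.1) = b q.1.1 * (b (p2 q.1.1))⁻¹ := by
        rw [e', mul_inv_cancel_right]
      rw [e2, q.2]
      exact mul_mem ⟨_, rfl⟩ (inv_mem (hbrange _ (hp2 _)))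
    have h3 : b (p1 q.1.1) ∈ a.ker ⊓ a.range := Subgroup.mem_inf.mpr ⟨h1, h2⟩
    rwa [hdisj, Subgroup.mem_bot] at h3
  have hmain : Nat.card {q : V × V // b q.1 = a q.2} =
      Nat.card (↥(a.ker ⊓ b.ker) × ↥a.range) * Nat.card a.ker := by
    apply card_eq_mul_of_fibers (fun q : {q : V × V // b q.1 = a q.2} =>
      ((⟨p1 q.1.1, hkey q⟩, ⟨p2 q.1.1, hp2 _⟩) : ↥(a.ker ⊓ b.ker) × ↥a.range))
    rintro ⟨⟨c, hc⟩, ⟨r, hr⟩⟩
    have hc' := Subgroup.mem_inf.mp hc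
    obtain ⟨w0, hw0⟩ : ∃ w0, a w0 = b r := hbrange r hr
    have hbc : b c = 1 := MonoidHom.mem_ker.mp hc'.2
    refine Nat.card_congr ⟨fun q => ⟨w0⁻¹ * q.1.1.2, ?_⟩, fun u => ⟨⟨(c * r, w0 * u.1), ?_⟩, ?_⟩,
      fun q => ?_, fun u => ?_⟩
    · rw [MonoidHom.mem_ker, map_mul, map_inv, hw0]
      have h1 : p1 q.1.1.1 = c := congrArg (fun z : ↥(a.ker ⊓ b.ker) × ↥a.range => z.1.1) q.2
      have h2 : p2 q.1.1.1 = r := congrArg (fun z : ↥(a.ker ⊓ b.ker) × ↥a.range => z.2.1) q.2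
      have e := hp q.1.1.1
      rw [h1, h2] at e
      rw [← q.1.2, e, map_mul, hbc, one_mul, inv_mul_cancel]
    · show b (c * r) = a (w0 * u.1)
      rw [map_mul, map_mul, hbc, one_mul, MonoidHom.mem_ker.mp u.2, mul_one, hw0]
    · have h := huniq c hc'.1 r hr
      apply Prod.ext
      · exact Subtype.ext h.1
      · exact Subtype.ext h.2
    · have h1 : p1 q.1.1.1 = c := congrArg (fun z : ↥(a.ker ⊓ b.ker) × ↥a.range => z.1.1) q.2
      have h2 : p2 q.1.1.1 = r := congrArg (fun z : ↥(a.ker ⊓ b.ker) × ↥a.range => z.2.1) q.2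
      have e := hp q.1.1.1
      rw [h1, h2] at e
      apply Subtype.ext; apply Subtype.ext
      apply Prod.ext
      · exact e.symm
      · show w0 * (w0⁻¹ * q.1.1.2) = q.1.1.2
        rw [mul_inv_cancel_left]
    · apply Subtype.ext
      show w0⁻¹ * (w0 * u.1) = u.1
      rw [inv_mul_cancel_left]
  rw [hmain, Nat.card_prod, ← hcard]
  ring

theorem exists_proj {X : Type*} [Group X] (V : Subgroup X) [V.Normal] (G : Subgroup X)
    (hGV : Subgroup.IsComplement' V G) :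
    ∃ π : X →* ↥G, (∀ g : ↥G, π g = g) ∧ (∀ x : X, π x = 1 ↔ x ∈ V) := by
  let e := hGV.symm.QuotientMulEquiv
  refine ⟨e.toMonoidHom.comp (QuotientGroup.mk' V), ?_, ?_⟩
  · intro g
    show e (QuotientGroup.mk (g : X)) = g
    have h : e.symm g = QuotientGroup.mk (g:X) := rfl
    rw [← h]
    exact e.apply_symm_apply g
  · intro x
    show e (QuotientGroup.mk x) = 1 ↔ x ∈ V
    rw [MulEquiv.map_eq_one_iff]
    exact QuotientGroup.eq_one_iff x

/-- the endomorphism `v ↦ v * (c v)⁻¹` -/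
noncomputable def dl {V : Type*} [CommGroup V] (c : MulAut V) : V →* V :=
  MonoidHom.mk' (fun v => v * (c v)⁻¹) (by
    intro x y
    rw [map_mul, mul_inv, mul_mul_mul_comm])

theorem dl_apply {V : Type*} [CommGroup V] (c : MulAut V) (v : V) : dl c v = v * (c v)⁻¹ := rfl

theorem lemmaK {V : Type*} [CommGroup V] [Finite V] (c d : MulAut V)
    (hcd : ∀ v, c (d v) = d (c v)) (n : ℕ) (hn : c ^ n = 1)
    (hcop : n.Coprime (Nat.card V)) :
    Nat.card {q : V × V // q.1 * (d q.1)⁻¹ = q.2 * (c q.2)⁻¹} =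
      Nat.card V * Nat.card {v : V // c v = v ∧ d v = v} := by
  have hcomm : ∀ v, dl c (dl d v) = dl d (dl c v) := by
    intro v
    simp only [dl_apply, map_mul, map_inv, mul_inv, inv_inv, hcd]
    simp only [mul_comm, mul_left_comm, mul_assoc]
  have hdisj : (dl c).ker ⊓ (dl c).range = ⊥ := by
    rw [eq_bot_iff]
    intro u hu
    obtain ⟨hu1, ⟨w, hw⟩⟩ := Subgroup.mem_inf.mp hu
    rw [MonoidHom.mem_ker, dl_apply, mul_inv_eq_one] at hu1
    rw [dl_apply] at hw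
    have hcw : c w = u⁻¹ * w := by
      rw [← hw, mul_inv_rev, inv_inv, inv_mul_cancel_right]
    have hi : ∀ i : ℕ, (c ^ i) w = (u ^ i)⁻¹ * w := by
      intro i
      induction i with
      | zero => simp
      | succ i ih =>
        rw [pow_succ', MulAut.mul_apply, ih, map_mul, map_inv, map_pow, ← hu1, hcw, pow_succ,
          mul_inv_rev, mul_assoc]
        simp only [mul_comm, mul_left_comm, mul_assoc]
    have hun : u ^ n = 1 := by
      have h := hi n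
      rw [hn, MulAut.one_apply] at h
      have h2 : (u ^ n)⁻¹ = 1 := by
        have h3 : (u ^ n)⁻¹ * w = 1 * w := by rw [one_mul]; exact h.symm
        exact mul_right_cancel h3
      rwa [inv_eq_one] at h2
    have hucard : u ^ Nat.card V = 1 := pow_card_eq_one'
    have hd : orderOf u ∣ Nat.gcd n (Nat.card V) :=
      Nat.dvd_gcd (orderOf_dvd_of_pow_eq_one hun) (orderOf_dvd_of_pow_eq_one hucard)
    rw [Nat.Coprime.gcd_eq_one hcop] at hd
    rw [Subgroup.mem_bot]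
    exact orderOf_eq_one_iff.mp (Nat.dvd_one.mp hd)
  have h := lemmaB (dl c) (dl d) hcomm hdisj
  have h2 : Nat.card ↥((dl c).ker ⊓ (dl d).ker) = Nat.card {v : V // c v = v ∧ d v = v} := by
    apply Nat.card_congr
    apply Equiv.subtypeEquivRight
    intro v
    rw [Subgroup.mem_inf, MonoidHom.mem_ker, MonoidHom.mem_ker, dl_apply, dl_apply,
      mul_inv_eq_one, mul_inv_eq_one, eq_comm, @eq_comm _ v (d v)]
  rw [← h2, ← h]
  rfl

theorem comm_key {X : Type*} [Group X] (V : Subgroup X) [nV : V.Normal]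
    (hab : ∀ a ∈ V, ∀ b ∈ V, a * b = b * a) (g h : X) (hgh : g * h = h * g)
    (v w : X) (hv : v ∈ V) (hw : w ∈ V) :
    v * g * (w * h) = w * h * (v * g) ↔ v * (h * v * h⁻¹)⁻¹ = w * (g * w * g⁻¹)⁻¹ := by
  have hw' : g * w * g⁻¹ ∈ V := nV.conj_mem w hw g
  have hv' : h * v * h⁻¹ ∈ V := nV.conj_mem v hv h
  have e1 : v * g * (w * h) = v * (g * w * g⁻¹) * (g * h) := by group
  have e2 : w * h * (v * g) = w * (h * v * h⁻¹) * (g * h) := by rw [hgh]; group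
  rw [e1, e2, mul_left_inj]
  generalize g * w * g⁻¹ = w' at hw'
  generalize h * v * h⁻¹ = v' at hv'
  have c1 : w'⁻¹ * v' = v' * w'⁻¹ := hab _ (inv_mem hw') _ hv'
  constructor
  · intro e
    rw [mul_inv_eq_iff_eq_mul, mul_assoc, c1, ← mul_assoc, ← e, mul_inv_cancel_right]
  · intro e
    rw [mul_inv_eq_iff_eq_mul, mul_assoc, c1, ← mul_assoc] at e
    rw [e, inv_mul_cancel_right]

theorem fiber_card {X : Type*} [Group X] [Finite X] (V : Subgroup X) [nV : V.Normal]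
    (hab : ∀ a ∈ V, ∀ b ∈ V, a * b = b * a) (G : Subgroup X)
    (hcop : (Nat.card V).Coprime (Nat.card G))
    (π : X →* ↥G) (hπG : ∀ g : ↥G, π g = g) (hπV : ∀ x : X, π x = 1 ↔ x ∈ V) (c : ↥G × ↥G) :
    Nat.card {p : {p : X × X // Commute p.1 p.2} // (π p.1.1, π p.1.2) = c} =
      Nat.card ↥V * Nat.card {v : ↥V // (c.1 : X) * c.2 = c.2 * c.1 ∧
        (c.1 : X) * v = v * c.1 ∧ (c.2 : X) * v = v * c.2} := by
  obtain ⟨g, h⟩ := c
  by_cases hgh : (g : X) * h = h * g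
  · letI instV : CommGroup ↥V :=
      { (inferInstance : Group ↥V) with mul_comm := fun a b => Subtype.ext (hab a a.2 b b.2) }
    have hK := lemmaK (MulAut.conjNormal (g : X) : MulAut ↥V) (MulAut.conjNormal (h : X))
      (by
        intro v
        show ((MulAut.conjNormal (g:X) * MulAut.conjNormal (h:X) : MulAut ↥V)) v =
          ((MulAut.conjNormal (h:X) * MulAut.conjNormal (g:X) : MulAut ↥V)) v
        rw [← map_mul, ← map_mul, hgh])
      (orderOf (g : X))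
      (by rw [← map_pow, pow_orderOf_eq_one, map_one])
      (by
        rw [Subgroup.orderOf_coe]
        exact (Nat.Coprime.coprime_dvd_left (orderOf_dvd_natCard g) hcop.symm))
    have hm : ∀ (x : X) (k : ↥G), π x = k → x * (k:X)⁻¹ ∈ V := by
      intro x k hk
      rw [← hπV, map_mul, map_inv, hπG, hk, mul_inv_cancel]
    have key := comm_key V hab (g:X) (h:X) hgh
    have hR : Nat.card {v : ↥V // (MulAut.conjNormal (g : X) : MulAut ↥V) v = v ∧
        (MulAut.conjNormal (h : X) : MulAut ↥V) v = v} =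
        Nat.card {v : ↥V // (g : X) * h = h * g ∧ (g : X) * v = v * g ∧ (h : X) * v = v * h} := by
      apply Nat.card_congr
      apply Equiv.subtypeEquivRight
      intro v
      rw [Subtype.ext_iff, Subtype.ext_iff, MulAut.conjNormal_apply, MulAut.conjNormal_apply,
        mul_inv_eq_iff_eq_mul, mul_inv_eq_iff_eq_mul]
      exact ⟨fun hh => ⟨hgh, hh.1, hh.2⟩, fun hh => ⟨hh.2.1, hh.2.2⟩⟩
    rw [← hR, ← hK]
    refine Nat.card_congr ⟨fun p => ⟨(⟨p.1.1.1 * (g:X)⁻¹, hm _ _ (Prod.ext_iff.mp p.2).1⟩,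
        ⟨p.1.1.2 * (h:X)⁻¹, hm _ _ (Prod.ext_iff.mp p.2).2⟩), ?_⟩,
      fun q => ⟨⟨((q.1.1:X) * g, (q.1.2:X) * h), ?_⟩, ?_⟩, fun p => ?_, fun q => ?_⟩
    · apply Subtype.ext
      show (p.1.1.1 * (g:X)⁻¹) * ((h:X) * (p.1.1.1 * (g:X)⁻¹) * (h:X)⁻¹)⁻¹ =
        (p.1.1.2 * (h:X)⁻¹) * ((g:X) * (p.1.1.2 * (h:X)⁻¹) * (g:X)⁻¹)⁻¹
      rw [← key _ _ (hm _ _ (Prod.ext_iff.mp p.2).1) (hm _ _ (Prod.ext_iff.mp p.2).2),
        inv_mul_cancel_right, inv_mul_cancel_right]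
      exact p.1.2.eq
    · show (q.1.1:X) * g * ((q.1.2:X) * h) = (q.1.2:X) * h * ((q.1.1:X) * g)
      rw [key _ _ q.1.1.2 q.1.2.2]
      exact congrArg (fun z : ↥V => (z : X)) q.2
    · apply Prod.ext
      · show π ((q.1.1:X) * g) = g
        rw [map_mul, (hπV _).mpr q.1.1.2, one_mul, hπG]
      · show π ((q.1.2:X) * h) = h
        rw [map_mul, (hπV _).mpr q.1.2.2, one_mul, hπG]
    · exact Subtype.ext (Subtype.ext (Prod.ext (inv_mul_cancel_right _ _) (inv_mul_cancel_right _ _)))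
    · exact Subtype.ext (Prod.ext (Subtype.ext (mul_inv_cancel_right _ _))
        (Subtype.ext (mul_inv_cancel_right _ _)))
  · have h1 : IsEmpty {p : {p : X × X // Commute p.1 p.2} // (π p.1.1, π p.1.2) = (g, h)} := by
      refine ⟨fun p => hgh ?_⟩
      have e1 : π p.1.1.1 = g := (Prod.ext_iff.mp p.2).1
      have e2 : π p.1.1.2 = h := (Prod.ext_iff.mp p.2).2
      have e3 : π (p.1.1.1 * p.1.1.2) = π (p.1.1.2 * p.1.1.1) := by rw [p.1.2.eq]
      rw [map_mul, map_mul, e1, e2] at e3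
      exact congrArg (fun z : ↥G => (z : X)) e3
    have h2 : IsEmpty {v : ↥V // (g : X) * h = h * g ∧ (g : X) * v = v * g ∧ (h : X) * v = v * h} :=
      ⟨fun v => hgh v.2.1⟩
    rw [Nat.card_eq_zero.mpr (Or.inl h1), Nat.card_eq_zero.mpr (Or.inl h2), mul_zero]

/-- the incidence predicate: `c.1, c.2` commute and both centralize `v` -/
def Pc {X : Type*} [Group X] (V G : Subgroup X) (c : ↥G × ↥G) (v : ↥V) : Prop :=
  (c.1 : X) * c.2 = c.2 * c.1 ∧ (c.1 : X) * v = v * c.1 ∧ (c.2 : X) * v = v * c.2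

theorem conj_comm1 {X : Type*} [Group X] (g x y : X) (h : x * y = y * x) :
    (g⁻¹ * x * g) * (g⁻¹ * y * g) = (g⁻¹ * y * g) * (g⁻¹ * x * g) := by
  have e1 : (g⁻¹ * x * g) * (g⁻¹ * y * g) = g⁻¹ * (x * y) * g := by group
  have e2 : (g⁻¹ * y * g) * (g⁻¹ * x * g) = g⁻¹ * (y * x) * g := by group
  rw [e1, e2, h]

theorem conj_comm2 {X : Type*} [Group X] (g x y : X) (h : x * y = y * x) :
    (g * x * g⁻¹) * (g * y * g⁻¹) = (g * y * g⁻¹) * (g * x * g⁻¹) := by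
  have e1 : (g * x * g⁻¹) * (g * y * g⁻¹) = g * (x * y) * g⁻¹ := by group
  have e2 : (g * y * g⁻¹) * (g * x * g⁻¹) = g * (y * x) * g⁻¹ := by group
  rw [e1, e2, h]

theorem stepFive {X : Type*} [Group X] [Finite X] (V : Subgroup X) [nV : V.Normal]
    (G : Subgroup X) (s : X) (hs : s ∈ V) :
    Nat.card {t : {t : (↥G × ↥G) × ↥V // Pc V G t.1 t.2} //
        ∃ g ∈ G, g * (t.1.2 : X) * g⁻¹ = s} =
      Nat.card G * Nat.card (ConjClasses ↥(G ⊓ Subgroup.centralizer ({s} : Set X))) := by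
  classical
  have hmemGs : ∀ k : X, k ∈ G ⊓ Subgroup.centralizer ({s} : Set X) ↔ k ∈ G ∧ k * s = s * k := by
    intro k; rw [Subgroup.mem_inf, Subgroup.mem_centralizer_singleton_iff]
  have hconjV : ∀ g v : X, v ∈ V → g⁻¹ * v * g ∈ V := by
    intro g v hv
    have := nV.conj_mem v hv g⁻¹
    rwa [inv_inv] at this
  have hG1 : ∀ (g : ↥G) (k : ↥(G ⊓ Subgroup.centralizer ({s} : Set X))),
      (g:X)⁻¹ * k * g ∈ G :=
    fun g k => G.mul_mem (G.mul_mem (G.inv_mem g.2) ((hmemGs _).mp k.2).1) g.2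
  let Φ : ↥G × {p : ↥(G ⊓ Subgroup.centralizer ({s} : Set X)) ×
        ↥(G ⊓ Subgroup.centralizer ({s} : Set X)) // Commute p.1 p.2} →
      {t : {t : (↥G × ↥G) × ↥V // Pc V G t.1 t.2} // ∃ g ∈ G, g * (t.1.2 : X) * g⁻¹ = s} :=
    fun x => ⟨⟨((⟨(x.1:X)⁻¹ * x.2.1.1 * x.1, hG1 _ _⟩, ⟨(x.1:X)⁻¹ * x.2.1.2 * x.1, hG1 _ _⟩),
        ⟨(x.1:X)⁻¹ * s * x.1, hconjV _ _ hs⟩),
      ⟨conj_comm1 _ _ _ (congrArg (fun z : ↥(G ⊓ Subgroup.centralizer ({s} : Set X)) => (z:X))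
          x.2.2.eq),
        conj_comm1 _ _ _ ((hmemGs _).mp x.2.1.1.2).2,
        conj_comm1 _ _ _ ((hmemGs _).mp x.2.1.2.2).2⟩⟩,
      ⟨x.1, x.1.2, by group⟩⟩
  have hfib : ∀ w, Nat.card {x // Φ x = w} =
      Nat.card ↥(G ⊓ Subgroup.centralizer ({s} : Set X)) := by
    intro w
    obtain ⟨g0, hg0, hg0s⟩ := w.2
    have hPc := w.1.2
    obtain ⟨hab', hav, hbv⟩ := hPc
    have hΦ : ∀ x, Φ x = w → (x.1:X)⁻¹ * x.2.1.1 * x.1 = (w.1.1.1.1 : X) ∧
        (x.1:X)⁻¹ * x.2.1.2 * x.1 = (w.1.1.1.2 : X) ∧ (x.1:X)⁻¹ * s * x.1 = (w.1.1.2 : X) := by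
      intro x hx
      exact ⟨congrArg (fun t : {t : {t : (↥G × ↥G) × ↥V // Pc V G t.1 t.2} //
          ∃ g ∈ G, g * (t.1.2 : X) * g⁻¹ = s} => ((t.1.1.1.1 : ↥G) : X)) hx,
        congrArg (fun t : {t : {t : (↥G × ↥G) × ↥V // Pc V G t.1 t.2} //
          ∃ g ∈ G, g * (t.1.2 : X) * g⁻¹ = s} => ((t.1.1.1.2 : ↥G) : X)) hx,
        congrArg (fun t : {t : {t : (↥G × ↥G) × ↥V // Pc V G t.1 t.2} //
          ∃ g ∈ G, g * (t.1.2 : X) * g⁻¹ = s} => ((t.1.1.2 : ↥V) : X)) hx⟩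
    have hk : ∀ z : ↥(G ⊓ Subgroup.centralizer ({s} : Set X)),
        ((z:X) * g0) * (w.1.1.2 : X) * ((z:X) * g0)⁻¹ = s := by
      intro z
      have hz := ((hmemGs _).mp z.2).2
      have e1 : ((z:X) * g0) * (w.1.1.2 : X) * ((z:X) * g0)⁻¹ =
          (z:X) * (g0 * (w.1.1.2 : X) * g0⁻¹) * (z:X)⁻¹ := by group
      rw [e1, hg0s, hz, mul_inv_cancel_right]
    have hmem : ∀ (z : ↥(G ⊓ Subgroup.centralizer ({s} : Set X))) (a : ↥G),
        (a:X) * (w.1.1.2 : X) = (w.1.1.2 : X) * a →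
        ((z:X) * g0) * a * ((z:X) * g0)⁻¹ ∈ G ⊓ Subgroup.centralizer ({s} : Set X) := by
      intro z a ha
      refine (hmemGs _).mpr ⟨G.mul_mem (G.mul_mem (G.mul_mem ((hmemGs _).mp z.2).1 hg0) a.2)
        (G.inv_mem (G.mul_mem ((hmemGs _).mp z.2).1 hg0)), ?_⟩
      have := conj_comm2 ((z:X) * g0) a (w.1.1.2 : X) ha
      rwa [hk z] at this
    refine Nat.card_congr ⟨fun x => ⟨(x.1.1:X) * g0⁻¹, ?_⟩,
      fun z => ⟨(⟨(z:X) * g0, G.mul_mem ((hmemGs _).mp z.2).1 hg0⟩,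
        ⟨(⟨((z:X) * g0) * (w.1.1.1.1 : X) * ((z:X) * g0)⁻¹, hmem z _ hav⟩,
          ⟨((z:X) * g0) * (w.1.1.1.2 : X) * ((z:X) * g0)⁻¹, hmem z _ hbv⟩), ?_⟩), ?_⟩,
      fun x => ?_, fun z => ?_⟩
    · refine (hmemGs _).mpr ⟨G.mul_mem x.1.1.2 (G.inv_mem hg0), ?_⟩
      have e3 := (hΦ x.1 x.2).2.2
      have hv0 : (w.1.1.2 : X) = g0⁻¹ * s * g0 := by
        calc (w.1.1.2 : X) = g0⁻¹ * (g0 * (w.1.1.2 : X) * g0⁻¹) * g0 := by group
          _ = g0⁻¹ * s * g0 := by rw [hg0s]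
      have e4 : (x.1.1:X)⁻¹ * s * x.1.1 = g0⁻¹ * s * g0 := by
        rw [e3, hv0]
      calc (x.1.1:X) * g0⁻¹ * s = (x.1.1:X) * (g0⁻¹ * s * g0) * g0⁻¹ := by group
        _ = (x.1.1:X) * ((x.1.1:X)⁻¹ * s * x.1.1) * g0⁻¹ := by rw [e4]
        _ = s * ((x.1.1:X) * g0⁻¹) := by group
    · show (⟨((z:X) * g0) * (w.1.1.1.1 : X) * ((z:X) * g0)⁻¹, hmem z _ hav⟩ :
          ↥(G ⊓ Subgroup.centralizer ({s} : Set X))) *
        ⟨((z:X) * g0) * (w.1.1.1.2 : X) * ((z:X) * g0)⁻¹, hmem z _ hbv⟩ =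
        ⟨((z:X) * g0) * (w.1.1.1.2 : X) * ((z:X) * g0)⁻¹, hmem z _ hbv⟩ *
        ⟨((z:X) * g0) * (w.1.1.1.1 : X) * ((z:X) * g0)⁻¹, hmem z _ hav⟩
      exact Subtype.ext (conj_comm2 _ _ _ hab')
    · apply Subtype.ext; apply Subtype.ext
      apply Prod.ext
      · apply Prod.ext
        · apply Subtype.ext
          show ((z:X) * g0)⁻¹ * (((z:X) * g0) * (w.1.1.1.1 : X) * ((z:X) * g0)⁻¹) * ((z:X) * g0) = _
          group
        · apply Subtype.ext
          show ((z:X) * g0)⁻¹ * (((z:X) * g0) * (w.1.1.1.2 : X) * ((z:X) * g0)⁻¹) * ((z:X) * g0) = _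
          group
      · apply Subtype.ext
        show ((z:X) * g0)⁻¹ * s * ((z:X) * g0) = (w.1.1.2 : X)
        calc ((z:X) * g0)⁻¹ * s * ((z:X) * g0)
            = ((z:X) * g0)⁻¹ * (((z:X) * g0) * (w.1.1.2 : X) * ((z:X) * g0)⁻¹) * ((z:X) * g0) := by
              rw [hk z]
          _ = (w.1.1.2 : X) := by group
    · have hx := hΦ x.1 x.2
      apply Subtype.ext
      apply Prod.ext
      · exact Subtype.ext (inv_mul_cancel_right _ _)
      · apply Subtype.ext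
        apply Prod.ext
        · apply Subtype.ext
          show ((x.1.1:X) * g0⁻¹ * g0) * (w.1.1.1.1 : X) * ((x.1.1:X) * g0⁻¹ * g0)⁻¹ = _
          rw [← hx.1]; group
        · apply Subtype.ext
          show ((x.1.1:X) * g0⁻¹ * g0) * (w.1.1.1.2 : X) * ((x.1.1:X) * g0⁻¹ * g0)⁻¹ = _
          rw [← hx.2.1]; group
    · exact Subtype.ext (mul_inv_cancel_right _ _)
  have h1 := card_eq_mul_of_fibers Φ _ hfib
  rw [Nat.card_prod, card_comm_eq_card_conjClasses_mul_card] at h1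
  have hpos : 0 < Nat.card ↥(G ⊓ Subgroup.centralizer ({s} : Set X)) := Nat.card_pos
  apply Nat.eq_of_mul_eq_mul_right hpos
  rw [← h1]; ring

theorem result {X : Type*} [Group X] [Finite X] (V : Subgroup X) [V.Normal] (hab : ∀ a ∈ V, ∀ b ∈ V, a * b = b * a) (G : Subgroup X) (hGV : Subgroup.IsComplement' V G) (hcop : (Nat.card V).Coprime (Nat.card G)) (S : Finset X) (hSV : ∀ s ∈ S, s ∈ V) (hrep : ∀ v ∈ V, ∃! s, s ∈ S ∧ ∃ g ∈ G, g * v * g⁻¹ = s) : Nat.card (ConjClasses X) = ∑ s ∈ S, Nat.card (ConjClasses ↥(G ⊓ Subgroup.centralizer ({s} : Set X))) := by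
  classical
  obtain ⟨π, hπG, hπV⟩ := exists_proj V G hGV
  haveI : Fintype ↥G := Fintype.ofFinite _
  have h1 : Nat.card {p : X × X // Commute p.1 p.2} =
      ∑ c : ↥G × ↥G, Nat.card ↥V * Nat.card {v : ↥V // Pc V G c v} := by
    rw [card_eq_sum_fibers (fun p : {p : X × X // Commute p.1 p.2} => (π p.1.1, π p.1.2))]
    apply Finset.sum_congr rfl
    intro c _
    exact fiber_card V hab G hcop π hπG hπV c
  have h3 : ∑ c : ↥G × ↥G, Nat.card {v : ↥V // Pc V G c v} =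
      Nat.card {t : (↥G × ↥G) × ↥V // Pc V G t.1 t.2} := by
    rw [Nat.card_congr (Equiv.subtypeProdEquivSigmaSubtype (Pc V G)), Nat.card_sigma]
  have hex : ∀ v : ↥V, ∃ s : ↥S, ∃ g ∈ G, g * (v:X) * g⁻¹ = s := by
    intro v
    obtain ⟨s, ⟨hs, hg⟩, -⟩ := hrep v v.2
    exact ⟨⟨s, hs⟩, hg⟩
  choose rep hrepS using hex
  have hrep_iff : ∀ (v : ↥V) (s : ↥S), rep v = s ↔ ∃ g ∈ G, g * (v:X) * g⁻¹ = s := by
    intro v s
    constructor
    · rintro rfl; exact hrepS v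
    · intro hg
      exact Subtype.ext ((hrep v v.2).unique ⟨(rep v).2, hrepS v⟩ ⟨s.2, hg⟩)
  have h4 : Nat.card {t : (↥G × ↥G) × ↥V // Pc V G t.1 t.2} =
      ∑ s : ↥S, Nat.card G *
        Nat.card (ConjClasses ↥(G ⊓ Subgroup.centralizer ({(s:X)} : Set X))) := by
    rw [card_eq_sum_fibers (fun t : {t : (↥G × ↥G) × ↥V // Pc V G t.1 t.2} => rep t.1.2)]
    apply Finset.sum_congr rfl
    intro s _
    rw [← stepFive V G (s:X) (hSV s s.2)]
    apply Nat.card_congr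
    apply Equiv.subtypeEquivRight
    intro t
    exact hrep_iff t.1.2 s
  have h5 := card_comm_eq_card_conjClasses_mul_card X
  rw [h1, ← Finset.mul_sum, h3, h4, ← Finset.mul_sum,
    Finset.sum_coe_sort S
      (fun s => Nat.card (ConjClasses ↥(G ⊓ Subgroup.centralizer ({s} : Set X))))] at h5
  have hX : Nat.card V * Nat.card G = Nat.card X := hGV.card_mul_card
  have hpos : 0 < Nat.card X := Nat.card_pos
  apply Nat.eq_of_mul_eq_mul_right hpos
  rw [← h5, ← hX]; ring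

end Cfsg.Agent.S4956
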