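import Cfsg.Statements.S4964
import Cfsg.Agent.Lib.Helper4.BlockQuot
import Cfsg.Agent.Lib.Helper4.BlockNilp
import Cfsg.Agent.Lib.Helper4.CoprimeDerived

set_option autoImplicit false
open Cfsg

namespace Cfsg.Agent.S4964

/-- Let D be a normal p-subgroup of the finite group G, let D′ be its commutator subgroup (normal in G), and fix a maximal ideal M of the algebraic integers containing p. Then (i) two irreducible characters of G ⧸ D′ lie in the same p-block if and only if their inflations to G do, and (ii) every p-block of G contains the inflation of some irreducible character of G ⧸ D′; so inflation induces a bijection between the p-blocks of G ⧸ D′ and the p-blocks of G. -/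
theorem result {G : Type*} [Group G] [Finite G] (p : ℕ) [Fact p.Prime] (M : Ideal Cfsg.AlgInt) (hM : Cfsg.IsPModular p M) (D : Subgroup G) [D.Normal] (hD : IsPGroup p D) : (∀ χ ψ : Cfsg.IrrCharacter (G ⧸ ⁅D, D⁆), Cfsg.SameBlock M (χ : G ⧸ ⁅D, D⁆ → ℂ) (ψ : G ⧸ ⁅D, D⁆ → ℂ) ↔ Cfsg.SameBlock M ((χ : G ⧸ ⁅D, D⁆ → ℂ) ∘ QuotientGroup.mk) ((ψ : G ⧸ ⁅D, D⁆ → ℂ) ∘ QuotientGroup.mk)) ∧ ∀ B : Set (Cfsg.IrrCharacter G), Cfsg.IsPBlock M B → ∃ χ : Cfsg.IrrCharacter (G ⧸ ⁅D, D⁆), ∃ θ ∈ B, (θ : G → ℂ) = (χ : G ⧸ ⁅D, D⁆ → ℂ) ∘ QuotientGroup.mk := by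
  classical
  open Cfsg.Agent.Lib.Helper4 Cfsg.Agent.Lib.Helper28 in
  have : Fintype G := Fintype.ofFinite G
  have hD'n : (⁅D, D⁆ : Subgroup G).Normal := inferInstance
  have hD'le : (⁅D, D⁆ : Subgroup G) ≤ D := Subgroup.commutator_le_right D D
  have hD' : IsPGroup p (⁅D, D⁆ : Subgroup G) := hD.to_le hD'le
  have : Fintype (⁅D, D⁆ : Subgroup G) := Fintype.ofFinite _
  have : Fintype (G ⧸ ⁅D, D⁆) := Fintype.ofFinite _
  have hMprime : M.IsPrime := hM.2.1.isPrime
  have hMtop : M ≠ ⊤ := Ideal.IsPrime.ne_top hMprime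
  -- the image of `D` in the quotient
  have hDbarn : (D.map (QuotientGroup.mk' ⁅D, D⁆)).Normal :=
    Subgroup.Normal.map inferInstance _ (QuotientGroup.mk'_surjective _)
  have hDbar : IsPGroup p (D.map (QuotientGroup.mk' ⁅D, D⁆)) := hD.map _
  refine ⟨fun χ ψ => ⟨fun h => sameBlock_inflate ⁅D, D⁆ h, fun h => ?_⟩, fun B hB => ?_⟩
  · apply sameBlock_of_pRegular hM χ ψ
    intro x hx
    obtain ⟨g, rfl, hg⟩ := exists_pRegular_lift ⁅D, D⁆ hD' x hx
    by_cases hgc : g ∈ Subgroup.centralizer ((⁅D, D⁆ : Subgroup G) : Set G)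
    · rw [← centralChar_inflate_eq ⁅D, D⁆ hD' g hg hgc, ← centralChar_inflate_eq ⁅D, D⁆ hD' g hg hgc]
      have := memLocalIdeal_neg (h g)
      rwa [neg_sub] at this
    · have hbar : (QuotientGroup.mk g : G ⧸ ⁅D, D⁆) ∉
          Subgroup.centralizer ((D.map (QuotientGroup.mk' ⁅D, D⁆) : Subgroup (G ⧸ ⁅D, D⁆)) :
            Set (G ⧸ ⁅D, D⁆)) := by
        intro hc
        apply hgc
        have hT : g ∈ trivModDerived D := by
          unfold trivModDerived
          rw [Subgroup.mem_comap]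
          exact hc
        have := centralizes_of_trivModDerived D hD g hg hT
        exact Subgroup.centralizer_le (fun y hy => hD'le hy) this
      exact memLocalIdeal_sub
        (centralChar_memLocalIdeal_of_not_centralizer hM _ hDbar ψ.2 _ hbar)
        (centralChar_memLocalIdeal_of_not_centralizer hM _ hDbar χ.2 _ hbar)
  · obtain ⟨θ, hθ, htriv⟩ := exists_mem_block_trivial_on ⁅D, D⁆ hM hD' hB
    obtain ⟨ψ, hψ⟩ := exists_deflate_irr ⁅D, D⁆ θ htriv
    exact ⟨ψ, θ, hθ, funext fun g => (hψ g).symm⟩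

end Cfsg.Agent.S4964
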