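import Cfsg.Statements.S4965
import Mathlib

set_option autoImplicit false
open Cfsg

namespace Cfsg.Agent.S4965

theorem result {X : Type*} [Group X] [Finite X] (V : Subgroup X) [V.Normal] (hab : ∀ a ∈ V, ∀ b ∈ V, a * b = b * a) (φ : X ⧸ V →* MulAut ↥V) (hφ : ∀ (x : X) (v : ↥V), ((φ (QuotientGroup.mk x) v : ↥V) : X) = x * v * x⁻¹) : Nat.card (ConjClasses X) ≤ Nat.card (ConjClasses (SemidirectProduct ↥V (X ⧸ V) φ)) := by
  classical
  have hVn : V.Normal := inferInstance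
  haveI : Finite (SemidirectProduct ↥V (X ⧸ V) φ) :=
    Finite.of_equiv _ SemidirectProduct.equivProd.symm
  -- base points
  let P : (X ⧸ V) × (X ⧸ V) → X × X → Prop := fun c p =>
    (QuotientGroup.mk p.1 : X ⧸ V) = c.1 ∧ (QuotientGroup.mk p.2 : X ⧸ V) = c.2 ∧ p.1 * p.2 = p.2 * p.1
  let base : (X ⧸ V) × (X ⧸ V) → X × X := fun c =>
    if h : ∃ p : X × X, P c p then Classical.choose h else (1, 1)
  have hbase : ∀ x y : X, x * y = y * x →
      P (QuotientGroup.mk x, QuotientGroup.mk y) (base (QuotientGroup.mk x, QuotientGroup.mk y)) := by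
    intro x y hxy
    have h : ∃ p : X × X, P (QuotientGroup.mk x, QuotientGroup.mk y) p := ⟨(x, y), rfl, rfl, hxy⟩
    show P _ (if h : ∃ p : X × X, P (QuotientGroup.mk x, QuotientGroup.mk y) p
      then Classical.choose h else (1, 1))
    rw [dif_pos h]
    exact Classical.choose_spec h
  have hmemV : ∀ x x1 : X, (QuotientGroup.mk x1 : X ⧸ V) = QuotientGroup.mk x → x * x1⁻¹ ∈ V := by
    intro x x1 h
    have h1 : x1⁻¹ * x ∈ V := QuotientGroup.eq.mp h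
    have h2 := hVn.conj_mem _ h1 x1
    have h3 : x1 * (x1⁻¹ * x) * x1⁻¹ = x * x1⁻¹ := by group
    rwa [h3] at h2
  -- the injection
  have hΘ : ∀ p : {p : X × X // Commute p.1 p.2},
      ∃ q : {q : (SemidirectProduct ↥V (X ⧸ V) φ) × (SemidirectProduct ↥V (X ⧸ V) φ) //
        Commute q.1 q.2},
        q.1.1.right = QuotientGroup.mk p.1.1 ∧ q.1.2.right = QuotientGroup.mk p.1.2 ∧
        (q.1.1.left : X) = p.1.1 * (base (QuotientGroup.mk p.1.1, QuotientGroup.mk p.1.2)).1⁻¹ ∧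
        (q.1.2.left : X) = p.1.2 * (base (QuotientGroup.mk p.1.1, QuotientGroup.mk p.1.2)).2⁻¹ := by
    rintro ⟨⟨x, y⟩, hxy⟩
    have hxy' : x * y = y * x := hxy
    obtain ⟨hb1, hb2, hb3⟩ := hbase x y hxy'
    obtain ⟨x1, hx1⟩ : ∃ x1, x1 = (base (QuotientGroup.mk x, QuotientGroup.mk y)).1 := ⟨_, rfl⟩
    obtain ⟨y1, hy1⟩ : ∃ y1, y1 = (base (QuotientGroup.mk x, QuotientGroup.mk y)).2 := ⟨_, rfl⟩
    simp only at hb1 hb2 hb3
    rw [← hx1] at hb1 hb3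
    rw [← hy1] at hb2 hb3
    show ∃ q : {q : (SemidirectProduct ↥V (X ⧸ V) φ) × (SemidirectProduct ↥V (X ⧸ V) φ) //
        Commute q.1 q.2},
        q.1.1.right = QuotientGroup.mk x ∧ q.1.2.right = QuotientGroup.mk y ∧
        (q.1.1.left : X) = x * (base (QuotientGroup.mk x, QuotientGroup.mk y)).1⁻¹ ∧
        (q.1.2.left : X) = y * (base (QuotientGroup.mk x, QuotientGroup.mk y)).2⁻¹
    rw [← hx1, ← hy1]
    have hv := hmemV x x1 hb1
    have hw := hmemV y y1 hb2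
    refine ⟨⟨(⟨⟨x * x1⁻¹, hv⟩, QuotientGroup.mk x⟩, ⟨⟨y * y1⁻¹, hw⟩, QuotientGroup.mk y⟩), ?_⟩,
      rfl, rfl, rfl, rfl⟩
    show (⟨⟨x * x1⁻¹, hv⟩, QuotientGroup.mk x⟩ : SemidirectProduct ↥V (X ⧸ V) φ) *
      ⟨⟨y * y1⁻¹, hw⟩, QuotientGroup.mk y⟩ =
      ⟨⟨y * y1⁻¹, hw⟩, QuotientGroup.mk y⟩ * ⟨⟨x * x1⁻¹, hv⟩, QuotientGroup.mk x⟩
    apply SemidirectProduct.ext
    · simp only [SemidirectProduct.mul_left]
      apply Subtype.ext
      rw [Subgroup.coe_mul, Subgroup.coe_mul, ← hb1, ← hb2, hφ, hφ]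
      show x * x1⁻¹ * (x1 * (y * y1⁻¹) * x1⁻¹) = y * y1⁻¹ * (y1 * (x * x1⁻¹) * y1⁻¹)
      have e1 : x * x1⁻¹ * (x1 * (y * y1⁻¹) * x1⁻¹) = (x * y) * (x1 * y1)⁻¹ := by group
      have e2 : y * y1⁻¹ * (y1 * (x * x1⁻¹) * y1⁻¹) = (y * x) * (y1 * x1)⁻¹ := by group
      rw [e1, e2, hxy', hb3]
    · simp only [SemidirectProduct.mul_right]
      rw [← QuotientGroup.mk_mul, ← QuotientGroup.mk_mul, hxy']
  choose Θ hΘ1 hΘ2 hΘ3 hΘ4 using hΘ
  have hinj : Function.Injective Θ := by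
    intro p p' h
    have h1 : (QuotientGroup.mk p.1.1 : X ⧸ V) = QuotientGroup.mk p'.1.1 := by
      rw [← hΘ1 p, ← hΘ1 p', h]
    have h2 : (QuotientGroup.mk p.1.2 : X ⧸ V) = QuotientGroup.mk p'.1.2 := by
      rw [← hΘ2 p, ← hΘ2 p', h]
    have h3 := hΘ3 p
    have h4 := hΘ4 p
    rw [h, hΘ3 p', h1, h2] at h3
    rw [h, hΘ4 p', h1, h2] at h4
    apply Subtype.ext
    exact Prod.ext (mul_right_cancel h3).symm (mul_right_cancel h4).symm
  have hle := Nat.card_le_card_of_injective Θ hinj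
  rw [card_comm_eq_card_conjClasses_mul_card, card_comm_eq_card_conjClasses_mul_card,
    SemidirectProduct.card] at hle
  have hX : Nat.card X = Nat.card ↥V * Nat.card (X ⧸ V) := by
    rw [mul_comm]; exact Subgroup.card_eq_card_quotient_mul_card_subgroup V
  rw [hX] at hle
  exact Nat.le_of_mul_le_mul_right hle (Nat.mul_pos Nat.card_pos Nat.card_pos)

end Cfsg.Agent.S4965
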