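import Cfsg.Statements.S4989
import Cfsg.Agent.Lib.Helper4.NonvanishCount
import Cfsg.Agent.Lib.Helper4.CharIntegral

set_option autoImplicit false
open Cfsg

namespace Cfsg.Agent.S4989

/-- Let H be a subgroup of the finite group G and χ an irreducible complex character of G. Then the inner product of the restriction of χ to H with itself, (1/#H)·Σ_{h ∈ H} |χ(h)|², is at most 1 + #(Z ∖ H)/#H, where Z is the set of zeros of χ in G. -/
theorem result {G : Type*} [Group G] [Finite G] (H : Subgroup G) (χ : Cfsg.IrrCharacter G) : (Nat.card ↥H : ℝ)⁻¹ * ∑ᶠ h : ↥H, ‖(χ : G → ℂ) h‖ ^ 2 ≤ 1 + (Set.ncard ({x : G | (χ : G → ℂ) x = 0} \ (H : Set G)) : ℝ) / (Nat.card ↥H : ℝ) := by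
  classical
  have : Fintype G := Fintype.ofFinite G
  obtain ⟨n, ρ, hρ, hχ⟩ := χ.2
  have hirr : ρ.IsIrreducible := hρ
  rw [← hχ]
  -- total sum
  have htot : ∑ g : G, Complex.normSq (ρ.character g) = (Nat.card G : ℝ) := by
    have h1 := Cfsg.Agent.Lib.Helper4.sum_char_mul_char_inv ρ hirr
    have h2 : ∑ g : G, ρ.character g * ρ.character g⁻¹ =
        ((∑ g : G, Complex.normSq (ρ.character g) : ℝ) : ℂ) := by
      rw [Complex.ofReal_sum]
      refine Finset.sum_congr rfl fun g _ => ?_
      rw [Cfsg.Agent.Lib.Helper4.character_inv, Complex.mul_conj]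
    rw [h2] at h1
    exact_mod_cast h1
  set S : Finset G := Finset.univ.filter (fun g => g ∉ H) with hS
  have hSclosed : ∀ m : ℕ, m.Coprime (Nat.card G) → ∀ a, a ^ m ∈ S ↔ a ∈ S := by
    intro m hm a
    simp only [hS, Finset.mem_filter, Finset.mem_univ, true_and, not_iff_not]
    constructor
    · intro h
      have hcop : m.Coprime (orderOf a) := Nat.Coprime.coprime_dvd_right (orderOf_dvd_natCard a) hm
      obtain ⟨j, hj⟩ := exists_pow_eq_self_of_coprime hcop
      rw [← hj]
      exact H.pow_mem h j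
    · intro h
      exact H.pow_mem h m
  have hlow := Cfsg.Agent.Lib.Helper4.card_nonvanishing_le_sum_normSq ρ S hSclosed
  have hsplit : ∑ g : G, Complex.normSq (ρ.character g) =
      ∑ g ∈ Finset.univ.filter (fun g => g ∈ H), Complex.normSq (ρ.character g) +
        ∑ g ∈ S, Complex.normSq (ρ.character g) :=
    (Finset.sum_filter_add_sum_filter_not Finset.univ (fun g => g ∈ H) _).symm
  have hHsum : ∑ᶠ h : ↥H, ‖ρ.character h‖ ^ 2 =
      ∑ g ∈ Finset.univ.filter (fun g => g ∈ H), Complex.normSq (ρ.character g) := by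
    rw [finsum_eq_sum_of_fintype]
    rw [Finset.sum_subtype (Finset.univ.filter (fun g => g ∈ H)) (p := fun g => g ∈ H)
      (by simp)]
    refine Finset.sum_congr rfl fun g _ => ?_
    rw [Complex.normSq_eq_norm_sq]
  -- count of the zeros outside H
  have hcount : (S.filter (fun g => ρ.character g ≠ 0)).card +
      Set.ncard ({x : G | ρ.character x = 0} \ (H : Set G)) + Nat.card H = Nat.card G := by
    have h1 : Set.ncard ({x : G | ρ.character x = 0} \ (H : Set G)) =
        (S.filter (fun g => ¬ ρ.character g ≠ 0)).card := by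
      rw [Set.ncard_eq_toFinset_card']
      congr 1
      ext x
      simp [hS, and_comm]
    have h2 : Nat.card H = (Finset.univ.filter (fun g : G => g ∈ H)).card := by
      rw [Nat.card_eq_fintype_card, Fintype.card_subtype]
    rw [h1, h2, Finset.card_filter_add_card_filter_not, hS, add_comm,
      Finset.card_filter_add_card_filter_not, Finset.card_univ, Nat.card_eq_fintype_card]
  have hHpos : (0 : ℝ) < Nat.card H := by exact_mod_cast Nat.card_pos
  rw [hHsum]
  have hcountR : ((S.filter (fun g => ρ.character g ≠ 0)).card : ℝ) +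
      (Set.ncard ({x : G | ρ.character x = 0} \ (H : Set G)) : ℝ) + (Nat.card H : ℝ) =
      (Nat.card G : ℝ) := by exact_mod_cast hcount
  rw [htot] at hsplit
  have hfinal : ∑ g ∈ Finset.univ.filter (fun g => g ∈ H), Complex.normSq (ρ.character g) ≤
      (Nat.card H : ℝ) + (Set.ncard ({x : G | ρ.character x = 0} \ (H : Set G)) : ℝ) := by
    linarith
  rw [inv_mul_le_iff₀ hHpos]
  have : (Nat.card H : ℝ) * (1 + (Set.ncard ({x : G | ρ.character x = 0} \ (H : Set G)) : ℝ) /
      (Nat.card H : ℝ)) = (Nat.card H : ℝ) +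
      (Set.ncard ({x : G | ρ.character x = 0} \ (H : Set G)) : ℝ) := by
    field_simp
  rw [this]
  exact hfinal

end Cfsg.Agent.S4989
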