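import Cfsg.Statements.S5011

set_option autoImplicit false
open Cfsg

namespace Cfsg.Agent.S5011

variable {G : Type*} [Group G] {V : Type*} [AddCommGroup V] [Module ℂ V]

/-- the subgroup of elements acting as scalars -/
def scalarSubgroup [Nontrivial V] (ρ : Representation ℂ G V) : Subgroup G where
  carrier := {x | ∃ μ : ℂ, ρ x = μ • (1 : Module.End ℂ V)}
  one_mem' := ⟨1, by simp⟩
  mul_mem' := by
    rintro x y ⟨μ, hμ⟩ ⟨ν, hν⟩
    refine ⟨μ * ν, ?_⟩
    rw [map_mul, hμ, hν, smul_mul_smul_comm, mul_one]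
  inv_mem' := by
    rintro x ⟨μ, hμ⟩
    have h1 : ρ x⁻¹ * ρ x = 1 := by rw [← map_mul]; simp
    rw [hμ] at h1
    have hμ0 : μ ≠ 0 := by
      rintro rfl
      simp at h1
    refine ⟨μ⁻¹, ?_⟩
    have h2 : μ • ρ x⁻¹ = 1 := by
      rw [← h1]; simp
    calc ρ x⁻¹ = μ⁻¹ • (μ • ρ x⁻¹) := by rw [smul_smul, inv_mul_cancel₀ hμ0, one_smul]
      _ = μ⁻¹ • 1 := by rw [h2]

theorem scalarSubgroup_normal [Nontrivial V] (ρ : Representation ℂ G V) :
    (scalarSubgroup ρ).Normal := by
  constructor
  rintro x ⟨μ, hμ⟩ h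
  refine ⟨μ, ?_⟩
  rw [map_mul, map_mul, hμ]
  have : ρ h * ρ h⁻¹ = 1 := by rw [← map_mul]; simp
  rw [mul_smul_comm, mul_one, smul_mul_assoc, this]

/-- Let G be a finite non-abelian simple group and ρ an irreducible complex representation of G on a space of dimension greater than one (irreducible in the sense that the only subspaces invariant under every ρ(x) are 0 and the whole space). Then for every non-identity element g of G, the centralizer of g does not act irreducibly: there is a non-zero proper subspace invariant under ρ(c) for every c commuting with g. -/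
theorem result {G : Type*} [Group G] [Finite G] [IsSimpleGroup G]
    (hG : ¬ IsMulCommutative G) {V : Type*} [AddCommGroup V] [Module ℂ V] [FiniteDimensional ℂ V]
    (ρ : Representation ℂ G V)
    (hirr : ∀ W : Submodule ℂ V, (∀ x : G, ∀ v ∈ W, ρ x v ∈ W) → W = ⊥ ∨ W = ⊤)
    (hdim : 1 < Module.finrank ℂ V) (g : G) (hg : g ≠ 1) :
    ∃ W : Submodule ℂ V, W ≠ ⊥ ∧ W ≠ ⊤ ∧ ∀ c ∈ Subgroup.centralizer ({g} : Set G), ∀ v ∈ W, ρ c v ∈ W := by
  have hnt : Nontrivial V := Module.nontrivial_of_finrank_pos (R := ℂ) (by omega)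
  obtain ⟨μ, hμ⟩ := Module.End.exists_eigenvalue (ρ g)
  refine ⟨Module.End.eigenspace (ρ g) μ, hμ, ?_, ?_⟩
  · intro htop
    -- then ρ g is scalar
    have hgs : g ∈ scalarSubgroup ρ := by
      refine ⟨μ, ?_⟩
      ext v
      have : v ∈ Module.End.eigenspace (ρ g) μ := by rw [htop]; trivial
      rw [Module.End.mem_eigenspace_iff] at this
      simpa using this
    have hN := scalarSubgroup_normal ρ
    have hNtop : scalarSubgroup ρ = ⊤ := by
      rcases hN.eq_bot_or_eq_top with hb | ht
      · rw [hb, Subgroup.mem_bot] at hgs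
        exact absurd hgs hg
      · exact ht
    -- every line is invariant
    obtain ⟨v, hv⟩ := exists_ne (0 : V)
    have hinv : ∀ x : G, ∀ w ∈ Submodule.span ℂ {v}, ρ x w ∈ Submodule.span ℂ {v} := by
      intro x w hw
      have hx : x ∈ scalarSubgroup ρ := by rw [hNtop]; trivial
      obtain ⟨ν, hν⟩ := hx
      rw [hν]
      simpa using Submodule.smul_mem _ ν hw
    rcases hirr _ hinv with hb | ht
    · rw [Submodule.span_singleton_eq_bot] at hb
      exact hv hb
    · have h1 : Module.finrank ℂ (Submodule.span ℂ {v}) = 1 := finrank_span_singleton hv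
      rw [ht, finrank_top] at h1
      omega
  · intro c hc v hv
    rw [Module.End.mem_eigenspace_iff] at hv ⊢
    rw [Subgroup.mem_centralizer_singleton_iff] at hc
    have : ρ g (ρ c v) = ρ c (ρ g v) := by
      rw [← Module.End.mul_apply, ← Module.End.mul_apply, ← map_mul, ← map_mul, hc]
    rw [this, hv, map_smul]

end Cfsg.Agent.S5011
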