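import Cfsg.Statements.S5013
import Cfsg.Agent.Lib.Helper5.RankOne

set_option autoImplicit false
open Cfsg

namespace Cfsg.Agent.S5013

open Cfsg.Agent.Lib.Helper5

/-- In a rank one group with unipotent subgroups A and B (conjugation written g H g⁻¹), for every non-identity a in A the non-identity b in B with b⁻¹ A b = a⁻¹ B a is unique, every non-identity b in B arises in this way from exactly one such a (so a ↦ b(a) is a bijection between the non-identity elements of A and of B), and no non-identity element of A normalizes B (and vice versa). -/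
theorem result {G : Type*} [Group G] {A B : Subgroup G} (h : Cfsg.IsRankOnePair A B) :
    (∀ a ∈ A, a ≠ 1 → ∃! b : G, b ∈ B ∧ b ≠ 1 ∧ Cfsg.conjBy A b⁻¹ = Cfsg.conjBy B a⁻¹) ∧
    (∀ b ∈ B, b ≠ 1 → ∃! a : G, a ∈ A ∧ a ≠ 1 ∧ Cfsg.conjBy A b⁻¹ = Cfsg.conjBy B a⁻¹) ∧
    A ⊓ Subgroup.normalizer (B : Set G) = ⊥ ∧ B ⊓ Subgroup.normalizer (A : Set G) = ⊥ := by
  have hAB := inf_normalizer_eq_bot h.ne h.cond_left
  have hBA := inf_normalizer_eq_bot h.ne.symm h.cond_right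
  refine ⟨?_, ?_, hAB, hBA⟩
  · intro a haA ha1
    obtain ⟨b, hbB, hb1, hb⟩ := h.cond_left a haA ha1
    refine ⟨b, ⟨hbB, hb1, hb⟩, ?_⟩
    rintro b' ⟨hb'B, _, hb'⟩
    -- conjBy A b'⁻¹ = conjBy A b⁻¹, so b' * b⁻¹ normalizes A
    have h1 : Cfsg.conjBy A (b' * b⁻¹) = A := by
      have : Cfsg.conjBy A b⁻¹ = Cfsg.conjBy A b'⁻¹ := hb.trans hb'.symm
      have := congrArg (fun C => Cfsg.conjBy C b') this
      simpa [conjBy_conjBy, conjBy_one] using this
    have h2 : b' * b⁻¹ ∈ B ⊓ Subgroup.normalizer (A : Set G) :=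
      ⟨B.mul_mem hb'B (B.inv_mem hbB), (conjBy_eq_self_iff A _).1 h1⟩
    rw [hBA, Subgroup.mem_bot] at h2
    exact mul_inv_eq_one.1 h2
  · intro b hbB hb1
    obtain ⟨a, haA, ha1, ha⟩ := h.cond_right b hbB hb1
    refine ⟨a, ⟨haA, ha1, ha.symm⟩, ?_⟩
    rintro a' ⟨ha'A, _, ha'⟩
    have h1 : Cfsg.conjBy B (a' * a⁻¹) = B := by
      have : Cfsg.conjBy B a⁻¹ = Cfsg.conjBy B a'⁻¹ := ha.trans ha'
      have := congrArg (fun C => Cfsg.conjBy C a') this
      simpa [conjBy_conjBy, conjBy_one] using this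
    have h2 : a' * a⁻¹ ∈ A ⊓ Subgroup.normalizer (B : Set G) :=
      ⟨A.mul_mem ha'A (A.inv_mem haA), (conjBy_eq_self_iff B _).1 h1⟩
    rw [hAB, Subgroup.mem_bot] at h2
    exact mul_inv_eq_one.1 h2

end Cfsg.Agent.S5013
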