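import Cfsg.Statements.S5014
import Cfsg.Agent.Lib.Helper5.RankOne

set_option autoImplicit false
open Cfsg

namespace Cfsg.Agent.S5014

open Cfsg.Agent.Lib.Helper5

/-- Let X = ⟨A, B⟩ be a rank one group with unipotent subgroups A and B and let Ω be the set of conjugates of A under X. Then Ω has at least three members, X acts doubly transitively on Ω by conjugation (any two ordered pairs of distinct members are carried to one another by a single element of X), and A acts regularly on Ω with A removed: for C, D in Ω different from A there is exactly one element of A conjugating C to D. -/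
theorem result {G : Type*} [Group G] {A B : Subgroup G} (h : Cfsg.IsRankOnePair A B) :
    (∃ C₁ ∈ Cfsg.unipotentSubgroups A B, ∃ C₂ ∈ Cfsg.unipotentSubgroups A B, ∃ C₃ ∈ Cfsg.unipotentSubgroups A B,
      C₁ ≠ C₂ ∧ C₁ ≠ C₃ ∧ C₂ ≠ C₃) ∧
    (∀ C₁ ∈ Cfsg.unipotentSubgroups A B, ∀ C₂ ∈ Cfsg.unipotentSubgroups A B, ∀ D₁ ∈ Cfsg.unipotentSubgroups A B,
      ∀ D₂ ∈ Cfsg.unipotentSubgroups A B, C₁ ≠ C₂ → D₁ ≠ D₂ →
        ∃ x ∈ A ⊔ B, Cfsg.conjBy C₁ x = D₁ ∧ Cfsg.conjBy C₂ x = D₂) ∧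
    (∀ C ∈ Cfsg.unipotentSubgroups A B, ∀ D ∈ Cfsg.unipotentSubgroups A B, C ≠ A → D ≠ A →
      ∃! a : G, a ∈ A ∧ Cfsg.conjBy C a = D) := by
  refine ⟨?_, ?_, fun C hC D hD hCA hDA => exists_unique_conjBy h hC hD hCA hDA⟩
  · obtain ⟨a, haA, ha1⟩ := exists_ne_one_of_ne_bot (left_ne_bot h)
    have hΩ := unipotentSubgroups_eq_omegaSet h
    refine ⟨A, ?_, B, ?_, Cfsg.conjBy B a, ?_, h.ne, (conjBy_right_ne_left h haA).symm, ?_⟩
    · rw [hΩ]; exact Or.inl rfl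
    · rw [hΩ]; exact Or.inr ⟨1, one_mem _, (conjBy_one _).symm⟩
    · rw [hΩ]; exact Or.inr ⟨a, haA, rfl⟩
    · intro hh
      have hmem : a ∈ A ⊓ Subgroup.normalizer (B : Set G) :=
        Subgroup.mem_inf.2 ⟨haA, (conjBy_eq_self_iff B a).1 hh.symm⟩
      rw [inf_normalizer_eq_bot h.ne h.cond_left, Subgroup.mem_bot] at hmem
      exact ha1 hmem
  · intro C₁ hC₁ C₂ hC₂ D₁ hD₁ D₂ hD₂ hC hD
    obtain ⟨x₁, hx₁, rfl⟩ := hC₁
    obtain ⟨y₁, hy₁, rfl⟩ := hD₁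
    have hC₂' : Cfsg.conjBy C₂ x₁⁻¹ ∈ Cfsg.unipotentSubgroups A B :=
      conjBy_mem_unipotentSubgroups (inv_mem hx₁) hC₂
    have hD₂' : Cfsg.conjBy D₂ y₁⁻¹ ∈ Cfsg.unipotentSubgroups A B :=
      conjBy_mem_unipotentSubgroups (inv_mem hy₁) hD₂
    have hC₂A : Cfsg.conjBy C₂ x₁⁻¹ ≠ A := by
      intro hh
      rw [conjBy_eq_iff, inv_inv] at hh
      exact hC hh.symm
    have hD₂A : Cfsg.conjBy D₂ y₁⁻¹ ≠ A := by
      intro hh
      rw [conjBy_eq_iff, inv_inv] at hh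
      exact hD hh.symm
    obtain ⟨a, ⟨haA, ha⟩, _⟩ := exists_unique_conjBy h hC₂' hD₂' hC₂A hD₂A
    refine ⟨y₁ * a * x₁⁻¹, mul_mem (mul_mem hy₁ (Subgroup.mem_sup_left haA)) (inv_mem hx₁), ?_, ?_⟩
    · rw [conjBy_conjBy]
      have : y₁ * a * x₁⁻¹ * x₁ = y₁ * a := by group
      rw [this, ← conjBy_conjBy, conjBy_of_mem haA]
    · have : y₁ * a * x₁⁻¹ = y₁ * (a * x₁⁻¹) := by group
      rw [this, ← conjBy_conjBy, ← conjBy_conjBy, ha, conjBy_conjBy]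
      simp [conjBy_one]

end Cfsg.Agent.S5014
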