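import Cfsg.Statements.S5015
import Cfsg.Agent.Lib.Helper5.RankOne

set_option autoImplicit false
open Cfsg

namespace Cfsg.Agent.S5015

open Cfsg.Agent.Lib.Helper5

variable {Y Ω : Type*} [Group Y] [MulAction Y Ω]

/-- if `g • α = α` then `g` normalizes `A`; hence `conjBy A g` only depends on `g • α`. -/
theorem conjBy_eq_of_smul_eq {α : Ω} {A : Subgroup Y}
    (hAn : ∀ y ∈ MulAction.stabilizer Y α, Cfsg.conjBy A y = A) {g g' : Y} (h : g • α = g' • α) :
    Cfsg.conjBy A g = Cfsg.conjBy A g' := by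
  have hs : g'⁻¹ * g ∈ MulAction.stabilizer Y α := by
    rw [MulAction.mem_stabilizer_iff, mul_smul, h, inv_smul_smul]
  have h1 := hAn _ hs
  have h2 : g = g' * (g'⁻¹ * g) := by group
  rw [h2, ← conjBy_conjBy, h1]

/-- Let a group Y act doubly transitively on a set Ω with at least three points, and suppose that the stabilizer of a point α contains a nilpotent subgroup A, normalized by that stabilizer, which acts regularly on the points other than α. Then for any y in Y moving α, the subgroups A and y A y⁻¹ are the unipotent subgroups of a rank one group, and the normal closure of A in Y (the subgroup generated by all conjugates of A) is generated by A and y A y⁻¹ alone. -/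
theorem result {Y Ω : Type*} [Group Y] [MulAction Y Ω]
    (h2 : MulAction.IsMultiplyPretransitive Y Ω 2) (hΩ : 3 ≤ ENat.card Ω) (α : Ω) (A : Subgroup Y)
    (hA : A ≤ MulAction.stabilizer Y α) (hAn : ∀ y ∈ MulAction.stabilizer Y α, Cfsg.conjBy A y = A)
    (hnil : Group.IsNilpotent A) (hreg : ∀ β γ : Ω, β ≠ α → γ ≠ α → ∃! a : Y, a ∈ A ∧ a • β = γ)
    (y : Y) (hy : y ∉ MulAction.stabilizer Y α) :
    Cfsg.IsRankOnePair A (Cfsg.conjBy A y) ∧ Subgroup.normalClosure (A : Set Y) = A ⊔ Cfsg.conjBy A y := by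
  set β := y • α with hβ
  have hβα : β ≠ α := fun hh => hy (MulAction.mem_stabilizer_iff.2 hh)
  have hfixα : ∀ a ∈ A, a • α = α := fun a ha => MulAction.mem_stabilizer_iff.1 (hA ha)
  -- elements of A fixing a point other than α are trivial
  have hfpf : ∀ a ∈ A, ∀ δ : Ω, δ ≠ α → a • δ = δ → a = 1 := by
    intro a ha δ hδ hfix
    obtain ⟨a₀, _, huniq⟩ := hreg δ δ hδ hδ
    exact (huniq a ⟨ha, hfix⟩).trans (huniq 1 ⟨one_mem _, one_smul _ _⟩).symm
  -- a moved point stays away from α
  have hne_α : ∀ a ∈ A, ∀ δ : Ω, δ ≠ α → a • δ ≠ α := by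
    intro a ha δ hδ hh
    apply hδ
    have := congrArg (fun t => a⁻¹ • t) hh
    simp only [inv_smul_smul] at this
    rw [this, ← MulAction.mem_stabilizer_iff]
    exact inv_mem (hA ha)
  have hmemB : ∀ b : Y, b ∈ Cfsg.conjBy A y ↔ y⁻¹ * b * y ∈ A := fun b => mem_conjBy_iff A y b
  have hnilB : Group.IsNilpotent (Cfsg.conjBy A y) := by
    have e : A ≃* (Cfsg.conjBy A y) :=
      Subgroup.equivMapOfInjective A (MulAut.conj y).toMonoidHom (MulAut.conj y).injective
    exact Group.nilpotent_of_mulEquiv e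
  -- third point
  have hthird : ∃ γ : Ω, γ ≠ α ∧ γ ≠ β := by
    by_contra hcon
    push Not at hcon
    have hsub : (Set.univ : Set Ω) ⊆ {α, β} := by
      intro γ _
      by_cases hγ : γ = α
      · left; exact hγ
      · right; exact hcon γ hγ
    have hfin : (Set.univ : Set Ω).encard ≤ 2 :=
      (Set.encard_le_encard hsub).trans (Set.encard_pair hβα.symm).le
    rw [Set.encard_univ] at hfin
    have : (3 : ℕ∞) ≤ 2 := hΩ.trans hfin
    exact absurd this (by decide)
  have hne : A ≠ Cfsg.conjBy A y := by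
    intro hAB
    obtain ⟨γ, hγα, hγβ⟩ := hthird
    obtain ⟨a, ⟨haA, haβ⟩, _⟩ := hreg β γ hβα hγα
    -- a ∈ B so a fixes β
    have haB : a ∈ Cfsg.conjBy A y := hAB ▸ haA
    rw [hmemB] at haB
    have h3 := hfixα _ haB
    have : a • β = β := by
      rw [hβ]
      have := congrArg (fun t => y • t) h3
      simpa [mul_smul] using this
    exact hγβ (haβ.symm.trans this)
  have hcondL : Cfsg.RankOneCondition A (Cfsg.conjBy A y) := by
    intro a haA ha1
    have ha' : a⁻¹ ∈ A := inv_mem haA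
    -- the point a⁻¹ • β is neither α nor β
    have h1 : a⁻¹ • β ≠ α := hne_α _ ha' β hβα
    have h2 : a⁻¹ • β ≠ β := by
      intro hh
      exact ha1 (inv_eq_one.1 (hfpf _ ha' β hβα hh))
    have h3 : y⁻¹ • (a⁻¹ • β) ≠ α := by
      intro hh
      apply h2
      have := congrArg (fun t => y • t) hh
      simpa using this
    have h4 : y⁻¹ • α ≠ α := by
      intro hh
      apply hβα
      have := congrArg (fun t => y • t) hh
      simpa using this.symm
    obtain ⟨a', ⟨ha'A, ha'eq⟩, _⟩ := hreg _ _ h3 h4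
    refine ⟨y * a' * y⁻¹, ?_, ?_, ?_⟩
    · rw [hmemB]
      have : y⁻¹ * (y * a' * y⁻¹) * y = a' := by group
      rw [this]; exact ha'A
    · intro hh
      have : a' = 1 := by
        have := congrArg (fun t => y⁻¹ * t * y) hh
        simpa [mul_assoc] using this
      rw [this, one_smul] at ha'eq
      apply h1
      have := congrArg (fun t => y • t) ha'eq
      simpa using this
    · -- conjBy A b⁻¹ = conjBy (conjBy A y) a⁻¹ = conjBy A (a⁻¹ * y)
      rw [conjBy_conjBy]
      apply conjBy_eq_of_smul_eq hAn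
      -- b⁻¹ • α = a⁻¹ • β  where b = y a' y⁻¹
      have hb : (y * a' * y⁻¹) • (a⁻¹ • β) = α := by
        rw [mul_smul, mul_smul, ha'eq]; simp
      rw [mul_smul, ← hβ]
      exact inv_smul_eq_iff.2 hb.symm
  have hcondR : Cfsg.RankOneCondition (Cfsg.conjBy A y) A := by
    intro b hbB hb1
    rw [hmemB] at hbB
    set a₀ := y⁻¹ * b * y with ha₀
    have hb_eq : b = y * a₀ * y⁻¹ := by rw [ha₀]; group
    have ha₀1 : a₀ ≠ 1 := by
      intro hh
      apply hb1
      rw [hb_eq, hh]; group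
    -- b⁻¹ • α ≠ α and ≠ β
    have h4 : y⁻¹ • α ≠ α := by
      intro hh
      apply hβα
      have := congrArg (fun t => y • t) hh
      simpa using this.symm
    have hbinv : b⁻¹ = y * a₀⁻¹ * y⁻¹ := by rw [hb_eq]; group
    have h1 : b⁻¹ • α ≠ α := by
      intro hh
      rw [hbinv, mul_smul, mul_smul] at hh
      have h5 : a₀⁻¹ • (y⁻¹ • α) = y⁻¹ • α := by
        have := congrArg (fun t => y⁻¹ • t) hh
        simpa using this
      exact ha₀1 (inv_eq_one.1 (hfpf _ (inv_mem hbB) _ h4 h5))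
    have h2 : b⁻¹ • α ≠ β := by
      intro hh
      rw [hbinv, mul_smul, mul_smul, hβ] at hh
      have h5 : a₀⁻¹ • (y⁻¹ • α) = α := by
        have := congrArg (fun t => y⁻¹ • t) hh
        simpa using this
      exact hne_α _ (inv_mem hbB) _ h4 h5
    obtain ⟨a', ⟨ha'A, ha'eq⟩, _⟩ := hreg β (b⁻¹ • α) hβα h1
    refine ⟨a'⁻¹, inv_mem ha'A, ?_, ?_⟩
    · intro hh
      rw [inv_eq_one] at hh
      rw [hh, one_smul] at ha'eq
      exact h2 ha'eq.symm
    · rw [inv_inv, conjBy_conjBy]
      apply conjBy_eq_of_smul_eq hAn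
      rw [mul_smul, ← hβ, ha'eq]
  refine ⟨⟨hne, hnil, hnilB, hcondL, hcondR⟩, ?_⟩
  apply le_antisymm
  · unfold Subgroup.normalClosure
    rw [Subgroup.closure_le]
    intro x hx
    rw [Group.mem_conjugatesOfSet_iff] at hx
    obtain ⟨a, haA, hconj⟩ := hx
    obtain ⟨g, rfl⟩ := isConj_iff.1 hconj
    have hxg : g * a * g⁻¹ ∈ Cfsg.conjBy A g := by
      rw [mem_conjBy_iff]
      have : g⁻¹ * (g * a * g⁻¹) * g = a := by group
      rw [this]; exact haA
    by_cases hg : g • α = α
    · have : Cfsg.conjBy A g = A := hAn g (MulAction.mem_stabilizer_iff.2 hg)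
      rw [this] at hxg
      exact Subgroup.mem_sup_left hxg
    · obtain ⟨a₁, ⟨ha₁A, ha₁eq⟩, _⟩ := hreg β (g • α) hβα hg
      have : Cfsg.conjBy A g = Cfsg.conjBy (Cfsg.conjBy A y) a₁ := by
        rw [conjBy_conjBy]
        apply conjBy_eq_of_smul_eq hAn
        rw [mul_smul, ← hβ, ha₁eq]
      rw [this, mem_conjBy_iff] at hxg
      have h5 : a₁ * (a₁⁻¹ * (g * a * g⁻¹) * a₁) * a₁⁻¹ ∈ A ⊔ Cfsg.conjBy A y :=
        mul_mem (mul_mem (Subgroup.mem_sup_left ha₁A) (Subgroup.mem_sup_right hxg))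
          (inv_mem (Subgroup.mem_sup_left ha₁A))
      have h6 : a₁ * (a₁⁻¹ * (g * a * g⁻¹) * a₁) * a₁⁻¹ = g * a * g⁻¹ := by group
      rwa [h6] at h5
  · apply sup_le Subgroup.le_normalClosure
    intro b hb
    rw [mem_conjBy_iff] at hb
    have hn : (Subgroup.normalClosure (A : Set Y)).Normal := Subgroup.normalClosure_normal
    have := hn.conj_mem _ (Subgroup.le_normalClosure hb) y
    have h6 : y * (y⁻¹ * b * y) * y⁻¹ = b := by group
    rwa [h6] at this

end Cfsg.Agent.S5015
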