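import Cfsg.Statements.S5016
import Cfsg.Agent.Lib.Helper5.RankOne

set_option autoImplicit false
open Cfsg

namespace Cfsg.Agent.S5016

open Cfsg.Agent.Lib.Helper5 Matrix

variable {k : Type*} [Field k]

/-- lower unitriangular matrix -/
def Lm (t : k) : Matrix.SpecialLinearGroup (Fin 2) k :=
  ⟨!![1, 0; t, 1], by simp [Matrix.det_fin_two]⟩

/-- upper unitriangular matrix -/
def Um (s : k) : Matrix.SpecialLinearGroup (Fin 2) k :=
  ⟨!![1, s; 0, 1], by simp [Matrix.det_fin_two]⟩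

theorem Lm_val (t : k) : (Lm t).1 = !![1, 0; t, 1] := rfl
theorem Um_val (t : k) : (Um t).1 = !![1, t; 0, 1] := rfl

theorem sl2_ext {g h : Matrix.SpecialLinearGroup (Fin 2) k}
    (h00 : g.1 0 0 = h.1 0 0) (h01 : g.1 0 1 = h.1 0 1) (h10 : g.1 1 0 = h.1 1 0)
    (h11 : g.1 1 1 = h.1 1 1) : g = h := by
  apply Matrix.SpecialLinearGroup.ext
  intro i j
  fin_cases i <;> fin_cases j <;> assumption

theorem Lm_mul (t u : k) : Lm t * Lm u = Lm (t + u) := by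
  apply sl2_ext <;> simp only [Matrix.SpecialLinearGroup.coe_mul, Lm_val] <;>
    simp [Matrix.mul_apply, Fin.sum_univ_two, add_comm]

theorem Um_mul (t u : k) : Um t * Um u = Um (t + u) := by
  apply sl2_ext <;> simp only [Matrix.SpecialLinearGroup.coe_mul, Um_val] <;>
    simp [Matrix.mul_apply, Fin.sum_univ_two, add_comm]

theorem Lm_zero : Lm (0 : k) = 1 := by
  apply sl2_ext <;> simp [Lm_val]

theorem Um_zero : Um (0 : k) = 1 := by
  apply sl2_ext <;> simp [Um_val]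

theorem Lm_inv (t : k) : (Lm t)⁻¹ = Lm (-t) := by
  rw [inv_eq_iff_mul_eq_one, Lm_mul]; simp [Lm_zero]

theorem Um_inv (t : k) : (Um t)⁻¹ = Um (-t) := by
  rw [inv_eq_iff_mul_eq_one, Um_mul]; simp [Um_zero]

/-- explicit subgroup of lower unitriangular matrices -/
def lowerSub (k : Type*) [Field k] : Subgroup (Matrix.SpecialLinearGroup (Fin 2) k) where
  carrier := {g | (g : Matrix (Fin 2) (Fin 2) k) 0 1 = 0 ∧ (g : Matrix (Fin 2) (Fin 2) k) 0 0 = 1 ∧
    (g : Matrix (Fin 2) (Fin 2) k) 1 1 = 1}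
  one_mem' := by simp
  mul_mem' := by
    rintro g h ⟨g1, g2, g3⟩ ⟨h1, h2, h3⟩
    simp only [Set.mem_ofPred_eq, Matrix.SpecialLinearGroup.coe_mul, Matrix.mul_apply,
      Fin.sum_univ_two] at *
    simp [g1, g2, g3, h1, h2, h3]
  inv_mem' := by
    rintro g ⟨g1, g2, g3⟩
    simp only [Set.mem_ofPred_eq, Matrix.SpecialLinearGroup.coe_inv, Matrix.adjugate_fin_two] at *
    simp [g1, g2, g3]

/-- explicit subgroup of upper unitriangular matrices -/
def upperSub (k : Type*) [Field k] : Subgroup (Matrix.SpecialLinearGroup (Fin 2) k) where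
  carrier := {g | (g : Matrix (Fin 2) (Fin 2) k) 1 0 = 0 ∧ (g : Matrix (Fin 2) (Fin 2) k) 0 0 = 1 ∧
    (g : Matrix (Fin 2) (Fin 2) k) 1 1 = 1}
  one_mem' := by simp
  mul_mem' := by
    rintro g h ⟨g1, g2, g3⟩ ⟨h1, h2, h3⟩
    simp only [Set.mem_ofPred_eq, Matrix.SpecialLinearGroup.coe_mul, Matrix.mul_apply,
      Fin.sum_univ_two] at *
    simp [g1, g2, g3, h1, h2, h3]
  inv_mem' := by
    rintro g ⟨g1, g2, g3⟩
    simp only [Set.mem_ofPred_eq, Matrix.SpecialLinearGroup.coe_inv, Matrix.adjugate_fin_two] at *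
    simp [g1, g2, g3]

theorem lower_eq : Cfsg.lowerUnipotentSL2 k = lowerSub k := by
  unfold Cfsg.lowerUnipotentSL2
  exact Subgroup.closure_eq (lowerSub k)

theorem upper_eq : Cfsg.upperUnipotentSL2 k = upperSub k := by
  unfold Cfsg.upperUnipotentSL2
  exact Subgroup.closure_eq (upperSub k)

theorem mem_lower_iff (g : Matrix.SpecialLinearGroup (Fin 2) k) :
    g ∈ Cfsg.lowerUnipotentSL2 k ↔ ∃ t, g = Lm t := by
  rw [lower_eq]
  constructor
  · rintro ⟨g1, g2, g3⟩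
    refine ⟨g.1 1 0, ?_⟩
    apply sl2_ext <;> simp [Lm_val, g1, g2, g3]
  · rintro ⟨t, rfl⟩
    refine ⟨?_, ?_, ?_⟩ <;> simp [Lm_val]

theorem mem_upper_iff (g : Matrix.SpecialLinearGroup (Fin 2) k) :
    g ∈ Cfsg.upperUnipotentSL2 k ↔ ∃ t, g = Um t := by
  rw [upper_eq]
  constructor
  · rintro ⟨g1, g2, g3⟩
    refine ⟨g.1 0 1, ?_⟩
    apply sl2_ext <;> simp [Um_val, g1, g2, g3]
  · rintro ⟨t, rfl⟩
    refine ⟨?_, ?_, ?_⟩ <;> simp [Um_val]

/-- key conjugation identity -/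
theorem conj_Lm (t u : k) (ht : t ≠ 0) :
    (Lm t * Um (-t⁻¹)) * Lm u * (Lm t * Um (-t⁻¹))⁻¹ = Um (-u / t ^ 2) := by
  rw [_root_.mul_inv_rev, Lm_inv, Um_inv, neg_neg]
  apply sl2_ext <;> simp only [Matrix.SpecialLinearGroup.coe_mul, Lm_val, Um_val] <;>
    simp [Matrix.mul_apply, Fin.sum_univ_two] <;> field_simp <;> ring

theorem conj_Um (t v : k) (ht : t ≠ 0) :
    (Lm t * Um (-t⁻¹))⁻¹ * Um v * (Lm t * Um (-t⁻¹)) = Lm (-v * t ^ 2) := by
  rw [_root_.mul_inv_rev, Lm_inv, Um_inv, neg_neg]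
  apply sl2_ext <;> simp only [Matrix.SpecialLinearGroup.coe_mul, Lm_val, Um_val] <;>
    simp [Matrix.mul_apply, Fin.sum_univ_two] <;> field_simp <;> ring

theorem conjBy_lower (t : k) (ht : t ≠ 0) :
    Cfsg.conjBy (Cfsg.lowerUnipotentSL2 k) (Lm t * Um (-t⁻¹)) = Cfsg.upperUnipotentSL2 k := by
  ext x
  rw [mem_conjBy_iff, mem_lower_iff, mem_upper_iff]
  constructor
  · rintro ⟨u, hu⟩
    refine ⟨-u / t ^ 2, ?_⟩
    rw [← conj_Lm t u ht, ← hu]; group
  · rintro ⟨v, rfl⟩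
    exact ⟨-v * t ^ 2, conj_Um t v ht⟩

/-- the rank one equation for `a = Lm t`, `b = Um t⁻¹` -/
theorem rank_one_eq (t : k) (ht : t ≠ 0) :
    Cfsg.conjBy (Cfsg.lowerUnipotentSL2 k) (Um t⁻¹)⁻¹ =
      Cfsg.conjBy (Cfsg.upperUnipotentSL2 k) (Lm t)⁻¹ := by
  rw [← conjBy_lower t ht, conjBy_conjBy, Um_inv]
  congr 1
  group

theorem Lm_ne_one {t : k} (ht : t ≠ 0) : Lm t ≠ 1 := by
  intro h
  have := congrArg (fun g : Matrix.SpecialLinearGroup (Fin 2) k => g.1 1 0) h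
  simp [Lm_val] at this
  exact ht this

theorem Um_ne_one {t : k} (ht : t ≠ 0) : Um t ≠ 1 := by
  intro h
  have := congrArg (fun g : Matrix.SpecialLinearGroup (Fin 2) k => g.1 0 1) h
  simp [Um_val] at this
  exact ht this

theorem Lm_mem (t : k) : Lm t ∈ Cfsg.lowerUnipotentSL2 k := (mem_lower_iff _).2 ⟨t, rfl⟩
theorem Um_mem (t : k) : Um t ∈ Cfsg.upperUnipotentSL2 k := (mem_upper_iff _).2 ⟨t, rfl⟩

theorem lower_ne_upper : Cfsg.lowerUnipotentSL2 k ≠ Cfsg.upperUnipotentSL2 k := by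
  intro h
  have h1 : Lm (1 : k) ∈ Cfsg.upperUnipotentSL2 k := h ▸ Lm_mem 1
  rw [upper_eq] at h1
  obtain ⟨h10, _, _⟩ := h1
  simp [Lm_val] at h10

theorem lower_comm : IsMulCommutative (Cfsg.lowerUnipotentSL2 k) := by
  refine ⟨⟨?_⟩⟩
  rintro ⟨g, hg⟩ ⟨h, hh⟩
  obtain ⟨t, rfl⟩ := (mem_lower_iff g).1 hg
  obtain ⟨u, rfl⟩ := (mem_lower_iff h).1 hh
  apply Subtype.ext
  simp only [Subgroup.coe_mul, Lm_mul, add_comm]

theorem upper_comm : IsMulCommutative (Cfsg.upperUnipotentSL2 k) := by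
  refine ⟨⟨?_⟩⟩
  rintro ⟨g, hg⟩ ⟨h, hh⟩
  obtain ⟨t, rfl⟩ := (mem_upper_iff g).1 hg
  obtain ⟨u, rfl⟩ := (mem_upper_iff h).1 hh
  apply Subtype.ext
  simp only [Subgroup.coe_mul, Um_mul, add_comm]

theorem rankOnePair : Cfsg.IsRankOnePair (Cfsg.lowerUnipotentSL2 k) (Cfsg.upperUnipotentSL2 k) := by
  refine ⟨lower_ne_upper, ?_, ?_, ?_, ?_⟩
  · exact ⟨⟨1, Subgroup.upperCentralSeries_one_eq_top_iff.2 lower_comm⟩⟩
  · exact ⟨⟨1, Subgroup.upperCentralSeries_one_eq_top_iff.2 upper_comm⟩⟩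
  · intro a ha ha1
    obtain ⟨t, rfl⟩ := (mem_lower_iff a).1 ha
    have ht : t ≠ 0 := by
      rintro rfl
      exact ha1 Lm_zero
    exact ⟨Um t⁻¹, Um_mem _, Um_ne_one (inv_ne_zero ht), rank_one_eq t ht⟩
  · intro b hb hb1
    obtain ⟨s, rfl⟩ := (mem_upper_iff b).1 hb
    have hs : s ≠ 0 := by
      rintro rfl
      exact hb1 Um_zero
    refine ⟨Lm s⁻¹, Lm_mem _, Lm_ne_one (inv_ne_zero hs), ?_⟩
    have := rank_one_eq s⁻¹ (inv_ne_zero hs)
    rw [inv_inv] at this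
    exact this.symm

/-- generation: every element with nonzero lower-left entry is `U x * L r * U y` -/
theorem mem_sup_of_ne_zero (g : Matrix.SpecialLinearGroup (Fin 2) k) (hr : g.1 1 0 ≠ 0) :
    g ∈ Cfsg.lowerUnipotentSL2 k ⊔ Cfsg.upperUnipotentSL2 k := by
  have hdet : g.1 0 0 * g.1 1 1 - g.1 0 1 * g.1 1 0 = 1 := by
    have := g.2
    rwa [Matrix.det_fin_two] at this
  have : g = Um ((g.1 0 0 - 1) / g.1 1 0) * Lm (g.1 1 0) * Um ((g.1 1 1 - 1) / g.1 1 0) := by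
    apply sl2_ext <;> simp only [Matrix.SpecialLinearGroup.coe_mul, Lm_val, Um_val] <;>
      simp [Matrix.mul_apply, Fin.sum_univ_two] <;> field_simp <;>
      first | ring1 | linear_combination (-1 : k) * hdet
  rw [this]
  exact mul_mem (mul_mem (Subgroup.mem_sup_right (Um_mem _)) (Subgroup.mem_sup_left (Lm_mem _)))
    (Subgroup.mem_sup_right (Um_mem _))

theorem sup_eq_top : Cfsg.lowerUnipotentSL2 k ⊔ Cfsg.upperUnipotentSL2 k = ⊤ := by
  rw [eq_top_iff]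
  intro g _
  by_cases hr : g.1 1 0 = 0
  · -- multiply by Lm 1 on the left
    have hdet : g.1 0 0 * g.1 1 1 - g.1 0 1 * g.1 1 0 = 1 := by
      have := g.2
      rwa [Matrix.det_fin_two] at this
    have hp : g.1 0 0 ≠ 0 := by
      intro h0
      rw [h0, hr] at hdet
      simp at hdet
    have h1 : (Lm 1 * g).1 1 0 ≠ 0 := by
      simp only [Matrix.SpecialLinearGroup.coe_mul, Lm_val]
      simp [Matrix.mul_apply, Fin.sum_univ_two, hr, hp]
    have h2 := mem_sup_of_ne_zero (Lm 1 * g) h1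
    have h3 : g = (Lm 1)⁻¹ * (Lm 1 * g) := by group
    rw [h3]
    exact mul_mem (inv_mem (Subgroup.mem_sup_left (Lm_mem _))) h2
  · exact mem_sup_of_ne_zero g hr

theorem special_identity (t : k) (ht : t ≠ 0) :
    (Um t⁻¹)⁻¹ * Lm t * Um t⁻¹ = (Lm t)⁻¹ * (Um t⁻¹)⁻¹ * Lm t := by
  rw [Lm_inv, Um_inv]
  apply sl2_ext <;> simp only [Matrix.SpecialLinearGroup.coe_mul, Lm_val, Um_val] <;>
    simp [Matrix.mul_apply, Fin.sum_univ_two]
  all_goals try field_simp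
  all_goals try ring1
  all_goals try simp

/-- For any field k, the special linear group SL₂(k) is a special rank one group with abelian unipotent subgroups, the unipotent subgroups being the group of lower unitriangular matrices and the group of upper unitriangular matrices. -/
theorem result (k : Type*) [Field k] :
    Cfsg.IsRankOneGroup (Matrix.SpecialLinearGroup (Fin 2) k) (Cfsg.lowerUnipotentSL2 k) (Cfsg.upperUnipotentSL2 k) ∧
    Cfsg.IsSpecialRankOnePair (Cfsg.lowerUnipotentSL2 k) (Cfsg.upperUnipotentSL2 k) ∧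
    Cfsg.HasAbelianUnipotents (Cfsg.lowerUnipotentSL2 k) (Cfsg.upperUnipotentSL2 k) := by
  have hp := rankOnePair (k := k)
  refine ⟨⟨sup_eq_top, hp⟩, ⟨hp, ?_⟩, ⟨lower_comm, upper_comm⟩⟩
  intro a ha ha1 b hb hb1 hab
  obtain ⟨t, rfl⟩ := (mem_lower_iff a).1 ha
  have ht : t ≠ 0 := by
    rintro rfl
    exact ha1 Lm_zero
  have hb_eq : b = Um t⁻¹ := by
    have h1 : Cfsg.conjBy (Cfsg.lowerUnipotentSL2 k) (b * (Um t⁻¹)⁻¹) = Cfsg.lowerUnipotentSL2 k := by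
      have : Cfsg.conjBy (Cfsg.lowerUnipotentSL2 k) (Um t⁻¹)⁻¹ =
          Cfsg.conjBy (Cfsg.lowerUnipotentSL2 k) b⁻¹ := (rank_one_eq t ht).trans hab.symm
      have := congrArg (fun C => Cfsg.conjBy C b) this
      simpa [conjBy_conjBy, conjBy_one] using this
    have h2 : b * (Um t⁻¹)⁻¹ ∈ Cfsg.upperUnipotentSL2 k ⊓
        Subgroup.normalizer (Cfsg.lowerUnipotentSL2 k : Set (Matrix.SpecialLinearGroup (Fin 2) k)) :=
      Subgroup.mem_inf.2 ⟨mul_mem hb (inv_mem (Um_mem _)), (conjBy_eq_self_iff _ _).1 h1⟩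
    rw [inf_normalizer_eq_bot hp.ne.symm hp.cond_right, Subgroup.mem_bot] at h2
    exact mul_inv_eq_one.1 h2
  rw [hb_eq]
  exact special_identity t ht

end Cfsg.Agent.S5016
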