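import Cfsg.Statements.S5017
import Cfsg.Agent.Lib.Helper5.RankOne

set_option autoImplicit false
open Cfsg

namespace Cfsg.Agent.S5017

open Cfsg.Agent.Lib.Helper5

variable {X : Type*} [Group X]

/-- if a normal subgroup normalizes `A`, it normalizes every conjugate of `A`. -/
theorem le_normalizer_conjBy {N A : Subgroup X} (hN : N.Normal)
    (hNA : N ≤ Subgroup.normalizer (A : Set X)) (x : X) :
    N ≤ Subgroup.normalizer ((Cfsg.conjBy A x : Subgroup X) : Set X) := by
  intro n hn
  rw [← conjBy_eq_self_iff, conjBy_conjBy]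
  have h1 : x⁻¹ * n * x ∈ N := by
    have := hN.conj_mem n hn x⁻¹
    simpa using this
  have h2 : Cfsg.conjBy A (x⁻¹ * n * x) = A := (conjBy_eq_self_iff A _).2 (hNA h1)
  have h3 : n * x = x * (x⁻¹ * n * x) := by group
  rw [h3, ← conjBy_conjBy, h2]

theorem part_one {A B : Subgroup X} (h : Cfsg.IsRankOneGroup X A B) (N : Subgroup X) (hN : N.Normal) :
    N ⊔ A = ⊤ ∨ N ≤ Subgroup.center X := by
  obtain ⟨htop, hp⟩ := h
  by_cases hNA : N ≤ Subgroup.normalizer (A : Set X)
  · right
    obtain ⟨x₀, _, hB⟩ := right_eq_conjBy hp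
    have hNB : N ≤ Subgroup.normalizer (B : Set X) := by
      rw [hB]; exact le_normalizer_conjBy hN hNA x₀
    have hAB := inf_normalizer_eq_bot hp.ne hp.cond_left
    have hBA := inf_normalizer_eq_bot hp.ne.symm hp.cond_right
    -- elements of N commute with A and with B
    have hcommA : ∀ n ∈ N, ∀ a ∈ A, a * n = n * a := by
      intro n hn a ha
      have h1 : n * a * n⁻¹ * a⁻¹ ∈ A := by
        have : n * a * n⁻¹ ∈ A := by
          have := (Subgroup.mem_normalizer_iff.1 (hNA hn) a).1 ha
          exact this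
        exact A.mul_mem this (A.inv_mem ha)
      have h2 : n * a * n⁻¹ * a⁻¹ ∈ N := by
        have : a * n⁻¹ * a⁻¹ ∈ N := hN.conj_mem _ (N.inv_mem hn) a
        have := N.mul_mem hn this
        simpa [mul_assoc] using this
      have h3 : n * a * n⁻¹ * a⁻¹ ∈ A ⊓ Subgroup.normalizer (B : Set X) :=
        Subgroup.mem_inf.2 ⟨h1, hNB h2⟩
      rw [hAB, Subgroup.mem_bot] at h3
      have : n * a = a * n := by
        have := congrArg (fun t => t * a * n) h3
        simpa [mul_assoc] using this
      exact this.symm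
    have hcommB : ∀ n ∈ N, ∀ b ∈ B, b * n = n * b := by
      intro n hn b hb
      have h1 : n * b * n⁻¹ * b⁻¹ ∈ B := by
        have : n * b * n⁻¹ ∈ B := (Subgroup.mem_normalizer_iff.1 (hNB hn) b).1 hb
        exact B.mul_mem this (B.inv_mem hb)
      have h2 : n * b * n⁻¹ * b⁻¹ ∈ N := by
        have : b * n⁻¹ * b⁻¹ ∈ N := hN.conj_mem _ (N.inv_mem hn) b
        have := N.mul_mem hn this
        simpa [mul_assoc] using this
      have h3 : n * b * n⁻¹ * b⁻¹ ∈ B ⊓ Subgroup.normalizer (A : Set X) :=
        Subgroup.mem_inf.2 ⟨h1, hNA h2⟩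
      rw [hBA, Subgroup.mem_bot] at h3
      have : n * b = b * n := by
        have := congrArg (fun t => t * b * n) h3
        simpa [mul_assoc] using this
      exact this.symm
    intro n hn
    rw [Subgroup.mem_center_iff]
    have hle : A ⊔ B ≤ Subgroup.centralizer ({n} : Set X) := by
      apply sup_le
      · intro a ha
        rw [Subgroup.mem_centralizer_singleton_iff]
        exact hcommA n hn a ha
      · intro b hb
        rw [Subgroup.mem_centralizer_singleton_iff]
        exact hcommB n hn b hb
    intro g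
    have hg : g ∈ Subgroup.centralizer ({n} : Set X) := hle (htop ▸ Subgroup.mem_top g)
    rw [Subgroup.mem_centralizer_singleton_iff] at hg
    exact hg
  · left
    obtain ⟨n, hn, hnA⟩ := SetLike.not_le_iff_exists.1 hNA
    have hne : Cfsg.conjBy A n ≠ A := fun hh => hnA ((conjBy_eq_self_iff A n).1 hh)
    have hmem : Cfsg.conjBy A n ∈ Cfsg.unipotentSubgroups A B :=
      ⟨n, htop ▸ Subgroup.mem_top n, rfl⟩
    rw [unipotentSubgroups_eq_omegaSet hp] at hmem
    rcases hmem with hh | ⟨a₁, ha₁, hh⟩
    · exact absurd hh hne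
    · -- B = conjBy A (a₁⁻¹ * n)
      have hB : B = Cfsg.conjBy A (a₁⁻¹ * n) := by
        rw [← conjBy_conjBy, hh, conjBy_conjBy]; simp [conjBy_one]
      have hg : a₁⁻¹ * n ∈ N ⊔ A :=
        mul_mem (Subgroup.mem_sup_right (inv_mem ha₁)) (Subgroup.mem_sup_left hn)
      have hBle : B ≤ N ⊔ A := by
        intro b hb
        rw [hB, mem_conjBy_iff] at hb
        have h1 : (a₁⁻¹ * n) * ((a₁⁻¹ * n)⁻¹ * b * (a₁⁻¹ * n)) * (a₁⁻¹ * n)⁻¹ ∈ N ⊔ A :=
          mul_mem (mul_mem hg (Subgroup.mem_sup_right hb)) (inv_mem hg)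
        have h2 : (a₁⁻¹ * n) * ((a₁⁻¹ * n)⁻¹ * b * (a₁⁻¹ * n)) * (a₁⁻¹ * n)⁻¹ = b := by group
        rwa [h2] at h1
      rw [eq_top_iff, ← htop]
      exact sup_le le_sup_right hBle

/-- Let X be a rank one group with unipotent subgroups A and B and N a normal subgroup of X. Then either X = N A or N lies in the centre of X. Consequently a perfect rank one group is quasisimple. -/
theorem result {X : Type*} [Group X] {A B : Subgroup X} (h : Cfsg.IsRankOneGroup X A B) :
    (∀ N : Subgroup X, N.Normal → N ⊔ A = ⊤ ∨ N ≤ Subgroup.center X) ∧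
    (Group.IsPerfect X → Cfsg.IsQuasisimple X) := by
  refine ⟨fun N hN => part_one h N hN, fun hperf => ⟨hperf, ?_⟩⟩
  obtain ⟨htop, hp⟩ := h
  have hAne := left_ne_bot hp
  have hcne : Subgroup.center X ≠ ⊤ := by
    intro hc
    have hAB := inf_normalizer_eq_bot hp.ne hp.cond_left
    have : Subgroup.normalizer (B : Set X) = ⊤ := by
      rw [eq_top_iff, ← hc]
      exact Subgroup.center_le_normalizer (s := (B : Set X))
    rw [this, inf_top_eq] at hAB
    exact hAne hAB
  refine
    { exists_pair_ne := ?_
      eq_bot_or_eq_top_of_normal := ?_ }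
  · have : Nontrivial (X ⧸ Subgroup.center X) := by
      rw [QuotientGroup.nontrivial_iff]
      exact hcne
    exact this.exists_pair_ne
  · intro M hM
    set N := M.comap (QuotientGroup.mk' (Subgroup.center X)) with hNdef
    have hNn : N.Normal := hM.comap _
    have hMN : M = N.map (QuotientGroup.mk' (Subgroup.center X)) := by
      rw [hNdef, Subgroup.map_comap_eq_self_of_surjective (QuotientGroup.mk'_surjective _)]
    have hZN : Subgroup.center X ≤ N := by
      intro z hz
      rw [hNdef, Subgroup.mem_comap]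
      have : (QuotientGroup.mk' (Subgroup.center X)) z = 1 := by
        rw [QuotientGroup.mk'_apply, QuotientGroup.eq_one_iff]; exact hz
      rw [this]; exact M.one_mem
    rcases part_one ⟨htop, hp⟩ N hNn with hNA | hNZ
    · right
      -- X ⧸ N is a quotient of A, hence nilpotent and perfect, so trivial
      have hsurj : Function.Surjective ((QuotientGroup.mk' N).comp A.subtype) := by
        intro q
        obtain ⟨x, rfl⟩ := QuotientGroup.mk'_surjective N q
        have hx : x ∈ ((N ⊔ A : Subgroup X) : Set X) := by rw [hNA]; trivial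
        rw [Subgroup.normal_mul] at hx
        obtain ⟨n, hn, a, ha, rfl⟩ := hx
        refine ⟨⟨a, ha⟩, ?_⟩
        simp only [MonoidHom.coe_comp, Subgroup.coe_subtype, Function.comp_apply,
          QuotientGroup.mk'_apply, QuotientGroup.mk_mul]
        have : ((n : X) : X ⧸ N) = 1 := (QuotientGroup.eq_one_iff n).2 hn
        rw [this, one_mul]
      have hnil : Group.IsNilpotent (X ⧸ N) := by
        have := hp.nilpotent_left
        exact Group.nilpotent_of_surjective _ hsurj
      have hperfQ : Group.IsPerfect (X ⧸ N) := inferInstance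
      have hsub : Subsingleton (X ⧸ N) := by
        by_contra hns
        rw [not_subsingleton_iff_nontrivial] at hns
        exact Group.IsPerfect.not_isNilpotent (X ⧸ N) hnil
      have hNtop : N = ⊤ := by
        rw [← QuotientGroup.subsingleton_iff]
        exact hsub
      rw [hMN, hNtop, ← MonoidHom.range_eq_map, MonoidHom.range_eq_top]
      exact QuotientGroup.mk'_surjective _
    · left
      have hNeq : N = Subgroup.center X := le_antisymm hNZ hZN
      rw [hMN, hNeq]
      refine (Subgroup.map_eq_bot_iff _).2 ?_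
      rw [QuotientGroup.ker_mk']

end Cfsg.Agent.S5017
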