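import Cfsg.Statements.S5018
import Cfsg.Agent.Lib.Helper5.RankOne

set_option autoImplicit false
open Cfsg

namespace Cfsg.Agent.S5018

open Cfsg.Agent.Lib.Helper5
open scoped commutatorElement

variable {X : Type*} [Group X]

theorem center_ne_top {A B : Subgroup X} (hp : Cfsg.IsRankOnePair A B) :
    Subgroup.center X ≠ ⊤ := by
  intro hc
  have hAB := inf_normalizer_eq_bot hp.ne hp.cond_left
  have : Subgroup.normalizer (B : Set X) = ⊤ := by
    rw [eq_top_iff, ← hc]
    exact Subgroup.center_le_normalizer (s := (B : Set X))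
  rw [this, inf_top_eq] at hAB
  exact left_ne_bot hp hAB

theorem ucs_two_le_normalizer {A B : Subgroup X} (h : Cfsg.IsRankOneGroup X A B) :
    Subgroup.upperCentralSeries X 2 ≤ Subgroup.normalizer (A : Set X) := by
  obtain ⟨htop, hp⟩ := h
  intro z hz
  rw [← conjBy_eq_self_iff]
  by_contra hne
  -- every a ∈ A fixes C := conjBy A z
  have hfix : ∀ a ∈ A, Cfsg.conjBy (Cfsg.conjBy A z) a = Cfsg.conjBy A z := by
    intro a ha
    have hc : ⁅z, a⁆ ∈ Subgroup.upperCentralSeries X 1 :=
      Subgroup.mem_upperCentralSeries_succ_iff.1 hz a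
    rw [Subgroup.upperCentralSeries_one X] at hc
    -- a * z = z * c' * a  with c' central
    set c := ⁅z, a⁆ with hcdef
    have hcz : z * c⁻¹ = c⁻¹ * z := (Subgroup.mem_center_iff.1 (inv_mem hc) z)
    have h1 : a * z = z * (c⁻¹ * a) := by
      rw [← mul_assoc, hcz, hcdef, commutatorElement_def]; group
    rw [conjBy_conjBy, h1, ← conjBy_conjBy]
    have hcn : c⁻¹ * a ∈ Subgroup.normalizer (A : Set X) := by
      apply mul_mem
      · exact Subgroup.center_le_normalizer (s := (A : Set X)) (inv_mem hc)
      · exact Subgroup.le_normalizer ha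
    rw [(conjBy_eq_self_iff A _).2 hcn]
  have hC : Cfsg.conjBy A z ∈ Cfsg.unipotentSubgroups A B :=
    ⟨z, htop ▸ Subgroup.mem_top z, rfl⟩
  obtain ⟨a₀, _, huniq⟩ := exists_unique_conjBy hp hC hC hne hne
  obtain ⟨a, haA, ha1⟩ := exists_ne_one_of_ne_bot (left_ne_bot hp)
  have e1 : a = a₀ := huniq a ⟨haA, hfix a haA⟩
  have e2 : (1 : X) = a₀ := huniq 1 ⟨one_mem _, hfix 1 (one_mem _)⟩
  exact ha1 (e1.trans e2.symm)

/-- A rank one group is not nilpotent, and its second centre equals its centre. -/
theorem result {X : Type*} [Group X] {A B : Subgroup X} (h : Cfsg.IsRankOneGroup X A B) :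
    Subgroup.upperCentralSeries X 2 = Subgroup.center X ∧ ¬ Group.IsNilpotent X := by
  have hp := h.2
  have htop := h.1
  have hBA := inf_normalizer_eq_bot hp.ne.symm hp.cond_right
  have hZ2 : Subgroup.upperCentralSeries X 2 = Subgroup.center X := by
    apply le_antisymm
    · intro z hz
      rw [Subgroup.mem_center_iff]
      -- z normalizes A and B
      have hzA := ucs_two_le_normalizer h hz
      have hzB := ucs_two_le_normalizer (A := B) (B := A)
        ⟨by rw [sup_comm]; exact htop, Cfsg.RankOnePair_symm hp⟩ hz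
      have hAB := inf_normalizer_eq_bot hp.ne hp.cond_left
      have hZn : (Subgroup.upperCentralSeries X 2).Normal := inferInstance
      have hcommA : ∀ a ∈ A, a * z = z * a := by
        intro a ha
        have h1 : z * a * z⁻¹ * a⁻¹ ∈ A :=
          A.mul_mem ((Subgroup.mem_normalizer_iff.1 hzA a).1 ha) (A.inv_mem ha)
        have h2 : z * a * z⁻¹ * a⁻¹ ∈ Subgroup.upperCentralSeries X 2 := by
          have : a * z⁻¹ * a⁻¹ ∈ Subgroup.upperCentralSeries X 2 :=
            hZn.conj_mem _ (inv_mem hz) a
          have := mul_mem hz this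
          simpa [mul_assoc] using this
        have h3 : z * a * z⁻¹ * a⁻¹ ∈ A ⊓ Subgroup.normalizer (B : Set X) :=
          Subgroup.mem_inf.2 ⟨h1, ucs_two_le_normalizer (A := B) (B := A)
            ⟨by rw [sup_comm]; exact htop, Cfsg.RankOnePair_symm hp⟩ h2⟩
        rw [hAB, Subgroup.mem_bot] at h3
        have : z * a = a * z := by
          have := congrArg (fun t => t * a * z) h3
          simpa [mul_assoc] using this
        exact this.symm
      have hcommB : ∀ b ∈ B, b * z = z * b := by
        intro b hb
        have h1 : z * b * z⁻¹ * b⁻¹ ∈ B :=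
          B.mul_mem ((Subgroup.mem_normalizer_iff.1 hzB b).1 hb) (B.inv_mem hb)
        have h2 : z * b * z⁻¹ * b⁻¹ ∈ Subgroup.upperCentralSeries X 2 := by
          have : b * z⁻¹ * b⁻¹ ∈ Subgroup.upperCentralSeries X 2 :=
            hZn.conj_mem _ (inv_mem hz) b
          have := mul_mem hz this
          simpa [mul_assoc] using this
        have h3 : z * b * z⁻¹ * b⁻¹ ∈ B ⊓ Subgroup.normalizer (A : Set X) :=
          Subgroup.mem_inf.2 ⟨h1, ucs_two_le_normalizer h h2⟩
        rw [hBA, Subgroup.mem_bot] at h3
        have : z * b = b * z := by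
          have := congrArg (fun t => t * b * z) h3
          simpa [mul_assoc] using this
        exact this.symm
      have hle : A ⊔ B ≤ Subgroup.centralizer ({z} : Set X) := by
        apply sup_le
        · intro a ha
          rw [Subgroup.mem_centralizer_singleton_iff]
          exact hcommA a ha
        · intro b hb
          rw [Subgroup.mem_centralizer_singleton_iff]
          exact hcommB b hb
      intro g
      have hg : g ∈ Subgroup.centralizer ({z} : Set X) := hle (htop ▸ Subgroup.mem_top g)
      rw [Subgroup.mem_centralizer_singleton_iff] at hg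
      exact hg
    · rw [← Subgroup.upperCentralSeries_one X]
      exact Subgroup.upperCentralSeries_mono X (by norm_num)
  refine ⟨hZ2, ?_⟩
  intro hnil
  obtain ⟨n, hn⟩ := hnil.nilpotent'
  have hstab : ∀ k : ℕ, Subgroup.upperCentralSeries X (k + 1) = Subgroup.center X := by
    intro k
    induction k with
    | zero => exact Subgroup.upperCentralSeries_one X
    | succ k ih =>
      ext x
      rw [Subgroup.mem_upperCentralSeries_succ_iff, ← hZ2,
        show (2 : ℕ) = 1 + 1 from rfl, Subgroup.mem_upperCentralSeries_succ_iff, ih,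
        Subgroup.upperCentralSeries_one X]
  have hcen : Subgroup.center X = ⊤ := by
    rcases n with _ | n
    · rw [Subgroup.upperCentralSeries_zero] at hn
      rw [eq_top_iff, ← hn]; exact bot_le
    · rw [← hstab n]; exact hn
  exact center_ne_top hp hcen

end Cfsg.Agent.S5018
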