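import Cfsg.Statements.S5019
import Mathlib
import Cfsg.Agent.Lib.Helper5.QuadA

set_option autoImplicit false
open Cfsg Cfsg.Agent.Lib.Helper5 Cfsg.Agent.Lib.Helper5.Quad

namespace Cfsg.Agent.S5019

/-- Let X be a rank one group with abelian unipotent subgroups A and B, and suppose X acts on an abelian group N (written additively) in such a way that A acts quadratically, meaning a' • (a • n − n) = a • n − n for all a, a' in A and n in N, while X as a whole does not: y • (x • n − n) ≠ x • n − n for some x, y in X and n in N. Then X is a special rank one group. -/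
theorem result {X : Type*} [Group X] {A B : Subgroup X} (h : Cfsg.IsRankOneGroup X A B)
    (hab : Cfsg.HasAbelianUnipotents A B) {N : Type*} [AddCommGroup N] [DistribMulAction X N]
    (hq : ∀ a ∈ A, ∀ a' ∈ A, ∀ n : N, a' • (a • n - n) = a • n - n)
    (hX : ∃ x y : X, ∃ n : N, y • (x • n - n) ≠ x • n - n) : Cfsg.IsSpecialRankOnePair A B := by
  classical
  obtain ⟨htop, hpair⟩ := h
  refine ⟨hpair, ?_⟩
  intro a ha ha1 b hb hb1 hab'
  have QA : Quad N A := hq
  obtain ⟨g, _, hg⟩ := right_eq_conjBy hpair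
  have QB : Quad N B := by rw [hg]; exact quad_conjBy QA g
  -- b⁻¹ab = a⁻¹ b' a
  have hmem : b⁻¹ * a * b ∈ conjBy A b⁻¹ := by
    rw [mem_conjBy_iff]
    simpa [mul_assoc] using ha
  rw [hab'] at hmem
  have hb' : a * (b⁻¹ * a * b) * a⁻¹ ∈ B := by
    have := (mem_conjBy_iff B a⁻¹ _).1 hmem
    simpa using this
  set b' := a * (b⁻¹ * a * b) * a⁻¹ with hb'def
  have hrel : b⁻¹ * a * b = a⁻¹ * b' * a := by
    rw [hb'def]; group
  by_contra hne
  have hb''1 : b' * b ≠ 1 := by
    intro h1
    apply hne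
    have : b' = b⁻¹ := eq_inv_of_mul_eq_one_left h1
    rw [hrel, this]
  have hb'' : b' * b ∈ B := mul_mem hb' hb
  -- Lemma C : for u ∈ U A, (b'' • u - u) ∈ U A ⊓ U B
  have hC : ∀ u ∈ U N A, (b' * b) • u - u ∈ U N A ⊓ U N B := by
    intro u hu
    have hz := key ha hb hab' QA QB hu
    set z := u - (a • (b • u - u) - (b • u - u)) with hzdef
    have hau : a • u = u := smul_eq_of_mem_U QA ha hu
    have hbu : b • u - u ∈ U N B := dl_mem_U hb u
    have hb'u : b' • u - u ∈ U N B := dl_mem_U hb' u
    -- LHS computation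
    have hL : (b⁻¹ * a * b) • u = 2 • u - (b • u - u) - z := by
      have e1 : a • (b • u) = 2 • u + (b • u - u) - z := by
        have : a • (b • u) = a • (b • u - u) + a • u := by rw [← smul_add]; congr 1; abel
        rw [this, hau, hzdef]; rw [two_smul]; abel
      rw [mul_smul, mul_smul, e1, smul_sub, smul_add, smul_comm (b⁻¹) (2 : ℕ) u,
        inv_smul_eq QB hb u, smul_eq_of_mem_U QB (inv_mem hb) hbu,
        smul_eq_of_mem_U QB (inv_mem hb) (AddSubgroup.mem_inf.1 hz).2]
      rw [two_smul, two_smul]; abel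
    have hR : (a⁻¹ * b' * a) • u = u + (b' • u - u) - (a • (b' • u - u) - (b' • u - u)) := by
      rw [mul_smul, mul_smul, hau]
      have : b' • u = u + (b' • u - u) := by abel
      rw [this, smul_add, smul_eq_of_mem_U QA (inv_mem ha) hu, inv_smul_eq QA ha (b' • u - u)]
      abel_nf
    rw [hrel, hR] at hL
    have hsum : (b' * b) • u - u = (b' • u - u) + (b • u - u) := by
      have : b • u = u + (b • u - u) := by abel
      rw [mul_smul, this, smul_add, smul_eq_of_mem_U QB hb' hbu]
      abel
    have hkey : (b' • u - u) + (b • u - u) = u - z + (a • (b' • u - u) - (b' • u - u)) := by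
      have h2 : (2 : ℕ) • u = u + u := two_smul _ _
      rw [h2] at hL
      have := hL
      -- hL : u + β'u - αβ'u = u + u - βu - z
      calc (b' • u - u) + (b • u - u)
          = (u + (b' • u - u) - (a • (b' • u - u) - (b' • u - u))) - u
            + (a • (b' • u - u) - (b' • u - u)) + (b • u - u) := by abel
        _ = (u + u - (b • u - u) - z) - u
            + (a • (b' • u - u) - (b' • u - u)) + (b • u - u) := by rw [hL]
        _ = u - z + (a • (b' • u - u) - (b' • u - u)) := by abel
    rw [hsum]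
    have hz1 : z ∈ U N A := (AddSubgroup.mem_inf.1 hz).1
    have m1 : (b' • u - u) + (b • u - u) ∈ U N A := by
      rw [hkey]
      exact add_mem (sub_mem hu hz1) (dl_mem_U ha _)
    have m2 : (b' • u - u) + (b • u - u) ∈ U N B := add_mem hb'u hbu
    exact AddSubgroup.mem_inf.2 ⟨m1, m2⟩
  -- Lemma B: contradiction
  obtain ⟨a'', ha'', ha''1, hc''⟩ := hpair.cond_right (b' * b) hb'' hb''1
  -- hc'' : conjBy B a''⁻¹ = conjBy A (b'*b)⁻¹
  have hkill : ∀ u ∈ U N A, a'' • ((b' * b) • u - u) - ((b' * b) • u - u) = 0 := by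
    intro u hu
    rw [smul_eq_of_mem_U QA ha'' (AddSubgroup.mem_inf.1 (hC u hu)).1, sub_self]
  have hUeq : U N A = U N B := U_eq_of_kill ha'' hb'' hc''.symm QA QB hkill
  obtain ⟨x, y, n, hxy⟩ := hX
  exact hxy (trivial_of_U_eq htop QA QB hUeq x y n)

end Cfsg.Agent.S5019
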