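import Cfsg.Statements.S5023
import Mathlib
import Cfsg.Agent.Lib.Helper5.QuadA

set_option autoImplicit false
open Cfsg Cfsg.Agent.Lib.Helper5 Cfsg.Agent.Lib.Helper5.Quad

namespace Cfsg.Agent.S5023

/-- Let X be a rank one group with unipotent subgroups A and B that acts faithfully on an abelian group V (written additively) with A acting quadratically: a' • (a • v − v) = a • v − v for all a, a' in A and v in V. Then A is either torsion-free or an elementary abelian p-group for some prime p. -/
theorem result {X : Type*} [Group X] {A B : Subgroup X} (h : Cfsg.IsRankOneGroup X A B)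
    {V : Type*} [AddCommGroup V] [DistribMulAction X V] (hf : ∀ x : X, (∀ v : V, x • v = v) → x = 1)
    (hq : ∀ a ∈ A, ∀ a' ∈ A, ∀ v : V, a' • (a • v - v) = a • v - v) :
    (∀ a ∈ A, a ≠ 1 → ¬ IsOfFinOrder a) ∨ ∃ p : ℕ, p.Prime ∧ Cfsg.IsElementaryAbelian p A := by
  classical
  obtain ⟨htop, hpair⟩ := h
  have QA : Quad V A := hq
  obtain ⟨g, _, hg⟩ := right_eq_conjBy hpair
  have QB : Quad V B := by rw [hg]; exact quad_conjBy QA g
  -- faithfulness in the form: equal actions imply equal elements
  have hfaith : ∀ x y : X, (∀ v : V, x • v = y • v) → x = y := by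
    intro x y hxy
    have : y⁻¹ * x = 1 := by
      apply hf
      intro v
      rw [mul_smul, hxy v, inv_smul_smul]
    exact (inv_mul_eq_one.1 this).symm
  -- non-triviality
  have hnontriv : ¬ (∀ x y : X, ∀ n : V, y • (x • n - n) = x • n - n) := by
    intro htriv
    have hcomm : ∀ x y : X, x * y = y * x := by
      intro x y
      apply hfaith
      intro v
      have e1 : (x * y) • v = (y • v - v) + x • v := by
        rw [mul_smul]
        have : x • y • v = x • (y • v - v) + x • v := by rw [← smul_add]; congr 1; abel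
        rw [this, htriv y x v]
      have e2 : (y * x) • v = (x • v - v) + y • v := by
        rw [mul_smul]
        have : y • x • v = y • (x • v - v) + y • v := by rw [← smul_add]; congr 1; abel
        rw [this, htriv x y v]
      rw [e1, e2]; abel
    have hconj : ∀ (C : Subgroup X) (k : X), conjBy C k = C := by
      intro C k
      ext x
      rw [mem_conjBy_iff]
      have : k⁻¹ * x * k = x := by rw [hcomm k⁻¹ x, mul_assoc, inv_mul_cancel, mul_one]
      rw [this]
    obtain ⟨a, haA, ha1⟩ := exists_ne_one_of_ne_bot (left_ne_bot hpair)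
    obtain ⟨b, _, _, hb⟩ := hpair.cond_left a haA ha1
    rw [hconj, hconj] at hb
    exact hpair.ne hb
  -- commutativity of A
  have hAcomm : IsMulCommutative A := by
    refine ⟨⟨?_⟩⟩
    intro a a'
    apply Subtype.ext
    show (a : X) * (a' : X) = (a' : X) * (a : X)
    apply hfaith
    intro v
    have e1 : ((a : X) * (a' : X)) • v = ((a' : X) • v - v) + (a : X) • v := by
      rw [mul_smul]
      have : (a : X) • (a' : X) • v = (a : X) • ((a' : X) • v - v) + (a : X) • v := by
        rw [← smul_add]; congr 1; abel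
      rw [this, QA _ a'.2 _ a.2 v]
    have e2 : ((a' : X) * (a : X)) • v = ((a : X) • v - v) + (a' : X) • v := by
      rw [mul_smul]
      have : (a' : X) • (a : X) • v = (a' : X) • ((a : X) • v - v) + (a' : X) • v := by
        rw [← smul_add]; congr 1; abel
      rw [this, QA _ a.2 _ a'.2 v]
    rw [e1, e2]; abel
  -- power formula
  have hpow : ∀ a ∈ A, ∀ k : ℕ, ∀ n : V, (a ^ k) • n - n = k • (a • n - n) := by
    intro a ha k
    induction k with
    | zero => intro n; simp
    | succ k ih =>
      intro n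
      have e : (a ^ (k + 1)) • n - n = (a ^ k) • (a • n - n) + ((a ^ k) • n - n) := by
        rw [pow_succ, mul_smul, smul_sub]; abel
      rw [e, smul_eq_of_mem_U QA (pow_mem ha k) (dl_mem_U ha n), ih n, succ_nsmul]
      abel
  by_cases htf : ∀ a ∈ A, a ≠ 1 → ¬ IsOfFinOrder a
  · exact Or.inl htf
  · right
    push Not at htf
    obtain ⟨a₀, ha₀, ha₀1, hfin⟩ := htf
    have hm0 : orderOf a₀ ≠ 0 := (orderOf_pos_iff.2 hfin).ne'
    have hm1 : orderOf a₀ ≠ 1 := fun h1 => ha₀1 (orderOf_eq_one_iff.1 h1)
    set p := (orderOf a₀).minFac with hp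
    have hpp : p.Prime := Nat.minFac_prime hm1
    have hpd : p ∣ orderOf a₀ := Nat.minFac_dvd _
    set a₁ := a₀ ^ (orderOf a₀ / p) with ha₁
    have ho1 : orderOf a₁ = p := orderOf_pow_orderOf_div hm0 hpd
    have ha₁A : a₁ ∈ A := pow_mem ha₀ _
    have ha₁1 : a₁ ≠ 1 := by
      intro h1
      rw [h1, orderOf_one] at ho1
      exact hpp.one_lt.ne ho1
    have ha₁p : a₁ ^ p = 1 := by rw [← ho1]; exact pow_orderOf_eq_one _
    obtain ⟨b₁, hb₁, _, hc₁⟩ := hpair.cond_left a₁ ha₁A ha₁1
    -- p • u ∈ Z₀
    have hpu : ∀ u ∈ U V A, p • u ∈ U V A ⊓ U V B := by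
      intro u hu
      have hz := key ha₁A hb₁ hc₁ QA QB hu
      have h0 : p • (a₁ • (b₁ • u - u) - (b₁ • u - u)) = 0 := by
        rw [← hpow a₁ ha₁A p, ha₁p, one_smul, sub_self]
      have : p • u = p • (u - (a₁ • (b₁ • u - u) - (b₁ • u - u))) := by
        rw [smul_sub, h0, sub_zero]
      rw [this]
      exact nsmul_mem hz p
    refine ⟨p, hpp, hAcomm, ?_⟩
    intro a' ha'
    by_contra hne
    have hcA : a' ^ p ∈ A := pow_mem ha' p
    obtain ⟨d, hd, _, hcd⟩ := hpair.cond_left (a' ^ p) hcA hne
    -- hcd : conjBy A d⁻¹ = conjBy B (a'^p)⁻¹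
    have hkill : ∀ w ∈ U V B, d • ((a' ^ p) • w - w) - ((a' ^ p) • w - w) = 0 := by
      intro w _
      rw [hpow a' ha' p w]
      have h1 : p • (a' • w - w) ∈ U V A ⊓ U V B := hpu _ (dl_mem_U ha' w)
      rw [smul_eq_of_mem_U QB hd (AddSubgroup.mem_inf.1 h1).2, sub_self]
    have hUeq : U V B = U V A := U_eq_of_kill hd hcA hcd.symm QB QA hkill
    exact hnontriv (trivial_of_U_eq htop QA QB hUeq.symm)

end Cfsg.Agent.S5023
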