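import Cfsg.Statements.S5024
import Cfsg.Agent.Lib.Helper5.RankOne

set_option autoImplicit false
open Cfsg

namespace Cfsg.Agent.S5024

open Cfsg.Agent.Lib.Helper5
open scoped commutatorElement

variable {G : Type*} [Group G]

/-- In the commutator case for `(F, E')`, where `f ∈ F` does not normalize `E'`-conjugates: all of `E'` is trivial. -/
theorem comm_case_absurd {S : Set (Subgroup G)} {F E' : Subgroup G}
    (hcc : Cfsg.RootCommutatorCase S F E') {f : G} (hf : f ∈ F)
    (hdisj : Cfsg.conjBy E' f ⊓ Subgroup.normalizer (E' : Set G) = ⊥) : E' = ⊥ := by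
  obtain ⟨_, hcentral, _, _⟩ := hcc
  rw [eq_bot_iff]
  intro e' he'
  rw [Subgroup.mem_bot]
  have hc : ⁅f, e'⁆ ∈ ⁅F, E'⁆ := Subgroup.commutator_mem_commutator hf he'
  have hcB : f * e' * f⁻¹ * e'⁻¹ ∈ Subgroup.normalizer (E' : Set G) := by
    apply Subgroup.centralizer_le_normalizer (E' : Set G)
    rw [Subgroup.mem_centralizer_iff]
    intro x hx
    exact (hcentral _ hc x (Subgroup.mem_sup_right hx)).symm
  have hN : f * e' * f⁻¹ ∈ Subgroup.normalizer (E' : Set G) := by
    have := mul_mem hcB (Subgroup.le_normalizer he')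
    simpa [mul_assoc] using this
  have hconj : f * e' * f⁻¹ ∈ Cfsg.conjBy E' f := by
    rw [mem_conjBy_iff]
    have : f⁻¹ * (f * e' * f⁻¹) * f = e' := by group
    rw [this]; exact he'
  have hmem : f * e' * f⁻¹ ∈ Cfsg.conjBy E' f ⊓ Subgroup.normalizer (E' : Set G) :=
    Subgroup.mem_inf.2 ⟨hconj, hN⟩
  rw [hdisj, Subgroup.mem_bot] at hmem
  have := congrArg (fun t => f⁻¹ * t * f) hmem
  simpa [mul_assoc] using this

/-- Lemma Q: a member of `S` contained in a unipotent subgroup `E` of a rank one pair `(E, E')` equals `E`. -/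
theorem eq_of_le_of_rankOne {S : Set (Subgroup G)} (hS : Cfsg.IsRootSubgroupSet S)
    {E E' F : Subgroup G} (hE' : E' ∈ S) (hp : Cfsg.IsRankOnePair E E') (hF : F ∈ S)
    (hFE : F ≤ E) : F = E := by
  obtain ⟨f, hfF, hf1⟩ := exists_ne_one_of_ne_bot (hS.ne_bot F hF)
  have hfE : f ∈ E := hFE hfF
  have hEE' := inf_normalizer_eq_bot hp.ne hp.cond_left
  rcases hS.pair F hF E' hE' with hcomm | hrank | hcc
  · exfalso
    rw [Subgroup.commutator_eq_bot_iff_le_centralizer] at hcomm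
    have hmem : f ∈ E ⊓ Subgroup.normalizer (E' : Set G) :=
      Subgroup.mem_inf.2 ⟨hfE, Subgroup.centralizer_le_normalizer (E' : Set G) (hcomm hfF)⟩
    rw [hEE', Subgroup.mem_bot] at hmem
    exact hf1 hmem
  · obtain ⟨e₁, he₁, _, he₁eq⟩ := hrank.cond_left f hfF hf1
    obtain ⟨e₂, he₂, _, he₂eq⟩ := hp.cond_left f hfE hf1
    rw [← he₂eq] at he₁eq
    have hFx : F = Cfsg.conjBy E (e₁ * e₂⁻¹) := by
      rw [← conjBy_conjBy, ← he₁eq, conjBy_conjBy]; simp [conjBy_one]
    by_cases hx : e₁ * e₂⁻¹ = 1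
    · rw [hFx, hx, conjBy_one]
    · exfalso
      have hxE' : e₁ * e₂⁻¹ ∈ E' := mul_mem he₁ (inv_mem he₂)
      have hdisj := conjBy_right_inf_normalizer (Cfsg.RankOnePair_symm hp) hxE' hx
      have hmem : f ∈ Cfsg.conjBy E (e₁ * e₂⁻¹) ⊓ Subgroup.normalizer (E : Set G) :=
        Subgroup.mem_inf.2 ⟨hFx ▸ hfF, Subgroup.le_normalizer hfE⟩
      rw [hdisj, Subgroup.mem_bot] at hmem
      exact hf1 hmem
  · exfalso
    have hdisj := conjBy_right_inf_normalizer hp hfE hf1
    exact hS.ne_bot E' hE' (comm_case_absurd hcc hfF hdisj)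

/-- Lemma P: a member `A` of `S` inside the rank one group `C ⊔ D` that is not central in it
is one of its unipotent subgroups. -/
theorem mem_unipotentSubgroups_of_le {S : Set (Subgroup G)} (hS : Cfsg.IsRootSubgroupSet S)
    {C D A : Subgroup G} (hC : C ∈ S) (hD : D ∈ S) (hp : Cfsg.IsRankOnePair C D) (hA : A ∈ S)
    (hAY : A ≤ C ⊔ D) (hnc : ¬ A ≤ Subgroup.centralizer ((C ⊔ D : Subgroup G) : Set G)) :
    A ∈ Cfsg.unipotentSubgroups C D := by
  by_contra hAΛ
  -- no member of Λ is a rank one partner of A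
  have hnorank : ∀ E ∈ Cfsg.unipotentSubgroups C D, ¬ Cfsg.IsRankOnePair A E := by
    intro E hE hr
    obtain ⟨a, haA, ha1⟩ := exists_ne_one_of_ne_bot (hS.ne_bot A hA)
    obtain ⟨e, heE, _, heq⟩ := hr.cond_left a haA ha1
    have h1 : Cfsg.conjBy E a⁻¹ ∈ Cfsg.unipotentSubgroups C D :=
      conjBy_mem_unipotentSubgroups (inv_mem (hAY haA)) hE
    have hEY : E ≤ C ⊔ D := by
      obtain ⟨x, hx, rfl⟩ := hE
      exact conjBy_le_of_mem le_sup_left hx
    have h2 : A = Cfsg.conjBy (Cfsg.conjBy E a⁻¹) e := by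
      rw [← heq, conjBy_conjBy]; simp [conjBy_one]
    exact hAΛ (h2 ▸ conjBy_mem_unipotentSubgroups (hEY heE) h1)
  -- some E ∈ {C, D} does not commute with A
  have hex : ∃ E E' : Subgroup G, E ∈ S ∧ E' ∈ S ∧ Cfsg.IsRankOnePair E E' ∧
      E ∈ Cfsg.unipotentSubgroups C D ∧ E ≤ C ⊔ D ∧ ⁅A, E⁆ ≠ ⊥ := by
    by_contra hcon
    push Not at hcon
    apply hnc
    have h1 : ⁅A, C⁆ = ⊥ :=
      hcon C D hC hD hp (left_mem_unipotentSubgroups C D) le_sup_left
    have h2 : ⁅A, D⁆ = ⊥ :=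
      hcon D C hD hC (Cfsg.RankOnePair_symm hp) (right_mem_unipotentSubgroups hp)
        le_sup_right
    rw [Subgroup.commutator_eq_bot_iff_le_centralizer] at h1 h2
    intro a ha
    rw [Subgroup.mem_centralizer_iff]
    intro x hx
    have hle : C ⊔ D ≤ Subgroup.centralizer ({a} : Set G) := by
      apply sup_le
      · intro c hc
        rw [Subgroup.mem_centralizer_singleton_iff]
        exact (Subgroup.mem_centralizer_iff.1 (h1 ha) c hc)
      · intro d hd
        rw [Subgroup.mem_centralizer_singleton_iff]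
        exact (Subgroup.mem_centralizer_iff.1 (h2 ha) d hd)
    have := hle hx
    rw [Subgroup.mem_centralizer_singleton_iff] at this
    exact this
  obtain ⟨E, E', hES, hE'S, hEE', hEΛ, hEY, hAE⟩ := hex
  rcases hS.pair A hA E hES with hcomm | hrank | hcc
  · exact hAE hcomm
  · exact hnorank E hEΛ hrank
  · by_cases hAN : A ≤ Subgroup.normalizer (E : Set G)
    · -- F := ⁅A, E⁆ ≤ E, so F = E, so E central in A ⊔ E, contradiction
      have hFE : ⁅A, E⁆ ≤ E := by
        rw [Subgroup.commutator_le]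
        intro a ha e he
        have h1 : a * e * a⁻¹ ∈ E := (Subgroup.mem_normalizer_iff.1 (hAN ha) e).1 he
        rw [commutatorElement_def]
        exact E.mul_mem h1 (E.inv_mem he)
      have hFeq : ⁅A, E⁆ = E := eq_of_le_of_rankOne hS hE'S hEE' hcc.1 hFE
      obtain ⟨_, hcentral, _, _⟩ := hcc
      apply hAE
      rw [Subgroup.commutator_eq_bot_iff_le_centralizer]
      intro a ha
      rw [Subgroup.mem_centralizer_iff]
      intro e he
      have he' : e ∈ ⁅A, E⁆ := by rw [hFeq]; exact he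
      exact hcentral e he' a (Subgroup.mem_sup_left ha)
    · obtain ⟨a, haA, haN⟩ := SetLike.not_le_iff_exists.1 hAN
      have hne : Cfsg.conjBy E a ≠ E := fun hh => haN ((conjBy_eq_self_iff E a).1 hh)
      have hdisj : Cfsg.conjBy E a ⊓ Subgroup.normalizer (E : Set G) = ⊥ :=
        inf_normalizer_of_ne hp (conjBy_mem_unipotentSubgroups (hAY haA) hEΛ) hEΛ hne
      exact hS.ne_bot E hES (comm_case_absurd hcc haA hdisj)

/-- Let S be a set of abstract root subgroups of G, A and C members of S, B a rank one partner of A in S and D a rank one partner of C in S. If the rank one group ⟨A, B⟩ is contained in ⟨C, D⟩ then the two coincide, and C and D are conjugates of A inside ⟨A, B⟩. -/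
theorem result {G : Type*} [Group G] {S : Set (Subgroup G)} (hS : Cfsg.IsRootSubgroupSet S)
    {A B C D : Subgroup G} (hA : A ∈ S) (hC : C ∈ S) (hB : B ∈ Cfsg.rankOnePartners S A) (hD : D ∈ Cfsg.rankOnePartners S C)
    (hle : A ⊔ B ≤ C ⊔ D) : A ⊔ B = C ⊔ D ∧ C ∈ Cfsg.unipotentSubgroups A B ∧ D ∈ Cfsg.unipotentSubgroups A B := by
  obtain ⟨hBS, hpAB⟩ := hB
  obtain ⟨hDS, hpCD⟩ := hD
  have hAY : A ≤ C ⊔ D := le_sup_left.trans hle
  have hBY : B ≤ C ⊔ D := le_sup_right.trans hle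
  have hAnc : ¬ A ≤ Subgroup.centralizer ((C ⊔ D : Subgroup G) : Set G) := by
    intro hh
    have h1 : A ≤ Subgroup.normalizer (B : Set G) := fun a ha =>
      Subgroup.centralizer_le_normalizer (B : Set G)
        (Subgroup.centralizer_le (show (B : Set G) ⊆ ((C ⊔ D : Subgroup G) : Set G) from hBY) (hh ha))
    have := inf_normalizer_eq_bot hpAB.ne hpAB.cond_left
    rw [inf_of_le_left h1] at this
    exact left_ne_bot hpAB this
  have hBnc : ¬ B ≤ Subgroup.centralizer ((C ⊔ D : Subgroup G) : Set G) := by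
    intro hh
    have h1 : B ≤ Subgroup.normalizer (A : Set G) := fun b hb =>
      Subgroup.centralizer_le_normalizer (A : Set G)
        (Subgroup.centralizer_le (show (A : Set G) ⊆ ((C ⊔ D : Subgroup G) : Set G) from hAY) (hh hb))
    have := inf_normalizer_eq_bot hpAB.ne.symm hpAB.cond_right
    rw [inf_of_le_left h1] at this
    exact right_ne_bot hpAB this
  have hAΛ := mem_unipotentSubgroups_of_le hS hC hDS hpCD hA hAY hAnc
  have hBΛ := mem_unipotentSubgroups_of_le hS hC hDS hpCD hBS hBY hBnc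
  obtain ⟨y, hy, hyA, hyB⟩ := exists_conjBy_pair hpCD hAΛ hBΛ (left_mem_unipotentSubgroups C D)
    (right_mem_unipotentSubgroups hpCD) hpAB.ne hpCD.ne
  have hXY : A ⊔ B = C ⊔ D := by
    apply le_antisymm hle
    have h1 : C ⊔ D = Cfsg.conjBy (A ⊔ B) y := by
      rw [← hyA, ← hyB]
      unfold Cfsg.conjBy
      rw [Subgroup.map_sup]
    -- A ⊔ B = conjBy (C ⊔ D) y⁻¹ = C ⊔ D
    have h2 : A ⊔ B = Cfsg.conjBy (C ⊔ D) y⁻¹ := by
      rw [h1, conjBy_conjBy]; simp [conjBy_one]
    rw [h2, conjBy_of_mem (inv_mem hy)]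
  have hyX : y ∈ A ⊔ B := hXY ▸ hy
  refine ⟨hXY, ⟨y, hyX, hyA.symm⟩, ?_⟩
  obtain ⟨x₀, hx₀, hBx⟩ := right_eq_conjBy hpAB
  refine ⟨y * x₀, mul_mem hyX hx₀, ?_⟩
  rw [← conjBy_conjBy, ← hBx, hyB]

end Cfsg.Agent.S5024
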