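import Cfsg.Statements.S5025
import Cfsg.Agent.Lib.Helper5.RankOne

set_option autoImplicit false
open Cfsg

namespace Cfsg.Agent.S5025

open Cfsg.Agent.Lib.Helper5
open scoped commutatorElement

/-- Let S be a set of abstract root subgroups of G, A ∈ S and B a rank one partner of A in S. If z ≠ 1 centralizes ⟨A, B⟩, then no product z a with a a non-identity element of A is a non-identity element of a member of S. -/
theorem result {G : Type*} [Group G] {S : Set (Subgroup G)} (hS : Cfsg.IsRootSubgroupSet S)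
    {A B : Subgroup G} (hA : A ∈ S) (hB : B ∈ Cfsg.rankOnePartners S A) {z : G}
    (hz : z ∈ Subgroup.centralizer ((A ⊔ B : Subgroup G) : Set G)) (hz1 : z ≠ 1) :
    ∀ a ∈ A, a ≠ 1 → z * a ∉ Cfsg.rootElements S := by
  obtain ⟨hBS, hp⟩ := hB
  intro a ha ha1 hroot
  obtain ⟨hza1, E, hES, hzaE⟩ := hroot
  have hAB := inf_normalizer_eq_bot hp.ne hp.cond_left
  have haX : a ∈ A ⊔ B := Subgroup.mem_sup_left ha
  -- z fixes (under conjugation) every subgroup of A ⊔ B
  have hzfix : ∀ C : Subgroup G, C ≤ A ⊔ B → Cfsg.conjBy C z = C := by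
    intro C hC
    apply conjBy_of_mem_centralizer
    exact Subgroup.centralizer_le (show (C : Set G) ⊆ ((A ⊔ B : Subgroup G) : Set G) from hC) hz
  have hzfix' : ∀ C : Subgroup G, C ≤ A ⊔ B → Cfsg.conjBy C z⁻¹ = C := by
    intro C hC
    have := hzfix C hC
    rw [conjBy_eq_iff] at this
    exact this.symm
  -- conjugation by z * a on subgroups of A ⊔ B agrees with conjugation by a
  have hact : ∀ C : Subgroup G, C ≤ A ⊔ B → Cfsg.conjBy C (z * a) = Cfsg.conjBy C a := by
    intro C hC
    rw [← conjBy_conjBy, hzfix _ (conjBy_le_of_mem hC haX)]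
  have hzcomm : ∀ x ∈ A ⊔ B, x * z = z * x := fun x hx => Subgroup.mem_centralizer_iff.1 hz x hx
  rcases hS.pair E hES B hBS with hcomm | hrank | hcc
  · -- E and B commute
    rw [Subgroup.commutator_eq_bot_iff_le_centralizer] at hcomm
    have h1 : Cfsg.conjBy B (z * a) = B := conjBy_of_mem_centralizer (hcomm hzaE)
    rw [hact B le_sup_right] at h1
    have hmem : a ∈ A ⊓ Subgroup.normalizer (B : Set G) :=
      Subgroup.mem_inf.2 ⟨ha, (conjBy_eq_self_iff B a).1 h1⟩
    rw [hAB, Subgroup.mem_bot] at hmem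
    exact ha1 hmem
  · -- (E, B) rank one pair
    obtain ⟨b₁, hb₁, _, hb₁eq⟩ := hrank.cond_left (z * a) hzaE hza1
    obtain ⟨b, hb, _, hbeq⟩ := hp.cond_left a ha ha1
    have h1 : Cfsg.conjBy B (z * a)⁻¹ = Cfsg.conjBy B a⁻¹ := by
      rw [mul_inv_rev, ← conjBy_conjBy, hzfix' B le_sup_right]
    rw [h1, ← hbeq] at hb₁eq
    -- E = conjBy A (b₁ * b⁻¹)
    have hE : E = Cfsg.conjBy A (b₁ * b⁻¹) := by
      rw [← conjBy_conjBy, ← hb₁eq, conjBy_conjBy]; simp [conjBy_one]
    have hxX : b₁ * b⁻¹ ∈ A ⊔ B :=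
      mul_mem (Subgroup.mem_sup_right hb₁) (inv_mem (Subgroup.mem_sup_right hb))
    have hEΩ : E ∈ Cfsg.unipotentSubgroups A B := ⟨b₁ * b⁻¹, hxX, hE⟩
    have hEX : E ≤ A ⊔ B := by
      rw [hE]; exact conjBy_le_of_mem le_sup_left hxX
    have hEa : Cfsg.conjBy E a = E := by
      rw [← hact E hEX]; exact conjBy_of_mem hzaE
    have hEA : E = A := by
      by_contra hne
      obtain ⟨a₀, _, huniq⟩ := exists_unique_conjBy hp hEΩ hEΩ hne hne
      have e1 : a = a₀ := huniq a ⟨ha, hEa⟩
      have e2 : (1 : G) = a₀ := huniq 1 ⟨one_mem _, conjBy_one E⟩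
      exact ha1 (e1.trans e2.symm)
    rw [hEA] at hzaE
    have hzA : z ∈ A := by
      have := A.mul_mem hzaE (A.inv_mem ha)
      simpa using this
    have hzN : z ∈ Subgroup.normalizer (B : Set G) :=
      (conjBy_eq_self_iff B z).1 (hzfix B le_sup_right)
    have hmem : z ∈ A ⊓ Subgroup.normalizer (B : Set G) := Subgroup.mem_inf.2 ⟨hzA, hzN⟩
    rw [hAB, Subgroup.mem_bot] at hmem
    exact hz1 hmem
  · -- commutator case
    obtain ⟨_, hcentral, _, _⟩ := hcc
    have hBbot : B = ⊥ := by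
      rw [eq_bot_iff]
      intro b' hb'
      rw [Subgroup.mem_bot]
      have hc : ⁅z * a, b'⁆ ∈ ⁅E, B⁆ := Subgroup.commutator_mem_commutator hzaE hb'
      have hceq : ⁅z * a, b'⁆ = a * b' * a⁻¹ * b'⁻¹ := by
        rw [commutatorElement_def]
        have h3 : b' * z = z * b' := hzcomm b' (Subgroup.mem_sup_right hb')
        have h4 : a * z = z * a := hzcomm a haX
        have h5 : z * a * b' * (z * a)⁻¹ = a * b' * a⁻¹ := by
          rw [mul_inv_rev]
          calc z * a * b' * (a⁻¹ * z⁻¹) = z * (a * b' * a⁻¹) * z⁻¹ := by group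
            _ = (a * b' * a⁻¹) * z * z⁻¹ := by
                rw [hzcomm (a * b' * a⁻¹)
                  (mul_mem (mul_mem haX (Subgroup.mem_sup_right hb')) (inv_mem haX))]
            _ = a * b' * a⁻¹ := by group
        rw [h5]
      -- the commutator centralizes B
      have hcB : a * b' * a⁻¹ * b'⁻¹ ∈ Subgroup.normalizer (B : Set G) := by
        apply Subgroup.centralizer_le_normalizer (B : Set G)
        rw [Subgroup.mem_centralizer_iff]
        intro x hx
        rw [← hceq]
        exact (hcentral _ hc x (Subgroup.mem_sup_right hx)).symm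
      have hN : a * b' * a⁻¹ ∈ Subgroup.normalizer (B : Set G) := by
        have := mul_mem hcB (Subgroup.le_normalizer hb')
        simpa [mul_assoc] using this
      have hconj : a * b' * a⁻¹ ∈ Cfsg.conjBy B a := by
        rw [mem_conjBy_iff]
        have : a⁻¹ * (a * b' * a⁻¹) * a = b' := by group
        rw [this]; exact hb'
      have hmem : a * b' * a⁻¹ ∈ Cfsg.conjBy B a ⊓ Subgroup.normalizer (B : Set G) :=
        Subgroup.mem_inf.2 ⟨hconj, hN⟩
      rw [conjBy_right_inf_normalizer hp ha ha1, Subgroup.mem_bot] at hmem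
      have := congrArg (fun t => a⁻¹ * t * a) hmem
      simpa [mul_assoc] using this
    exact right_ne_bot hp hBbot

end Cfsg.Agent.S5025
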