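import Mathlib
import Cfsg.Statements.S5026
import Cfsg.Agent.Lib.Helper23.RootBasic

set_option autoImplicit false

namespace Cfsg.Agent.S5026

open Cfsg Cfsg.Agent.Lib.Helper5 Cfsg.Agent.Lib.Helper23

theorem key {G : Type*} [Group G] {S : Set (Subgroup G)} (hS : Cfsg.IsRootSubgroupSet S)
    (hdeg : Cfsg.IsDegenerateRootSet S)
    {a b : G} {A B C : Subgroup G} (hA : A ∈ S) (hB : B ∈ S) (hC : C ∈ S)
    (haA : a ∈ A) (ha1 : a ≠ 1) (hbB : b ∈ B) (hb1 : b ≠ 1)
    (hab : a * b = b * a) (hab1 : a * b ≠ 1)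
    (hcen : ∀ x ∈ C, x * (a * b) = (a * b) * x) : ∀ x ∈ C, x * a = a * x := by
  have hCcomm := comm_of_mem hS hC
  have hAcomm := comm_of_mem hS hA
  -- if C commutes with b then also with a
  have hfromb : (∀ x ∈ C, x * b = b * x) → ∀ x ∈ C, x * a = a * x := by
    intro h x hx
    have h1 := hcen x hx
    have h2 := h x hx
    have : x * a * b = a * x * b := by
      rw [mul_assoc, h1, mul_assoc, ← h2, ← mul_assoc]
    exact mul_right_cancel this
  rcases hS.pair A hA C hC with h1 | h2 | h3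
  · intro x hx
    exact (comm_of_commutator_eq_bot h1 haA hx).symm
  · rcases hS.pair B hB C hC with h1' | h2' | h3'
    · apply hfromb
      intro x hx
      exact (comm_of_commutator_eq_bot h1' hbB hx).symm
    · exfalso
      -- both rank one pairs
      have hb1' : b⁻¹ ≠ 1 := fun hh => hb1 (inv_eq_one.1 hh)
      obtain ⟨c₁, hc₁, _, e₁⟩ := h2.cond_left a haA ha1
      obtain ⟨c₂, hc₂, _, e₂⟩ := h2'.cond_left b⁻¹ (B.inv_mem hbB) hb1'
      rw [inv_inv] at e₂
      have habN : a * b ∈ Subgroup.centralizer (C : Set G) := by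
        rw [Subgroup.mem_centralizer_iff]
        intro x hx
        exact hcen x hx
      have e₃ : Cfsg.conjBy C b = Cfsg.conjBy C a⁻¹ := by
        have : b = a⁻¹ * (a * b) := by group
        rw [this, ← conjBy_conjBy, conjBy_of_mem_centralizer habN]
      have e₄ : Cfsg.conjBy B c₂⁻¹ = Cfsg.conjBy A c₁⁻¹ := by rw [e₂, e₃, e₁]
      have e₅ : B = Cfsg.conjBy A (c₂ * c₁⁻¹) := by
        have := congrArg (fun D => Cfsg.conjBy D c₂) e₄
        simp only [conjBy_conjBy, mul_inv_cancel, conjBy_one] at this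
        exact this
      have hd : c₂ * c₁⁻¹ ∈ C := C.mul_mem hc₂ (C.inv_mem hc₁)
      by_cases hd1 : c₂ * c₁⁻¹ = 1
      · rw [hd1, conjBy_one] at e₅
        subst e₅
        have : a * b ∈ B ⊓ Subgroup.normalizer (C : Set G) :=
          ⟨B.mul_mem haA hbB, Subgroup.centralizer_le_normalizer _ habN⟩
        rw [inf_normalizer_eq_bot h2.ne h2.cond_left, Subgroup.mem_bot] at this
        exact hab1 this
      · obtain ⟨a₀, ha₀, _, e₆⟩ := exists_conjBy_eq_of_mem_right h2 hd hd1
        rw [← e₅] at e₆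
        have hbC : b ∈ Cfsg.conjBy C a₀⁻¹ := e₆ ▸ hbB
        rw [mem_conjBy_iff, inv_inv] at hbC
        -- c' = a₀ b a₀⁻¹ ∈ C commutes with a
        have hcomm : a * (a₀ * b * a₀⁻¹) = (a₀ * b * a₀⁻¹) * a := by
          have e1 := hAcomm a haA a₀ ha₀
          have e2 := hAcomm a haA a₀⁻¹ (A.inv_mem ha₀)
          calc a * (a₀ * b * a₀⁻¹) = (a * a₀) * b * a₀⁻¹ := by group
            _ = a₀ * (a * b) * a₀⁻¹ := by rw [e1]; group
            _ = a₀ * b * (a * a₀⁻¹) := by rw [hab]; group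
            _ = (a₀ * b * a₀⁻¹) * a := by rw [e2]; group
        have h1c := eq_one_of_commute_of_rankOne h2 hCcomm haA ha1 hbC hcomm
        apply hb1
        have := congrArg (fun t => a₀⁻¹ * t * a₀) h1c
        simpa [mul_assoc] using this
    · exact absurd h3' (hdeg B hB C hC)
  · exact absurd h3 (hdeg A hA C hC)

/-- Let S be a degenerate set of abstract root subgroups of G (a set of abstract transvection groups) and let a, b be commuting non-identity elements of members of S with a b ≠ 1. Then the members of S centralizing a b are exactly those centralizing both a and b. -/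
theorem result {G : Type*} [Group G] {S : Set (Subgroup G)} (hS : Cfsg.IsRootSubgroupSet S) (hdeg : Cfsg.IsDegenerateRootSet S)
    {a b : G} (ha : a ∈ Cfsg.rootElements S) (hb : b ∈ Cfsg.rootElements S) (hab : a * b = b * a) (hab1 : a * b ≠ 1) :
    Cfsg.centralizingMembers S (Subgroup.zpowers (a * b)) =
      Cfsg.centralizingMembers S (Subgroup.zpowers a) ∩ Cfsg.centralizingMembers S (Subgroup.zpowers b) := by
  obtain ⟨ha1, A, hA, haA⟩ := ha
  obtain ⟨hb1, B, hB, hbB⟩ := hb
  ext C
  simp only [Cfsg.centralizingMembers, Set.mem_ofPred_eq, Set.mem_inter_iff,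
    le_centralizer_zpowers_iff]
  constructor
  · rintro ⟨hC, hcen⟩
    have h1 := key hS hdeg hA hB hC haA ha1 hbB hb1 hab hab1 hcen
    have h2 : ∀ x ∈ C, x * b = b * x := by
      have hcen' : ∀ x ∈ C, x * (b * a) = (b * a) * x := by
        intro x hx; rw [← hab]; exact hcen x hx
      exact key hS hdeg hB hA hC hbB hb1 haA ha1 hab.symm (hab ▸ hab1) hcen'
    exact ⟨⟨hC, h1⟩, ⟨hC, h2⟩⟩
  · rintro ⟨⟨hC, h1⟩, ⟨_, h2⟩⟩
    refine ⟨hC, ?_⟩
    intro x hx
    rw [← mul_assoc, h1 x hx, mul_assoc, h2 x hx, mul_assoc]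

end Cfsg.Agent.S5026
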