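import Mathlib
import Cfsg.Statements.S5027
import Cfsg.Agent.Lib.Helper23.RootBasic

set_option autoImplicit false

namespace Cfsg.Agent.S5027

open Cfsg Cfsg.Agent.Lib.Helper5 Cfsg.Agent.Lib.Helper23

/-- an element of the second centre normalizes every member having a rank one partner -/
theorem conjBy_eq_self {G : Type*} [Group G] {S : Set (Subgroup G)} (hS : Cfsg.IsRootSubgroupSet S)
    {A C : Subgroup G} (hA : A ∈ S) (hC : C ∈ S) (hAC : Cfsg.IsRankOnePair A C) {z : G}
    (hz : ∀ y : G, z * y * z⁻¹ * y⁻¹ ∈ Subgroup.center G) : Cfsg.conjBy A z = A := by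
  have hA'S : Cfsg.conjBy A z ∈ S := hS.conj_mem A hA z
  have hCcomm := comm_of_mem hS hC
  have hAcomm := comm_of_mem hS hA
  obtain ⟨a, haA, ha1⟩ := exists_ne_one_of_ne_bot (left_ne_bot hAC)
  have hAbot : A ⊓ Subgroup.normalizer (C : Set G) = ⊥ := inf_normalizer_eq_bot hAC.ne hAC.cond_left
  -- the central element ζ with z a z⁻¹ = ζ a
  have hζ : ∀ x : G, ∀ g : G, (z * x * z⁻¹ * x⁻¹) * g = g * (z * x * z⁻¹ * x⁻¹) := by
    intro x g
    exact ((Subgroup.mem_center_iff.1 (hz x)) g).symm
  have ha'mem : z * a * z⁻¹ ∈ Cfsg.conjBy A z := by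
    rw [mem_conjBy_iff]; simpa [mul_assoc] using haA
  have ha'1 : z * a * z⁻¹ ≠ 1 := by
    intro h
    apply ha1
    have := congrArg (fun t => z⁻¹ * t * z) h
    simpa [mul_assoc] using this
  -- A and A' commute elementwise
  have hAA' : ∀ x ∈ A, ∀ y ∈ Cfsg.conjBy A z, x * y = y * x := by
    intro x hx y hy
    rw [mem_conjBy_iff] at hy
    obtain ⟨w, hw⟩ : ∃ w, w = z⁻¹ * y * z := ⟨_, rfl⟩
    rw [← hw] at hy
    have hy' : y = (z * w * z⁻¹ * w⁻¹) * w := by rw [hw]; group
    have h1 := hζ w x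
    have h2 := hAcomm x hx w hy
    generalize z * w * z⁻¹ * w⁻¹ = k at hy' h1
    rw [hy', ← mul_assoc, ← h1, mul_assoc, h2, mul_assoc]
  rcases hS.pair (Cfsg.conjBy A z) hA'S C hC with h1 | h2 | h3
  · exfalso
    apply ha1
    have : a ∈ A ⊓ Subgroup.normalizer (C : Set G) := by
      refine ⟨haA, Subgroup.centralizer_le_normalizer _ ?_⟩
      rw [Subgroup.mem_centralizer_iff]
      intro c hc
      have e1 := comm_of_commutator_eq_bot h1 ha'mem hc
      have e2 := hζ a c
      have e3 : z * a * z⁻¹ = (z * a * z⁻¹ * a⁻¹) * a := by group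
      rw [e3] at e1
      generalize z * a * z⁻¹ * a⁻¹ = k at e1 e2
      have : k * (c * a) = k * (a * c) := by
        calc k * (c * a) = (k * c) * a := by group
          _ = (c * k) * a := by rw [e2]
          _ = c * (k * a) := by group
          _ = k * a * c := e1.symm
          _ = k * (a * c) := by group
      exact mul_left_cancel this
    rw [hAbot, Subgroup.mem_bot] at this
    exact this
  · -- rank one pair (A', C)
    obtain ⟨c₁, hc₁, _, e₁⟩ := hAC.cond_left a haA ha1
    obtain ⟨c₂, hc₂, _, e₂⟩ := h2.cond_left (z * a * z⁻¹) ha'mem ha'1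
    have e₃ : Cfsg.conjBy C (z * a * z⁻¹)⁻¹ = Cfsg.conjBy C a⁻¹ := by
      have hk : (z * a * z⁻¹ * a⁻¹)⁻¹ ∈ Subgroup.centralizer (C : Set G) := by
        apply Subgroup.inv_mem
        rw [Subgroup.mem_centralizer_iff]
        intro c _
        exact (hζ a c).symm
      have : (z * a * z⁻¹)⁻¹ = a⁻¹ * (z * a * z⁻¹ * a⁻¹)⁻¹ := by group
      rw [this, ← conjBy_conjBy, conjBy_of_mem_centralizer hk]
    have e₄ : Cfsg.conjBy (Cfsg.conjBy A z) c₂⁻¹ = Cfsg.conjBy A c₁⁻¹ := by rw [e₂, e₃, e₁]
    have e₅ : Cfsg.conjBy A z = Cfsg.conjBy A (c₂ * c₁⁻¹) := by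
      have := congrArg (fun D => Cfsg.conjBy D c₂) e₄
      simp only [conjBy_conjBy, mul_inv_cancel_left, mul_inv_cancel, conjBy_one] at this
      exact this
    have hd : c₂ * c₁⁻¹ ∈ C := C.mul_mem hc₂ (C.inv_mem hc₁)
    by_cases hd1 : c₂ * c₁⁻¹ = 1
    · rw [e₅, hd1, conjBy_one]
    · exfalso
      obtain ⟨a₀, ha₀, _, e₆⟩ := exists_conjBy_eq_of_mem_right hAC hd hd1
      rw [← e₅] at e₆
      -- C = a₀ A' a₀⁻¹ commutes with A
      apply ha1
      have : a ∈ A ⊓ Subgroup.normalizer (C : Set G) := by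
        refine ⟨haA, Subgroup.centralizer_le_normalizer _ ?_⟩
        rw [Subgroup.mem_centralizer_iff]
        intro c hc
        have hc' : a₀⁻¹ * c * a₀ ∈ Cfsg.conjBy A z := by
          rw [← e₆, mem_conjBy_iff]; simpa [mul_assoc] using hc
        have h1 := hAA' a haA _ hc'
        have e1 := hAcomm a haA a₀ ha₀
        have e2 := hAcomm a haA a₀⁻¹ (A.inv_mem ha₀)
        have e3 : a₀ * a * a₀⁻¹ = a := by rw [← e1]; group
        calc c * a = c * (a₀ * a * a₀⁻¹) := by rw [e3]
          _ = a₀ * ((a₀⁻¹ * c * a₀) * a) * a₀⁻¹ := by group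
          _ = a₀ * (a * (a₀⁻¹ * c * a₀)) * a₀⁻¹ := by rw [h1]
          _ = (a₀ * a * a₀⁻¹) * c := by group
          _ = a * c := by rw [e3]
      rw [hAbot, Subgroup.mem_bot] at this
      exact this
  · -- commutator case
    exfalso
    apply not_conjBy_le_normalizer hAC haA ha1
    refine le_trans ?_ (Subgroup.centralizer_le_normalizer _)
    apply conjBy_le_centralizer_of_comm hCcomm
    intro c hc y hy
    have hmem : (z * a * z⁻¹) * c * (z * a * z⁻¹)⁻¹ * c⁻¹ ∈ ⁅Cfsg.conjBy A z, C⁆ :=
      Subgroup.commutator_mem_commutator ha'mem hc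
    have heq : (z * a * z⁻¹) * c * (z * a * z⁻¹)⁻¹ * c⁻¹ = a * c * a⁻¹ * c⁻¹ := by
      have e2 := hζ a (a * c * a⁻¹)
      have e3 : z * a * z⁻¹ = (z * a * z⁻¹ * a⁻¹) * a := by group
      rw [e3]
      generalize z * a * z⁻¹ * a⁻¹ = k at e2
      calc k * a * c * (k * a)⁻¹ * c⁻¹ = (k * (a * c * a⁻¹)) * k⁻¹ * c⁻¹ := by group
        _ = ((a * c * a⁻¹) * k) * k⁻¹ * c⁻¹ := by rw [e2]
        _ = a * c * a⁻¹ * c⁻¹ := by group
    rw [heq] at hmem
    exact h3.2.1 _ hmem y (Subgroup.mem_sup_right hy)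

/-- Let S be a set of abstract root subgroups of G such that every member of S has a rank one partner in S (the graph of rank one pairs on S has no isolated vertex). Then the second centre of G equals its centre. -/
theorem result {G : Type*} [Group G] {S : Set (Subgroup G)} (hS : Cfsg.IsRootSubgroupSet S)
    (hF : ∀ A ∈ S, ¬ Cfsg.IsIsolatedIn (Cfsg.FAdj S) S A) : Subgroup.upperCentralSeries G 2 = Subgroup.center G := by
  apply le_antisymm
  · intro z hz
    rw [Subgroup.mem_upperCentralSeries_succ_iff] at hz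
    simp only [zero_add, Subgroup.upperCentralSeries_one, commutatorElement_def] at hz
    -- z commutes with every member
    have hmem : ∀ A ∈ S, A ≤ Subgroup.centralizer ({z} : Set G) := by
      intro A hA a haA
      obtain ⟨C, hC, hAC⟩ := exists_rankOnePartner (hF A hA) hA
      have hn := conjBy_eq_self hS hA hC hAC hz
      have h1 : z * a * z⁻¹ * a⁻¹ ∈ A ⊓ Subgroup.normalizer (C : Set G) := by
        constructor
        · apply A.mul_mem _ (A.inv_mem haA)
          rw [← hn, mem_conjBy_iff]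
          simpa [mul_assoc] using haA
        · apply Subgroup.centralizer_le_normalizer
          exact Subgroup.center_le_centralizer _ (hz a)
      rw [inf_normalizer_eq_bot hAC.ne hAC.cond_left, Subgroup.mem_bot] at h1
      rw [Subgroup.mem_centralizer_iff]
      intro w hw
      rw [Set.mem_singleton_iff] at hw
      subst hw
      have := congrArg (fun t => t * a * w) h1
      simpa [mul_assoc] using this
    have htop : (⊤ : Subgroup G) ≤ Subgroup.centralizer ({z} : Set G) := by
      rw [← hS.generates]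
      exact iSup₂_le hmem
    rw [Subgroup.mem_center_iff]
    intro g
    have := htop (Subgroup.mem_top g)
    rw [Subgroup.mem_centralizer_iff] at this
    exact (this z rfl).symm
  · rw [← Subgroup.upperCentralSeries_one]
    exact Subgroup.upperCentralSeries_mono G (by norm_num)

end Cfsg.Agent.S5027
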