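import Mathlib
import Cfsg.Statements.S5028
import Cfsg.Agent.Lib.Helper23.RootBasic

set_option autoImplicit false

namespace Cfsg.Agent.S5028

open Cfsg Cfsg.Agent.Lib.Helper5 Cfsg.Agent.Lib.Helper23

/-- Let S be a set of abstract root subgroups of G and A a member of S having a rank one partner in S. Then A meets every other member of S trivially. -/
theorem result {G : Type*} [Group G] {S : Set (Subgroup G)} (hS : Cfsg.IsRootSubgroupSet S)
    {A : Subgroup G} (hA : ¬ Cfsg.IsIsolatedIn (Cfsg.FAdj S) S A) (hAS : A ∈ S) : ∀ B ∈ S, A ⊓ B = ⊥ ∨ A = B := by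
  obtain ⟨C, hCS, hAC⟩ := exists_rankOnePartner hA hAS
  intro B hBS
  by_contra hcon
  push Not at hcon
  obtain ⟨hne, hAB⟩ := hcon
  obtain ⟨x, hx, hx1⟩ : ∃ x ∈ A ⊓ B, x ≠ 1 := by
    by_contra h
    push Not at h
    exact hne ((Subgroup.eq_bot_iff_forall _).2 h)
  have hxN : x ∉ Subgroup.normalizer (C : Set G) := by
    intro hxN
    have : x ∈ A ⊓ Subgroup.normalizer (C : Set G) := ⟨hx.1, hxN⟩
    rw [inf_normalizer_eq_bot hAC.ne hAC.cond_left, Subgroup.mem_bot] at this
    exact hx1 this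
  have hCcomm := comm_of_mem hS hCS
  rcases hS.pair B hBS C hCS with h1 | h2 | h3
  · -- [B, C] = 1
    apply hxN
    apply Subgroup.centralizer_le_normalizer
    rw [Subgroup.mem_centralizer_iff]
    intro c hc
    exact (comm_of_commutator_eq_bot h1 hx.2 hc).symm
  · exact hAB (eq_of_common_of_rankOne hAC h2 hx.1 hx.2 hx1)
  · -- commutator case
    have hx1' : x⁻¹ ≠ 1 := fun hh => hx1 (inv_eq_one.1 hh)
    apply not_conjBy_le_normalizer hAC (A.inv_mem hx.1) hx1'
    refine le_trans ?_ (Subgroup.centralizer_le_normalizer _)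
    apply conjBy_le_centralizer_of_comm hCcomm
    intro c hc y hy
    have hmem : x⁻¹ * c * x⁻¹⁻¹ * c⁻¹ ∈ ⁅B, C⁆ :=
      Subgroup.commutator_mem_commutator (B.inv_mem hx.2) hc
    exact h3.2.1 _ hmem y (Subgroup.mem_sup_right hy)

end Cfsg.Agent.S5028
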