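import Mathlib
import Cfsg.Statements.S5031
import Cfsg.Agent.S5030

set_option autoImplicit false
set_option linter.unusedVariables false
open Cfsg Cfsg.Agent.Lib.Helper5 Cfsg.Agent.Lib.Helper23 Cfsg.Agent.Lib.Helper23.RootDiag
open scoped commutatorElement

namespace Cfsg.Agent.S5031

variable {G : Type*} [Group G]

theorem fadj_symm {S : Set (Subgroup G)} {A B : Subgroup G} (h : Cfsg.FAdj S A B) :
    Cfsg.FAdj S B A := ⟨h.2.1, h.1, Cfsg.RankOnePair_symm h.2.2⟩

theorem path_symm {S : Set (Subgroup G)} {A B : Subgroup G}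
    (h : Relation.ReflTransGen (Cfsg.FAdj S) A B) : Relation.ReflTransGen (Cfsg.FAdj S) B A := by
  induction h with
  | refl => exact Relation.ReflTransGen.refl
  | tail _ hbc ih => exact Relation.ReflTransGen.head (fadj_symm hbc) ih

theorem comp_eq_of_path {S : Set (Subgroup G)} {A B : Subgroup G}
    (h : Relation.ReflTransGen (Cfsg.FAdj S) A B) :
    Cfsg.componentOf (Cfsg.FAdj S) S A = Cfsg.componentOf (Cfsg.FAdj S) S B := by
  have h' := path_symm h
  ext X
  constructor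
  · rintro ⟨hX, hAX⟩; exact ⟨hX, h'.trans hAX⟩
  · rintro ⟨hX, hBX⟩; exact ⟨hX, h.trans hBX⟩

theorem exists_partner {S : Set (Subgroup G)} {A : Subgroup G}
    (hA2 : ∃ A' ∈ Cfsg.componentOf (Cfsg.FAdj S) S A, A' ≠ A) :
    ∃ C, C ∈ S ∧ Cfsg.IsRankOnePair A C := by
  obtain ⟨A', ⟨_, hpath⟩, hne⟩ := hA2
  rcases Relation.ReflTransGen.cases_head hpath with h | ⟨C, hC, _⟩
  · exact absurd h.symm hne
  · exact ⟨C, hC.2.1, hC.2.2⟩

/-- The core of the argument: `A, B` commuting members meeting trivially, `F ≤ A ⊔ B` a member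
containing `a b`, `C` a rank one partner of `A` such that neither `(B, C)` nor `(F, C)` is a rank one
pair: contradiction. -/
theorem core {S : Set (Subgroup G)} (hS : Cfsg.IsRootSubgroupSet S) {A B C F : Subgroup G}
    (hA : A ∈ S) (hB : B ∈ S) (hC : C ∈ S) (hF : F ∈ S)
    (hBA : B ≠ A) (hcomm : ⁅A, B⁆ = ⊥) (hAB0 : A ⊓ B = ⊥) (hFAB : F ≤ A ⊔ B)
    (hAC : Cfsg.IsRankOnePair A C) (hBC : ¬ Cfsg.IsRankOnePair B C)
    (hFC : ¬ Cfsg.IsRankOnePair F C)
    {a b : G} (ha : a ∈ A) (ha1 : a ≠ 1) (hb : b ∈ B) (hb1 : b ≠ 1) (hab : a * b ∈ F) : False := by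
  have cAB : ∀ x ∈ A, ∀ y ∈ B, x * y = y * x := fun x hx y hy =>
    comm_of_commutator_eq_bot hcomm hx hy
  have hAc := comm_of_mem hS hA
  have hBc := comm_of_mem hS hB
  have hCc := comm_of_mem hS hC
  have hFc := comm_of_mem hS hF
  have ABcomm := Cfsg.Agent.S5030.sup_comm_of hAc hBc cAB
  have cFA : ∀ x ∈ F, ∀ y ∈ A, x * y = y * x := fun x hx y hy =>
    ABcomm x (hFAB hx) y (Subgroup.mem_sup_left hy)
  have cFB : ∀ x ∈ F, ∀ y ∈ B, x * y = y * x := fun x hx y hy =>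
    ABcomm x (hFAB hx) y (Subgroup.mem_sup_right hy)
  have hFA : F ≠ A := by
    intro h
    rw [h] at hab
    have hb' : b ∈ A := by
      have := A.mul_mem (A.inv_mem ha) hab
      rwa [inv_mul_cancel_left] at this
    have : b ∈ A ⊓ B := ⟨hb', hb⟩
    rw [hAB0, Subgroup.mem_bot] at this
    exact hb1 this
  have hFB : F ≠ B := by
    intro h
    rw [h] at hab
    have ha' : a ∈ B := by
      have := B.mul_mem hab (B.inv_mem hb)
      rwa [mul_inv_cancel_right] at this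
    have : a ∈ A ⊓ B := ⟨ha, ha'⟩
    rw [hAB0, Subgroup.mem_bot] at this
    exact ha1 this
  -- step 1
  have h1 : ⁅B, C⁆ ≠ ⊥ := by
    intro h
    exact no_diag hS hA hC hF hAC hFA cFA ha ha1 (fun y hy => (cAB y hy b hb).symm)
      (fun y hy => comm_of_commutator_eq_bot h hb hy) hab
  have hK1 : ⁅B, C⁆ ∈ S := by
    rcases hS.pair B hB C hC with h | h | h
    · exact absurd h h1
    · exact absurd h hBC
    · exact h.1
  -- step 2
  have h2 : ⁅F, C⁆ ≠ ⊥ := by
    intro h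
    refine no_diag hS hA hC hB hAC hBA (fun x hx y hy => (cAB y hy x hx).symm) (a := a⁻¹)
      (u := a * b) (A.inv_mem ha) (inv_ne_one.mpr ha1) (fun y hy => cFA _ hab y hy)
      (fun y hy => comm_of_commutator_eq_bot h hab hy) ?_
    rw [inv_mul_cancel_left]; exact hb
  have hK2 : ⁅C, F⁆ ∈ S := by
    rw [Subgroup.commutator_comm C F]
    rcases hS.pair F hF C hC with h | h | h
    · exact absurd h h2
    · exact absurd h hFC
    · exact h.1
  have hFcp : F ∈ Cfsg.commutingPartners S B :=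
    ⟨hF, hFB, Cfsg.Agent.S5030.commutator_eq_bot_of_comm (fun x hx y hy => (cFB y hy x hx).symm)⟩
  obtain ⟨c, hc, hc1⟩ := exists_ne_one_of_ne_bot (hS.ne_bot C hC)
  have hnil : Group.IsNilpotent ↥(B ⊔ C ⊔ F) :=
    Cfsg.Agent.S5030.part5 hS hB hC hF hK1 hK2 hFcp hc hc1
  have hBR : B ≤ B ⊔ C ⊔ F := le_sup_of_le_left le_sup_left
  have hCR : C ≤ B ⊔ C ⊔ F := le_sup_of_le_left le_sup_right
  have hFR : F ≤ B ⊔ C ⊔ F := le_sup_right
  have haR : a ∈ B ⊔ C ⊔ F := by
    have := Subgroup.mul_mem _ (hFR hab) (Subgroup.inv_mem _ (hBR hb))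
    rwa [mul_inv_cancel_right] at this
  obtain ⟨c', hc', hc'1, e⟩ := hAC.cond_left a ha ha1
  have hAeq : A = Cfsg.conjBy C (c' * a⁻¹) := by
    have := congrArg (fun X => Cfsg.conjBy X c') e
    simp only [conjBy_conjBy, mul_inv_cancel, conjBy_one] at this
    exact this
  have hAR : A ≤ B ⊔ C ⊔ F := by
    rw [hAeq]
    exact conjBy_le_of_mem hCR (Subgroup.mul_mem _ (hCR hc') (Subgroup.inv_mem _ haR))
  exact not_rankOne_of_nilpotent hnil hAR hCR hAc hCc hAC

/-- Let S be a set of abstract root subgroups of G and let A, B ∈ S lie in different connected components of the graph of rank one pairs on S, each component having more than one member. Then B is not a line partner of A. -/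
theorem result {G : Type*} [Group G] {S : Set (Subgroup G)} (hS : Cfsg.IsRootSubgroupSet S)
    {A B : Subgroup G} (hA : A ∈ S) (hB : B ∈ S)
    (hne : Cfsg.componentOf (Cfsg.FAdj S) S A ≠ Cfsg.componentOf (Cfsg.FAdj S) S B)
    (hA2 : ∃ A' ∈ Cfsg.componentOf (Cfsg.FAdj S) S A, A' ≠ A) (hB2 : ∃ B' ∈ Cfsg.componentOf (Cfsg.FAdj S) S B, B' ≠ B) :
    B ∉ Cfsg.linePartners S A := by
  intro hBL
  obtain ⟨⟨_, hBA, hcomm⟩, hpart⟩ := hBL
  obtain ⟨C, hC, hAC⟩ := exists_partner hA2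
  obtain ⟨D, hD, hBD⟩ := exists_partner hB2
  have hAB0 : A ⊓ B = ⊥ := hpart.2.2 A ⟨hA, le_sup_left⟩ B ⟨hB, le_sup_right⟩ (Ne.symm hBA)
  obtain ⟨a, ha, ha1⟩ := exists_ne_one_of_ne_bot (hS.ne_bot A hA)
  obtain ⟨b, hb, hb1⟩ := exists_ne_one_of_ne_bot (hS.ne_bot B hB)
  have cAB : ∀ x ∈ A, ∀ y ∈ B, x * y = y * x := fun x hx y hy =>
    comm_of_commutator_eq_bot hcomm hx hy
  have hab1 : a * b ≠ 1 := by
    intro h
    have h' : a = b⁻¹ := eq_inv_of_mul_eq_one_left h
    have : a ∈ A ⊓ B := ⟨ha, by rw [h']; exact B.inv_mem hb⟩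
    rw [hAB0, Subgroup.mem_bot] at this
    exact ha1 this
  obtain ⟨F, ⟨hF, hFAB⟩, habF⟩ := hpart.2.1 (a * b)
    (Subgroup.mul_mem _ (Subgroup.mem_sup_left ha) (Subgroup.mem_sup_right hb)) hab1
  have hpathAC : Relation.ReflTransGen (Cfsg.FAdj S) A C :=
    Relation.ReflTransGen.single ⟨hA, hC, hAC⟩
  have hpathBD : Relation.ReflTransGen (Cfsg.FAdj S) B D :=
    Relation.ReflTransGen.single ⟨hB, hD, hBD⟩
  have hnoAB : ¬ Relation.ReflTransGen (Cfsg.FAdj S) A B := fun h => hne (comp_eq_of_path h)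
  by_cases hAF : Relation.ReflTransGen (Cfsg.FAdj S) A F
  · have hBF : ¬ Relation.ReflTransGen (Cfsg.FAdj S) B F := fun h =>
      hnoAB (hAF.trans (path_symm h))
    refine core hS hB hA hD hF (Ne.symm hBA) (by rw [Subgroup.commutator_comm]; exact hcomm)
      (by rw [inf_comm]; exact hAB0) (by rw [sup_comm]; exact hFAB) hBD ?_ ?_ hb hb1 ha ha1
      (by rw [← cAB a ha b hb]; exact habF)
    · intro h
      exact hnoAB ((Relation.ReflTransGen.single ⟨hA, hD, h⟩).trans (path_symm hpathBD))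
    · intro h
      exact hBF (hpathBD.trans (Relation.ReflTransGen.single ⟨hD, hF, Cfsg.RankOnePair_symm h⟩))
  · refine core hS hA hB hC hF hBA hcomm hAB0 hFAB hAC ?_ ?_ ha ha1 hb hb1 habF
    · intro h
      exact hnoAB (hpathAC.trans (Relation.ReflTransGen.single ⟨hC, hB, Cfsg.RankOnePair_symm h⟩))
    · intro h
      exact hAF (hpathAC.trans (Relation.ReflTransGen.single ⟨hC, hF, Cfsg.RankOnePair_symm h⟩))

end Cfsg.Agent.S5031
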