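import Mathlib
import Cfsg.Statements.S5032
import Cfsg.Agent.S5029
import Cfsg.Agent.S5031
import Cfsg.Agent.Lib.Helper23.RootMap

set_option autoImplicit false
set_option linter.unusedVariables false
open Cfsg Cfsg.Agent.Lib.Helper5 Cfsg.Agent.Lib.Helper23 Cfsg.Agent.S5031
open scoped commutatorElement

namespace Cfsg.Agent.S5032

variable {G : Type*} [Group G]

theorem mem_of_path {S : Set (Subgroup G)} {A D : Subgroup G} (hA : A ∈ S)
    (h : Relation.ReflTransGen (Cfsg.FAdj S) A D) : D ∈ S := by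
  rcases Relation.ReflTransGen.cases_tail h with h | ⟨c, _, hc⟩
  · rw [h]; exact hA
  · exact hc.2.1

theorem path_conj {S : Set (Subgroup G)} (hS : Cfsg.IsRootSubgroupSet S) {X Y : Subgroup G} (g : G)
    (h : Relation.ReflTransGen (Cfsg.FAdj S) X Y) :
    Relation.ReflTransGen (Cfsg.FAdj S) (Cfsg.conjBy X g) (Cfsg.conjBy Y g) := by
  induction h with
  | refl => exact Relation.ReflTransGen.refl
  | tail _ hbc ih =>
    exact Relation.ReflTransGen.tail ih
      ⟨hS.conj_mem _ hbc.1 g, hS.conj_mem _ hbc.2.1 g, isRankOnePair_conjBy hbc.2.2 g⟩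

/-- the elements of `G` stabilizing the component of `A` -/
def compStab (S : Set (Subgroup G)) (A : Subgroup G) : Subgroup G where
  carrier := {g | ∀ D, Relation.ReflTransGen (Cfsg.FAdj S) A D →
    Relation.ReflTransGen (Cfsg.FAdj S) A (Cfsg.conjBy D g) ∧
    Relation.ReflTransGen (Cfsg.FAdj S) A (Cfsg.conjBy D g⁻¹)}
  mul_mem' := by
    intro g h hg hh D hD
    constructor
    · rw [← conjBy_conjBy]
      exact (hg _ (hh D hD).1).1
    · rw [mul_inv_rev, ← conjBy_conjBy]
      exact (hh _ (hg D hD).2).2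
  one_mem' := by
    intro D hD
    simp only [inv_one, conjBy_one]
    exact ⟨hD, hD⟩
  inv_mem' := by
    intro g hg D hD
    rw [inv_inv]
    exact ⟨(hg D hD).2, (hg D hD).1⟩

theorem mem_compStab {S : Set (Subgroup G)} {A : Subgroup G} {g : G} :
    g ∈ compStab S A ↔ ∀ D, Relation.ReflTransGen (Cfsg.FAdj S) A D →
      Relation.ReflTransGen (Cfsg.FAdj S) A (Cfsg.conjBy D g) ∧
      Relation.ReflTransGen (Cfsg.FAdj S) A (Cfsg.conjBy D g⁻¹) := Iff.rfl

/-- Let S be a set of abstract root subgroups of G with more than one member. Then the graph of rank one pairs on S is connected if and only if S is a single conjugacy class of G and some member of S has a rank one partner in S. -/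
theorem result {G : Type*} [Group G] {S : Set (Subgroup G)} (hS : Cfsg.IsRootSubgroupSet S) (h2 : ∃ A ∈ S, ∃ B ∈ S, A ≠ B) :
    Cfsg.IsConnectedFamily (Cfsg.FAdj S) S ↔
      (Cfsg.IsConjClassOfSubgroups S ∧ ∃ A ∈ S, ¬ Cfsg.IsIsolatedIn (Cfsg.FAdj S) S A) := by
  constructor
  · intro hconn
    obtain ⟨A, hA, B, hB, hAB⟩ := h2
    refine ⟨⟨⟨A, hA⟩, ?_⟩, A, hA, ?_⟩
    · intro X hX Y hY
      exact exists_conjBy_of_reflTransGen (hconn X hX Y hY)
    · rcases Relation.ReflTransGen.cases_head (hconn A hA B hB) with h | ⟨C, hC, _⟩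
      · exact absurd h hAB
      · intro hiso
        exact (hiso.2 C).1 hC
  · rintro ⟨⟨_, hconj⟩, A₀, hA₀, hniso⟩
    obtain ⟨C₀, hC₀, hAC₀⟩ := exists_rankOnePartner hniso hA₀
    have partner : ∀ A ∈ S, ∃ C ∈ S, Cfsg.IsRankOnePair A C := by
      intro A hA
      obtain ⟨g, hg⟩ := hconj A₀ hA₀ A hA
      exact ⟨Cfsg.conjBy C₀ g, hS.conj_mem C₀ hC₀ g, by rw [hg]; exact isRankOnePair_conjBy hAC₀ g⟩
    have niso : ∀ A ∈ S, ¬ Cfsg.IsIsolatedIn (Cfsg.FAdj S) S A := by
      intro A hA hiso
      obtain ⟨C, hC, hAC⟩ := partner A hA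
      exact (hiso.2 C).1 ⟨hA, hC, hAC⟩
    have big : ∀ A ∈ S, ∃ A' ∈ Cfsg.componentOf (Cfsg.FAdj S) S A, A' ≠ A := by
      intro A hA
      obtain ⟨C, hC, hAC⟩ := partner A hA
      exact ⟨C, ⟨hC, Relation.ReflTransGen.single ⟨hA, hC, hAC⟩⟩, hAC.ne.symm⟩
    have key : ∀ A ∈ S, ∀ B ∈ S, ¬ Relation.ReflTransGen (Cfsg.FAdj S) A B → ⁅A, B⁆ = ⊥ := by
      intro A hA B hB hno
      rcases hS.pair A hA B hB with h | h | h
      · exact h
      · exact absurd (Relation.ReflTransGen.single ⟨hA, hB, h⟩) hno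
      · exfalso
        have hK := h.1
        have h1 : A ∈ Cfsg.linePartners S ⁅A, B⁆ :=
          (Cfsg.Agent.S5029.result hS (niso A hA) hA hB hK).2.2.1
        have hK' : ⁅B, A⁆ ∈ S := by rw [Subgroup.commutator_comm]; exact hK
        have h2' : B ∈ Cfsg.linePartners S ⁅B, A⁆ :=
          (Cfsg.Agent.S5029.result hS (niso B hB) hB hA hK').2.2.1
        rw [Subgroup.commutator_comm B A] at h2'
        have e1 : Cfsg.componentOf (Cfsg.FAdj S) S ⁅A, B⁆ = Cfsg.componentOf (Cfsg.FAdj S) S A := by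
          by_contra hne
          exact Cfsg.Agent.S5031.result hS hK hA hne (big _ hK) (big _ hA) h1
        have e2 : Cfsg.componentOf (Cfsg.FAdj S) S ⁅A, B⁆ = Cfsg.componentOf (Cfsg.FAdj S) S B := by
          by_contra hne
          exact Cfsg.Agent.S5031.result hS hK hB hne (big _ hK) (big _ hB) h2'
        have : B ∈ Cfsg.componentOf (Cfsg.FAdj S) S A := by
          rw [← e1, e2]; exact ⟨hB, Relation.ReflTransGen.refl⟩
        exact hno this.2
    intro A hA B hB
    have hgen : ∀ E ∈ S, E ≤ compStab S A := by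
      intro E hE
      have aux : ∀ g ∈ E, ∀ D, Relation.ReflTransGen (Cfsg.FAdj S) A D →
          Relation.ReflTransGen (Cfsg.FAdj S) A (Cfsg.conjBy D g) := by
        intro g hg D hD
        by_cases hAE : Relation.ReflTransGen (Cfsg.FAdj S) A E
        · have hED : Relation.ReflTransGen (Cfsg.FAdj S) E D := (path_symm hAE).trans hD
          have := path_conj hS g hED
          rw [conjBy_of_mem hg] at this
          exact hAE.trans this
        · have hDS : D ∈ S := mem_of_path hA hD
          have hDE : ¬ Relation.ReflTransGen (Cfsg.FAdj S) D E := fun h => hAE (hD.trans h)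
          have hcomm := key D hDS E hE hDE
          have hgc : g ∈ Subgroup.centralizer (D : Set G) := by
            rw [Subgroup.mem_centralizer_iff]
            intro d hd
            exact comm_of_commutator_eq_bot hcomm hd hg
          rw [conjBy_of_mem_centralizer hgc]
          exact hD
      intro g hg
      rw [mem_compStab]
      intro D hD
      exact ⟨aux g hg D hD, aux g⁻¹ (E.inv_mem hg) D hD⟩
    have htop : compStab S A = ⊤ := by
      rw [eq_top_iff, ← hS.generates]
      exact iSup₂_le hgen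
    obtain ⟨g, hg⟩ := hconj A hA B hB
    have hgT : g ∈ compStab S A := by rw [htop]; exact Subgroup.mem_top g
    rw [hg]
    exact (mem_compStab.mp hgT A Relation.ReflTransGen.refl).1

end Cfsg.Agent.S5032
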