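import Mathlib
import Cfsg.Statements.S5034
import Cfsg.Agent.Lib.Helper23.RootLine

set_option autoImplicit false
set_option linter.unusedVariables false
open Cfsg Cfsg.Agent.Lib.Helper5 Cfsg.Agent.Lib.Helper23 Cfsg.Agent.Lib.Helper23.RootLine
open Cfsg.Agent.S5030
open scoped commutatorElement

namespace Cfsg.Agent.S5034

/-- in the commutator case, a nonidentity element of `A` does not centralize `B` -/
theorem eq_one_of_centralizes {G : Type*} [Group G] {S : Set (Subgroup G)}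
    (hS : Cfsg.IsRootSubgroupSet S) {A B : Subgroup G} (h : Cfsg.RootCommutatorCase S A B)
    {a : G} (ha : a ∈ A) (hab : ∀ b ∈ B, a * b = b * a) : a = 1 := by
  by_contra ha1
  apply hS.ne_bot _ h.1
  rw [← h.2.2.1 a ha ha1, Subgroup.closure_eq_bot_iff]
  rintro _ ⟨b, hb, rfl⟩
  rw [Set.mem_singleton_iff]
  exact comm_one (hab b hb)

/-- Let S be a non-degenerate class of abstract root subgroups of G, A ∈ S and B a rank one partner of A. Then some line partner C of A has ⁅B, C⁆ ∈ S, and the rank one pair A, B is special. -/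
theorem result {G : Type*} [Group G] {S : Set (Subgroup G)} (hS : Cfsg.IsRootSubgroupClass S) (hnd : Cfsg.IsNondegenerateRootSet S)
    {A B : Subgroup G} (hA : A ∈ S) (hB : B ∈ Cfsg.rankOnePartners S A) :
    (∃ C ∈ Cfsg.linePartners S A, C ∈ Cfsg.commutatorPartners S B) ∧ Cfsg.IsSpecialRankOnePair A B := by
  obtain ⟨hS', hne, hconj⟩ := hS
  obtain ⟨hBS, hAB⟩ := hB
  obtain ⟨_, ⟨A₁, hA₁, B₁, hB₁, hA₁B₁⟩, ⟨A₀, hA₀, B₀, hB₀, hcc⟩⟩ := hnd
  have hpartner : ∀ X ∈ S, ∃ D ∈ S, Cfsg.IsRankOnePair X D := by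
    intro X hX
    obtain ⟨g, hg⟩ := hconj A₁ hA₁ X hX
    exact ⟨Cfsg.conjBy B₁ g, hS'.conj_mem B₁ hB₁ g, by rw [hg]; exact isRankOnePair_conjBy hA₁B₁ g⟩
  have hK₀ := hcc.1
  obtain ⟨D₀, hD₀, hA₀D₀⟩ := hpartner A₀ hA₀
  have hline₀ : A₀ ∈ Cfsg.linePartners S ⁅A₀, B₀⁆ :=
    (Cfsg.Agent.S5029.result hS' (not_isolated_of_partner hA₀ hD₀ hA₀D₀) hA₀ hB₀ hK₀).2.2.1
  obtain ⟨g, hg⟩ := hconj _ hK₀ A hA
  have hB' : Cfsg.conjBy A₀ g ∈ Cfsg.linePartners S A := by
    rw [hg]; exact linePartners_conjBy hS' hline₀ g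
  obtain ⟨E, K, hE, hK, hEA, hsup, hAK, hKE, hmem, hreg, hKdef⟩ :=
    exists_transitive_member_of hS' hpartner hA hB' hBS hAB
  have hNcomm := line_comm hS' hA hB'
  have hEN : E ≤ A ⊔ Cfsg.conjBy A₀ g := by rw [← hsup]; exact le_sup_right
  have hAEcomm : ∀ x ∈ A, ∀ y ∈ E, x * y = y * x := fun x hx y hy =>
    hNcomm x (Subgroup.mem_sup_left hx) y (hEN hy)
  have hEline : E ∈ Cfsg.linePartners S A := by
    refine ⟨⟨hE, hEA, commutator_eq_bot_of_comm hAEcomm⟩, ?_⟩
    rw [hsup]; exact hB'.2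
  have hKS : ⁅E, B⁆ ∈ S := by rw [← hKdef]; exact hK
  have hKc : Cfsg.RootCommutatorCase S E B := commutatorCase_of_mem hS' hE hBS hKS
  have hLS : ⁅A, K⁆ ∈ S := by rw [hAK]; exact hE
  have hLc : Cfsg.RootCommutatorCase S A K := commutatorCase_of_mem hS' hA hK hLS
  refine ⟨⟨E, hEline, hE, ?_⟩, hAB, ?_⟩
  · rw [Subgroup.commutator_comm]; exact hKS
  · intro a ha ha1 b hb hb1 hc
    apply special_of_module (A := A) (B := B) (E := E) (K := K) hAEcomm ?_ ?_ ?_ ?_ ?_ ?_ ha hb hc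
    · intro x hx y hy
      rw [hKdef] at hy
      exact (hKc.2.1 y hy x (Subgroup.mem_sup_right hx)).symm
    · intro x hx y hy
      rw [hKdef] at hy
      exact (hKc.2.1 y hy x (Subgroup.mem_sup_left hx)).symm
    · intro κ hκ a' ha'
      rw [← hAK, Subgroup.commutator_comm A K]
      have := Subgroup.commutator_mem_commutator (K.inv_mem hκ) ha'
      rwa [commutatorElement_def, inv_inv] at this
    · intro e he b' hb'
      rw [hKdef]
      have := Subgroup.commutator_mem_commutator (E.inv_mem he) hb'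
      rwa [commutatorElement_def, inv_inv] at this
    · intro e he hcomm
      exact eq_one_of_centralizes hS' hKc he (fun b' hb' => (hcomm b' hb').symm)
    · intro a₀ ha₀ hcomm
      exact eq_one_of_centralizes hS' hLc ha₀ hcomm

end Cfsg.Agent.S5034
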