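import Mathlib
import Cfsg.Statements.S5035
import Cfsg.Agent.Lib.Helper23.RootMap

set_option autoImplicit false

namespace Cfsg.Agent.S5035

open Cfsg Cfsg.Agent.Lib.Helper5 Cfsg.Agent.Lib.Helper23
open scoped commutatorElement

/-- Let S be a set of abstract root subgroups of G whose graph of rank one pairs is connected, and f a homomorphism from G onto a group H. Then either the images of the members of S form a set of abstract root subgroups of H whose graph of rank one pairs is again connected, or H equals the image of a member of S. -/
theorem result {G H : Type*} [Group G] [Group H] {S : Set (Subgroup G)} (hS : Cfsg.IsRootSubgroupSet S)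
    (hc : Cfsg.IsConnectedFamily (Cfsg.FAdj S) S) (f : G →* H) (hf : Function.Surjective f) :
    (Cfsg.IsRootSubgroupSet ((fun A : Subgroup G => A.map f) '' S) ∧
      Cfsg.IsConnectedFamily (Cfsg.FAdj ((fun A : Subgroup G => A.map f) '' S)) ((fun A : Subgroup G => A.map f) '' S)) ∨
    ∃ A ∈ S, A.map f = ⊤ := by
  have hgen : (⨆ A ∈ S, A.map f) = ⊤ := by
    have h1 : (⨆ A ∈ S, A).map f = ⊤ := by
      rw [hS.generates, ← MonoidHom.range_eq_map, MonoidHom.range_eq_top]
      exact hf
    rw [← h1, Subgroup.map_iSup]
    congr 1
    funext A
    rw [Subgroup.map_iSup]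
  by_cases hbot : ∃ A₀ ∈ S, A₀.map f = ⊥
  · right
    obtain ⟨A₀, hA₀, h0⟩ := hbot
    refine ⟨A₀, hA₀, ?_⟩
    rw [h0, ← hgen, eq_comm, eq_bot_iff]
    apply iSup₂_le
    intro B hB
    obtain ⟨g, rfl⟩ := exists_conjBy_of_reflTransGen (hc A₀ hA₀ B hB)
    rw [map_conjBy, h0]
    intro y hy
    rw [mem_conjBy_iff, Subgroup.mem_bot] at hy
    rw [Subgroup.mem_bot]
    have := congrArg (fun t => f g * t * (f g)⁻¹) hy
    simpa [mul_assoc] using this
  · left
    push Not at hbot
    have hmemS : ∀ A ∈ S, A.map f ∈ (fun A : Subgroup G => A.map f) '' S := fun A hA => ⟨A, hA, rfl⟩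
    constructor
    · refine ⟨?_, ?_, ?_, ?_, ?_⟩
      · rintro _ ⟨A, hA, rfl⟩
        haveI := hS.commutative A hA
        exact Subgroup.map_isMulCommutative A f
      · rintro _ ⟨A, hA, rfl⟩
        exact hbot A hA
      · rw [iSup_image]
        exact hgen
      · rintro _ ⟨A, hA, rfl⟩ h
        obtain ⟨g, rfl⟩ := hf h
        show Cfsg.conjBy (A.map f) (f g) ∈ _
        rw [← map_conjBy]
        exact hmemS _ (hS.conj_mem A hA g)
      · rintro _ ⟨A, hA, rfl⟩ _ ⟨B, hB, rfl⟩
        show ⁅A.map f, B.map f⁆ = ⊥ ∨ Cfsg.IsRankOnePair (A.map f) (B.map f) ∨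
          Cfsg.RootCommutatorCase _ (A.map f) (B.map f)
        rcases hS.pair A hA B hB with h1 | h2 | h3
        · left
          rw [← Subgroup.map_commutator, h1, Subgroup.map_bot]
        · by_cases hne : A.map f = B.map f
          · left
            rw [← hne, eq_bot_iff, Subgroup.commutator_le]
            intro x hx y hy
            rw [Subgroup.mem_bot, commutatorElement_eq_one_iff_mul_comm]
            obtain ⟨a, ha, rfl⟩ := hx
            obtain ⟨a', ha', rfl⟩ := hy
            rw [← map_mul, ← map_mul, comm_of_mem hS hA a ha a' ha']
          · right; left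
            exact isRankOnePair_map h2 f hne
        · right; right
          refine ⟨?_, ?_, ?_, ?_⟩
          · rw [← Subgroup.map_commutator]
            exact hmemS _ h3.1
          · intro c hc x hx
            rw [← Subgroup.map_commutator] at hc
            rw [← Subgroup.map_sup] at hx
            obtain ⟨c₀, hc₀, rfl⟩ := hc
            obtain ⟨x₀, hx₀, rfl⟩ := hx
            rw [← map_mul, ← map_mul, h3.2.1 c₀ hc₀ x₀ hx₀]
          · intro y hy hy1
            obtain ⟨a, ha, rfl⟩ := hy
            have ha1 : a ≠ 1 := by
              rintro rfl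
              exact hy1 (map_one f)
            rw [← Subgroup.map_commutator, ← h3.2.2.1 a ha ha1, MonoidHom.map_closure,
              Subgroup.coe_map, Set.image_image, Set.image_image]
            congr 1
            apply Set.image_congr
            intro b _
            simp
          · intro y hy hy1
            obtain ⟨b, hb, rfl⟩ := hy
            have hb1 : b ≠ 1 := by
              rintro rfl
              exact hy1 (map_one f)
            rw [← Subgroup.map_commutator, ← h3.2.2.2 b hb hb1, MonoidHom.map_closure,
              Subgroup.coe_map, Set.image_image, Set.image_image]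
            congr 1
            apply Set.image_congr
            intro a _
            simp
    · have key : ∀ A B : Subgroup G, Relation.ReflTransGen (Cfsg.FAdj S) A B →
          Relation.ReflTransGen (Cfsg.FAdj ((fun A : Subgroup G => A.map f) '' S))
            (A.map f) (B.map f) := by
        intro A B hpath
        induction hpath with
        | refl => exact Relation.ReflTransGen.refl
        | @tail B' C' _ hbc ih =>
          by_cases hne : B'.map f = C'.map f
          · rw [← hne]; exact ih
          · exact ih.tail ⟨hmemS _ hbc.1, hmemS _ hbc.2.1, isRankOnePair_map hbc.2.2 f hne⟩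
      rintro _ ⟨A, hA, rfl⟩ _ ⟨B, hB, rfl⟩
      exact key A B (hc A hA B hB)

end Cfsg.Agent.S5035
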