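import Mathlib
import Cfsg.Statements.S5036
import Cfsg.Agent.Lib.Helper23.RootComm

set_option autoImplicit false
set_option linter.unusedSectionVars false
set_option linter.unusedVariables false
open Cfsg Cfsg.Agent.Lib.Helper5 Cfsg.Agent.Lib.Helper23
open scoped commutatorElement

namespace Cfsg.Agent.S5036

variable {G : Type*} [Group G]

/-- In the commutator case, for `b ≠ 1` the map `a ↦ a⁻¹ b⁻¹ a b` is onto `⁅A, B⁆`. -/
theorem surj_form {S : Set (Subgroup G)} {A B : Subgroup G}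
    (h : Cfsg.RootCommutatorCase S A B) {b : G} (hb : b ∈ B) (hb1 : b ≠ 1) {c : G}
    (hc : c ∈ ⁅A, B⁆) : ∃ a ∈ A, a⁻¹ * b⁻¹ * a * b = c := by
  have hc' : c⁻¹ ∈ ⁅B, A⁆ := by
    rw [Subgroup.commutator_comm]; exact Subgroup.inv_mem _ hc
  obtain ⟨a, ha, e⟩ := commMap_surj (commutatorCase_symm h) hb hb1 hc'
  refine ⟨a, ha, ?_⟩
  have : a⁻¹ * b⁻¹ * a * b = (b⁻¹ * a⁻¹ * b * a)⁻¹ := by group
  rw [this, e, inv_inv]

/-- elementwise commutation from the commutator case -/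
theorem comm_left {S : Set (Subgroup G)} {A B : Subgroup G}
    (h : Cfsg.RootCommutatorCase S A B) {c a : G} (hc : c ∈ ⁅A, B⁆) (ha : a ∈ A) :
    c * a = a * c := h.2.1 c hc a (Subgroup.mem_sup_left ha)

theorem comm_right {S : Set (Subgroup G)} {A B : Subgroup G}
    (h : Cfsg.RootCommutatorCase S A B) {c b : G} (hc : c ∈ ⁅A, B⁆) (hb : b ∈ B) :
    c * b = b * c := h.2.1 c hc b (Subgroup.mem_sup_right hb)

/-- In the commutator case, a non-identity element of `A` does not centralize `B`. -/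
theorem not_comm_of_ne_one {S : Set (Subgroup G)} (hS : Cfsg.IsRootSubgroupSet S) {A B : Subgroup G}
    (h : Cfsg.RootCommutatorCase S A B) {a : G} (ha : a ∈ A) (ha1 : a ≠ 1)
    (hcomm : ∀ b ∈ B, a * b = b * a) : False := by
  apply hS.ne_bot _ h.1
  rw [← h.2.2.1 a ha ha1, Subgroup.closure_eq_bot_iff]
  rintro _ ⟨b, hb, rfl⟩
  show a * b * a⁻¹ * b⁻¹ = 1
  rw [hcomm b hb]
  group

theorem not_comm_of_ne_one' {S : Set (Subgroup G)} (hS : Cfsg.IsRootSubgroupSet S) {A B : Subgroup G}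
    (h : Cfsg.RootCommutatorCase S A B) {b : G} (hb : b ∈ B) (hb1 : b ≠ 1)
    (hcomm : ∀ a ∈ A, a * b = b * a) : False := by
  apply hS.ne_bot _ h.1
  rw [← h.2.2.2 b hb hb1, Subgroup.closure_eq_bot_iff]
  rintro _ ⟨a, ha, rfl⟩
  show a * b * a⁻¹ * b⁻¹ = 1
  rw [hcomm a ha]
  group

theorem conjBy_inf (H K : Subgroup G) (g : G) :
    Cfsg.conjBy (H ⊓ K) g = Cfsg.conjBy H g ⊓ Cfsg.conjBy K g := by
  ext x
  simp only [mem_conjBy_iff, Subgroup.mem_inf]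

theorem conjBy_centralizer (U : Subgroup G) (g : G) :
    Cfsg.conjBy (Subgroup.centralizer (U : Set G)) g =
      Subgroup.centralizer ((Cfsg.conjBy U g : Subgroup G) : Set G) := by
  ext z
  rw [mem_conjBy_iff, Subgroup.mem_centralizer_iff, Subgroup.mem_centralizer_iff]
  constructor
  · intro h v hv
    have hv' : g⁻¹ * v * g ∈ U := (mem_conjBy_iff U g v).1 hv
    have := h _ hv'
    calc v * z = g * ((g⁻¹ * v * g) * (g⁻¹ * z * g)) * g⁻¹ := by group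
      _ = g * ((g⁻¹ * z * g) * (g⁻¹ * v * g)) * g⁻¹ := by rw [this]
      _ = z * v := by group
  · intro h u hu
    have hv : g * u * g⁻¹ ∈ Cfsg.conjBy U g := by
      rw [mem_conjBy_iff]
      have : g⁻¹ * (g * u * g⁻¹) * g = u := by group
      rw [this]; exact hu
    have := h _ hv
    calc u * (g⁻¹ * z * g) = g⁻¹ * ((g * u * g⁻¹) * z) * g := by group
      _ = g⁻¹ * (z * (g * u * g⁻¹)) * g := by rw [this]
      _ = g⁻¹ * z * g * u := by group

theorem conjBy_eq_of_forall_le {N H : Subgroup G} (h : ∀ g ∈ H, Cfsg.conjBy N g ≤ N) :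
    ∀ g ∈ H, Cfsg.conjBy N g = N := by
  intro g hg
  apply le_antisymm (h g hg)
  have h1 := conjBy_mono (h g⁻¹ (H.inv_mem hg)) g
  rwa [conjBy_conjBy, mul_inv_cancel, conjBy_one] at h1

theorem conjBy_sup (H K : Subgroup G) (g : G) :
    Cfsg.conjBy (H ⊔ K) g = Cfsg.conjBy H g ⊔ Cfsg.conjBy K g :=
  Subgroup.map_sup H K _

theorem conjBy_eq_bot_iff (U : Subgroup G) (g : G) : Cfsg.conjBy U g = ⊥ ↔ U = ⊥ := by
  constructor
  · intro h
    rw [eq_bot_iff]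
    intro z hz
    have : g * z * g⁻¹ ∈ Cfsg.conjBy U g := by
      rw [mem_conjBy_iff]
      have : g⁻¹ * (g * z * g⁻¹) * g = z := by group
      rw [this]; exact hz
    rw [h, Subgroup.mem_bot] at this
    rw [Subgroup.mem_bot]
    calc z = g⁻¹ * (g * z * g⁻¹) * g := by group
      _ = 1 := by rw [this]; group
  · rintro rfl
    rw [eq_bot_iff]
    intro z hz
    rw [mem_conjBy_iff, Subgroup.mem_bot] at hz
    rw [Subgroup.mem_bot]
    calc z = g * (g⁻¹ * z * g) * g⁻¹ := by group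
      _ = 1 := by rw [hz]; group

section main

variable {S : Set (Subgroup G)} (hS : Cfsg.IsRootSubgroupSet S)
  {A B D : Subgroup G} (hA : A ∈ S) (hB : B ∈ S) (hC : ⁅A, B⁆ ∈ S) (hD : D ∈ S)
  (hDC : ⁅D, ⁅A, B⁆⁆ = A)

include hS hA hB hC hD hDC

theorem h1 : Cfsg.RootCommutatorCase S A B := commutatorCase_of_mem hS hA hB hC

theorem h2 : Cfsg.RootCommutatorCase S D ⁅A, B⁆ :=
  commutatorCase_of_mem hS hD hC (by rw [hDC]; exact hA)

theorem commAC : ∀ a ∈ A, ∀ c ∈ ⁅A, B⁆, a * c = c * a := fun a ha c hc =>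
  (comm_left (h1 hS hA hB hC hD hDC) hc ha).symm

theorem commBC : ∀ b ∈ B, ∀ c ∈ ⁅A, B⁆, b * c = c * b := fun b hb c hc =>
  (comm_right (h1 hS hA hB hC hD hDC) hc hb).symm

theorem commAD : ∀ a ∈ A, ∀ d ∈ D, a * d = d * a := by
  intro a ha d hd
  have h := h2 hS hA hB hC hD hDC
  have ha' : a ∈ ⁅D, ⁅A, B⁆⁆ := by rw [hDC]; exact ha
  exact comm_left h ha' hd

theorem inf_eq_bot : A ⊓ ⁅A, B⁆ = ⊥ := by
  rw [eq_bot_iff]
  rintro x ⟨hxA, hxC⟩
  rw [Subgroup.mem_bot]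
  by_contra hx1
  exact not_comm_of_ne_one hS (h1 hS hA hB hC hD hDC) hxA hx1
    (fun b hb => (commBC hS hA hB hC hD hDC b hb x hxC).symm)

theorem commutator_BD_ne_bot : ⁅B, D⁆ ≠ ⊥ := by
  intro h
  have e1 : ⁅⁅⁅A, B⁆, B⁆, D⁆ = ⊥ := by
    have : ⁅⁅A, B⁆, B⁆ = ⊥ := by
      rw [Subgroup.commutator_eq_bot_iff_le_centralizer]
      intro c hc
      rw [Subgroup.mem_centralizer_iff]
      intro b hb
      exact commBC hS hA hB hC hD hDC b hb c hc
    rw [this]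
    exact Subgroup.commutator_bot_left D
  have e2 : ⁅⁅B, D⁆, ⁅A, B⁆⁆ = ⊥ := by
    rw [h]; exact Subgroup.commutator_bot_left _
  have := Subgroup.commutator_commutator_eq_bot_of_rotate e1 e2
  rw [hDC] at this
  exact hS.ne_bot _ hC this

/-- `B ⊔ D` normalizes `N = A ⊔ ⁅A, B⁆`. -/
theorem conjBy_N : ∀ x ∈ B ⊔ D, Cfsg.conjBy (A ⊔ ⁅A, B⁆) x = A ⊔ ⁅A, B⁆ := by
  have hB' : ∀ b ∈ B, Cfsg.conjBy (A ⊔ ⁅A, B⁆) b = A ⊔ ⁅A, B⁆ := by
    apply conjBy_eq_of_forall_le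
    intro b hb
    rw [conjBy_sup]
    apply sup_le
    · exact conjBy_le_sup_commutator hb
    · apply le_trans _ le_sup_right
      intro x hx
      rw [mem_conjBy_iff] at hx
      have e := commBC hS hA hB hC hD hDC b hb _ hx
      have : x = b * (b⁻¹ * x * b) * b⁻¹ := by group
      rw [this, e]
      have : b⁻¹ * x * b * b * b⁻¹ = b⁻¹ * x * b := by group
      rw [this]; exact hx
  have hD' : ∀ d ∈ D, Cfsg.conjBy (A ⊔ ⁅A, B⁆) d = A ⊔ ⁅A, B⁆ := by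
    apply conjBy_eq_of_forall_le
    intro d hd
    rw [conjBy_sup]
    apply sup_le
    · apply le_trans _ le_sup_left
      intro x hx
      rw [mem_conjBy_iff] at hx
      have e := commAD hS hA hB hC hD hDC _ hx d hd
      have : x = d * (d⁻¹ * x * d) * d⁻¹ := by group
      rw [this, ← e]
      have : d⁻¹ * x * d * d * d⁻¹ = d⁻¹ * x * d := by group
      rw [this]; exact hx
    · have := conjBy_le_sup_commutator (A := ⁅A, B⁆) (B := D) hd
      rw [Subgroup.commutator_comm ⁅A, B⁆ D, hDC, sup_comm] at this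
      exact this
  have hle : B ⊔ D ≤ Subgroup.normalizer ((A ⊔ ⁅A, B⁆ : Subgroup G) : Set G) := by
    apply sup_le
    · intro b hb; exact (conjBy_eq_self_iff _ b).1 (hB' b hb)
    · intro d hd; exact (conjBy_eq_self_iff _ d).1 (hD' d hd)
  intro x hx
  exact (conjBy_eq_self_iff _ x).2 (hle hx)

theorem cent_B : (A ⊔ ⁅A, B⁆) ⊓ Subgroup.centralizer (B : Set G) = ⁅A, B⁆ := by
  apply le_antisymm
  · rintro n ⟨hn, hnB⟩
    obtain ⟨a, ha, c, hc, rfl⟩ := mem_sup_of_commute (commAC hS hA hB hC hD hDC) hn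
    have ha1 : a = 1 := by
      by_contra ha1
      apply not_comm_of_ne_one hS (h1 hS hA hB hC hD hDC) ha ha1
      intro b hb
      have e1 := (Subgroup.mem_centralizer_iff.mp hnB) b hb
      have e2 := commBC hS hA hB hC hD hDC b hb c hc
      -- b * (a * c) = (a * c) * b
      calc a * b = (a * c * b) * c⁻¹ := by rw [mul_assoc a c b, ← e2]; group
        _ = (b * (a * c)) * c⁻¹ := by rw [← e1]
        _ = b * a := by group
    rw [ha1, one_mul]; exact hc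
  · intro c hc
    refine ⟨Subgroup.mem_sup_right hc, ?_⟩
    show c ∈ Subgroup.centralizer (B : Set G)
    rw [Subgroup.mem_centralizer_iff]
    intro b hb
    exact commBC hS hA hB hC hD hDC b hb c hc

theorem cent_D : (A ⊔ ⁅A, B⁆) ⊓ Subgroup.centralizer (D : Set G) = A := by
  apply le_antisymm
  · rintro n ⟨hn, hnD⟩
    obtain ⟨a, ha, c, hc, rfl⟩ := mem_sup_of_commute (commAC hS hA hB hC hD hDC) hn
    have hc1 : c = 1 := by
      by_contra hc1
      apply not_comm_of_ne_one' hS (h2 hS hA hB hC hD hDC) hc hc1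
      intro d hd
      have e1 := (Subgroup.mem_centralizer_iff.mp hnD) d hd
      have e2 := commAD hS hA hB hC hD hDC a ha d hd
      -- d * (a * c) = (a * c) * d
      calc d * c = a⁻¹ * ((a * d) * c) := by group
        _ = a⁻¹ * (d * (a * c)) := by rw [e2]; group
        _ = a⁻¹ * ((a * c) * d) := by rw [e1]
        _ = c * d := by group
    rw [hc1, mul_one]; exact ha
  · intro a ha
    refine ⟨Subgroup.mem_sup_left ha, ?_⟩
    show a ∈ Subgroup.centralizer (D : Set G)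
    rw [Subgroup.mem_centralizer_iff]
    intro d hd
    exact (commAD hS hA hB hC hD hDC a ha d hd).symm

theorem not_commCase : ¬ Cfsg.RootCommutatorCase S B D := by
  intro hE
  have hh1 := h1 hS hA hB hC hD hDC
  have hh2 := h2 hS hA hB hC hD hDC
  have hh2s : Cfsg.RootCommutatorCase S ⁅A, B⁆ D := commutatorCase_symm hh2
  have hCD : ⁅⁅A, B⁆, D⁆ = A := by rw [Subgroup.commutator_comm, hDC]
  obtain ⟨b, hb, hb1⟩ := exists_ne_one_of_ne_bot (hS.ne_bot B hB)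
  obtain ⟨d, hd, hd1⟩ := exists_ne_one_of_ne_bot (hS.ne_bot D hD)
  obtain ⟨a₀, ha₀, ha₀1⟩ := exists_ne_one_of_ne_bot (hS.ne_bot A hA)
  -- the chain of preimages
  obtain ⟨c', hc', hw⟩ := surj_form hh2s hd hd1 (c := a₀) (by rw [hCD]; exact ha₀)
  obtain ⟨u, hu, hc'e⟩ := surj_form hh1 hb hb1 hc'
  obtain ⟨c, hc, hue⟩ := surj_form hh2s hd hd1 (c := u) (by rw [hCD]; exact hu)
  -- e = b⁻¹ d⁻¹ b d is central in B ⊔ D
  obtain ⟨e, hedef⟩ : ∃ e : G, e = b⁻¹ * d⁻¹ * b * d := ⟨_, rfl⟩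
  have heE : e ∈ ⁅B, D⁆ := by
    rw [hedef]
    have := Subgroup.commutator_mem_commutator (B.inv_mem hb) (D.inv_mem hd)
    rwa [commutatorElement_def, inv_inv, inv_inv] at this
  have heX : e ∈ B ⊔ D := by
    have : ⁅B, D⁆ ≤ B ⊔ D := by
      rw [Subgroup.commutator_le]
      intro x hx y hy
      rw [commutatorElement_def]
      exact mul_mem (mul_mem (mul_mem (Subgroup.mem_sup_left hx) (Subgroup.mem_sup_right hy))
        (inv_mem (Subgroup.mem_sup_left hx))) (inv_mem (Subgroup.mem_sup_right hy))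
    exact this heE
  -- x = e⁻¹ c e lies in C
  have hxN : e⁻¹ * c * e ∈ A ⊔ ⁅A, B⁆ := by
    have h3 := conjBy_N hS hA hB hC hD hDC e⁻¹ (inv_mem heX)
    rw [← h3, mem_conjBy_iff]
    have : e⁻¹⁻¹ * (e⁻¹ * c * e) * e⁻¹ = c := by group
    rw [this]
    exact Subgroup.mem_sup_right hc
  have hxC : e⁻¹ * c * e ∈ ⁅A, B⁆ := by
    rw [← cent_B hS hA hB hC hD hDC]
    refine ⟨hxN, ?_⟩
    show e⁻¹ * c * e ∈ Subgroup.centralizer (B : Set G)
    rw [Subgroup.mem_centralizer_iff]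
    intro b' hb'
    have e1 : e * b' = b' * e := comm_left hE heE hb'
    have e2 := commBC hS hA hB hC hD hDC b' hb' c hc
    have e1' : b' * e⁻¹ = e⁻¹ * b' := by
      calc b' * e⁻¹ = e⁻¹ * (e * b') * e⁻¹ := by group
        _ = e⁻¹ * (b' * e) * e⁻¹ := by rw [e1]
        _ = e⁻¹ * b' := by group
    calc b' * (e⁻¹ * c * e) = (b' * e⁻¹) * c * e := by group
      _ = e⁻¹ * (b' * c) * e := by rw [e1']; group
      _ = e⁻¹ * (c * b') * e := by rw [e2]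
      _ = e⁻¹ * c * (b' * e) := by group
      _ = e⁻¹ * c * (e * b') := by rw [e1]
      _ = e⁻¹ * c * e * b' := by group
  -- explicit computation of x
  have hbc : b * c = c * b := commBC hS hA hB hC hD hDC b hb c hc
  have hud : u * d = d * u := commAD hS hA hB hC hD hDC u hu d hd
  have hwA : c'⁻¹ * d⁻¹ * c' * d ∈ A := by rw [hw]; exact ha₀
  have key : e⁻¹ * c * e = c * u * (c' * a₀)⁻¹ * u⁻¹ := by
    have s1 : b * c * b⁻¹ = c := by rw [hbc]; group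
    have s2 : d * c * d⁻¹ = c * u⁻¹ := by
      have : d * u * d⁻¹ = u := by rw [← hud]; group
      calc d * c * d⁻¹ = c * (d * (c⁻¹ * d⁻¹ * c * d) * d⁻¹)⁻¹ := by group
        _ = c * u⁻¹ := by rw [hue, this]
    have s3 : b⁻¹ * c * b = c := by
      calc b⁻¹ * c * b = b⁻¹ * (c * b) := by group
        _ = b⁻¹ * (b * c) := by rw [hbc]
        _ = c := by group
    have s4 : b⁻¹ * u * b = u * c' := by rw [← hc'e]; group
    have s5 : d⁻¹ * c * d = c * u := by rw [← hue]; group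
    have s6 : d⁻¹ * c' * d = c' * a₀ := by rw [← hw]; group
    have s7 : d⁻¹ * u * d = u := by
      calc d⁻¹ * u * d = d⁻¹ * (u * d) := by group
        _ = d⁻¹ * (d * u) := by rw [hud]
        _ = u := by group
    calc e⁻¹ * c * e = d⁻¹ * b⁻¹ * (d * (b * c * b⁻¹) * d⁻¹) * b * d := by rw [hedef]; group
      _ = d⁻¹ * b⁻¹ * (d * c * d⁻¹) * b * d := by rw [s1]
      _ = d⁻¹ * b⁻¹ * (c * u⁻¹) * b * d := by rw [s2]
      _ = d⁻¹ * ((b⁻¹ * c * b) * (b⁻¹ * u * b)⁻¹) * d := by group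
      _ = d⁻¹ * (c * (u * c')⁻¹) * d := by rw [s3, s4]
      _ = (d⁻¹ * c * d) * (d⁻¹ * c' * d)⁻¹ * (d⁻¹ * u * d)⁻¹ := by group
      _ = c * u * (c' * a₀)⁻¹ * u⁻¹ := by rw [s5, s6, s7]
  -- hence a₀ ∈ C
  have hcomm_u : ∀ k ∈ ⁅A, B⁆, u * k = k * u := fun k hk => commAC hS hA hB hC hD hDC u hu k hk
  have ha₀C : a₀ ∈ ⁅A, B⁆ := by
    -- a₀⁻¹ = c'⁻¹ ... rearrange
    have hx' := hxC
    rw [key] at hx'
    -- y := c⁻¹ * (c * u * (c' * a₀)⁻¹ * u⁻¹) ∈ C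
    have hy : u * (c' * a₀)⁻¹ * u⁻¹ ∈ ⁅A, B⁆ := by
      have := Subgroup.mul_mem _ (Subgroup.inv_mem _ hc) hx'
      have e3 : c⁻¹ * (c * u * (c' * a₀)⁻¹ * u⁻¹) = u * (c' * a₀)⁻¹ * u⁻¹ := by group
      rwa [e3] at this
    -- u commutes with it
    have hy2 : (c' * a₀)⁻¹ ∈ ⁅A, B⁆ := by
      have e4 := hcomm_u _ hy
      have e5 : (c' * a₀)⁻¹ = u⁻¹ * (u * (c' * a₀)⁻¹ * u⁻¹) * u := by group
      rw [e5]
      have e6 : u⁻¹ * (u * (c' * a₀)⁻¹ * u⁻¹) * u = u * (c' * a₀)⁻¹ * u⁻¹ := by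
        calc u⁻¹ * (u * (c' * a₀)⁻¹ * u⁻¹) * u
            = u⁻¹ * ((u * (c' * a₀)⁻¹ * u⁻¹) * u) := by group
          _ = u⁻¹ * (u * (u * (c' * a₀)⁻¹ * u⁻¹)) := by rw [e4]
          _ = u * (c' * a₀)⁻¹ * u⁻¹ := by group
      rw [e6]; exact hy
    have hy3 : c' * a₀ ∈ ⁅A, B⁆ := by
      have := Subgroup.inv_mem _ hy2
      rwa [inv_inv] at this
    have := Subgroup.mul_mem _ (Subgroup.inv_mem _ hc') hy3
    have e7 : c'⁻¹ * (c' * a₀) = a₀ := by group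
    rwa [e7] at this
  have : a₀ ∈ A ⊓ ⁅A, B⁆ := ⟨ha₀, ha₀C⟩
  rw [inf_eq_bot hS hA hB hC hD hDC, Subgroup.mem_bot] at this
  exact ha₀1 this

theorem rankOne : Cfsg.IsRankOnePair B D := by
  rcases hS.pair B hB D hD with h | h | h
  · exact absurd h (commutator_BD_ne_bot hS hA hB hC hD hDC)
  · exact h
  · exact absurd h (not_commCase hS hA hB hC hD hDC)

/-- `A^x = C_N(D^x)` for `x ∈ B ⊔ D`. -/
theorem conjBy_A_eq : ∀ x ∈ B ⊔ D, Cfsg.conjBy A x =
    (A ⊔ ⁅A, B⁆) ⊓ Subgroup.centralizer ((Cfsg.conjBy D x : Subgroup G) : Set G) := by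
  intro x hx
  conv_lhs => rw [← cent_D hS hA hB hC hD hDC]
  rw [conjBy_inf, conjBy_N hS hA hB hC hD hDC x hx, conjBy_centralizer]

/-- `C^x = C_N(B^x)` for `x ∈ B ⊔ D`. -/
theorem conjBy_C_eq : ∀ x ∈ B ⊔ D, Cfsg.conjBy ⁅A, B⁆ x =
    (A ⊔ ⁅A, B⁆) ⊓ Subgroup.centralizer ((Cfsg.conjBy B x : Subgroup G) : Set G) := by
  intro x hx
  conv_lhs => rw [← cent_B hS hA hB hC hD hDC]
  rw [conjBy_inf, conjBy_N hS hA hB hC hD hDC x hx, conjBy_centralizer]

theorem exists_x0 : ∃ x₀ ∈ B ⊔ D, B = Cfsg.conjBy D x₀ ∧ ⁅A, B⁆ = Cfsg.conjBy A x₀ := by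
  have hR := rankOne hS hA hB hC hD hDC
  obtain ⟨x₀, hx₀, e⟩ := right_eq_conjBy (Cfsg.RankOnePair_symm hR)
  rw [sup_comm] at hx₀
  refine ⟨x₀, hx₀, e, ?_⟩
  rw [conjBy_A_eq hS hA hB hC hD hDC x₀ hx₀, ← e, cent_B hS hA hB hC hD hDC]

theorem mem_unip_D : ∀ x ∈ B ⊔ D, Cfsg.conjBy D x ∈ Cfsg.unipotentSubgroups D B := by
  intro x hx
  exact ⟨x, by rw [sup_comm]; exact hx, rfl⟩

theorem mem_unip_B : ∀ x ∈ B ⊔ D, Cfsg.conjBy B x ∈ Cfsg.unipotentSubgroups D B := by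
  intro x hx
  obtain ⟨x₀, hx₀, e, -⟩ := exists_x0 hS hA hB hC hD hDC
  refine ⟨x * x₀, by rw [sup_comm]; exact mul_mem hx hx₀, ?_⟩
  conv_lhs => rw [e]
  rw [conjBy_conjBy]

theorem ne_AC : A ≠ ⁅A, B⁆ := by
  intro h
  have h1 := inf_eq_bot hS hA hB hC hD hDC
  rw [← h, inf_idem] at h1
  exact hS.ne_bot A hA h1

theorem orbit_eq : {E | ∃ x ∈ B ⊔ D, E = Cfsg.conjBy A x} =
    {E | ∃ x ∈ B ⊔ D, E = Cfsg.conjBy ⁅A, B⁆ x} := by
  obtain ⟨x₀, hx₀, -, e⟩ := exists_x0 hS hA hB hC hD hDC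
  ext E
  constructor
  · rintro ⟨x, hx, rfl⟩
    refine ⟨x * x₀⁻¹, mul_mem hx (inv_mem hx₀), ?_⟩
    rw [e, conjBy_conjBy]
    congr 1
    group
  · rintro ⟨x, hx, rfl⟩
    refine ⟨x * x₀, mul_mem hx hx₀, ?_⟩
    conv_lhs => rw [e]
    rw [conjBy_conjBy]

theorem orbit_eq_B : {E | ∃ x ∈ B ⊔ D, E = Cfsg.conjBy A x} =
    (fun b : G => Cfsg.conjBy A b) '' (B : Set G) ∪ {⁅A, B⁆} := by
  have hR := rankOne hS hA hB hC hD hDC
  obtain ⟨x₀, hx₀, e₀, e⟩ := exists_x0 hS hA hB hC hD hDC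
  ext E
  constructor
  · rintro ⟨x, hx, rfl⟩
    have hmem : Cfsg.conjBy D x ∈ Cfsg.unipotentSubgroups B D := by
      refine ⟨x * x₀⁻¹, mul_mem hx (inv_mem hx₀), ?_⟩
      rw [e₀, conjBy_conjBy]
      congr 1
      group
    rw [unipotentSubgroups_eq_omegaSet hR] at hmem
    rcases hmem with h | ⟨b, hb, h⟩
    · right
      rw [Set.mem_singleton_iff, conjBy_A_eq hS hA hB hC hD hDC x hx, h,
        cent_B hS hA hB hC hD hDC]
    · left
      refine ⟨b, hb, ?_⟩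
      show Cfsg.conjBy A b = Cfsg.conjBy A x
      rw [conjBy_A_eq hS hA hB hC hD hDC x hx, h,
        conjBy_A_eq hS hA hB hC hD hDC b (Subgroup.mem_sup_left hb)]
  · rintro (⟨b, hb, rfl⟩ | h)
    · exact ⟨b, Subgroup.mem_sup_left hb, rfl⟩
    · rw [Set.mem_singleton_iff] at h
      exact ⟨x₀, hx₀, by rw [h, e]⟩

theorem orbit_eq_D : {E | ∃ x ∈ B ⊔ D, E = Cfsg.conjBy A x} =
    (fun d : G => Cfsg.conjBy ⁅A, B⁆ d) '' (D : Set G) ∪ {A} := by
  have hR := rankOne hS hA hB hC hD hDC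
  obtain ⟨x₀, hx₀, e₀, e⟩ := exists_x0 hS hA hB hC hD hDC
  ext E
  constructor
  · rintro ⟨x, hx, rfl⟩
    have hmem := mem_unip_D hS hA hB hC hD hDC x hx
    rw [unipotentSubgroups_eq_omegaSet (Cfsg.RankOnePair_symm hR)] at hmem
    rcases hmem with h | ⟨d, hd, h⟩
    · right
      rw [Set.mem_singleton_iff, conjBy_A_eq hS hA hB hC hD hDC x hx, h,
        cent_D hS hA hB hC hD hDC]
    · left
      refine ⟨d, hd, ?_⟩
      show Cfsg.conjBy ⁅A, B⁆ d = Cfsg.conjBy A x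
      rw [conjBy_A_eq hS hA hB hC hD hDC x hx, h,
        conjBy_C_eq hS hA hB hC hD hDC d (Subgroup.mem_sup_right hd)]
  · rintro (⟨d, hd, rfl⟩ | h)
    · refine ⟨d * x₀, mul_mem (Subgroup.mem_sup_right hd) hx₀, ?_⟩
      show Cfsg.conjBy ⁅A, B⁆ d = Cfsg.conjBy A (d * x₀)
      conv_lhs => rw [e]
      rw [conjBy_conjBy]
    · rw [Set.mem_singleton_iff] at h
      exact ⟨1, one_mem _, by rw [h, conjBy_one]⟩

theorem partition : Cfsg.IsSubgroupPartition (A ⊔ ⁅A, B⁆)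
    {E | ∃ x ∈ B ⊔ D, E = Cfsg.conjBy A x} := by
  have hR := rankOne hS hA hB hC hD hDC
  have hh1 := h1 hS hA hB hC hD hDC
  refine ⟨?_, ?_, ?_⟩
  · rintro E ⟨x, hx, rfl⟩
    rw [conjBy_A_eq hS hA hB hC hD hDC x hx]
    exact inf_le_left
  · intro n hn hn1
    obtain ⟨a, ha, c, hc, rfl⟩ := mem_sup_of_commute (commAC hS hA hB hC hD hDC) hn
    by_cases ha1 : a = 1
    · refine ⟨⁅A, B⁆, ?_, ?_⟩
      · rw [orbit_eq_B hS hA hB hC hD hDC]; right; rfl
      · rw [ha1, one_mul]; exact hc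
    · obtain ⟨b, hb, hmem⟩ := exists_mem_conjBy_of_commCase hh1 ha ha1 hc
      exact ⟨Cfsg.conjBy A b, ⟨b, Subgroup.mem_sup_left hb, rfl⟩, hmem⟩
  · rintro U₁ ⟨x₁, hx₁, rfl⟩ U₂ ⟨x₂, hx₂, rfl⟩ hne
    have hneD : Cfsg.conjBy D x₁ ≠ Cfsg.conjBy D x₂ := by
      intro h
      apply hne
      rw [conjBy_A_eq hS hA hB hC hD hDC x₁ hx₁, conjBy_A_eq hS hA hB hC hD hDC x₂ hx₂, h]
    obtain ⟨y, hy, hy1, hy2⟩ := exists_conjBy_pair (Cfsg.RankOnePair_symm hR)
      (mem_unip_D hS hA hB hC hD hDC x₁ hx₁) (mem_unip_D hS hA hB hC hD hDC x₂ hx₂)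
      (left_mem_unipotentSubgroups D B) (right_mem_unipotentSubgroups (Cfsg.RankOnePair_symm hR))
      hneD hR.ne.symm
    rw [sup_comm] at hy
    rw [conjBy_conjBy] at hy1 hy2
    have e1 : Cfsg.conjBy (Cfsg.conjBy A x₁) y = A := by
      rw [conjBy_conjBy, conjBy_A_eq hS hA hB hC hD hDC _ (mul_mem hy hx₁), hy1,
        cent_D hS hA hB hC hD hDC]
    have e2 : Cfsg.conjBy (Cfsg.conjBy A x₂) y = ⁅A, B⁆ := by
      rw [conjBy_conjBy, conjBy_A_eq hS hA hB hC hD hDC _ (mul_mem hy hx₂), hy2,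
        cent_B hS hA hB hC hD hDC]
    rw [← conjBy_eq_bot_iff _ y, conjBy_inf, e1, e2]
    exact inf_eq_bot hS hA hB hC hD hDC

theorem central : ∀ k ∈ (B ⊔ D) ⊓ Subgroup.centralizer ((A ⊔ ⁅A, B⁆ : Subgroup G) : Set G),
    ∀ y ∈ B ⊔ D, k * y = y * k := by
  have hR := rankOne hS hA hB hC hD hDC
  have hh1 := h1 hS hA hB hC hD hDC
  have hh2 := h2 hS hA hB hC hD hDC
  rintro k ⟨hkX, hkN⟩
  have hkA : Cfsg.conjBy A k = A := by
    apply conjBy_of_mem_centralizer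
    exact Subgroup.centralizer_le (show (A : Set G) ⊆ ((A ⊔ ⁅A, B⁆ : Subgroup G) : Set G) from
      fun _ h => Subgroup.mem_sup_left h) hkN
  have hkC : Cfsg.conjBy ⁅A, B⁆ k = ⁅A, B⁆ := by
    apply conjBy_of_mem_centralizer
    exact Subgroup.centralizer_le (show ((⁅A, B⁆ : Subgroup G) : Set G) ⊆ ((A ⊔ ⁅A, B⁆ : Subgroup G) : Set G) from
      fun _ h => Subgroup.mem_sup_right h) hkN
  -- k normalizes D
  have hkD : Cfsg.conjBy D k = D := by
    by_contra hne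
    obtain ⟨y, hy, hy1, hy2⟩ := exists_conjBy_pair (Cfsg.RankOnePair_symm hR)
      (mem_unip_D hS hA hB hC hD hDC k hkX) (left_mem_unipotentSubgroups D B)
      (left_mem_unipotentSubgroups D B) (right_mem_unipotentSubgroups (Cfsg.RankOnePair_symm hR))
      hne hR.ne.symm
    rw [sup_comm] at hy
    rw [conjBy_conjBy] at hy1
    have e1 : Cfsg.conjBy A (y * k) = A := by
      rw [conjBy_A_eq hS hA hB hC hD hDC _ (mul_mem hy hkX), hy1, cent_D hS hA hB hC hD hDC]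
    have e2 : Cfsg.conjBy A y = ⁅A, B⁆ := by
      rw [conjBy_A_eq hS hA hB hC hD hDC _ hy, hy2, cent_B hS hA hB hC hD hDC]
    rw [← conjBy_conjBy, hkA, e2] at e1
    exact ne_AC hS hA hB hC hD hDC e1.symm
  -- k normalizes B
  have hkB : Cfsg.conjBy B k = B := by
    by_contra hne
    obtain ⟨y, hy, hy1, hy2⟩ := exists_conjBy_pair (Cfsg.RankOnePair_symm hR)
      (mem_unip_B hS hA hB hC hD hDC k hkX) (right_mem_unipotentSubgroups (Cfsg.RankOnePair_symm hR))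
      (left_mem_unipotentSubgroups D B) (right_mem_unipotentSubgroups (Cfsg.RankOnePair_symm hR))
      hne hR.ne.symm
    rw [sup_comm] at hy
    rw [conjBy_conjBy] at hy1
    have e1 : Cfsg.conjBy ⁅A, B⁆ (y * k) = A := by
      rw [conjBy_C_eq hS hA hB hC hD hDC _ (mul_mem hy hkX), hy1, cent_D hS hA hB hC hD hDC]
    have e2 : Cfsg.conjBy ⁅A, B⁆ y = ⁅A, B⁆ := by
      rw [conjBy_C_eq hS hA hB hC hD hDC _ hy, hy2, cent_B hS hA hB hC hD hDC]
    rw [← conjBy_conjBy, hkC, e2] at e1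
    exact ne_AC hS hA hB hC hD hDC e1.symm
  -- the centralizer of N is normalized by B ⊔ D
  have hcentN : ∀ x ∈ B ⊔ D, ∀ z ∈ Subgroup.centralizer ((A ⊔ ⁅A, B⁆ : Subgroup G) : Set G),
      x * z * x⁻¹ ∈ Subgroup.centralizer ((A ⊔ ⁅A, B⁆ : Subgroup G) : Set G) := by
    intro x hx z hz
    have h3 := conjBy_centralizer (A ⊔ ⁅A, B⁆) x
    rw [conjBy_N hS hA hB hC hD hDC x hx] at h3
    rw [← h3, mem_conjBy_iff]
    have : x⁻¹ * (x * z * x⁻¹) * x = z := by group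
    rw [this]; exact hz
  have hkb : ∀ b ∈ B, k * b = b * k := by
    intro b hb
    have ht1 : k * b * k⁻¹ * b⁻¹ ∈ B := by
      have : k * b * k⁻¹ ∈ B := by
        rw [← hkB, mem_conjBy_iff]
        have : k⁻¹ * (k * b * k⁻¹) * k = b := by group
        rw [this]; exact hb
      exact B.mul_mem this (B.inv_mem hb)
    have ht2 : k * b * k⁻¹ * b⁻¹ ∈ Subgroup.centralizer ((A ⊔ ⁅A, B⁆ : Subgroup G) : Set G) := by
      have h4 := hcentN b (Subgroup.mem_sup_left hb) k⁻¹ (Subgroup.inv_mem _ hkN)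
      have := Subgroup.mul_mem _ hkN h4
      have e : k * (b * k⁻¹ * b⁻¹) = k * b * k⁻¹ * b⁻¹ := by group
      rwa [e] at this
    have ht : k * b * k⁻¹ * b⁻¹ = 1 := by
      by_contra hne
      apply not_comm_of_ne_one' hS hh1 ht1 hne
      intro a ha
      exact (Subgroup.mem_centralizer_iff.mp ht2) a (Subgroup.mem_sup_left ha)
    calc k * b = (k * b * k⁻¹ * b⁻¹) * b * k := by group
      _ = b * k := by rw [ht, one_mul]
  have hkd : ∀ d ∈ D, k * d = d * k := by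
    intro d hd
    have ht1 : k * d * k⁻¹ * d⁻¹ ∈ D := by
      have : k * d * k⁻¹ ∈ D := by
        rw [← hkD, mem_conjBy_iff]
        have : k⁻¹ * (k * d * k⁻¹) * k = d := by group
        rw [this]; exact hd
      exact D.mul_mem this (D.inv_mem hd)
    have ht2 : k * d * k⁻¹ * d⁻¹ ∈ Subgroup.centralizer ((A ⊔ ⁅A, B⁆ : Subgroup G) : Set G) := by
      have h4 := hcentN d (Subgroup.mem_sup_right hd) k⁻¹ (Subgroup.inv_mem _ hkN)
      have := Subgroup.mul_mem _ hkN h4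
      have e : k * (d * k⁻¹ * d⁻¹) = k * d * k⁻¹ * d⁻¹ := by group
      rwa [e] at this
    have ht : k * d * k⁻¹ * d⁻¹ = 1 := by
      by_contra hne
      apply not_comm_of_ne_one hS hh2 ht1 hne
      intro c hc
      exact ((Subgroup.mem_centralizer_iff.mp ht2) c (Subgroup.mem_sup_right hc)).symm
    calc k * d = (k * d * k⁻¹ * d⁻¹) * d * k := by group
      _ = d * k := by rw [ht, one_mul]
  have hle : B ⊔ D ≤ Subgroup.centralizer ({k} : Set G) := by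
    apply sup_le
    · intro b hb
      rw [Subgroup.mem_centralizer_iff]
      intro m hm
      rw [Set.mem_singleton_iff.mp hm]; exact hkb b hb
    · intro d hd
      rw [Subgroup.mem_centralizer_iff]
      intro m hm
      rw [Set.mem_singleton_iff.mp hm]; exact hkd d hd
  intro y hy
  exact (Subgroup.mem_centralizer_iff.mp (hle hy)) k rfl

end main

/-- Let S be a set of abstract root subgroups of G, A, B ∈ S with C = ⁅A, B⁆ ∈ S, and D ∈ S with ⁅D, C⁆ = A. Put X = ⟨B, D⟩ and N = AC. Then B, D form a rank one pair; the conjugates of A under X are the conjugates of C under X, namely the conjugates of A by elements of B together with C, equally the conjugates of C by elements of D together with A, and they partition N; and the centralizer of N in X is central in X. -/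
theorem result {G : Type*} [Group G] {S : Set (Subgroup G)} (hS : Cfsg.IsRootSubgroupSet S)
    {A B D : Subgroup G} (hA : A ∈ S) (hB : B ∈ S) (hC : ⁅A, B⁆ ∈ S) (hD : D ∈ S) (hDC : ⁅D, ⁅A, B⁆⁆ = A) :
    Cfsg.IsRankOnePair B D ∧
    {E | ∃ x ∈ B ⊔ D, E = Cfsg.conjBy A x} = {E | ∃ x ∈ B ⊔ D, E = Cfsg.conjBy ⁅A, B⁆ x} ∧
    {E | ∃ x ∈ B ⊔ D, E = Cfsg.conjBy A x} = (fun b : G => Cfsg.conjBy A b) '' (B : Set G) ∪ {⁅A, B⁆} ∧
    {E | ∃ x ∈ B ⊔ D, E = Cfsg.conjBy A x} = (fun d : G => Cfsg.conjBy ⁅A, B⁆ d) '' (D : Set G) ∪ {A} ∧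
    Cfsg.IsSubgroupPartition (A ⊔ ⁅A, B⁆) {E | ∃ x ∈ B ⊔ D, E = Cfsg.conjBy A x} ∧
    ∀ x ∈ (B ⊔ D) ⊓ Subgroup.centralizer ((A ⊔ ⁅A, B⁆ : Subgroup G) : Set G), ∀ y ∈ B ⊔ D, x * y = y * x :=
  ⟨rankOne hS hA hB hC hD hDC, orbit_eq hS hA hB hC hD hDC, orbit_eq_B hS hA hB hC hD hDC,
    orbit_eq_D hS hA hB hC hD hDC, partition hS hA hB hC hD hDC, central hS hA hB hC hD hDC⟩

end Cfsg.Agent.S5036
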