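import Mathlib
import Cfsg.Statements.S5038
import Cfsg.Agent.Lib.Helper23.RootLine

set_option autoImplicit false
set_option linter.unusedVariables false
open Cfsg Cfsg.Agent.Lib.Helper5 Cfsg.Agent.Lib.Helper23 Cfsg.Agent.Lib.Helper23.RootLine
open Cfsg.Agent.S5030
open scoped commutatorElement

namespace Cfsg.Agent.S5038

/-- Let S be a set of abstract root subgroups of G in which every member has a rank one partner, A ∈ S and B a line partner of A. Then the subgroup generated by the members of S normalizing AB permutes the members of S inside AB doubly transitively by conjugation. -/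
theorem result {G : Type*} [Group G] {S : Set (Subgroup G)} (hS : Cfsg.IsRootSubgroupSet S)
    (hF : ∀ A ∈ S, ¬ Cfsg.IsIsolatedIn (Cfsg.FAdj S) S A) {A B : Subgroup G} (hA : A ∈ S) (hB : B ∈ Cfsg.linePartners S A) :
    ∀ C₁ ∈ Cfsg.membersIn S (A ⊔ B), ∀ C₂ ∈ Cfsg.membersIn S (A ⊔ B), ∀ D₁ ∈ Cfsg.membersIn S (A ⊔ B),
      ∀ D₂ ∈ Cfsg.membersIn S (A ⊔ B), C₁ ≠ C₂ → D₁ ≠ D₂ →
        ∃ x ∈ ⨆ E ∈ Cfsg.normalizingMembers S (A ⊔ B), E, Cfsg.conjBy C₁ x = D₁ ∧ Cfsg.conjBy C₂ x = D₂ := by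
  have hpartner : ∀ A ∈ S, ∃ D ∈ S, Cfsg.IsRankOnePair A D := fun A hA =>
    exists_rankOnePartner (hF A hA) hA
  have hNcomm := line_comm hS hA hB
  obtain ⟨E, K, hE, hK, hEA, hAE_eq, hAK, hKE, hmem, hreg⟩ :=
    exists_transitive_member hS hpartner hA hB
  have hKcomm := comm_of_mem hS hK
  have hEN : E ≤ A ⊔ B := by rw [← hAE_eq]; exact le_sup_right
  -- `A` is a line partner of `E`
  have hA' : A ∈ Cfsg.linePartners S E := by
    refine ⟨⟨hA, Ne.symm hEA, ?_⟩, ?_⟩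
    · apply commutator_eq_bot_of_comm
      intro x hx y hy
      exact hNcomm x (hEN hx) y (Subgroup.mem_sup_left hy)
    · rw [sup_comm, hAE_eq]; exact hB.2
  obtain ⟨E', K', hE', hK', hE'E, hEE'_eq, hEK', hK'E', hmem', hreg'⟩ :=
    exists_transitive_member hS hpartner hE hA'
  have hEA_eq : E ⊔ A = A ⊔ B := by rw [sup_comm, hAE_eq]
  rw [hEA_eq] at hmem' hEE'_eq
  have hE'N : E' ≤ A ⊔ B := by rw [← hEE'_eq]; exact le_sup_right
  obtain ⟨H, hHdef⟩ : ∃ H, H = ⨆ E ∈ Cfsg.normalizingMembers S (A ⊔ B), E := ⟨_, rfl⟩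
  rw [← hHdef]
  -- `K` and `K'` normalize the line
  have hKnorm : K ≤ Subgroup.normalizer ((A ⊔ B : Subgroup G) : Set G) := by
    apply mem_normalizer_of_conjBy_le
    intro k hk
    rw [← hAE_eq]
    show Subgroup.map _ _ ≤ _
    rw [Subgroup.map_sup]
    apply sup_le
    · have := conjBy_le_sup_commutator (A := A) (B := K) hk
      rw [hAK] at this
      exact this
    · have : Cfsg.conjBy E k = E := by
        apply conjBy_of_mem_centralizer
        rw [Subgroup.mem_centralizer_iff]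
        intro x hx
        exact (hKE k hk x hx).symm
      show Cfsg.conjBy E k ≤ _
      rw [this]; exact le_sup_right
  have hK'norm : K' ≤ Subgroup.normalizer ((A ⊔ B : Subgroup G) : Set G) := by
    apply mem_normalizer_of_conjBy_le
    intro k hk
    rw [← hEE'_eq]
    show Subgroup.map _ _ ≤ _
    rw [Subgroup.map_sup]
    apply sup_le
    · have := conjBy_le_sup_commutator (A := E) (B := K') hk
      rw [hEK'] at this
      exact this
    · have : Cfsg.conjBy E' k = E' := by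
        apply conjBy_of_mem_centralizer
        rw [Subgroup.mem_centralizer_iff]
        intro x hx
        exact (hK'E' k hk x hx).symm
      show Cfsg.conjBy E' k ≤ _
      rw [this]; exact le_sup_right
  have hKH : K ≤ H := by
    rw [hHdef]
    exact le_iSup₂_of_le K ⟨hK, hKnorm⟩ le_rfl
  have hK'H : K' ≤ H := by
    rw [hHdef]
    exact le_iSup₂_of_le K' ⟨hK', hK'norm⟩ le_rfl
  have hHnorm : H ≤ Subgroup.normalizer ((A ⊔ B : Subgroup G) : Set G) := by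
    rw [hHdef]
    exact iSup₂_le (fun E hE => hE.2)
  have hHmem : ∀ x ∈ H, ∀ M ∈ Cfsg.membersIn S (A ⊔ B), Cfsg.conjBy M x ∈ Cfsg.membersIn S (A ⊔ B) := by
    intro x hx M hM
    refine ⟨hS.conj_mem M hM.1 x, ?_⟩
    have h1 : Cfsg.conjBy (A ⊔ B) x = A ⊔ B := (conjBy_eq_self_iff _ x).2 (hHnorm hx)
    rw [← h1]
    exact conjBy_mono hM.2 x
  have hEmem : E ∈ Cfsg.membersIn S (A ⊔ B) := ⟨hE, hEN⟩
  have hE'mem : E' ∈ Cfsg.membersIn S (A ⊔ B) := ⟨hE', hE'N⟩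
  -- every member other than `E` is a `K`-conjugate of `A`
  have hform : ∀ M ∈ Cfsg.membersIn S (A ⊔ B), M ≠ E → ∃ k ∈ K, M = Cfsg.conjBy A k := by
    intro M hM hME
    rw [hmem] at hM
    rcases hM with ⟨k, hk, rfl⟩ | hM
    · exact ⟨k, hk, rfl⟩
    · exact absurd hM hME
  have hform' : ∀ M ∈ Cfsg.membersIn S (A ⊔ B), M ≠ E' → ∃ k ∈ K', M = Cfsg.conjBy E k := by
    intro M hM hME
    rw [hmem'] at hM
    rcases hM with ⟨k, hk, rfl⟩ | hM
    · exact ⟨k, hk, rfl⟩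
    · exact absurd hM hME
  -- step A: transitivity
  have stepA : ∀ M ∈ Cfsg.membersIn S (A ⊔ B), ∃ x ∈ H, Cfsg.conjBy M x = E := by
    intro M hM
    by_cases hME' : M = E'
    · obtain ⟨k₁, hk₁, hE'eq⟩ := hform E' hE'mem hE'E
      obtain ⟨k, hk, hk1⟩ := exists_ne_one_of_ne_bot (hS.ne_bot K hK)
      have hmoved : Cfsg.conjBy E' k ≠ E' := by
        intro hh
        rw [hE'eq, conjBy_conjBy, hKcomm k hk k₁ hk₁, ← conjBy_conjBy] at hh
        exact hk1 (hreg k hk (conjBy_injective k₁ hh))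
      have hmem2 := hHmem k (hKH hk) E' hE'mem
      obtain ⟨k', hk', e1⟩ := hform' _ hmem2 hmoved
      refine ⟨k'⁻¹ * k, H.mul_mem (H.inv_mem (hK'H hk')) (hKH hk), ?_⟩
      rw [hME', ← conjBy_conjBy, e1, conjBy_conjBy, inv_mul_cancel, conjBy_one]
    · obtain ⟨k', hk', e1⟩ := hform' M hM hME'
      refine ⟨k'⁻¹, H.inv_mem (hK'H hk'), ?_⟩
      rw [e1, conjBy_conjBy, inv_mul_cancel, conjBy_one]
  -- step B: the stabilizer of `E` is transitive on the rest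
  have stepB : ∀ M₁ ∈ Cfsg.membersIn S (A ⊔ B), ∀ M₂ ∈ Cfsg.membersIn S (A ⊔ B), M₁ ≠ E → M₂ ≠ E →
      ∃ k ∈ K, Cfsg.conjBy M₁ k = M₂ := by
    intro M₁ hM₁ M₂ hM₂ h1 h2
    obtain ⟨k₁, hk₁, rfl⟩ := hform M₁ hM₁ h1
    obtain ⟨k₂, hk₂, rfl⟩ := hform M₂ hM₂ h2
    refine ⟨k₂ * k₁⁻¹, K.mul_mem hk₂ (K.inv_mem hk₁), ?_⟩
    rw [conjBy_conjBy, inv_mul_cancel_right]
  have hKfix : ∀ k ∈ K, Cfsg.conjBy E k = E := by
    intro k hk
    apply conjBy_of_mem_centralizer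
    rw [Subgroup.mem_centralizer_iff]
    intro x hx
    exact (hKE k hk x hx).symm
  intro C₁ hC₁ C₂ hC₂ D₁ hD₁ D₂ hD₂ hC hD
  obtain ⟨x₁, hx₁, e1⟩ := stepA C₁ hC₁
  obtain ⟨y₁, hy₁, e2⟩ := stepA D₁ hD₁
  have hC₂' : Cfsg.conjBy C₂ x₁ ≠ E := by
    intro hh
    rw [← e1] at hh
    exact hC (conjBy_injective x₁ hh).symm
  have hD₂' : Cfsg.conjBy D₂ y₁ ≠ E := by
    intro hh
    rw [← e2] at hh
    exact hD (conjBy_injective y₁ hh).symm
  obtain ⟨k, hk, e3⟩ := stepB _ (hHmem x₁ hx₁ C₂ hC₂) _ (hHmem y₁ hy₁ D₂ hD₂) hC₂' hD₂'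
  refine ⟨y₁⁻¹ * (k * x₁), H.mul_mem (H.inv_mem hy₁) (H.mul_mem (hKH hk) hx₁), ?_, ?_⟩
  · rw [← conjBy_conjBy, ← conjBy_conjBy, e1, hKfix k hk, ← e2, conjBy_conjBy, inv_mul_cancel,
      conjBy_one]
  · rw [← conjBy_conjBy, ← conjBy_conjBy, e3, conjBy_conjBy, inv_mul_cancel, conjBy_one]

end Cfsg.Agent.S5038
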