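import Mathlib
import Cfsg.Statements.S5041
import Cfsg.Agent.S5034
import Cfsg.Agent.Lib.Helper23.RootGraph

set_option autoImplicit false
set_option linter.unusedVariables false
open Cfsg Cfsg.Agent.Lib.Helper5 Cfsg.Agent.Lib.Helper23 Cfsg.Agent.Lib.Helper23.RootLine
open Cfsg.Agent.Lib.Helper23.RootGraph
open scoped commutatorElement

namespace Cfsg.Agent.S5041

/-- the graph of line partners on a non-degenerate class is connected -/
theorem eConnected {G : Type*} [Group G] {S : Set (Subgroup G)} (hS : Cfsg.IsRootSubgroupClass S)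
    (hnd : Cfsg.IsNondegenerateRootSet S) : Cfsg.IsConnectedFamily (Cfsg.EAdj S S) S := by
  have hSc := hS
  obtain ⟨hS', hne, hconj⟩ := hS
  have hnd' := hnd
  obtain ⟨_, ⟨A₁, hA₁, B₁, hB₁, hA₁B₁⟩, _⟩ := hnd
  have hpartner : ∀ X ∈ S, ∃ D ∈ S, Cfsg.IsRankOnePair X D := by
    intro X hX
    obtain ⟨g, hg⟩ := hconj A₁ hA₁ X hX
    exact ⟨Cfsg.conjBy B₁ g, hS'.conj_mem B₁ hB₁ g, by rw [hg]; exact isRankOnePair_conjBy hA₁B₁ g⟩
  have hni : ∀ X ∈ S, ¬ Cfsg.IsIsolatedIn (Cfsg.FAdj S) S X := by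
    intro X hX
    obtain ⟨D, hD, hXD⟩ := hpartner X hX
    exact not_isolated_of_partner hX hD hXD
  have hsymm : ∀ X Y, Cfsg.EAdj S S X Y → Cfsg.EAdj S S Y X := fun X Y h =>
    ⟨h.2.1, h.1, linePartners_symm h.1 h.2.2⟩
  -- (i)
  have hΨ : ∀ A' ∈ S, ∀ F ∈ S, ⁅A', F⁆ ∈ S → Relation.ReflTransGen (Cfsg.EAdj S S) A' F := by
    intro A' hA' F hF hC
    have h1 : A' ∈ Cfsg.linePartners S ⁅A', F⁆ :=
      (Cfsg.Agent.S5029.result hS' (hni A' hA') hA' hF hC).2.2.1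
    have hC' : ⁅F, A'⁆ ∈ S := by rw [Subgroup.commutator_comm]; exact hC
    have h2 : F ∈ Cfsg.linePartners S ⁅F, A'⁆ :=
      (Cfsg.Agent.S5029.result hS' (hni F hF) hF hA' hC').2.2.1
    rw [Subgroup.commutator_comm F A'] at h2
    have e1 : Cfsg.EAdj S S ⁅A', F⁆ A' := ⟨hC, hA', h1⟩
    have e2 : Cfsg.EAdj S S ⁅A', F⁆ F := ⟨hC, hF, h2⟩
    exact Relation.ReflTransGen.head (hsymm _ _ e1) (Relation.ReflTransGen.single e2)
  -- (ii)
  have hΩ : ∀ A' ∈ S, ∀ B ∈ S, Cfsg.IsRankOnePair A' B →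
      Relation.ReflTransGen (Cfsg.EAdj S S) A' B := by
    intro A' hA' B hB hAB
    obtain ⟨⟨E, hE, hES, hBE⟩, _⟩ := Cfsg.Agent.S5034.result hSc hnd' hA' ⟨hB, hAB⟩
    have e1 : Cfsg.EAdj S S A' E := ⟨hA', hES, hE⟩
    have hEB : ⁅E, B⁆ ∈ S := by rw [Subgroup.commutator_comm]; exact hBE
    exact Relation.ReflTransGen.head e1 (hΨ E hES B hB hEB)
  apply connected_of_commute hS' hconj (fun X Y h => h.2.1) hsymm
  · intro X Y g h
    exact ⟨hS'.conj_mem X h.1 g, hS'.conj_mem Y h.2.1 g, linePartners_conjBy hS' h.2.2 g⟩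
  · intro X hX Y hY hno
    rcases hS'.pair X hX Y hY with h | h | h
    · exact h
    · exact absurd (hΩ X hX Y hY h) hno
    · exact absurd (hΨ X hX Y hY h.1) hno

/-- Let S be a non-degenerate class of abstract root subgroups of G. Then the graph on S joining A to its line partners, and the commuting graph on S, are both connected. -/
theorem result {G : Type*} [Group G] {S : Set (Subgroup G)} (hS : Cfsg.IsRootSubgroupClass S) (hnd : Cfsg.IsNondegenerateRootSet S) :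
    Cfsg.IsConnectedFamily (Cfsg.EAdj S S) S ∧ Cfsg.IsConnectedFamily (Cfsg.DAdj S) S := by
  have h := eConnected hS hnd
  refine ⟨h, ?_⟩
  intro A hA B hB
  have hmono : ∀ X Y, Cfsg.EAdj S S X Y → Cfsg.DAdj S X Y := fun X Y hXY =>
    ⟨hXY.1, hXY.2.1, Ne.symm hXY.2.2.1.2.1, hXY.2.2.1.2.2⟩
  have hgen : ∀ X Y, Relation.ReflTransGen (Cfsg.EAdj S S) X Y →
      Relation.ReflTransGen (Cfsg.DAdj S) X Y := by
    intro X Y hp
    induction hp with
    | refl => exact Relation.ReflTransGen.refl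
    | tail _ hbc ih => exact Relation.ReflTransGen.tail ih (hmono _ _ hbc)
  exact hgen A B (h A hA B hB)

end Cfsg.Agent.S5041
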