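import Mathlib
import Cfsg.Statements.S5042
import Cfsg.Agent.S5038
import Cfsg.Agent.S5041

set_option autoImplicit false
set_option linter.unusedVariables false
open Cfsg Cfsg.Agent.Lib.Helper5 Cfsg.Agent.Lib.Helper23 Cfsg.Agent.Lib.Helper23.RootLine
open Cfsg.Agent.Lib.Helper23.RootGraph Cfsg.Agent.S5030
open scoped commutatorElement

namespace Cfsg.Agent.S5042

variable {G : Type*} [Group G] {S : Set (Subgroup G)}

theorem partner_of_class (hS : Cfsg.IsRootSubgroupClass S) (hnd : Cfsg.IsNondegenerateRootSet S) :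
    ∀ X ∈ S, ∃ D ∈ S, Cfsg.IsRankOnePair X D := by
  obtain ⟨hS', hne, hconj⟩ := hS
  obtain ⟨_, ⟨A₁, hA₁, B₁, hB₁, hA₁B₁⟩, _⟩ := hnd
  intro X hX
  obtain ⟨g, hg⟩ := hconj A₁ hA₁ X hX
  exact ⟨Cfsg.conjBy B₁ g, hS'.conj_mem B₁ hB₁ g, by rw [hg]; exact isRankOnePair_conjBy hA₁B₁ g⟩

/-- in a non-degenerate class every member has a line partner -/
theorem exists_linePartner (hS : Cfsg.IsRootSubgroupClass S) (hnd : Cfsg.IsNondegenerateRootSet S)
    {A : Subgroup G} (hA : A ∈ S) : ∃ F, F ∈ Cfsg.linePartners S A := by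
  have hpartner := partner_of_class hS hnd
  obtain ⟨hS', hne, hconj⟩ := hS
  obtain ⟨_, _, ⟨A₀, hA₀, B₀, hB₀, hcc⟩⟩ := hnd
  have hK₀ := hcc.1
  obtain ⟨D₀, hD₀, hA₀D₀⟩ := hpartner A₀ hA₀
  have hline₀ : A₀ ∈ Cfsg.linePartners S ⁅A₀, B₀⁆ :=
    (Cfsg.Agent.S5029.result hS' (not_isolated_of_partner hA₀ hD₀ hA₀D₀) hA₀ hB₀ hK₀).2.2.1
  obtain ⟨g, hg⟩ := hconj _ hK₀ A hA
  exact ⟨Cfsg.conjBy A₀ g, by rw [hg]; exact linePartners_conjBy hS' hline₀ g⟩

/-- for every line partner `E` of `A` there is a line partner `D'` of `A` with `⁅E, D'⁆ = A` -/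
theorem exists_commutator_eq (hS : Cfsg.IsRootSubgroupClass S) (hnd : Cfsg.IsNondegenerateRootSet S)
    {A E : Subgroup G} (hA : A ∈ S) (hE : E ∈ Cfsg.linePartners S A) :
    ∃ D', D' ∈ Cfsg.linePartners S A ∧ ⁅E, D'⁆ = A := by
  have hpartner := partner_of_class hS hnd
  obtain ⟨hS', hne, hconj⟩ := hS
  have hF : ∀ A ∈ S, ¬ Cfsg.IsIsolatedIn (Cfsg.FAdj S) S A := by
    intro X hX
    obtain ⟨D, hD, hXD⟩ := hpartner X hX
    exact not_isolated_of_partner hX hD hXD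
  have hES : E ∈ S := hE.1.1
  have hA' : A ∈ Cfsg.linePartners S E := linePartners_symm hA hE
  obtain ⟨C₀, hC₀, hEC₀⟩ := hpartner E hES
  obtain ⟨M, K₀, hM, hK₀, hME, hsup, hEK₀, _, _, _, hK₀def⟩ :=
    exists_transitive_member_of hS' hpartner hES hA' hC₀ hEC₀
  have hMmem : M ∈ Cfsg.membersIn S (E ⊔ A) := ⟨hM, by rw [← hsup]; exact le_sup_right⟩
  have hEmem : E ∈ Cfsg.membersIn S (E ⊔ A) := ⟨hES, le_sup_left⟩
  have hAmem : A ∈ Cfsg.membersIn S (E ⊔ A) := ⟨hA, le_sup_right⟩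
  obtain ⟨x, _, hx1, hx2⟩ := Cfsg.Agent.S5038.result hS' hF hES hA' E hEmem M hMmem E hEmem A hAmem
    (Ne.symm hME) hE.1.2.1
  -- conjugate the configuration by `x`
  have hD'S : Cfsg.conjBy K₀ x ∈ S := hS'.conj_mem K₀ hK₀ x
  have hcomm : ⁅E, Cfsg.conjBy K₀ x⁆ = A := by
    have h1 : Cfsg.conjBy ⁅E, K₀⁆ x = ⁅Cfsg.conjBy E x, Cfsg.conjBy K₀ x⁆ :=
      Subgroup.map_commutator E K₀ _
    rw [hEK₀, hx2, hx1] at h1
    exact h1.symm
  have hD'eq : Cfsg.conjBy K₀ x = ⁅A, Cfsg.conjBy C₀ x⁆ := by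
    have h1 : Cfsg.conjBy ⁅M, C₀⁆ x = ⁅Cfsg.conjBy M x, Cfsg.conjBy C₀ x⁆ :=
      Subgroup.map_commutator M C₀ _
    rw [hx2, ← hK₀def] at h1
    exact h1
  refine ⟨Cfsg.conjBy K₀ x, ?_, hcomm⟩
  have hC'S : Cfsg.conjBy C₀ x ∈ S := hS'.conj_mem C₀ hC₀ x
  have hKS : ⁅A, Cfsg.conjBy C₀ x⁆ ∈ S := by rw [← hD'eq]; exact hD'S
  have h2 : A ∈ Cfsg.linePartners S ⁅A, Cfsg.conjBy C₀ x⁆ :=
    (Cfsg.Agent.S5029.result hS' (hF A hA) hA hC'S hKS).2.2.1
  rw [hD'eq]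
  exact linePartners_symm hKS h2

/-- Let S be a non-degenerate class of abstract root subgroups of G, A ∈ S and B a rank one partner of A. Then G is generated by the line partners of A together with B. -/
theorem result {G : Type*} [Group G] {S : Set (Subgroup G)} (hS : Cfsg.IsRootSubgroupClass S) (hnd : Cfsg.IsNondegenerateRootSet S)
    {A B : Subgroup G} (hA : A ∈ S) (hB : B ∈ Cfsg.rankOnePartners S A) :
    (⨆ C ∈ Cfsg.linePartners S A, C) ⊔ B = ⊤ := by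
  have hpartner := partner_of_class hS hnd
  have hSc := hS
  obtain ⟨hS', hne, hconj⟩ := hS
  obtain ⟨hBS, hAB⟩ := hB
  obtain ⟨H, hHdef⟩ : ∃ H, H = (⨆ C ∈ Cfsg.linePartners S A, C) ⊔ B := ⟨_, rfl⟩
  rw [← hHdef]
  have hΛH : ∀ F ∈ Cfsg.linePartners S A, F ≤ H := by
    intro F hF
    rw [hHdef]
    exact le_sup_of_le_left (le_iSup₂_of_le F hF le_rfl)
  have hBH : B ≤ H := by rw [hHdef]; exact le_sup_right
  -- `A ≤ H`
  obtain ⟨F₀, hF₀⟩ := exists_linePartner hSc hnd hA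
  have hAH : A ≤ H := by
    obtain ⟨D', hD', hc⟩ := exists_commutator_eq hSc hnd hA hF₀
    rw [← hc]
    exact commutator_le_of_le (hΛH F₀ hF₀) (hΛH D' hD')
  -- every line partner of `A` is an `H`-conjugate of `A`
  have hΛconj : ∀ F ∈ Cfsg.linePartners S A, ∃ h ∈ H, F = Cfsg.conjBy A h := by
    intro F hF
    obtain ⟨E, K, hE, hK, hEA, hsup, hAK, hKE, hmem, hreg, hKdef⟩ :=
      exists_transitive_member_of hS' hpartner hA hF hBS hAB
    have hNcomm := line_comm hS' hA hF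
    have hEN : E ≤ A ⊔ F := by rw [← hsup]; exact le_sup_right
    have hAEcomm : ∀ x ∈ A, ∀ y ∈ E, x * y = y * x := fun x hx y hy =>
      hNcomm x (Subgroup.mem_sup_left hx) y (hEN hy)
    have hEline : E ∈ Cfsg.linePartners S A := by
      refine ⟨⟨hE, hEA, commutator_eq_bot_of_comm hAEcomm⟩, ?_⟩
      rw [hsup]; exact hF.2
    have hKH : K ≤ H := by
      rw [hKdef]
      exact commutator_le_of_le (hΛH E hEline) hBH
    -- members of the line other than `E`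
    have hgood : ∀ M ∈ Cfsg.membersIn S (A ⊔ F), M ≠ E → ∃ h ∈ H, M = Cfsg.conjBy A h := by
      intro M hM hME
      rw [hmem] at hM
      rcases hM with ⟨k, hk, rfl⟩ | hM
      · exact ⟨k, hKH hk, rfl⟩
      · exact absurd hM hME
    by_cases hFE : F = E
    swap
    · exact hgood F ⟨hF.1.1, le_sup_right⟩ hFE
    · rw [hFE]
      obtain ⟨D', hD', hc⟩ := exists_commutator_eq hSc hnd hA hEline
      have hD'S : D' ∈ S := hD'.1.1
      have hAS' : ⁅E, D'⁆ ∈ S := by rw [hc]; exact hA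
      have hcc : Cfsg.RootCommutatorCase S E D' := commutatorCase_of_mem hS' hE hD'S hAS'
      obtain ⟨d, hd, hd1⟩ := exists_ne_one_of_ne_bot (hS'.ne_bot D' hD'S)
      obtain ⟨DE, hDE, hEDE⟩ := hpartner E hE
      have hmoved : Cfsg.conjBy E d ≠ E := fun hh =>
        hd1 (eq_one_of_conjBy_eq_self hS' hDE hEDE hcc hd hh)
      have hle : Cfsg.conjBy E d ≤ A ⊔ F := by
        have := conjBy_le_sup_commutator (A := E) (B := D') hd
        rw [hc] at this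
        refine le_trans this (sup_le hEN le_sup_left)
      obtain ⟨h, hh, e1⟩ := hgood _ ⟨hS'.conj_mem E hE d, hle⟩ hmoved
      refine ⟨d⁻¹ * h, H.mul_mem (H.inv_mem (hΛH D' hD' hd)) hh, ?_⟩
      rw [← conjBy_conjBy, ← e1, conjBy_conjBy, inv_mul_cancel, conjBy_one]
  -- every member of `S` is an `H`-conjugate of `A`
  have hall : ∀ D ∈ S, ∃ h ∈ H, D = Cfsg.conjBy A h := by
    intro D hD
    have hpath := (Cfsg.Agent.S5041.eConnected hSc hnd) A hA D hD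
    induction hpath with
    | refl => exact ⟨1, H.one_mem, (conjBy_one A).symm⟩
    | tail _ hbc ih =>
      obtain ⟨h, hh, e1⟩ := ih hbc.1
      -- the new member is a line partner of `conjBy A h`
      have h2 := hbc.2.2
      rw [e1] at h2
      have h3 := linePartners_conjBy hS' h2 h⁻¹
      rw [conjBy_conjBy, inv_mul_cancel, conjBy_one] at h3
      obtain ⟨h', hh', e2⟩ := hΛconj _ h3
      refine ⟨h * h', H.mul_mem hh hh', ?_⟩
      rw [← conjBy_conjBy, ← e2, conjBy_conjBy, mul_inv_cancel, conjBy_one]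
  rw [eq_top_iff, ← hS'.generates]
  apply iSup₂_le
  intro D hD
  obtain ⟨h, hh, e1⟩ := hall D hD
  rw [e1]
  exact conjBy_le_of_mem hAH hh

end Cfsg.Agent.S5042
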