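import Mathlib
import Cfsg.Statements.S5040
import Cfsg.Agent.S5036
import Cfsg.Agent.S5042

set_option autoImplicit false
set_option linter.unusedVariables false
open Cfsg Cfsg.Agent.Lib.Helper5 Cfsg.Agent.Lib.Helper23 Cfsg.Agent.Lib.Helper23.RootLine
open Cfsg.Agent.Lib.Helper23.RootGraph Cfsg.Agent.S5030
open scoped commutatorElement

namespace Cfsg.Agent.S5040

variable {G : Type*} [Group G] {S : Set (Subgroup G)}

/-- the setwise stabilizer of a family of subgroups under conjugation -/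
def stab (Δ : Set (Subgroup G)) : Subgroup G where
  carrier := {g | (fun A => Cfsg.conjBy A g) '' Δ = Δ}
  mul_mem' := by
    intro g h hg hh
    show (fun A => Cfsg.conjBy A (g * h)) '' Δ = Δ
    have : (fun A : Subgroup G => Cfsg.conjBy A (g * h)) =
        (fun A => Cfsg.conjBy A g) ∘ (fun A => Cfsg.conjBy A h) := by
      funext A
      simp only [Function.comp, conjBy_conjBy]
    rw [this, Set.image_comp]
    have hg' : (fun A => Cfsg.conjBy A g) '' Δ = Δ := hg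
    have hh' : (fun A => Cfsg.conjBy A h) '' Δ = Δ := hh
    rw [hh', hg']
  one_mem' := by
    show (fun A => Cfsg.conjBy A 1) '' Δ = Δ
    simp only [conjBy_one, Set.image_id']
  inv_mem' := by
    intro g hg
    show (fun A => Cfsg.conjBy A g⁻¹) '' Δ = Δ
    have hg' : (fun A => Cfsg.conjBy A g) '' Δ = Δ := hg
    have h1 : (fun A => Cfsg.conjBy A g⁻¹) '' ((fun A => Cfsg.conjBy A g) '' Δ) = Δ := by
      rw [← Set.image_comp]
      have : ((fun A : Subgroup G => Cfsg.conjBy A g⁻¹) ∘ fun A => Cfsg.conjBy A g) = id := by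
        funext A
        simp only [Function.comp, conjBy_conjBy, inv_mul_cancel, conjBy_one, id]
      rw [this, Set.image_id]
    rw [hg'] at h1
    exact h1

theorem mem_stab {Δ : Set (Subgroup G)} {g : G} :
    g ∈ stab Δ ↔ (fun A => Cfsg.conjBy A g) '' Δ = Δ := Iff.rfl

theorem conjBy_mem_of_mem_stab {Δ : Set (Subgroup G)} {g : G} (hg : g ∈ stab Δ) {A : Subgroup G}
    (hA : A ∈ Δ) : Cfsg.conjBy A g ∈ Δ := by
  have := mem_stab.mp hg
  rw [← this]
  exact ⟨A, hA, rfl⟩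

/-- an element of a member of `S` moving some member of `Δ` into `Δ` stabilizes `Δ` -/
theorem mem_stab_of_conjBy_mem {Δ : Set (Subgroup G)} (hΔ : Cfsg.IsWeakTISubset S Δ) {d : G}
    (hd : d ∈ Cfsg.rootElements S) {A : Subgroup G} (hA : A ∈ Δ) (hAd : Cfsg.conjBy A d ∈ Δ) :
    d ∈ stab Δ := by
  rcases hΔ.2.2.2 d hd with h | h
  · exact h
  · exfalso
    exact Set.disjoint_left.mp h ⟨A, hA, rfl⟩ hAd

/-- members of `S` commuting with a member of `Δ` stabilize `Δ` -/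
theorem le_stab_of_comm {Δ : Set (Subgroup G)} (hΔ : Cfsg.IsWeakTISubset S Δ) {A D : Subgroup G}
    (hA : A ∈ Δ) (hD : D ∈ S) (hcomm : ∀ x ∈ D, ∀ y ∈ A, x * y = y * x) : D ≤ stab Δ := by
  intro d hd
  by_cases hd1 : d = 1
  · rw [hd1]; exact Subgroup.one_mem _
  · apply mem_stab_of_conjBy_mem hΔ ⟨hd1, D, hD, hd⟩ hA
    have : Cfsg.conjBy A d = A := by
      apply conjBy_of_mem_centralizer
      rw [Subgroup.mem_centralizer_iff]
      intro y hy
      exact (hcomm d hd y hy).symm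
    rw [this]; exact hA

/-- no rank one pair inside a weak TI-subset -/
theorem no_rankOne (hS : Cfsg.IsRootSubgroupClass S) (hnd : Cfsg.IsNondegenerateRootSet S)
    {Δ : Set (Subgroup G)} (hΔ : Cfsg.IsWeakTISubset S Δ) {A B : Subgroup G} (hA : A ∈ Δ)
    (hB : B ∈ Δ) : ¬ Cfsg.IsRankOnePair A B := by
  intro hAB
  have hAS := hΔ.1 hA
  have hBS := hΔ.1 hB
  have hS' := hS.1
  have hAc := comm_of_mem hS' hAS
  have hBc := comm_of_mem hS' hBS
  have htop : stab Δ = ⊤ := by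
    rw [eq_top_iff, ← Cfsg.Agent.S5042.result hS hnd hAS ⟨hBS, hAB⟩]
    apply sup_le
    · apply iSup₂_le
      intro C hC
      apply le_stab_of_comm hΔ hA hC.1.1
      intro x hx y hy
      exact (comm_of_commutator_eq_bot hC.1.2.2 hy hx).symm
    · exact le_stab_of_comm hΔ hB hBS hBc
  apply hΔ.2.2.1
  apply Set.Subset.antisymm hΔ.1
  intro D hD
  obtain ⟨g, hg⟩ := hS.2.2 A hAS D hD
  rw [hg]
  exact conjBy_mem_of_mem_stab (by rw [htop]; exact Subgroup.mem_top g) hA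

/-- no commutator case pair inside a weak TI-subset -/
theorem no_commCase (hS : Cfsg.IsRootSubgroupClass S) (hnd : Cfsg.IsNondegenerateRootSet S)
    {Δ : Set (Subgroup G)} (hΔ : Cfsg.IsWeakTISubset S Δ) {A B : Subgroup G} (hA : A ∈ Δ)
    (hB : B ∈ Δ) : ⁅A, B⁆ ∉ S := by
  intro hC
  have hpartner := Cfsg.Agent.S5042.partner_of_class hS hnd
  have hAS := hΔ.1 hA
  have hBS := hΔ.1 hB
  have hS' := hS.1
  have hAc := comm_of_mem hS' hAS
  have hBc := comm_of_mem hS' hBS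
  have hAN : A ≤ stab Δ := le_stab_of_comm hΔ hA hAS hAc
  have hBN : B ≤ stab Δ := le_stab_of_comm hΔ hB hBS hBc
  obtain ⟨DA, hDA, hADA⟩ := hpartner A hAS
  obtain ⟨hmem, _, hAline, _⟩ :=
    Cfsg.Agent.S5029.result hS' (not_isolated_of_partner hAS hDA hADA) hAS hBS hC
  obtain ⟨D, hD, hCD⟩ := hpartner _ hC
  obtain ⟨E', K', hE', hK', hE'C, hsup, hCK', hK'E', _, _, _⟩ :=
    exists_transitive_member_of hS' hpartner hC hAline hD hCD
  -- `E'` is a `B`-conjugate of `A`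
  have hE'mem : E' ∈ Cfsg.membersIn S (A ⊔ ⁅A, B⁆) := by
    refine ⟨hE', ?_⟩
    rw [sup_comm, ← hsup]; exact le_sup_right
  rw [hmem] at hE'mem
  rcases hE'mem with ⟨b₀, hb₀, rfl⟩ | hh
  swap
  · exact hE'C hh
  have hb₀' : b₀ ∈ B := hb₀
  have hE'Δ : Cfsg.conjBy A b₀ ∈ Δ := conjBy_mem_of_mem_stab (hBN hb₀') hA
  have hK'N : K' ≤ stab Δ := le_stab_of_comm hΔ hE'Δ hK' hK'E'
  -- the configuration of S5036
  have hcomm_eq : ⁅Cfsg.conjBy A b₀, B⁆ = ⁅A, B⁆ := by
    have h1 : Cfsg.conjBy ⁅A, B⁆ b₀ = ⁅Cfsg.conjBy A b₀, Cfsg.conjBy B b₀⁆ :=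
      Subgroup.map_commutator A B _
    rw [conjBy_commutator_of_mem_right hb₀', conjBy_of_mem hb₀'] at h1
    exact h1.symm
  have hC' : ⁅Cfsg.conjBy A b₀, B⁆ ∈ S := by rw [hcomm_eq]; exact hC
  have hDC : ⁅K', ⁅Cfsg.conjBy A b₀, B⁆⁆ = Cfsg.conjBy A b₀ := by
    rw [hcomm_eq, Subgroup.commutator_comm]; exact hCK'
  obtain ⟨hBK', _⟩ := Cfsg.Agent.S5036.result hS' hE' hBS hC' hK' hDC
  obtain ⟨x, hx, hxeq⟩ := right_eq_conjBy hBK'
  have hxN : x ∈ stab Δ := (sup_le hBN hK'N) hx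
  have hK'Δ : K' ∈ Δ := by rw [hxeq]; exact conjBy_mem_of_mem_stab hxN hB
  exact no_rankOne hS hnd hΔ hB hK'Δ hBK'

/-- Let S be a non-degenerate class of abstract root subgroups of G and Δ a weak TI-subset of S. Then the members of Δ commute with one another elementwise. -/
theorem result {G : Type*} [Group G] {S : Set (Subgroup G)} (hS : Cfsg.IsRootSubgroupClass S) (hnd : Cfsg.IsNondegenerateRootSet S)
    {Δ : Set (Subgroup G)} (hΔ : Cfsg.IsWeakTISubset S Δ) : Cfsg.IsAbelianFamily Δ := by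
  intro A hA B hB a ha b hb
  rcases hS.1.pair A (hΔ.1 hA) B (hΔ.1 hB) with h | h | h
  · exact comm_of_commutator_eq_bot h ha hb
  · exact absurd h (no_rankOne hS hnd hΔ hA hB)
  · exact absurd h.1 (no_commCase hS hnd hΔ hA hB)

end Cfsg.Agent.S5040
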