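import Cfsg.Statements.S5045
import Cfsg.Agent.Lib.Helper23.RootInv

set_option autoImplicit false
open Cfsg

namespace Cfsg.Agent.S5045

open Cfsg.Agent.Lib.Helper23.RootInv

variable {G : Type*} [Group G]

theorem isolated_conj {D : Set G} (hD : Cfsg.IsRootInvolutionSet D) {w : G}
    (hw : Cfsg.IsIsolatedElem (Cfsg.OddAdj D) D w) (g : G) :
    Cfsg.IsIsolatedElem (Cfsg.OddAdj D) D (g * w * g⁻¹) := by
  refine ⟨hD.conj_mem w hw.1 g, fun b => ?_⟩
  have key : ∀ b, ¬ Cfsg.OddAdj D (g * w * g⁻¹) b := by
    intro b hadj
    have h1 := oddAdj_conj hD hadj g⁻¹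
    have e : g⁻¹ * (g * w * g⁻¹) * g⁻¹⁻¹ = w := by group
    rw [e] at h1
    exact (hw.2 _).1 h1
  exact ⟨key b, fun h => key b (oddAdj_symm h)⟩

theorem pow_four_of_isolated {D : Set G} (hD : Cfsg.IsRootInvolutionSet D) {x y : G}
    (hx : Cfsg.IsIsolatedElem (Cfsg.OddAdj D) D x) (hy : y ∈ D) : (x * y) ^ 4 = 1 := by
  have hxx := mul_self_of_mem hD hx.1
  have hyy := mul_self_of_mem hD hy
  rcases hD.pair x hx.1 y hy with h | h | h
  · have : (x * y) ^ 2 = 1 := by
      rw [pow_two]
      calc x * y * (x * y) = x * (y * x) * y := by group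
        _ = x * (x * y) * y := by rw [h]
        _ = (x * x) * (y * y) := by group
        _ = 1 := by rw [hxx, hyy, one_mul]
    rw [show 4 = 2 * 2 from rfl, pow_mul, this, one_pow]
  · by_cases hxy : x = y
    · rw [hxy, hyy, one_pow]
    · exact ((hx.2 y).1 ⟨hx.1, hy, hxy, h⟩).elim
  · rw [← h.1]; exact pow_orderOf_eq_one _

/-- Let G be a finite group generated by a set D of root involutions, and W the set of members of D whose product with every other member of D has even order or is trivial (the isolated vertices of the odd-order-product graph on D). Then W is conjugation-invariant and generates a normal 2-subgroup of G meeting D in exactly W; the commutator of two members of D lying in different connected components of that graph, each with more than one member, lies in the subgroup generated by W; and for a in such a component, every member of D commuting with a, different from a and with product with a in D, lies in that component or in W. -/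
theorem result {G : Type*} [Group G] [Finite G] {D : Set G} (hD : Cfsg.IsRootInvolutionSet D) :
    (∀ w ∈ {w | Cfsg.IsIsolatedElem (Cfsg.OddAdj D) D w}, ∀ g : G, g * w * g⁻¹ ∈ {w | Cfsg.IsIsolatedElem (Cfsg.OddAdj D) D w}) ∧
    (Subgroup.closure {w | Cfsg.IsIsolatedElem (Cfsg.OddAdj D) D w}).Normal ∧
    IsPGroup 2 ↥(Subgroup.closure {w | Cfsg.IsIsolatedElem (Cfsg.OddAdj D) D w}) ∧
    (Subgroup.closure {w | Cfsg.IsIsolatedElem (Cfsg.OddAdj D) D w} : Set G) ∩ D = {w | Cfsg.IsIsolatedElem (Cfsg.OddAdj D) D w} ∧
    (∀ a ∈ D, ∀ b ∈ D, (∃ a' ∈ Cfsg.elemComponentOf (Cfsg.OddAdj D) D a, a' ≠ a) →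
      (∃ b' ∈ Cfsg.elemComponentOf (Cfsg.OddAdj D) D b, b' ≠ b) →
      Cfsg.elemComponentOf (Cfsg.OddAdj D) D a ≠ Cfsg.elemComponentOf (Cfsg.OddAdj D) D b →
        a * b * a⁻¹ * b⁻¹ ∈ Subgroup.closure {w | Cfsg.IsIsolatedElem (Cfsg.OddAdj D) D w}) ∧
    (∀ a ∈ D, (∃ a' ∈ Cfsg.elemComponentOf (Cfsg.OddAdj D) D a, a' ≠ a) →
      Cfsg.productPartners D a ⊆ Cfsg.elemComponentOf (Cfsg.OddAdj D) D a ∪ {w | Cfsg.IsIsolatedElem (Cfsg.OddAdj D) D w}) := by
  obtain ⟨W, hW⟩ : ∃ W, W = {w | Cfsg.IsIsolatedElem (Cfsg.OddAdj D) D w} := ⟨_, rfl⟩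
  rw [← hW]
  have hconj : ∀ g x, x ∈ W → g * x * g⁻¹ ∈ W := by
    intro g x hx
    rw [hW] at hx ⊢
    exact isolated_conj hD hx g
  have hWD : W ⊆ D := by
    intro w hw
    rw [hW] at hw
    exact hw.1
  have hpair : ∀ x ∈ W, ∀ y ∈ W, IsPGroup 2 (Subgroup.closure ({x, y} : Set G)) := by
    intro x hx y hy
    rw [hW] at hx
    exact isPGroup_closure_pair (mul_self_of_mem hD hx.1) (mul_self_of_mem hD (hWD hy))
      (pow_four_of_isolated hD hx (hWD hy))
  haveI : Fact (Nat.Prime 2) := ⟨Nat.prime_two⟩
  obtain ⟨hnormal, hp⟩ := Cfsg.Agent.Lib.Lead.baer_suzuki_closure W hconj hpair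
  have h6 : ∀ a ∈ D, (∃ a' ∈ Cfsg.elemComponentOf (Cfsg.OddAdj D) D a, a' ≠ a) →
      Cfsg.productPartners D a ⊆ Cfsg.elemComponentOf (Cfsg.OddAdj D) D a ∪ W := by
    intro a ha hcomp
    rw [hW]
    exact productPartners_subset hD ha hcomp
  refine ⟨fun w hw g => hconj g w hw, hnormal, hp, ?_, ?_, h6⟩
  · -- closure W ∩ D = W
    apply Set.Subset.antisymm
    · rintro d ⟨hdW, hdD⟩
      rw [hW]
      refine ⟨hdD, fun e => ?_⟩
      have key : ∀ e, ¬ Cfsg.OddAdj D d e := by
        rintro e ⟨_, heD, hne, hodd⟩
        have hee := mul_self_of_mem hD heD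
        have hdd := mul_self_of_mem hD hdD
        have hmem : (d * e) ^ 2 ∈ Subgroup.closure W := by
          have h1 : e * d * e⁻¹ ∈ Subgroup.closure W := hnormal.conj_mem d hdW e
          have h2 : (d * e) ^ 2 = d * (e * d * e⁻¹) := by
            rw [inv_eq_of_mem hD heD, pow_two]; group
          rw [h2]
          exact Subgroup.mul_mem _ hdW h1
        obtain ⟨k, hk⟩ := hp ⟨(d * e) ^ 2, hmem⟩
        have hk' : ((d * e) ^ 2) ^ (2 ^ k) = 1 := by
          have := congrArg Subtype.val hk
          simpa using this
        rw [← pow_mul] at hk'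
        have h3 : orderOf (d * e) ∣ 2 * 2 ^ k := orderOf_dvd_of_pow_eq_one hk'
        have h4 : orderOf (d * e) ∣ 2 ^ k := odd_dvd_of_dvd_two_mul hodd h3
        have h5 : orderOf (d * e) ∣ 1 := by
          clear hk hk' h3
          induction k with
          | zero => simpa using h4
          | succ n ih =>
            apply ih
            rw [pow_succ, mul_comm] at h4
            exact odd_dvd_of_dvd_two_mul hodd h4
        exact orderOf_mul_ne_one hD heD hne (Nat.dvd_one.mp h5)
      exact ⟨key e, fun h => key e (oddAdj_symm h)⟩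
    · intro w hw
      exact ⟨Subgroup.subset_closure hw, hWD hw⟩
  · -- commutators of different components
    intro a ha b hb hca hcb hne
    have haa := mul_self_of_mem hD ha
    have hbb := mul_self_of_mem hD hb
    have hcomm : a * b * a⁻¹ * b⁻¹ = (a * b) * (a * b) := by
      rw [inv_eq_of_mem hD ha, inv_eq_of_mem hD hb]; group
    rw [hcomm]
    rcases hD.pair a ha b hb with h | h | h
    · have : a * b * (a * b) = 1 := by
        calc a * b * (a * b) = a * (b * a) * b := by group
          _ = a * (a * b) * b := by rw [h]
          _ = (a * a) * (b * b) := by group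
          _ = 1 := by rw [haa, hbb, one_mul]
      rw [this]; exact Subgroup.one_mem _
    · exfalso
      by_cases hab : a = b
      · exact hne (by rw [hab])
      · exact hne (comp_eq_of_rtg (Relation.ReflTransGen.single ⟨ha, hb, hab, h⟩))
    · obtain ⟨h4, hzD⟩ := h
      rw [pow_two] at hzD
      obtain ⟨z, hz⟩ : ∃ z, z = (a * b) * (a * b) := ⟨_, rfl⟩
      rw [← hz] at hzD ⊢
      have hzz : z * z = 1 := by
        rw [hz]; exact sq_sq_of_pow_four (by rw [← h4]; exact pow_orderOf_eq_one _)
      -- z commutes with a and b
      have hza : z * a = a * z := by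
        have e1 : a * z * a = z⁻¹ := by
          apply eq_inv_of_mul_eq_one_right
          rw [hz]
          calc a * b * (a * b) * (a * (a * b * (a * b)) * a)
              = a * b * a * b * (a * a) * b * a * b * a := by group
            _ = a * b * a * (b * b) * a * b * a := by rw [haa]; group
            _ = a * b * (a * a) * b * a := by rw [hbb]; group
            _ = a * (b * b) * a := by rw [haa]; group
            _ = 1 := by rw [hbb, mul_one, haa]
        have e2 : z⁻¹ = z := inv_eq_of_mul_eq_one_left hzz
        rw [e2] at e1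
        calc z * a = (a * z * a) * a := by rw [e1]
          _ = a * z * (a * a) := by group
          _ = a * z := by rw [haa, mul_one]
      have hzb : z * b = b * z := by
        have e1 : b * z * b = z⁻¹ := by
          apply eq_inv_of_mul_eq_one_right
          rw [hz]
          calc a * b * (a * b) * (b * (a * b * (a * b)) * b)
              = a * b * a * (b * b) * a * b * a * (b * b) := by group
            _ = a * b * (a * a) * b * a := by rw [hbb]; group
            _ = a * (b * b) * a := by rw [haa]; group
            _ = 1 := by rw [hbb, mul_one, haa]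
        have e2 : z⁻¹ = z := inv_eq_of_mul_eq_one_left hzz
        rw [e2] at e1
        calc z * b = (b * z * b) * b := by rw [e1]
          _ = b * z * (b * b) := by group
          _ = b * z := by rw [hbb, mul_one]
      have hz_ne_a : z ≠ a := by
        intro h
        have : b * a * b = 1 := by
          have e : a * (b * a * b) = a := by
            calc a * (b * a * b) = a * b * (a * b) := by group
              _ = z := hz.symm
              _ = a := h
          exact mul_left_cancel (e.trans (mul_one a).symm)
        have h2 : a = 1 := by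
          calc a = b * (b * a * b) * b := by
                calc a = (b * b) * a * (b * b) := by rw [hbb, one_mul, mul_one]
                  _ = b * (b * a * b) * b := by group
            _ = 1 := by rw [this, mul_one, hbb]
        exact ne_one_of_mem hD ha h2
      have hz_ne_b : z ≠ b := by
        intro h
        have : a * b * a = 1 := by
          have e : (a * b * a) * b = b := by
            calc (a * b * a) * b = a * b * (a * b) := by group
              _ = z := hz.symm
              _ = b := h
          exact mul_right_cancel (e.trans (one_mul b).symm)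
        have h2 : b = 1 := by
          calc b = a * (a * b * a) * a := by
                calc b = (a * a) * b * (a * a) := by rw [haa, one_mul, mul_one]
                  _ = a * (a * b * a) * a := by group
            _ = 1 := by rw [this, mul_one, haa]
        exact ne_one_of_mem hD hb h2
      have hzaD : z * a ∈ D := by
        have e : z * a = a * (b * a * b⁻¹) * a⁻¹ := by
          rw [inv_eq_of_mem hD ha, inv_eq_of_mem hD hb, hz]; group
        rw [e]
        exact hD.conj_mem _ (hD.conj_mem a ha b) a
      have hzbD : z * b ∈ D := by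
        have e : z * b = a * b * a⁻¹ := by
          rw [inv_eq_of_mem hD ha, hz]
          calc a * b * (a * b) * b = a * b * a * (b * b) := by group
            _ = a * b * a := by rw [hbb, mul_one]
        rw [e]
        exact hD.conj_mem b hb a
      by_contra hzW
      have hzW' : z ∉ W := fun h => hzW (Subgroup.subset_closure h)
      have h1 : z ∈ Cfsg.elemComponentOf (Cfsg.OddAdj D) D a := by
        rcases h6 a ha hca ⟨⟨hzD, hza, hz_ne_a⟩, hzaD⟩ with h | h
        · exact h
        · exact absurd h hzW'
      have h2 : z ∈ Cfsg.elemComponentOf (Cfsg.OddAdj D) D b := by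
        rcases h6 b hb hcb ⟨⟨hzD, hzb, hz_ne_b⟩, hzbD⟩ with h | h
        · exact h
        · exact absurd h hzW'
      exact hne ((comp_eq_of_rtg h1.2).trans (comp_eq_of_rtg h2.2).symm)

end Cfsg.Agent.S5045
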