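import Mathlib
import Cfsg.Statements.S5049
import Cfsg.Agent.Lib.Helper16.PCore

set_option autoImplicit false

namespace Cfsg.Agent.S5049

open Cfsg

theorem sq_eq_one {G : Type*} [Group G] {D : Set G} (hD : Cfsg.IsRootInvolutionSet D) {d : G}
    (hd : d ∈ D) : d * d = 1 := by
  have h := pow_orderOf_eq_one d
  rw [hD.orderOf_eq d hd, pow_two] at h
  exact h

theorem inv_eq_self {G : Type*} [Group G] {D : Set G} (hD : Cfsg.IsRootInvolutionSet D) {d : G}
    (hd : d ∈ D) : d⁻¹ = d :=
  inv_eq_of_mul_eq_one_left (sq_eq_one hD hd)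

theorem comm_of_two_elt {G : Type*} [Group G] {D : Set G} (hD : Cfsg.IsOddTranspositionSet D)
    {x y : G} (hx : x ∈ D) (hy : y ∈ D) {k : ℕ} (h : (x * y) ^ (2 ^ k) = 1) : x * y = y * x := by
  rcases hD.1.pair x hx y hy with h1 | h2 | h3
  · exact h1
  · have hdvd : orderOf (x * y) ∣ 2 ^ k := orderOf_dvd_of_pow_eq_one h
    have hcop : Nat.Coprime (orderOf (x * y)) (2 ^ k) :=
      Nat.Coprime.pow_right k h2.coprime_two_right
    have h1 : orderOf (x * y) = 1 := Nat.Coprime.eq_one_of_dvd hcop hdvd
    rw [orderOf_eq_one_iff] at h1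
    have hy' : y = x⁻¹ := eq_inv_of_mul_eq_one_right h1
    rw [hy']; simp
  · exact absurd h3.1 (hD.2 x hx y hy)

theorem comm_of_sq_mem_pCore {G : Type*} [Group G] [Finite G] {D : Set G}
    (hD : Cfsg.IsOddTranspositionSet D)
    {x y : G} (hx : x ∈ D) (hy : y ∈ D) (h : (x * y) ^ 2 ∈ Cfsg.pCore 2 G) : x * y = y * x := by
  haveI : Fact (Nat.Prime 2) := ⟨Nat.prime_two⟩
  have hp := Cfsg.Agent.Lib.Helper16.pCore_isPGroup 2 G
  obtain ⟨k, hk⟩ := hp ⟨(x * y) ^ 2, h⟩
  have hk' : ((x * y) ^ 2) ^ (2 ^ k) = 1 := by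
    have := congrArg Subtype.val hk
    simpa using this
  apply comm_of_two_elt hD hx hy (k := k + 1)
  rw [pow_succ', pow_mul]
  exact hk'

/-- Let G be a finite group generated by a set D of odd transpositions (root involutions with no product of order 4), Q = O₂(G), and for a ∈ D let Q_a be the commutator subgroup of Q with a. Then every member of D commuting with a centralizes Q_a; and for b ∈ D with ab of odd order greater than 1, the centralizer of ab in Q is the intersection of the centralizers of a and b in Q. -/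
theorem result {G : Type*} [Group G] [Finite G] {D : Set G} (hD : Cfsg.IsOddTranspositionSet D) {a : G} (ha : a ∈ D) :
    (∀ e ∈ Cfsg.commutingMembers D a, ∀ q ∈ ⁅Cfsg.pCore 2 G, Subgroup.zpowers a⁆, e * q = q * e) ∧
    (∀ b ∈ Cfsg.oddPartners D a,
      Cfsg.pCore 2 G ⊓ Subgroup.centralizer {a * b} = Cfsg.pCore 2 G ⊓ Subgroup.centralizer {a} ⊓ Subgroup.centralizer {b}) := by
  have hQn : (Cfsg.pCore 2 G).Normal := Cfsg.Agent.Lib.Helper16.pCore_normal 2 G
  have ha2 : a * a = 1 := sq_eq_one hD.1 ha
  have ha_inv : a⁻¹ = a := inv_eq_self hD.1 ha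
  constructor
  · rintro e ⟨heD, hea⟩ q hq
    have he2 : e * e = 1 := sq_eq_one hD.1 heD
    have key : ∀ g ∈ Cfsg.pCore 2 G, Commute e (g * a * g⁻¹) := by
      intro g hg
      have hxD : g⁻¹ * e * g⁻¹⁻¹ ∈ D := hD.1.conj_mem e heD g⁻¹
      rw [inv_inv] at hxD
      have hn : g⁻¹ * (e * g * e⁻¹) ∈ Cfsg.pCore 2 G :=
        (Cfsg.pCore 2 G).mul_mem ((Cfsg.pCore 2 G).inv_mem hg) (hQn.conj_mem g hg e)
      have hea2 : (e * a) * (e * a) = 1 := by
        calc (e * a) * (e * a) = e * (a * e) * a := by group
          _ = e * (e * a) * a := by rw [← hea]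
          _ = (e * e) * (a * a) := by group
          _ = 1 := by rw [he2, ha2, one_mul]
      have hea_inv : (e * a)⁻¹ = e * a := inv_eq_of_mul_eq_one_left hea2
      have hsq : ((g⁻¹ * e * g) * a) ^ 2 =
          (g⁻¹ * (e * g * e⁻¹)) * ((e * a) * (g⁻¹ * (e * g * e⁻¹)) * (e * a)⁻¹) := by
        rw [hea_inv, pow_two]; group
      have hmem : ((g⁻¹ * e * g) * a) ^ 2 ∈ Cfsg.pCore 2 G := by
        rw [hsq]
        exact (Cfsg.pCore 2 G).mul_mem hn (hQn.conj_mem _ hn _)
      have hc := comm_of_sq_mem_pCore hD hxD ha hmem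
      show e * (g * a * g⁻¹) = (g * a * g⁻¹) * e
      calc e * (g * a * g⁻¹) = g * ((g⁻¹ * e * g) * a) * g⁻¹ := by group
        _ = g * (a * (g⁻¹ * e * g)) * g⁻¹ := by rw [hc]
        _ = (g * a * g⁻¹) * e := by group
    have hle : ⁅Cfsg.pCore 2 G, Subgroup.zpowers a⁆ ≤ Subgroup.centralizer ({e} : Set G) := by
      rw [Subgroup.commutator_le]
      rintro g hg y ⟨k, rfl⟩
      rw [Subgroup.mem_centralizer_iff]
      intro h hh
      rw [Set.mem_singleton_iff] at hh
      subst hh
      have c0 : Commute h a := hea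
      have c1 : Commute h (a ^ k) := c0.zpow_right k
      have c2 : Commute h (g * a ^ k * g⁻¹) := by
        have := (key g hg).zpow_right k
        rwa [conj_zpow] at this
      rw [commutatorElement_def]
      exact (c2.mul_right c1.inv_right).eq
    have := hle hq
    rw [Subgroup.mem_centralizer_iff] at this
    exact this e rfl
  · rintro b ⟨hbD, hba, hodd⟩
    have hb2 : b * b = 1 := sq_eq_one hD.1 hbD
    have hb_inv : b⁻¹ = b := inv_eq_self hD.1 hbD
    ext q
    simp only [Subgroup.mem_inf, Subgroup.mem_centralizer_iff, Set.mem_singleton_iff, forall_eq]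
    constructor
    · rintro ⟨hq, hqab⟩
      have ha'D : q * a * q⁻¹ ∈ D := hD.1.conj_mem a ha q
      have hb'D : q * b * q⁻¹ ∈ D := hD.1.conj_mem b hbD q
      have ha'2 := sq_eq_one hD.1 ha'D
      have hb'_inv := inv_eq_self hD.1 hb'D
      have h1 : (q * a * q⁻¹) * a = a * (q * a * q⁻¹) := by
        apply comm_of_sq_mem_pCore hD ha'D ha
        apply (Cfsg.pCore 2 G).pow_mem
        have e : q * a * q⁻¹ * a = q * (a * q⁻¹ * a⁻¹) := by rw [ha_inv]; group
        rw [e]
        exact (Cfsg.pCore 2 G).mul_mem hq (hQn.conj_mem _ ((Cfsg.pCore 2 G).inv_mem hq) a)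
      have h2 : (q * b * q⁻¹) * b = b * (q * b * q⁻¹) := by
        apply comm_of_sq_mem_pCore hD hb'D hbD
        apply (Cfsg.pCore 2 G).pow_mem
        have e : q * b * q⁻¹ * b = q * (b * q⁻¹ * b⁻¹) := by rw [hb_inv]; group
        rw [e]
        exact (Cfsg.pCore 2 G).mul_mem hq (hQn.conj_mem _ ((Cfsg.pCore 2 G).inv_mem hq) b)
      have h3 : (q * a * q⁻¹) * (q * b * q⁻¹) = a * b := by
        calc (q * a * q⁻¹) * (q * b * q⁻¹) = q * (a * b) * q⁻¹ := by group
          _ = a * b * q * q⁻¹ := by rw [← hqab]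
          _ = a * b := by group
      obtain ⟨a', ha'⟩ : ∃ a', a' = q * a * q⁻¹ := ⟨_, rfl⟩
      obtain ⟨b', hb'⟩ : ∃ b', b' = q * b * q⁻¹ := ⟨_, rfl⟩
      rw [← ha'] at ha'D ha'2 h1 h3
      rw [← hb'] at hb'D hb'_inv h2 h3
      have ha'eq : a' = a * b * b' := by
        have := eq_mul_inv_of_mul_eq h3
        rw [hb'_inv] at this
        exact this
      obtain ⟨t, ht⟩ : ∃ t, t = a' * a := ⟨_, rfl⟩
      have htb : t = b' * b := by
        rw [ht, h1, ha'eq, h2]
        calc a * (a * b * b') = (a * a) * (b * b') := by group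
          _ = b * b' := by rw [ha2, one_mul]
      have ht2 : t * t = 1 := by
        rw [ht]
        calc a' * a * (a' * a) = a' * (a * a') * a := by group
          _ = a' * (a' * a) * a := by rw [← h1]
          _ = (a' * a') * (a * a) := by group
          _ = 1 := by rw [ha'2, ha2, one_mul]
      have ha't : a' = t * a := by
        rw [ht, mul_assoc, ha2, mul_one]
      have hb't : b' = t * b := by
        rw [htb, mul_assoc, hb2, mul_one]
      have hta : Commute t a := by
        show t * a = a * t
        rw [← ha't, ht, ← mul_assoc, ← h1, mul_assoc, ha2, mul_one]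
      have htbc : Commute t b := by
        show t * b = b * t
        rw [← hb't, htb, ← mul_assoc, ← h2, mul_assoc, hb2, mul_one]
      have htr : Commute t (a * b) := hta.mul_right htbc
      have ha'b : a' * b = t * (a * b) := by rw [ha't]; group
      have ht1 : t = 1 := by
        rcases hD.1.pair a' ha'D b hbD with c1 | c2 | c3
        · exfalso
          have h4 : (a' * b) * (a' * b) = 1 := by
            calc (a' * b) * (a' * b) = a' * (b * a') * b := by group
              _ = a' * (a' * b) * b := by rw [c1]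
              _ = (a' * a') * (b * b) := by group
              _ = 1 := by rw [ha'2, hb2, one_mul]
          rw [ha'b] at h4
          have hr2 : (a * b) * (a * b) = 1 := by
            have e : t * (a * b) * (t * (a * b)) = (t * t) * ((a * b) * (a * b)) := by
              have h5 := htr.eq
              calc t * (a * b) * (t * (a * b)) = t * ((a * b) * t) * (a * b) := by group
                _ = t * (t * (a * b)) * (a * b) := by rw [← h5]
                _ = (t * t) * ((a * b) * (a * b)) := by group
            rw [e, ht2, one_mul] at h4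
            exact h4
          have hd : orderOf (a * b) ∣ 2 :=
            orderOf_dvd_of_pow_eq_one (by rw [pow_two]; exact hr2)
          have h1' : orderOf (a * b) = 1 := Nat.Coprime.eq_one_of_dvd hodd.coprime_two_right hd
          rw [orderOf_eq_one_iff] at h1'
          apply hba
          have := eq_inv_of_mul_eq_one_right h1'
          rw [this, ha_inv]
        · have hm := pow_orderOf_eq_one (a' * b)
          have hn := pow_orderOf_eq_one (a * b)
          have h6 : (a' * b) ^ (orderOf (a' * b) * orderOf (a * b)) = 1 := by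
            rw [pow_mul, hm, one_pow]
          rw [ha'b, htr.mul_pow] at h6
          have h7 : (a * b) ^ (orderOf (t * (a * b)) * orderOf (a * b)) = 1 := by
            rw [mul_comm, pow_mul, hn, one_pow]
          rw [h7, mul_one] at h6
          have hoddmn : Odd (orderOf (t * (a * b)) * orderOf (a * b)) := by
            rw [← ha'b]; exact c2.mul hodd
          obtain ⟨j, hj⟩ := hoddmn
          rw [hj, pow_succ, pow_mul, pow_two, ht2, one_pow, one_mul] at h6
          exact h6
        · exact absurd c3.1 (hD.2 a' ha'D b hbD)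
      rw [ht1, one_mul] at ha't
      have hqa : a * q = q * a := by
        rw [ha't] at ha'
        have := congrArg (fun z => z * q) ha'
        simpa [mul_assoc] using this
      refine ⟨⟨hq, hqa⟩, ?_⟩
      have : a * (b * q) = a * (q * b) := by
        rw [← mul_assoc, hqab, ← mul_assoc, ← hqa, mul_assoc]
      exact mul_left_cancel this
    · rintro ⟨⟨hq, hqa⟩, hqb⟩
      refine ⟨hq, ?_⟩
      rw [mul_assoc, hqb, ← mul_assoc, hqa, mul_assoc]

end Cfsg.Agent.S5049
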