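import Cfsg.Statements.S5057

set_option autoImplicit false
open Cfsg

namespace Cfsg.Agent.S5057

theorem altSix_pow (g : alternatingGroup (Fin 6)) : g ^ 3 = 1 ∨ g ^ 4 = 1 ∨ g ^ 5 = 1 := by
  revert g
  decide +kernel

/-- the reference involution (0 1)(2 3) -/
def a0 : alternatingGroup (Fin 6) :=
  ⟨Equiv.swap 0 1 * Equiv.swap 2 3, Equiv.Perm.mem_alternatingGroup.2 (by decide)⟩

theorem conj_a0 : ∀ b : alternatingGroup (Fin 6), b ^ 2 = 1 → b ≠ 1 →
    ∃ g : alternatingGroup (Fin 6), b = g * a0 * g⁻¹ := by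
  decide +kernel

theorem a0_sq : a0 ^ 2 = 1 := by decide +kernel

theorem a0_ne : a0 ≠ 1 := by decide +kernel

theorem orderOf_le_five (g : alternatingGroup (Fin 6)) : orderOf g ≤ 5 := by
  rcases altSix_pow g with h | h | h
  · exact (orderOf_le_of_pow_eq_one (by norm_num) h).trans (by norm_num)
  · exact (orderOf_le_of_pow_eq_one (by norm_num) h).trans (by norm_num)
  · exact orderOf_le_of_pow_eq_one (by norm_num) h

theorem orderOf_two_iff (g : alternatingGroup (Fin 6)) : orderOf g = 2 ↔ g ^ 2 = 1 ∧ g ≠ 1 := by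
  constructor
  · intro h
    refine ⟨by rw [← h]; exact pow_orderOf_eq_one g, ?_⟩
    rintro rfl
    simp at h
  · rintro ⟨h1, h2⟩
    have : Fact (Nat.Prime 2) := ⟨Nat.prime_two⟩
    exact orderOf_eq_prime h1 h2

theorem comm_of_sq {G : Type*} [Group G] {a b : G} (ha2 : a ^ 2 = 1) (hb2 : b ^ 2 = 1)
    (hab2 : (a * b) ^ 2 = 1) : a * b = b * a := by
  have ha' : a⁻¹ = a := inv_eq_of_mul_eq_one_right (by rw [← sq]; exact ha2)
  have hb' : b⁻¹ = b := inv_eq_of_mul_eq_one_right (by rw [← sq]; exact hb2)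
  have hab' : (a * b)⁻¹ = a * b := inv_eq_of_mul_eq_one_right (by rw [← sq]; exact hab2)
  calc a * b = (a * b)⁻¹ := hab'.symm
    _ = b⁻¹ * a⁻¹ := mul_inv_rev a b
    _ = b * a := by rw [ha', hb']

theorem result :
    Cfsg.IsRootInvolutionClass {g : ↥(alternatingGroup (Fin 6)) | orderOf g = 2} ∧
    ∀ d ∈ {g : ↥(alternatingGroup (Fin 6)) | orderOf g = 2}, ∀ e ∈ {g : ↥(alternatingGroup (Fin 6)) | orderOf g = 2},
      orderOf (d * e) ≤ 5 := by
  set D : Set (alternatingGroup (Fin 6)) := {g | orderOf g = 2} with hD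
  have hconj : ∀ d ∈ D, ∀ g : alternatingGroup (Fin 6), g * d * g⁻¹ ∈ D := by
    intro d hd g
    show orderOf (g * d * g⁻¹) = 2
    have hd' : orderOf d = 2 := hd
    rw [← hd']
    have := (MulAut.conj g).orderOf_eq d
    simpa [MulAut.conj_apply] using this
  have ha0 : a0 ∈ D := (orderOf_two_iff a0).2 ⟨a0_sq, a0_ne⟩
  have hallconj : ∀ a ∈ D, ∀ b ∈ D, ∃ g : alternatingGroup (Fin 6), b = g * a * g⁻¹ := by
    intro a ha b hb
    obtain ⟨g1, h1⟩ := conj_a0 a ((orderOf_two_iff a).1 ha).1 ((orderOf_two_iff a).1 ha).2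
    obtain ⟨g2, h2⟩ := conj_a0 b ((orderOf_two_iff b).1 hb).1 ((orderOf_two_iff b).1 hb).2
    refine ⟨g2 * g1⁻¹, ?_⟩
    rw [h2, h1]
    group
  have hgen : Subgroup.closure D = ⊤ := by
    have hs : IsSimpleGroup (alternatingGroup (Fin 6)) := alternatingGroup.isSimpleGroup (by simp)
    have hn : Subgroup.normalClosure D = ⊤ := by
      apply (Subgroup.normalClosure_normal.eq_bot_or_eq_top).resolve_left
      intro h
      have : a0 ∈ Subgroup.normalClosure D := Subgroup.subset_normalClosure ha0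
      rw [h, Subgroup.mem_bot] at this
      exact a0_ne this
    rw [← hn, Subgroup.normalClosure]
    congr 1
    apply Set.Subset.antisymm Group.subset_conjugatesOfSet
    intro x hx
    rw [Group.mem_conjugatesOfSet_iff] at hx
    obtain ⟨d, hd, hdx⟩ := hx
    rw [isConj_iff] at hdx
    obtain ⟨c, rfl⟩ := hdx
    exact hconj d hd c
  have hpair : ∀ a ∈ D, ∀ b ∈ D, a * b = b * a ∨ Odd (orderOf (a * b)) ∨
      (orderOf (a * b) = 4 ∧ (a * b) ^ 2 ∈ D) := by
    intro a ha b hb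
    have ha2 : a ^ 2 = 1 := ((orderOf_two_iff a).1 ha).1
    have hb2 : b ^ 2 = 1 := ((orderOf_two_iff b).1 hb).1
    have h5 := orderOf_le_five (a * b)
    have hpos : 0 < orderOf (a * b) := orderOf_pos _
    rcases (by omega : orderOf (a * b) = 1 ∨ orderOf (a * b) = 2 ∨ orderOf (a * b) = 3 ∨
      orderOf (a * b) = 4 ∨ orderOf (a * b) = 5) with h | h | h | h | h
    · left
      have h1 : a * b = 1 := orderOf_eq_one_iff.mp h
      exact comm_of_sq ha2 hb2 (by rw [h1]; simp)
    · left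
      exact comm_of_sq ha2 hb2 (by rw [← h]; exact pow_orderOf_eq_one _)
    · right; left
      rw [h]; decide
    · right; right
      refine ⟨h, ?_⟩
      show orderOf ((a * b) ^ 2) = 2
      rw [orderOf_pow_of_dvd (by norm_num) (by rw [h]; norm_num), h]
    · right; left
      rw [h]; decide
  refine ⟨⟨⟨fun d hd => hd, hgen, hconj, hpair⟩, ⟨a0, ha0⟩, hallconj⟩, ?_⟩
  intro d _ e _
  exact orderOf_le_five (d * e)

end Cfsg.Agent.S5057
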