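import Cfsg.Statements.S5059

set_option autoImplicit false
universe u
open Cfsg

namespace Cfsg.Agent.S5059

variable {k : Type u} [Field k] {M : Type u} [AddCommGroup M] [Module k M]

/-- `N` has image inside `R` and kernel containing `C`. -/
def InSp (C R : Submodule k M) (N : M →ₗ[k] M) : Prop :=
  LinearMap.range N ≤ R ∧ C ≤ LinearMap.ker N

theorem InSp.mul_eq_zero {C R : Submodule k M} (hRC : R ≤ C) {N₁ N₂ : M →ₗ[k] M}
    (h₁ : InSp C R N₁) (h₂ : InSp C R N₂) : N₁ * N₂ = 0 := by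
  ext m
  have : N₂ m ∈ LinearMap.ker N₁ := h₁.2 (hRC (h₂.1 (LinearMap.mem_range_self N₂ m)))
  simpa using this

theorem InSp.zero (C R : Submodule k M) : InSp C R (0 : M →ₗ[k] M) := by
  constructor
  · rintro _ ⟨m, rfl⟩
    simp
  · intro m _
    simp

theorem InSp.add {C R : Submodule k M} {N₁ N₂ : M →ₗ[k] M}
    (h₁ : InSp C R N₁) (h₂ : InSp C R N₂) : InSp C R (N₁ + N₂) := by
  constructor
  · rintro _ ⟨m, rfl⟩
    rw [LinearMap.add_apply]
    exact R.add_mem (h₁.1 (LinearMap.mem_range_self N₁ m)) (h₂.1 (LinearMap.mem_range_self N₂ m))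
  · intro m hm
    rw [LinearMap.mem_ker, LinearMap.add_apply]
    have e1 : N₁ m = 0 := h₁.2 hm
    have e2 : N₂ m = 0 := h₂.2 hm
    rw [e1, e2, add_zero]

theorem InSp.smul {C R : Submodule k M} {N : M →ₗ[k] M} (c : k)
    (h : InSp C R N) : InSp C R (c • N) := by
  constructor
  · rintro _ ⟨m, rfl⟩
    rw [LinearMap.smul_apply]
    exact R.smul_mem c (h.1 (LinearMap.mem_range_self N m))
  · intro m hm
    rw [LinearMap.mem_ker, LinearMap.smul_apply]
    have e1 : N m = 0 := h.2 hm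
    rw [e1, smul_zero]

theorem ring_aux1 {A : Type*} [Ring A] (a : A) : (1 + a) * (1 - a) = 1 - a * a := by
  noncomm_ring

theorem ring_aux2 {A : Type*} [Ring A] (a : A) : (1 - a) * (1 + a) = 1 - a * a := by
  noncomm_ring

theorem ring_aux3 {A : Type*} [Ring A] (a b : A) : 1 + (a + b) = (1 + a) * (1 + b) - a * b := by
  noncomm_ring

/-- the unit `1 + c N` when `N * N = 0` -/
def unitOf (N : M →ₗ[k] M) (hN : N * N = 0) (c : k) : (M →ₗ[k] M)ˣ where
  val := 1 + c • N
  inv := 1 - c • N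
  val_inv := by
    have : (c • N) * (c • N) = 0 := by rw [smul_mul_smul_comm, hN, smul_zero]
    rw [ring_aux1, this, sub_zero]
  inv_val := by
    have : (c • N) * (c • N) = 0 := by rw [smul_mul_smul_comm, hN, smul_zero]
    rw [ring_aux2, this, sub_zero]

theorem unitOf_val (N : M →ₗ[k] M) (hN : N * N = 0) (c : k) :
    ((unitOf N hN c : (M →ₗ[k] M)ˣ) : M →ₗ[k] M) = 1 + c • N := rfl

/-- the candidate carrier -/
def carrierSet (G : Subgroup (LinearMap.GeneralLinearGroup k M)) (C R : Submodule k M) :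
    Set (LinearMap.GeneralLinearGroup k M) :=
  {τ | τ ∈ G ∧ InSp C R ((τ : M →ₗ[k] M) - 1) ∧
    Cfsg.scalarFamily τ ⊆ (G : Set (LinearMap.GeneralLinearGroup k M))}

theorem one_mem_carrier (G : Subgroup (LinearMap.GeneralLinearGroup k M)) (C R : Submodule k M) :
    (1 : LinearMap.GeneralLinearGroup k M) ∈ carrierSet G C R := by
  refine ⟨G.one_mem, ?_, ?_⟩
  · rw [Units.val_one, sub_self]
    exact InSp.zero C R
  · rintro υ ⟨c, hc⟩
    rw [Units.val_one, sub_self, smul_zero, add_zero] at hc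
    have : υ = 1 := Units.ext hc
    rw [this]
    exact G.one_mem

theorem val_mul_sub_one {C R : Submodule k M} (hRC : R ≤ C)
    {τ₁ τ₂ : LinearMap.GeneralLinearGroup k M}
    (h₁ : InSp C R ((τ₁ : M →ₗ[k] M) - 1)) (h₂ : InSp C R ((τ₂ : M →ₗ[k] M) - 1)) :
    ((τ₁ * τ₂ : LinearMap.GeneralLinearGroup k M) : M →ₗ[k] M) - 1 =
      ((τ₁ : M →ₗ[k] M) - 1) + ((τ₂ : M →ₗ[k] M) - 1) := by
  have h0 := InSp.mul_eq_zero hRC h₁ h₂
  rw [Units.val_mul]
  calc (τ₁ : M →ₗ[k] M) * (τ₂ : M →ₗ[k] M) - 1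
      = ((τ₁ : M →ₗ[k] M) - 1) * ((τ₂ : M →ₗ[k] M) - 1) + ((τ₁ : M →ₗ[k] M) - 1)
          + ((τ₂ : M →ₗ[k] M) - 1) := by noncomm_ring
    _ = _ := by rw [h0, zero_add]

theorem mul_mem_carrier {G : Subgroup (LinearMap.GeneralLinearGroup k M)} {C R : Submodule k M}
    (hRC : R ≤ C) {τ₁ τ₂ : LinearMap.GeneralLinearGroup k M}
    (h₁ : τ₁ ∈ carrierSet G C R) (h₂ : τ₂ ∈ carrierSet G C R) : τ₁ * τ₂ ∈ carrierSet G C R := by
  obtain ⟨hG₁, hS₁, hF₁⟩ := h₁
  obtain ⟨hG₂, hS₂, hF₂⟩ := h₂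
  have key := val_mul_sub_one hRC hS₁ hS₂
  refine ⟨G.mul_mem hG₁ hG₂, ?_, ?_⟩
  · rw [key]
    exact hS₁.add hS₂
  · rintro υ ⟨c, hc⟩
    rw [key] at hc
    have hN₁ := InSp.mul_eq_zero hRC hS₁ hS₁
    have hN₂ := InSp.mul_eq_zero hRC hS₂ hS₂
    have hN₁₂ := InSp.mul_eq_zero hRC hS₁ hS₂
    have hu₁ : unitOf _ hN₁ c ∈ G := hF₁ ⟨c, rfl⟩
    have hu₂ : unitOf _ hN₂ c ∈ G := hF₂ ⟨c, rfl⟩
    have : υ = unitOf _ hN₁ c * unitOf _ hN₂ c := by
      apply Units.ext
      rw [hc, Units.val_mul, unitOf_val, unitOf_val]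
      have h0 : (c • ((τ₁ : M →ₗ[k] M) - 1)) * (c • ((τ₂ : M →ₗ[k] M) - 1)) = 0 := by
        rw [smul_mul_smul_comm, hN₁₂, smul_zero]
      rw [smul_add, ring_aux3, h0, sub_zero]
    rw [this]
    exact G.mul_mem hu₁ hu₂

theorem inv_mem_carrier {G : Subgroup (LinearMap.GeneralLinearGroup k M)} {C R : Submodule k M}
    (hRC : R ≤ C) {τ : LinearMap.GeneralLinearGroup k M}
    (h : τ ∈ carrierSet G C R) : τ⁻¹ ∈ carrierSet G C R := by
  obtain ⟨hG, hS, hF⟩ := h
  have hN := InSp.mul_eq_zero hRC hS hS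
  have hw : τ * unitOf _ hN (-1) = 1 := by
    apply Units.ext
    rw [Units.val_mul, unitOf_val, Units.val_one]
    have h1 : (τ : M →ₗ[k] M) = 1 + ((τ : M →ₗ[k] M) - 1) := by abel
    rw [neg_one_smul, ← sub_eq_add_neg]
    nth_rewrite 1 [h1]
    rw [ring_aux1, hN, sub_zero]
  have hinv : τ⁻¹ = unitOf _ hN (-1) := (eq_inv_of_mul_eq_one_right hw).symm
  have hval : ((τ⁻¹ : LinearMap.GeneralLinearGroup k M) : M →ₗ[k] M) - 1 =
      (-1 : k) • ((τ : M →ₗ[k] M) - 1) := by
    rw [hinv, unitOf_val, add_sub_cancel_left]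
  refine ⟨G.inv_mem hG, ?_, ?_⟩
  · rw [hval]
    exact hS.smul _
  · rintro υ ⟨c, hc⟩
    rw [hval, smul_smul] at hc
    exact hF ⟨c * -1, hc⟩

/-- powers of `1 + N` with `N * N = 0` -/
theorem one_add_pow_of_sq_zero (N : M →ₗ[k] M) (hN : N * N = 0) (n : ℕ) :
    (1 + N) ^ n = 1 + n • N := by
  induction n with
  | zero => simp
  | succ n ih =>
    rw [pow_succ, ih]
    calc (1 + n • N) * (1 + N) = 1 + N + n • N + n • (N * N) := by
          rw [mul_add, mul_one, add_mul, one_mul, smul_mul_assoc]; abel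
      _ = 1 + (n + 1) • N := by rw [hN, smul_zero, add_zero, succ_nsmul]; abel

theorem result {k : Type u} [Field k] (hk2 : ringChar k ≠ 2) (hk3 : Nat.card k ≠ 3)
    {M : Type u} [AddCommGroup M] [Module k M] [FiniteDimensional k M]
    {G : Subgroup (LinearMap.GeneralLinearGroup k M)} (hG : Cfsg.IsQuadraticPair G)
    {σ : LinearMap.GeneralLinearGroup k M} (hσ : σ ∈ Cfsg.minimalQuadraticElements G) :
    (Cfsg.sameActionSubgroup G σ : Set (LinearMap.GeneralLinearGroup k M)) = Cfsg.sameActionClass G σ ∪ {1} ∧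
    IsMulCommutative ↥(Cfsg.sameActionSubgroup G σ) ∧
    (∀ p : ℕ, p.Prime → ringChar k = p → ∀ x ∈ Cfsg.sameActionSubgroup G σ, x ^ p = 1) := by
  classical
  obtain ⟨⟨hσG, ⟨hσq, hσne⟩, hσs⟩, hσmin⟩ := hσ
  set C := LinearMap.ker ((σ : M →ₗ[k] M) - 1) with hC
  set R := LinearMap.range ((σ : M →ₗ[k] M) - 1) with hR
  have hRC : R ≤ C := by
    rintro _ ⟨m, rfl⟩
    rw [hC, LinearMap.mem_ker]
    have := congrArg (fun f => f m) hσq
    simpa using this
  let T : Subgroup (LinearMap.GeneralLinearGroup k M) :=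
    { carrier := carrierSet G C R
      mul_mem' := fun h₁ h₂ => mul_mem_carrier hRC h₁ h₂
      one_mem' := one_mem_carrier G C R
      inv_mem' := fun h => inv_mem_carrier hRC h }
  have hT1 : (T : Set (LinearMap.GeneralLinearGroup k M)) = Cfsg.sameActionClass G σ ∪ {1} := by
    ext τ
    constructor
    · rintro ⟨hτG, hτS, hτF⟩
      by_cases h1 : τ = 1
      · right; exact h1
      · left
        have hNne : (τ : M →ₗ[k] M) - 1 ≠ 0 := by
          intro h
          apply h1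
          apply Units.ext
          rw [Units.val_one]
          exact sub_eq_zero.mp h
        have hNN := InSp.mul_eq_zero hRC hτS hτS
        have hτq : τ ∈ Cfsg.quadraticElements G := ⟨hτG, ⟨hNN, hNne⟩, hτF⟩
        have hle : Cfsg.commutatorRank τ ≤ Cfsg.commutatorRank σ := Submodule.finrank_mono hτS.1
        have hge : Cfsg.commutatorRank σ ≤ Cfsg.commutatorRank τ := hσmin τ hτq
        have heq : Module.finrank k (LinearMap.range ((τ : M →ₗ[k] M) - 1)) = Module.finrank k R :=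
          le_antisymm hle hge
        have hrange : LinearMap.range ((τ : M →ₗ[k] M) - 1) = R :=
          Submodule.eq_of_le_of_finrank_eq hτS.1 heq
        have hker : LinearMap.ker ((τ : M →ₗ[k] M) - 1) = C := by
          symm
          apply Submodule.eq_of_le_of_finrank_eq hτS.2
          have e1 := LinearMap.finrank_range_add_finrank_ker ((τ : M →ₗ[k] M) - 1)
          have e2 : Module.finrank k R + Module.finrank k C = Module.finrank k M :=
            LinearMap.finrank_range_add_finrank_ker ((σ : M →ₗ[k] M) - 1)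
          rw [heq] at e1
          omega
        refine ⟨⟨hτq, ?_⟩, hker, hrange⟩
        intro τ' hτ'
        exact (le_of_eq (le_antisymm hle hge)).trans (hσmin τ' hτ')
    · rintro (hτ | hτ)
      · obtain ⟨⟨⟨hτG, _, hτF⟩, _⟩, hker, hrange⟩ := hτ
        exact ⟨hτG, ⟨le_of_eq hrange, le_of_eq hker.symm⟩, hτF⟩
      · rw [Set.mem_singleton_iff] at hτ
        rw [hτ]
        exact one_mem_carrier G C R
  have hclosure : Cfsg.sameActionSubgroup G σ = T := by
    apply le_antisymm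
    · rw [Cfsg.sameActionSubgroup, Subgroup.closure_le, hT1]
      exact Set.subset_union_left
    · intro τ hτ
      have : τ ∈ Cfsg.sameActionClass G σ ∪ {1} := by rw [← hT1]; exact hτ
      rcases this with h | h
      · exact Subgroup.subset_closure h
      · rw [Set.mem_singleton_iff] at h
        rw [h]
        exact Subgroup.one_mem _
  refine ⟨by rw [hclosure]; exact hT1, ?_, ?_⟩
  · refine ⟨⟨fun a b => ?_⟩⟩
    have ha : (a : LinearMap.GeneralLinearGroup k M) ∈ T := hclosure ▸ a.2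
    have hb : (b : LinearMap.GeneralLinearGroup k M) ∈ T := hclosure ▸ b.2
    apply Subtype.ext
    apply Units.ext
    have e1 := val_mul_sub_one hRC ha.2.1 hb.2.1
    have e2 := val_mul_sub_one hRC hb.2.1 ha.2.1
    have : ((a : LinearMap.GeneralLinearGroup k M) * (b : LinearMap.GeneralLinearGroup k M) :
        LinearMap.GeneralLinearGroup k M).val - 1 =
        ((b : LinearMap.GeneralLinearGroup k M) * (a : LinearMap.GeneralLinearGroup k M) :
        LinearMap.GeneralLinearGroup k M).val - 1 := by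
      rw [e1, e2, add_comm]
    exact sub_left_injective this
  · intro p hp hchar x hx
    have hxT : x ∈ T := hclosure ▸ hx
    have hNN := InSp.mul_eq_zero hRC hxT.2.1 hxT.2.1
    have : CharP k p := ringChar.eq_iff.mp hchar
    apply Units.ext
    rw [Units.val_pow_eq_pow_val, Units.val_one]
    have hx1 : (x : M →ₗ[k] M) = 1 + ((x : M →ₗ[k] M) - 1) := by abel
    rw [hx1, one_add_pow_of_sq_zero _ hNN]
    have : p • ((x : M →ₗ[k] M) - 1) = 0 := by
      rw [← Nat.cast_smul_eq_nsmul k, CharP.cast_eq_zero, zero_smul]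
    rw [this, add_zero]

end Cfsg.Agent.S5059
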