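import Cfsg.Statements.S5060
import Cfsg.Agent.Lib.Helper11.GenDk5
import Cfsg.Agent.Lib.Helper11.GenDk6

set_option autoImplicit false
open Cfsg

namespace Cfsg.Agent.S5060

/-- Let k ⊆ K be fields with the characteristic of k not 2 and k not of order 3, and let α ∈ K be a non-zero element algebraic over k. Then the subgroup of SL₂(K) generated by the upper unitriangular matrices with entry c and the lower unitriangular matrices with entry cα, c ranging over k, is exactly the group of matrices of SL₂(K) with all entries in k(α). -/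
theorem result {k K : Type*} [Field k] [Field K] [Algebra k K] (hk2 : ringChar k ≠ 2) (hk3 : Nat.card k ≠ 3)
    (α : K) (hα : IsAlgebraic k α) (hα0 : α ≠ 0) :
    (Subgroup.closure ({g : Matrix.SpecialLinearGroup (Fin 2) K | ∃ c : k, (g : Matrix (Fin 2) (Fin 2) K) = !![1, algebraMap k K c; 0, 1]} ∪
        {g : Matrix.SpecialLinearGroup (Fin 2) K | ∃ c : k, (g : Matrix (Fin 2) (Fin 2) K) = !![1, 0; algebraMap k K c * α, 1]}) :
      Set (Matrix.SpecialLinearGroup (Fin 2) K)) =
    {g : Matrix.SpecialLinearGroup (Fin 2) K | ∀ i j : Fin 2, (g : Matrix (Fin 2) (Fin 2) K) i j ∈ IntermediateField.adjoin k ({α} : Set K)} := by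
  ext g
  constructor
  · intro hg i j
    exact Cfsg.Agent.Lib.Helper11.GenDk.entries_mem α g hg i j
  · intro hg
    show g ∈ Cfsg.Agent.Lib.Helper11.GenDk.Gk k α
    rcases finite_or_infinite k with hfin | hinf
    · have h := Cfsg.Agent.Lib.Helper11.GenDk.mem_of_finite hk2 hk3 α hα hα0
      exact Cfsg.Agent.Lib.Helper11.GenDk.mem_of_entries α _ (fun t ht => (h t ht).1)
        (fun t ht => (h t ht).2) g hg
    · have hl := Cfsg.Agent.Lib.Helper11.GenDk.lower_mem_of_infinite hk2 α hα hα0
      exact Cfsg.Agent.Lib.Helper11.GenDk.mem_of_entries α _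
        (Cfsg.Agent.Lib.Helper11.GenDk.upper_of_lower α _ hl) hl g hg

end Cfsg.Agent.S5060
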