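import Cfsg.Statements.S5067

set_option autoImplicit false
open Cfsg
open scoped commutatorElement

namespace Cfsg.Agent.S5067

theorem aux {P : Type*} [Group P] [Group.IsNilpotent P]
    (hna : ¬ IsMulCommutative P) {E : Subgroup P} (hE : IsMulCommutative ↥E) :
    Group.nilpotencyClass ↥(Subgroup.normalClosure (E : Set P)) < Group.nilpotencyClass P := by
  set N := Subgroup.normalClosure (E : Set P) with hN
  set K : Subgroup P := ⁅⁅(⊤ : Subgroup P), (⊤ : Subgroup P)⁆, (⊤ : Subgroup P)⁆ with hK
  have : K.Normal := inferInstance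
  have hbase : ⁅N, N⁆ ≤ K := by
    let π := QuotientGroup.mk' K
    have hM : N ≤ E ⊔ commutator P := by
      have : (E ⊔ commutator P).Normal := Subgroup.Normal.of_commutator_le _ le_sup_right
      exact Subgroup.normalClosure_le_normal (le_sup_left : E ≤ _)
    have hcen : (commutator P).map π ≤ Subgroup.center (P ⧸ K) := by
      rintro _ ⟨x, hx, rfl⟩
      rw [Subgroup.mem_center_iff]
      intro y'
      obtain ⟨y, rfl⟩ := QuotientGroup.mk'_surjective K y'
      have hxy : ⁅x, y⁆ ∈ K := Subgroup.commutator_mem_commutator hx (Subgroup.mem_top y)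
      have h1 : π ⁅x, y⁆ = 1 := (QuotientGroup.eq_one_iff _).mpr hxy
      rw [map_commutatorElement, commutatorElement_eq_one_iff_mul_comm] at h1
      exact h1.symm
    have hcomm : IsMulCommutative ↥((E ⊔ commutator P).map π) := by
      rw [Subgroup.map_sup, ← Subgroup.le_centralizer_iff_isMulCommutative]
      have h1 : E.map π ≤ Subgroup.centralizer
          ((E.map π ⊔ (commutator P).map π : Subgroup (P ⧸ K)) : Set (P ⧸ K)) := by
        rw [Subgroup.le_centralizer_iff]
        apply sup_le
        · exact Subgroup.le_centralizer_iff_isMulCommutative.mpr inferInstance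
        · exact hcen.trans (Subgroup.center_le_centralizer _)
      exact sup_le h1 (hcen.trans (Subgroup.center_le_centralizer _))
    rw [Subgroup.commutator_le]
    intro g₁ h₁ g₂ h₂
    have : π ⁅g₁, g₂⁆ = 1 := by
      rw [map_commutatorElement, commutatorElement_eq_one_iff_mul_comm]
      have e1 : π g₁ ∈ (E ⊔ commutator P).map π := Subgroup.mem_map_of_mem _ (hM h₁)
      have e2 : π g₂ ∈ (E ⊔ commutator P).map π := Subgroup.mem_map_of_mem _ (hM h₂)
      exact congrArg Subtype.val (hcomm.is_comm.comm ⟨_, e1⟩ ⟨_, e2⟩)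
    exact (QuotientGroup.eq_one_iff _).mp this
  have hstep : ∀ k : ℕ, N.lowerCentralSeries (k + 1) ≤ (⊤ : Subgroup P).lowerCentralSeries (k + 2) := by
    intro k
    induction k with
    | zero => simpa using hbase
    | succ k ih =>
      rw [Subgroup.lowerCentralSeries_succ, Subgroup.lowerCentralSeries_succ _ (k + 2)]
      exact Subgroup.commutator_mono ih le_top
  have hc : 2 ≤ Group.nilpotencyClass P := by
    by_contra h
    push Not at h
    have h1 : Group.nilpotencyClass P ≤ 1 := by omega
    rw [← Subgroup.lowerCentralSeries_eq_bot_iff_nilpotencyClass_le,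
      Subgroup.top_lowerCentralSeries_one, commutator_eq_bot_iff] at h1
    exact hna h1
  obtain ⟨c, hc'⟩ : ∃ c, Group.nilpotencyClass P = c + 2 := ⟨_, (Nat.sub_add_cancel hc).symm⟩
  have hle : Group.nilpotencyClass ↥N ≤ c + 1 := by
    rw [← Subgroup.lowerCentralSeries_eq_bot_iff_nilpotencyClass_le,
      ← Subgroup.map_subtype_inj, Subgroup.map_bot, Subgroup.top_subtype_lowerCentralSeries,
      eq_bot_iff]
    have := hstep c
    rw [← hc', Subgroup.lowerCentralSeries_nilpotencyClass] at this
    exact this
  omega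

theorem result {P : Type*} [Group P] {p : ℕ} [Fact p.Prime] (hP : IsPGroup p P) [Group.IsNilpotent P]
    (hna : ¬ IsMulCommutative P) {E F : Subgroup P} (hE : IsMulCommutative ↥E) (hF : IsMulCommutative ↥F) (hgen : E ⊔ F = ⊤) :
    Group.nilpotencyClass ↥(Subgroup.normalClosure (E : Set P)) < Group.nilpotencyClass P ∧
    Group.nilpotencyClass ↥(Subgroup.normalClosure (F : Set P)) < Group.nilpotencyClass P :=
  ⟨aux hna hE, aux hna hF⟩

end Cfsg.Agent.S5067
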