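import Cfsg.Statements.S5080
import Mathlib
import Cfsg.Agent.Lib.Helper29.FusionAut
import Cfsg.Agent.Lib.Helper2.Cores

set_option autoImplicit false
open Cfsg

namespace Cfsg.Agent.S5080

open Cfsg.Agent.Lib.Helper29 Cfsg.Agent.Lib.Helper2

/-- a group with a strongly `p`-embedded subgroup has trivial `p`-core -/
theorem pCore_eq_bot_of_stronglyPEmbedded {X : Type*} [Group X] [Finite X] (p : ℕ) [Fact p.Prime]
    (E : Subgroup X) (hE : IsStronglyPEmbedded p E) : pCore p X = ⊥ := by
  obtain ⟨_, hEtop, T, hT⟩ := hE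
  by_contra hne
  apply hEtop
  rw [eq_top_iff]
  refine le_trans ?_ hT
  have hnorm : (pCore p X).Normal := Cfsg.pCore_normal p X
  have hle : pCore p X ≤ (T : Subgroup X) := pCore_le_sylow p T
  have hrank : ¬ PRankLE p (1 - 1) (pCore p X) := by
    intro hr
    -- a nontrivial finite p-group has an element of order p
    have hpg : IsPGroup p (pCore p X) := pCore_isPGroup p
    have hnt : Nontrivial (pCore p X) := (Subgroup.nontrivial_iff_ne_bot _).mpr hne
    have hdvd : p ∣ Nat.card (pCore p X) := by
      obtain ⟨n, hn⟩ := IsPGroup.iff_card.mp hpg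
      rw [hn]
      rcases Nat.eq_zero_or_pos n with h0 | h0
      · exfalso
        rw [h0, pow_zero] at hn
        have := (Nat.card_eq_one_iff_unique.mp hn).1
        exact not_subsingleton _ this
      · exact dvd_pow_self p h0.ne'
    obtain ⟨x, hx⟩ := exists_prime_orderOf_dvd_card' p hdvd
    have hxp : x ^ p = 1 := by
      have := pow_orderOf_eq_one x
      rwa [hx] at this
    have h1 := hr (Subgroup.zpowers x) inferInstance (by
      intro a ha
      obtain ⟨k, rfl⟩ := Subgroup.mem_zpowers_iff.mp ha
      rw [← zpow_natCast, ← zpow_mul, mul_comm, zpow_mul, zpow_natCast, hxp, one_zpow])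
    rw [Nat.card_zpowers, hx] at h1
    have := (Fact.out : p.Prime).two_le
    simp at h1
    omega
  have h2 : Subgroup.normalizer ((pCore p X : Subgroup X) : Set X) ≤ kGeneratedCore p 1 (T : Subgroup X) := by
    unfold kGeneratedCore
    exact le_iSup (fun Q : {Q : Subgroup X // Q ≤ (T : Subgroup X) ∧ ¬ PRankLE p (1 - 1) Q} =>
      Subgroup.normalizer ((Q : Subgroup X) : Set X)) ⟨pCore p X, hle, hrank⟩
  refine le_trans ?_ h2
  rw [Subgroup.normalizer_eq_top]

/-- In a saturated fusion system over a finite p-group, every essential subgroup is radical (it is centric and fully normalized by definition, so it is centric-radical and fully normalized). -/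
theorem result {Ω : Type*} [Group Ω] {S : Subgroup Ω} [Finite S] (p : ℕ) [Fact p.Prime] (hS : IsPGroup p S) (F : Cfsg.FusionSystem S) (hF : F.IsSaturated p) (P : Subgroup Ω) (hP : F.IsEssential p P) : F.IsRadical p P := by
  obtain ⟨hcen, _, hN, E, hE⟩ := hP
  have hPS : P ≤ S := hcen.1
  refine ⟨hPS, ?_⟩
  have hPfin : Finite P := Finite.of_injective (Subgroup.inclusion hPS) (Subgroup.inclusion_injective hPS)
  have hPp : IsPGroup p P := hS.to_le hPS
  set A := F.autGroup P with hA
  -- Inn P ≤ A
  have hInn : Inn P ≤ A := by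
    rintro α ⟨x, rfl⟩
    rw [hA, mem_autGroup_iff F hPS]
    have : P.subtype.comp (MulAut.conj x).toMonoidHom = conjHom P (x : Ω) := by
      ext y
      simp [conjHom]
    rw [this]
    exact F.conj_mem hPS (hPS x.2)
  have hInnp : IsPGroup p (Inn P) := by
    rintro ⟨α, x, rfl⟩
    obtain ⟨k, hk⟩ := hPp x
    refine ⟨k, ?_⟩
    apply Subtype.ext
    simp only [SubgroupClass.coe_pow, Subgroup.coe_one]
    rw [← map_pow, hk, map_one]
  -- finiteness
  have hAutfin : Finite (MulAut P) := by
    have : Finite (P ≃ P) := inferInstance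
    exact Finite.of_injective (fun α : MulAut P => α.toEquiv) (fun a b h => MulEquiv.ext (fun x => by
      have := congrArg (fun e : P ≃ P => e x) h
      exact this))
  have hAfin : Finite A := inferInstance
  set I := (Inn P).subgroupOf A with hI
  -- I is a normal p-subgroup of A
  have hIp : IsPGroup p I := by
    rintro ⟨⟨α, hαA⟩, hα⟩
    rw [hI, Subgroup.mem_subgroupOf] at hα
    obtain ⟨k, hk⟩ := hInnp ⟨α, hα⟩
    refine ⟨k, ?_⟩
    apply Subtype.ext
    apply Subtype.ext
    have := congrArg Subtype.val hk
    simpa using this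
  have hIle : I ≤ pCore p A := Cfsg.Agent.Lib.Helper2.le_pCore hN hIp
  -- the p-core of the quotient is trivial
  have hOut : pCore p (A ⧸ I) = ⊥ := pCore_eq_bot_of_stronglyPEmbedded p E hE
  -- hence the p-core of A is inside I
  have hle : pCore p A ≤ I := by
    have h1 : (pCore p A).map (QuotientGroup.mk' I) ≤ pCore p (A ⧸ I) := by
      apply Cfsg.Agent.Lib.Helper2.le_pCore
      · exact Subgroup.Normal.map (Cfsg.pCore_normal p A) _ (QuotientGroup.mk'_surjective I)
      · exact (Cfsg.Agent.Lib.Helper2.pCore_isPGroup p).map _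
    rw [hOut, le_bot_iff, Subgroup.map_eq_bot_iff, QuotientGroup.ker_mk'] at h1
    exact h1
  have heq : pCore p A = I := le_antisymm hle hIle
  rw [heq, hI, Subgroup.map_subgroupOf_eq_of_le hInn]

end Cfsg.Agent.S5080
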