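import Cfsg.Statements.S5084
import Cfsg.Agent.Lib.Helper29.FusionNormal

set_option autoImplicit false
open Cfsg

namespace Cfsg.Agent.S5084

/-- In a saturated fusion system over a finite p-group S, a subgroup Q is central in the system if and only if Q ≤ S and no element of Q is conjugate in the system to any element other than itself. -/
theorem result {Ω : Type*} [Group Ω] {S : Subgroup Ω} [Finite S] (p : ℕ) [Fact p.Prime] (hS : IsPGroup p S) (F : Cfsg.FusionSystem S) (hF : F.IsSaturated p) (Q : Subgroup Ω) : F.IsCentral Q ↔ (Q ≤ S ∧ ∀ x ∈ Q, ∀ y : Ω, F.IsConjElt x y → y = x) := by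
  open Cfsg.Agent.Lib.Helper29 in
  constructor
  · intro hQ
    refine ⟨hQ.1, fun x hx y hxy => ?_⟩
    obtain ⟨φ, hφ, rfl⟩ := hxy
    obtain ⟨ψ, hψ, hψP, hψQ⟩ := hQ.2 _ φ hφ
    have e : Subgroup.inclusion (le_sup_left : Subgroup.zpowers x ≤ Subgroup.zpowers x ⊔ Q)
        ⟨x, Subgroup.mem_zpowers x⟩ = Subgroup.inclusion le_sup_right ⟨x, hx⟩ := Subtype.ext rfl
    rw [← hψP, e, hψQ]
  · rintro ⟨hQS, hfix⟩
    have hconj : ∀ x ∈ Q, ∀ g ∈ S, g * x * g⁻¹ = x := by
      intro x hx g hg
      apply hfix x hx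
      have hz : Subgroup.zpowers x ≤ S := by
        rw [Subgroup.zpowers_le]
        exact hQS hx
      exact ⟨conjHom _ g, F.conj_mem hz hg, rfl⟩
    apply isCentral_of_aut p hS F hF Q
    intro P hP
    have hPS : P ≤ S := by
      rcases hP with rfl | hP
      · exact le_rfl
      · exact hP.1.1
    have hQP : Q ≤ P := by
      rcases hP with rfl | hP
      · exact hQS
      · refine le_trans ?_ (hP.1.2 P (isConj_refl F hPS))
        intro x hx
        refine ⟨hQS hx, ?_⟩
        show x ∈ Subgroup.centralizer (P : Set Ω)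
        rw [Subgroup.mem_centralizer_iff]
        intro g hg
        have := hconj x hx g (hPS hg)
        calc g * x = (g * x * g⁻¹) * g := by group
          _ = x * g := by rw [this]
    refine ⟨hQP, fun α hα x hx hxP => ?_⟩
    rw [mem_autGroup_iff F hPS] at hα
    apply hfix x hx
    have hz : Subgroup.zpowers x ≤ P := by
      rw [Subgroup.zpowers_le]
      exact hxP
    exact ⟨_, restrict_mem F hz hα, rfl⟩

end Cfsg.Agent.S5084
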