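import Cfsg.Statements.S5085
import Cfsg.Agent.Lib.Helper29.FusionBasic

set_option autoImplicit false
open Cfsg
open Cfsg.Agent.Lib.Helper29

namespace Cfsg.Agent.S5085

/-- In any fusion system, a characteristic subgroup of a subgroup that is normal in the system is itself normal in the system. -/
theorem result {Ω : Type*} [Group Ω] {S : Subgroup Ω} (F : Cfsg.FusionSystem S) (Q U : Subgroup Ω) (hQ : F.IsNormal Q) (hUQ : U ≤ Q) (hU : (U.subgroupOf Q).Characteristic) : F.IsNormal U := by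
  obtain ⟨hQS, hQn⟩ := hQ
  refine ⟨hUQ.trans hQS, ?_⟩
  intro P φ hφ
  obtain ⟨ψ, hψ, hψφ, hψQ⟩ := hQn P φ hφ
  have hle : P ⊔ U ≤ P ⊔ Q := sup_le_sup_left hUQ P
  have hinj := F.injective_of_mem hψ
  refine ⟨ψ.comp (Subgroup.inclusion hle), restrict_mem F hle hψ, ?_, ?_⟩
  · intro x
    exact hψφ x
  · -- the automorphism of Q induced by ψ
    have hmem : ∀ x : Q, ψ ⟨x.1, le_sup_right (a := P) x.2⟩ ∈ Q := by
      intro x
      have h0 : ψ ⟨x.1, le_sup_right (a := P) x.2⟩ ∈ (Q.subgroupOf (P ⊔ Q)).map ψ :=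
        ⟨⟨x.1, le_sup_right (a := P) x.2⟩, x.2, rfl⟩
      rwa [hψQ] at h0
    let f : Q →* Q :=
      { toFun := fun x => ⟨ψ ⟨x.1, le_sup_right (a := P) x.2⟩, hmem x⟩
        map_one' := by
          apply Subtype.ext
          exact map_one ψ
        map_mul' := by
          intro a b
          apply Subtype.ext
          exact map_mul ψ ⟨a.1, le_sup_right (a := P) a.2⟩ ⟨b.1, le_sup_right (a := P) b.2⟩ }
    have hfinj : Function.Injective f := by
      intro a b hab
      have h1 : ψ ⟨a.1, le_sup_right (a := P) a.2⟩ = ψ ⟨b.1, le_sup_right (a := P) b.2⟩ :=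
        congrArg Subtype.val hab
      have h2 := hinj h1
      exact Subtype.ext (congrArg (fun z : ↥(P ⊔ Q) => (z : Ω)) h2)
    have hfsurj : Function.Surjective f := by
      intro y
      have hy : (y : Ω) ∈ (Q.subgroupOf (P ⊔ Q)).map ψ := by rw [hψQ]; exact y.2
      obtain ⟨x, hx, hxy⟩ := hy
      exact ⟨⟨x.1, hx⟩, Subtype.ext hxy⟩
    let α : Q ≃* Q := MulEquiv.ofBijective f ⟨hfinj, hfsurj⟩
    have hfix := hU.fixed α
    have hiff : ∀ x : Q, (f x : Ω) ∈ U ↔ (x : Ω) ∈ U := by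
      intro x
      have : x ∈ (U.subgroupOf Q).comap α.toMonoidHom ↔ x ∈ U.subgroupOf Q := by rw [hfix]
      exact this
    ext y
    constructor
    · rintro ⟨x, hx, rfl⟩
      have hxU : (x : Ω) ∈ U := hx
      exact (hiff ⟨x.1, hUQ hxU⟩).2 hxU
    · intro hy
      obtain ⟨x, hx⟩ := hfsurj ⟨y, hUQ hy⟩
      have hxU : (x : Ω) ∈ U := by
        rw [← hiff, hx]; exact hy
      refine ⟨⟨x.1, le_sup_right (a := P) hxU⟩, hxU, ?_⟩
      exact congrArg Subtype.val hx

end Cfsg.Agent.S5085
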