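import Cfsg.Statements.S5089
import Cfsg.Agent.Lib.Helper29.FusionChain3

set_option autoImplicit false
open Cfsg

namespace Cfsg.Agent.S5089

/-- A saturated fusion system over a finite p-group has a nontrivial subgroup that is normal in the system (O_p(F) ≠ 1) if and only if some nontrivial abelian subgroup is strongly closed in the system. -/
theorem result {Ω : Type*} [Group Ω] {S : Subgroup Ω} [Finite S] (p : ℕ) [Fact p.Prime] (hS : IsPGroup p S) (F : Cfsg.FusionSystem S) (hF : F.IsSaturated p) : F.core ≠ ⊥ ↔ ∃ Q : Subgroup Ω, Q ≠ ⊥ ∧ IsMulCommutative Q ∧ F.StronglyClosed Q := by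
  open Cfsg.Agent.Lib.Helper29 in
  constructor
  · intro hcore
    have hex : ∃ Q : Subgroup Ω, F.IsNormal Q ∧ Q ≠ ⊥ := by
      by_contra hcon
      push Not at hcon
      apply hcore
      rw [eq_bot_iff]
      apply sSup_le
      intro Q hQ
      rw [hcon Q hQ]
    obtain ⟨Q, hQ, hQne⟩ := hex
    have hfin : Finite Q := finite_of_le hQ.1
    have hQp : IsPGroup p Q := hS.to_le hQ.1
    have hnt : Nontrivial Q := (Subgroup.nontrivial_iff_ne_bot Q).2 hQne
    have hZnt : Nontrivial (Subgroup.center Q) := hQp.center_nontrivial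
    refine ⟨(Subgroup.center Q).map Q.subtype, ?_, ?_, ?_⟩
    · intro h
      rw [Subgroup.map_eq_bot_iff_of_injective _ Q.subtype_injective] at h
      exact (Subgroup.nontrivial_iff_ne_bot _).1 hZnt h
    · refine ⟨⟨?_⟩⟩
      rintro ⟨_, a, ha, rfl⟩ ⟨_, b, hb, rfl⟩
      apply Subtype.ext
      show (a : Ω) * (b : Ω) = (b : Ω) * (a : Ω)
      have := (Subgroup.mem_center_iff.1 ha) b
      exact (congrArg Subtype.val this).symm
    · exact stronglyClosed_of_char F hQ.1 (exists_aut_of_isNormal F hQ) (Subgroup.center Q)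
  · rintro ⟨Q, hQne, hcomm, hsc⟩
    have hQn : F.IsNormal Q := by
      apply isNormal_of_chain p hS F hF Q 1 ![⊥, Q] rfl rfl
      · intro i j hij
        fin_cases i <;> fin_cases j
        · exact le_rfl
        · exact bot_le
        · exact absurd hij (by decide)
        · exact le_rfl
      · intro i
        fin_cases i
        refine ⟨hsc, ?_⟩
        show ⁅Q, Q⁆ ≤ ⊥
        rw [Subgroup.commutator_le]
        intro g₁ h₁ g₂ h₂
        rw [Subgroup.mem_bot, commutatorElement_eq_one_iff_mul_comm]
        have := hcomm.is_comm.comm (⟨g₁, h₁⟩ : Q) ⟨g₂, h₂⟩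
        exact congrArg Subtype.val this
    intro hbot
    apply hQne
    rw [eq_bot_iff, ← hbot]
    exact le_sSup hQn

end Cfsg.Agent.S5089
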