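import Cfsg.Statements.S5100
import Cfsg.Agent.S5122

set_option autoImplicit false
open Cfsg
open Cfsg.Agent.Lib.Helper29

namespace Cfsg.Agent.S5100

/-- In the fusion system of a finite group G on a Sylow p-subgroup S, a subgroup P ≤ S is fully normalized if and only if N_S(P) is a Sylow p-subgroup of N_G(P). -/
theorem result {G : Type*} [Group G] [Finite G] (p : ℕ) [Fact p.Prime] (S : Sylow p G) (P : Subgroup G) (hP : P ≤ S) : (Cfsg.groupFusionSystem (S : Subgroup G)).IsFullyNormalized P ↔ ∃ R : Sylow p ↥(Subgroup.normalizer (P : Set G)), (R : Subgroup ↥(Subgroup.normalizer (P : Set G))) = (Cfsg.FusionSystem.normalizerIn (S : Subgroup G) P).subgroupOf (Subgroup.normalizer (P : Set G)) := by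
  change _ ↔ IsSylowSub p (FusionSystem.normalizerIn (S : Subgroup G) P) (Subgroup.normalizer (P : Set G))
  rw [isSylowSub_iff (normalizerIn_le_right _ _)]
  have hpS : ∀ Q : Subgroup G, IsPGroup p (FusionSystem.normalizerIn (S : Subgroup G) Q) :=
    fun Q => S.isPGroup'.to_le (normalizerIn_le_left _ _)
  constructor
  · rintro ⟨-, hfc⟩
    refine ⟨hpS P, ?_⟩
    apply le_antisymm (IsPGroup_card_le (normalizerIn_le_right _ _) (hpS P))
    obtain ⟨g, hgS, hg⟩ := Cfsg.Agent.S5122.part1 p S P hP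
    have h2 := hfc (cj g P) (groupFusionSystem_isConj_iff.2 ⟨hP, hgS, g, rfl⟩)
    rw [isSylowSub_iff (normalizerIn_le_right _ _)] at hg
    rw [hg.2, ← cj_normalizer, card_cj] at h2
    exact h2
  · rintro ⟨-, hc⟩
    refine ⟨hP, ?_⟩
    intro Q hQ
    obtain ⟨-, hQS, g, rfl⟩ := groupFusionSystem_isConj_iff.1 hQ
    rw [hc, ← card_cj g⁻¹]
    apply IsPGroup_card_le _ (isPGroup_cj (hpS _))
    have h3 := cj_mono (g := g⁻¹) (normalizerIn_le_right (S : Subgroup G) (cj g P))
    rwa [cj_normalizer, cj_inv_cj] at h3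

end Cfsg.Agent.S5100
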