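import Cfsg.Statements.S5101
import Cfsg.Agent.Lib.Helper29.GroupFusion

set_option autoImplicit false
open Cfsg
open Cfsg.Agent.Lib.Helper29

namespace Cfsg.Agent.S5101

/-- In the fusion system of a finite group G on a Sylow p-subgroup S, a subgroup P ≤ S is fully centralized if and only if C_S(P) is a Sylow p-subgroup of C_G(P). -/
theorem result {G : Type*} [Group G] [Finite G] (p : ℕ) [Fact p.Prime] (S : Sylow p G) (P : Subgroup G) (hP : P ≤ S) : (Cfsg.groupFusionSystem (S : Subgroup G)).IsFullyCentralized P ↔ ∃ R : Sylow p ↥(Subgroup.centralizer (P : Set G)), (R : Subgroup ↥(Subgroup.centralizer (P : Set G))) = (Cfsg.FusionSystem.centralizerIn (S : Subgroup G) P).subgroupOf (Subgroup.centralizer (P : Set G)) := by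
  change _ ↔ IsSylowSub p (FusionSystem.centralizerIn (S : Subgroup G) P) (Subgroup.centralizer (P : Set G))
  rw [isSylowSub_iff (centralizerIn_le_right _ _)]
  have hpS : ∀ Q : Subgroup G, IsPGroup p (FusionSystem.centralizerIn (S : Subgroup G) Q) :=
    fun Q => S.isPGroup'.to_le (centralizerIn_le_left _ _)
  constructor
  · rintro ⟨-, hfc⟩
    refine ⟨hpS P, ?_⟩
    apply le_antisymm (IsPGroup_card_le (centralizerIn_le_right _ _) (hpS P))
    -- a Sylow subgroup of C_G(P)
    obtain ⟨R⟩ : Nonempty (Sylow p (Subgroup.centralizer (P : Set G))) := inferInstance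
    set R' : Subgroup G := (R : Subgroup (Subgroup.centralizer (P : Set G))).map (Subgroup.subtype _) with hR'
    have hR'c : R' ≤ Subgroup.centralizer (P : Set G) := by
      rintro _ ⟨x, -, rfl⟩
      exact x.2
    have hR'card : Nat.card R' = p ^ (Nat.card (Subgroup.centralizer (P : Set G))).factorization p := by
      rw [hR', Subgroup.card_map_of_injective (Subgroup.subtype_injective _)]
      exact R.card_eq_multiplicity
    have hR'p : IsPGroup p R' := R.isPGroup'.map _
    have hPp : IsPGroup p P := S.isPGroup'.to_le hP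
    have hPR : IsPGroup p (P ⊔ R' : Subgroup G) := by
      apply IsPGroup.to_sup_of_normal_right' hPp hR'p
      exact (Subgroup.le_centralizer_iff.1 hR'c).trans (Subgroup.centralizer_le_normalizer _)
    obtain ⟨g, hg⟩ := exists_cj_le_sylow S hPR
    rw [cj_sup, sup_le_iff] at hg
    have h1 : cj g R' ≤ FusionSystem.centralizerIn (S : Subgroup G) (cj g P) := by
      refine le_inf hg.2 ?_
      rw [← cj_centralizer]
      exact cj_mono hR'c
    have h2 := hfc (cj g P) (groupFusionSystem_isConj_iff.2 ⟨hP, hg.1, g, rfl⟩)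
    rw [← hR'card, ← card_cj g R']
    exact (Subgroup.card_le_of_le h1).trans h2
  · rintro ⟨-, hc⟩
    refine ⟨hP, ?_⟩
    intro Q hQ
    obtain ⟨-, hQS, g, rfl⟩ := groupFusionSystem_isConj_iff.1 hQ
    rw [hc, ← card_cj g⁻¹]
    apply IsPGroup_card_le _ (isPGroup_cj (hpS _))
    have h3 := cj_mono (g := g⁻¹) (centralizerIn_le_right (S : Subgroup G) (cj g P))
    rwa [cj_centralizer, cj_inv_cj] at h3

end Cfsg.Agent.S5101
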