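import Cfsg.Statements.S5102
-- import your own Cfsg.Agent.* helpers here

set_option autoImplicit false
open Cfsg

namespace Cfsg.Agent.S5102

/-- A normal p-subgroup of a finite group G is normal in the fusion system of G on a Sylow p-subgroup. -/
theorem result {G : Type*} [Group G] [Finite G] (p : ℕ) [Fact p.Prime] (S : Sylow p G) (R : Subgroup G) [R.Normal] (hR : IsPGroup p R) : (Cfsg.groupFusionSystem (S : Subgroup G)).IsNormal R := by
  have hRS : R ≤ (S : Subgroup G) := by
    obtain ⟨Q, hQ⟩ := hR.exists_le_sylow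
    obtain ⟨g, hg⟩ := MulAction.exists_smul_eq G Q S
    intro x hx
    rw [← hg]
    rw [Sylow.coe_subgroup_smul, Subgroup.mem_pointwise_smul_iff_inv_smul_mem]
    apply hQ
    have h1 := ‹R.Normal›.conj_mem x hx g⁻¹
    simpa [MulAut.smul_def] using h1
  refine ⟨hRS, ?_⟩
  rintro P φ ⟨hPS, hφS, g, hg⟩
  have hconjR : ∀ x : G, x ∈ R → g * x * g⁻¹ ∈ R := fun x hx => ‹R.Normal›.conj_mem x hx g
  have key : ∀ x : G, x ∈ P ⊔ R → g * x * g⁻¹ ∈ (S : Subgroup G) := by
    intro x hx
    have : P ⊔ R ≤ ((S : Subgroup G)).comap (MulAut.conj g).toMonoidHom := by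
      rw [sup_le_iff]
      constructor
      · intro y hy
        show g * y * g⁻¹ ∈ (S : Subgroup G)
        rw [← hg ⟨y, hy⟩]
        exact hφS _
      · intro y hy
        show g * y * g⁻¹ ∈ (S : Subgroup G)
        exact hRS (hconjR y hy)
    exact this hx
  refine ⟨conjHom (P ⊔ R) g, ⟨sup_le hPS hRS, fun x => key x.1 x.2, g, fun x => rfl⟩, ?_, ?_⟩
  · intro x
    rw [hg]
    rfl
  · ext y
    constructor
    · rintro ⟨x, hx, rfl⟩
      exact hconjR x.1 hx
    · intro hy
      refine ⟨⟨g⁻¹ * y * g, le_sup_right (a := P) ?_⟩, ?_, ?_⟩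
      · have := ‹R.Normal›.conj_mem y hy g⁻¹
        simpa using this
      · show g⁻¹ * y * g ∈ R
        have := ‹R.Normal›.conj_mem y hy g⁻¹
        simpa using this
      · show g * (g⁻¹ * y * g) * g⁻¹ = y
        group

end Cfsg.Agent.S5102
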