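import Cfsg.Statements.S5104
-- import your own Cfsg.Agent.* helpers here

set_option autoImplicit false
open Cfsg

namespace Cfsg.Agent.S5104

/-- In a saturated fusion system over a finite p-group S, a fully centralized subgroup U with C_S(U) ≤ U is centric. -/
theorem result {Ω : Type*} [Group Ω] {S : Subgroup Ω} [Finite S] (p : ℕ) [Fact p.Prime] (hS : IsPGroup p S) (F : Cfsg.FusionSystem S) (hF : F.IsSaturated p) (U : Subgroup Ω) (hU : F.IsFullyCentralized U) (hC : Cfsg.FusionSystem.centralizerIn S U ≤ U) : F.IsCentric U := by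
  obtain ⟨hUS, hfc⟩ := hU
  refine ⟨hUS, ?_⟩
  rintro Q ⟨φ, hφ, rfl⟩
  have hle := hfc φ.range ⟨φ, hφ, rfl⟩
  obtain ⟨-, hφS⟩ := F.le_of_mem hφ
  have hinj := F.injective_of_mem hφ
  -- the map C_S(U) → C_S(φ(U))
  have hmap : ∀ x : FusionSystem.centralizerIn S U, φ ⟨x.1, hC x.2⟩ ∈ FusionSystem.centralizerIn S φ.range := by
    intro x
    refine ⟨hφS _, ?_⟩
    show φ ⟨x.1, hC x.2⟩ ∈ Subgroup.centralizer (φ.range : Set Ω)
    rw [Subgroup.mem_centralizer_iff]
    rintro _ ⟨u, rfl⟩
    have hx : (x : Ω) ∈ Subgroup.centralizer (U : Set Ω) := x.2.2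
    rw [Subgroup.mem_centralizer_iff] at hx
    have h1 := hx u.1 u.2
    rw [← map_mul, ← map_mul]
    congr 1
    exact Subtype.ext h1
  let f : FusionSystem.centralizerIn S U → FusionSystem.centralizerIn S φ.range :=
    fun x => ⟨φ ⟨x.1, hC x.2⟩, hmap x⟩
  have hf : Function.Injective f := by
    intro a b hab
    have h1 : φ ⟨a.1, hC a.2⟩ = φ ⟨b.1, hC b.2⟩ := congrArg Subtype.val hab
    have h2 := hinj h1
    exact Subtype.ext (congrArg (fun z : U => (z : Ω)) h2)
  have : Finite (FusionSystem.centralizerIn S U) :=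
    Finite.of_injective (fun x : FusionSystem.centralizerIn S U => (⟨x.1, x.2.1⟩ : S))
      (fun a b h => Subtype.ext (congrArg (fun z : S => (z : Ω)) h))
  have : Finite (FusionSystem.centralizerIn S φ.range) :=
    Finite.of_injective (fun x : FusionSystem.centralizerIn S φ.range => (⟨x.1, x.2.1⟩ : S))
      (fun a b h => Subtype.ext (congrArg (fun z : S => (z : Ω)) h))
  have hsurj : Function.Surjective f := by
    have hbij : Function.Bijective f := by
      rw [Nat.bijective_iff_injective_and_card]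
      refine ⟨hf, ?_⟩
      exact le_antisymm (Nat.card_le_card_of_injective f hf) hle
    exact hbij.2
  intro y hy
  obtain ⟨x, hx⟩ := hsurj ⟨y, hy⟩
  have : φ ⟨x.1, hC x.2⟩ = y := congrArg Subtype.val hx
  rw [← this]
  exact ⟨_, rfl⟩

end Cfsg.Agent.S5104
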