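import Cfsg.Statements.S5105
import Cfsg.Agent.Lib.Helper29.Coboundary
import Cfsg.Agent.Lib.Helper29.FusionEssential
open Cfsg.Agent.Lib.Helper29

set_option autoImplicit false
open Cfsg

namespace Cfsg.Agent.S5105

/-- Model Theorem, rigidity: if G is a model of a constrained fusion system over a finite p-group S (through ι : S → G), then every automorphism of G fixing ι(S) elementwise is conjugation by ι(z) for some z in the centre of S. -/
theorem result {Ω : Type*} [Group Ω] {S : Subgroup Ω} [Finite S] (p : ℕ) [Fact p.Prime] (hS : IsPGroup p S) (F : Cfsg.FusionSystem S) (hF : F.IsConstrained p) {G : Type*} [Group G] (ι : S →* G) (hG : F.IsModel p G ι) (ψ : G ≃* G) (hψ : ∀ x : S, ψ (ι x) = ι x) : ∃ z : S, z ∈ Subgroup.center S ∧ ∀ g : G, ψ g = ι z * g * (ι z)⁻¹ := by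
  obtain ⟨hfin, ⟨hinj, _⟩, ⟨T, hT⟩, hcen⟩ := hG
  haveI := hfin
  haveI hQn : (pCore p G).Normal := pCore_normal' p
  have hQp : IsPGroup p (pCore p G) := pCore_isPGroup' p
  have hQT : pCore p G ≤ ι.range := hT ▸ pCore_le_sylow' p T
  haveI hCn : (Subgroup.centralizer ((pCore p G : Subgroup G) : Set G)).Normal :=
    Subgroup.normal_centralizer
  have hCcomm : ∀ x y : Subgroup.centralizer ((pCore p G : Subgroup G) : Set G), x * y = y * x := by
    intro x y
    apply Subtype.ext
    exact (Subgroup.mem_centralizer_iff.1 y.2 x.1 (hcen x.2))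
  letI : CommGroup (Subgroup.centralizer ((pCore p G : Subgroup G) : Set G)) :=
    { (inferInstance : Group (Subgroup.centralizer ((pCore p G : Subgroup G) : Set G))) with
      mul_comm := hCcomm }
  have hψQ : ∀ x ∈ pCore p G, ψ x = x := by
    intro x hx
    obtain ⟨s, rfl⟩ := hQT hx
    exact hψ s
  have hfC : ∀ g : G, ψ g * g⁻¹ ∈ Subgroup.centralizer ((pCore p G : Subgroup G) : Set G) := by
    intro g
    rw [Subgroup.mem_centralizer_iff]
    intro x hx
    have h1 : g⁻¹ * x * g ∈ pCore p G := by simpa using hQn.conj_mem x hx g⁻¹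
    have h2 := hψQ _ h1
    rw [map_mul, map_mul, map_inv, hψQ x hx] at h2
    have h3 : x * ψ g = ψ g * (g⁻¹ * x * g) := by
      rw [← h2]
      group
    calc x * (ψ g * g⁻¹) = (x * ψ g) * g⁻¹ := by group
      _ = ψ g * (g⁻¹ * x * g) * g⁻¹ := by rw [h3]
      _ = ψ g * g⁻¹ * x := by group
  have hidx : ¬ p ∣ ι.range.index := by
    rw [← hT]
    exact T.not_dvd_index
  have hcop : p.Coprime ι.range.index := (Nat.Prime.coprime_iff_not_dvd Fact.out).2 hidx
  have hCp : IsPGroup p (Subgroup.centralizer ((pCore p G : Subgroup G) : Set G)) := hQp.to_le hcen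
  obtain ⟨b, hb⟩ := exists_coboundary_of_trivial_on (ι.range)
    (MulAut.conjNormal (H := Subgroup.centralizer ((pCore p G : Subgroup G) : Set G)))
    (fun g => ⟨ψ g * g⁻¹, hfC g⟩)
    (by
      intro g h
      apply Subtype.ext
      show ψ (g * h) * (g * h)⁻¹ = ψ g * g⁻¹ * (g * (ψ h * h⁻¹) * g⁻¹)
      rw [map_mul]
      group)
    (by
      rintro _ ⟨s, rfl⟩
      apply Subtype.ext
      show ψ (ι s) * (ι s)⁻¹ = 1
      rw [hψ s, mul_inv_cancel])
    (hCp.powEquiv hcop).injective (hCp.powEquiv hcop).surjective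
  obtain ⟨z, hz⟩ := hQT (hcen b.2)
  have hψb : ∀ g, ψ g = (b : G) * g * (b : G)⁻¹ := by
    intro g
    have h1 : ψ g * g⁻¹ = (b : G) * (g * (b : G) * g⁻¹)⁻¹ :=
      congrArg (fun c : Subgroup.centralizer ((pCore p G : Subgroup G) : Set G) => (c : G)) (hb g)
    calc ψ g = (ψ g * g⁻¹) * g := by group
      _ = (b : G) * (g * (b : G) * g⁻¹)⁻¹ * g := by rw [h1]
      _ = (b : G) * g * (b : G)⁻¹ := by group
  refine ⟨z, ?_, fun g => by rw [hz]; exact hψb g⟩
  rw [Subgroup.mem_center_iff]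
  intro s
  apply hinj
  rw [map_mul, map_mul, hz]
  have h1 := hψb (ι s)
  rw [hψ s] at h1
  calc ι s * (b : G) = ((b : G) * ι s * (b : G)⁻¹) * (b : G) := by rw [← h1]
    _ = (b : G) * ι s := by group

end Cfsg.Agent.S5105
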