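import Cfsg.Statements.S5107
import Cfsg.Agent.Lib.Helper29.FusionChain3
import Cfsg.Agent.S5076

set_option autoImplicit false
open Cfsg

namespace Cfsg.Agent.S5107

/-- If a Sylow p-subgroup S of a finite group G has nilpotency class at most two and its centre is strongly closed in S with respect to G, then every map of the fusion system of G on S is conjugation by an element of N_G(S), and S is the largest subgroup normal in that fusion system. -/
theorem result {G : Type*} [Group G] [Finite G] (p : ℕ) [Fact p.Prime] (S : Sylow p G) (hcl : ⁅(S : Subgroup G), (S : Subgroup G)⁆ ≤ (S : Subgroup G) ⊓ Subgroup.centralizer ((S : Subgroup G) : Set G)) (hZ : Cfsg.IsStronglyClosed ((S : Subgroup G) ⊓ Subgroup.centralizer ((S : Subgroup G) : Set G)) (S : Subgroup G)) : (∀ (P : Subgroup G) (φ : P →* G), φ ∈ (Cfsg.groupFusionSystem (S : Subgroup G)).Hom P → ∃ g ∈ Subgroup.normalizer ((S : Subgroup G) : Set G), ∀ x : P, φ x = g * (x : G) * g⁻¹) ∧ (Cfsg.groupFusionSystem (S : Subgroup G)).core = S := by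
  open Cfsg.Agent.Lib.Helper29 in
  have hF := Cfsg.Agent.S5076.result p S
  have hS : IsPGroup p (S : Subgroup G) := S.isPGroup'
  have hZsc : (Cfsg.groupFusionSystem (S : Subgroup G)).StronglyClosed
      ((S : Subgroup G) ⊓ Subgroup.centralizer ((S : Subgroup G) : Set G)) := by
    refine ⟨inf_le_left, fun R hR φ hφ x => ?_⟩
    obtain ⟨_, hφS, g, hg⟩ := hφ
    have h1 := hφS x
    rw [hg] at h1 ⊢
    exact hZ.2 _ (hR x.2) g h1
  have hSsc : (Cfsg.groupFusionSystem (S : Subgroup G)).StronglyClosed (S : Subgroup G) := by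
    refine ⟨le_rfl, fun R hR φ hφ x => ?_⟩
    exact hφ.2.1 x
  have hSn : (Cfsg.groupFusionSystem (S : Subgroup G)).IsNormal (S : Subgroup G) := by
    apply isNormal_of_chain p hS _ hF (S : Subgroup G) 2
      ![⊥, (S : Subgroup G) ⊓ Subgroup.centralizer ((S : Subgroup G) : Set G), (S : Subgroup G)] rfl rfl
    · intro i j hij
      fin_cases i <;> fin_cases j
      · exact le_rfl
      · exact bot_le
      · exact bot_le
      · exact absurd hij (by decide)
      · exact le_rfl
      · exact inf_le_left
      · exact absurd hij (by decide)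
      · exact absurd hij (by decide)
      · exact le_rfl
    · intro i
      fin_cases i
      · refine ⟨hZsc, ?_⟩
        show ⁅(S : Subgroup G), (S : Subgroup G) ⊓ Subgroup.centralizer ((S : Subgroup G) : Set G)⁆ ≤ ⊥
        rw [Subgroup.commutator_le]
        intro g₁ h₁ g₂ h₂
        rw [Subgroup.mem_bot, commutatorElement_eq_one_iff_mul_comm]
        exact (Subgroup.mem_centralizer_iff.1 h₂.2 g₁ h₁)
      · exact ⟨hSsc, hcl⟩
  constructor
  · intro P φ hφ
    obtain ⟨ψ, hψ, hψP, hψS⟩ := hSn.2 P φ hφ
    obtain ⟨_, _, g, hg⟩ := hψ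
    refine ⟨g, ?_, fun x => ?_⟩
    · have : Finite ((S : Subgroup G) : Set G) := inferInstance
      apply Subgroup.mem_normalizer_fintype
      intro s hs
      have h1 : ψ (Subgroup.inclusion le_sup_right ⟨s, hs⟩) ∈
          ((S : Subgroup G).subgroupOf (P ⊔ (S : Subgroup G))).map ψ := ⟨_, hs, rfl⟩
      rw [hψS, hg] at h1
      exact h1
    · rw [← hψP, hg]
      rfl
  · apply le_antisymm
    · apply sSup_le
      intro Q hQ
      exact hQ.1
    · exact le_sSup hSn

end Cfsg.Agent.S5107
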