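import Cfsg.Statements.S5111
import Cfsg.Agent.Lib.Helper29.FusionRS2
import Cfsg.Agent.S5077

set_option autoImplicit false
open Cfsg

namespace Cfsg.Agent.S5111

/-- A fusion system over a finite p-group S is saturated if and only if the inner automorphisms of S form a Sylow p-subgroup of Aut_F(S) and every fully normalized subgroup of S is receptive. -/
theorem result {Ω : Type*} [Group Ω] {S : Subgroup Ω} [Finite S] (p : ℕ) [Fact p.Prime] (hS : IsPGroup p S) (F : Cfsg.FusionSystem S) : F.IsSaturated p ↔ (F.IsFullyAutomized p S ∧ ∀ P : Subgroup Ω, F.IsFullyNormalized P → F.IsReceptive P) := by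
  open Cfsg.Agent.Lib.Helper29 in
  constructor
  · intro hF
    have h := (Cfsg.Agent.S5077.result p hS F).1 hF
    exact ⟨(h.1 S (fullyNormalized_top F)).2, fun P hP => h.2 P (h.1 P hP).1⟩
  · rintro ⟨htop, hrec⟩ P hPS
    obtain ⟨Q, hPQ, hQfn⟩ := exists_fullyNormalized_conj F hPS
    exact ⟨Q, hPQ, fullyAutomized_of_fullyNormalized_of_receptive p hS F htop hrec _ Q hQfn rfl,
      hrec Q hQfn⟩

end Cfsg.Agent.S5111
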