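import Cfsg.Statements.S5112
import Mathlib
import Cfsg.Agent.S3116
import Cfsg.Agent.Lib.Helper29.FusionEssential

set_option autoImplicit false
open Cfsg

namespace Cfsg.Agent.S5112

open Cfsg.Agent.Lib.Helper29

lemma quat_aut (k : ℕ) (hk : 2 ≤ k) : IsPGroup 2 (MulAut (QuaternionGroup (2 ^ k))) := by
  haveI : NeZero (2 ^ k) := ⟨by positivity⟩
  haveI : NeZero (2 * 2 ^ k) := ⟨by positivity⟩
  have hx : orderOf (QuaternionGroup.a 1 : QuaternionGroup (2 ^ k)) = 2 ^ (k + 1) := by
    rw [QuaternionGroup.orderOf_a_one, pow_succ]; ring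
  apply Cfsg.Agent.S3116.aut_isPGroup_of_cyclic_index_two (QuaternionGroup.a 1) (k + 1) (by omega) hx
  · have h1 := Subgroup.card_mul_index
      (Subgroup.zpowers (QuaternionGroup.a 1 : QuaternionGroup (2 ^ k)))
    rw [Nat.card_zpowers, hx, Nat.card_eq_fintype_card, QuaternionGroup.card] at h1
    have hpos : 0 < 2 ^ (k + 1) := by positivity
    have h3 : 2 ^ (k + 1) *
        (Subgroup.zpowers (QuaternionGroup.a 1 : QuaternionGroup (2 ^ k))).index =
        2 ^ (k + 1) * 2 := by
      rw [h1, pow_succ]; ring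
    exact Nat.eq_of_mul_eq_mul_left hpos h3
  · intro g hg
    cases g with
    | a i =>
      exfalso; apply hg
      have h2 : (QuaternionGroup.a i : QuaternionGroup (2 ^ k)) =
          (QuaternionGroup.a 1) ^ i.val := by
        rw [QuaternionGroup.a_one_pow, ZMod.natCast_zmod_val]
      rw [h2]; exact Subgroup.pow_mem _ (Subgroup.mem_zpowers _) _
    | xa i =>
      rw [QuaternionGroup.orderOf_xa]
      calc 4 = 2 ^ 2 := by norm_num
        _ < 2 ^ (k + 1) := Nat.pow_lt_pow_right (by norm_num) (by omega)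

/-- If S is a dihedral or generalized quaternion 2-group of order at least 16, then in every saturated fusion system over S (at the prime 2) the automorphism group Aut_F(S) consists of the inner automorphisms of S. -/
theorem result {Ω : Type*} [Group Ω] {S : Subgroup Ω} [Finite S] (n : ℕ) (hn : 4 ≤ n) (hshape : Nonempty (S ≃* DihedralGroup (2 ^ (n - 1))) ∨ Nonempty (S ≃* QuaternionGroup (2 ^ (n - 2)))) (F : Cfsg.FusionSystem S) (hF : F.IsSaturated 2) : F.autGroup S = Cfsg.Inn S := by
  haveI : Fact (Nat.Prime 2) := ⟨Nat.prime_two⟩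
  obtain ⟨Q, hconj, hfa, -⟩ := hF S le_rfl
  have hcard : Nat.card S = Nat.card Q := card_eq_of_isConj F hconj
  have hQS : Q = S := Subgroup.eq_of_le_of_card_ge hfa.1 (le_of_eq hcard)
  rw [hQS] at hfa
  obtain ⟨R, hR⟩ := hfa.2
  have haut : IsPGroup 2 (MulAut S) := by
    rcases hshape with ⟨⟨e⟩⟩ | ⟨⟨e⟩⟩
    · have h2 : IsPGroup 2 S := by
        apply IsPGroup.of_card (n := n)
        rw [Nat.card_congr e.toEquiv, DihedralGroup.nat_card]
        obtain ⟨m, rfl⟩ : ∃ m, n = m + 1 := ⟨n - 1, by omega⟩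
        rw [Nat.add_sub_cancel, pow_succ]; ring
      refine Cfsg.Agent.S3116.result h2 (Or.inl ⟨2 ^ (n - 1), ?_, ⟨e⟩⟩)
      calc 4 = 2 ^ 2 := by norm_num
        _ ≤ 2 ^ (n - 1) := Nat.pow_le_pow_right (by norm_num) (by omega)
    · have h1 := quat_aut (n - 2) (by omega)
      exact h1.of_equiv (MulAut.congr e).symm
  have hA : IsPGroup 2 (F.autGroup S) := haut.to_subgroup _
  have hRtop : (⊤ : Subgroup (F.autGroup S)) = R :=
    R.is_maximal' (hA.to_subgroup ⊤) le_top
  rw [hR] at hRtop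
  have hle : F.autGroup S ≤ autInducedBy S S := Subgroup.subgroupOf_eq_top.mp hRtop.symm
  have hinn : autInducedBy S S ≤ Inn S := by
    unfold autInducedBy
    rw [Subgroup.closure_le]
    rintro α ⟨g, hg, h⟩
    refine ⟨⟨g, hg⟩, ?_⟩
    apply MulEquiv.ext
    intro x
    apply Subtype.ext
    rw [h x]
    rfl
  apply le_antisymm
  · exact hle.trans hinn
  · exact inn_le_autGroup F le_rfl

end Cfsg.Agent.S5112
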