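import Cfsg.Statements.S5118
import Cfsg.Agent.Lib.Helper29.NormalSubsystemExt
import Cfsg.Agent.S5119

set_option autoImplicit false
open Cfsg

namespace Cfsg.Agent.S5118

/-- For a finite group G with Sylow p-subgroup S and a normal subgroup H, the fusion system of H on S ∩ H is a normal subsystem of the fusion system of G on S. -/
theorem result {G : Type*} [Group G] [Finite G] (p : ℕ) [Fact p.Prime] (S : Sylow p G) (H : Subgroup G) [H.Normal] : (Cfsg.fusionSystemOfSubgroup H ((S : Subgroup G) ⊓ H) inf_le_right).IsNormalIn (Cfsg.groupFusionSystem (S : Subgroup G)) p := by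
  open Cfsg.Agent.Lib.Helper29 in
  have hFsat : (groupFusionSystem (S : Subgroup G)).IsSaturated p := Cfsg.Agent.S5076.result p S
  have hEsat : (fusionSystemOfSubgroup H ((S : Subgroup G) ⊓ H) inf_le_right).IsSaturated p :=
    fusionSystemOfSubgroup_saturated p H _ inf_le_right (isSylowSub_inf_normal S H)
  have hsub := subgroupSys_isSubsystemOf (S : Subgroup G) H
  have hsc := stronglyClosed_inf_normal (S : Subgroup G) H
  have hinv : (fusionSystemOfSubgroup H ((S : Subgroup G) ⊓ H) inf_le_right).IsInvariantIn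
      (groupFusionSystem (S : Subgroup G)) :=
    (Cfsg.Agent.S5119.result p S.isPGroup' _ hFsat _ hsub hsc).2 (subgroupSys_strongInv _ H)
  refine ⟨⟨hEsat, hFsat, hinv⟩, ?_⟩
  intro α hα
  rw [mem_autGroup_iff _ le_rfl] at hα
  obtain ⟨_, _, h, hhH, hh⟩ := hα
  have hhN : h ∈ Subgroup.normalizer (((S : Subgroup G) ⊓ H : Subgroup G) : Set G) := by
    apply Subgroup.mem_normalizer_fintype
    intro x hx
    have := hh ⟨x, hx⟩
    have h2 : h * x * h⁻¹ = ((α ⟨x, hx⟩ : ((S : Subgroup G) ⊓ H : Subgroup G)) : G) := this.symm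
    rw [h2]
    exact (α ⟨x, hx⟩).2
  obtain ⟨g, hgH, hgN, hgC, hgx⟩ := exists_normalizing_of_normal S H hhH hhN
  have hgM := mem_normalizer_sup hgN hgC
  have hMS : (S : Subgroup G) ⊓ H ⊔ FusionSystem.centralizerIn (S : Subgroup G) ((S : Subgroup G) ⊓ H) ≤
      (S : Subgroup G) := sup_le inf_le_left inf_le_left
  refine ⟨Subgroup.normalizerMonoidHom _ ⟨g, hgM⟩, ?_, fun x => ?_, fun c hc => ?_⟩
  · rw [mem_autGroup_iff _ hMS]
    exact ⟨hMS, fun x => hMS (Subgroup.normalizerMonoidHom _ ⟨g, hgM⟩ x).2, g, fun x => rfl⟩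
  · show g * (x : G) * g⁻¹ = _
    rw [hgx x x.2]
    exact (hh x).symm
  · have hgc : g * (c : G) * g⁻¹ ∈ FusionSystem.centralizerIn (S : Subgroup G) ((S : Subgroup G) ⊓ H) :=
      (Subgroup.mem_normalizer_iff.1 hgC c).1 hc
    show (c : G)⁻¹ * (g * (c : G) * g⁻¹) ∈ _
    refine ⟨⟨S.mul_mem (S.inv_mem hc.1) hgc.1, ?_⟩, Subgroup.mul_mem _ (Subgroup.inv_mem _ hc.2) hgc.2⟩
    have h1 : (c : G)⁻¹ * g * (c : G)⁻¹⁻¹ ∈ H := Subgroup.Normal.conj_mem inferInstance _ hgH _
    have h2 := H.mul_mem h1 (H.inv_mem hgH)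
    have e : (c : G)⁻¹ * g * (c : G)⁻¹⁻¹ * g⁻¹ = (c : G)⁻¹ * (g * (c : G) * g⁻¹) := by group
    rwa [e] at h2

end Cfsg.Agent.S5118
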