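import Cfsg.Statements.S5128
import Cfsg.Agent.Lib.Helper29.StronglyClosedExt3

set_option autoImplicit false
open Cfsg

namespace Cfsg.Agent.S5128

/-- In a saturated fusion system over a finite p-group S, the product of two strongly closed subgroups is strongly closed. -/
theorem result {Ω : Type*} [Group Ω] {S : Subgroup Ω} [Finite S] (p : ℕ) [Fact p.Prime] (hS : IsPGroup p S) (F : Cfsg.FusionSystem S) (hF : F.IsSaturated p) (T₁ T₂ : Subgroup Ω) (h₁ : F.StronglyClosed T₁) (h₂ : F.StronglyClosed T₂) : F.StronglyClosed (T₁ ⊔ T₂) := by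
  open Cfsg.Agent.Lib.Helper29 in
  open scoped Pointwise in
  refine ⟨sup_le h₁.1 h₂.1, fun R hR φ hφ x => ?_⟩
  obtain ⟨φh, hφh, hmod⟩ := extMod_of_stronglyClosed p hS F hF h₁ hφ
  have hfinT₂ : Finite T₂ := finite_of_le h₂.1
  have hN : T₁ ≤ Subgroup.normalizer (T₂ : Set Ω) := by
    intro g hg
    apply mem_normalizer_of_conj_le'
    intro y hy
    exact stronglyClosed_conj_mem F h₂ (h₁.1 hg) hy
  have hx : (x : Ω) ∈ ((T₁ ⊔ T₂ : Subgroup Ω) : Set Ω) := hR x.2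
  rw [Subgroup.coe_mul_of_left_le_normalizer_right T₁ T₂ hN] at hx
  obtain ⟨t₁, ht₁, t₂, ht₂, hxe⟩ := Set.mem_mul.1 hx
  have ht₁' : t₁ ∈ R ⊔ T₁ := Subgroup.mem_sup_right ht₁
  have ht₂' : t₂ ∈ R ⊔ T₁ := by
    have h1 : t₂ = t₁⁻¹ * (x : Ω) := by rw [← hxe]; group
    rw [h1]
    exact Subgroup.mul_mem _ (Subgroup.inv_mem _ ht₁') (Subgroup.mem_sup_left x.2)
  have e : Subgroup.inclusion (le_sup_left : R ≤ R ⊔ T₁) x = ⟨t₁, ht₁'⟩ * ⟨t₂, ht₂'⟩ :=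
    Subtype.ext hxe.symm
  have h2 : φh (Subgroup.inclusion le_sup_left x) ∈ T₁ ⊔ T₂ := by
    rw [e, map_mul]
    exact Subgroup.mul_mem _ (Subgroup.mem_sup_left (stronglyClosed_hom_mem F h₁ hφh ⟨t₁, ht₁'⟩ ht₁))
      (Subgroup.mem_sup_right (stronglyClosed_hom_mem F h₂ hφh ⟨t₂, ht₂'⟩ ht₂))
  have h3 : φ x = φh (Subgroup.inclusion le_sup_left x) *
      ((φ x)⁻¹ * φh (Subgroup.inclusion le_sup_left x))⁻¹ := by group
  rw [h3]
  exact Subgroup.mul_mem _ h2 (Subgroup.inv_mem _ (Subgroup.mem_sup_left (hmod x)))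

end Cfsg.Agent.S5128
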