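import Cfsg.Statements.S5130
import Cfsg.Agent.Lib.Helper29.DirectFactor
open Cfsg.Agent.Lib.Helper29

set_option autoImplicit false
open Cfsg

namespace Cfsg.Agent.S5130

/-- Let F be a saturated fusion system over a finite p-group S that is the direct product of two subgroups S₁ and S₂, each strongly closed in F. Let R be the full subsystem of F over S₁ (all maps of F between subgroups of S₁) and R′ the subsystem over S₁ of those maps that extend to the subgroup generated with S₂ fixing S₂ elementwise. Then R and R′ are saturated, R′ is normal in F and in R, and R is weakly normal in F. -/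
theorem result {Ω : Type*} [Group Ω] {S : Subgroup Ω} [Finite S] (p : ℕ) [Fact p.Prime] (hS : IsPGroup p S) (F : Cfsg.FusionSystem S) (hF : F.IsSaturated p) (S₁ S₂ : Subgroup Ω) (hprod : Cfsg.IsInternalDirectProduct S₁ S₂ S) (h₁ : F.StronglyClosed S₁) (h₂ : F.StronglyClosed S₂) (R R' : Cfsg.FusionSystem S₁) (hR : ∀ P : Subgroup Ω, P ≤ S₁ → R.Hom P = F.Hom P) (hR' : ∀ P : Subgroup Ω, P ≤ S₁ → R'.Hom P = F.centralizerHom S₂ P) : R.IsSaturated p ∧ R'.IsSaturated p ∧ R'.IsNormalIn F p ∧ R'.IsNormalIn R p ∧ R.IsWeaklyNormalIn F p := by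
  have hc := cprod_of_idp hprod
  have hRsat : R.IsSaturated p := full_subsystem_saturated F hF hc h₁ R hR
  have hR'sat : R'.IsSaturated p := centralizer_subsystem_saturated hS hF hc h₁ h₂ hR'
  have hinv : InvCond R' F := invCond_centralizer hS hF hc h₁ h₂ hR'
  have hfr : FrattiniCond R' F := frattiniCond_centralizer hS hF hc h₁ h₂ hR'
  have hsubF : R'.IsSubsystemOf F := fun P φ hφ => by
    have hP := (R'.le_of_mem hφ).1
    rw [hR' P hP] at hφ
    exact hφ.1
  have hRF : R.IsSubsystemOf F := fun P φ hφ => by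
    have hP := (R.le_of_mem hφ).1
    rw [hR P hP] at hφ
    exact hφ
  have hsubR : R'.IsSubsystemOf R := fun P φ hφ => by
    have hP := (R'.le_of_mem hφ).1
    rw [hR P hP]
    exact hsubF P hφ
  have eaut : R.autGroup S₁ = F.autGroup S₁ := by
    unfold FusionSystem.autGroup
    rw [hR S₁ le_rfl]
  have hRsc : R.StronglyClosed S₁ := ⟨le_rfl, fun Q hQ φ hφ x => (R.le_of_mem hφ).2 x⟩
  have hinvR : InvCond R' R := by
    intro P hP φ hφ α hα
    rw [eaut] at hα
    exact hinv P hP φ hφ α hα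
  have hfrR : FrattiniCond R' R := by
    intro P hP φ hφ
    rw [hR P hP] at hφ
    unfold Good
    rw [eaut]
    exact hfr P hP φ hφ
  have hinvRF : InvCond R F := by
    intro P hP φ hφ α hα
    rw [← eaut] at hα
    obtain ⟨χ, hχ, hχt⟩ := exists_transport hα hφ (isAutImg_map α P)
    exact ⟨χ, hχ, fun x hφx hαx => hχt x (hP x.2) hφx hαx⟩
  have hfrRF : FrattiniCond R F := by
    intro P hP φ hφ
    rw [← hR P hP] at hφ
    exact good_of_mem F hφ
  refine ⟨hRsat, hR'sat, ⟨⟨hR'sat, hF, hsubF, h₁, hinv, hfr⟩, ?_⟩,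
    ⟨⟨hR'sat, hRsat, hsubR, hRsc, hinvR, hfrR⟩, ?_⟩, hRsat, hF, hRF, h₁, hinvRF, hfrRF⟩
  · intro α hα
    exact extCond_centralizer hc hR' hα
  · intro α hα
    exact extCond_centralizer_full hc.le₁ hsubR hα

end Cfsg.Agent.S5130
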