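import Cfsg.Statements.S5135
import Cfsg.Agent.S1910

set_option autoImplicit false
open Cfsg

namespace Cfsg.Agent.S5135

open Subgroup
open Cfsg.Agent.S0520 (cj mem_cj conj_mem_cj cj_mul)

/-- Let G be a finite group, S a Sylow p-subgroup and H a normal subgroup of G. Then the fusion system of G/H on the image SH/H of S is the factor system of the fusion system of G on S modulo S ∩ H, read through the quotient map restricted to S: for each subgroup P' of SH/H, the conjugation maps by elements of G/H defined on P' with values in SH/H are exactly the homomorphisms induced by the conjugation maps by elements of G defined on the full preimage of P' in S with values in S. -/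
theorem result {G : Type*} [Group G] [Finite G] (p : ℕ) [Fact p.Prime] (S : Sylow p G) (H : Subgroup G) [H.Normal] : (Cfsg.groupFusionSystem (S : Subgroup G)).IsFactorSystem ((S : Subgroup G) ⊓ H) ((QuotientGroup.mk' H).comp (S : Subgroup G).subtype) (Cfsg.groupFusionSystem ((S : Subgroup G).map (QuotientGroup.mk' H))) := by
  refine ⟨inf_le_left, ?_, ?_, ?_⟩
  · intro s
    show (QuotientGroup.mk' H) (s : G) = 1 ↔ (s : G) ∈ (S : Subgroup G) ⊓ H
    rw [← MonoidHom.mem_ker, QuotientGroup.ker_mk', Subgroup.mem_inf]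
    exact ⟨fun h => ⟨s.2, h⟩, fun h => h.2⟩
  · rw [MonoidHom.range_comp, Subgroup.range_subtype]
  · intro P' φ'
    constructor
    · rintro ⟨hP', hφ'S, gbar, hg⟩
      refine ⟨hP', ?_⟩
      obtain ⟨g, rfl⟩ := QuotientGroup.mk'_surjective H gbar
      obtain ⟨P, hPdef⟩ : ∃ P : Subgroup G, P = FusionSystem.preimageAlong
        ((QuotientGroup.mk' H).comp (S : Subgroup G).subtype) P' := ⟨_, rfl⟩
      have hPS : P ≤ (S : Subgroup G) := by
        rw [hPdef]; rintro _ ⟨s, -, rfl⟩; exact s.2
      have hPP' : ∀ x ∈ P, (QuotientGroup.mk' H) x ∈ P' := by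
        rw [hPdef]; rintro _ ⟨s, hs, rfl⟩; exact hs
      have h1 : cj g P ≤ (S : Subgroup G) ⊔ H := by
        intro y hy
        rw [mem_cj] at hy
        have h2 := hφ'S ⟨_, hPP' _ hy⟩
        rw [hg] at h2
        have h3 : (QuotientGroup.mk' H) y ∈ (S : Subgroup G).map (QuotientGroup.mk' H) := by
          convert h2 using 1
          simp [mul_assoc]
        obtain ⟨s, hs, hsy⟩ := h3
        have h4 : s⁻¹ * y ∈ H := by
          rw [← QuotientGroup.ker_mk' H, MonoidHom.mem_ker, map_mul, map_inv, hsy]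
          simp
        have e : y = s * (s⁻¹ * y) := by group
        rw [e]
        exact mul_mem (mem_sup_left hs) (mem_sup_right h4)
      have hidx : ¬ p ∣ (S : Subgroup G).relIndex ((S : Subgroup G) ⊔ H) := by
        intro hd
        apply S.not_dvd_index
        rw [← Subgroup.relIndex_mul_index (le_sup_left : (S : Subgroup G) ≤ (S : Subgroup G) ⊔ H)]
        exact dvd_mul_of_dvd_left hd _
      obtain ⟨u, hu, hcj⟩ := Cfsg.Agent.S1910.exists_cj_le_rel S.2 hidx h1 ((S.2.to_le hPS).map _)
      rw [← cj_mul] at hcj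
      rw [Subgroup.mem_sup_of_normal_right] at hu
      obtain ⟨s, hs, n, hn, rfl⟩ := hu
      have hg₁ : ∀ x ∈ P, (n * g) * x * (n * g)⁻¹ ∈ (S : Subgroup G) := by
        intro x hx
        have h2 : (s * n * g) * x * (s * n * g)⁻¹ ∈ (S : Subgroup G) := hcj (conj_mem_cj hx)
        have e : (n * g) * x * (n * g)⁻¹ = s⁻¹ * ((s * n * g) * x * (s * n * g)⁻¹) * s := by group
        rw [e]
        exact mul_mem (mul_mem (inv_mem hs) h2) hs
      have hn1 : (QuotientGroup.mk' H) n = 1 := by
        rw [← MonoidHom.mem_ker, QuotientGroup.ker_mk']; exact hn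
      rw [← hPdef]
      refine ⟨conjHom P (n * g), ⟨hPS, fun x => hg₁ x x.2, n * g, fun x => rfl⟩, ?_⟩
      refine ⟨hPS, fun x => hg₁ x x.2, fun x => hPP' x x.2, ?_⟩
      intro x
      rw [hg]
      show (QuotientGroup.mk' H) g * (QuotientGroup.mk' H) (x : G) * ((QuotientGroup.mk' H) g)⁻¹
        = (QuotientGroup.mk' H) ((n * g) * (x : G) * (n * g)⁻¹)
      simp only [map_mul, map_inv, hn1, mul_inv_rev, inv_one, one_mul, mul_one]
    · rintro ⟨hP'S, φ, ⟨hPS, hφS, g, hg⟩, hP, hφ, hPP', hind⟩
      have key : ∀ x' : P', φ' x' = (QuotientGroup.mk' H) g * (x' : G ⧸ H) * ((QuotientGroup.mk' H) g)⁻¹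
          ∧ φ' x' ∈ (S : Subgroup G).map (QuotientGroup.mk' H) := by
        intro x'
        obtain ⟨s, hs, hsx⟩ := hP'S x'.2
        have hsP : s ∈ FusionSystem.preimageAlong
            ((QuotientGroup.mk' H).comp (S : Subgroup G).subtype) P' := by
          refine ⟨⟨s, hs⟩, ?_, rfl⟩
          show (QuotientGroup.mk' H) s ∈ P'
          rw [hsx]; exact x'.2
        have h1 := hind ⟨s, hsP⟩
        have e : x' = ⟨((QuotientGroup.mk' H).comp (S : Subgroup G).subtype) ⟨s, hP hsP⟩,
            hPP' ⟨s, hsP⟩⟩ := Subtype.ext hsx.symm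
        rw [e, h1]
        constructor
        · show (QuotientGroup.mk' H) (φ ⟨s, hsP⟩) = _
          rw [hg]
          simp only [map_mul, map_inv]
          rfl
        · exact ⟨_, hφ ⟨s, hsP⟩, rfl⟩
      exact ⟨hP'S, fun x' => (key x').2, (QuotientGroup.mk' H) g, fun x' => (key x').1⟩

end Cfsg.Agent.S5135
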