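import Cfsg.Statements.S5136
import Cfsg.Agent.Lib.Helper29.FusionBasic

set_option autoImplicit false
open Cfsg

namespace Cfsg.Agent.S5136

open Subgroup Cfsg.Agent.Lib.Helper29

section

variable {Ω₁ Ω₂ : Type*} [Group Ω₁] [Group Ω₂]

/-- the homomorphism on `P` with given components on the two projections -/
def prodHom (P : Subgroup (Ω₁ × Ω₂)) (φ₁ : P.map (MonoidHom.fst Ω₁ Ω₂) →* Ω₁)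
    (φ₂ : P.map (MonoidHom.snd Ω₁ Ω₂) →* Ω₂) : P →* Ω₁ × Ω₂ :=
  MonoidHom.prod (φ₁.comp ((MonoidHom.fst Ω₁ Ω₂).subgroupMap P))
    (φ₂.comp ((MonoidHom.snd Ω₁ Ω₂).subgroupMap P))

theorem prodHom_apply (P : Subgroup (Ω₁ × Ω₂)) (φ₁ : P.map (MonoidHom.fst Ω₁ Ω₂) →* Ω₁)
    (φ₂ : P.map (MonoidHom.snd Ω₁ Ω₂) →* Ω₂) (x : P)
    (h₁ : (x : Ω₁ × Ω₂).1 ∈ P.map (MonoidHom.fst Ω₁ Ω₂))
    (h₂ : (x : Ω₁ × Ω₂).2 ∈ P.map (MonoidHom.snd Ω₁ Ω₂)) :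
    prodHom P φ₁ φ₂ x = (φ₁ ⟨(x : Ω₁ × Ω₂).1, h₁⟩, φ₂ ⟨(x : Ω₁ × Ω₂).2, h₂⟩) := rfl

theorem fst_mem (P : Subgroup (Ω₁ × Ω₂)) (x : P) :
    (x : Ω₁ × Ω₂).1 ∈ P.map (MonoidHom.fst Ω₁ Ω₂) := ⟨x, x.2, rfl⟩

theorem snd_mem (P : Subgroup (Ω₁ × Ω₂)) (x : P) :
    (x : Ω₁ × Ω₂).2 ∈ P.map (MonoidHom.snd Ω₁ Ω₂) := ⟨x, x.2, rfl⟩

theorem eq_prodHom_iff (P : Subgroup (Ω₁ × Ω₂)) (φ : P →* Ω₁ × Ω₂)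
    (φ₁ : P.map (MonoidHom.fst Ω₁ Ω₂) →* Ω₁) (φ₂ : P.map (MonoidHom.snd Ω₁ Ω₂) →* Ω₂) :
    φ = prodHom P φ₁ φ₂ ↔
      ∀ (x : P) (h₁ : (x : Ω₁ × Ω₂).1 ∈ P.map (MonoidHom.fst Ω₁ Ω₂))
        (h₂ : (x : Ω₁ × Ω₂).2 ∈ P.map (MonoidHom.snd Ω₁ Ω₂)),
        φ x = (φ₁ ⟨(x : Ω₁ × Ω₂).1, h₁⟩, φ₂ ⟨(x : Ω₁ × Ω₂).2, h₂⟩) := by
  constructor
  · rintro rfl x h₁ h₂
    rfl
  · intro h
    ext x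
    · rw [h x (fst_mem P x) (snd_mem P x)]; rfl
    · rw [h x (fst_mem P x) (snd_mem P x)]; rfl

variable {S₁ : Subgroup Ω₁} {S₂ : Subgroup Ω₂}

/-- the direct product of two fusion systems -/
def prodSys (F₁ : FusionSystem S₁) (F₂ : FusionSystem S₂) : FusionSystem (S₁.prod S₂) where
  Hom P := {φ | P ≤ S₁.prod S₂ ∧ ∃ φ₁ ∈ F₁.Hom (P.map (MonoidHom.fst Ω₁ Ω₂)),
    ∃ φ₂ ∈ F₂.Hom (P.map (MonoidHom.snd Ω₁ Ω₂)), φ = prodHom P φ₁ φ₂}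
  le_of_mem := by
    rintro P φ ⟨hP, φ₁, h₁, φ₂, h₂, rfl⟩
    refine ⟨hP, fun x => ?_⟩
    exact Subgroup.mem_prod.2 ⟨(F₁.le_of_mem h₁).2 _, (F₂.le_of_mem h₂).2 _⟩
  injective_of_mem := by
    rintro P φ ⟨hP, φ₁, h₁, φ₂, h₂, rfl⟩ x y hxy
    have e1 : φ₁ ⟨(x : Ω₁ × Ω₂).1, fst_mem P x⟩ = φ₁ ⟨(y : Ω₁ × Ω₂).1, fst_mem P y⟩ :=
      congrArg Prod.fst hxy
    have e2 : φ₂ ⟨(x : Ω₁ × Ω₂).2, snd_mem P x⟩ = φ₂ ⟨(y : Ω₁ × Ω₂).2, snd_mem P y⟩ :=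
      congrArg Prod.snd hxy
    have e1' := congrArg Subtype.val (F₁.injective_of_mem h₁ e1)
    have e2' := congrArg Subtype.val (F₂.injective_of_mem h₂ e2)
    exact Subtype.ext (Prod.ext e1' e2')
  conj_mem := by
    intro P g hP hg
    have hg' := Subgroup.mem_prod.1 hg
    have hP₁ : P.map (MonoidHom.fst Ω₁ Ω₂) ≤ S₁ := by
      rintro _ ⟨x, hx, rfl⟩; exact (Subgroup.mem_prod.1 (hP hx)).1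
    have hP₂ : P.map (MonoidHom.snd Ω₁ Ω₂) ≤ S₂ := by
      rintro _ ⟨x, hx, rfl⟩; exact (Subgroup.mem_prod.1 (hP hx)).2
    refine ⟨hP, conjHom _ g.1, F₁.conj_mem hP₁ hg'.1, conjHom _ g.2, F₂.conj_mem hP₂ hg'.2, ?_⟩
    ext x <;> rfl
  comp_mem := by
    rintro P Q φ ψ ⟨hP, φ₁, h₁, φ₂, h₂, rfl⟩ ⟨hQ, ψ₁, k₁, ψ₂, k₂, rfl⟩ h
    have hm₁ : ∀ y : P.map (MonoidHom.fst Ω₁ Ω₂), φ₁ y ∈ Q.map (MonoidHom.fst Ω₁ Ω₂) := by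
      rintro ⟨_, x, hx, rfl⟩
      exact ⟨_, h ⟨x, hx⟩, rfl⟩
    have hm₂ : ∀ y : P.map (MonoidHom.snd Ω₁ Ω₂), φ₂ y ∈ Q.map (MonoidHom.snd Ω₁ Ω₂) := by
      rintro ⟨_, x, hx, rfl⟩
      exact ⟨_, h ⟨x, hx⟩, rfl⟩
    refine ⟨hP, _, F₁.comp_mem h₁ k₁ hm₁, _, F₂.comp_mem h₂ k₂ hm₂, ?_⟩
    ext x <;> rfl
  inv_mem := by
    rintro P φ ⟨hP, φ₁, h₁, φ₂, h₂, rfl⟩
    obtain ⟨ψ₁, hψ₁, hinv₁⟩ := F₁.inv_mem h₁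
    obtain ⟨ψ₂, hψ₂, hinv₂⟩ := F₂.inv_mem h₂
    have hr₁ : (prodHom P φ₁ φ₂).range.map (MonoidHom.fst Ω₁ Ω₂) = φ₁.range := by
      ext y
      constructor
      · rintro ⟨_, ⟨x, rfl⟩, rfl⟩
        exact ⟨⟨(x : Ω₁ × Ω₂).1, fst_mem P x⟩, rfl⟩
      · rintro ⟨⟨_, x, hx, rfl⟩, rfl⟩
        exact ⟨_, ⟨⟨x, hx⟩, rfl⟩, rfl⟩
    have hr₂ : (prodHom P φ₁ φ₂).range.map (MonoidHom.snd Ω₁ Ω₂) = φ₂.range := by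
      ext y
      constructor
      · rintro ⟨_, ⟨x, rfl⟩, rfl⟩
        exact ⟨⟨(x : Ω₁ × Ω₂).2, snd_mem P x⟩, rfl⟩
      · rintro ⟨⟨_, x, hx, rfl⟩, rfl⟩
        exact ⟨_, ⟨⟨x, hx⟩, rfl⟩, rfl⟩
    refine ⟨prodHom _ (ψ₁.comp (inclusion hr₁.le)) (ψ₂.comp (inclusion hr₂.le)),
      ⟨?_, _, hom_cast_mem F₁ hr₁ hψ₁, _, hom_cast_mem F₂ hr₂ hψ₂, rfl⟩, ?_⟩
    · rintro _ ⟨x, rfl⟩
      exact Subgroup.mem_prod.2 ⟨(F₁.le_of_mem h₁).2 _, (F₂.le_of_mem h₂).2 _⟩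
    · intro x
      apply Prod.ext
      · exact hinv₁ ⟨(x : Ω₁ × Ω₂).1, fst_mem P x⟩
      · exact hinv₂ ⟨(x : Ω₁ × Ω₂).2, snd_mem P x⟩

end

/-- Let F₁ and F₂ be fusion systems over finite p-groups S₁ and S₂ (inside ambient groups Ω₁ and Ω₂). Then their direct product exists: there is a fusion system over S₁ × S₂ inside Ω₁ × Ω₂ whose maps with source P ≤ S₁ × S₂ are exactly the restrictions to P of the homomorphisms (x₁, x₂) ↦ (φ₁ x₁, φ₂ x₂) with φ₁ a map of F₁ on the first projection of P and φ₂ a map of F₂ on the second projection. -/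
theorem result {Ω₁ Ω₂ : Type*} [Group Ω₁] [Group Ω₂] {S₁ : Subgroup Ω₁} {S₂ : Subgroup Ω₂} [Finite S₁] [Finite S₂] (p : ℕ) [Fact p.Prime] (h₁ : IsPGroup p S₁) (h₂ : IsPGroup p S₂) (F₁ : Cfsg.FusionSystem S₁) (F₂ : Cfsg.FusionSystem S₂) : ∃ E : Cfsg.FusionSystem (S₁.prod S₂), Cfsg.FusionSystem.IsProductSystem F₁ F₂ E := by
  refine ⟨prodSys F₁ F₂, ?_⟩
  intro P φ
  constructor
  · rintro ⟨hP, φ₁, k₁, φ₂, k₂, rfl⟩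
    exact ⟨hP, φ₁, k₁, φ₂, k₂, fun x _ _ => rfl⟩
  · rintro ⟨hP, φ₁, k₁, φ₂, k₂, h⟩
    exact ⟨hP, φ₁, k₁, φ₂, k₂, (eq_prodHom_iff P φ φ₁ φ₂).2 h⟩

end Cfsg.Agent.S5136
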