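import Cfsg.Statements.S5330
import Mathlib
import Cfsg.Agent.Lib.Helper25.FusionAbelian

set_option autoImplicit false
open Cfsg

namespace Cfsg.Agent.S5330

open Cfsg.Agent.Lib.Helper25 Cfsg.Agent.Lib.Helper29

/-- the centre of the system is the fixed-point subgroup of `Aut_F(S)` -/
theorem center_eq {Ω : Type*} [Group Ω] {S : Subgroup Ω} [Finite S] {p : ℕ} (F : FusionSystem S)
    (hF : F.IsSaturated p) (hab : ∀ x ∈ S, ∀ y ∈ S, x * y = y * x) :
    F.center = (fixedSub (F.autGroup S)).map S.subtype := by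
  apply le_antisymm
  · unfold FusionSystem.center
    apply sSup_le
    rintro Q ⟨hQS, hQ⟩ x hxQ
    refine ⟨⟨x, hQS hxQ⟩, ?_, rfl⟩
    intro α hα
    rw [mem_autGroup_iff F le_rfl] at hα
    obtain ⟨ψ, hψ, hψ1, hψ2⟩ := hQ S _ hα
    apply Subtype.ext
    have e1 := hψ1 ⟨x, hQS hxQ⟩
    have e2 := hψ2 ⟨x, hxQ⟩
    have e3 : Subgroup.inclusion (le_sup_left : S ≤ S ⊔ Q) ⟨x, hQS hxQ⟩
        = Subgroup.inclusion (le_sup_right : Q ≤ S ⊔ Q) ⟨x, hxQ⟩ := Subtype.ext rfl
    rw [e3, e2] at e1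
    exact e1.symm
  · apply le_sSup
    refine ⟨Subgroup.map_subtype_le _, ?_⟩
    intro P φ hφ
    have hPS : P ≤ S := le_of_hom_mem F hφ
    obtain ⟨α, hα, hαφ⟩ := exists_aut_ext F hF hab hφ
    have hα' := (mem_autGroup_iff F le_rfl).mp hα
    have hsup : P ⊔ (fixedSub (F.autGroup S)).map S.subtype ≤ S :=
      sup_le hPS (Subgroup.map_subtype_le _)
    refine ⟨(S.subtype.comp α.toMonoidHom).comp (Subgroup.inclusion hsup),
      restrict_mem F hsup hα', ?_, ?_⟩
    · intro x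
      exact hαφ x (hPS x.2)
    · rintro ⟨x, c, hc, rfl⟩
      exact congrArg Subtype.val (hc α hα)

/-- the focal subgroup is `[S, Aut_F(S)]` -/
theorem focal_eq {Ω : Type*} [Group Ω] {S : Subgroup Ω} [Finite S] {p : ℕ} (F : FusionSystem S)
    (hF : F.IsSaturated p) (hab : ∀ x ∈ S, ∀ y ∈ S, x * y = y * x) :
    F.focalSubgroup = (commSub (F.autGroup S)).map S.subtype := by
  apply le_antisymm
  · unfold FusionSystem.focalSubgroup
    rw [Subgroup.closure_le]
    rintro y ⟨P, φ, x, hφ, rfl⟩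
    have hPS : P ≤ S := le_of_hom_mem F hφ
    obtain ⟨α, hα, hαφ⟩ := exists_aut_ext F hF hab hφ
    refine ⟨(⟨x, hPS x.2⟩ : S)⁻¹ * α ⟨x, hPS x.2⟩, gen_mem_commSub hα _, ?_⟩
    rw [← hαφ x (hPS x.2)]
    rfl
  · unfold commSub
    rw [MonoidHom.map_closure, Subgroup.closure_le]
    rintro _ ⟨_, ⟨α, hα, s, rfl⟩, rfl⟩
    apply Subgroup.subset_closure
    exact ⟨S, S.subtype.comp α.toMonoidHom, s, (mem_autGroup_iff F le_rfl).mp hα, rfl⟩

/-- Let F be a saturated fusion system over a finite abelian p-group S. Then S is the internal direct product of the centre of the system and the focal subgroup: Z(F) ∩ foc(F) = 1 and Z(F)·foc(F) = S. -/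
theorem result {Ω : Type*} [Group Ω] {S : Subgroup Ω} [Finite S] (p : ℕ) [Fact p.Prime] (hS : IsPGroup p S) (F : Cfsg.FusionSystem S) (hF : F.IsSaturated p) (hab : ∀ x ∈ S, ∀ y ∈ S, x * y = y * x) : F.center ⊓ F.focalSubgroup = ⊥ ∧ F.center ⊔ F.focalSubgroup = S := by
  obtain ⟨h1, h2⟩ := fusion_decomp hS F hF hab
  rw [center_eq F hF hab, focal_eq F hF hab]
  constructor
  · rw [← Subgroup.map_inf _ _ S.subtype S.subtype_injective, h1, Subgroup.map_bot]
  · rw [← Subgroup.map_sup, h2, ← MonoidHom.range_eq_map, Subgroup.range_subtype]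

end Cfsg.Agent.S5330
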