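import Cfsg.Statements.S5337
import Mathlib
import Cfsg.Agent.Lib.Helper25.FusionAbelian

set_option autoImplicit false
open Cfsg

namespace Cfsg.Agent.S5337

open Cfsg.Agent.Lib.Helper25 Cfsg.Agent.Lib.Helper29

/-- over an abelian `S`, the inner system of a strongly closed subgroup is a normal subsystem -/
theorem inner_isNormalIn {Ω : Type*} [Group Ω] {S : Subgroup Ω} [Finite S] {p : ℕ} [Fact p.Prime]
    (hS : IsPGroup p S) (F : FusionSystem S) (hF : F.IsSaturated p)
    (hab : ∀ x ∈ S, ∀ y ∈ S, x * y = y * x) {T : Subgroup Ω} (hT : F.StronglyClosed T) :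
    (innerFusionSystem T).IsNormalIn F p := by
  have hTS : T ≤ S := hT.1
  haveI : Finite T := finite_of_le hTS
  have hTp : IsPGroup p T := by
    intro g
    obtain ⟨k, hk⟩ := hS ⟨g, hTS g.2⟩
    refine ⟨k, Subtype.ext ?_⟩
    have := congrArg Subtype.val hk
    simpa using this
  have hE : ∀ (P : Subgroup Ω) (φ : P →* Ω), φ ∈ (innerFusionSystem T).Hom P →
      (P ≤ T ∧ ∀ x : P, φ x = x) := by
    rintro P φ ⟨hPT, g, hg, h⟩
    refine ⟨hPT, fun x => ?_⟩
    rw [h x, hab g (hTS hg) x (hTS (hPT x.2))]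
    simp
  refine ⟨⟨innerFusionSystem_isSaturated hTp, hF, ?_, hT, ?_, ?_⟩, ?_⟩
  · rintro P φ ⟨hPT, g, hg, h⟩
    have h1 : φ = conjHom P g := by
      ext x
      exact h x
    rw [h1]
    exact F.conj_mem (hPT.trans hTS) (hTS hg)
  · intro P hPT φ hφ α hα
    obtain ⟨-, hφx⟩ := hE P φ hφ
    refine ⟨Subgroup.subtype _, subtype_mem _ ?_, ?_⟩
    · rintro _ ⟨y, -, rfl⟩
      exact (α y).2
    · intro x hφx' hαx
      have e : (⟨φ x, hφx'⟩ : T) = ⟨x, hPT x.2⟩ := Subtype.ext (hφx x)
      rw [e]
      rfl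
  · intro P hPT φ hφ
    obtain ⟨α', hα', hαφ⟩ := exists_aut_ext F hF hab hφ
    have hα'' := (mem_autGroup_iff F le_rfl).mp hα'
    have hψ := restrict_mem F hTS hα''
    obtain ⟨α, hα, hαψ⟩ := exists_aut_of_hom F hψ (fun x => hT.2 T le_rfl _ hψ x)
    refine ⟨α, hα, P.subtype, subtype_mem _ hPT, ?_⟩
    intro x hx
    rw [hαψ]
    exact (hαφ x (hTS (hPT x.2))).symm
  · intro α hα
    have hα1 : ∀ x : T, α x = x := by
      intro x
      have h1 := (mem_autGroup_iff (innerFusionSystem T) le_rfl).mp hα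
      obtain ⟨-, h2⟩ := hE T _ h1
      exact Subtype.ext (h2 x)
    refine ⟨1, Subgroup.one_mem _, fun x => ?_, fun c hc => ?_⟩
    · rw [hα1 x]
      rfl
    · show (c : Ω)⁻¹ * (c : Ω) ∈ _
      rw [inv_mul_cancel]
      exact Subgroup.one_mem _

/-- Let F be a saturated fusion system over a finite abelian p-group S. Then F is simple if and only if S has order p and F is the inner system of S (whose only maps are the inclusions, S being abelian). -/
theorem result {Ω : Type*} [Group Ω] {S : Subgroup Ω} [Finite S] (p : ℕ) [Fact p.Prime] (hS : IsPGroup p S) (F : Cfsg.FusionSystem S) (hF : F.IsSaturated p) (hab : ∀ x ∈ S, ∀ y ∈ S, x * y = y * x) : F.IsSimple p ↔ (Nat.card S = p ∧ ∀ P : Subgroup Ω, F.Hom P = (Cfsg.innerFusionSystem S).Hom P) := by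
  have hp : p.Prime := Fact.out
  constructor
  · rintro ⟨-, hne, hsimple⟩
    have hStop : F.StronglyClosed S := ⟨le_rfl, fun R hR φ hφ x => (F.le_of_mem hφ).2 x⟩
    have hinner : ∀ P, F.Hom P = (innerFusionSystem S).Hom P := by
      rcases hsimple S _ (inner_isNormalIn hS F hF hab hStop) with h | ⟨-, h⟩
      · exact absurd h hne
      · intro P
        exact (h P).symm
    refine ⟨?_, hinner⟩
    have hcard : p ∣ Nat.card S := by
      obtain ⟨n, hn⟩ := IsPGroup.iff_card.mp hS
      rw [hn]
      rcases n with _ | n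
      · exfalso
        apply hne
        rw [pow_zero] at hn
        exact Subgroup.card_eq_one.mp hn
      · exact dvd_pow_self p (Nat.succ_ne_zero n)
    obtain ⟨t, ht⟩ := exists_prime_orderOf_dvd_card' p hcard
    set T : Subgroup Ω := Subgroup.zpowers (t : Ω) with hTdef
    have hTS : T ≤ S := by
      rw [hTdef, Subgroup.zpowers_le]
      exact t.2
    have hT : F.StronglyClosed T := by
      refine ⟨hTS, fun R hR φ hφ x => ?_⟩
      rw [hinner R] at hφ
      obtain ⟨hRS, g, hg, h⟩ := hφ
      rw [h x, hab g hg x (hRS x.2)]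
      simpa using hR x.2
    have hcardT : Nat.card T = p := by
      rw [hTdef, Nat.card_zpowers, Subgroup.orderOf_coe, ht]
    rcases hsimple T _ (inner_isNormalIn hS F hF hab hT) with h | ⟨h, -⟩
    · exfalso
      rw [h, Subgroup.card_bot] at hcardT
      exact hp.one_lt.ne hcardT
    · rw [← h]
      exact hcardT
  · rintro ⟨hcard, hinner⟩
    refine ⟨hF, ?_, ?_⟩
    · intro h
      rw [h, Subgroup.card_bot] at hcard
      exact hp.one_lt.ne hcard
    · intro T E hE
      have hTS : T ≤ S := hE.1.2.2.2.1.1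
      have hsub : E.IsSubsystemOf F := hE.1.2.2.1
      have hdvd : Nat.card T ∣ p := by
        rw [← hcard]
        exact Subgroup.card_dvd_of_le hTS
      rcases (Nat.dvd_prime hp).mp hdvd with h1 | h1
      · left
        exact Subgroup.card_eq_one.mp h1
      · right
        have hTeq : T = S := Subgroup.eq_of_le_of_card_ge hTS (by rw [h1, hcard])
        subst hTeq
        refine ⟨rfl, fun P => ?_⟩
        apply Set.Subset.antisymm (hsub P)
        intro φ hφ
        rw [hinner P] at hφ
        obtain ⟨hPS, g, hg, h⟩ := hφ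
        have h2 : φ = conjHom P g := by
          ext x
          exact h x
        rw [h2]
        exact E.conj_mem hPS hg

end Cfsg.Agent.S5337
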