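import Cfsg.Statements.S5148
import Mathlib
import Cfsg.Agent.S5330
import Cfsg.Agent.S5337
import Cfsg.Agent.Lib.Helper29.FactorSystemExists
import Cfsg.Agent.Lib.Helper29.FusionHyp

set_option autoImplicit false
open Cfsg

namespace Cfsg.Agent.S5148

open Cfsg.Agent.Lib.Helper25 Cfsg.Agent.Lib.Helper29

/-- A quasisimple fusion system over a finite p-group S (saturated, equal to its p-residual subsystem, with simple — in particular nontrivial — factor system modulo its centre) has S nonabelian. -/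
theorem result {Ω : Type*} [Group Ω] {S : Subgroup Ω} [Finite S] (p : ℕ) [Fact p.Prime] (hS : IsPGroup p S) (F : Cfsg.FusionSystem S) (hq : F.Quasisimple p) : ¬ IsMulCommutative S := by
  intro hcommS
  haveI := hcommS
  obtain ⟨hF, hhyp, hsimple⟩ := hq
  have hab : ∀ x ∈ S, ∀ y ∈ S, x * y = y * x := fun x hx y hy =>
    congrArg Subtype.val (mul_comm' (⟨x, hx⟩ : S) ⟨y, hy⟩)
  -- the centre is trivial
  obtain ⟨h1, h2⟩ := Cfsg.Agent.S5330.result p hS F hF hab
  have hfoc : F.focalSubgroup = S := by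
    apply le_antisymm
    · exact (le_sup_right : F.focalSubgroup ≤ F.center ⊔ F.focalSubgroup).trans h2.le
    · rw [focal_eq_hyperfocal_sup p hS F hF, hhyp]
      exact le_sup_left
  have hcS : F.center ≤ S :=
    (le_sup_left : F.center ≤ F.center ⊔ F.focalSubgroup).trans h2.le
  have hc : F.center = ⊥ := by
    rw [hfoc] at h1
    rwa [inf_eq_left.mpr hcS] at h1
  -- the factor system
  have hsc : F.StronglyClosed F.center := by
    rw [hc]
    exact stronglyClosed_bot F
  set θ := QuotientGroup.mk' ((F.center).subgroupOf S) with hθ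
  have hker : ∀ s : S, θ s = 1 ↔ (s : Ω) ∈ F.center := by
    intro s
    rw [hθ, QuotientGroup.mk'_apply, QuotientGroup.eq_one_iff, Subgroup.mem_subgroupOf]
  have hrange : θ.range = ⊤ := MonoidHom.range_eq_top.mpr (QuotientGroup.mk'_surjective _)
  have hEfac := factorSys_isFactorSystem F hsc θ hker hrange
  have hEsimple := hsimple _ hEfac
  have hQab : ∀ x ∈ (⊤ : Subgroup (S ⧸ (F.center).subgroupOf S)),
      ∀ y ∈ (⊤ : Subgroup (S ⧸ (F.center).subgroupOf S)), x * y = y * x := by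
    intro x _ y _
    obtain ⟨a, rfl⟩ := QuotientGroup.mk_surjective x
    obtain ⟨b, rfl⟩ := QuotientGroup.mk_surjective y
    rw [← QuotientGroup.mk_mul, ← QuotientGroup.mk_mul, mul_comm' a b]
  have hQp : IsPGroup p (⊤ : Subgroup (S ⧸ (F.center).subgroupOf S)) :=
    (hS.to_quotient _).to_subgroup ⊤
  obtain ⟨hcardE, hEinner⟩ :=
    (Cfsg.Agent.S5337.result p hQp _ hEsimple.1 hQab).mp hEsimple
  -- all maps of `F` are inclusions
  have hmor := (factorSystem_surjectiveMorphism p hS F hF F.center hsc θ _ hEfac).1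
  have hFincl : ∀ (P : Subgroup Ω) (φ : P →* Ω), φ ∈ F.Hom P → ∀ x : P, φ x = x := by
    intro P φ hφ x
    obtain ⟨φ', hφ', hPS, hφS, hP', hind⟩ := hmor.2 P φ hφ
    rw [hEinner] at hφ'
    obtain ⟨-, g, -, hg⟩ := hφ'
    have h3 := hind x
    rw [hg] at h3
    have h4 : g * (θ ⟨x, hPS x.2⟩) * g⁻¹ = θ ⟨x, hPS x.2⟩ := by
      rw [hQab g trivial _ trivial, mul_inv_cancel_right]
    have h5 : θ ⟨x, hPS x.2⟩ = θ ⟨φ x, hφS x⟩ := h4.symm.trans h3
    have h6 : θ ((⟨x, hPS x.2⟩ : S)⁻¹ * ⟨φ x, hφS x⟩) = 1 := by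
      rw [map_mul, map_inv, h5, inv_mul_cancel]
    have h7 := (hker _).mp h6
    rw [hc, Subgroup.mem_bot] at h7
    have h8 : ((x : Ω))⁻¹ * φ x = 1 := h7
    exact (inv_mul_eq_one.mp h8).symm
  -- the hyperfocal subgroup is trivial
  have hhypbot : F.hyperfocalSubgroup p = ⊥ := by
    unfold FusionSystem.hyperfocalSubgroup
    rw [Subgroup.closure_eq_bot_iff]
    rintro y ⟨P, α, x, hPS, -, rfl⟩
    have hα := (mem_autGroup_iff F hPS).mp α.2
    have h7 : (((α : MulAut P) x : P) : Ω) = x := hFincl P _ hα x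
    rw [Set.mem_singleton_iff, h7, inv_mul_cancel]
  rw [hhyp] at hhypbot
  apply hEsimple.2.1
  rw [eq_bot_iff]
  intro y _
  obtain ⟨a, rfl⟩ := QuotientGroup.mk_surjective y
  have ha : a = 1 := Subtype.ext (Subgroup.mem_bot.mp (hhypbot.le a.2))
  rw [ha]
  exact Subgroup.one_mem _

end Cfsg.Agent.S5148
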