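import Cfsg.Statements.S5164
import Mathlib

set_option autoImplicit false
open Cfsg

namespace Cfsg.Agent.S5164

theorem comm_of_card_dvd_prime {K : Type*} [Group K] [Finite K] {p : ℕ} (hp : p.Prime)
    (h : Nat.card K ∣ p) (a b : K) : a * b = b * a := by
  rcases (Nat.dvd_prime hp).mp h with h1 | h1
  · haveI : Subsingleton K := (Nat.card_eq_one_iff_unique.mp h1).1
    exact Subsingleton.elim _ _
  · haveI : Fact p.Prime := ⟨hp⟩
    haveI := isCyclic_of_prime_card h1
    letI := IsCyclic.commGroup (α := K)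
    exact mul_comm a b

/-- a `p`-group of permutations of fewer than `p ^ 2` points is commutative -/
theorem comm_of_lt_sq {n p : ℕ} [hp : Fact p.Prime] (hn : n < p ^ 2)
    (P : Subgroup (Equiv.Perm (Fin n))) (hP : IsPGroup p P) (σ τ : Equiv.Perm (Fin n))
    (hσ : σ ∈ P) (hτ : τ ∈ P) : σ * τ = τ * σ := by
  have hpp := hp.out
  refine Equiv.ext fun a => ?_
  let O := MulAction.orbit P a
  haveI : Finite O := Subtype.finite
  obtain ⟨k, hk⟩ := hP.card_orbit a
  have hle : Nat.card O ≤ n := by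
    have := Nat.card_le_card_of_injective (Subtype.val : O → Fin n) Subtype.val_injective
    rwa [Nat.card_fin] at this
  have hk1 : k ≤ 1 := by
    by_contra hcon
    push Not at hcon
    have : p ^ 2 ≤ p ^ k := Nat.pow_le_pow_right hpp.pos hcon
    have hk' : Nat.card O = p ^ k := hk
    omega
  let φ : P →* Equiv.Perm O := MulAction.toPermHom P O
  have hrP : IsPGroup p φ.range := hP.of_surjective φ.rangeRestrict φ.rangeRestrict_surjective
  obtain ⟨j, hj⟩ := hrP.exists_card_eq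
  have hdvd : Nat.card φ.range ∣ p.factorial := by
    have h1 : Nat.card φ.range ∣ Nat.card (Equiv.Perm O) := Subgroup.card_subgroup_dvd_card _
    rw [Nat.card_perm] at h1
    have hk' : Nat.card O = p ^ k := hk
    have h2 : Nat.card O ≤ p := by
      rw [hk']
      calc p ^ k ≤ p ^ 1 := Nat.pow_le_pow_right hpp.pos hk1
        _ = p := pow_one p
    exact h1.trans (Nat.factorial_dvd_factorial h2)
  have hj1 : j ≤ 1 := by
    by_contra hcon
    push Not at hcon
    have h1 : p ^ 2 ∣ p.factorial := (pow_dvd_pow p hcon).trans (hj ▸ hdvd)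
    obtain ⟨q, rfl⟩ : ∃ q, p = q + 1 := ⟨p - 1, by have := hpp.pos; omega⟩
    rw [Nat.factorial_succ, pow_two] at h1
    have h2 : (q + 1) ∣ q.factorial := Nat.dvd_of_mul_dvd_mul_left (Nat.succ_pos q) h1
    have h3 := (hpp.dvd_factorial).mp h2
    omega
  have hcard : Nat.card φ.range ∣ p := by
    rw [hj]
    calc p ^ j ∣ p ^ 1 := pow_dvd_pow p hj1
      _ = p := pow_one p
  have hcomm := comm_of_card_dvd_prime hpp hcard ⟨φ ⟨σ, hσ⟩, ⟨_, rfl⟩⟩ ⟨φ ⟨τ, hτ⟩, ⟨_, rfl⟩⟩
  have hcomm' : φ ⟨σ, hσ⟩ * φ ⟨τ, hτ⟩ = φ ⟨τ, hτ⟩ * φ ⟨σ, hσ⟩ := congrArg Subtype.val hcomm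
  have h3 := congrArg (fun f : Equiv.Perm O => ((f ⟨a, MulAction.mem_orbit_self a⟩ : O) : Fin n))
    hcomm'
  exact h3

/-- if a Sylow `p`-subgroup is commutative then so is every `p`-subgroup -/
theorem comm_of_sylow_comm {G : Type*} [Group G] [Finite G] {p : ℕ} [Fact p.Prime]
    (S : Sylow p G) (hS : IsMulCommutative S) (Q : Subgroup G) (hQ : IsPGroup p Q) (a b : G)
    (ha : a ∈ Q) (hb : b ∈ Q) : a * b = b * a := by
  obtain ⟨S', hQS'⟩ := hQ.exists_le_sylow
  obtain ⟨g, hg⟩ := MulAction.exists_smul_eq G S S'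
  have key : ∀ x ∈ (S' : Subgroup G), g⁻¹ * x * g ∈ (S : Subgroup G) := by
    intro x hx
    rw [← hg, Sylow.coe_subgroup_smul, Subgroup.mem_pointwise_smul_iff_inv_smul_mem] at hx
    have e : (MulAut.conj g)⁻¹ • x = g⁻¹ * x * g := by
      rw [← map_inv, MulAut.smul_def, MulAut.conj_apply, inv_inv]
    rwa [e] at hx
  have h1 := key a (hQS' ha)
  have h2 := key b (hQS' hb)
  have h3 : (⟨_, h1⟩ : S) * ⟨_, h2⟩ = ⟨_, h2⟩ * ⟨_, h1⟩ := hS.is_comm.comm _ _
  have h4 : (g⁻¹ * a * g) * (g⁻¹ * b * g) = (g⁻¹ * b * g) * (g⁻¹ * a * g) :=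
    congrArg Subtype.val h3
  calc a * b = g * ((g⁻¹ * a * g) * (g⁻¹ * b * g)) * g⁻¹ := by group
    _ = g * ((g⁻¹ * b * g) * (g⁻¹ * a * g)) * g⁻¹ := by rw [h4]
    _ = b * a := by group


/-! ### the Heisenberg group acting on `ZMod p × ZMod p` -/

section heis
variable (p : ℕ) [hp : Fact p.Prime]

/-- `(a, b) ↦ (a + c, b + d * a + e)` -/
def heis (u : ZMod p × ZMod p × ZMod p) : Equiv.Perm (ZMod p × ZMod p) where
  toFun x := (x.1 + u.1, x.2 + u.2.1 * x.1 + u.2.2)
  invFun x := (x.1 - u.1, x.2 - u.2.1 * (x.1 - u.1) - u.2.2)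
  left_inv x := Prod.ext (by dsimp only; ring) (by dsimp only; ring)
  right_inv x := Prod.ext (by dsimp only; ring) (by dsimp only; ring)

theorem heis_apply (u : ZMod p × ZMod p × ZMod p) (x : ZMod p × ZMod p) :
    heis p u x = (x.1 + u.1, x.2 + u.2.1 * x.1 + u.2.2) := rfl

theorem heis_mul (u v : ZMod p × ZMod p × ZMod p) :
    heis p u * heis p v = heis p (u.1 + v.1, u.2.1 + v.2.1, u.2.2 + v.2.2 + u.2.1 * v.1) := by
  refine Equiv.ext fun x => ?_
  rw [Equiv.Perm.mul_apply, heis_apply, heis_apply, heis_apply]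
  exact Prod.ext (by dsimp only; ring) (by dsimp only; ring)

theorem heis_one : heis p (0, 0, 0) = 1 := by
  refine Equiv.ext fun x => ?_
  rw [heis_apply]
  exact Prod.ext (by simp) (by simp)

theorem heis_inv (u : ZMod p × ZMod p × ZMod p) :
    (heis p u)⁻¹ = heis p (-u.1, -u.2.1, -u.2.2 + u.2.1 * u.1) := by
  apply inv_eq_of_mul_eq_one_right
  rw [heis_mul, ← heis_one]
  congr 1
  refine Prod.ext (by simp) (Prod.ext (by simp) (by dsimp only; ring))

theorem heis_injective : Function.Injective (heis p) := by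
  intro u v h
  have h0 := congrArg (fun f : Equiv.Perm (ZMod p × ZMod p) => f (0, 0)) h
  have h1 := congrArg (fun f : Equiv.Perm (ZMod p × ZMod p) => f (1, 0)) h
  simp only [heis_apply] at h0 h1
  have e1 : u.1 = v.1 := by simpa using congrArg Prod.fst h0
  have e3 : u.2.2 = v.2.2 := by simpa using congrArg Prod.snd h0
  have e2 : u.2.1 = v.2.1 := by
    have := congrArg Prod.snd h1
    simp only [mul_one, zero_add] at this
    rw [e3] at this
    exact add_right_cancel this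
  exact Prod.ext e1 (Prod.ext e2 e3)

/-- the Heisenberg group as a subgroup of `Perm (ZMod p × ZMod p)` -/
def heisSubgroup : Subgroup (Equiv.Perm (ZMod p × ZMod p)) where
  carrier := Set.range (heis p)
  mul_mem' := by
    rintro _ _ ⟨u, rfl⟩ ⟨v, rfl⟩
    exact ⟨_, (heis_mul p u v).symm⟩
  one_mem' := ⟨(0, 0, 0), heis_one p⟩
  inv_mem' := by
    rintro _ ⟨u, rfl⟩
    exact ⟨_, (heis_inv p u).symm⟩

theorem isPGroup_heisSubgroup : IsPGroup p (heisSubgroup p) := by
  have hcard : Nat.card (heisSubgroup p) = p ^ 3 := by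
    have h1 : Nat.card (heisSubgroup p) = Nat.card (Set.range (heis p)) := rfl
    rw [h1, Nat.card_range_of_injective (heis_injective p), Nat.card_prod, Nat.card_prod,
      Nat.card_zmod]
    ring
  exact IsPGroup.of_card hcard

theorem heis_noncomm :
    heis p (1, 0, 0) * heis p (0, 1, 0) ≠ heis p (0, 1, 0) * heis p (1, 0, 0) := by
  rw [heis_mul, heis_mul]
  intro h
  have h1 := heis_injective p h
  have h2 : ((0 : ZMod p) + 0 + 0 * 0) = 0 + 0 + 1 * 1 := congrArg (fun t => t.2.2) h1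
  haveI : Fact (1 < p) := ⟨hp.out.one_lt⟩
  simp at h2

end heis


theorem sign_via {α : Type*} [Fintype α] [DecidableEq α] {n : ℕ} (ι : α ↪ Fin n)
    (e : Equiv.Perm α) : Equiv.Perm.sign (Equiv.Perm.viaEmbeddingHom ι e) = Equiv.Perm.sign e := by
  rw [Equiv.Perm.viaEmbeddingHom_apply]
  unfold Equiv.Perm.viaEmbedding
  convert Equiv.Perm.sign_extendDomain e (Equiv.ofInjective ι.1 ι.2)

/-- transport a noncommutative even `p`-group of permutations into `A_n` -/
theorem exists_noncomm {α : Type*} [Fintype α] [DecidableEq α] {n p : ℕ} [Fact p.Prime]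
    (hcard : Fintype.card α ≤ n) (H : Subgroup (Equiv.Perm α)) (hH : IsPGroup p H)
    (heven : ∀ h ∈ H, Equiv.Perm.sign h = 1) (x y : Equiv.Perm α) (hx : x ∈ H) (hy : y ∈ H)
    (hxy : x * y ≠ y * x) :
    ∃ Q : Subgroup (alternatingGroup (Fin n)), IsPGroup p Q ∧
      ∃ a b : alternatingGroup (Fin n), a ∈ Q ∧ b ∈ Q ∧ a * b ≠ b * a := by
  obtain ⟨ι⟩ : Nonempty (α ↪ Fin n) :=
    Function.Embedding.nonempty_of_card_le (by simpa using hcard)
  let φ := Equiv.Perm.viaEmbeddingHom ι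
  have hφ : Function.Injective φ := Equiv.Perm.viaEmbeddingHom_injective ι
  have hmem : ∀ h ∈ H, φ h ∈ alternatingGroup (Fin n) := by
    intro h hh
    rw [Equiv.Perm.mem_alternatingGroup]
    show Equiv.Perm.sign (Equiv.Perm.viaEmbeddingHom ι h) = 1
    rw [sign_via]
    exact heven h hh
  refine ⟨(H.map φ).comap (alternatingGroup (Fin n)).subtype,
    (hH.map φ).comap_of_injective _ (Subgroup.subtype_injective _),
    ⟨φ x, hmem x hx⟩, ⟨φ y, hmem y hy⟩, ⟨x, hx, rfl⟩, ⟨y, hy, rfl⟩, ?_⟩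
  intro h
  apply hxy
  apply hφ
  have := congrArg Subtype.val h
  simpa using this

theorem sign_eq_one_of_odd {α : Type*} [Fintype α] [DecidableEq α] {p : ℕ} (hodd : Odd p)
    (H : Subgroup (Equiv.Perm α)) (hH : IsPGroup p H) (h : Equiv.Perm α) (hh : h ∈ H) :
    Equiv.Perm.sign h = 1 := by
  obtain ⟨k, hk⟩ := hH ⟨h, hh⟩
  have hk' : h ^ p ^ k = 1 := by
    have := congrArg Subtype.val hk
    simpa using this
  have h1 : Equiv.Perm.sign h ^ p ^ k = 1 := by
    rw [← map_pow, hk', map_one]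
  rcases Int.units_eq_one_or (Equiv.Perm.sign h) with h2 | h2
  · exact h2
  · rw [h2, (Odd.pow hodd).neg_one_pow] at h1
    exact absurd h1 (by decide)

/-! ### a dihedral group of order 8 inside `A_6` -/

def x6 : Equiv.Perm (Fin 6) :=
  Equiv.swap 0 1 * Equiv.swap 1 2 * Equiv.swap 2 3 * Equiv.swap 4 5

def y6 : Equiv.Perm (Fin 6) := Equiv.swap 0 2 * Equiv.swap 4 5

theorem x6_pow : x6 ^ 2 ^ (1 + 1) = 1 := by decide

theorem x6_pow_ne : ¬ x6 ^ 2 ^ 1 = 1 := by decide

theorem y6_pow : y6 ^ 2 ^ 1 = 1 := by decide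

theorem y6_conj : y6 * x6 * y6⁻¹ = x6⁻¹ := by decide

theorem x6_y6_noncomm : x6 * y6 ≠ y6 * x6 := by decide

theorem sign_x6 : Equiv.Perm.sign x6 = 1 := by
  unfold x6
  rw [map_mul, map_mul, map_mul, Equiv.Perm.sign_swap (by decide), Equiv.Perm.sign_swap (by decide),
    Equiv.Perm.sign_swap (by decide), Equiv.Perm.sign_swap (by decide)]
  decide

theorem sign_y6 : Equiv.Perm.sign y6 = 1 := by
  unfold y6
  rw [map_mul, Equiv.Perm.sign_swap (by decide), Equiv.Perm.sign_swap (by decide)]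
  decide

def H6 : Subgroup (Equiv.Perm (Fin 6)) := Subgroup.zpowers y6 ⊔ Subgroup.zpowers x6

theorem isPGroup_H6 : IsPGroup 2 H6 := by
  haveI : Fact (Nat.Prime 2) := ⟨Nat.prime_two⟩
  have hx : IsPGroup 2 (Subgroup.zpowers x6) := by
    apply IsPGroup.of_card (n := 2)
    rw [Nat.card_zpowers]
    exact orderOf_eq_prime_pow x6_pow_ne x6_pow
  have hy : IsPGroup 2 (Subgroup.zpowers y6) := by
    intro g
    obtain ⟨g, m, rfl⟩ := g
    refine ⟨1, ?_⟩
    apply Subtype.ext
    show (y6 ^ m) ^ 2 ^ 1 = 1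
    rw [← zpow_natCast, ← zpow_mul, mul_comm, zpow_mul, zpow_natCast, y6_pow, one_zpow]
  apply IsPGroup.to_sup_of_normal_right' hy hx
  rw [Subgroup.zpowers_le]
  apply Subgroup.mem_normalizer_fintype
  rintro _ ⟨m, rfl⟩
  show y6 * x6 ^ m * y6⁻¹ ∈ Subgroup.zpowers x6
  rw [← conj_zpow, y6_conj, inv_zpow]
  exact (Subgroup.zpowers x6).inv_mem (Subgroup.zpow_mem_zpowers x6 m)

theorem even_H6 : ∀ h ∈ H6, Equiv.Perm.sign h = 1 := by
  have : H6 ≤ alternatingGroup (Fin 6) := by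
    apply sup_le
    · rw [Subgroup.zpowers_le, Equiv.Perm.mem_alternatingGroup]; exact sign_y6
    · rw [Subgroup.zpowers_le, Equiv.Perm.mem_alternatingGroup]; exact sign_x6
  intro h hh
  exact Equiv.Perm.mem_alternatingGroup.mp (this hh)

/-- For n ≥ 6 and a prime p, a nontrivial Sylow p-subgroup of the alternating group of degree n is abelian if and only if n < p². -/
theorem result (n p : ℕ) (hn : 6 ≤ n) [Fact p.Prime] (S : Sylow p (alternatingGroup (Fin n))) (hS : (S : Subgroup (alternatingGroup (Fin n))) ≠ ⊥) : IsMulCommutative S ↔ n < p ^ 2 := by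
  have hp : p.Prime := Fact.out
  constructor
  · intro hcomm
    by_contra hcon
    push Not at hcon
    have key : ∃ Q : Subgroup (alternatingGroup (Fin n)), IsPGroup p Q ∧
        ∃ a b : alternatingGroup (Fin n), a ∈ Q ∧ b ∈ Q ∧ a * b ≠ b * a := by
      rcases hp.eq_two_or_odd' with h2 | hodd
      · subst h2
        exact exists_noncomm (by simpa using hn) H6 isPGroup_H6 even_H6 x6 y6
          (Subgroup.mem_sup_right (Subgroup.mem_zpowers x6))
          (Subgroup.mem_sup_left (Subgroup.mem_zpowers y6)) x6_y6_noncomm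
      · refine exists_noncomm (α := ZMod p × ZMod p) ?_ (heisSubgroup p) (isPGroup_heisSubgroup p)
          (sign_eq_one_of_odd hodd _ (isPGroup_heisSubgroup p)) _ _ ⟨(1, 0, 0), rfl⟩
          ⟨(0, 1, 0), rfl⟩ (heis_noncomm p)
        rw [Fintype.card_prod, ZMod.card]
        rw [pow_two] at hcon
        exact hcon
    obtain ⟨Q, hQ, a, b, ha, hb, hab⟩ := key
    exact hab (comm_of_sylow_comm S hcomm Q hQ a b ha hb)
  · intro hlt
    refine ⟨⟨fun a b => ?_⟩⟩
    apply Subtype.ext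
    apply Subtype.ext
    let P : Subgroup (Equiv.Perm (Fin n)) :=
      (S : Subgroup (alternatingGroup (Fin n))).map (alternatingGroup (Fin n)).subtype
    have hP : IsPGroup p P := S.2.map _
    exact comm_of_lt_sq hlt P hP _ _ ⟨a.1, a.2, rfl⟩ ⟨b.1, b.2, rfl⟩

end Cfsg.Agent.S5164
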