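import Cfsg.Statements.S5186
import Cfsg.Agent.Lib.Helper9.PCubeAut
import Cfsg.Agent.Lib.Helper9.EssentialPSq

set_option autoImplicit false
universe u
open Cfsg

namespace Cfsg.Agent.S5186

/-- Let F be a saturated fusion system over a finite p-group S and H an essential subgroup of order p³. Then H is elementary abelian, or p is odd and H is extraspecial of exponent p, or p = 2 and H is the quaternion group of order 8. -/
theorem result {Ω : Type u} [Group Ω] {S : Subgroup Ω} [Finite S] (p : ℕ) [Fact p.Prime] (hS : IsPGroup p S)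
    (F : Cfsg.FusionSystem S) (hF : F.IsSaturated p) (H : Subgroup Ω) (hH : F.IsEssential p H) (hcard : Nat.card H = p ^ 3) :
    Cfsg.IsElementaryAbelian p H ∨ (Odd p ∧ Cfsg.IsExtraspecial p ↥H ∧ ∀ x ∈ H, x ^ p = 1) ∨
      (p = 2 ∧ Nonempty (↥H ≃* QuaternionGroup 2)) := by
  classical
  obtain ⟨-, -, hNn, E, hE⟩ := hH
  have hp := (inferInstance : Fact p.Prime).out
  have : Finite H := Nat.finite_of_card_ne_zero (by rw [hcard]; exact pow_ne_zero _ hp.ne_zero)
  have : Finite (MulAut H) := inferInstance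
  obtain ⟨a', b', ha', hb', hnp'⟩ :=
    Cfsg.Agent.Lib.Helper9.EssentialPSq.exists_pair_of_stronglyPEmbedded p E hE
  obtain ⟨a, rfl⟩ := QuotientGroup.mk'_surjective _ a'
  obtain ⟨b, rfl⟩ := QuotientGroup.mk'_surjective _ b'
  -- the inner automorphisms form a `p`-group
  have hNp : ∀ x : F.autGroup H, x ∈ (Inn H).subgroupOf (F.autGroup H) → x ^ (p ^ 3) = 1 := by
    intro x hx
    rw [Subgroup.mem_subgroupOf] at hx
    obtain ⟨h, hh⟩ := hx
    apply Subtype.ext
    have hh' : MulAut.conj h = (x : MulAut H) := hh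
    show (x : MulAut H) ^ (p ^ 3) = 1
    rw [← hh', ← map_pow]
    have : h ^ (p ^ 3) = 1 := by
      rw [← hcard]; exact pow_card_eq_one'
    rw [this, map_one]
  have hlift : ∀ x : F.autGroup H,
      (∃ k : ℕ, (QuotientGroup.mk' ((Inn H).subgroupOf (F.autGroup H)) x) ^ (p ^ k) = 1) →
      ∃ k : ℕ, (x : MulAut H) ^ (p ^ k) = 1 := by
    rintro x ⟨k, hk⟩
    rw [← map_pow] at hk
    have h1 : x ^ (p ^ k) ∈ (QuotientGroup.mk' ((Inn H).subgroupOf (F.autGroup H))).ker := hk
    rw [QuotientGroup.ker_mk'] at h1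
    have h2 := hNp _ h1
    refine ⟨k + 3, ?_⟩
    rw [pow_add, pow_mul]
    exact congrArg Subtype.val h2
  have ha := hlift a ha'
  have hb := hlift b hb'
  have hnp : ¬ IsPGroup p (Subgroup.closure {(a : MulAut H), (b : MulAut H)}) := by
    intro h
    apply hnp'
    have h0 : IsPGroup p (Subgroup.closure {a, b}) := by
      rintro ⟨x, hx⟩
      have hx' : (x : MulAut H) ∈ Subgroup.closure {(a : MulAut H), (b : MulAut H)} := by
        have h1 : (F.autGroup H).subtype x ∈ (Subgroup.closure {a, b}).map (F.autGroup H).subtype :=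
          Subgroup.mem_map_of_mem _ hx
        rw [MonoidHom.map_closure, Set.image_pair] at h1
        exact h1
      obtain ⟨k, hk⟩ := h ⟨_, hx'⟩
      refine ⟨k, Subtype.ext (Subtype.ext ?_)⟩
      have := congrArg Subtype.val hk
      exact this
    have h1 := h0.map (QuotientGroup.mk' ((Inn H).subgroupOf (F.autGroup H)))
    rw [MonoidHom.map_closure, Set.image_pair] at h1
    exact h1
  rcases Cfsg.Agent.Lib.Helper9.PCubeAut.main_abstract p hcard (a : MulAut H) (b : MulAut H)
    ha hb hnp with ⟨hc, he⟩ | ⟨ho, hx, he⟩ | ⟨h2, hq⟩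
  · left
    refine ⟨⟨⟨fun x y => hc x y⟩⟩, fun x hx => ?_⟩
    exact congrArg Subtype.val (he ⟨x, hx⟩)
  · right; left
    refine ⟨ho, hx, fun x hx => ?_⟩
    exact congrArg Subtype.val (he ⟨x, hx⟩)
  · right; right
    exact ⟨h2, hq⟩

end Cfsg.Agent.S5186
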