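import Cfsg.Statements.S5187
import Cfsg.Agent.Lib.Helper9.RankTwoAbelian
import Cfsg.Agent.Lib.Helper9.HomocyclicAut
import Cfsg.Agent.Lib.Helper9.HomocyclicIso
import Cfsg.Agent.Lib.Helper9.StronglyPEmb
import Cfsg.Agent.Lib.Helper9.OmegaFixer
import Cfsg.Agent.Lib.Helper9.EssentialPSq
import Cfsg.Agent.Lib.Helper16.Frattini

set_option autoImplicit false
universe u
open Cfsg

namespace Cfsg.Agent.S5187

/-- Let F be a saturated fusion system over a finite p-group S and H an abelian essential subgroup that can be generated by two elements (its Frattini quotient has order at most p²). Then H is elementary abelian of order p², or p ≤ 3 and H is homocyclic of rank two, that is isomorphic to C_{pᵏ} × C_{pᵏ} for some k. -/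
theorem result {Ω : Type u} [Group Ω] {S : Subgroup Ω} [Finite S] (p : ℕ) [Fact p.Prime] (hS : IsPGroup p S)
    (F : Cfsg.FusionSystem S) (hF : F.IsSaturated p) (H : Subgroup Ω) (hH : F.IsEssential p H) (hab : IsMulCommutative ↥H) (hrk : (frattini ↥H).index ≤ p ^ 2) :
    (Cfsg.IsElementaryAbelian p H ∧ Nat.card H = p ^ 2) ∨
      (p ≤ 3 ∧ ∃ k : ℕ, Nonempty (↥H ≃* Multiplicative (ZMod (p ^ k) × ZMod (p ^ k)))) := by
  classical
  obtain ⟨hcent, -, hNn, E, hE⟩ := hH
  have hp := (inferInstance : Fact p.Prime).out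
  have hHS : H ≤ S := hcent.1
  have : Finite H :=
    Finite.of_injective (Subgroup.inclusion hHS) (Subgroup.inclusion_injective hHS)
  have hHp : IsPGroup p H := hS.to_le hHS
  have hcomm : ∀ x y : H, x * y = y * x := fun x y => hab.is_comm.comm x y
  have : Finite (MulAut H) := inferInstance
  have hmul : ∀ x y : H, (x * y) ^ p = x ^ p * y ^ p :=
    fun x y => Commute.mul_pow (show Commute x y from hcomm x y) p
  -- `Inn H` is trivial
  have hN : (Inn H).subgroupOf (F.autGroup H) = ⊥ := by
    rw [eq_bot_iff]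
    rintro ⟨α, hα⟩ hmem
    rw [Subgroup.mem_subgroupOf] at hmem
    obtain ⟨h, hh⟩ := hmem
    rw [Subgroup.mem_bot]
    apply Subtype.ext
    show α = 1
    have hh' : MulAut.conj h = α := hh
    rw [← hh']
    ext x
    show ((h * x * h⁻¹ : H) : Ω) = x
    rw [hcomm h x, mul_inv_cancel_right]
  obtain ⟨a', b', ha', hb', hnp'⟩ :=
    Cfsg.Agent.Lib.Helper9.EssentialPSq.exists_pair_of_stronglyPEmbedded p E hE
  obtain ⟨a, rfl⟩ := QuotientGroup.mk'_surjective _ a'
  obtain ⟨b, rfl⟩ := QuotientGroup.mk'_surjective _ b'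
  have hinj : ∀ x : F.autGroup H,
      QuotientGroup.mk' ((Inn H).subgroupOf (F.autGroup H)) x = 1 → x = 1 := by
    intro x hx
    have : x ∈ (QuotientGroup.mk' ((Inn H).subgroupOf (F.autGroup H))).ker := hx
    rw [QuotientGroup.ker_mk', hN, Subgroup.mem_bot] at this
    exact this
  have ha : ∃ k : ℕ, (a : MulAut H) ^ (p ^ k) = 1 := by
    obtain ⟨k, hk⟩ := ha'
    refine ⟨k, ?_⟩
    have h1 := hinj (a ^ (p ^ k)) (by rw [map_pow]; exact hk)
    have h2 := congrArg Subtype.val h1
    exact h2
  have hb : ∃ k : ℕ, (b : MulAut H) ^ (p ^ k) = 1 := by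
    obtain ⟨k, hk⟩ := hb'
    refine ⟨k, ?_⟩
    have h1 := hinj (b ^ (p ^ k)) (by rw [map_pow]; exact hk)
    have h2 := congrArg Subtype.val h1
    exact h2
  have hnp : ¬ IsPGroup p (Subgroup.closure {(a : MulAut H), (b : MulAut H)}) := by
    intro h
    apply hnp'
    have h0 : IsPGroup p (Subgroup.closure {a, b}) := by
      rintro ⟨x, hx⟩
      have hx' : (x : MulAut H) ∈ Subgroup.closure {(a : MulAut H), (b : MulAut H)} := by
        have h1 : (F.autGroup H).subtype x ∈ (Subgroup.closure {a, b}).map (F.autGroup H).subtype :=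
          Subgroup.mem_map_of_mem _ hx
        rw [MonoidHom.map_closure, Set.image_pair] at h1
        exact h1
      obtain ⟨k, hk⟩ := h ⟨_, hx'⟩
      refine ⟨k, Subtype.ext (Subtype.ext ?_)⟩
      have := congrArg Subtype.val hk
      exact this
    have h1 := h0.map (QuotientGroup.mk' ((Inn H).subgroupOf (F.autGroup H)))
    rw [MonoidHom.map_closure, Set.image_pair] at h1
    exact h1
  -- the number of solutions of `x ^ p = 1`
  have hΩle : Nat.card {x : H // x ^ p = 1} ≤ p ^ 2 := by
    set f : H →* H := Cfsg.Agent.Lib.Helper9.PCubeAut.powHom p hmul with hf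
    have hcardΩ : Nat.card f.ker = Nat.card {x : H // x ^ p = 1} := rfl
    have hKM : Nat.card f.range * Nat.card f.ker = Nat.card H :=
      Cfsg.Agent.Lib.Helper9.PCubeAut.card_range_mul_card_ker f
    have hfr : frattini H ≤ f.range := by
      apply Cfsg.Agent.Lib.Helper16.frattini_le_of_elementary_quotient (p := p) f.range
      · rw [commutator_def, Subgroup.commutator_le]
        intro x _ y _
        rw [commutatorElement_def, hcomm x y, mul_inv_cancel_right, mul_inv_cancel]
        exact one_mem _
      · intro x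
        exact ⟨x, Cfsg.Agent.Lib.Helper9.PCubeAut.powHom_apply p hmul x⟩
    have hdvd : f.range.index ∣ (frattini H).index := Subgroup.index_dvd_of_le hfr
    have hne : (frattini H).index ≠ 0 := Subgroup.index_ne_zero_of_finite
    have hle : f.range.index ≤ (frattini H).index := Nat.le_of_dvd (Nat.pos_of_ne_zero hne) hdvd
    have hci : Nat.card f.range * f.range.index = Nat.card H := Subgroup.card_mul_index f.range
    have hpos : 0 < Nat.card f.range := Nat.card_pos
    have heq : Nat.card f.ker = f.range.index := by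
      apply Nat.eq_of_mul_eq_mul_left hpos
      rw [hKM, hci]
    rw [← hcardΩ, heq]
    exact le_trans hle hrk
  obtain ⟨k, hk1, hcard, hexp, hΩ, hsurj⟩ :=
    Cfsg.Agent.Lib.Helper9.RankTwoAbelian.main_aux p (Nat.card H) ↥H le_rfl hcomm hHp hΩle
      (a : MulAut H) (b : MulAut H) ha hb hnp
  rcases Nat.lt_or_ge k 2 with hk2 | hk2
  · -- `k = 1`
    left
    have hk : k = 1 := by omega
    subst hk
    refine ⟨⟨hab, fun x hx => ?_⟩, by rw [hcard]⟩
    have h1 := hexp ⟨x, hx⟩
    rw [pow_one] at h1
    exact congrArg Subtype.val h1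
  · right
    constructor
    · by_contra hp3
      have hp4 : p ≠ 4 := by
        rintro rfl
        exact absurd hp (by decide)
      have h5 : 5 ≤ p := by omega
      -- the fixer of `Ω₁` in `Aut_F(H)` is trivial
      have hC : (Cfsg.Agent.Lib.Helper9.OmegaFixer.omegaFixer ↥H p).subgroupOf (F.autGroup H) = ⊥ := by
        set C := (Cfsg.Agent.Lib.Helper9.OmegaFixer.omegaFixer ↥H p).subgroupOf (F.autGroup H)
          with hCdef
        have hCn : C.Normal := Subgroup.normal_subgroupOf
        have hCp : IsPGroup p C :=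
          (Cfsg.Agent.Lib.Helper9.OmegaFixer.omegaFixer_isPGroup p hcomm hHp).comap_subtype
        have hmn : (C.map (QuotientGroup.mk' ((Inn H).subgroupOf (F.autGroup H)))).Normal :=
          Subgroup.Normal.map hCn _ (QuotientGroup.mk'_surjective _)
        have hmp : IsPGroup p (C.map (QuotientGroup.mk' ((Inn H).subgroupOf (F.autGroup H)))) :=
          hCp.map _
        have hbot := Cfsg.Agent.Lib.Helper9.StronglyPEmb.normal_pSubgroup_eq_bot p E hE _ hmp
        rw [eq_bot_iff]
        intro x hx
        have h1 : QuotientGroup.mk' ((Inn H).subgroupOf (F.autGroup H)) x ∈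
            C.map (QuotientGroup.mk' ((Inn H).subgroupOf (F.autGroup H))) :=
          Subgroup.mem_map_of_mem _ hx
        rw [hbot, Subgroup.mem_bot] at h1
        rw [Subgroup.mem_bot]
        exact hinj x h1
      obtain ⟨x', hx'⟩ := exists_prime_orderOf_dvd_card' p hE.1
      obtain ⟨x, rfl⟩ := QuotientGroup.mk'_surjective _ x'
      have hxp : x ^ p = 1 := by
        apply hinj
        rw [map_pow, ← hx', pow_orderOf_eq_one]
      have hxp' : (x : MulAut H) ^ p = 1 := by
        have h2 := congrArg Subtype.val hxp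
        exact h2
      have hfix := Cfsg.Agent.Lib.Helper9.HomocyclicAut.fix_omega p h5 hcomm (x : MulAut H) hxp' hΩ
        (hsurj hk2)
      have hxC : x ∈ (Cfsg.Agent.Lib.Helper9.OmegaFixer.omegaFixer ↥H p).subgroupOf (F.autGroup H) := by
        rw [Subgroup.mem_subgroupOf]
        exact hfix
      rw [hC, Subgroup.mem_bot] at hxC
      rw [hxC, map_one, orderOf_one] at hx'
      exact hp.one_lt.ne hx'
    · refine ⟨k, ?_⟩
      let _ : CommGroup H := { (inferInstance : Group H) with mul_comm := hcomm }
      exact Cfsg.Agent.Lib.Helper9.HomocyclicIso.main p k hk1 hHp hcard hexp hΩ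

end Cfsg.Agent.S5187
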