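import Mathlib
import Cfsg.Statements.S5191

set_option autoImplicit false
open Cfsg

namespace Cfsg.Agent.S5191

open scoped Pointwise in
/-- Fusion in a finite group G and in its quotient by O_{p'}(G) agree. -/
theorem result {G : Type*} [Group G] [Finite G] {p : ℕ} [Fact p.Prime]
    [hN : (Cfsg.pPrimeCore p G).Normal] (S : Sylow p G) (P : Subgroup G) (hP : P ≤ (S : Subgroup G))
    (γ : G ⧸ Cfsg.pPrimeCore p G)
    (hγ : ∀ x ∈ P, γ * QuotientGroup.mk x * γ⁻¹ ∈ ((S : Subgroup G).map (QuotientGroup.mk' (Cfsg.pPrimeCore p G)))) :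
    ∃ g : G, ∀ x ∈ P, g * x * g⁻¹ ∈ S ∧
      (QuotientGroup.mk (g * x * g⁻¹) : G ⧸ Cfsg.pPrimeCore p G) = γ * QuotientGroup.mk x * γ⁻¹ := by
  obtain ⟨g₀, rfl⟩ := QuotientGroup.mk_surjective γ
  set SN : Subgroup G := (S : Subgroup G) ⊔ Cfsg.pPrimeCore p G with hSN
  have hS_le : (S : Subgroup G) ≤ SN := le_sup_left
  have hQ_le : ∀ x ∈ P, g₀ * x * g₀⁻¹ ∈ SN := by
    intro x hx
    obtain ⟨s, hs, hsx⟩ := hγ x hx
    have h1 : (s⁻¹ * (g₀ * x * g₀⁻¹)) ∈ Cfsg.pPrimeCore p G := by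
      rw [← QuotientGroup.eq]
      simpa using hsx
    have h2 : g₀ * x * g₀⁻¹ = s * (s⁻¹ * (g₀ * x * g₀⁻¹)) := by group
    rw [h2]
    exact Subgroup.mul_mem_sup hs h1
  set Q : Subgroup G := P.map (MulAut.conj g₀).toMonoidHom with hQ
  have hQ_le' : Q ≤ SN := by
    rintro _ ⟨x, hx, rfl⟩
    exact hQ_le x hx
  have hPp : IsPGroup p P := S.isPGroup'.to_le hP
  have hQp : IsPGroup p Q := hPp.map _
  have hQp' : IsPGroup p (Q.subgroupOf SN) := hQp.comap_subtype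
  obtain ⟨R, hR⟩ := IsPGroup.exists_le_sylow hQp'
  obtain ⟨h, hh⟩ := MulAction.exists_smul_eq SN R (S.subtype hS_le)
  have hmem : ((h : G) : G) ∈ ((S : Subgroup G) ⊔ Cfsg.pPrimeCore p G : Subgroup G) := h.2
  rw [← SetLike.mem_coe, Subgroup.mul_normal] at hmem
  obtain ⟨s, hs, n, hn, hsn⟩ := hmem
  refine ⟨n * g₀, fun x hx => ⟨?_, ?_⟩⟩
  · -- h * q * h⁻¹ ∈ S
    have hq : (⟨g₀ * x * g₀⁻¹, hQ_le x hx⟩ : SN) ∈ (R : Subgroup SN) := by
      apply hR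
      rw [Subgroup.mem_subgroupOf]
      exact ⟨x, hx, rfl⟩
    have hq2 : h * (⟨g₀ * x * g₀⁻¹, hQ_le x hx⟩ : SN) * h⁻¹ ∈
        ((h • R : Sylow p SN) : Subgroup SN) := by
      rw [Sylow.coe_subgroup_smul]
      have := Subgroup.smul_mem_pointwise_smul _ (MulAut.conj h) (R : Subgroup SN) hq
      simpa [MulAut.smul_def] using this
    rw [hh, Sylow.coe_subtype, Subgroup.mem_subgroupOf] at hq2
    have hq3 : (h : G) * (g₀ * x * g₀⁻¹) * (h : G)⁻¹ ∈ (S : Subgroup G) := by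
      simpa using hq2
    have hs' : s ∈ (S : Subgroup G) := hs
    have : n * g₀ * x * (n * g₀)⁻¹ = s⁻¹ * ((h : G) * (g₀ * x * g₀⁻¹) * (h : G)⁻¹) * s := by
      rw [← hsn]; group
    rw [this]
    exact mul_mem (mul_mem (inv_mem hs') hq3) hs'
  · have hn1 : (QuotientGroup.mk n : G ⧸ Cfsg.pPrimeCore p G) = 1 :=
      (QuotientGroup.eq_one_iff n).mpr hn
    simp only [QuotientGroup.mk_mul, QuotientGroup.mk_inv, hn1, one_mul, mul_inv_rev, inv_one,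
      mul_one]

end Cfsg.Agent.S5191
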