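import Cfsg.Statements.S5196
import Cfsg.Agent.Lib.Helper29.WCMain
import Cfsg.Agent.Lib.Helper1.FusionSup

set_option autoImplicit false
universe u
open Cfsg

namespace Cfsg.Agent.S5196

/-- Let p be an odd prime and W a positive characteristic p-functor: W assigns to every finite p-group Q (in a fixed universe) a subgroup W(Q), nontrivial when Q is, carried to W(R) by every isomorphism Q ≅ R; assume also Z(Q) ≤ W(Q) for every finite p-group Q. Suppose W satisfies the local condition: for every finite group G with Sylow p-subgroup P, O_p(G) ∩ Z(G) = O_p(G) ∩ Z(N_G(W(P))). Then W controls weak closure of elements in every saturated fusion system F over a finite p-group S: the centre of the normalizer fusion system of W(S) in F equals the centre of F. (For p = 2 no functor satisfies the local condition, so p is taken odd.) -/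
theorem result {p : ℕ} [Fact p.Prime] (hp : p ≠ 2) (W : ∀ (Q : Type u) [Group Q], Subgroup Q) (hW1 : ∀ (Q : Type u) [Group Q] [Finite Q], IsPGroup p Q → Nontrivial Q → W Q ≠ ⊥) (hW2 : ∀ (Q R : Type u) [Group Q] [Group R] [Finite Q], IsPGroup p Q → ∀ φ : Q ≃* R, (W Q).map φ.toMonoidHom = W R) (hWZ : ∀ (Q : Type u) [Group Q] [Finite Q], IsPGroup p Q → Subgroup.center Q ≤ W Q) (hC : ∀ (G : Type u) [Group G] [Finite G] (P : Sylow p G), Cfsg.pCore p G ⊓ Subgroup.center G = Cfsg.pCore p G ⊓ (Subgroup.center ↥(Subgroup.normalizer (((W ↥(P : Subgroup G)).map (P : Subgroup G).subtype : Subgroup G) : Set G))).map (Subgroup.normalizer (((W ↥(P : Subgroup G)).map (P : Subgroup G).subtype : Subgroup G) : Set G)).subtype) {Ω : Type u} [Group Ω] {S : Subgroup Ω} [Finite S] (hS : IsPGroup p S) (F : Cfsg.FusionSystem S) (hF : F.IsSaturated p) (N : Cfsg.FusionSystem (Cfsg.FusionSystem.normalizerIn S ((W ↥S).map S.subtype))) (hN : F.IsNormalizerSystem ((W ↥S).map S.subtype) N) : N.center = F.center := by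
  open Cfsg.Agent.Lib.Helper29 in
  have hWSle : (W ↥S).map S.subtype ≤ S := WS_le W S
  have hSN : S ≤ Cfsg.FusionSystem.normalizerIn S ((W ↥S).map S.subtype) := by
    intro g hg
    exact ⟨hg, WS_normalizer W hW2 hS (Subgroup.le_normalizer hg)⟩
  have hTS : Cfsg.FusionSystem.normalizerIn S ((W ↥S).map S.subtype) ≤ S := inf_le_left
  haveI hfinT : Finite (Cfsg.FusionSystem.normalizerIn S ((W ↥S).map S.subtype)) :=
    finite_normalizerIn (S := S) _
  have hTp : IsPGroup p (Cfsg.FusionSystem.normalizerIn S ((W ↥S).map S.subtype)) := hS.to_le hTS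
  have hfn : F.IsFullyNormalized ((W ↥S).map S.subtype) := by
    refine ⟨hWSle, fun Q' _ => ?_⟩
    haveI := finite_normalizerIn (S := S) Q'
    exact (Subgroup.card_le_of_le inf_le_left).trans (Subgroup.card_le_of_le hSN)
  have hNsat := Cfsg.Agent.S5098.result p hS F hF _ hfn N hN
  have hC' : ∀ (G : Type u) [Group G] [Finite G] (P : Sylow p G),
      Cfsg.pCore p G ⊓ Subgroup.center G = Cfsg.pCore p G ⊓
        (Subgroup.center ↥(Subgroup.normalizer ((WS W (P : Subgroup G) : Subgroup G) : Set G))).map
          (Subgroup.normalizer ((WS W (P : Subgroup G) : Subgroup G) : Set G)).subtype := hC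
  apply le_antisymm
  · -- the centre of the normalizer system is central in `F`
    have hZN : N.IsCentral N.center := Cfsg.Agent.Lib.Helper1.isCentral_center N
    obtain ⟨Z, hZe⟩ : ∃ Z, Z = N.center := ⟨_, rfl⟩
    rw [← hZe] at hZN ⊢
    have hZT : Z ≤ Cfsg.FusionSystem.normalizerIn S ((W ↥S).map S.subtype) := hZN.1
    have hZS : Z ≤ S := hZT.trans hTS
    have hZc : ∀ g ∈ S, ∀ x ∈ Z, g * x * g⁻¹ = x := by
      intro g hg x hx
      have h1 := isCentral_le_centralizer N hZN hx
      rw [Subgroup.mem_centralizer_iff] at h1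
      have h2 := h1 g (hSN hg)
      rw [h2]
      group
    have hcentral : F.IsCentral Z := by
      apply isCentral_of_aut p hS F hF Z
      intro P hP
      have hPS : P ≤ S := by
        rcases hP with rfl | hP
        · exact le_rfl
        · exact hP.1.1
      have hZP : Z ≤ P := by
        rcases hP with rfl | hP
        · exact hZS
        · exact le_of_centric F hZS hZc hPS (hP.1.2 P (isConj_refl F hPS))
      refine ⟨hZP, fun α hα x hx hxP => ?_⟩
      by_contra hne
      have hPbad : BadZ F Z P := ⟨hPS, hZP, α, hα, ⟨x, hxP⟩, hx, fun h => hne (congrArg Subtype.val h)⟩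
      obtain ⟨_, hZW, β, hβ, y, hyZ, hy⟩ := wc_main hS F hF W hW2 hWZ hC' hZS hZc ⟨P, hPbad⟩
      apply hy
      have hφ := (mem_autGroup_iff F hWSle).1 hβ
      have hφN : (WS W S).subtype.comp β.toMonoidHom ∈ N.Hom (WS W S) := by
        apply mem_normalizerSystem_of_map_eq hN le_rfl (hWSle.trans hSN) hφ
        · intro z
          exact hSN (hWSle (β z).2)
        · ext w
          constructor
          · rintro ⟨z, _, rfl⟩
            exact (β z).2
          · intro hw
            refine ⟨β⁻¹ ⟨w, hw⟩, ?_, ?_⟩
            · exact (β⁻¹ ⟨w, hw⟩).2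
            · show ((β (β⁻¹ ⟨w, hw⟩) : WS W S) : Ω) = w
              rw [MulAut.apply_inv_self]
      have h1 := central_fix N hZN hφN y hyZ
      exact Subtype.ext h1
    exact le_sSup hcentral
  · -- the centre of `F` is central in the normalizer system
    have hZF : F.IsCentral F.center := Cfsg.Agent.Lib.Helper1.isCentral_center F
    obtain ⟨Z, hZe⟩ : ∃ Z, Z = F.center := ⟨_, rfl⟩
    rw [← hZe] at hZF ⊢
    have hZS : Z ≤ S := hZF.1
    have hZT : Z ≤ Cfsg.FusionSystem.normalizerIn S ((W ↥S).map S.subtype) := hZS.trans hSN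
    have hZc : ∀ g ∈ Cfsg.FusionSystem.normalizerIn S ((W ↥S).map S.subtype), ∀ x ∈ Z,
        g * x * g⁻¹ = x := by
      intro g hg x hx
      have h1 := isCentral_le_centralizer F hZF hx
      rw [Subgroup.mem_centralizer_iff] at h1
      have h2 := h1 g (hTS hg)
      rw [h2]
      group
    have hcentral : N.IsCentral Z := by
      apply isCentral_of_aut p hTp N hNsat Z
      intro P hP
      have hPT : P ≤ Cfsg.FusionSystem.normalizerIn S ((W ↥S).map S.subtype) := by
        rcases hP with rfl | hP
        · exact le_rfl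
        · exact hP.1.1
      have hZP : Z ≤ P := by
        rcases hP with rfl | hP
        · exact hZT
        · exact le_of_centric N hZT hZc hPT (hP.1.2 P (isConj_refl N hPT))
      refine ⟨hZP, fun α hα x hx hxP => ?_⟩
      have hαF : α ∈ F.autGroup P := autGroup_mono_gt N F P (normalizerSystem_hom_subset hN P) hα
      have hφ := (mem_autGroup_iff F (hPT.trans hTS)).1 hαF
      exact central_fix F hZF hφ ⟨x, hxP⟩ hx
    exact le_sSup hcentral

end Cfsg.Agent.S5196
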