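import Cfsg.Statements.S5204
import Cfsg.Agent.Lib.Helper29.GTMain

set_option autoImplicit false
open Cfsg

namespace Cfsg.Agent.S5204

/-- The Glauberman–Thompson normal p-complement criterion for fusion systems, p odd. Let F be a saturated fusion system over a finite p-group S with p odd, and let Z(J(S)) be the centre of the subgroup generated by the abelian subgroups of S of largest order. Then F is the inner fusion system of S if and only if the normalizer fusion system of Z(J(S)) in F is the inner fusion system of N_S(Z(J(S))) = S. -/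
theorem result {Ω : Type*} [Group Ω] {S : Subgroup Ω} [Finite S] (p : ℕ) [Fact p.Prime] (hS : IsPGroup p S) (F : Cfsg.FusionSystem S) (hF : F.IsSaturated p) (hp : p ≠ 2) : (∀ P : Subgroup Ω, F.Hom P = (Cfsg.innerFusionSystem S).Hom P) ↔ ∀ N : Cfsg.FusionSystem (Cfsg.FusionSystem.normalizerIn S (Cfsg.centerThompsonAOf S)), F.IsNormalizerSystem (Cfsg.centerThompsonAOf S) N → ∀ P : Subgroup Ω, N.Hom P = (Cfsg.innerFusionSystem (Cfsg.FusionSystem.normalizerIn S (Cfsg.centerThompsonAOf S))).Hom P := by
  open Cfsg.Agent.Lib.Helper29 in
  have hWS : Cfsg.centerThompsonAOf S ≤ S := W_le S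
  have hSN : S ≤ Cfsg.FusionSystem.normalizerIn S (Cfsg.centerThompsonAOf S) := by
    intro g hg
    exact ⟨hg, normalizer_le_normalizer_W S (Subgroup.le_normalizer hg)⟩
  constructor
  · intro hin N hN P
    ext φ
    constructor
    · intro hφ
      have hφ' := hφ
      rw [hN] at hφ'
      obtain ⟨hφF, hPN, _, _⟩ := hφ'
      rw [hin] at hφF
      obtain ⟨_, g, hg, hge⟩ := hφF
      exact ⟨hPN, g, hSN hg, hge⟩
    · rintro ⟨hPN, g, hg, hge⟩
      have h1 := N.conj_mem hPN hg
      have e : φ = Cfsg.conjHom P g := by
        ext x
        exact hge x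
      rw [e]
      exact h1
  · intro hyp P
    ext φ
    constructor
    · intro hφ
      have hPS := (F.le_of_mem hφ).1
      by_cases hPW : PW p F
      · exfalso
        obtain ⟨U, hWU, hUN, hU⟩ := gt_all p hp (Nat.card S) Ω S hS F hF rfl hPW
        obtain ⟨N, hN⟩ := Cfsg.Agent.S5096.result F (Cfsg.centerThompsonAOf S) hWS
        have hNin := hyp N hN
        apply not_isPGroup_of_le (autStab_le_normalizerSystem hN hWU hUN) hU
        rintro ⟨β, hβ⟩
        haveI : Finite (Cfsg.FusionSystem.normalizerIn S (Cfsg.centerThompsonAOf S)) :=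
          finite_normalizerIn (S := S) _
        have h1 := (mem_autGroup_iff N hUN).1 hβ
        rw [hNin] at h1
        obtain ⟨_, g, hg, hge⟩ := h1
        have hge' : ∀ x : U, ((β x : U) : Ω) = g * x * g⁻¹ := hge
        have hpow : ∀ n : ℕ, ∀ x : U, (((β ^ n) x : U) : Ω) = g ^ n * x * (g ^ n)⁻¹ := by
          intro n
          induction n with
          | zero =>
            intro x
            simp
          | succ n ih =>
            intro x
            have e : (β ^ (n + 1)) x = β ((β ^ n) x) := by
              rw [pow_succ', MulAut.mul_apply]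
            rw [e, hge', ih, pow_succ']
            group
        obtain ⟨k, hk⟩ := hS ⟨g, hg.1⟩
        have hk' : g ^ p ^ k = 1 := by
          have := congrArg Subtype.val hk
          simpa using this
        refine ⟨k, ?_⟩
        apply Subtype.ext
        rw [Subgroup.coe_pow]
        show β ^ p ^ k = 1
        apply MulEquiv.ext
        intro x
        apply Subtype.ext
        rw [hpow, hk']
        simp
      · have hall : ∀ P : Subgroup Ω, P ≤ S → IsPGroup p (F.autGroup P) := by
          intro P' hP'
          by_contra hnp
          exact hPW ⟨P', hP', hnp⟩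
        obtain ⟨g, hg, hge⟩ := hom_eq_conj_of_isPGroup_aut p hS F hF hall _ P hPS rfl φ hφ
        exact ⟨hPS, g, hg, hge⟩
    · rintro ⟨hPS, g, hg, hge⟩
      have h1 := F.conj_mem hPS hg
      have e : φ = Cfsg.conjHom P g := by
        ext x
        exact hge x
      rw [e]
      exact h1

end Cfsg.Agent.S5204
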