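import Cfsg.Statements.S5219
import Cfsg.Agent.Lib.Helper29.PowCenterMain
import Cfsg.Agent.Lib.Helper29.CenterExponent

set_option autoImplicit false
open Cfsg

namespace Cfsg.Agent.S5219

/-- Let p be a prime, n a natural number, S a nontrivial finite p-group of nilpotence class at most n(p−1)+1, and F a saturated fusion system over S with no nontrivial normal subgroup (O_p(F) = 1). Then S has exponent dividing p^(n²(p−1)+n). -/
theorem result {Ω : Type*} [Group Ω] {S : Subgroup Ω} [Finite S] (p : ℕ) [Fact p.Prime] (hS : IsPGroup p S) (F : Cfsg.FusionSystem S) (hF : F.IsSaturated p) (n : ℕ) (hS1 : S ≠ ⊥) (hcl : Subgroup.lowerCentralSeries S (n * (p - 1) + 1) = ⊥) (hcore : F.core = ⊥) : Monoid.exponent ↥S ∣ p ^ (n ^ 2 * (p - 1) + n) := by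
  have hN := Cfsg.Agent.Lib.Helper29.pcz_normal p hS F hF n hcl
  have hW : Cfsg.powerClosure p n (S ⊓ Subgroup.centralizer (S : Set Ω)) = ⊥ := by
    rw [eq_bot_iff, ← hcore]
    exact le_sSup hN
  have hz : ∀ z ∈ Subgroup.center ↥S, z ^ (p ^ n) = 1 := by
    intro z hzc
    have hmem : (z : Ω) ^ p ^ n ∈ Cfsg.powerClosure p n (S ⊓ Subgroup.centralizer (S : Set Ω)) := by
      apply (Cfsg.Agent.Lib.Helper29.mem_pcZ_iff p n _).2
      refine ⟨z, ⟨z.2, Subgroup.mem_centralizer_iff.2 ?_⟩, rfl⟩
      intro s hs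
      have := Subgroup.mem_center_iff.1 hzc ⟨s, hs⟩
      exact congrArg Subtype.val this
    rw [hW, Subgroup.mem_bot] at hmem
    exact Subtype.ext (by simpa using hmem)
  have hucs : Subgroup.upperCentralSeries ↥S (n * (p - 1) + 1) = ⊤ := by
    rw [← Subgroup.lowerCentralSeries_eq_bot_iff_upperCentralSeries_eq_top]
    rw [← Subgroup.map_subtype_inj, Subgroup.map_bot, Subgroup.top_subtype_lowerCentralSeries]
    exact hcl
  have hall := Cfsg.Agent.Lib.Helper29.pow_eq_one_of_center_exp (p ^ n) (n * (p - 1) + 1) ↥S hucs hz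
  apply Monoid.exponent_dvd_of_forall_pow_eq_one
  intro g
  have := hall g
  rw [← pow_mul] at this
  have e : n * (n * (p - 1) + 1) = n ^ 2 * (p - 1) + n := by ring
  rw [e] at this
  exact this

end Cfsg.Agent.S5219
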