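import Cfsg.Statements.S5222
import Cfsg.Agent.Lib.Helper29.NormInner
import Cfsg.Agent.Lib.Helper29.FusionNormal
import Cfsg.Agent.S5098

set_option autoImplicit false
open Cfsg

namespace Cfsg.Agent.S5222

/-- Let F be a saturated fusion system over a finite p-group S whose normalizer fusion system of S is the inner fusion system of S (Aut_F(S) is a p-group). Then for every subgroup Q of S with [S, S] ≤ Q ≤ Φ(S), the normalizer fusion system of Q in F is the inner fusion system of N_S(Q) = S. -/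
theorem result {Ω : Type*} [Group Ω] {S : Subgroup Ω} [Finite S] (p : ℕ) [Fact p.Prime] (hS : IsPGroup p S) (F : Cfsg.FusionSystem S) (hF : F.IsSaturated p) (hN : ∀ N : Cfsg.FusionSystem (Cfsg.FusionSystem.normalizerIn S S), F.IsNormalizerSystem S N → ∀ P : Subgroup Ω, N.Hom P = (Cfsg.innerFusionSystem (Cfsg.FusionSystem.normalizerIn S S)).Hom P) (Q : Subgroup Ω) (h1 : (commutator ↥S).map S.subtype ≤ Q) (h2 : Q ≤ (frattini ↥S).map S.subtype) : ∀ N : Cfsg.FusionSystem (Cfsg.FusionSystem.normalizerIn S Q), F.IsNormalizerSystem Q N → ∀ P : Subgroup Ω, N.Hom P = (Cfsg.innerFusionSystem (Cfsg.FusionSystem.normalizerIn S Q)).Hom P := by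
  open Cfsg.Agent.Lib.Helper29 in
  open scoped commutatorElement in
  intro N hNs
  have hΦS : (frattini ↥S).map S.subtype ≤ S := by
    rintro _ ⟨y, _, rfl⟩
    exact y.2
  have hQS : Q ≤ S := h2.trans hΦS
  have hcommQ : ⁅S, S⁆ ≤ Q := by
    rw [← Subgroup.map_subtype_commutator]
    exact h1
  have hconj : ∀ s ∈ S, ∀ q ∈ Q, s * q * s⁻¹ ∈ Q := by
    intro s hs q hq
    have h3 : ⁅s, q⁆ ∈ ⁅S, S⁆ := Subgroup.commutator_mem_commutator hs (hQS hq)
    have e : s * q * s⁻¹ = ⁅s, q⁆ * q := by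
      rw [commutatorElement_def]
      group
    rw [e]
    exact Q.mul_mem (hcommQ h3) hq
  have hS₁ : Cfsg.FusionSystem.normalizerIn S Q = S := by
    apply le_antisymm inf_le_left
    intro s hs
    refine ⟨hs, Subgroup.mem_normalizer_iff.2 (fun q => ⟨fun hq => hconj s hs q hq, fun hq => ?_⟩)⟩
    have := hconj s⁻¹ (S.inv_mem hs) _ hq
    have e : s⁻¹ * (s * q * s⁻¹) * s⁻¹⁻¹ = q := by group
    rwa [e] at this
  have hQfn : F.IsFullyNormalized Q := by
    refine ⟨hQS, fun Q' _ => ?_⟩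
    rw [hS₁]
    exact Subgroup.card_le_of_le inf_le_left
  have hNsat : N.IsSaturated p := Cfsg.Agent.S5098.result p hS F hF Q hQfn N hNs
  haveI : Finite (Cfsg.FusionSystem.normalizerIn S Q) := finite_of_le inf_le_left
  have hS₁p : IsPGroup p (Cfsg.FusionSystem.normalizerIn S Q) := hS.to_le inf_le_left
  have hsc : N.StronglyClosed Q := stronglyClosed_of_isNormal N (normalizerSystem_isNormal hNs hQS)
  have hcomm₁ : ⁅Cfsg.FusionSystem.normalizerIn S Q, Cfsg.FusionSystem.normalizerIn S Q⁆ ≤ Q :=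
    (Subgroup.commutator_mono inf_le_left inf_le_left).trans hcommQ
  have htr : ∀ S₁ : Subgroup Ω, S₁ = S → (frattini ↥S₁).map S₁.subtype = (frattini ↥S).map S.subtype := by
    rintro _ rfl
    rfl
  have hQΦ : Q ≤ (frattini ↥(Cfsg.FusionSystem.normalizerIn S Q)).map (Cfsg.FusionSystem.normalizerIn S Q).subtype := by
    rw [htr _ hS₁]
    exact h2
  have hAutS := autS_inner_of_normalizer_inner F hN
  apply inner_of_closed p hS₁p N hNsat Q hsc hcomm₁ hQΦ
  intro α hα
  have h3 := (mem_autGroup_iff N le_rfl).1 hα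
  rw [hNs] at h3
  have hφ₁ := h3.1
  have hφ := restrict_mem F hS₁.ge hφ₁
  have hφS : ∀ x : S, ((Cfsg.FusionSystem.normalizerIn S Q).subtype.comp α.toMonoidHom).comp
      (Subgroup.inclusion hS₁.ge) x ∈ S := fun x => (F.le_of_mem hφ).2 x
  obtain ⟨β, hβ, hβv⟩ := exists_aut_of_hom F hφ hφS
  obtain ⟨s, hs, hsv⟩ := hAutS β hβ
  refine ⟨s, hS₁.ge hs, fun x => ?_⟩
  have h4 := hsv ⟨x, hS₁.le x.2⟩
  rw [hβv] at h4
  exact h4

end Cfsg.Agent.S5222
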