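import Cfsg.Statements.S5224
import Cfsg.Agent.Lib.Helper29.TateMain
import Cfsg.Agent.Lib.Helper2.PGroupFrattini

set_option autoImplicit false
open Cfsg

namespace Cfsg.Agent.S5224

/-- Tate's Theorem for fusion systems. Let F be a saturated fusion system over a finite p-group S and H a saturated fusion system over S contained in F. Then the following are equivalent: the elementary focal subgroups Φ(S)·foc agree for F and H; the focal subgroups of F and H agree; the hyperfocal subgroups of F and H agree. -/
theorem result {Ω : Type*} [Group Ω] {S : Subgroup Ω} [Finite S] (p : ℕ) [Fact p.Prime] (hS : IsPGroup p S) (F : Cfsg.FusionSystem S) (hF : F.IsSaturated p) (H : Cfsg.FusionSystem S) (hH : H.IsSaturated p) (hHF : H.IsSubsystemOf F) : (((frattini ↥S).map S.subtype ⊔ F.focalSubgroup) = ((frattini ↥S).map S.subtype ⊔ H.focalSubgroup) ↔ F.focalSubgroup = H.focalSubgroup) ∧ (F.focalSubgroup = H.focalSubgroup ↔ F.hyperfocalSubgroup p = H.hyperfocalSubgroup p) := by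
  open Cfsg.Agent.Lib.Helper29 in
  have hfocF := focal_eq_hyperfocal_sup p hS F hF
  have hfocH := focal_eq_hyperfocal_sup p hS H hH
  have hcomm : ⁅S, S⁆ ≤ (frattini S).map S.subtype := by
    rw [← Subgroup.map_subtype_commutator]
    exact Subgroup.map_mono (Cfsg.Agent.Lib.Helper2.commutator_le_frattini_of_isPGroup hS)
  have hHF' : H.hyperfocalSubgroup p ≤ F.hyperfocalSubgroup p := hyperfocal_le_of_subsystem p F H hHF
  have key : ((frattini ↥S).map S.subtype ⊔ F.focalSubgroup) = ((frattini ↥S).map S.subtype ⊔ H.focalSubgroup) →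
      F.hyperfocalSubgroup p = H.hyperfocalSubgroup p := by
    intro h
    apply le_antisymm _ hHF'
    apply hyperfocal_le_of_frattini p hS F hF _ hHF' (fun s hs u hu => conj_mem_hyperfocal H p hs u hu)
    calc F.hyperfocalSubgroup p ≤ F.focalSubgroup := by rw [hfocF]; exact le_sup_left
      _ ≤ (frattini ↥S).map S.subtype ⊔ F.focalSubgroup := le_sup_right
      _ = (frattini ↥S).map S.subtype ⊔ H.focalSubgroup := h
      _ ≤ (frattini ↥S).map S.subtype ⊔ H.hyperfocalSubgroup p := by
        rw [hfocH]
        exact sup_le le_sup_left (sup_le le_sup_right (hcomm.trans le_sup_left))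
  have key2 : F.hyperfocalSubgroup p = H.hyperfocalSubgroup p → F.focalSubgroup = H.focalSubgroup := by
    intro h
    rw [hfocF, hfocH, h]
  exact ⟨⟨fun h => key2 (key h), fun h => by rw [h]⟩, ⟨fun h => key (by rw [h]), key2⟩⟩

end Cfsg.Agent.S5224
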