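import Cfsg.Statements.S5225
import Cfsg.Agent.Lib.Helper29.YoshidaMain

set_option autoImplicit false
open Cfsg

namespace Cfsg.Agent.S5225

/-- Yoshida's Theorem for fusion systems. Let F be a saturated fusion system over a finite p-group S and N the normalizer fusion system of S in F. If the focal subgroups of F and N differ (N does not control transfer in F), then S has a quotient isomorphic to the wreath product C_p ≀ C_p (realised as a Sylow p-subgroup of the symmetric group of degree p²). -/
theorem result {Ω : Type*} [Group Ω] {S : Subgroup Ω} [Finite S] (p : ℕ) [Fact p.Prime] (hS : IsPGroup p S) (F : Cfsg.FusionSystem S) (hF : F.IsSaturated p) (N : Cfsg.FusionSystem (Cfsg.FusionSystem.normalizerIn S S)) (hN : F.IsNormalizerSystem S N) (hne : N.focalSubgroup ≠ F.focalSubgroup) : ∃ (W : Sylow p (Equiv.Perm (Fin (p ^ 2)))) (f : ↥S →* ↥(W : Subgroup (Equiv.Perm (Fin (p ^ 2))))), Function.Surjective f := by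
  open Cfsg.Agent.Lib.Helper29 in
  by_contra hcon
  apply hne
  have hnw : NoWreath p S := hcon
  apply le_antisymm
  · unfold FusionSystem.focalSubgroup
    apply Subgroup.closure_mono
    rintro _ ⟨P, φ, x, hφ, rfl⟩
    rw [hN P] at hφ
    exact ⟨P, φ, x, hφ.1, rfl⟩
  · refine le_trans (yoshida_focal_le hS hnw F hF) ?_
    unfold topFocal FusionSystem.focalSubgroup
    apply Subgroup.closure_mono
    rintro _ ⟨φ, x, hφ, rfl⟩
    refine ⟨S, φ, x, ?_, rfl⟩
    rw [hN S]
    have hle : S ≤ FusionSystem.normalizerIn S S := le_inf le_rfl Subgroup.le_normalizer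
    have h : S ⊔ S ≤ S := sup_le le_rfl le_rfl
    refine ⟨hφ, hle, fun x => hle ((F.le_of_mem hφ).2 x), φ.comp (Subgroup.inclusion h),
      restrict_mem F h hφ, fun x => ?_, ?_⟩
    · show φ (Subgroup.inclusion h (Subgroup.inclusion le_sup_left x)) = φ x
      congr 1
    · ext y
      constructor
      · rintro ⟨z, _, rfl⟩
        exact (F.le_of_mem hφ).2 _
      · intro hy
        obtain ⟨α, hα, hαφ⟩ := exists_aut_of_hom_top F hφ
        refine ⟨Subgroup.inclusion le_sup_left (α.symm ⟨y, hy⟩), ?_, ?_⟩
        · rw [SetLike.mem_coe, Subgroup.mem_subgroupOf]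
          exact (α.symm ⟨y, hy⟩).2
        · show φ (Subgroup.inclusion h (Subgroup.inclusion le_sup_left (α.symm ⟨y, hy⟩))) = y
          have e : Subgroup.inclusion h (Subgroup.inclusion le_sup_left (α.symm ⟨y, hy⟩)) =
              α.symm ⟨y, hy⟩ := Subtype.ext rfl
          rw [e, ← hαφ, MulEquiv.apply_symm_apply]

end Cfsg.Agent.S5225
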