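import Cfsg.Statements.S5236
import Cfsg.Agent.Lib.Helper29.OmegaNormal

set_option autoImplicit false
open Cfsg

namespace Cfsg.Agent.S5236

/-- Let p be an odd prime, F a saturated fusion system over a finite p-group S and P a subgroup of S strongly closed in F. Then P is normal in F if and only if Ω₁(P) (the subgroup generated by the elements of order p of P) has a chain of subgroups 1 = Q₀ ≤ Q₁ ≤ ⋯ ≤ Qₙ = Ω₁(P), each strongly closed in F, with [Qᵢ₊₁, P] ≤ Qᵢ for all i. -/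
theorem result {Ω : Type*} [Group Ω] {S : Subgroup Ω} [Finite S] (p : ℕ) [Fact p.Prime] (hS : IsPGroup p S) (F : Cfsg.FusionSystem S) (hF : F.IsSaturated p) (hp : p ≠ 2) (P : Subgroup Ω) (hP : F.StronglyClosed P) : F.IsNormal P ↔ ∃ (n : ℕ) (Q : Fin (n + 1) → Subgroup Ω), Q 0 = ⊥ ∧ Q (Fin.last n) = Cfsg.omegaOne p P ∧ Monotone Q ∧ (∀ i : Fin (n + 1), F.StronglyClosed (Q i)) ∧ ∀ i : Fin n, ⁅Q i.succ, P⁆ ≤ Q i.castSucc := by
  open Cfsg.Agent.Lib.Helper29 in
  constructor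
  · intro hPn
    have hΩsc := omegaOne_stronglyClosed F hPn p
    have hΩle := omegaOne_le p P
    obtain ⟨n, Qs, h0, hn, hmono, h⟩ := exists_chain_of_ext hS F hPn.1 (exists_aut_of_isNormal F hPn)
    refine ⟨n, fun i => Qs i ⊓ Cfsg.omegaOne p P, ?_, ?_, ?_, ?_, ?_⟩
    · show Qs 0 ⊓ Cfsg.omegaOne p P = ⊥
      rw [h0, bot_inf_eq]
    · show Qs (Fin.last n) ⊓ Cfsg.omegaOne p P = Cfsg.omegaOne p P
      rw [hn]
      exact inf_eq_right.2 hΩle
    · exact fun a b hab => inf_le_inf_right _ (hmono hab)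
    · intro j
      refine Fin.cases ?_ (fun i => ?_) j
      · show F.StronglyClosed (Qs 0 ⊓ Cfsg.omegaOne p P)
        rw [h0, bot_inf_eq]
        exact stronglyClosed_bot F
      · exact stronglyClosed_inf F (h i).1 hΩsc
    · intro i
      apply le_inf
      · refine (Subgroup.commutator_mono inf_le_left le_rfl).trans ?_
        rw [Subgroup.commutator_comm]
        exact (h i).2
      · refine (Subgroup.commutator_mono inf_le_right le_rfl).trans ?_
        rw [Subgroup.commutator_le]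
        intro a ha b hb
        have h1 := conj_mem_of_stronglyClosed F hΩsc b (hPn.1 hb) a⁻¹ (inv_mem ha)
        show a * b * a⁻¹ * b⁻¹ ∈ Cfsg.omegaOne p P
        have e : a * b * a⁻¹ * b⁻¹ = a * (b * a⁻¹ * b⁻¹) := by group
        rw [e]
        exact Subgroup.mul_mem _ ha h1
  · rintro ⟨n, Q, h0, hn, hmono, hsc, hcomm⟩
    have hlt : ∀ i : ℕ, min i n < n + 1 := fun i => by omega
    refine isNormal_of_omega_chain p hS F hF hp P hP n (fun i => Q ⟨min i n, hlt i⟩) ?_ ?_ ?_ ?_ ?_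
    · show Q ⟨min 0 n, hlt 0⟩ = ⊥
      have e : (⟨min 0 n, hlt 0⟩ : Fin (n + 1)) = 0 := Fin.ext (by simp)
      rw [e, h0]
    · show Q ⟨min n n, hlt n⟩ = Cfsg.omegaOne p P
      have e : (⟨min n n, hlt n⟩ : Fin (n + 1)) = Fin.last n := Fin.ext (by simp)
      rw [e, hn]
    · intro i
      apply hmono
      show (⟨min i n, hlt i⟩ : Fin (n + 1)) ≤ ⟨min (i + 1) n, hlt (i + 1)⟩
      rw [Fin.mk_le_mk]
      omega
    · intro i
      exact hsc _
    · intro i hi
      have e1 : (⟨min (i + 1) n, hlt (i + 1)⟩ : Fin (n + 1)) = (⟨i, hi⟩ : Fin n).succ :=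
        Fin.ext (by simp; omega)
      have e2 : (⟨min i n, hlt i⟩ : Fin (n + 1)) = (⟨i, hi⟩ : Fin n).castSucc :=
        Fin.ext (by simp; omega)
      show ⁅Q ⟨min (i + 1) n, hlt (i + 1)⟩, P⁆ ≤ Q ⟨min i n, hlt i⟩
      rw [e1, e2]
      exact hcomm ⟨i, hi⟩

end Cfsg.Agent.S5236
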