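import Cfsg.Statements.S5245
import Cfsg.Agent.Lib.Helper29.AutSystem
import Cfsg.Agent.Lib.Helper29.FusionHyp
import Cfsg.Agent.Lib.Helper29.FusionInvariant
open Cfsg.Agent.Lib.Helper29

set_option autoImplicit false
open Cfsg

namespace Cfsg.Agent.S5245

/-- Let F be an extremely sparse fusion system over a finite p-group S (saturated, not the inner system, and every saturated fusion system over any subgroup T of S contained in F is F itself or the inner system of T). Then S is normal in F, the focal and hyperfocal subgroups of F are both S, and Aut_F(S) is generated by the inner automorphisms of S together with a single automorphism of prime order q ≠ p (F is the fusion system of the semidirect product of S by a cyclic group of prime order). -/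
theorem result {Ω : Type*} [Group Ω] {S : Subgroup Ω} [Finite S] (p : ℕ) [Fact p.Prime] (hS : IsPGroup p S) (F : Cfsg.FusionSystem S) (hF : F.IsSaturated p) (hxs : ¬ (∀ P : Subgroup Ω, F.Hom P = (Cfsg.innerFusionSystem S).Hom P) ∧ ∀ (T : Subgroup Ω) (E : Cfsg.FusionSystem T), E.IsSaturated p → E.IsSubsystemOf F → (T = S ∧ ∀ P : Subgroup Ω, E.Hom P = F.Hom P) ∨ (∀ P : Subgroup Ω, E.Hom P = (Cfsg.innerFusionSystem T).Hom P)) : F.IsNormal S ∧ F.focalSubgroup = S ∧ F.hyperfocalSubgroup p = S ∧ ∃ (q : ℕ) (β : MulAut ↥S), q.Prime ∧ q ≠ p ∧ β ∈ F.autGroup S ∧ orderOf β = q ∧ (F.autGroup S : Subgroup (MulAut ↥S)) = Cfsg.Inn ↥S ⊔ Subgroup.zpowers β := by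
  obtain ⟨hni, hsp⟩ := hxs
  have h1 : ∃ Q : Subgroup Ω, Q ≤ S ∧ ¬ IsPGroup p (F.autGroup Q) := by
    by_contra hcon
    push_neg at hcon
    apply hni
    intro P
    ext φ
    constructor
    · intro hφ
      have hPS := (F.le_of_mem hφ).1
      obtain ⟨g, hg, hge⟩ := hom_eq_conj_of_isPGroup_aut p hS F hF hcon _ P hPS rfl φ hφ
      exact ⟨hPS, g, hg, hge⟩
    · rintro ⟨hPS, g, hg, hge⟩
      have : φ = conjHom P g := by
        ext x
        exact hge x
      rw [this]
      exact F.conj_mem hPS hg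
  obtain ⟨Q, hQS, hQnp⟩ := h1
  have hfinQ : Finite Q := finite_of_le hQS
  have hfinA : Finite ↥(F.autGroup Q) := inferInstance
  obtain ⟨q, ⟨α, hα⟩, hq, hqp, hαo⟩ := exists_prime_order_of_not_isPGroup hQnp
  have hαo' : orderOf α = q := by
    rw [← hαo]
    exact (Subgroup.orderOf_mk α hα).symm
  have hqcop : Nat.Coprime q p := (Nat.coprime_primes hq Fact.out).2 hqp
  have key : ∀ (T : Subgroup Ω) (hTS : T ≤ S) (γ : MulAut T), γ ∈ F.autGroup T → orderOf γ = q →
      T = S ∧ ∀ P : Subgroup Ω, (autSystem T (Inn T ⊔ Subgroup.zpowers γ) le_sup_left).Hom P = F.Hom P := by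
    intro T hTS γ hγ hγo
    have hfinT : Finite T := finite_of_le hTS
    have hTp : IsPGroup p T := hS.to_le hTS
    have hcard : Nat.card (Subgroup.zpowers γ) = q := by rw [Nat.card_zpowers, hγo]
    have hcop : (Nat.card (Subgroup.zpowers γ)).Coprime p := by
      rw [hcard]
      exact hqcop
    have hsat := autSystem_saturated (Subgroup.zpowers γ) hTp hcop
    have hle : Inn T ⊔ Subgroup.zpowers γ ≤ F.autGroup T :=
      sup_le (inn_le_autGroup F hTS) ((Subgroup.zpowers_le).2 hγ)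
    have hsub := autSystem_subsystem (F := F) hTS (hK := le_sup_left) hle
    rcases hsp T _ hsat hsub with h | hin
    · exact h
    · exfalso
      have h2 := autSystem_inner (hin T)
      exact not_mem_inn_of_orderOf hTp hq hqp hγo (h2 (Subgroup.mem_sup_right (Subgroup.mem_zpowers γ)))
  have hQ : S = Q := (key Q hQS α hα hαo').1.symm
  subst hQ
  obtain ⟨-, hEF⟩ := key S le_rfl α hα hαo'
  have hleE : Inn S ⊔ Subgroup.zpowers α ≤ F.autGroup S :=
    sup_le (inn_le_autGroup F le_rfl) ((Subgroup.zpowers_le).2 hα)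
  have haut : F.autGroup S = Inn S ⊔ Subgroup.zpowers α := by
    apply le_antisymm _ hleE
    intro γ hγ
    have h1 := (mem_autGroup_iff F le_rfl).1 hγ
    rw [← hEF S] at h1
    obtain ⟨_, κ, hκ, h⟩ := h1
    have : γ = κ := by
      ext x
      exact h x
    rw [this]
    exact hκ
  have hnorm : F.IsNormal S := by
    refine ⟨le_rfl, fun P φ hφ => ?_⟩
    have hPS := (F.le_of_mem hφ).1
    rw [← hEF P] at hφ
    obtain ⟨_, κ, hκ, h⟩ := hφ
    have hκF : S.subtype.comp κ.toMonoidHom ∈ F.Hom S := (mem_autGroup_iff F le_rfl).1 (hleE hκ)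
    have e : S = P ⊔ S := (sup_eq_right.2 hPS).symm
    obtain ⟨ψ, hψ, hψe⟩ := hom_of_eq F e hκF
    refine ⟨ψ, hψ, fun x => ?_, ?_⟩
    · rw [h x]
      exact hψe x.1 (hPS x.2) _
    · ext y
      constructor
      · rintro ⟨x, _, rfl⟩
        have hx : (x : Ω) ∈ S := (le_of_eq e.symm) x.2
        have h2 : ψ x = _ := hψe x.1 hx x.2
        rw [h2]
        exact (κ _).2
      · intro hy
        refine ⟨⟨(κ⁻¹ ⟨y, hy⟩ : S), Subgroup.mem_sup_right (κ⁻¹ _).2⟩,
          Subgroup.mem_subgroupOf.2 (κ⁻¹ _).2, ?_⟩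
        have h2 := hψe _ (κ⁻¹ ⟨y, hy⟩).2 (Subgroup.mem_sup_right (κ⁻¹ ⟨y, hy⟩).2)
        refine h2.trans ?_
        show ((κ (κ⁻¹ ⟨y, hy⟩) : S) : Ω) = y
        rw [MulAut.apply_inv_self]
  have hhyp : F.hyperfocalSubgroup p = S := by
    apply le_antisymm (hyperfocal_le F p)
    have hTS : Subgroup.closure {y | ∃ x : S, y = (x : Ω)⁻¹ * ((α x : S) : Ω)} ≤ S := by
      rw [Subgroup.closure_le]
      rintro _ ⟨x, rfl⟩
      exact S.mul_mem (S.inv_mem x.2) (α x).2
    have hThyp : Subgroup.closure {y | ∃ x : S, y = (x : Ω)⁻¹ * ((α x : S) : Ω)} ≤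
        F.hyperfocalSubgroup p := by
      rw [Subgroup.closure_le]
      rintro _ ⟨x, rfl⟩
      apply Subgroup.subset_closure
      refine ⟨S, ⟨α, hα⟩, x, le_rfl, ?_, rfl⟩
      apply Subgroup.subset_closure
      show Nat.Coprime (orderOf (⟨α, hα⟩ : F.autGroup S)) p
      rw [Subgroup.orderOf_mk, hαo']
      exact hqcop
    have hαT : ∀ y ∈ Subgroup.closure {y | ∃ x : S, y = (x : Ω)⁻¹ * ((α x : S) : Ω)},
        ∀ h : y ∈ S, ((α ⟨y, h⟩ : S) : Ω) ∈
          Subgroup.closure {y | ∃ x : S, y = (x : Ω)⁻¹ * ((α x : S) : Ω)} := by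
      intro y hy
      induction hy using Subgroup.closure_induction with
      | mem y hy =>
        intro h
        obtain ⟨x, rfl⟩ := hy
        apply Subgroup.subset_closure
        refine ⟨α x, ?_⟩
        have e : (⟨(x : Ω)⁻¹ * ((α x : S) : Ω), h⟩ : S) = x⁻¹ * α x := Subtype.ext rfl
        rw [e, map_mul, map_inv]
        rfl
      | one =>
        intro h
        have e : (⟨1, h⟩ : S) = 1 := rfl
        rw [e, map_one]
        exact Subgroup.one_mem _
      | mul y z hy hz ihy ihz =>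
        intro h
        have e : (⟨y * z, h⟩ : S) = ⟨y, hTS hy⟩ * ⟨z, hTS hz⟩ := rfl
        rw [e, map_mul]
        exact Subgroup.mul_mem _ (ihy _) (ihz _)
      | inv y hy ihy =>
        intro h
        have e : (⟨y⁻¹, h⟩ : S) = (⟨y, hTS hy⟩ : S)⁻¹ := rfl
        rw [e, map_inv]
        exact Subgroup.inv_mem _ (ihy _)
    have hαF : S.subtype.comp α.toMonoidHom ∈ F.Hom S := (mem_autGroup_iff F le_rfl).1 hα
    have h3 := restrict_mem F hTS hαF
    have hfinT : Finite ↥(Subgroup.closure {y | ∃ x : S, y = (x : Ω)⁻¹ * ((α x : S) : Ω)}) :=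
      finite_of_le hTS
    obtain ⟨γ, hγ, hγe⟩ := exists_aut_of_hom F h3 (fun t => hαT t.1 t.2 (hTS t.2))
    have hγe' : ∀ t : ↥(Subgroup.closure {y | ∃ x : S, y = (x : Ω)⁻¹ * ((α x : S) : Ω)}),
        ((γ t : ↥(Subgroup.closure {y | ∃ x : S, y = (x : Ω)⁻¹ * ((α x : S) : Ω)})) : Ω) =
          ((α ⟨t, hTS t.2⟩ : S) : Ω) := hγe
    have hγpow : ∀ (n : ℕ) (t : ↥(Subgroup.closure {y | ∃ x : S, y = (x : Ω)⁻¹ * ((α x : S) : Ω)})),
        (((γ ^ n) t : ↥(Subgroup.closure {y | ∃ x : S, y = (x : Ω)⁻¹ * ((α x : S) : Ω)})) : Ω) =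
          (((α ^ n) ⟨t, hTS t.2⟩ : S) : Ω) := by
      intro n
      induction n with
      | zero => intro t; rfl
      | succ n ih =>
        intro t
        rw [pow_succ', pow_succ', MulAut.mul_apply, MulAut.mul_apply, hγe']
        congr 2
        exact Subtype.ext (ih t)
    have hαq : α ^ q = 1 := by rw [← hαo']; exact pow_orderOf_eq_one α
    have hγq : γ ^ q = 1 := by
      ext t
      rw [hγpow, hαq]
      rfl
    have hγ1 : γ ≠ 1 := by
      intro hγ1
      have hα1 : α = 1 := by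
        apply aut_eq_one_of_fix_commutators hS hq hqp hαq
        intro x
        have hxT : ((x⁻¹ * α x : S) : Ω) ∈
            Subgroup.closure {y | ∃ x : S, y = (x : Ω)⁻¹ * ((α x : S) : Ω)} :=
          Subgroup.subset_closure ⟨x, rfl⟩
        have h4 := hγe' ⟨_, hxT⟩
        rw [hγ1] at h4
        exact Subtype.ext h4.symm
      rw [hα1, orderOf_one] at hαo'
      exact hq.one_lt.ne hαo'
    haveI : Fact q.Prime := ⟨hq⟩
    have hγo : orderOf γ = q := orderOf_eq_prime hγq hγ1
    have hT := (key _ hTS γ hγ hγo).1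
    calc S = _ := hT.symm
      _ ≤ _ := hThyp
  refine ⟨hnorm, ?_, hhyp, q, α, hq, hqp, hα, hαo', haut⟩
  rw [focal_eq_hyperfocal_sup p hS F hF, hhyp]
  apply sup_eq_left.2
  rw [Subgroup.commutator_le]
  intro a ha b hb
  exact S.mul_mem (S.mul_mem (S.mul_mem ha hb) (S.inv_mem ha)) (S.inv_mem hb)

end Cfsg.Agent.S5245
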