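import Cfsg.Statements.S5247
-- import your own Cfsg.Agent.* helpers here
import Mathlib
import Cfsg.Agent.Lib.Helper2.Cores
import Cfsg.Agent.Lib.Helper29.FusionAut
import Cfsg.Agent.Lib.Helper29.FusionRS
import Cfsg.Agent.Lib.Helper29.NormalizerConstrained
import Cfsg.Agent.S5096

set_option autoImplicit false
open Cfsg

namespace Cfsg.Agent.S5247

open Cfsg.Agent.Lib.Helper29 Cfsg.Agent.Lib.Helper2

theorem le_pCore_map {A : Type*} [Group A] (p : ℕ) (G K : Subgroup A) (hKG : K ≤ G) (hK : IsPGroup p K)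
    (hnorm : ∀ g ∈ G, ∀ k ∈ K, g * k * g⁻¹ ∈ K) : K ≤ (pCore p ↥G).map G.subtype := by
  have hN : (K.subgroupOf G).Normal := by
    constructor
    intro n hn g
    rw [Subgroup.mem_subgroupOf] at hn ⊢
    simpa using hnorm g g.2 n hn
  have hP : IsPGroup p (K.subgroupOf G) :=
    hK.of_equiv (Subgroup.subgroupOfEquivOfLe hKG).symm
  intro k hk
  have h1 : (⟨k, hKG hk⟩ : G) ∈ K.subgroupOf G := by rw [Subgroup.mem_subgroupOf]; exact hk
  exact ⟨⟨k, hKG hk⟩, le_pCore hN hP h1, rfl⟩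

theorem pCore_map_isPGroup {A : Type*} [Group A] [Finite A] (p : ℕ) [Fact p.Prime] (G : Subgroup A) :
    IsPGroup p ((pCore p ↥G).map G.subtype) :=
  (pCore_isPGroup p).map _

theorem pCore_map_le {A : Type*} [Group A] (p : ℕ) (G : Subgroup A) :
    (pCore p ↥G).map G.subtype ≤ G := by
  rintro _ ⟨x, _, rfl⟩
  exact x.2

theorem pCore_map_conj {A : Type*} [Group A] (p : ℕ) (G : Subgroup A) (g : A) (hg : g ∈ G) (k : A)
    (hk : k ∈ (pCore p ↥G).map G.subtype) : g * k * g⁻¹ ∈ (pCore p ↥G).map G.subtype := by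
  obtain ⟨x, hx, rfl⟩ := hk
  exact ⟨⟨g, hg⟩ * x * ⟨g, hg⟩⁻¹, (pCore_normal p _).conj_mem x hx _, rfl⟩

theorem mulAut_comm_of_isCyclic {Q : Type*} [Group Q] [IsCyclic Q] (α β : MulAut Q) :
    α * β = β * α := by
  obtain ⟨g, hg⟩ := IsCyclic.exists_generator (α := Q)
  obtain ⟨a, ha⟩ := Subgroup.mem_zpowers_iff.mp (hg (α g))
  obtain ⟨b, hb⟩ := Subgroup.mem_zpowers_iff.mp (hg (β g))
  ext x
  obtain ⟨n, rfl⟩ := Subgroup.mem_zpowers_iff.mp (hg x)
  simp only [MulAut.mul_apply, map_zpow]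
  rw [← hb, ← ha, map_zpow, map_zpow, ← ha, ← hb]
  congr 1
  rw [← zpow_mul, ← zpow_mul, mul_comm]

theorem quad_pow {Q : Type*} [Group Q] (χ : MulAut Q)
    (hquad : ∀ a : Q, (χ a⁻¹) * a * (χ a⁻¹) * (χ (χ a)) = 1) (m : ℕ) (a : Q) :
    (χ ^ m) a = (χ a * a⁻¹) ^ m * a := by
  induction m with
  | zero => simp
  | succ m ih =>
    have h1 : χ (χ a) = χ a * a⁻¹ * χ a := by
      have h := hquad a
      rw [map_inv] at h
      have h2 := eq_inv_of_mul_eq_one_right h
      rw [h2]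
      group
    rw [pow_succ', MulAut.mul_apply, ih, map_mul, map_pow, map_mul, map_inv, h1, pow_succ]
    group

theorem quad_pow_card {Q : Type*} [Group Q] [Finite Q] (χ : MulAut Q)
    (hquad : ∀ a : Q, (χ a⁻¹) * a * (χ a⁻¹) * (χ (χ a)) = 1) : χ ^ (Nat.card Q) = 1 := by
  ext a
  rw [quad_pow χ hquad, pow_card_eq_one', one_mul]
  rfl


section fus
variable {Ω : Type*} [Group Ω] {S : Subgroup Ω}

theorem congr_symm_mem (F : FusionSystem S) {Q P : Subgroup Ω} {φ : Q →* Ω} (hφ : φ ∈ F.Hom Q)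
    (hr : φ.range = P) {β : MulAut P} (hβ : β ∈ F.autGroup P) :
    (MulAut.congr (isoOfHom F hφ hr)).symm β ∈ F.autGroup Q := by
  obtain ⟨ψ, hψ, hinv⟩ := exists_inv_iso F hφ hr
  set e := isoOfHom F hφ hr with he
  have hψe : ∀ y : P, ψ y = (e.symm y : Q) := by
    intro y
    obtain ⟨x, rfl⟩ := e.surjective y
    have := hinv x (e x).2
    rw [MulEquiv.symm_apply_apply]
    exact this
  have hrψ : ψ.range = Q := by
    ext z
    constructor
    · rintro ⟨y, rfl⟩
      rw [hψe]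
      exact (e.symm y).2
    · intro hz
      refine ⟨e ⟨z, hz⟩, ?_⟩
      rw [hψe, e.symm_apply_apply]
  have h := congr_mem_autGroup F hψ hrψ hβ
  have heq : isoOfHom F hψ hrψ = e.symm := by
    ext y
    rw [isoOfHom_coe]
    exact hψe y
  rw [heq] at h
  have h2 : (MulAut.congr e).symm β = MulAut.congr e.symm β := by
    ext x
    rfl
  rw [h2]
  exact h

theorem transport [Finite S] (p : ℕ) [Fact p.Prime] (F : FusionSystem S)
    (hPS : ∀ Q : Subgroup Ω, F.IsFullyNormalized Q → ∀ χ : MulAut ↥Q, χ ∈ F.autGroup Q →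
      (∀ a : ↥Q, (χ a⁻¹) * a * (χ a⁻¹) * (χ (χ a)) = 1) →
      χ ∈ ((Cfsg.pCore p ↥(F.autGroup Q)).map (F.autGroup Q).subtype : Subgroup (MulAut ↥Q)))
    (Q : Subgroup Ω) (hQ : Q ≤ S) (χ : MulAut ↥Q) (hχ : χ ∈ F.autGroup Q)
    (hquad : ∀ a : ↥Q, (χ a⁻¹) * a * (χ a⁻¹) * (χ (χ a)) = 1) :
    χ ∈ ((Cfsg.pCore p ↥(F.autGroup Q)).map (F.autGroup Q).subtype : Subgroup (MulAut ↥Q)) := by
  obtain ⟨Q', ⟨φ, hφ, hr⟩, hfn⟩ := exists_fullyNormalized_conj F hQ
  set e := isoOfHom F hφ hr with he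
  have h1 : MulAut.congr e χ ∈ F.autGroup Q' := congr_mem_autGroup F hφ hr hχ
  have key : ∀ b : ↥Q, (MulAut.congr e χ) (e b) = e (χ b) := by
    intro b
    show e (χ (e.symm (e b))) = _
    rw [e.symm_apply_apply]
  have hq' : ∀ a : ↥Q', ((MulAut.congr e χ) a⁻¹) * a * ((MulAut.congr e χ) a⁻¹) *
      ((MulAut.congr e χ) ((MulAut.congr e χ) a)) = 1 := by
    intro a
    obtain ⟨b, rfl⟩ := e.surjective a
    rw [← map_inv e b]
    simp only [key]
    rw [← map_mul, ← map_mul, ← map_mul, hquad b, map_one]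
  have h2 := hPS Q' hfn _ h1 hq'
  have hQ'S : Q' ≤ S := hfn.1
  haveI : Finite ↥Q' := Finite.of_injective (Subgroup.inclusion hQ'S) (Subgroup.inclusion_injective hQ'S)
  haveI : Finite ↥Q := Finite.of_injective (Subgroup.inclusion hQ) (Subgroup.inclusion_injective hQ)
  set K : Subgroup (MulAut ↥Q) := ((Cfsg.pCore p ↥(F.autGroup Q')).map (F.autGroup Q').subtype).map
    (MulAut.congr e).symm.toMonoidHom with hK
  have hle := le_pCore_map p (F.autGroup Q) K ?_ ?_ ?_
  · apply hle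
    refine ⟨MulAut.congr e χ, h2, ?_⟩
    exact (MulAut.congr e).symm_apply_apply χ
  · rintro _ ⟨β, hβ, rfl⟩
    exact congr_symm_mem F hφ hr (pCore_map_le p _ hβ)
  · exact (pCore_map_isPGroup p _).map _
  · rintro g hg _ ⟨β, hβ, rfl⟩
    refine ⟨MulAut.congr e g * β * (MulAut.congr e g)⁻¹,
      pCore_map_conj p _ _ (congr_mem_autGroup F hφ hr hg) _ hβ, ?_⟩
    show (MulAut.congr e).symm (MulAut.congr e g * β * (MulAut.congr e g)⁻¹) =
      g * (MulAut.congr e).symm β * g⁻¹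
    rw [map_mul, map_mul, map_inv, MulEquiv.symm_apply_apply]

end fus


/-- Let p be an odd prime and F a saturated fusion system over a finite p-group S. Call a fusion system E (over any subgroup) p-stable when, for every fully E-normalized subgroup Q and every χ ∈ Aut_E(Q) with χ(a⁻¹)·a·χ(a⁻¹)·χ(χ(a)) = 1 for all a ∈ Q (χ acts quadratically), χ lies in O_p(Aut_E(Q)). Then F is p-stable if and only if every normalizer fusion system N_F(R) of every non-cyclic fully F-normalized subgroup R of S is p-stable. -/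
theorem result {Ω : Type*} [Group Ω] {S : Subgroup Ω} [Finite S] (p : ℕ) [Fact p.Prime] (hS : IsPGroup p S) (F : Cfsg.FusionSystem S) (hF : F.IsSaturated p) (hp : p ≠ 2) : (∀ Q : Subgroup Ω, F.IsFullyNormalized Q → ∀ χ : MulAut ↥Q, χ ∈ F.autGroup Q → (∀ a : ↥Q, (χ a⁻¹) * a * (χ a⁻¹) * (χ (χ a)) = 1) → χ ∈ ((Cfsg.pCore p ↥(F.autGroup Q)).map (F.autGroup Q).subtype : Subgroup (MulAut ↥Q))) ↔ ∀ R : Subgroup Ω, F.IsFullyNormalized R → ¬ IsCyclic ↥R → ∀ N : Cfsg.FusionSystem (Cfsg.FusionSystem.normalizerIn S R), F.IsNormalizerSystem R N → (∀ Q : Subgroup Ω, N.IsFullyNormalized Q → ∀ χ : MulAut ↥Q, χ ∈ N.autGroup Q → (∀ a : ↥Q, (χ a⁻¹) * a * (χ a⁻¹) * (χ (χ a)) = 1) → χ ∈ ((Cfsg.pCore p ↥(N.autGroup Q)).map (N.autGroup Q).subtype : Subgroup (MulAut ↥Q))) := by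
  constructor
  · intro hPS R hR hRnc N hN Q hQN χ hχ hquad
    have hQS : Q ≤ S := le_trans hQN.1 inf_le_left
    haveI : Finite ↥Q := Finite.of_injective (Subgroup.inclusion hQS) (Subgroup.inclusion_injective hQS)
    have hle : N.autGroup Q ≤ F.autGroup Q := by
      unfold FusionSystem.autGroup
      apply Subgroup.closure_mono
      intro α hα
      have hα' : (Q.subtype.comp α.toMonoidHom) ∈ N.Hom Q := hα
      rw [hN Q] at hα'
      exact hα'.1
    have h1 := transport p F hPS Q hQS χ (hle hχ) hquad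
    have hle2 := le_pCore_map p (N.autGroup Q)
      (((Cfsg.pCore p ↥(F.autGroup Q)).map (F.autGroup Q).subtype) ⊓ N.autGroup Q) inf_le_right
      ((pCore_map_isPGroup p _).to_le inf_le_left) ?_
    · exact hle2 ⟨h1, hχ⟩
    · intro g hg k hk
      exact ⟨pCore_map_conj p _ g (hle hg) k hk.1,
        (N.autGroup Q).mul_mem ((N.autGroup Q).mul_mem hg hk.2) ((N.autGroup Q).inv_mem hg)⟩
  · intro h Q hQ χ hχ hquad
    have hQS : Q ≤ S := hQ.1
    haveI : Finite ↥Q := Finite.of_injective (Subgroup.inclusion hQS) (Subgroup.inclusion_injective hQS)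
    by_cases hc : IsCyclic ↥Q
    · have hQp : IsPGroup p ↥Q :=
        hS.of_injective (Subgroup.inclusion hQS) (Subgroup.inclusion_injective hQS)
      obtain ⟨n, hn⟩ := IsPGroup.iff_card.mp hQp
      have hpow : χ ^ (p ^ n) = 1 := by rw [← hn]; exact quad_pow_card χ hquad
      have hle := le_pCore_map p (F.autGroup Q) (Subgroup.zpowers χ)
        (Subgroup.zpowers_le.mpr hχ) ?_ ?_
      · exact hle (Subgroup.mem_zpowers χ)
      · rintro ⟨k, hk⟩
        obtain ⟨j, rfl⟩ := Subgroup.mem_zpowers_iff.mp hk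
        refine ⟨n, ?_⟩
        apply Subtype.ext
        show (χ ^ j) ^ (p ^ n) = 1
        rw [← zpow_natCast, ← zpow_mul, mul_comm, zpow_mul, zpow_natCast, hpow, one_zpow]
      · intro g _ k hk
        rw [mulAut_comm_of_isCyclic g k, mul_inv_cancel_right]
        exact hk
    · obtain ⟨N, hN⟩ := Cfsg.Agent.S5096.result F Q hQS
      have hQN : N.IsFullyNormalized Q := by
        refine ⟨le_normalizerIn hQS, fun Q' _ => ?_⟩
        have hsub : FusionSystem.normalizerIn (FusionSystem.normalizerIn S Q) Q ≤ S :=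
          le_trans inf_le_left inf_le_left
        haveI : Finite ↥(FusionSystem.normalizerIn (FusionSystem.normalizerIn S Q) Q) :=
          Finite.of_injective (Subgroup.inclusion hsub) (Subgroup.inclusion_injective hsub)
        apply Subgroup.card_le_of_le
        intro x hx
        exact ⟨hx.1, hx.1.2⟩
      have hEq := normalizerSystem_autGroup_eq hN hQS
      have hχN : χ ∈ N.autGroup Q := by rw [hEq]; exact hχ
      have := h Q hQ hc N hN Q hQN χ hχN hquad
      rw [hEq] at this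
      exact this


end Cfsg.Agent.S5247
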