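import Cfsg.Statements.S5254
import Mathlib
import Cfsg.Agent.Lib.Helper11.UAe

set_option autoImplicit false
open Cfsg

namespace Cfsg.Agent.S5254

open Cfsg.Agent.Lib.Helper29 Cfsg.Agent.Lib.Helper11.UAa Cfsg.Agent.Lib.Helper11.UAb
  Cfsg.Agent.Lib.Helper11.UAc Cfsg.Agent.Lib.Helper11.ESe in
/-- Let p be an odd prime, S a finite nonabelian p-group with a unique abelian subgroup A of index p, and F a saturated fusion system over S. Then every F-essential subgroup P is A, or Z(S)⟨x⟩ for some x ∈ S outside A, or (when the second centre Z₂(S) lies in A) Z₂(S)⟨x⟩ for some x ∈ S outside A; and P has index p in its normalizer in S. -/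
theorem result {Ω : Type*} [Group Ω] {S : Subgroup Ω} [Finite S] (p : ℕ) [Fact p.Prime] (hS : IsPGroup p S) (F : Cfsg.FusionSystem S) (hF : F.IsSaturated p) (hp : p ≠ 2) (hna : ¬ IsMulCommutative ↥S) (A : Subgroup Ω) (hA : A ≤ S ∧ IsMulCommutative ↥A ∧ (A.subgroupOf S).index = p) (huniq : ∀ B : Subgroup Ω, B ≤ S → IsMulCommutative ↥B → (B.subgroupOf S).index = p → B = A) (P : Subgroup Ω) (hP : F.IsEssential p P) : (P = A ∨ (∃ x ∈ S, x ∉ A ∧ P = (S ⊓ Subgroup.centralizer (S : Set Ω)) ⊔ Subgroup.zpowers x) ∨ (((upperCentralSeries ↥S 2).map S.subtype) ≤ A ∧ ∃ x ∈ S, x ∉ A ∧ P = ((upperCentralSeries ↥S 2).map S.subtype) ⊔ Subgroup.zpowers x)) ∧ (P.subgroupOf (S ⊓ Subgroup.normalizer (P : Set Ω))).index = p := by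
  have h : UAb S A p := uab_of_index hS hA.1 hA.2.1 hA.2.2
  have hPS : P ≤ S := hP.1.1
  by_cases hPA : P ≤ A
  · -- `P = A`
    have hAP : A ≤ P := by
      refine le_trans ?_ (cen_le F hP)
      intro a ha
      refine Subgroup.mem_inf.2 ⟨h.le ha, ?_⟩
      rw [Subgroup.mem_centralizer_iff]
      intro y hy
      exact h.comm y (hPA hy) a ha
    have hPeq : P = A := le_antisymm hPA hAP
    refine ⟨Or.inl hPeq, ?_⟩
    have hN : S ⊓ Subgroup.normalizer (P : Set Ω) = S := by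
      apply le_antisymm inf_le_left
      intro s hs
      refine Subgroup.mem_inf.2 ⟨hs, ?_⟩
      rw [hPeq, Subgroup.mem_normalizer_iff]
      intro a
      constructor
      · intro ha
        exact h.norm s hs a ha
      · intro ha
        have := h.norm' hs ha
        have e : s⁻¹ * (s * a * s⁻¹) * s = a := by group
        rwa [e] at this
    rw [hN, hPeq]
    exact hA.2.2
  · obtain ⟨x, hxP, hxA⟩ := SetLike.not_le_iff_exists.1 hPA
    obtain ⟨γ, hγ, b₁, hb₁, hγb₁⟩ := exists_moved hS F hF h hP hxP hxA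
    refine ⟨Or.inr ?_, index_eq hS F hF h hP hγ hb₁ hγb₁⟩
    rcases struct hS F hF h hP hγ hb₁ hγb₁ with h1 | ⟨h1, h2⟩
    · exact Or.inl ⟨_, hPS (γ b₁).2, hγb₁, h1⟩
    · exact Or.inr ⟨h1, _, hPS (γ b₁).2, hγb₁, h2⟩

end Cfsg.Agent.S5254
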