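import Cfsg.Statements.S5265
import Mathlib
import Cfsg.Agent.Lib.Helper11.ESk
import Cfsg.Agent.Lib.Helper11.ESp
import Cfsg.Agent.Lib.Helper17.OrderPCube

set_option autoImplicit false
open Cfsg

namespace Cfsg.Agent.S5265

/-- Let p be a prime, S a nontrivial finite p-group whose centre has index at most p², and F a saturated fusion system over S with no nontrivial normal subgroup and with hyperfocal subgroup equal to S. Then S is extraspecial of order p³; for odd p it has exponent p, and for p = 2 it is dihedral of order 8. -/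
theorem result {Ω : Type*} [Group Ω] {S : Subgroup Ω} [Finite S] (p : ℕ) [Fact p.Prime] (hS : IsPGroup p ↥S) (F : Cfsg.FusionSystem S) (hF : F.IsSaturated p) (hS1 : S ≠ ⊥) (hcore : F.core = ⊥) (hhyp : F.hyperfocalSubgroup p = S) (hZ : (Subgroup.center ↥S).index ≤ p ^ 2) : Cfsg.IsExtraspecial p ↥S ∧ Nat.card S = p ^ 3 ∧ (p ≠ 2 → Monoid.exponent ↥S = p) ∧ (p = 2 → Nonempty (↥S ≃* DihedralGroup 4)) := by
  open Cfsg.Agent.Lib.Helper11.ESe Cfsg.Agent.Lib.Helper29 in
  classical
  have hp : p.Prime := Fact.out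
  -- `S` is nonabelian
  have hnab : ¬ ∀ a b : S, a * b = b * a := by
    intro hab
    apply hS1
    apply eq_bot_of_isNormal F hcore
    apply isNormal_of_invariant hS F hF S le_rfl
    · intro P hPe
      have hPS : P ≤ S := hPe.1.1
      have hcen : FusionSystem.centralizerIn S P ≤ P := hPe.1.2 P (isConj_refl F hPS)
      refine le_trans ?_ hcen
      intro s hs
      refine Subgroup.mem_inf.2 ⟨hs, ?_⟩
      rw [Subgroup.mem_centralizer_iff]
      intro x hx
      exact congrArg Subtype.val (hab ⟨x, hPS hx⟩ ⟨s, hs⟩)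
    · intro P hP α _ x _
      have hPS : P ≤ S := by
        rcases hP with rfl | hP
        · exact le_rfl
        · exact hP.1.1
      exact hPS (α x).2
  -- the index of the centre is `p²`
  have hidx : (Subgroup.center ↥S).index = p ^ 2 := by
    obtain ⟨n, hn⟩ := IsPGroup.iff_card.1 hS
    have hdvd : (Subgroup.center ↥S).index ∣ p ^ n := hn ▸ Subgroup.index_dvd_card _
    obtain ⟨k, -, hk⟩ := (Nat.dvd_prime_pow hp).1 hdvd
    have hk2 : k ≤ 2 := by
      rw [hk] at hZ
      exact (Nat.pow_le_pow_iff_right hp.one_lt).1 hZ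
    interval_cases k
    · exfalso
      apply hnab
      rw [pow_zero, Subgroup.index_eq_one] at hk
      intro a b
      have : b ∈ Subgroup.center ↥S := hk ▸ Subgroup.mem_top b
      exact (Subgroup.mem_center_iff.1 this a)
    · exfalso
      apply hnab
      rw [pow_one] at hk
      have hcq : Nat.card (↥S ⧸ Subgroup.center ↥S) = p := hk
      haveI : IsCyclic (↥S ⧸ Subgroup.center ↥S) := isCyclic_of_prime_card hcq
      intro a b
      exact (MonoidHom.isMulCommutative_of_isCyclic_of_ker_le_center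
        (QuotientGroup.mk' (Subgroup.center ↥S))
        (by rw [QuotientGroup.ker_mk'])).is_comm.comm a b
    · exact hk
  obtain ⟨K, c⟩ := exists_ctx hidx
  have hnc : ∃ a b : S, a * b ≠ b * a := by
    by_contra hcon
    push_neg at hcon
    exact hnab hcon
  by_cases hp2 : p = 2
  · subst hp2
    obtain ⟨hcard, b₁, b₂, hb₁, hb₂, hb₁₂⟩ := two_main c hS F hF hcore hS1 hhyp
    have hcard3 : Nat.card S = 2 ^ 3 := by rw [hcard]; norm_num
    refine ⟨Cfsg.Agent.Lib.Helper17.isExtraspecial_of_card_cube hcard3 hnc, hcard3,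
      fun h => absurd rfl h, fun _ => ?_⟩
    have hb₁1 : b₁ ≠ 1 := by
      intro h
      apply hb₁₂
      rw [h, one_mul, mul_one]
    have hb₂1 : b₂ ≠ 1 := by
      intro h
      apply hb₁₂
      rw [h, one_mul, mul_one]
    have ho₁ : orderOf b₁ = 2 := orderOf_eq_prime (by rw [pow_two]; exact hb₁) hb₁1
    have ho₂ : orderOf b₂ = 2 := orderOf_eq_prime (by rw [pow_two]; exact hb₂) hb₂1
    obtain ⟨e⟩ := Cfsg.Agent.Lib.Helper24.closure_pair_equiv_dihedral ho₁ ho₂
    have hcardN : Nat.card (Subgroup.closure {b₁, b₂}) = 2 * orderOf (b₁ * b₂) := by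
      rw [Nat.card_congr e.toEquiv, DihedralGroup.nat_card]
    have hdvd : Nat.card (Subgroup.closure {b₁, b₂}) ∣ 8 := hcard ▸ Subgroup.card_subgroup_dvd_card _
    have hb₁inv : b₁⁻¹ = b₁ := inv_eq_of_mul_eq_one_left hb₁
    have hb₂inv : b₂⁻¹ = b₂ := inv_eq_of_mul_eq_one_left hb₂
    have hn0 : 0 < orderOf (b₁ * b₂) := orderOf_pos _
    have hn1 : orderOf (b₁ * b₂) ≠ 1 := by
      intro h
      rw [orderOf_eq_one_iff] at h
      apply hb₁₂
      have : b₁ = b₂ := by
        have := eq_inv_of_mul_eq_one_left h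
        rw [this, hb₂inv]
      rw [this]
    have hn2 : orderOf (b₁ * b₂) ≠ 2 := by
      intro h
      have h2 : (b₁ * b₂) ^ 2 = 1 := by rw [← h]; exact pow_orderOf_eq_one _
      apply hb₁₂
      rw [pow_two] at h2
      calc b₁ * b₂ = (b₁ * b₂ * (b₁ * b₂)) * b₂⁻¹ * b₁⁻¹ := by group
        _ = b₂ * b₁ := by rw [h2, one_mul, hb₂inv, hb₁inv]
    have hn4 : orderOf (b₁ * b₂) = 4 := by
      rw [hcardN] at hdvd
      have hle : 2 * orderOf (b₁ * b₂) ≤ 8 := Nat.le_of_dvd (by norm_num) hdvd
      have hn3 : orderOf (b₁ * b₂) ≠ 3 := by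
        intro h
        rw [h] at hdvd
        norm_num at hdvd
      omega
    rw [hn4] at e hcardN
    have htop : Subgroup.closure {b₁, b₂} = ⊤ := by
      apply Subgroup.eq_top_of_card_eq
      rw [hcardN, hcard]
    exact ⟨(Subgroup.topEquiv.symm.trans (MulEquiv.subgroupCongr htop.symm)).trans e⟩
  · obtain ⟨hZK, -⟩ := odd_main c hS F hF hp2 hcore hS1
    have hexp := odd_exponent c hS F hF hp2 hcore hS1
    have hcard3 : Nat.card S = p ^ 3 := by
      have := c.hcard
      rw [hZK, c.hK] at this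
      rw [this]
      ring
    refine ⟨Cfsg.Agent.Lib.Helper17.isExtraspecial_of_card_cube hcard3 hnc, hcard3,
      fun _ => ?_, fun h => absurd h hp2⟩
    have hdvd : Monoid.exponent ↥S ∣ p := by
      apply Monoid.exponent_dvd_of_forall_pow_eq_one
      intro g
      exact Subtype.ext (by simpa using hexp g g.2)
    rcases (Nat.dvd_prime hp).1 hdvd with h | h
    · exfalso
      rw [Monoid.exp_eq_one_iff] at h
      apply hS1
      rw [eq_bot_iff]
      intro s hs
      have : (⟨s, hs⟩ : S) = 1 := Subsingleton.elim _ _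
      rw [Subgroup.mem_bot]
      exact congrArg Subtype.val this
    · exact h

end Cfsg.Agent.S5265
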