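import Cfsg.Statements.S5276
import Cfsg.Agent.Lib.Helper29.NormInner
import Cfsg.Agent.Lib.Helper2.PGroupFrattini

set_option autoImplicit false
open Cfsg

namespace Cfsg.Agent.S5276

/-- Let p be a prime and F a saturated fusion system over a finite p-group S. Then F is the inner fusion system of S if and only if the normalizer fusion system of S itself in F is the inner fusion system (equivalently, Aut_F(S) is induced by S) and the Frattini subgroup Φ(S) is strongly closed in F. -/
theorem result {Ω : Type*} [Group Ω] {S : Subgroup Ω} [Finite S] (p : ℕ) [Fact p.Prime] (hS : IsPGroup p ↥S) (F : Cfsg.FusionSystem S) (hF : F.IsSaturated p) : (∀ P : Subgroup Ω, F.Hom P = (Cfsg.innerFusionSystem S).Hom P) ↔ (∀ N : Cfsg.FusionSystem (Cfsg.FusionSystem.normalizerIn S S), F.IsNormalizerSystem S N → ∀ P : Subgroup Ω, N.Hom P = (Cfsg.innerFusionSystem (Cfsg.FusionSystem.normalizerIn S S)).Hom P) ∧ F.StronglyClosed ((frattini ↥S).map S.subtype) := by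
  open Cfsg.Agent.Lib.Helper29 in
  have hcomm : ⁅S, S⁆ ≤ (frattini S).map S.subtype := by
    rw [← Subgroup.map_subtype_commutator]
    exact Subgroup.map_mono (Cfsg.Agent.Lib.Helper2.commutator_le_frattini_of_isPGroup hS)
  constructor
  · intro hin
    refine ⟨?_, ?_⟩
    · intro N hNs P
      ext φ
      rw [hNs P]
      constructor
      · rintro ⟨hφ, hPN, hφN, _⟩
        rw [hin P] at hφ
        obtain ⟨hPS, g, hg, hgv⟩ := hφ
        exact ⟨hPN, g, le_normalizerIn le_rfl hg, hgv⟩
      · rintro ⟨hPN, g, hg, hgv⟩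
        have hPS : P ≤ S := hPN.trans inf_le_left
        have hgS : g ∈ S := hg.1
        have e : φ = Cfsg.conjHom P g := by
          ext x
          exact hgv x
        have hsup : P ⊔ S ≤ S := sup_le hPS le_rfl
        refine ⟨e ▸ F.conj_mem hPS hgS, hPN, fun x => ?_, Cfsg.conjHom (P ⊔ S) g, F.conj_mem hsup hgS, fun x => ?_, ?_⟩
        · rw [hgv]
          exact le_normalizerIn le_rfl (S.mul_mem (S.mul_mem hgS (hPS x.2)) (S.inv_mem hgS))
        · rw [hgv]
          rfl
        · ext y
          constructor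
          · rintro ⟨z, hz, rfl⟩
            have hz' : (z : Ω) ∈ S := hz
            exact S.mul_mem (S.mul_mem hgS hz') (S.inv_mem hgS)
          · intro hy
            have h1 : g⁻¹ * y * g ∈ S := S.mul_mem (S.mul_mem (S.inv_mem hgS) hy) hgS
            refine ⟨⟨g⁻¹ * y * g, (le_sup_right : S ≤ P ⊔ S) h1⟩, h1, ?_⟩
            show g * (g⁻¹ * y * g) * g⁻¹ = y
            group
    · refine ⟨?_, fun R hR φ hφ x => ?_⟩
      · rintro _ ⟨y, _, rfl⟩
        exact y.2
      · rw [hin R] at hφ
        obtain ⟨_, g, hg, hgv⟩ := hφ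
        rw [hgv]
        obtain ⟨y, hy, hyx⟩ := hR x.2
        have hn : (frattini ↥S).Normal := inferInstance
        have h1 := hn.conj_mem y hy ⟨g, hg⟩
        refine ⟨⟨g, hg⟩ * y * ⟨g, hg⟩⁻¹, h1, ?_⟩
        show g * (y : Ω) * g⁻¹ = g * (x : Ω) * g⁻¹
        have hyx' : (y : Ω) = (x : Ω) := hyx
        rw [hyx']
  · rintro ⟨hN, hsc⟩
    exact inner_of_closed p hS F hF _ hsc hcomm le_rfl (autS_inner_of_normalizer_inner F hN)

end Cfsg.Agent.S5276
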