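import Cfsg.Statements.S5281
-- import your own Cfsg.Agent.* helpers here
import Mathlib
import Cfsg.Agent.S5247
import Cfsg.Agent.S5077
import Cfsg.Agent.Lib.Helper29.FusionAlperin
import Cfsg.Agent.Lib.Helper29.FusionEssential
import Cfsg.Agent.Lib.Helper29.AutSystem
import Cfsg.Agent.Lib.Helper29.NormalizerConstrained
import Cfsg.Agent.S5096

set_option autoImplicit false
open Cfsg

namespace Cfsg.Agent.S5281

open Cfsg.Agent.Lib.Helper29 Cfsg.Agent.Lib.Helper2 Cfsg.Agent.S5247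

variable {Ω : Type*} [Group Ω] {S : Subgroup Ω}

/-- the preimage in `N_S(P)` of `O_p(Aut_F(P))` -/
def sharp (p : ℕ) (F : FusionSystem S) (P : Subgroup Ω) : Subgroup Ω where
  carrier := {g | g ∈ FusionSystem.normalizerIn S P ∧
    ∃ α ∈ ((Cfsg.pCore p ↥(F.autGroup P)).map (F.autGroup P).subtype : Subgroup (MulAut ↥P)),
      ∀ x : P, ((α x : P) : Ω) = g * x * g⁻¹}
  one_mem' := ⟨one_mem _, 1, one_mem _, fun x => by simp⟩
  mul_mem' := by
    rintro g h ⟨hg, α, hα, hα'⟩ ⟨hh, β, hβ, hβ'⟩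
    refine ⟨mul_mem hg hh, α * β, mul_mem hα hβ, fun x => ?_⟩
    rw [MulAut.mul_apply, hα', hβ']
    group
  inv_mem' := by
    rintro g ⟨hg, α, hα, hα'⟩
    refine ⟨inv_mem hg, α⁻¹, inv_mem hα, fun x => ?_⟩
    have h := hα' (α⁻¹ x)
    rw [MulAut.apply_inv_self] at h
    rw [h]
    group

theorem sharp_le_S (p : ℕ) (F : FusionSystem S) (P : Subgroup Ω) : sharp p F P ≤ S :=
  fun _ hg => hg.1.1

theorem inn_le_pCore_map {p : ℕ} (hS : IsPGroup p S) (F : FusionSystem S)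
    {P : Subgroup Ω} (hP : P ≤ S) :
    Inn P ≤ ((Cfsg.pCore p ↥(F.autGroup P)).map (F.autGroup P).subtype : Subgroup (MulAut ↥P)) :=
  le_pCore_map p (F.autGroup P) (Inn P) (inn_le_autGroup F hP) (isPGroup_inn hS hP)
    (fun g _ k hk => (inn_normal P).conj_mem k hk g)

theorem le_sharp {p : ℕ} (hS : IsPGroup p S) (F : FusionSystem S)
    {P : Subgroup Ω} (hP : P ≤ S) : P ≤ sharp p F P := by
  intro g hg
  refine ⟨⟨hP hg, Subgroup.le_normalizer hg⟩, MulAut.conj ⟨g, hg⟩,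
    inn_le_pCore_map hS F hP ⟨⟨g, hg⟩, rfl⟩, fun x => ?_⟩
  simp [MulAut.conj_apply]

theorem centralizerIn_le_sharp (p : ℕ) (F : FusionSystem S) (P : Subgroup Ω) :
    FusionSystem.centralizerIn S P ≤ sharp p F P := by
  intro g hg
  have hc : g ∈ Subgroup.centralizer (P : Set Ω) := hg.2
  rw [Subgroup.mem_centralizer_iff] at hc
  refine ⟨centralizerIn_le_normalizerIn S P hg, 1, one_mem _, fun x => ?_⟩
  rw [MulAut.one_apply, ← hc x x.2, mul_inv_cancel_right]

theorem opmem {p : ℕ} [Fact p.Prime] (F : FusionSystem S) {P : Subgroup Ω}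
    (hfa : F.IsFullyAutomized p P) {α : MulAut P}
    (hα : α ∈ ((Cfsg.pCore p ↥(F.autGroup P)).map (F.autGroup P).subtype : Subgroup (MulAut ↥P))) :
    ∃ g ∈ sharp p F P, ∀ x : P, ((α x : P) : Ω) = g * x * g⁻¹ := by
  obtain ⟨_, R, hR⟩ := hfa
  obtain ⟨a, ha, rfl⟩ := hα
  have h1 : a ∈ (R : Subgroup (F.autGroup P)) := pCore_le_sylow p R ha
  rw [hR, Subgroup.mem_subgroupOf, autInducedBy_eq_map] at h1
  obtain ⟨n, hn, hn'⟩ := h1
  have hx : ∀ x : P, (((F.autGroup P).subtype a x : P) : Ω) = (n : Ω) * x * (n : Ω)⁻¹ := by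
    intro x
    show (((a : MulAut P) x : P) : Ω) = _
    rw [← hn']
    rfl
  exact ⟨n, ⟨⟨hn, n.2⟩, _, ⟨a, ha, rfl⟩, hx⟩, hx⟩

theorem centric_radical_of_sharp_le [Finite S] {p : ℕ} [Fact p.Prime] (hS : IsPGroup p S)
    (F : FusionSystem S) (hF : F.IsSaturated p) {P : Subgroup Ω} (hP : F.IsFullyNormalized P)
    (h : sharp p F P ≤ P) : F.IsCentric P ∧ F.IsRadical p P := by
  have hsat := (Cfsg.Agent.S5077.result p hS F).1 hF
  have hfc := (hsat.1 P hP).1
  have hfa := (hsat.1 P hP).2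
  have hrec := hsat.2 P hfc
  refine ⟨centric_of_receptive F hrec (le_trans (centralizerIn_le_sharp p F P) h), hP.1,
    le_antisymm ?_ (inn_le_pCore_map hS F hP.1)⟩
  intro α hα
  obtain ⟨g, hg, hx⟩ := opmem F hfa hα
  refine ⟨⟨g, h hg⟩, ?_⟩
  ext x
  rw [hx x]
  simp [MulAut.conj_apply]


theorem ext_sharp [Finite S] {p : ℕ} [Fact p.Prime] (hS : IsPGroup p S)
    (F : FusionSystem S) (hF : F.IsSaturated p) {P : Subgroup Ω} (hP : F.IsFullyNormalized P)
    (α : MulAut P) (hα : α ∈ F.autGroup P) :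
    ∃ β ∈ F.autGroup (sharp p F P), ∀ x : P,
      ((β ⟨x, le_sharp hS F hP.1 x.2⟩ : sharp p F P) : Ω) = ((α x : P) : Ω) := by
  have hsat := (Cfsg.Agent.S5077.result p hS F).1 hF
  have hfc := (hsat.1 P hP).1
  have hfa := (hsat.1 P hP).2
  have hrec := hsat.2 P hfc
  have hPS := hP.1
  set φ : P →* Ω := P.subtype.comp α.toMonoidHom with hφdef
  have hφ : φ ∈ F.Hom P := (mem_autGroup_iff F hPS).mp hα
  have hr : φ.range = P := range_subtype_comp_aut α
  obtain ⟨ψ, hψ, hext⟩ := hrec.2 P φ hφ hr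
  have hconj : ∀ (γ : MulAut P) (x : P), (α * γ * α⁻¹) (α x) = α (γ x) := by
    intro γ x
    simp
  have hle : sharp p F P ≤ FusionSystem.extender S P φ := by
    intro g hg
    obtain ⟨hgN, γ, hγ, hγx⟩ := hg
    have hδ := pCore_map_conj p (F.autGroup P) α hα γ hγ
    obtain ⟨h, hh, hhx⟩ := opmem F hfa hδ
    apply Subgroup.subset_closure
    refine ⟨hgN.1, hgN.2, h, sharp_le_S p F P hh, fun x hx => ?_⟩
    have e1 : (⟨g * x * g⁻¹, hx⟩ : P) = γ x := Subtype.ext (hγx x).symm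
    rw [e1]
    show ((α (γ x) : P) : Ω) = h * ((α x : P) : Ω) * h⁻¹
    rw [← hhx (α x), hconj]
  set ψ' : sharp p F P →* Ω := ψ.comp (Subgroup.inclusion hle) with hψ'def
  have hψ' : ψ' ∈ F.Hom (sharp p F P) := restrict_mem F hle hψ
  have hψP : ∀ x : P, ψ' ⟨x, le_sharp hS F hPS x.2⟩ = ((α x : P) : Ω) := by
    intro x
    exact hext x x.2 (hle (le_sharp hS F hPS x.2))
  have hmaps : ∀ g : sharp p F P, ψ' g ∈ sharp p F P := by
    rintro ⟨g, hg⟩
    obtain ⟨hgN, γ, hγ, hγx⟩ := id hg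
    have hδ := pCore_map_conj p (F.autGroup P) α hα γ hγ
    set n := ψ' ⟨g, hg⟩ with hn
    have hnS : n ∈ S := (F.le_of_mem hψ').2 _
    have key : ∀ y : P, (((α * γ * α⁻¹) y : P) : Ω) = n * y * n⁻¹ := by
      intro y
      obtain ⟨x, rfl⟩ := α.surjective y
      rw [hconj, ← hψP (γ x), ← hψP x]
      have e1 : (⟨((γ x : P) : Ω), le_sharp hS F hPS (γ x).2⟩ : sharp p F P) =
          ⟨g, hg⟩ * ⟨x, le_sharp hS F hPS x.2⟩ * (⟨g, hg⟩ : sharp p F P)⁻¹ := by
        apply Subtype.ext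
        simp [hγx x]
      rw [e1, map_mul, map_mul, map_inv]
    refine ⟨⟨hnS, ?_⟩, α * γ * α⁻¹, hδ, key⟩
    show n ∈ Subgroup.normalizer (P : Set Ω)
    rw [Subgroup.mem_normalizer_iff]
    intro y
    constructor
    · intro hy
      rw [← key ⟨y, hy⟩]
      exact ((α * γ * α⁻¹) ⟨y, hy⟩).2
    · intro hy
      obtain ⟨x, hx⟩ := (α * γ * α⁻¹).surjective ⟨_, hy⟩
      have h1 : (((α * γ * α⁻¹) x : P) : Ω) = n * y * n⁻¹ := congrArg Subtype.val hx
      rw [key x] at h1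
      have h2 : (x : Ω) = y := mul_left_cancel (mul_right_cancel h1)
      rw [← h2]
      exact x.2
  have hinj : Function.Injective (ψ'.codRestrict (sharp p F P) hmaps) := by
    intro a b hab
    apply F.injective_of_mem hψ'
    exact congrArg Subtype.val hab
  haveI : Finite (sharp p F P) := finite_of_le (sharp_le_S p F P)
  have hbij : Function.Bijective (ψ'.codRestrict (sharp p F P) hmaps) :=
    ⟨hinj, Finite.injective_iff_surjective.mp hinj⟩
  set β : MulAut (sharp p F P) :=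
    MulEquiv.ofBijective (ψ'.codRestrict (sharp p F P) hmaps) hbij with hβ
  have hβψ : (sharp p F P).subtype.comp β.toMonoidHom = ψ' := by
    ext x
    rfl
  refine ⟨β, ?_, fun x => ?_⟩
  · rw [mem_autGroup_iff F (sharp_le_S p F P), hβψ]
    exact hψ'
  · exact hψP x

/-- every `F`-automorphism of `Q` extends, through `φ`, to an `F`-automorphism of `R` -/
def Ext' (F : FusionSystem S) {Q : Subgroup Ω} (φ : Q →* Ω) (R : Subgroup Ω) : Prop :=
  ∃ h : ∀ x, φ x ∈ R, ∀ α ∈ F.autGroup Q, ∃ β ∈ F.autGroup R,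
    ∀ x : Q, ((β ⟨φ x, h x⟩ : R) : Ω) = φ (α x)

theorem ext'_refl (F : FusionSystem S) (Q : Subgroup Ω) : Ext' F Q.subtype Q :=
  ⟨fun x => x.2, fun α hα => ⟨α, hα, fun _ => rfl⟩⟩

theorem ext'_conj (F : FusionSystem S) {Q R R1 : Subgroup Ω} {φ : Q →* Ω} (hφ : φ ∈ F.Hom Q)
    (hE : Ext' F φ R) {θ : R →* Ω} (hθ : θ ∈ F.Hom R) (hr : θ.range = R1) :
    ∃ φ1 ∈ F.Hom Q, Ext' F φ1 R1 := by
  obtain ⟨h, hE⟩ := hE
  set φ1 : Q →* Ω := θ.comp (φ.codRestrict R h) with hφ1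
  have hφ1mem : φ1 ∈ F.Hom Q := F.comp_mem hφ hθ h
  have hin : ∀ x, φ1 x ∈ R1 := by
    intro x
    rw [← hr]
    exact ⟨_, rfl⟩
  refine ⟨φ1, hφ1mem, hin, ?_⟩
  intro α hα
  obtain ⟨β, hβ, hβx⟩ := hE α hα
  set e := isoOfHom F hθ hr with he
  refine ⟨MulAut.congr e β, congr_mem_autGroup F hθ hr hβ, fun x => ?_⟩
  have e1 : e.symm ⟨φ1 x, hin x⟩ = ⟨φ x, h x⟩ := by
    rw [MulEquiv.symm_apply_eq]
    apply Subtype.ext
    rfl
  show ((e (β (e.symm ⟨φ1 x, hin x⟩)) : R1) : Ω) = φ1 (α x)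
  rw [e1, isoOfHom_coe]
  show θ (β ⟨φ x, h x⟩) = θ ⟨φ (α x), h (α x)⟩
  congr 1
  exact Subtype.ext (hβx x)

theorem ext'_sharp [Finite S] {p : ℕ} [Fact p.Prime] (hS : IsPGroup p S)
    (F : FusionSystem S) (hF : F.IsSaturated p) {Q P : Subgroup Ω} (hP : F.IsFullyNormalized P)
    {φ : Q →* Ω} (hE : Ext' F φ P) : Ext' F φ (sharp p F P) := by
  obtain ⟨h, hE⟩ := hE
  refine ⟨fun x => le_sharp hS F hP.1 (h x), fun α hα => ?_⟩
  obtain ⟨β, hβ, hβx⟩ := hE α hα
  obtain ⟨β', hβ', hβ'x⟩ := ext_sharp hS F hF hP β hβ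
  refine ⟨β', hβ', fun x => ?_⟩
  rw [← hβx x]
  exact hβ'x ⟨φ x, h x⟩

theorem main_lemma [Finite S] {p : ℕ} [Fact p.Prime] (hS : IsPGroup p S)
    (F : FusionSystem S) (hF : F.IsSaturated p) {Q : Subgroup Ω} :
    ∀ k : ℕ, ∀ (P : Subgroup Ω) (φ : Q →* Ω), φ ∈ F.Hom Q → Ext' F φ P → P ≤ S →
      Nat.card S - Nat.card P = k →
      ∃ φ' ∈ F.Hom Q, ∃ R, F.IsFullyNormalized R ∧ F.IsCentric R ∧ F.IsRadical p R ∧
        Ext' F φ' R := by
  intro k
  induction k using Nat.strong_induction_on with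
  | _ k ih =>
    intro P φ hφ hE hPS hk
    obtain ⟨P1, ⟨θ, hθ, hr⟩, hfn⟩ := exists_fullyNormalized_conj F hPS
    obtain ⟨φ1, hφ1, hE1⟩ := ext'_conj F hφ hE hθ hr
    have hcard : Nat.card P1 = Nat.card P := (Nat.card_congr (isoOfHom F hθ hr).toEquiv).symm
    by_cases hsh : sharp p F P1 ≤ P1
    · obtain ⟨hc, hrad⟩ := centric_radical_of_sharp_le hS F hF hfn hsh
      exact ⟨φ1, hφ1, P1, hfn, hc, hrad, hE1⟩
    · haveI : Finite (sharp p F P1) := finite_of_le (sharp_le_S p F P1)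
      have hc1 : Nat.card P1 < Nat.card (sharp p F P1) := by
        by_contra hh
        push Not at hh
        exact hsh (le_of_eq (Subgroup.eq_of_le_of_card_ge (le_sharp hS F hfn.1) hh).symm)
      have hc2 : Nat.card (sharp p F P1) ≤ Nat.card S :=
        Subgroup.card_le_of_le (sharp_le_S p F P1)
      exact ih (Nat.card S - Nat.card (sharp p F P1)) (by omega) (sharp p F P1) φ1 hφ1
        (ext'_sharp hS F hF hfn hE1) (sharp_le_S p F P1) rfl

theorem quad_congr {A B : Type*} [Group A] [Group B] (e : A ≃* B) (χ : MulAut A)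
    (hquad : ∀ a : A, (χ a⁻¹) * a * (χ a⁻¹) * (χ (χ a)) = 1) :
    ∀ a : B, ((MulAut.congr e χ) a⁻¹) * a * ((MulAut.congr e χ) a⁻¹) *
      ((MulAut.congr e χ) ((MulAut.congr e χ) a)) = 1 := by
  have key : ∀ b : A, (MulAut.congr e χ) (e b) = e (χ b) := by
    intro b
    show e (χ (e.symm (e b))) = _
    rw [e.symm_apply_apply]
  intro a
  obtain ⟨b, rfl⟩ := e.surjective a
  rw [← map_inv e b]
  simp only [key]
  rw [← map_mul, ← map_mul, ← map_mul, hquad b, map_one]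

theorem transport_back [Finite S] (p : ℕ) [Fact p.Prime] (F : FusionSystem S) {Q Q' : Subgroup Ω}
    {φ : Q →* Ω} (hφ : φ ∈ F.Hom Q) (hr : φ.range = Q') (χ : MulAut Q)
    (h2 : MulAut.congr (isoOfHom F hφ hr) χ ∈
      ((Cfsg.pCore p ↥(F.autGroup Q')).map (F.autGroup Q').subtype : Subgroup (MulAut ↥Q'))) :
    χ ∈ ((Cfsg.pCore p ↥(F.autGroup Q)).map (F.autGroup Q).subtype : Subgroup (MulAut ↥Q)) := by
  set e := isoOfHom F hφ hr with he
  have hQ'S : Q' ≤ S := hr ▸ range_le_of_hom_mem F hφ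
  haveI : Finite ↥Q' := finite_of_le hQ'S
  set K : Subgroup (MulAut ↥Q) := ((Cfsg.pCore p ↥(F.autGroup Q')).map (F.autGroup Q').subtype).map
    (MulAut.congr e).symm.toMonoidHom with hK
  have hle := le_pCore_map p (F.autGroup Q) K ?_ ?_ ?_
  · apply hle
    refine ⟨MulAut.congr e χ, h2, ?_⟩
    exact (MulAut.congr e).symm_apply_apply χ
  · rintro _ ⟨β, hβ, rfl⟩
    exact congr_symm_mem F hφ hr (pCore_map_le p _ hβ)
  · exact (pCore_map_isPGroup p _).map _
  · rintro g hg _ ⟨β, hβ, rfl⟩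
    refine ⟨MulAut.congr e g * β * (MulAut.congr e g)⁻¹,
      pCore_map_conj p _ _ (congr_mem_autGroup F hφ hr hg) _ hβ, ?_⟩
    show (MulAut.congr e).symm (MulAut.congr e g * β * (MulAut.congr e g)⁻¹) =
      g * (MulAut.congr e).symm β * g⁻¹
    rw [map_mul, map_mul, map_inv, MulEquiv.symm_apply_apply]


/-- Let p be an odd prime and F a saturated fusion system over a finite p-group S. Call a fusion system E (over any subgroup) p-stable when, for every fully E-normalized subgroup Q and every χ in Aut_E(Q) with χ(a⁻¹)·a·χ(a⁻¹)·χ(χ(a)) = 1 for all a in Q (χ acts quadratically), χ lies in O_p(Aut_E(Q)). Then F is p-stable if and only if the normalizer fusion system of R in F is p-stable for every fully F-normalized, F-centric, F-radical subgroup R of S. -/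
theorem result {Ω : Type*} [Group Ω] {S : Subgroup Ω} [Finite S] (p : ℕ) [Fact p.Prime] (hS : IsPGroup p ↥S) (F : Cfsg.FusionSystem S) (hF : F.IsSaturated p) (hp : p ≠ 2) : (∀ Q : Subgroup Ω, F.IsFullyNormalized Q → ∀ χ : MulAut ↥Q, χ ∈ F.autGroup Q → (∀ a : ↥Q, (χ a⁻¹) * a * (χ a⁻¹) * (χ (χ a)) = 1) → χ ∈ ((Cfsg.pCore p ↥(F.autGroup Q)).map (F.autGroup Q).subtype : Subgroup (MulAut ↥Q))) ↔ ∀ R : Subgroup Ω, F.IsFullyNormalized R → F.IsCentric R → F.IsRadical p R → ∀ N : Cfsg.FusionSystem (Cfsg.FusionSystem.normalizerIn S R), F.IsNormalizerSystem R N → (∀ Q : Subgroup Ω, N.IsFullyNormalized Q → ∀ χ : MulAut ↥Q, χ ∈ N.autGroup Q → (∀ a : ↥Q, (χ a⁻¹) * a * (χ a⁻¹) * (χ (χ a)) = 1) → χ ∈ ((Cfsg.pCore p ↥(N.autGroup Q)).map (N.autGroup Q).subtype : Subgroup (MulAut ↥Q))) := by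
  constructor
  · intro hPS R hR hRc hRr N hN Q hQN χ hχ hquad
    have hQS : Q ≤ S := le_trans hQN.1 inf_le_left
    haveI : Finite ↥Q := Finite.of_injective (Subgroup.inclusion hQS) (Subgroup.inclusion_injective hQS)
    have hle : N.autGroup Q ≤ F.autGroup Q := by
      unfold FusionSystem.autGroup
      apply Subgroup.closure_mono
      intro α hα
      have hα' : (Q.subtype.comp α.toMonoidHom) ∈ N.Hom Q := hα
      rw [hN Q] at hα'
      exact hα'.1
    have h1 := transport p F hPS Q hQS χ (hle hχ) hquad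
    have hle2 := le_pCore_map p (N.autGroup Q)
      (((Cfsg.pCore p ↥(F.autGroup Q)).map (F.autGroup Q).subtype) ⊓ N.autGroup Q) inf_le_right
      ((pCore_map_isPGroup p _).to_le inf_le_left) ?_
    · exact hle2 ⟨h1, hχ⟩
    · intro g hg k hk
      exact ⟨pCore_map_conj p _ g (hle hg) k hk.1,
        (N.autGroup Q).mul_mem ((N.autGroup Q).mul_mem hg hk.2) ((N.autGroup Q).inv_mem hg)⟩
  · intro h Q hQ χ hχ hquad
    have hQS : Q ≤ S := hQ.1
    obtain ⟨φ, hφ, R, hRfn, hRc, hRr, hin, hExt⟩ :=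
      main_lemma hS F hF _ Q Q.subtype (subtype_mem F hQS) (ext'_refl F Q) hQS rfl
    obtain ⟨N, hN⟩ := Cfsg.Agent.S5096.result F R hRfn.1
    have hPSN := h R hRfn hRc hRr N hN
    haveI : Finite (FusionSystem.normalizerIn S R) := finite_normalizerIn R
    have hRN : R ≤ FusionSystem.normalizerIn S R := le_normalizerIn hRfn.1
    set e := isoOfHom F hφ rfl with he
    have hQ'R : φ.range ≤ R := by
      rintro _ ⟨x, rfl⟩
      exact hin x
    have hQ'N : φ.range ≤ FusionSystem.normalizerIn S R := le_trans hQ'R hRN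
    have hNF : N.autGroup φ.range ≤ F.autGroup φ.range := by
      unfold FusionSystem.autGroup
      apply Subgroup.closure_mono
      intro α hα
      have hα' : (φ.range.subtype.comp α.toMonoidHom) ∈ N.Hom φ.range := hα
      rw [hN φ.range] at hα'
      exact hα'.1
    have hFN : F.autGroup φ.range ≤ N.autGroup φ.range := by
      intro α' hα'
      have hα : (MulAut.congr e).symm α' ∈ F.autGroup Q := congr_symm_mem F hφ rfl hα'
      obtain ⟨β, hβ, hβx⟩ := hExt _ hα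
      have hβN : β ∈ N.autGroup R := by
        rw [normalizerSystem_autGroup_eq hN hRfn.1]
        exact hβ
      have h1 : R.subtype.comp β.toMonoidHom ∈ N.Hom R := (mem_autGroup_iff N hRN).mp hβN
      have h2 := restrict_mem N hQ'R h1
      rw [mem_autGroup_iff N hQ'N]
      convert h2 using 1
      ext y
      obtain ⟨x, rfl⟩ := e.surjective y
      show ((α' (e x) : φ.range) : Ω) = ((β ⟨φ x, hin x⟩ : R) : Ω)
      rw [hβx x]
      show _ = φ (e.symm (α' (e x)))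
      rw [← isoOfHom_coe F hφ rfl (e.symm (α' (e x))), ← he, e.apply_symm_apply]
    have hEq : N.autGroup φ.range = F.autGroup φ.range := le_antisymm hNF hFN
    have h3 : MulAut.congr e χ ∈ N.autGroup φ.range := hFN (congr_mem_autGroup F hφ rfl hχ)
    have h4 := transport p N hPSN φ.range hQ'N _ h3 (quad_congr e χ hquad)
    rw [hEq] at h4
    exact transport_back p F hφ rfl χ h4


end Cfsg.Agent.S5281
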