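import Cfsg.Statements.S5283
-- import your own Cfsg.Agent.* helpers here
import Mathlib
import Cfsg.Agent.Lib.Helper25.SuperSolAux
import Cfsg.Agent.Lib.Helper29.AutSystem
import Cfsg.Agent.Lib.Helper29.FusionNormal

set_option autoImplicit false
open Cfsg

namespace Cfsg.Agent.S5283

open Cfsg.Agent.Lib.Helper25.SuperSol Cfsg.Agent.Lib.Helper29
open scoped commutatorElement

variable {Ω : Type*} [Group Ω] {S : Subgroup Ω}

/-- the chain hypothesis -/
def HasChain (F : FusionSystem S) : Prop :=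
  ∃ (m : ℕ) (c : Fin (m + 1) → Subgroup Ω), c 0 = ⊥ ∧ c (Fin.last m) = S ∧
    (∀ i : Fin (m + 1), F.StronglyClosed (c i)) ∧
    ∀ i : Fin m, c i.castSucc ≤ c i.succ ∧ ∃ x ∈ S, c i.succ = c i.castSucc ⊔ Subgroup.zpowers x

theorem conj_mem_of_sc (F : FusionSystem S) {C : Subgroup Ω} (hC : F.StronglyClosed C) {g : Ω}
    (hg : g ∈ S) {x : Ω} (hx : x ∈ C) : g * x * g⁻¹ ∈ C :=
  hC.2 C le_rfl _ (F.conj_mem hC.1 hg) ⟨x, hx⟩

theorem aut_mem_of_sc (F : FusionSystem S) {C Q : Subgroup Ω} (hC : F.StronglyClosed C)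
    (hQ : Q ≤ S) {α : MulAut Q} (hα : α ∈ F.autGroup Q) (x : Q) (hx : (x : Ω) ∈ C) :
    ((α x : Q) : Ω) ∈ C := by
  rw [mem_autGroup_iff F hQ] at hα
  have h1 := restrict_mem F (inf_le_right : C ⊓ Q ≤ Q) hα
  exact hC.2 (C ⊓ Q) inf_le_left _ h1 ⟨x, ⟨hx, x.2⟩⟩

theorem cyclic_section (F : FusionSystem S) {K L : Subgroup Ω} (Q : Subgroup Ω)
    (hK : F.StronglyClosed K) (hL : L ≤ S) (hKL : K ≤ L) {x : Ω}
    (hx : L = K ⊔ Subgroup.zpowers x)
    [hn : ((K.subgroupOf Q).subgroupOf (L.subgroupOf Q)).Normal] :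
    IsCyclic (↥(L.subgroupOf Q) ⧸ (K.subgroupOf Q).subgroupOf (L.subgroupOf Q)) := by
  have : (K.subgroupOf L).Normal := by
    constructor
    intro k hk l
    exact conj_mem_of_sc F hK (hL l.2) hk
  have := isCyclic_quot K L x hx.le
    (by rw [hx]; exact Subgroup.mem_sup_right (Subgroup.mem_zpowers x)) hKL
  exact isCyclic_of_embed Q.subtype (K.subgroupOf Q) (L.subgroupOf Q) K L (fun y hy => hy)
    (fun y hy => Iff.rfl)

theorem no_essential [Finite S] (p : ℕ) [Fact p.Prime] (hS : IsPGroup p S) (F : FusionSystem S)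
    (hch : HasChain F) (Q : Subgroup Ω) (hQ : F.IsEssential p Q) : False := by
  obtain ⟨m, c, h0, hlast, hsc, hstep⟩ := hch
  obtain ⟨hcen, hfn, hnorm, E, hE⟩ := hQ
  have hQS : Q ≤ S := hcen.1
  have : Finite Q := Finite.of_injective (Subgroup.inclusion hQS) (Subgroup.inclusion_injective hQS)
  have hQp : IsPGroup p Q :=
    hS.of_injective (Subgroup.inclusion hQS) (Subgroup.inclusion_injective hQS)
  let d : Fin (m + 1) → Subgroup Q := fun i => (c i).subgroupOf Q
  have hd0 : d 0 = ⊥ := by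
    show (c 0).subgroupOf Q = ⊥
    rw [h0, Subgroup.bot_subgroupOf]
  have hdlast : d (Fin.last m) = ⊤ := by
    show (c (Fin.last m)).subgroupOf Q = ⊤
    rw [hlast]
    exact Subgroup.subgroupOf_eq_top.mpr hQS
  have hdn : ∀ i, (d i).Normal := by
    intro i
    constructor
    intro x hx g
    exact conj_mem_of_sc F (hsc i) (hQS g.2) hx
  have hinv : ∀ α ∈ F.autGroup Q, ∀ i, ∀ x ∈ d i, α x ∈ d i :=
    fun α hα i x hx => aut_mem_of_sc F (hsc i) hQS hα x hx
  have hcyc : ∀ i : Fin m, IsCyclic (↥(d i.succ) ⧸ (d i.castSucc).subgroupOf (d i.succ)) := by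
    intro i
    have := hdn i.castSucc
    obtain ⟨hle, x, hxS, hx⟩ := hstep i
    exact cyclic_section F Q (hsc i.castSucc) (hsc i.succ).1 hle hx
  have key : ∀ α ∈ F.autGroup Q, ∀ β ∈ F.autGroup Q, Stab d ⁅α, β⁆ := by
    intro α hα β hβ
    have hmem : ⁅α, β⁆ ∈ F.autGroup Q := by
      rw [commutatorElement_def]
      exact Subgroup.mul_mem _ (Subgroup.mul_mem _ (Subgroup.mul_mem _ hα hβ)
        (Subgroup.inv_mem _ hα)) (Subgroup.inv_mem _ hβ)
    refine ⟨fun i x hx => hinv _ hmem i x hx, fun i x hx => ?_⟩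
    have := hdn i.castSucc
    have := hcyc i
    have hz : α⁻¹ (β⁻¹ x) ∈ d i.succ :=
      hinv α⁻¹ (Subgroup.inv_mem _ hα) _ _ (hinv β⁻¹ (Subgroup.inv_mem _ hβ) _ _ hx)
    have h1 := comm_mod (d i.castSucc) (d i.succ) α β (hinv α hα _) (hinv α hα _)
      (hinv β hβ _) (hinv β hβ _) _ hz
    have e1 : β (α (α⁻¹ (β⁻¹ x))) = x := by
      rw [MulAut.apply_inv_self, MulAut.apply_inv_self]
    have e2 : ⁅α, β⁆ x = α (β (α⁻¹ (β⁻¹ x))) := by
      rw [commutatorElement_def]
      rfl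
    rw [e1] at h1
    rw [e2]
    exact h1
  have hcomm : ∀ α ∈ F.autGroup Q, ∀ β ∈ F.autGroup Q, ⁅α, β⁆ ∈ stabGroup d := by
    intro α hα β hβ
    refine ⟨key α hα β hβ, ?_⟩
    rw [commutatorElement_inv]
    exact key β hβ α hα
  have hCle : commutator ↥(F.autGroup Q) ≤ (stabGroup d).subgroupOf (F.autGroup Q) := by
    rw [commutator_def, Subgroup.commutator_le]
    intro g₁ _ g₂ _
    show (F.autGroup Q).subtype ⁅g₁, g₂⁆ ∈ stabGroup d
    rw [map_commutatorElement]
    exact hcomm _ g₁.2 _ g₂.2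
  have hP₀ : IsPGroup p ((stabGroup d).subgroupOf (F.autGroup Q)) :=
    (stabGroup_isPGroup hQp d hd0 hdlast).comap_of_injective (F.autGroup Q).subtype
      (F.autGroup Q).subtype_injective
  have hCp : IsPGroup p (commutator ↥(F.autGroup Q)) := hP₀.to_le hCle
  have hcore := pCore_eq_bot_of_stronglyPEmbedded hE
  have hCbar : (commutator ↥(F.autGroup Q)).map
      (QuotientGroup.mk' ((Inn Q).subgroupOf (F.autGroup Q))) ≤ ⊥ := by
    rw [← hcore]
    apply le_pCore'
    · exact Subgroup.Normal.map inferInstance _ (QuotientGroup.mk'_surjective _)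
    · exact hCp.map _
  have hXcomm : ∀ a b : ↥(F.autGroup Q) ⧸ (Inn Q).subgroupOf (F.autGroup Q), a * b = b * a := by
    intro a b
    induction a using QuotientGroup.induction_on with
    | H α =>
      induction b using QuotientGroup.induction_on with
      | H β =>
        have h1 : ⁅α, β⁆ ∈ commutator ↥(F.autGroup Q) := by
          rw [commutator_def]
          exact Subgroup.commutator_mem_commutator (Subgroup.mem_top α) (Subgroup.mem_top β)
        have h2 := hCbar (Subgroup.mem_map_of_mem _ h1)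
        rw [Subgroup.mem_bot, map_commutatorElement] at h2
        exact commutatorElement_eq_one_iff_mul_comm.mp h2
  obtain ⟨g, hg⟩ := exists_prime_orderOf_dvd_card' p hE.1
  have hZn : (Subgroup.zpowers g).Normal := by
    constructor
    intro n hn x
    rw [hXcomm x n, mul_inv_cancel_right]
    exact hn
  have hZp : IsPGroup p (Subgroup.zpowers g) := by
    apply IsPGroup.of_card (n := 1)
    rw [Nat.card_zpowers, hg, pow_one]
  have hZ : Subgroup.zpowers g ≤ ⊥ := by
    rw [← hcore]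
    exact le_pCore' hZn hZp
  have hg1 : g = 1 := by
    have := hZ (Subgroup.mem_zpowers g)
    rwa [Subgroup.mem_bot] at this
  rw [hg1, orderOf_one] at hg
  exact (Fact.out : p.Prime).one_lt.ne hg

theorem resistant_of_chain [Finite S] (p : ℕ) [Fact p.Prime] (hS : IsPGroup p S)
    (F : FusionSystem S) (hF : F.IsSaturated p) (hch : HasChain F) : F.IsNormal S := by
  apply isNormal_of_aut p hS F hF S
  intro P hP
  rcases hP with hP | hP
  · rw [hP]
    refine ⟨le_rfl, fun α _ => ?_⟩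
    rw [Subgroup.subgroupOf_self]
    exact Subgroup.map_top_of_surjective _ α.surjective
  · exact (no_essential p hS F hch P hP).elim

theorem abelian_of_chain [Finite S] (p : ℕ) [Fact p.Prime] (hS : IsPGroup p S)
    (hall : ∀ F : FusionSystem S, F.IsSaturated p → HasChain F)
    (H : Subgroup (MulAut S)) (hcop : (Nat.card H).Coprime p) :
    IsMulCommutative H ∧ ∀ h ∈ H, h ^ (p - 1) = 1 := by
  have hF := autSystem_saturated H hS hcop
  obtain ⟨m, c, h0, hlast, hsc, hstep⟩ := hall _ hF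
  let d : Fin (m + 1) → Subgroup S := fun i => (c i).subgroupOf S
  have hd0 : d 0 = ⊥ := by
    show (c 0).subgroupOf S = ⊥
    rw [h0, Subgroup.bot_subgroupOf]
  have hdlast : d (Fin.last m) = ⊤ := by
    show (c (Fin.last m)).subgroupOf S = ⊤
    rw [hlast]
    exact Subgroup.subgroupOf_self S
  have hdn : ∀ i, (d i).Normal := by
    intro i
    constructor
    intro x hx g
    exact conj_mem_of_sc _ (hsc i) g.2 hx
  have hinv : ∀ h ∈ H, ∀ i, ∀ x ∈ d i, h x ∈ d i := by
    intro h hh i x hx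
    have hmem : h ∈ (autSystem S (Inn S ⊔ H) le_sup_left).autGroup S := by
      rw [mem_autGroup_iff _ le_rfl]
      exact ⟨le_rfl, h, Subgroup.mem_sup_right hh, fun _ => rfl⟩
    exact aut_mem_of_sc _ (hsc i) le_rfl hmem x hx
  have hcyc : ∀ i : Fin m, IsCyclic (↥(d i.succ) ⧸ (d i.castSucc).subgroupOf (d i.succ)) := by
    intro i
    have := hdn i.castSucc
    obtain ⟨hle, x, hxS, hx⟩ := hstep i
    exact cyclic_section _ S (hsc i.castSucc) (hsc i.succ).1 hle hx
  have hord : ∀ h ∈ H, (orderOf h).Coprime p := by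
    intro h hh
    have h1 : orderOf (⟨h, hh⟩ : H) ∣ Nat.card H := orderOf_dvd_natCard _
    rw [Subgroup.orderOf_mk] at h1
    exact Nat.Coprime.coprime_dvd_left h1 hcop
  have key : ∀ α ∈ H, ∀ β ∈ H, Stab d ⁅α, β⁆ := by
    intro α hα β hβ
    have hmem : ⁅α, β⁆ ∈ H := by
      rw [commutatorElement_def]
      exact Subgroup.mul_mem _ (Subgroup.mul_mem _ (Subgroup.mul_mem _ hα hβ)
        (Subgroup.inv_mem _ hα)) (Subgroup.inv_mem _ hβ)
    refine ⟨fun i x hx => hinv _ hmem i x hx, fun i x hx => ?_⟩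
    have := hdn i.castSucc
    have := hcyc i
    have hz : α⁻¹ (β⁻¹ x) ∈ d i.succ :=
      hinv α⁻¹ (Subgroup.inv_mem _ hα) _ _ (hinv β⁻¹ (Subgroup.inv_mem _ hβ) _ _ hx)
    have h1 := comm_mod (d i.castSucc) (d i.succ) α β (hinv α hα _) (hinv α hα _)
      (hinv β hβ _) (hinv β hβ _) _ hz
    have e1 : β (α (α⁻¹ (β⁻¹ x))) = x := by
      rw [MulAut.apply_inv_self, MulAut.apply_inv_self]
    have e2 : ⁅α, β⁆ x = α (β (α⁻¹ (β⁻¹ x))) := by
      rw [commutatorElement_def]
      rfl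
    rw [e1] at h1
    rw [e2]
    exact h1
  constructor
  · refine ⟨⟨fun a b => ?_⟩⟩
    have hmem : ⁅a.1, b.1⁆ ∈ H := by
      rw [commutatorElement_def]
      exact Subgroup.mul_mem _ (Subgroup.mul_mem _ (Subgroup.mul_mem _ a.2 b.2)
        (Subgroup.inv_mem _ a.2)) (Subgroup.inv_mem _ b.2)
    have h2 := stab_trivial hS d hd0 hdlast ⁅a.1, b.1⁆ (key a.1 a.2 b.1 b.2).2 (hord _ hmem)
    apply Subtype.ext
    exact commutatorElement_eq_one_iff_mul_comm.mp h2
  · intro h hh
    apply stab_trivial hS d hd0 hdlast (h ^ (p - 1)) ?_ (hord _ (Subgroup.pow_mem _ hh _))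
    intro i x hx
    have := hdn i.castSucc
    have := hcyc i
    exact pow_pred_stab hS (d i.castSucc) (d i.succ) h (hinv h hh _) (hinv h hh _) (hord h hh) x hx

theorem autInducedBy_self (S : Subgroup Ω) : autInducedBy S S = Inn S := by
  unfold autInducedBy
  apply le_antisymm
  · rw [Subgroup.closure_le]
    rintro α ⟨g, hg, h⟩
    refine ⟨⟨g, hg⟩, ?_⟩
    apply MulEquiv.ext
    intro x
    apply Subtype.ext
    rw [h x]
    rfl
  · rintro _ ⟨s, rfl⟩
    exact Subgroup.subset_closure ⟨s, s.2, fun x => rfl⟩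

theorem exists_aut_ext_of_normal [Finite S] (F : FusionSystem S) (hN : F.IsNormal S)
    {P : Subgroup Ω} {φ : P →* Ω} (hφ : φ ∈ F.Hom P) :
    ∃ α ∈ F.autGroup S, ∀ (x : P) (hx : (x : Ω) ∈ S), ((α ⟨x, hx⟩ : S) : Ω) = φ x := by
  obtain ⟨ψ, hψ, hψP, -⟩ := hN.2 P φ hφ
  have hψ' := restrict_mem F (le_sup_right : S ≤ P ⊔ S) hψ
  obtain ⟨α, hα, hα'⟩ := exists_aut_of_hom F hψ' (fun x => (F.le_of_mem hψ').2 x)
  refine ⟨α, hα, fun x hx => ?_⟩
  rw [hα', ← hψP x]
  rfl

theorem chain_of_resistant [Finite S] (p : ℕ) [hp : Fact p.Prime] (hS : IsPGroup p S)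
    (F : FusionSystem S) (hF : F.IsSaturated p) (hN : F.IsNormal S)
    (hH : ∀ H : Subgroup (MulAut S), (Nat.card H).Coprime p →
      IsMulCommutative H ∧ ∀ h ∈ H, h ^ (p - 1) = 1) :
    HasChain F := by
  obtain ⟨Q, hconj, ⟨hQS, R, hR⟩, -⟩ := hF S le_rfl
  have hQ : S = Q := (Subgroup.eq_of_le_of_card_ge hQS (card_eq_of_isConj F hconj).le).symm
  subst hQ
  rw [autInducedBy_self] at hR
  have hnorm : ((Inn S).subgroupOf (F.autGroup S)).Normal := by
    have := inn_normal S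
    infer_instance
  have hidx : ¬ p ∣ ((Inn S).subgroupOf (F.autGroup S)).index := by
    rw [← hR]; exact R.not_dvd_index
  have hNp : IsPGroup p ((Inn S).subgroupOf (F.autGroup S)) := by rw [← hR]; exact R.2
  have hcop : (Nat.card ((Inn S).subgroupOf (F.autGroup S))).Coprime
      ((Inn S).subgroupOf (F.autGroup S)).index := by
    obtain ⟨k, hk⟩ := IsPGroup.iff_card.mp hNp
    rw [hk]
    exact Nat.Coprime.pow_left k ((Nat.Prime.coprime_iff_not_dvd hp.out).mpr hidx)
  obtain ⟨K₀, hK₀⟩ := Subgroup.exists_right_complement'_of_coprime hcop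
  have hKcard : (Nat.card (K₀.map (F.autGroup S).subtype)).Coprime p := by
    have h1 : Nat.card (K₀.map (F.autGroup S).subtype) = Nat.card K₀ :=
      Subgroup.card_map_of_injective (Subgroup.subtype_injective _)
    have h2 : ((Inn S).subgroupOf (F.autGroup S)).index = Nat.card K₀ := hK₀.symm.index_eq_card
    rw [h1, ← h2]
    exact ((Nat.Prime.coprime_iff_not_dvd hp.out).mpr hidx).symm
  obtain ⟨hKc, hKp⟩ := hH _ hKcard
  let T : Set (S →* S) := {a | ∃ k ∈ K₀.map (F.autGroup S).subtype, a = k.toMonoidHom}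
  have hTc : ∀ a ∈ T, ∀ b ∈ T, ∀ x, a (b x) = b (a x) := by
    rintro _ ⟨k₁, hk₁, rfl⟩ _ ⟨k₂, hk₂, rfl⟩ x
    have h := congrArg Subtype.val (hKc.is_comm.comm ⟨k₁, hk₁⟩ ⟨k₂, hk₂⟩)
    exact DFunLike.congr_fun h x
  have hTp : ∀ a ∈ T, ∀ x, a^[p - 1] x = x := by
    rintro _ ⟨k, hk, rfl⟩ x
    have h := hKp k hk
    have hit : ∀ (j : ℕ) (z : S), (k.toMonoidHom)^[j] z = (k ^ j) z := by
      intro j
      induction j with
      | zero => intro z; rfl
      | succ j ih =>
        intro z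
        rw [Function.iterate_succ_apply', ih, pow_succ', MulAut.mul_apply]
        rfl
    rw [hit, h]
    rfl
  obtain ⟨m, d, hd0, hdlast, hgood, hstep⟩ := exists_good_chain p hS T hTc hTp
  have hAinv : ∀ α ∈ F.autGroup S, ∀ i, ∀ x ∈ d i, α x ∈ d i := by
    intro α hα i x hx
    obtain ⟨⟨n, k⟩, hnk, -⟩ := hK₀.existsUnique ⟨α, hα⟩
    have hα' : α = (n.1 : MulAut S) * (k.1 : MulAut S) := by
      have := congrArg Subtype.val hnk
      exact this.symm
    obtain ⟨s, hs⟩ : (n.1 : MulAut S) ∈ Inn S := n.2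
    have hkK : (k.1 : MulAut S) ∈ K₀.map (F.autGroup S).subtype := ⟨k.1, k.2, rfl⟩
    have h1 : (k.1 : MulAut S) x ∈ d i := (hgood i).2 _ ⟨_, hkK, rfl⟩ x hx
    rw [hα', MulAut.mul_apply, ← hs]
    exact (hgood i).1.conj_mem _ h1 s
  refine ⟨m, fun i => (d i).map S.subtype, ?_, ?_, ?_, ?_⟩
  · show (d 0).map S.subtype = ⊥
    rw [hd0, Subgroup.map_bot]
  · show (d (Fin.last m)).map S.subtype = S
    rw [hdlast, ← MonoidHom.range_eq_map, Subgroup.range_subtype]
  · intro i
    have hle : (d i).map S.subtype ≤ S := Subgroup.map_subtype_le _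
    refine ⟨hle, fun R' hR' φ hφ x => ?_⟩
    obtain ⟨α, hα, hαφ⟩ := exists_aut_ext_of_normal F hN hφ
    have hxS : (x : Ω) ∈ S := hle (hR' x.2)
    have hxd : (⟨x, hxS⟩ : S) ∈ d i := by
      obtain ⟨y, hy, hyx⟩ := hR' x.2
      have : y = ⟨x, hxS⟩ := Subtype.ext hyx
      rwa [← this]
    rw [← hαφ x hxS]
    exact Subgroup.mem_map_of_mem S.subtype (hAinv α hα i _ hxd)
  · intro i
    obtain ⟨h1, x, hx⟩ := hstep i
    refine ⟨Subgroup.map_mono h1, x, x.2, ?_⟩
    show (d i.succ).map S.subtype = (d i.castSucc).map S.subtype ⊔ Subgroup.zpowers (x : Ω)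
    rw [hx, Subgroup.map_sup, MonoidHom.map_zpowers]
    rfl



/-- Call a saturated fusion system F over a finite p-group S supersoluble when S has a chain of subgroups 1 = S_0 ≤ S_1 ≤ … ≤ S_m = S, each strongly closed in F, with each S_{i+1} generated by S_i together with one further element (cyclic steps). Then every saturated fusion system over S is supersoluble if and only if S is normal in every saturated fusion system over S (S is resistant) and every subgroup of Aut(S) of order prime to p is abelian of exponent dividing p − 1. -/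
theorem result {Ω : Type*} [Group Ω] {S : Subgroup Ω} [Finite S] (p : ℕ) [Fact p.Prime] (hS : IsPGroup p ↥S) : (∀ F : Cfsg.FusionSystem S, F.IsSaturated p → (∃ (m : ℕ) (c : Fin (m + 1) → Subgroup Ω), c 0 = ⊥ ∧ c (Fin.last m) = S ∧ (∀ i : Fin (m + 1), F.StronglyClosed (c i)) ∧ ∀ i : Fin m, c i.castSucc ≤ c i.succ ∧ ∃ x ∈ S, c i.succ = c i.castSucc ⊔ Subgroup.zpowers x)) ↔ (∀ F : Cfsg.FusionSystem S, F.IsSaturated p → F.IsNormal S) ∧ ∀ H : Subgroup (MulAut ↥S), (Nat.card ↥H).Coprime p → IsMulCommutative ↥H ∧ ∀ h ∈ H, h ^ (p - 1) = 1 := by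
  constructor
  · intro hall
    exact ⟨fun F hF => resistant_of_chain p hS F hF (hall F hF),
      fun H hcop => abelian_of_chain p hS hall H hcop⟩
  · rintro ⟨hres, hH⟩ F hF
    exact chain_of_resistant p hS F hF (hres F hF) hH

end Cfsg.Agent.S5283
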