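import Cfsg.Statements.S5284
import Mathlib
import Cfsg.Agent.Lib.Helper25.FusionAbelian
import Cfsg.Agent.Lib.Helper29.AutSystem

set_option autoImplicit false
open Cfsg

namespace Cfsg.Agent.S5284

/-- one coordinate -/
theorem coord1 (p : ℕ) (hp : p.Prime) (N a n j : ℕ) (hN : N = p ^ a) (u : ZMod N)
    (h : (p ^ (j + 1) : ℕ) • ((p ^ n : ℕ) • u) = 0) :
    (n + j + 2 ≤ a → ∃ w : ZMod N, (p ^ n : ℕ) • u = (p ^ (n + 1) : ℕ) • w) ∧
    (a ≤ n + j → (p ^ j : ℕ) • ((p ^ n : ℕ) • u) = 0) := by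
  have : NeZero N := ⟨by rw [hN]; exact (pow_pos hp.pos a).ne'⟩
  constructor
  · intro ha
    have hu : ((u.val : ℕ) : ZMod N) = u := ZMod.natCast_zmod_val u
    have h1 : (((p ^ (j + 1) * p ^ n * u.val : ℕ)) : ZMod N) = 0 := by
      have h0 : (((p ^ (j + 1) * p ^ n * u.val : ℕ)) : ZMod N) =
          (p ^ (j + 1) : ℕ) • ((p ^ n : ℕ) • u) := by
        rw [smul_smul, nsmul_eq_mul, Nat.cast_mul (p ^ (j + 1) * p ^ n) u.val, hu]
      rw [h0, h]
    rw [ZMod.natCast_eq_zero_iff] at h1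
    have h3 : p ^ (n + j + 1) * p ^ (a - (n + j + 1)) = N := by
      rw [hN, ← pow_add]; congr 1; omega
    have h4 : p ^ (j + 1) * p ^ n * u.val = p ^ (n + j + 1) * u.val := by
      rw [← pow_add]; congr 2; omega
    have h5 : p ^ (n + j + 1) * p ^ (a - (n + j + 1)) ∣ p ^ (n + j + 1) * u.val :=
      h3.dvd.trans (h1.trans h4.dvd)
    have h6 : p ^ (a - (n + j + 1)) ∣ u.val := (Nat.mul_dvd_mul_iff_left (pow_pos hp.pos _)).mp h5
    have h7 : p ∣ u.val := dvd_trans (dvd_pow_self p (by omega)) h6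
    obtain ⟨v', hv'⟩ := h7
    refine ⟨(v' : ZMod N), ?_⟩
    have hu' : u = ((p * v' : ℕ) : ZMod N) := by rw [← hv', hu]
    rw [nsmul_eq_mul, nsmul_eq_mul, hu']
    push_cast
    ring
  · intro ha
    rw [smul_smul, nsmul_eq_mul]
    have : ((p ^ j * p ^ n : ℕ) : ZMod N) = 0 := by
      rw [ZMod.natCast_eq_zero_iff, hN, ← pow_add]
      exact pow_dvd_pow p (by omega)
    rw [this, zero_mul]

theorem coord2 (p : ℕ) (hp : p.Prime) (N a n j : ℕ) (hN : N = p ^ a) (ha : a ≠ n + j + 1)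
    (u : ZMod N) (h : (p ^ (j + 1) : ℕ) • ((p ^ n : ℕ) • u) = 0) :
    ∃ w b : ZMod N, (p ^ j : ℕ) • ((p ^ n : ℕ) • b) = 0 ∧
      (p ^ n : ℕ) • u = (p ^ (n + 1) : ℕ) • w + (p ^ n : ℕ) • b := by
  obtain ⟨h1, h2⟩ := coord1 p hp N a n j hN u h
  rcases Nat.lt_or_ge (n + j + 1) a with h3 | h3
  · obtain ⟨w, hw⟩ := h1 (by omega)
    exact ⟨w, 0, by simp, by rw [hw]; simp⟩
  · exact ⟨0, u, h2 (by omega), by simp⟩

theorem key_add {ι : Type} (p : ℕ) (hp : p.Prime) (N e : ι → ℕ)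
    (hN : ∀ i, N i = p ^ e i) (hinj : Function.Injective e) (n j : ℕ) :
    ∃ X0 : ∀ i, ZMod (N i), (∀ i, (p ^ (j + 1) : ℕ) • ((p ^ n : ℕ) • X0 i) = 0) ∧
      ∀ U : ∀ i, ZMod (N i), (∀ i, (p ^ (j + 1) : ℕ) • ((p ^ n : ℕ) • U i) = 0) →
        ∃ (W B : ∀ i, ZMod (N i)) (r : ℕ), (∀ i, (p ^ j : ℕ) • ((p ^ n : ℕ) • B i) = 0) ∧
          ∀ i, (p ^ n : ℕ) • U i =
            (p ^ (n + 1) : ℕ) • W i + (p ^ n : ℕ) • B i + r • ((p ^ n : ℕ) • X0 i) := by
  classical
  have : ∀ i, NeZero (N i) := fun i => ⟨by rw [hN i]; exact (pow_pos hp.pos _).ne'⟩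
  by_cases hex : ∃ i0, e i0 = n + j + 1
  · obtain ⟨i0, hi0⟩ := hex
    refine ⟨fun i => if i = i0 then 1 else 0, ?_, ?_⟩
    · intro i
      beta_reduce
      by_cases hi : i = i0
      · subst hi
        rw [if_pos rfl, smul_smul, nsmul_eq_mul, mul_one, ZMod.natCast_eq_zero_iff, hN i, hi0,
          ← pow_add]
        exact pow_dvd_pow p (by omega)
      · rw [if_neg hi]; simp
    · intro U hU
      have key : ∀ i, ∃ w b : ZMod (N i), (p ^ j : ℕ) • ((p ^ n : ℕ) • b) = 0 ∧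
          (p ^ n : ℕ) • U i = (p ^ (n + 1) : ℕ) • w + (p ^ n : ℕ) • b +
            (U i0).val • ((p ^ n : ℕ) • (if i = i0 then (1 : ZMod (N i)) else 0)) := by
        intro i
        by_cases hi : i = i0
        · subst hi
          refine ⟨0, 0, by simp, ?_⟩
          rw [if_pos rfl, smul_zero, smul_zero, zero_add, zero_add, smul_comm, nsmul_eq_mul (U i).val,
            mul_one, ZMod.natCast_zmod_val]
        · have hne : e i ≠ n + j + 1 := fun h => hi (hinj (h.trans hi0.symm))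
          obtain ⟨w, b, hb, hw⟩ := coord2 p hp (N i) (e i) n j (hN i) hne (U i) (hU i)
          refine ⟨w, b, hb, ?_⟩
          rw [if_neg hi, hw]; simp
      choose W B hB hW using key
      exact ⟨W, B, (U i0).val, hB, hW⟩
  · refine ⟨fun i => 0, fun i => by simp, ?_⟩
    intro U hU
    have key : ∀ i, ∃ w b : ZMod (N i), (p ^ j : ℕ) • ((p ^ n : ℕ) • b) = 0 ∧
        (p ^ n : ℕ) • U i = (p ^ (n + 1) : ℕ) • w + (p ^ n : ℕ) • b := by
      intro i
      have hne : e i ≠ n + j + 1 := fun h => hex ⟨i, h⟩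
      exact coord2 p hp (N i) (e i) n j (hN i) hne (U i) (hU i)
    choose W B hB hW using key
    refine ⟨W, B, 0, hB, fun i => ?_⟩
    rw [hW i]; simp


section Coord

variable {M : Type*} [CommGroup M] {ι : Type} {N : ι → ℕ}

/-- coordinates -/
def co (E : M ≃* ∀ i, Multiplicative (ZMod (N i))) (z : M) (i : ι) : ZMod (N i) :=
  Multiplicative.toAdd (E z i)

/-- element with given coordinates -/
def lift (E : M ≃* ∀ i, Multiplicative (ZMod (N i))) (V : ∀ i, ZMod (N i)) : M :=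
  E.symm (fun i => Multiplicative.ofAdd (V i))

variable (E : M ≃* ∀ i, Multiplicative (ZMod (N i)))

theorem co_lift (V : ∀ i, ZMod (N i)) (i : ι) : co E (lift E V) i = V i := by
  simp [co, lift]

theorem co_mul (z z' : M) (i : ι) : co E (z * z') i = co E z i + co E z' i := by
  simp [co]

theorem co_pow (z : M) (k : ℕ) (i : ι) : co E (z ^ k) i = k • co E z i := by
  simp [co]

theorem co_one (i : ι) : co E 1 i = 0 := by
  simp [co]

theorem co_ext {z z' : M} (h : ∀ i, co E z i = co E z' i) : z = z' := by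
  apply E.injective
  funext i
  exact Multiplicative.toAdd.injective (h i)

end Coord


section Chain

variable {M : Type*} [CommGroup M]

/-- the key property, elementwise -/
def KeyProp (M : Type*) [CommGroup M] (p : ℕ) : Prop :=
  ∀ n j : ℕ, ∃ x0 : M, x0 ^ (p ^ (j + 1)) = 1 ∧ (∃ X0 : M, x0 = X0 ^ (p ^ n)) ∧
    ∀ g : M, (g ^ (p ^ n)) ^ (p ^ (j + 1)) = 1 → ∃ (w b : M) (r : ℕ),
      (b ^ (p ^ n)) ^ (p ^ j) = 1 ∧ g ^ (p ^ n) = w ^ (p ^ (n + 1)) * b ^ (p ^ n) * x0 ^ r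

theorem keyProp_of_coords (p : ℕ) (hp : p.Prime) {ι : Type} (N e : ι → ℕ)
    (hN : ∀ i, N i = p ^ e i) (hinj : Function.Injective e)
    (E : M ≃* ∀ i, Multiplicative (ZMod (N i))) : KeyProp M p := by
  intro n j
  obtain ⟨X0, hX0, hU⟩ := key_add p hp N e hN hinj n j
  refine ⟨(lift E X0) ^ (p ^ n), ?_, ⟨_, rfl⟩, ?_⟩
  · apply co_ext E
    intro i
    rw [co_pow, co_pow, co_lift, co_one]
    exact hX0 i
  · intro g hg
    obtain ⟨W, B, r, hB, hW⟩ := hU (co E g) (fun i => by rw [← co_pow, ← co_pow, hg, co_one])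
    refine ⟨lift E W, lift E B, r, ?_, ?_⟩
    · apply co_ext E
      intro i
      rw [co_pow, co_pow, co_lift, co_one]
      exact hB i
    · apply co_ext E
      intro i
      rw [co_mul, co_mul, co_pow, co_pow, co_pow, co_pow, co_pow, co_lift, co_lift, co_lift]
      exact hW i

/-- `p^n`-th powers -/
def Pw (M : Type*) [CommGroup M] (p n : ℕ) : Subgroup M := (powMonoidHom (p ^ n) : M →* M).range

/-- elements killed by `p^j` -/
def Kr (M : Type*) [CommGroup M] (p j : ℕ) : Subgroup M := (powMonoidHom (p ^ j) : M →* M).ker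

theorem mem_Pw {p n : ℕ} {z : M} : z ∈ Pw M p n ↔ ∃ g : M, g ^ (p ^ n) = z := Iff.rfl

theorem mem_Kr {p j : ℕ} {z : M} : z ∈ Kr M p j ↔ z ^ (p ^ j) = 1 := Iff.rfl

/-- invariant under all automorphisms -/
def IsChar (D : Subgroup M) : Prop := ∀ α : MulAut M, ∀ z ∈ D, α z ∈ D

theorem Pw_char (p n : ℕ) : IsChar (Pw M p n) := by
  rintro α z ⟨g, rfl⟩
  exact ⟨α g, by show (α g) ^ (p ^ n) = α (g ^ (p ^ n)); rw [map_pow]⟩

theorem Kr_char (p j : ℕ) : IsChar (Kr M p j) := by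
  intro α z hz
  rw [mem_Kr] at hz ⊢
  rw [← map_pow, hz, map_one]

theorem IsChar.sup {A B : Subgroup M} (hA : IsChar A) (hB : IsChar B) : IsChar (A ⊔ B) := by
  intro α z hz
  obtain ⟨a, ha, b, hb, rfl⟩ := Subgroup.mem_sup.mp hz
  rw [map_mul]
  exact Subgroup.mul_mem_sup (hA α a ha) (hB α b hb)

theorem IsChar.inf {A B : Subgroup M} (hA : IsChar A) (hB : IsChar B) : IsChar (A ⊓ B) :=
  fun α z hz => ⟨hA α z hz.1, hB α z hz.2⟩

theorem isChar_bot : IsChar (⊥ : Subgroup M) := by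
  intro α z hz
  rw [Subgroup.mem_bot] at hz ⊢
  rw [hz, map_one]

/-- the interpolating subgroups -/
def Cs (M : Type*) [CommGroup M] (p n j : ℕ) : Subgroup M := Pw M p (n + 1) ⊔ (Kr M p j ⊓ Pw M p n)

theorem Cs_char (p n j : ℕ) : IsChar (Cs M p n j) :=
  (Pw_char p (n + 1)).sup ((Kr_char p j).inf (Pw_char p n))

theorem Kr_mono (p j : ℕ) : Kr M p j ≤ Kr M p (j + 1) := by
  intro z hz
  rw [mem_Kr] at hz ⊢
  rw [pow_succ, pow_mul, hz, one_pow]

theorem Pw_anti (p n : ℕ) : Pw M p (n + 1) ≤ Pw M p n := by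
  rintro z ⟨g, rfl⟩
  exact ⟨g ^ p, by show (g ^ p) ^ (p ^ n) = g ^ (p ^ (n + 1)); rw [← pow_mul, ← pow_succ']⟩

/-- the step relation -/
def Rel (A B : Subgroup M) : Prop := A ≤ B ∧ IsChar B ∧ ∃ x : M, B = A ⊔ Subgroup.zpowers x

theorem Cs_step {p : ℕ} (hkey : KeyProp M p) (n j : ℕ) : Rel (Cs M p n j) (Cs M p n (j + 1)) := by
  have hmono : Cs M p n j ≤ Cs M p n (j + 1) :=
    sup_le_sup_left (inf_le_inf_right _ (Kr_mono p j)) _
  obtain ⟨x0, hx1, ⟨X0, hx2⟩, hg⟩ := hkey n j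
  refine ⟨hmono, Cs_char p n (j + 1), x0, le_antisymm ?_ ?_⟩
  · refine sup_le (le_trans le_sup_left le_sup_left) ?_
    rintro z ⟨hz1, g, rfl⟩
    obtain ⟨w, b, r, hb, hw⟩ := hg g hz1
    change g ^ (p ^ n) ∈ _
    rw [hw]
    refine Subgroup.mul_mem _ (Subgroup.mem_sup_left (Subgroup.mul_mem _ ?_ ?_))
      (Subgroup.mem_sup_right (Subgroup.pow_mem _ (Subgroup.mem_zpowers x0) r))
    · exact Subgroup.mem_sup_left ⟨w, rfl⟩
    · exact Subgroup.mem_sup_right ⟨hb, ⟨b, rfl⟩⟩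
  · refine sup_le hmono ?_
    rw [Subgroup.zpowers_le]
    exact Subgroup.mem_sup_right ⟨hx1, ⟨X0, hx2.symm⟩⟩

theorem Cs_zero (p n : ℕ) : Cs M p n 0 = Pw M p (n + 1) := by
  have h : Kr M p 0 = ⊥ := by
    rw [eq_bot_iff]
    intro z hz
    rw [mem_Kr, pow_zero, pow_one] at hz
    rw [Subgroup.mem_bot, hz]
  unfold Cs
  rw [h, bot_inf_eq, sup_bot_eq]

theorem Cs_top (p n N0 : ℕ) (hN0 : ∀ z : M, z ^ (p ^ N0) = 1) : Cs M p n N0 = Pw M p n := by
  have h : Kr M p N0 = ⊤ := by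
    rw [eq_top_iff]
    intro z _
    exact hN0 z
  unfold Cs
  rw [h, top_inf_eq, sup_eq_right]
  exact Pw_anti p n

theorem rtg_j {p : ℕ} (hkey : KeyProp M p) (n j : ℕ) :
    Relation.ReflTransGen Rel (Cs M p n 0) (Cs M p n j) := by
  induction j with
  | zero => exact Relation.ReflTransGen.refl
  | succ j ih => exact Relation.ReflTransGen.tail ih (Cs_step hkey n j)

theorem rtg_P {p : ℕ} (hkey : KeyProp M p) (N0 : ℕ) (hN0 : ∀ z : M, z ^ (p ^ N0) = 1) (n : ℕ) :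
    Relation.ReflTransGen Rel (Pw M p (n + 1)) (Pw M p n) := by
  have h := rtg_j hkey n N0
  rwa [Cs_zero, Cs_top p n N0 hN0] at h

theorem rtg_all {p : ℕ} (hkey : KeyProp M p) (N0 : ℕ) (hN0 : ∀ z : M, z ^ (p ^ N0) = 1) (n : ℕ) :
    Relation.ReflTransGen Rel (Pw M p n) (Pw M p 0) := by
  induction n with
  | zero => exact Relation.ReflTransGen.refl
  | succ n ih => exact (rtg_P hkey N0 hN0 n).trans ih

theorem Pw_zero (p : ℕ) : Pw M p 0 = ⊤ := by
  rw [eq_top_iff]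
  intro z _
  exact ⟨z, by show z ^ (p ^ 0) = z; rw [pow_zero, pow_one]⟩

theorem Pw_top (p N0 : ℕ) (hN0 : ∀ z : M, z ^ (p ^ N0) = 1) : Pw M p N0 = ⊥ := by
  rw [eq_bot_iff]
  rintro z ⟨g, rfl⟩
  rw [Subgroup.mem_bot]
  exact hN0 g

theorem chain_of_rtg {α : Type*} (R : α → α → Prop) {a b : α} (h : Relation.ReflTransGen R a b) :
    ∃ (m : ℕ) (c : ℕ → α), c 0 = a ∧ c m = b ∧ ∀ i < m, R (c i) (c (i + 1)) := by
  induction h with
  | refl => exact ⟨0, fun _ => a, rfl, rfl, fun i hi => absurd hi (Nat.not_lt_zero i)⟩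
  | @tail b' c' _ hbc ih =>
    obtain ⟨m, c, h0, hm, hs⟩ := ih
    refine ⟨m + 1, fun i => if i ≤ m then c i else c', ?_, ?_, ?_⟩
    · simp [h0]
    · simp
    · intro i hi
      by_cases him : i < m
      · have h1 : i ≤ m := by omega
        have h2 : i + 1 ≤ m := by omega
        simp only [if_pos h1, if_pos h2]
        exact hs i him
      · have h1 : i = m := by omega
        subst h1
        simp only [le_refl, if_true]
        have h2 : ¬ (i + 1 ≤ i) := by omega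
        simp only [if_neg h2]
        rw [hm]
        exact hbc

/-- the chain of characteristic subgroups -/
theorem exists_char_chain {p : ℕ} (hkey : KeyProp M p) (N0 : ℕ) (hN0 : ∀ z : M, z ^ (p ^ N0) = 1) :
    ∃ (m : ℕ) (d : Fin (m + 1) → Subgroup M), d 0 = ⊥ ∧ d (Fin.last m) = ⊤ ∧
      (∀ i, IsChar (d i)) ∧ ∀ i : Fin m, d i.castSucc ≤ d i.succ ∧
        ∃ x : M, d i.succ = d i.castSucc ⊔ Subgroup.zpowers x := by
  have h := rtg_all hkey N0 hN0 N0
  rw [Pw_zero, Pw_top p N0 hN0] at h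
  obtain ⟨m, c, h0, hm, hs⟩ := chain_of_rtg Rel h
  refine ⟨m, fun i => c i.val, ?_, ?_, ?_, ?_⟩
  · simpa using h0
  · simpa using hm
  · intro i
    rcases Nat.eq_zero_or_pos i.val with hi | hi
    · show IsChar (c i.val)
      rw [hi, h0]
      exact isChar_bot
    · obtain ⟨k, hk⟩ : ∃ k, i.val = k + 1 := ⟨i.val - 1, by omega⟩
      show IsChar (c i.val)
      rw [hk]
      exact (hs k (by omega)).2.1
  · intro i
    have := hs i.val i.isLt
    exact ⟨this.1, this.2.2⟩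

end Chain

section Decomp

/-- split off two coordinates -/
def splitTwo {ι : Type} [DecidableEq ι] (G : ι → Type) [∀ k, CommGroup (G k)] (i i' : ι)
    (h : i' ≠ i) :
    (∀ k, G k) ≃* (G i × G i') × (∀ k : {k : {j // j ≠ i} // k ≠ ⟨i', h⟩}, G k.1.1) :=
  let e1 : (∀ k, G k) ≃* G i × (∀ k : {j // j ≠ i}, G k.1) :=
    { Equiv.piSplitAt i G with map_mul' := fun _ _ => rfl }
  let e2 : (∀ k : {j // j ≠ i}, G k.1) ≃*
      G i' × (∀ k : {k : {j // j ≠ i} // k ≠ ⟨i', h⟩}, G k.1.1) :=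
    { Equiv.piSplitAt (⟨i', h⟩ : {j // j ≠ i}) (fun k => G k.1) with map_mul' := fun _ _ => rfl }
  (e1.trans (MulEquiv.prodCongr (MulEquiv.refl _) e2)).trans MulEquiv.prodAssoc.symm

theorem decomp (M : Type*) [CommGroup M] [Finite M] (p : ℕ) [hpf : Fact p.Prime] (hM : IsPGroup p M)
    (hno : ¬ ∃ (n : ℕ) (H : Type) (_ : CommGroup H), 0 < n ∧
      Nonempty (M ≃* (Multiplicative (ZMod (p ^ n)) × Multiplicative (ZMod (p ^ n))) × H)) :
    ∃ (ι : Type) (N e : ι → ℕ), (∀ i, N i = p ^ e i) ∧ Function.Injective e ∧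
      Nonempty (M ≃* ∀ i, Multiplicative (ZMod (N i))) := by
  classical
  have hp : p.Prime := hpf.out
  obtain ⟨ι, _, N, hN1, ⟨E⟩⟩ := CommGroup.equiv_prod_multiplicative_zmod_of_finite M
  obtain ⟨k, hk⟩ := IsPGroup.iff_card.mp hM
  have hcard : Nat.card M = ∏ i, N i := by
    rw [Nat.card_congr E.toEquiv, Nat.card_pi]
    refine Finset.prod_congr rfl (fun i _ => ?_)
    rw [Nat.card_congr Multiplicative.toAdd, Nat.card_zmod]
  have hdvd : ∀ i, ∃ m, N i = p ^ m := by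
    intro i
    have h1 : N i ∣ p ^ k := by
      rw [← hk, hcard]
      exact Finset.dvd_prod_of_mem N (Finset.mem_univ i)
    obtain ⟨m, -, hm⟩ := (Nat.dvd_prime_pow hp).mp h1
    exact ⟨m, hm⟩
  choose e he using hdvd
  refine ⟨ι, N, e, he, ?_, ⟨E⟩⟩
  intro i i' hii'
  by_contra hne
  apply hno
  have hpos : 0 < e i := by
    rcases Nat.eq_zero_or_pos (e i) with h | h
    · have := hN1 i
      rw [he i, h, pow_zero] at this
      omega
    · exact h
  have hi' : N i' = p ^ e i := by rw [he i', hii']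
  refine ⟨e i, (∀ k : {k : {j // j ≠ i} // k ≠ ⟨i', Ne.symm hne⟩}, Multiplicative (ZMod (N k.1.1))),
    inferInstance, hpos, ⟨?_⟩⟩
  have c1 : Multiplicative (ZMod (N i)) ≃* Multiplicative (ZMod (p ^ e i)) :=
    (ZMod.ringEquivCongr (he i)).toAddEquiv.toMultiplicative
  have c2 : Multiplicative (ZMod (N i')) ≃* Multiplicative (ZMod (p ^ e i)) :=
    (ZMod.ringEquivCongr hi').toAddEquiv.toMultiplicative
  exact (E.trans (splitTwo (fun k => Multiplicative (ZMod (N k))) i i' (Ne.symm hne))).trans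
    (MulEquiv.prodCongr (MulEquiv.prodCongr c1 c2) (MulEquiv.refl _))

end Decomp

section Fusion

open Cfsg.Agent.Lib.Helper25 Cfsg.Agent.Lib.Helper29

theorem backward {Ω : Type*} [Group Ω] {S : Subgroup Ω} [Finite S] (p : ℕ) [Fact p.Prime]
    (hS : IsPGroup p ↥S) (hab : ∀ a b : S, a * b = b * a)
    (hno : ¬ ∃ (n : ℕ) (H : Type) (_ : CommGroup H), 0 < n ∧
      Nonempty (↥S ≃* (Multiplicative (ZMod (p ^ n)) × Multiplicative (ZMod (p ^ n))) × H))
    (F : FusionSystem S) (hF : F.IsSaturated p) :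
    ∃ (m : ℕ) (c : Fin (m + 1) → Subgroup Ω), c 0 = ⊥ ∧ c (Fin.last m) = S ∧
      (∀ i : Fin (m + 1), F.StronglyClosed (c i)) ∧
      ∀ i : Fin m, c i.castSucc ≤ c i.succ ∧
        ∃ x ∈ S, c i.succ = c i.castSucc ⊔ Subgroup.zpowers x := by
  letI : CommGroup S := { (inferInstance : Group S) with mul_comm := hab }
  obtain ⟨ι, N, e, hN, hinj, ⟨E⟩⟩ := decomp S p hS hno
  have hkey : KeyProp S p := keyProp_of_coords p Fact.out N e hN hinj E
  obtain ⟨N0, hN0⟩ := IsPGroup.iff_card.mp hS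
  have hpow : ∀ z : S, z ^ (p ^ N0) = 1 := fun z => by rw [← hN0]; exact pow_card_eq_one'
  obtain ⟨m, d, h0, hm, hchar, hstep⟩ := exists_char_chain hkey N0 hpow
  have hab' : ∀ x ∈ S, ∀ y ∈ S, x * y = y * x := fun x hx y hy =>
    congrArg Subtype.val (hab ⟨x, hx⟩ ⟨y, hy⟩)
  refine ⟨m, fun i => (d i).map S.subtype, ?_, ?_, ?_, ?_⟩
  · show (d 0).map S.subtype = ⊥
    rw [h0, Subgroup.map_bot]
  · show (d (Fin.last m)).map S.subtype = S
    rw [hm, ← MonoidHom.range_eq_map, Subgroup.range_subtype]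
  · intro i
    have hle : (d i).map S.subtype ≤ S := Subgroup.map_subtype_le _
    refine ⟨hle, fun R hR φ hφ x => ?_⟩
    obtain ⟨α, hα, hαφ⟩ := exists_aut_ext F hF hab' hφ
    have hxS : (x : Ω) ∈ S := hle (hR x.2)
    have hxd : (⟨x, hxS⟩ : S) ∈ d i := by
      obtain ⟨y, hy, hyx⟩ := hR x.2
      have : y = ⟨x, hxS⟩ := Subtype.ext hyx
      rwa [← this]
    rw [← hαφ x hxS]
    exact Subgroup.mem_map_of_mem S.subtype (hchar i α _ hxd)
  · intro i
    obtain ⟨h1, x, hx⟩ := hstep i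
    refine ⟨Subgroup.map_mono h1, x, x.2, ?_⟩
    show (d i.succ).map S.subtype = (d i.castSucc).map S.subtype ⊔ Subgroup.zpowers (x : Ω)
    rw [hx, Subgroup.map_sup, MonoidHom.map_zpowers]
    rfl

end Fusion


section Forward

open Cfsg.Agent.Lib.Helper25 Cfsg.Agent.Lib.Helper29

theorem coprime_of_exp {G : Type*} [Group G] [Finite G] (p : ℕ) [hp : Fact p.Prime] (m : ℕ)
    (hm : m.Coprime p) (h : ∀ g : G, g ^ m = 1) : (Nat.card G).Coprime p := by
  by_contra hc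
  have hdvd : p ∣ Nat.card G := by
    by_contra hnd
    exact hc ((Nat.Prime.coprime_iff_not_dvd hp.out).mpr hnd).symm
  obtain ⟨g, hg⟩ := exists_prime_orderOf_dvd_card' p hdvd
  have h1 : p ∣ m := by rw [← hg]; exact orderOf_dvd_of_pow_eq_one (h g)
  have h2 : p ∣ 1 := by
    have := Nat.dvd_gcd h1 (dvd_refl p)
    rwa [Nat.Coprime.gcd_eq_one hm] at this
  exact hp.out.one_lt.ne' (Nat.dvd_one.mp h2)

theorem eq_one_of_coprime_zpow {C : Type*} [Group C] (u : C) (m : ℤ) (q : ℕ)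
    (hm : IsCoprime m (q : ℤ)) (h1 : u ^ m = 1) (h2 : u ^ q = 1) : u = 1 := by
  obtain ⟨a, b, hab⟩ := hm
  have : u ^ (a * m + b * (q : ℤ)) = 1 := by
    rw [zpow_add, mul_comm a m, mul_comm b (q : ℤ), zpow_mul, zpow_mul, h1, zpow_natCast, h2,
      one_zpow, one_zpow, one_mul]
  rw [hab, zpow_one] at this
  exact this

theorem forward_abstract {Ω : Type*} [Group Ω] {S : Subgroup Ω} [Finite S] (p : ℕ) [Fact p.Prime]
    (hS : IsPGroup p ↥S) (hab : ∀ a b : S, a * b = b * a)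
    {A H : Type*} [CommGroup A] [CommGroup H] (hA : ∃ a : A, a ≠ 1) (e0 : S ≃* A × H)
    (K₁ : Subgroup (MulAut (A × H))) (hcop : (Nat.card K₁).Coprime p)
    (hirr : ∀ z : A × H, (∀ β ∈ K₁, ∃ k : ℤ, (β z).1 = z.1 ^ k) → z.1 = 1)
    (hall : ∀ F : Cfsg.FusionSystem S, F.IsSaturated p →
      (∃ (m : ℕ) (c : Fin (m + 1) → Subgroup Ω), c 0 = ⊥ ∧ c (Fin.last m) = S ∧
        (∀ i : Fin (m + 1), F.StronglyClosed (c i)) ∧
        ∀ i : Fin m, c i.castSucc ≤ c i.succ ∧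
          ∃ x ∈ S, c i.succ = c i.castSucc ⊔ Subgroup.zpowers x)) : False := by
  obtain ⟨Φ, hΦa⟩ : ∃ Φ : MulAut (A × H) →* MulAut S, ∀ β s, e0 (Φ β s) = β (e0 s) :=
    ⟨(MulAut.congr e0.symm).toMonoidHom, fun β s => by simp [MulAut.congr]⟩
  have hcop' : (Nat.card (K₁.map Φ)).Coprime p :=
    Nat.Coprime.coprime_dvd_left (Subgroup.card_map_dvd K₁ Φ) hcop
  have hF := autSystem_saturated (K₁.map Φ) hS hcop'
  obtain ⟨m, c, h0, hlast, hsc, hstep⟩ := hall _ hF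
  have claim : ∀ i : Fin (m + 1), ∀ z : S, (z : Ω) ∈ c i → (e0 z).1 = 1 := by
    intro i
    induction i using Fin.induction with
    | zero =>
      intro z hz
      rw [h0, Subgroup.mem_bot] at hz
      have : z = 1 := Subtype.ext hz
      rw [this, map_one]
      rfl
    | succ i ih =>
      obtain ⟨hle, x, hx, hcx⟩ := hstep i
      obtain ⟨hleS, hclosed⟩ := hsc i.succ
      have hleS' : c i.castSucc ≤ S := (hsc i.castSucc).1
      have hzx : Subgroup.zpowers x ≤ S := by rw [Subgroup.zpowers_le]; exact hx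
      have fact : ∀ z : S, (z : Ω) ∈ c i.succ → ∃ k : ℤ, (e0 z).1 = (e0 ⟨x, hx⟩).1 ^ k := by
        intro z hz
        have h1 : z ∈ (c i.succ).subgroupOf S := Subgroup.mem_subgroupOf.mpr hz
        rw [hcx, Subgroup.subgroupOf_sup hleS' hzx] at h1
        obtain ⟨a, ha, b, hb, habz⟩ := mem_sup_comm hab h1
        have ha' : (e0 a).1 = 1 := ih a (Subgroup.mem_subgroupOf.mp ha)
        obtain ⟨k, hk⟩ := Subgroup.mem_zpowers_iff.mp (Subgroup.mem_subgroupOf.mp hb)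
        have hb' : b = (⟨x, hx⟩ : S) ^ k := Subtype.ext (by rw [Subgroup.coe_zpow]; exact hk.symm)
        refine ⟨k, ?_⟩
        rw [← habz, map_mul, Prod.fst_mul, ha', one_mul, hb', map_zpow, Prod.pow_fst]
      have hxc : x ∈ c i.succ := by
        rw [hcx]; exact Subgroup.mem_sup_right (Subgroup.mem_zpowers x)
      have hy : (e0 ⟨x, hx⟩).1 = 1 := by
        apply hirr
        intro β hβ
        have hβ' : Φ β ∈ Inn S ⊔ K₁.map Φ :=
          Subgroup.mem_sup_right (Subgroup.mem_map_of_mem Φ hβ)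
        have hφ : ((S.subtype.comp (Φ β).toMonoidHom).comp (Subgroup.inclusion hleS)) ∈
            (autSystem S (Inn S ⊔ K₁.map Φ) le_sup_left).Hom (c i.succ) :=
          ⟨hleS, Φ β, hβ', fun _ => rfl⟩
        have h2 := hclosed (c i.succ) le_rfl _ hφ ⟨x, hxc⟩
        obtain ⟨k, hk⟩ := fact (Φ β ⟨x, hx⟩) h2
        refine ⟨k, ?_⟩
        rw [← hΦa]
        exact hk
      intro z hz
      obtain ⟨k, hk⟩ := fact z hz
      rw [hk, hy, one_zpow]
  obtain ⟨a, ha⟩ := hA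
  have h1 := claim (Fin.last m) (e0.symm (a, 1)) (by rw [hlast]; exact (e0.symm (a, 1)).2)
  rw [MulEquiv.apply_symm_apply] at h1
  exact ha h1

end Forward


section SP

variable {C H : Type*} [CommGroup C] [CommGroup H]

/-- signed permutation automorphisms of `(C × C) × H` -/
def IsSP (β : MulAut ((C × C) × H)) : Prop :=
  ∃ a b : ℤˣ, (∀ z, β z = ((z.1.1 ^ (a : ℤ), z.1.2 ^ (b : ℤ)), z.2)) ∨
    (∀ z, β z = ((z.1.2 ^ (a : ℤ), z.1.1 ^ (b : ℤ)), z.2))

theorem zpow_units_mul (x : C) (a b : ℤˣ) :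
    (x ^ (a : ℤ)) ^ (b : ℤ) = x ^ ((a * b : ℤˣ) : ℤ) := by
  rw [← zpow_mul, Units.val_mul]

theorem zpow_units_self (x : C) (a : ℤˣ) : (x ^ (a : ℤ)) ^ (a : ℤ) = x := by
  rw [zpow_units_mul, Int.units_mul_self, Units.val_one, zpow_one]

/-- the group of signed permutation automorphisms -/
def spGroup (C H : Type*) [CommGroup C] [CommGroup H] : Subgroup (MulAut ((C × C) × H)) where
  carrier := {β | IsSP β}
  one_mem' := ⟨1, 1, Or.inl (fun z => by simp)⟩
  mul_mem' := by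
    rintro β β' ⟨a, b, hβ⟩ ⟨a', b', hβ'⟩
    rcases hβ with hβ | hβ <;> rcases hβ' with hβ' | hβ'
    · exact ⟨a' * a, b' * b, Or.inl (fun z => by
        rw [MulAut.mul_apply, hβ', hβ]; simp only [zpow_units_mul])⟩
    · exact ⟨a' * a, b' * b, Or.inr (fun z => by
        rw [MulAut.mul_apply, hβ', hβ]; simp only [zpow_units_mul])⟩
    · exact ⟨b' * a, a' * b, Or.inr (fun z => by
        rw [MulAut.mul_apply, hβ', hβ]; simp only [zpow_units_mul])⟩
    · exact ⟨b' * a, a' * b, Or.inl (fun z => by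
        rw [MulAut.mul_apply, hβ', hβ]; simp only [zpow_units_mul])⟩
  inv_mem' := by
    rintro β ⟨a, b, hβ | hβ⟩
    · refine ⟨a, b, Or.inl (fun z => ?_)⟩
      have h1 : β ((z.1.1 ^ (a : ℤ), z.1.2 ^ (b : ℤ)), z.2) = z := by
        rw [hβ]; simp only [zpow_units_self]
      have h2 : β⁻¹ z = β⁻¹ (β ((z.1.1 ^ (a : ℤ), z.1.2 ^ (b : ℤ)), z.2)) := by rw [h1]
      rw [h2, MulAut.inv_apply_self]
    · refine ⟨b, a, Or.inr (fun z => ?_)⟩
      have h1 : β ((z.1.2 ^ (b : ℤ), z.1.1 ^ (a : ℤ)), z.2) = z := by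
        rw [hβ]; simp only [zpow_units_self]
      have h2 : β⁻¹ z = β⁻¹ (β ((z.1.2 ^ (b : ℤ), z.1.1 ^ (a : ℤ)), z.2)) := by rw [h1]
      rw [h2, MulAut.inv_apply_self]

theorem sp_pow_four (β : MulAut ((C × C) × H)) (hβ : β ∈ spGroup C H) : β ^ 4 = 1 := by
  have h4 : β ^ 4 = (β * β) * (β * β) := by
    rw [show (4 : ℕ) = 2 + 2 from rfl, pow_add, pow_two]
  obtain ⟨a, b, hβ | hβ⟩ := hβ
  · have h2 : β * β = 1 := by
      ext z : 1
      rw [MulAut.mul_apply, hβ, hβ]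
      simp only [zpow_units_self, MulAut.one_apply]
    rw [h4, h2, one_mul]
  · have h2 : ∀ z, (β * β) z =
        ((z.1.1 ^ ((b * a : ℤˣ) : ℤ), z.1.2 ^ ((a * b : ℤˣ) : ℤ)), z.2) := by
      intro z
      rw [MulAut.mul_apply, hβ, hβ]
      simp only [zpow_units_mul]
    rw [h4]
    ext z : 1
    rw [MulAut.mul_apply, h2, h2, mul_comm b a]
    simp only [zpow_units_self, MulAut.one_apply]

/-- the swap -/
def sigma (C H : Type*) [CommGroup C] [CommGroup H] : MulAut ((C × C) × H) :=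
  MulEquiv.prodCongr MulEquiv.prodComm (MulEquiv.refl H)

/-- inversion of the second coordinate -/
def tau (C H : Type*) [CommGroup C] [CommGroup H] : MulAut ((C × C) × H) :=
  MulEquiv.prodCongr (MulEquiv.prodCongr (MulEquiv.refl C) (MulEquiv.inv C)) (MulEquiv.refl H)

theorem sigma_apply (z : (C × C) × H) : sigma C H z = ((z.1.2, z.1.1), z.2) := rfl

theorem tau_apply (z : (C × C) × H) : tau C H z = ((z.1.1, z.1.2⁻¹), z.2) := rfl

theorem sigma_mem : sigma C H ∈ spGroup C H :=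
  ⟨1, 1, Or.inr (fun z => by rw [sigma_apply]; simp)⟩

theorem tau_mem : tau C H ∈ spGroup C H :=
  ⟨1, -1, Or.inl (fun z => by rw [tau_apply]; simp)⟩

theorem irr_odd_aux (q : ℕ) (hq : IsCoprime (2 : ℤ) (q : ℤ)) (hC : ∀ u : C, u ^ q = 1)
    (u v : C) (k l : ℤ) (hk1 : u = u ^ k) (hk2 : v⁻¹ = v ^ k) (hl1 : v = u ^ l)
    (hl2 : u = v ^ l) : u = 1 ∧ v = 1 := by
  have h3 : v⁻¹ = v := by
    calc v⁻¹ = v ^ k := hk2
      _ = (u ^ l) ^ k := by rw [← hl1]
      _ = (u ^ k) ^ l := by rw [← zpow_mul, ← zpow_mul, mul_comm]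
      _ = u ^ l := by rw [← hk1]
      _ = v := hl1.symm
  have h4 : v ^ (2 : ℤ) = 1 := by
    rw [zpow_two]
    nth_rewrite 1 [← h3]
    exact inv_mul_cancel v
  have hv : v = 1 := eq_one_of_coprime_zpow v 2 q hq h4 (hC v)
  have hu : u = 1 := by rw [hl2, hv, one_zpow]
  exact ⟨hu, hv⟩

theorem irr_odd (q : ℕ) (hq : IsCoprime (2 : ℤ) (q : ℤ)) (hC : ∀ u : C, u ^ q = 1)
    (z : (C × C) × H) (h : ∀ β ∈ spGroup C H, ∃ k : ℤ, (β z).1 = z.1 ^ k) : z.1 = 1 := by
  obtain ⟨k, hk⟩ := h _ tau_mem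
  obtain ⟨l, hl⟩ := h _ sigma_mem
  rw [tau_apply] at hk
  rw [sigma_apply] at hl
  have hk1 : z.1.1 = z.1.1 ^ k := congrArg Prod.fst hk
  have hk2 : z.1.2⁻¹ = z.1.2 ^ k := congrArg Prod.snd hk
  have hl1 : z.1.2 = z.1.1 ^ l := congrArg Prod.fst hl
  have hl2 : z.1.1 = z.1.2 ^ l := congrArg Prod.snd hl
  obtain ⟨hu, hv⟩ := irr_odd_aux q hq hC z.1.1 z.1.2 k l hk1 hk2 hl1 hl2
  exact Prod.ext hu hv

theorem ab1 (u v : C) : (v * (u * v)⁻¹)⁻¹ = u := by
  rw [mul_inv_rev u v, mul_inv_cancel_left, inv_inv]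

theorem ab2 (u v : C) : ((u * v)⁻¹ * u)⁻¹ = v := by
  rw [mul_inv_rev, inv_inv, inv_mul_cancel_left]

/-- the automorphism of order three -/
def rho (C H : Type*) [CommGroup C] [CommGroup H] : MulAut ((C × C) × H) where
  toFun z := ((z.1.2, (z.1.1 * z.1.2)⁻¹), z.2)
  invFun z := (((z.1.1 * z.1.2)⁻¹, z.1.1), z.2)
  left_inv z := by
    refine Prod.ext (Prod.ext ?_ rfl) rfl
    exact ab1 z.1.1 z.1.2
  right_inv z := by
    refine Prod.ext (Prod.ext rfl ?_) rfl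
    exact ab2 z.1.1 z.1.2
  map_mul' z w := by
    refine Prod.ext (Prod.ext rfl ?_) rfl
    show (z.1.1 * w.1.1 * (z.1.2 * w.1.2))⁻¹ = (z.1.1 * z.1.2)⁻¹ * (w.1.1 * w.1.2)⁻¹
    rw [← mul_inv, mul_mul_mul_comm]

theorem rho_apply (z : (C × C) × H) : rho C H z = ((z.1.2, (z.1.1 * z.1.2)⁻¹), z.2) := rfl

theorem rho_pow_three : rho C H ^ 3 = 1 := by
  ext z : 1
  show rho C H (rho C H (rho C H z)) = z
  rw [rho_apply, rho_apply, rho_apply]
  refine Prod.ext (Prod.ext ?_ ?_) rfl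
  · exact ab1 z.1.1 z.1.2
  · show ((z.1.1 * z.1.2)⁻¹ * (z.1.2 * (z.1.1 * z.1.2)⁻¹)⁻¹)⁻¹ = z.1.2
    rw [ab1]

theorem zpowers_rho_pow_three (g : MulAut ((C × C) × H)) (hg : g ∈ Subgroup.zpowers (rho C H)) :
    g ^ 3 = 1 := by
  obtain ⟨k, rfl⟩ := Subgroup.mem_zpowers_iff.mp hg
  rw [← zpow_natCast, ← zpow_mul, mul_comm, zpow_mul, zpow_natCast, rho_pow_three, one_zpow]

theorem irr_two (n : ℕ) (hC : ∀ u : C, u ^ (2 ^ n) = 1)
    (z : (C × C) × H) (h : ∀ β ∈ Subgroup.zpowers (rho C H), ∃ k : ℤ, (β z).1 = z.1 ^ k) :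
    z.1 = 1 := by
  obtain ⟨k, hk⟩ := h _ (Subgroup.mem_zpowers _)
  rw [rho_apply] at hk
  have hk1 : z.1.2 = z.1.1 ^ k := congrArg Prod.fst hk
  have hk2 : (z.1.1 * z.1.2)⁻¹ = z.1.2 ^ k := congrArg Prod.snd hk
  have h1 : z.1.1 ^ (k * k + k + 1) = 1 := by
    rw [zpow_add, zpow_add, zpow_mul, zpow_one, ← hk1, ← hk2, mul_comm z.1.1 z.1.2,
      mul_assoc, inv_mul_cancel]
  have hcop : IsCoprime (k * k + k + 1) ((2 ^ n : ℕ) : ℤ) := by
    obtain ⟨t, ht⟩ := Int.even_mul_succ_self k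
    have h2 : IsCoprime (k * k + k + 1) (2 : ℤ) := by
      refine ⟨1, -t, ?_⟩
      have : k * k + k = t + t := by rw [← ht]; ring
      linarith
    push_cast
    exact h2.pow_right
  have hu : z.1.1 = 1 := eq_one_of_coprime_zpow _ _ _ hcop h1 (hC _)
  have hv : z.1.2 = 1 := by rw [hk1, hu, one_zpow]
  exact Prod.ext hu hv

end SP


/-- Let S be a finite abelian p-group. Every saturated fusion system over S is supersoluble (S has a chain of F-strongly closed subgroups from 1 to S with cyclic steps) if and only if the invariants of S are pairwise distinct, that is, S is not isomorphic to a direct product (Z/p^n × Z/p^n) × H with n ≥ 1. -/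
theorem result {Ω : Type*} [Group Ω] {S : Subgroup Ω} [Finite S] (p : ℕ) [Fact p.Prime] (hS : IsPGroup p ↥S) (hab : IsMulCommutative ↥S) : (∀ F : Cfsg.FusionSystem S, F.IsSaturated p → (∃ (m : ℕ) (c : Fin (m + 1) → Subgroup Ω), c 0 = ⊥ ∧ c (Fin.last m) = S ∧ (∀ i : Fin (m + 1), F.StronglyClosed (c i)) ∧ ∀ i : Fin m, c i.castSucc ≤ c i.succ ∧ ∃ x ∈ S, c i.succ = c i.castSucc ⊔ Subgroup.zpowers x)) ↔ ¬ ∃ (n : ℕ) (H : Type) (_ : CommGroup H), 0 < n ∧ Nonempty (↥S ≃* (Multiplicative (ZMod (p ^ n)) × Multiplicative (ZMod (p ^ n))) × H) := by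
  have hab' : ∀ a b : S, a * b = b * a := isMulCommutative_iff.mp hab
  constructor
  · rintro hall ⟨n, H, instH, hn, ⟨e0⟩⟩
    have hp : p.Prime := Fact.out
    haveI : NeZero (p ^ n) := ⟨(pow_pos hp.pos n).ne'⟩
    have hC : ∀ u : Multiplicative (ZMod (p ^ n)), u ^ (p ^ n) = 1 := by
      intro u
      have h1 : Nat.card (Multiplicative (ZMod (p ^ n))) = p ^ n := by
        rw [Nat.card_congr Multiplicative.toAdd, Nat.card_zmod]
      have h2 : u ^ Nat.card (Multiplicative (ZMod (p ^ n))) = 1 := pow_card_eq_one'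
      rw [h1] at h2
      exact h2
    have hA : ∃ a : Multiplicative (ZMod (p ^ n)) × Multiplicative (ZMod (p ^ n)), a ≠ 1 := by
      haveI : Fact (1 < p ^ n) := ⟨Nat.one_lt_pow hn.ne' hp.one_lt⟩
      refine ⟨(Multiplicative.ofAdd 1, 1), fun h => ?_⟩
      have h1 : Multiplicative.ofAdd (1 : ZMod (p ^ n)) = 1 := congrArg Prod.fst h
      have h2 : (1 : ZMod (p ^ n)) = 0 := Multiplicative.ofAdd.injective h1
      exact one_ne_zero h2
    haveI : Finite ((Multiplicative (ZMod (p ^ n)) × Multiplicative (ZMod (p ^ n))) × H) :=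
      Finite.of_equiv S e0.toEquiv
    by_cases hp2 : p = 2
    · subst hp2
      have hcop : (Nat.card (Subgroup.zpowers (rho (Multiplicative (ZMod (2 ^ n))) H))).Coprime 2 := by
        apply coprime_of_exp 2 3 (by decide)
        intro g
        apply Subtype.ext
        rw [Subgroup.coe_pow, Subgroup.coe_one]
        exact zpowers_rho_pow_three g.1 g.2
      refine forward_abstract 2 hS hab' hA e0 _ hcop (fun z hz => ?_) hall
      exact irr_two n hC z hz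
    · have hcop : (Nat.card (spGroup (Multiplicative (ZMod (p ^ n))) H)).Coprime p := by
        apply coprime_of_exp p 4
        · have : Nat.Coprime 2 p := (Nat.coprime_primes Nat.prime_two hp).mpr (Ne.symm hp2)
          exact Nat.Coprime.pow_left 2 this
        · intro g
          apply Subtype.ext
          rw [Subgroup.coe_pow, Subgroup.coe_one]
          exact sp_pow_four g.1 g.2
      refine forward_abstract p hS hab' hA e0 _ hcop (fun z hz => ?_) hall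
      have hq : IsCoprime (2 : ℤ) ((p ^ n : ℕ) : ℤ) := by
        have : Nat.Coprime 2 (p ^ n) :=
          Nat.Coprime.pow_right n ((Nat.coprime_primes Nat.prime_two hp).mpr (Ne.symm hp2))
        exact_mod_cast Nat.isCoprime_iff_coprime.mpr this
      exact irr_odd (p ^ n) hq hC z hz
  · intro hno F hF
    exact backward p hS hab' hno F hF

end Cfsg.Agent.S5284
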