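import Cfsg.Statements.S5290
import Cfsg.Agent.Lib.Helper29.FusionInnerSat

set_option autoImplicit false
open Cfsg

namespace Cfsg.Agent.S5290

/-- Let F be a saturated fusion system over a finite p-group S and Q a subgroup of S. Then Q is normal in F (F = N_F(Q)) if and only if the inner fusion system of Q, consisting of the conjugations by elements of Q on subgroups of Q, is a weakly normal subsystem of F (both saturated, Q strongly closed, invariant under F-conjugation, with the Frattini property). -/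
theorem result {Ω : Type*} [Group Ω] {S : Subgroup Ω} [Finite S] (p : ℕ) [Fact p.Prime] (hS : IsPGroup p S)
    (F : Cfsg.FusionSystem S) (hF : F.IsSaturated p)
    (Q : Subgroup Ω) (hQ : Q ≤ S) :
    F.IsNormal Q ↔ (Cfsg.innerFusionSystem Q).IsWeaklyNormalIn F p := by
  open Cfsg.Agent.Lib.Helper29 in
  have hfin : Finite Q := finite_of_le hQ
  have hQp : IsPGroup p Q := hS.to_le hQ
  constructor
  · intro hQn
    refine ⟨innerFusionSystem_isSaturated hQp, hF, ?_, stronglyClosed_of_isNormal F hQn, ?_, ?_⟩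
    · rintro P φ ⟨hP, g, hg, hφg⟩
      have h1 : conjHom P g ∈ F.Hom P := F.conj_mem (hP.trans hQ) (hQ hg)
      have h2 : conjHom P g = φ := by
        ext x
        exact (hφg x).symm
      rw [← h2]
      exact h1
    · rintro P hPQ φ ⟨_, g, hg, hφg⟩ α hα
      refine ⟨conjHom _ ((α ⟨g, hg⟩ : Q) : Ω), ⟨?_, _, (α ⟨g, hg⟩).2, fun x => rfl⟩, ?_⟩
      · rintro _ ⟨y, _, rfl⟩
        exact (α y).2
      · intro x hφx hαx
        show ((α ⟨g, hg⟩ : Q) : Ω) * ((α ⟨x, hPQ x.2⟩ : Q) : Ω) * ((α ⟨g, hg⟩ : Q) : Ω)⁻¹ = _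
        have e : (⟨φ x, hφx⟩ : Q) = ⟨g, hg⟩ * ⟨x, hPQ x.2⟩ * ⟨g, hg⟩⁻¹ := Subtype.ext (hφg x)
        rw [e, map_mul, map_mul, map_inv]
        rfl
    · intro P hPQ φ hφ
      obtain ⟨α, hα, hαv⟩ := exists_aut_of_isNormal F hQn P hPQ φ hφ
      refine ⟨α, hα, P.subtype, subtype_mem _ hPQ, fun x hx => ?_⟩
      rw [← hαv x]
      rfl
  · rintro ⟨_, _, _, _, _, hfrat⟩
    have hext : ∀ (P : Subgroup Ω) (hPQ : P ≤ Q) (φ : P →* Ω), φ ∈ F.Hom P →
        ∃ α ∈ F.autGroup Q, ∀ x : P, ((α (Subgroup.inclusion hPQ x) : Q) : Ω) = φ x := by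
      intro P hPQ φ hφ
      obtain ⟨α, hα, φ₀, ⟨_, g, hg, hφ₀g⟩, hφeq⟩ := hfrat P hPQ φ hφ
      have hinn : MulAut.conj (⟨g, hg⟩ : Q) ∈ F.autGroup Q := inn_le_autGroup F hQ ⟨_, rfl⟩
      refine ⟨α * MulAut.conj (⟨g, hg⟩ : Q), mul_mem hα hinn, fun x => ?_⟩
      have hφ₀Q : φ₀ x ∈ Q := by
        rw [hφ₀g]
        exact Q.mul_mem (Q.mul_mem hg (hPQ x.2)) (Q.inv_mem hg)
      rw [hφeq x hφ₀Q, MulAut.mul_apply]
      congr 2
      exact Subtype.ext (hφ₀g x).symm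
    obtain ⟨n, Qs, h0, hn, hmono, h⟩ := exists_chain_of_ext hS F hQ hext
    exact isNormal_of_chain p hS F hF Q n Qs h0 hn hmono h

end Cfsg.Agent.S5290
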