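import Cfsg.Statements.S5294
import Mathlib
import Cfsg.Agent.Lib.Helper25.FusionAbelian
import Cfsg.Agent.S5145

set_option autoImplicit false
universe u
open Cfsg

namespace Cfsg.Agent.S5294

open Cfsg.Agent.Lib.Helper25 Cfsg.Agent.Lib.Helper29

/-- trace argument: for a subgroup `P` of index prime to `|M|`, the `G`-fixed points form a direct
factor of the `P`-fixed points -/
theorem trace_decomp {M : Type*} [CommGroup M] [Finite M] {G : Type*} [Group G] [Finite G]
    (ρ : G →* MulAut M) (P : Subgroup G) (hcop : (Nat.card M).Coprime P.index) :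
    ∃ K : Subgroup M, (∀ k ∈ K, ∀ g ∈ P, ρ g k = k) ∧ (∀ k ∈ K, (∀ g : G, ρ g k = k) → k = 1) ∧
      ∀ w : M, (∀ g ∈ P, ρ g w = w) →
        ∃ c k : M, (∀ g : G, ρ g c = c) ∧ k ∈ K ∧ c * k = w := by
  classical
  haveI := Fintype.ofFinite (G ⧸ P)
  let T : M →* M :=
    { toFun := fun w => ∏ q : G ⧸ P, ρ (q.out) w
      map_one' := by simp
      map_mul' := by intro a b; simp [Finset.prod_mul_distrib] }
  have hT : ∀ w, T w = ∏ q : G ⧸ P, ρ (q.out) w := fun w => rfl
  have hTfix : ∀ w, (∀ g ∈ P, ρ g w = w) → ∀ g : G, ρ g (T w) = T w := by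
    intro w hw g
    rw [hT, map_prod]
    have h1 : ∀ q : G ⧸ P, ρ g (ρ q.out w) = ρ ((g • q).out) w := by
      intro q
      have h2 : ((g * q.out : G) : G ⧸ P) = (((g • q).out : G) : G ⧸ P) := by
        rw [QuotientGroup.out_eq' (g • q)]
        exact MulAction.Quotient.mk_smul_out P g q
      have h3 := QuotientGroup.eq.mp h2
      have h4 : (g • q).out = (g * q.out) * ((g * q.out)⁻¹ * (g • q).out) := by group
      rw [h4, map_mul, map_mul, MulAut.mul_apply, MulAut.mul_apply, hw _ h3]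
    exact Fintype.prod_equiv (MulAction.toPerm g) _ _ (fun q => h1 q)
  have hTc : ∀ c, (∀ g : G, ρ g c = c) → T c = c ^ P.index := by
    intro c hc
    rw [hT, Subgroup.index_eq_card, Nat.card_eq_fintype_card, ← Finset.card_univ,
      ← Finset.prod_const]
    exact Finset.prod_congr rfl (fun q _ => hc _)
  let K : Subgroup M :=
    { carrier := {w | (∀ g ∈ P, ρ g w = w) ∧ T w = 1}
      one_mem' := ⟨fun g _ => map_one _, map_one T⟩
      mul_mem' := by
        rintro a b ⟨ha1, ha2⟩ ⟨hb1, hb2⟩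
        refine ⟨fun g hg => ?_, ?_⟩
        · rw [map_mul, ha1 g hg, hb1 g hg]
        · rw [map_mul, ha2, hb2, one_mul]
      inv_mem' := by
        rintro a ⟨ha1, ha2⟩
        refine ⟨fun g hg => ?_, ?_⟩
        · rw [map_inv, ha1 g hg]
        · rw [map_inv, ha2, inv_one] }
  refine ⟨K, fun k hk => hk.1, ?_, ?_⟩
  · intro k hk hfix
    have h1 : k ^ P.index = 1 := by
      rw [← hTc k hfix]
      exact hk.2
    have h2 := orderOf_dvd_of_pow_eq_one h1
    have h3 := orderOf_dvd_natCard k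
    have h4 : orderOf k ∣ 1 := by
      have := Nat.dvd_gcd h3 h2
      rwa [Nat.Coprime.gcd_eq_one hcop] at this
    exact orderOf_eq_one_iff.mp (Nat.dvd_one.mp h4)
  · intro w hw
    have hbij := Nat.Coprime.pow_left_bijective (G := M) hcop
    obtain ⟨c, hc⟩ := hbij.2 (T w)
    have hc' : c ^ P.index = T w := hc
    have hcfix : ∀ g : G, ρ g c = c := by
      intro g
      apply hbij.1
      show (ρ g c) ^ P.index = c ^ P.index
      rw [← map_pow, hc', hTfix w hw g]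
    refine ⟨c, c⁻¹ * w, hcfix, ⟨?_, ?_⟩, by rw [mul_inv_cancel_left]⟩
    · intro g hg
      rw [map_mul, map_inv, hcfix g, hw g hg]
    · rw [map_mul, map_inv, hTc c hcfix, hc', inv_mul_cancel]

/-- the same with commutativity as a hypothesis -/
theorem trace_decomp' {M : Type*} [Group M] [Finite M] (hcomm : ∀ a b : M, a * b = b * a)
    {G : Type*} [Group G] [Finite G]
    (ρ : G →* MulAut M) (P : Subgroup G) (hcop : (Nat.card M).Coprime P.index) :
    ∃ K : Subgroup M, (∀ k ∈ K, ∀ g ∈ P, ρ g k = k) ∧ (∀ k ∈ K, (∀ g : G, ρ g k = k) → k = 1) ∧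
      ∀ w : M, (∀ g ∈ P, ρ g w = w) →
        ∃ c k : M, (∀ g : G, ρ g c = c) ∧ k ∈ K ∧ c * k = w := by
  letI : CommGroup M := { (inferInstance : Group M) with mul_comm := hcomm }
  exact trace_decomp ρ P hcop

/-- Let F be a saturated fusion system over a finite p-group S whose centre Z(S) lies in the largest subgroup O_p(F) normal in F. Then the centre Z(F) of F is a direct factor of Z(S): there is a subgroup K of Z(S) with Z(F) ∩ K = 1 and Z(F)K = Z(S). -/
theorem result {Ω : Type u} [Group Ω] {S : Subgroup Ω} [Finite S] (p : ℕ) [Fact p.Prime] (hS : IsPGroup p S)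
    (F : Cfsg.FusionSystem S) (hF : F.IsSaturated p) (hZ : (S ⊓ Subgroup.centralizer (S : Set Ω)) ≤ F.core) :
    ∃ K : Subgroup Ω, K ≤ (S ⊓ Subgroup.centralizer (S : Set Ω)) ∧ F.center ⊓ K = ⊥ ∧ F.center ⊔ K = (S ⊓ Subgroup.centralizer (S : Set Ω)) := by
  have hp : p.Prime := Fact.out
  set Q : Subgroup Ω := F.core with hQdef
  have hQn : F.IsNormal Q := Cfsg.Agent.S5145.result F
  have hQS : Q ≤ S := hQn.1
  haveI : Finite Q := finite_of_le hQS
  have hQsc : F.StronglyClosed Q := stronglyClosed_of_isNormal F hQn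
  have hSQ : S ≤ Subgroup.normalizer (Q : Set Ω) :=
    le_normalizer_of_conj_mem (conj_mem_of_isNormal F hQn)
  -- `Q` is fully automized
  obtain ⟨Q', hconj, ⟨hQ'S, R, hR⟩, -⟩ := hF Q hQS
  have hQ' : Q' = Q := by
    obtain ⟨φ, hφ, hr⟩ := hconj
    have hle : Q' ≤ Q := by
      rw [← hr]
      rintro _ ⟨x, rfl⟩
      exact hQsc.2 Q le_rfl φ hφ x
    exact Subgroup.eq_of_le_of_card_ge hle (card_eq_of_isConj F ⟨φ, hφ, hr⟩).le
  subst hQ'
  -- the groups
  have hPidx0 : ¬ p ∣ ((autInducedBy S Q).subgroupOf (F.autGroup Q)).index := by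
    rw [← hR]
    exact R.not_dvd_index
  clear hR R
  set A : Subgroup (MulAut ↥Q) := F.autGroup Q with hA
  set P : Subgroup ↥A := (autInducedBy S Q).subgroupOf A with hP
  have hPidx : ¬ p ∣ P.index := hPidx0
  -- the module
  let ρ : ↥A →* MulAut ↥(Subgroup.center ↥Q) :=
    (MulAut.characteristic (Subgroup.center ↥Q)).comp A.subtype
  have hρ : ∀ (g : ↥A) (m : ↥(Subgroup.center ↥Q)),
      (((ρ g m : ↥(Subgroup.center ↥Q)) : ↥Q) : Ω) = (((g : MulAut ↥Q) (m : ↥Q) : ↥Q) : Ω) :=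
    fun g m => rfl
  have hMp : IsPGroup p ↥(Subgroup.center ↥Q) := by
    intro m
    obtain ⟨k, hk⟩ := hS ⟨((m : ↥Q) : Ω), hQS (m : ↥Q).2⟩
    refine ⟨k, Subtype.ext (Subtype.ext ?_)⟩
    have := congrArg Subtype.val hk
    simpa using this
  have hcop : (Nat.card ↥(Subgroup.center ↥Q)).Coprime P.index := by
    obtain ⟨k, hk⟩ := IsPGroup.iff_card.mp hMp
    rw [hk]
    exact Nat.Coprime.pow_left k ((Nat.Prime.coprime_iff_not_dvd hp).mpr hPidx)
  have hcomm : ∀ a b : ↥(Subgroup.center ↥Q), a * b = b * a := fun a b => mul_comm' a b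
  obtain ⟨K, hK1, hK2, hK3⟩ := trace_decomp' hcomm ρ P hcop
  -- the embedding
  set ιh : ↥(Subgroup.center ↥Q) →* Ω := Q.subtype.comp (Subgroup.center ↥Q).subtype with hι
  have hιinj : Function.Injective ιh := by
    intro a b hab
    exact Subtype.ext (Subtype.ext hab)
  -- (A) `P`-fixed points correspond to `Z(S)`
  have hfixP_to : ∀ m : ↥(Subgroup.center ↥Q), (∀ g ∈ P, ρ g m = m) →
      ιh m ∈ S ⊓ Subgroup.centralizer (S : Set Ω) := by
    intro m hm
    refine Subgroup.mem_inf.mpr ⟨hQS (m : ↥Q).2, ?_⟩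
    rw [Subgroup.mem_centralizer_iff]
    intro s hs
    have hsN : s ∈ Subgroup.normalizer (Q : Set Ω) := hSQ hs
    have hα1 : Q.normalizerMonoidHom ⟨s, hsN⟩ ∈ autInducedBy S Q :=
      Subgroup.subset_closure ⟨s, hs, fun x => rfl⟩
    have hα2 : Q.normalizerMonoidHom ⟨s, hsN⟩ ∈ A := autInducedBy_le_autGroup F hQS hα1
    have h1 := hm ⟨_, hα2⟩ (by rw [hP, Subgroup.mem_subgroupOf]; exact hα1)
    have h2 := congrArg (fun z : ↥(Subgroup.center ↥Q) => ((z : ↥Q) : Ω)) h1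
    have h3 : s * ((m : ↥Q) : Ω) * s⁻¹ = ((m : ↥Q) : Ω) := h2
    show s * ((m : ↥Q) : Ω) = ((m : ↥Q) : Ω) * s
    calc s * ((m : ↥Q) : Ω) = (s * ((m : ↥Q) : Ω) * s⁻¹) * s := by group
      _ = ((m : ↥Q) : Ω) * s := by rw [h3]
  have hfixP_of : ∀ z ∈ S ⊓ Subgroup.centralizer (S : Set Ω),
      ∃ m : ↥(Subgroup.center ↥Q), ιh m = z ∧ ∀ g ∈ P, ρ g m = m := by
    intro z hz
    have hzQ : z ∈ Q := hZ hz
    have hzc : ∀ s ∈ S, s * z = z * s := fun s hs =>
      (Subgroup.mem_centralizer_iff.mp (Subgroup.mem_inf.mp hz).2) s hs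
    have hzcen : (⟨z, hzQ⟩ : ↥Q) ∈ Subgroup.center ↥Q := by
      rw [Subgroup.mem_center_iff]
      intro y
      exact Subtype.ext (hzc y (hQS y.2))
    refine ⟨⟨⟨z, hzQ⟩, hzcen⟩, rfl, ?_⟩
    intro g hg
    rw [hP, Subgroup.mem_subgroupOf, autInducedBy_eq_map] at hg
    obtain ⟨n, hn, hn'⟩ := hg
    apply Subtype.ext
    apply Subtype.ext
    rw [hρ, ← hn']
    show (n : Ω) * z * (n : Ω)⁻¹ = z
    have hnS : (n : Ω) ∈ S := hn
    rw [hzc _ hnS]
    group
  -- (B) `G`-fixed points correspond to the centre of the system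
  set fixG : Subgroup ↥(Subgroup.center ↥Q) :=
    { carrier := {m | ∀ g : ↥A, ρ g m = m}
      one_mem' := fun g => map_one _
      mul_mem' := by
        intro a b ha hb g
        rw [map_mul, ha g, hb g]
      inv_mem' := by
        intro a ha g
        rw [map_inv, ha g] } with hfixG
  have hcenter : F.center = fixG.map ιh := by
    apply le_antisymm
    · unfold FusionSystem.center
      apply sSup_le
      rintro Z' ⟨hZ'S, hZ'⟩ z hzZ'
      -- z is central in S
      have hzZ : z ∈ S ⊓ Subgroup.centralizer (S : Set Ω) := by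
        refine Subgroup.mem_inf.mpr ⟨hZ'S hzZ', ?_⟩
        rw [Subgroup.mem_centralizer_iff]
        intro s hs
        obtain ⟨ψ, hψ, hψ1, hψ2⟩ := hZ' S (conjHom S s) (F.conj_mem le_rfl hs)
        have e1 := hψ1 ⟨z, hZ'S hzZ'⟩
        have e2 := hψ2 ⟨z, hzZ'⟩
        have e3 : Subgroup.inclusion (le_sup_left : S ≤ S ⊔ Z') ⟨z, hZ'S hzZ'⟩
            = Subgroup.inclusion (le_sup_right : Z' ≤ S ⊔ Z') ⟨z, hzZ'⟩ := Subtype.ext rfl
        rw [e3, e2] at e1
        have e4 : z = s * z * s⁻¹ := e1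
        calc s * z = (s * z * s⁻¹) * s := by group
          _ = z * s := by rw [← e4]
      obtain ⟨m, hm, -⟩ := hfixP_of z hzZ
      refine ⟨m, ?_, hm⟩
      intro g
      have hg := (mem_autGroup_iff F hQS).mp g.2
      obtain ⟨ψ, hψ, hψ1, hψ2⟩ := hZ' Q _ hg
      have hzQ : z ∈ Q := hZ hzZ
      have e1 := hψ1 ⟨z, hzQ⟩
      have e2 := hψ2 ⟨z, hzZ'⟩
      have e3 : Subgroup.inclusion (le_sup_left : Q ≤ Q ⊔ Z') ⟨z, hzQ⟩
          = Subgroup.inclusion (le_sup_right : Z' ≤ Q ⊔ Z') ⟨z, hzZ'⟩ := Subtype.ext rfl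
      rw [e3, e2] at e1
      apply Subtype.ext
      apply Subtype.ext
      rw [hρ]
      have hmz : (m : ↥Q) = ⟨z, hzQ⟩ := Subtype.ext hm
      rw [hmz]
      exact e1.symm
    · apply le_sSup
      have hC'Q : fixG.map ιh ≤ Q := by
        rintro _ ⟨m, -, rfl⟩
        exact (m : ↥Q).2
      refine ⟨hC'Q.trans hQS, ?_⟩
      intro P0 φ hφ
      obtain ⟨ψ, hψ, hψ1, hψ2⟩ := hQn.2 P0 φ hφ
      have hle : P0 ⊔ fixG.map ιh ≤ P0 ⊔ Q := sup_le_sup_left hC'Q P0
      refine ⟨ψ.comp (Subgroup.inclusion hle), restrict_mem F hle hψ, ?_, ?_⟩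
      · intro x
        exact hψ1 x
      · rintro ⟨_, m, hm, rfl⟩
        -- ψ restricted to Q is an F-automorphism
        have hψQ := restrict_mem F (le_sup_right : Q ≤ P0 ⊔ Q) hψ
        have hvals : ∀ y : ↥Q, (ψ.comp (Subgroup.inclusion (le_sup_right : Q ≤ P0 ⊔ Q))) y ∈ Q := by
          intro y
          have h1 : ψ (Subgroup.inclusion le_sup_right y) ∈ (Q.subgroupOf (P0 ⊔ Q)).map ψ :=
            ⟨_, y.2, rfl⟩
          rw [hψ2] at h1
          exact h1
        obtain ⟨α, hα, hαψ⟩ := exists_aut_of_hom F hψQ hvals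
        have h2 := hm ⟨α, hα⟩
        have h3 := congrArg (fun z : ↥(Subgroup.center ↥Q) => ((z : ↥Q) : Ω)) h2
        have h4 : ((α (m : ↥Q) : ↥Q) : Ω) = ((m : ↥Q) : Ω) := h3
        rw [hαψ] at h4
        exact h4
  -- assemble
  refine ⟨K.map ιh, ?_, ?_, ?_⟩
  · rintro _ ⟨k, hk, rfl⟩
    exact hfixP_to k (hK1 k hk)
  · rw [hcenter, eq_bot_iff]
    rintro x ⟨⟨c, hc, rfl⟩, ⟨k, hk, hkc⟩⟩
    have hkc' : k = c := hιinj hkc
    subst hkc'
    rw [hK2 k hk hc, map_one]
    exact Subgroup.one_mem _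
  · rw [hcenter]
    apply le_antisymm
    · apply sup_le
      · rintro _ ⟨c, hc, rfl⟩
        exact hfixP_to c (fun g _ => hc g)
      · rintro _ ⟨k, hk, rfl⟩
        exact hfixP_to k (hK1 k hk)
    · intro z hz
      obtain ⟨w, rfl, hw⟩ := hfixP_of z hz
      obtain ⟨c, k, hc, hk, rfl⟩ := hK3 w hw
      rw [map_mul]
      exact Subgroup.mul_mem_sup (Subgroup.mem_map_of_mem _ hc) (Subgroup.mem_map_of_mem _ hk)

end Cfsg.Agent.S5294
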