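import Cfsg.Statements.S5297
import Mathlib
import Cfsg.Agent.Lib.Helper25.ChainFix
import Cfsg.Agent.Lib.Helper29.FusionInnerSat
import Cfsg.Agent.Lib.Helper29.FusionEssential
import Cfsg.Agent.Lib.Helper29.FusionNormal
import Cfsg.Agent.S5077
-- import your own Cfsg.Agent.* helpers here

set_option autoImplicit false
universe u
open Cfsg

namespace Cfsg.Agent.S5297

open Cfsg.Agent.Lib.Helper29 Cfsg.Agent.Lib.Helper25

/-- the action of `Aut_F(U)` on small elements of `hyp(F) ∩ U` preserves the upper central series of `S` -/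
theorem char_of_hyp {Ω : Type u} [Group Ω] {S : Subgroup Ω} [Finite S] (p : ℕ) [Fact p.Prime]
    (F : Cfsg.FusionSystem S)
    (h : ∀ A B : Subgroup Ω, A ≤ (F.hyperfocalSubgroup p) → B ≤ (F.hyperfocalSubgroup p) → IsCyclic ↥A → (Nat.card ↥A = p ∨ Nat.card ↥A = 4) → IsCyclic ↥B → (Nat.card ↥B = p ∨ Nat.card ↥B = 4) →
      F.homSet A B ⊆ F.normalizerHom S A)
    (U : Subgroup Ω) (hUS : U ≤ S) (γ : MulAut U) (hγ : γ ∈ F.autGroup U) (x : U)
    (hxh : (x : Ω) ∈ F.hyperfocalSubgroup p) (hγxh : ((γ x : U) : Ω) ∈ F.hyperfocalSubgroup p)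
    (hsm : x ^ p = 1 ∨ (p = 2 ∧ x ^ 4 = 1)) (i : ℕ)
    (hxi : Subgroup.inclusion hUS x ∈ Subgroup.upperCentralSeries S i) :
    Subgroup.inclusion hUS (γ x) ∈ Subgroup.upperCentralSeries S i := by
  have hp : p.Prime := Fact.out
  by_cases hx1 : x = 1
  · rw [hx1, map_one, map_one]
    exact Subgroup.one_mem _
  have hox : orderOf x = p ∨ orderOf x = 4 := by
    rcases hsm with hsm | ⟨h2, hsm⟩
    · exact Or.inl (orderOf_eq_prime hsm hx1)
    · have h1 : orderOf x ∣ 2 ^ 2 := orderOf_dvd_of_pow_eq_one (by norm_num; exact hsm)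
      obtain ⟨k, hk, hk2⟩ := (Nat.dvd_prime_pow Nat.prime_two).1 h1
      interval_cases k
      · exfalso
        rw [pow_zero, orderOf_eq_one_iff] at hk2
        exact hx1 hk2
      · left
        rw [hk2, h2]
        norm_num
      · right
        rw [hk2]
        norm_num
  have hψ : U.subtype.comp γ.toMonoidHom ∈ F.Hom U := (mem_autGroup_iff F hUS).1 hγ
  have hxA : (x : Ω) ∈ U := x.2
  have hAP : Subgroup.zpowers (x : Ω) ≤ U := Subgroup.zpowers_le.2 hxA
  have hA : Subgroup.zpowers (x : Ω) ≤ F.hyperfocalSubgroup p := Subgroup.zpowers_le.2 hxh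
  have hB : Subgroup.zpowers ((γ x : U) : Ω) ≤ F.hyperfocalSubgroup p := Subgroup.zpowers_le.2 hγxh
  have hcA : Nat.card (Subgroup.zpowers (x : Ω)) = p ∨ Nat.card (Subgroup.zpowers (x : Ω)) = 4 := by
    rw [Nat.card_zpowers, Subgroup.orderOf_coe]
    exact hox
  have hcB : Nat.card (Subgroup.zpowers ((γ x : U) : Ω)) = p ∨
      Nat.card (Subgroup.zpowers ((γ x : U) : Ω)) = 4 := by
    rw [Nat.card_zpowers, Subgroup.orderOf_coe, MulEquiv.orderOf_eq]
    exact hox
  have hφ := restrict_mem F hAP hψ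
  have hmaps : ∀ a : Subgroup.zpowers (x : Ω),
      ((U.subtype.comp γ.toMonoidHom).comp (Subgroup.inclusion hAP)) a ∈
        Subgroup.zpowers ((γ x : U) : Ω) := by
    intro a
    obtain ⟨k, hk⟩ := Subgroup.mem_zpowers_iff.1 a.2
    have h1 : Subgroup.inclusion hAP a = x ^ k := by
      apply Subtype.ext
      rw [Subgroup.coe_zpow, hk]
      rfl
    show ((γ (Subgroup.inclusion hAP a) : U) : Ω) ∈ Subgroup.zpowers ((γ x : U) : Ω)
    rw [h1, map_zpow, Subgroup.coe_zpow]
    exact Subgroup.zpow_mem_zpowers _ k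
  have hin := h _ _ hA hB (Subgroup.isCyclic_zpowers _) hcA (Subgroup.isCyclic_zpowers _) hcB
    ⟨hφ, hmaps⟩
  obtain ⟨_, _, _, ψ, hψ', hext, _⟩ := hin
  -- the automorphism of `S` induced by `ψ`
  have hψS : ∀ s : S, (ψ.comp (Subgroup.inclusion (le_sup_right : S ≤ Subgroup.zpowers (x : Ω) ⊔ S))) s ∈ S :=
    fun s => (F.le_of_mem hψ').2 _
  obtain ⟨θ, hθdef⟩ : ∃ θ : S →* S, θ = (ψ.comp (Subgroup.inclusion
      (le_sup_right : S ≤ Subgroup.zpowers (x : Ω) ⊔ S))).codRestrict S hψS := ⟨_, rfl⟩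
  have hθinj : Function.Injective θ := by
    intro a b hab
    rw [hθdef] at hab
    have h1 := congrArg Subtype.val hab
    have h2 := F.injective_of_mem hψ' h1
    exact Subgroup.inclusion_injective _ h2
  have hθbij : Function.Bijective θ := ⟨hθinj, Finite.surjective_of_injective hθinj⟩
  have hfix := (inferInstance : (Subgroup.upperCentralSeries S i).Characteristic).fixed
    (MulEquiv.ofBijective θ hθbij)
  rw [← hfix] at hxi
  have h3 : θ (Subgroup.inclusion hUS x) ∈ Subgroup.upperCentralSeries S i := hxi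
  have h4 : θ (Subgroup.inclusion hUS x) = Subgroup.inclusion hUS (γ x) := by
    apply Subtype.ext
    rw [hθdef]
    exact hext ⟨(x : Ω), Subgroup.mem_zpowers _⟩
  rw [← h4]
  exact h3

/-- Let F be a saturated fusion system over a finite p-group S. If every map of F between cyclic subgroups of the hyperfocal subgroup of F of order p or 4 is a map of the normalizer system of S (it extends to a map of F defined on all of S), then S is normal in F. -/
theorem result {Ω : Type u} [Group Ω] {S : Subgroup Ω} [Finite S] (p : ℕ) [Fact p.Prime] (hS : IsPGroup p S)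
    (F : Cfsg.FusionSystem S) (hF : F.IsSaturated p)
    (h : ∀ A B : Subgroup Ω, A ≤ (F.hyperfocalSubgroup p) → B ≤ (F.hyperfocalSubgroup p) → IsCyclic ↥A → (Nat.card ↥A = p ∨ Nat.card ↥A = 4) → IsCyclic ↥B → (Nat.card ↥B = p ∨ Nat.card ↥B = 4) →
      F.homSet A B ⊆ F.normalizerHom S A) :
    F.IsNormal S := by
  have hp : p.Prime := Fact.out
  apply isNormal_of_aut p hS F hF S
  rintro U (rfl | hU)
  · refine ⟨le_rfl, fun α _ => ?_⟩
    rw [Subgroup.subgroupOf_self]
    exact Subgroup.map_top_of_surjective _ α.surjective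
  exfalso
  have hrad := isRadical_of_isEssential hS F hU
  obtain ⟨hcen, hfn, hN, E', hE'⟩ := hU
  have hUS : U ≤ S := hcen.1
  haveI : Finite U := finite_of_le hUS
  obtain ⟨_, R, hR⟩ := (((Cfsg.Agent.S5077.result p hS F).1 hF).1 U hfn).2
  have hUp : IsPGroup p U := hS.of_injective (Subgroup.inclusion hUS) (Subgroup.inclusion_injective hUS)
  -- `V = [U, O^p(Aut_F(U))]`
  obtain ⟨V, hVdef⟩ : ∃ V : Subgroup U, V = Subgroup.closure {d : U | ∃ (β : F.autGroup U) (m : ℕ) (u : U),
      m.Coprime p ∧ β ^ m = 1 ∧ d = u⁻¹ * (β : MulAut U) u} := ⟨_, rfl⟩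
  have hVhyp : ∀ x ∈ V, (x : Ω) ∈ F.hyperfocalSubgroup p := by
    intro x hx
    have h1 : V ≤ (F.hyperfocalSubgroup p).comap U.subtype := by
      rw [hVdef, Subgroup.closure_le]
      rintro _ ⟨β, m, u, hm, hβm, rfl⟩
      apply Subgroup.subset_closure
      refine ⟨U, β, u, hUS, ?_, rfl⟩
      apply Subgroup.subset_closure
      exact Nat.Coprime.coprime_dvd_left (orderOf_dvd_of_pow_eq_one hβm) hm
    exact h1 hx
  have hVinv : ∀ γ : F.autGroup U, ∀ x ∈ V, (γ : MulAut U) x ∈ V := by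
    intro γ x hx
    have h1 : V ≤ V.comap (γ : MulAut U).toMonoidHom := by
      conv_lhs => rw [hVdef]
      rw [Subgroup.closure_le]
      rintro _ ⟨β, m, u, hm, hβm, rfl⟩
      show (γ : MulAut U) (u⁻¹ * (β : MulAut U) u) ∈ V
      have e : (γ : MulAut U) (u⁻¹ * (β : MulAut U) u) =
          ((γ : MulAut U) u)⁻¹ * ((γ * β * γ⁻¹ : F.autGroup U) : MulAut U) ((γ : MulAut U) u) := by
        simp [MulAut.mul_apply]
      rw [e, hVdef]
      apply Subgroup.subset_closure
      refine ⟨γ * β * γ⁻¹, m, (γ : MulAut U) u, hm, ?_, rfl⟩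
      rw [conj_pow, hβm, mul_one, mul_inv_cancel]
    exact h1 hx
  have hchar : ∀ γ : F.autGroup U, ∀ x ∈ V, (x ^ p = 1 ∨ (p = 2 ∧ x ^ 4 = 1)) → ∀ i : ℕ,
      Subgroup.inclusion hUS x ∈ Subgroup.upperCentralSeries S i →
      Subgroup.inclusion hUS ((F.autGroup U).subtype γ x) ∈ Subgroup.upperCentralSeries S i := by
    intro γ x hx hsm i hxi
    exact char_of_hyp p F h U hUS (γ : MulAut U) γ.2 x (hVhyp x hx) (hVhyp _ (hVinv γ x hx)) hsm i hxi
  have hRconj : ∀ ρ ∈ (R : Subgroup (F.autGroup U)), ∃ s : S, ∀ x : U,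
      Subgroup.inclusion hUS ((F.autGroup U).subtype ρ x) = s * Subgroup.inclusion hUS x * s⁻¹ := by
    intro ρ hρ
    rw [hR, Subgroup.mem_subgroupOf, autInducedBy_eq_map] at hρ
    obtain ⟨n, hn, hnρ⟩ := hρ
    have hnS : (n : Ω) ∈ S := hn
    refine ⟨⟨(n : Ω), hnS⟩, fun x => ?_⟩
    apply Subtype.ext
    show (((ρ : MulAut U) x : U) : Ω) = (n : Ω) * x * (n : Ω)⁻¹
    rw [← hnρ]
    rfl
  have hfixV := fix_of_chain (p := p) (T := S) hS (Subgroup.inclusion hUS)
    (Subgroup.inclusion_injective hUS) (F.autGroup U).subtype (R : Subgroup (F.autGroup U)) hRconj V hchar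
    (Nat.card V) V rfl le_rfl (fun γ x hx => hVinv γ x hx)
  -- the normal closure of `R` is a `p`-group
  have hA₁p : IsPGroup p (Subgroup.normalClosure ((R : Subgroup (F.autGroup U)) : Set (F.autGroup U))) := by
    rw [IsPGroup.iff_card]
    refine ⟨_, Nat.eq_prime_pow_of_unique_prime_dvd Nat.card_pos.ne' ?_⟩
    intro r hr hrd
    by_contra hrp
    haveI := Fact.mk hr
    obtain ⟨β, hβ⟩ := exists_prime_orderOf_dvd_card' r hrd
    have hcop : r.Coprime p := (Nat.coprime_primes hr hp).2 hrp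
    have h1 : (β : F.autGroup U) ^ r = 1 := by
      have h0 : β ^ r = 1 := by rw [← hβ]; exact pow_orderOf_eq_one β
      have h2 := congrArg Subtype.val h0
      simpa using h2
    have hbr : ((β : F.autGroup U) : MulAut U) ^ r = 1 := by
      have h2 := congrArg Subtype.val h1
      simpa using h2
    have hfix := hfixV (β : F.autGroup U) β.2 r hcop h1
    have hb1 : ((β : F.autGroup U) : MulAut U) = 1 := by
      apply MulEquiv.ext
      intro u
      have hn : u⁻¹ * ((β : F.autGroup U) : MulAut U) u ∈ V := by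
        rw [hVdef]
        exact Subgroup.subset_closure ⟨(β : F.autGroup U), r, u, hcop, h1, rfl⟩
      have hbn : ((β : F.autGroup U) : MulAut U) (u⁻¹ * ((β : F.autGroup U) : MulAut U) u) =
          u⁻¹ * ((β : F.autGroup U) : MulAut U) u := hfix _ hn
      obtain ⟨k, hk⟩ := hUp (u⁻¹ * ((β : F.autGroup U) : MulAut U) u)
      have h3 := eq_one_of_fixed_comm (p := p) ((β : F.autGroup U) : MulAut U) hbr hcop (y := u)
        (n := u⁻¹ * ((β : F.autGroup U) : MulAut U) u) (by group) hbn hk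
      have h2 : u * (u⁻¹ * ((β : F.autGroup U) : MulAut U) u) = u * 1 := by rw [h3]
      rw [mul_inv_cancel_left, mul_one] at h2
      rw [h2]
      rfl
    have hβ1 : β = 1 := Subtype.ext (Subtype.ext hb1)
    rw [hβ1, orderOf_one] at hβ
    exact hr.one_lt.ne hβ
  have hRcore : (R : Subgroup (F.autGroup U)) ≤ pCore p (F.autGroup U) :=
    Subgroup.le_normalClosure.trans (le_pCore' Subgroup.normalClosure_normal hA₁p)
  have hcore : pCore p (F.autGroup U) = (Inn U).subgroupOf (F.autGroup U) := by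
    rw [← hrad.2]
    exact (Subgroup.comap_map_eq_self_of_injective (Subgroup.subtype_injective _) _).symm
  rw [hcore] at hRcore
  have h1 : ((Inn U).subgroupOf (F.autGroup U)).index ∣ (R : Subgroup (F.autGroup U)).index :=
    Subgroup.index_dvd_of_le hRcore
  have h2 : p ∣ ((Inn U).subgroupOf (F.autGroup U)).index := by
    rw [Subgroup.index_eq_card]
    exact hE'.1
  exact R.not_dvd_index (h2.trans h1)

end Cfsg.Agent.S5297
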