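import Cfsg.Statements.S5298
import Mathlib
import Cfsg.Agent.Lib.Helper25.ConjSmallFix
import Cfsg.Agent.Lib.Helper29.FusionInner
-- import your own Cfsg.Agent.* helpers here

set_option autoImplicit false
universe u
open Cfsg

namespace Cfsg.Agent.S5298

open Cfsg.Agent.Lib.Helper29 Cfsg.Agent.Lib.Helper25

/-- the elements of `Aut_F(P)` of order prime to `p` are trivial -/
theorem key {Ω : Type u} [Group Ω] {S : Subgroup Ω} [Finite S] (p : ℕ) [Fact p.Prime] (hS : IsPGroup p S)
    (F : Cfsg.FusionSystem S)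
    (h : ∀ A B : Subgroup Ω, A ≤ (F.hyperfocalSubgroup p) → B ≤ (F.hyperfocalSubgroup p) → IsCyclic ↥A → (Nat.card ↥A = p ∨ Nat.card ↥A = 4) → IsCyclic ↥B → (Nat.card ↥B = p ∨ Nat.card ↥B = 4) →
      F.homSet A B ⊆ (Cfsg.innerFusionSystem S).Hom A)
    (P : Subgroup Ω) (hPS : P ≤ S) (β : F.autGroup P) (r : ℕ) (hcop : r.Coprime p) (hβr : β ^ r = 1) :
    β = 1 := by
  have hp : p.Prime := Fact.out
  haveI : Finite P := finite_of_le hPS
  obtain ⟨b, hbdef⟩ : ∃ b : MulAut P, b = (β : MulAut P) := ⟨_, rfl⟩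
  have hbr : b ^ r = 1 := by
    have h2 := congrArg Subtype.val hβr
    rw [hbdef]
    simpa using h2
  have hβres : β ∈ pResidual p (F.autGroup P) := by
    apply Subgroup.subset_closure
    exact Nat.Coprime.coprime_dvd_left (orderOf_dvd_of_pow_eq_one hβr) hcop
  have hψ : P.subtype.comp b.toMonoidHom ∈ F.Hom P := by
    rw [hbdef]
    exact (mem_autGroup_iff F hPS).1 β.2
  -- `[P, β] ≤ hyp(F)`
  have hgen : ∀ u : P, (((u⁻¹ * b u : P)) : Ω) ∈ F.hyperfocalSubgroup p := by
    intro u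
    apply Subgroup.subset_closure
    refine ⟨P, β, u, hPS, hβres, ?_⟩
    rw [hbdef]
    rfl
  obtain ⟨X, hXdef⟩ : ∃ X : Subgroup P, X = Subgroup.closure {d : P | ∃ u : P, d = u⁻¹ * b u} := ⟨_, rfl⟩
  have hXhyp : ∀ x ∈ X, (x : Ω) ∈ F.hyperfocalSubgroup p := by
    intro x hx
    have h1 : X ≤ (F.hyperfocalSubgroup p).comap P.subtype := by
      rw [hXdef, Subgroup.closure_le]
      rintro _ ⟨u, rfl⟩
      exact hgen u
    exact h1 hx
  have hXinv : ∀ x ∈ X, b x ∈ X := by
    intro x hx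
    have h1 : X ≤ X.comap b.toMonoidHom := by
      conv_lhs => rw [hXdef]
      rw [Subgroup.closure_le]
      rintro _ ⟨u, rfl⟩
      show b (u⁻¹ * b u) ∈ X
      rw [map_mul, map_inv, hXdef]
      exact Subgroup.subset_closure ⟨b u, rfl⟩
    exact h1 hx
  have hconj : ∀ x ∈ Subgroup.closure {d : P | ∃ u : P, d = u⁻¹ * b u},
      (x ^ p = 1 ∨ (p = 2 ∧ x ^ 4 = 1)) →
      ∃ s : S, (Subgroup.inclusion hPS) (b x) = s * (Subgroup.inclusion hPS) x * s⁻¹ := by
    intro x hx hsm
    rw [← hXdef] at hx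
    by_cases hx1 : x = 1
    · refine ⟨1, ?_⟩
      rw [hx1, map_one, map_one]
      simp
    -- the order of `x` is `p` or `4`
    have hox : orderOf x = p ∨ orderOf x = 4 := by
      rcases hsm with hsm | ⟨h2, hsm⟩
      · exact Or.inl (orderOf_eq_prime hsm hx1)
      · have h1 : orderOf x ∣ 2 ^ 2 := orderOf_dvd_of_pow_eq_one (by norm_num; exact hsm)
        obtain ⟨k, hk, hk2⟩ := (Nat.dvd_prime_pow Nat.prime_two).1 h1
        interval_cases k
        · exfalso
          rw [pow_zero, orderOf_eq_one_iff] at hk2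
          exact hx1 hk2
        · left
          rw [hk2, h2]
          norm_num
        · right
          rw [hk2]
          norm_num
    have hxA : (x : Ω) ∈ P := x.2
    have hAP : Subgroup.zpowers (x : Ω) ≤ P := Subgroup.zpowers_le.2 hxA
    have hA : Subgroup.zpowers (x : Ω) ≤ F.hyperfocalSubgroup p := Subgroup.zpowers_le.2 (hXhyp x hx)
    have hB : Subgroup.zpowers ((b x : P) : Ω) ≤ F.hyperfocalSubgroup p :=
      Subgroup.zpowers_le.2 (hXhyp _ (hXinv x hx))
    have hcA : Nat.card (Subgroup.zpowers (x : Ω)) = p ∨ Nat.card (Subgroup.zpowers (x : Ω)) = 4 := by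
      rw [Nat.card_zpowers, Subgroup.orderOf_coe]
      exact hox
    have hcB : Nat.card (Subgroup.zpowers ((b x : P) : Ω)) = p ∨
        Nat.card (Subgroup.zpowers ((b x : P) : Ω)) = 4 := by
      rw [Nat.card_zpowers, Subgroup.orderOf_coe, MulEquiv.orderOf_eq]
      exact hox
    have hφ := restrict_mem F hAP hψ
    have hmaps : ∀ a : Subgroup.zpowers (x : Ω),
        ((P.subtype.comp b.toMonoidHom).comp (Subgroup.inclusion hAP)) a ∈
          Subgroup.zpowers ((b x : P) : Ω) := by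
      intro a
      obtain ⟨k, hk⟩ := Subgroup.mem_zpowers_iff.1 a.2
      have h1 : Subgroup.inclusion hAP a = x ^ k := by
        apply Subtype.ext
        rw [Subgroup.coe_zpow, hk]
        rfl
      show ((b (Subgroup.inclusion hAP a) : P) : Ω) ∈ Subgroup.zpowers ((b x : P) : Ω)
      rw [h1, map_zpow, Subgroup.coe_zpow]
      exact Subgroup.zpow_mem_zpowers _ k
    have hin := h _ _ hA hB (Subgroup.isCyclic_zpowers _) hcA (Subgroup.isCyclic_zpowers _) hcB
      ⟨hφ, hmaps⟩
    obtain ⟨_, g, hg, hgφ⟩ := hin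
    refine ⟨⟨g, hg⟩, ?_⟩
    apply Subtype.ext
    have h1 := hgφ ⟨(x : Ω), Subgroup.mem_zpowers _⟩
    exact h1
  have hfix := fix_of_conj_small (p := p) (T := S) hS (Subgroup.inclusion hPS)
    (Subgroup.inclusion_injective hPS) b hbr hcop hconj (Nat.card (⊤ : Subgroup P)) ⊤ rfl
    (fun _ _ => Subgroup.mem_top _)
  have hb1 : b = 1 := by
    apply MulEquiv.ext
    intro u
    exact hfix u (Subgroup.mem_top u)
  apply Subtype.ext
  rw [← hbdef, hb1]
  rfl

/-- Let F be a saturated fusion system over a finite p-group S. If every map of F between cyclic subgroups of the hyperfocal subgroup of F of order p or 4 is conjugation by an element of S, then F is the inner fusion system of S. -/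
theorem result {Ω : Type u} [Group Ω] {S : Subgroup Ω} [Finite S] (p : ℕ) [Fact p.Prime] (hS : IsPGroup p S)
    (F : Cfsg.FusionSystem S) (hF : F.IsSaturated p)
    (h : ∀ A B : Subgroup Ω, A ≤ (F.hyperfocalSubgroup p) → B ≤ (F.hyperfocalSubgroup p) → IsCyclic ↥A → (Nat.card ↥A = p ∨ Nat.card ↥A = 4) → IsCyclic ↥B → (Nat.card ↥B = p ∨ Nat.card ↥B = 4) →
      F.homSet A B ⊆ (Cfsg.innerFusionSystem S).Hom A) :
    ∀ P : Subgroup Ω, F.Hom P = (Cfsg.innerFusionSystem S).Hom P := by
  have hp : p.Prime := Fact.out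
  have hpg : ∀ P : Subgroup Ω, P ≤ S → IsPGroup p (F.autGroup P) := by
    intro P hPS
    haveI : Finite P := finite_of_le hPS
    rw [IsPGroup.iff_card]
    refine ⟨_, Nat.eq_prime_pow_of_unique_prime_dvd Nat.card_pos.ne' ?_⟩
    intro r hr hrd
    by_contra hrp
    haveI := Fact.mk hr
    obtain ⟨β, hβ⟩ := exists_prime_orderOf_dvd_card' r hrd
    have hcop : r.Coprime p := (Nat.coprime_primes hr hp).2 hrp
    have h1 : β ^ r = 1 := by rw [← hβ]; exact pow_orderOf_eq_one β
    have hβ1 := key p hS F h P hPS β r hcop h1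
    rw [hβ1, orderOf_one] at hβ
    exact hr.one_lt.ne hβ
  intro P
  ext φ
  constructor
  · intro hφ
    have hPS := le_of_hom_mem F hφ
    obtain ⟨g, hg, hgφ⟩ := hom_eq_conj_of_isPGroup_aut p hS F hF hpg _ P hPS rfl φ hφ
    exact ⟨hPS, g, hg, hgφ⟩
  · rintro ⟨hPS, g, hg, hgφ⟩
    have : φ = conjHom P g := by
      ext x
      exact hgφ x
    rw [this]
    exact F.conj_mem hPS hg

end Cfsg.Agent.S5298
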