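import Cfsg.Statements.S5299
import Mathlib
-- import your own Cfsg.Agent.* helpers here

set_option autoImplicit false
open Cfsg

namespace Cfsg.Agent.S5299

universe u

/-- `H` is involved in `G` iff `H` is a homomorphic image of a subgroup of `G`. -/
theorem involves_iff {H : Type*} [Group H] {G : Type*} [Group G] :
    Cfsg.Involves H G ↔ ∃ (K : Subgroup G) (f : K →* H), Function.Surjective f := by
  constructor
  · rintro ⟨K, R, hn, ⟨e⟩⟩
    exact ⟨K, e.toMonoidHom.comp (QuotientGroup.mk' (R.subgroupOf K)),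
      e.surjective.comp (QuotientGroup.mk'_surjective _)⟩
  · rintro ⟨K, f, hf⟩
    have e1 : (f.ker.map K.subtype).subgroupOf K = f.ker :=
      Subgroup.comap_map_eq_self_of_injective K.subtype_injective f.ker
    refine ⟨K, f.ker.map K.subtype, ?_⟩
    rw [e1]
    exact ⟨inferInstance, ⟨QuotientGroup.quotientKerEquivOfSurjective f hf⟩⟩

/-- involvement passes along injective homomorphisms of the big group -/
theorem involves_of_injective {H : Type*} [Group H] {A B : Type*} [Group A] [Group B]
    (j : A →* B) (hj : Function.Injective j) (h : Cfsg.Involves H A) : Cfsg.Involves H B := by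
  rw [involves_iff] at h ⊢
  obtain ⟨K, f, hf⟩ := h
  refine ⟨K.map j, f.comp (K.equivMapOfInjective j hj).symm.toMonoidHom, ?_⟩
  exact hf.comp (K.equivMapOfInjective j hj).symm.surjective

/-- a subgroup of an involved group is involved -/
theorem involves_subgroup {H : Type*} [Group H] {G : Type*} [Group G] (Q : Subgroup H)
    (h : Cfsg.Involves H G) : Cfsg.Involves ↥Q G := by
  rw [involves_iff] at h
  obtain ⟨K, f, hf⟩ := h
  have h1 : Cfsg.Involves ↥Q ↥K := by
    rw [involves_iff]
    exact ⟨Q.comap f, f.subgroupComap Q, MonoidHom.subgroupComap_surjective_of_surjective f Q hf⟩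
  exact involves_of_injective K.subtype K.subtype_injective h1

/-- a `p`-group involved in a finite group is involved in its Sylow `p`-subgroup -/
theorem involves_sylow {L : Type*} [Group L] [Finite L] {p : ℕ} [Fact p.Prime] (T : Sylow p L)
    {Q : Type*} [Group Q] (hQ : IsPGroup p Q) (h : Cfsg.Involves Q L) :
    Cfsg.Involves Q ↥(T : Subgroup L) := by
  rw [involves_iff] at h
  obtain ⟨K, f, hf⟩ := h
  -- a Sylow subgroup of K maps onto Q
  obtain ⟨P₁⟩ : Nonempty (Sylow p ↥K) := inferInstance
  have hmap : (P₁ : Subgroup ↥K).map f = ⊤ := by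
    have h1 := (P₁.mapSurjective hf).is_maximal' (Q := ⊤) (hQ.to_subgroup ⊤) le_top
    rw [Sylow.coe_mapSurjective] at h1
    exact h1.symm
  have hsurj : Function.Surjective (f.comp (P₁ : Subgroup ↥K).subtype) := by
    intro q
    have : q ∈ (P₁ : Subgroup ↥K).map f := by rw [hmap]; trivial
    obtain ⟨x, hx, rfl⟩ := this
    exact ⟨⟨x, hx⟩, rfl⟩
  have h1 : Cfsg.Involves Q ↥(P₁ : Subgroup ↥K) := by
    rw [involves_iff]
    refine ⟨⊤, (f.comp (P₁ : Subgroup ↥K).subtype).comp (⊤ : Subgroup ↥(P₁ : Subgroup ↥K)).subtype, ?_⟩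
    intro q
    obtain ⟨x, hx⟩ := hsurj q
    exact ⟨⟨x, trivial⟩, hx⟩
  -- move P₁ inside T by conjugation
  set P₁' : Subgroup L := (P₁ : Subgroup ↥K).map K.subtype with hP₁'
  have hp' : IsPGroup p ↥P₁' := P₁.isPGroup'.map K.subtype
  obtain ⟨T', hT'⟩ := hp'.exists_le_sylow
  obtain ⟨g, hg⟩ := MulAction.exists_smul_eq L T' T
  -- the injective hom P₁ → T
  have hmem : ∀ x : ↥(P₁ : Subgroup ↥K), g * ((x : ↥K) : L) * g⁻¹ ∈ (T : Subgroup L) := by
    intro x
    have hx : ((x : ↥K) : L) ∈ (T' : Subgroup L) := hT' ⟨x, x.2, rfl⟩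
    rw [← hg, Sylow.coe_subgroup_smul]
    exact ⟨_, hx, rfl⟩
  let j : ↥(P₁ : Subgroup ↥K) →* ↥(T : Subgroup L) :=
    { toFun := fun x => ⟨g * ((x : ↥K) : L) * g⁻¹, hmem x⟩
      map_one' := by apply Subtype.ext; simp
      map_mul' := by
        intro a b
        apply Subtype.ext
        simp only [Subgroup.coe_mul]
        group }
  have hj : Function.Injective j := by
    intro a b hab
    have := congrArg Subtype.val hab
    simp only [j, MonoidHom.coe_mk, OneHom.coe_mk] at this
    have h2 : ((a : ↥K) : L) = ((b : ↥K) : L) := mul_left_cancel (mul_right_cancel this)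
    exact Subtype.ext (Subtype.ext h2)
  exact involves_of_injective j hj h1

/-- Let F be a saturated fusion system over a finite p-group S, H a finite group and Q a p-subgroup of H. If Q is not involved in S (no section of S is isomorphic to Q), then F is H-free: H is involved in no model of the normalizer system of a fully normalized centric subgroup. -/
theorem result {Ω : Type u} [Group Ω] {S : Subgroup Ω} [Finite S] (p : ℕ) [Fact p.Prime] (hS : IsPGroup p S)
    (F : Cfsg.FusionSystem S) (hF : F.IsSaturated p) (H : Type*) [Group H] [Finite H] (Q : Subgroup H) (hQ : IsPGroup p Q)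
    (hfree : ¬ Cfsg.Involves (↥Q) (↥S)) : F.IsSectionFree p H := by
  intro Q₀ _ _ N _ L _ ι hmodel hinv
  obtain ⟨hfin, hreal, ⟨T, hT⟩, -⟩ := hmodel
  apply hfree
  have h1 : Cfsg.Involves ↥Q L := involves_subgroup Q hinv
  have h2 : Cfsg.Involves ↥Q ↥(T : Subgroup L) := involves_sylow T hQ h1
  rw [hT] at h2
  have hι : Function.Injective ι := hreal.1
  have h3 : Cfsg.Involves ↥Q ↥(Cfsg.FusionSystem.normalizerIn S Q₀) :=
    involves_of_injective (MonoidHom.ofInjective hι).symm.toMonoidHom
      (MonoidHom.ofInjective hι).symm.injective h2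
  exact involves_of_injective (Subgroup.inclusion (inf_le_left : Cfsg.FusionSystem.normalizerIn S Q₀ ≤ S))
    (Subgroup.inclusion_injective _) h3

end Cfsg.Agent.S5299
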