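import Cfsg.Statements.S5300
import Mathlib
import Cfsg.Agent.Lib.Helper25.OmegaFix
import Cfsg.Agent.Lib.Helper29.FusionInnerSat
import Cfsg.Agent.Lib.Helper29.FusionEssential
import Cfsg.Agent.Lib.Helper29.FusionNormal
import Cfsg.Agent.S5077
-- import your own Cfsg.Agent.* helpers here

set_option autoImplicit false
universe u
open Cfsg

namespace Cfsg.Agent.S5300

open Cfsg.Agent.Lib.Helper29 Cfsg.Agent.Lib.Helper25

variable {Ω : Type u} [Group Ω] {S : Subgroup Ω}

/-- elements of order dividing `p` (or `4` when `p = 2`) -/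
def small (p : ℕ) {M : Type*} [Monoid M] (x : M) : Prop := x ^ p = 1 ∨ (p = 2 ∧ x ^ 4 = 1)

theorem small_map (p : ℕ) {M M' : Type*} [Monoid M] [Monoid M'] (f : M →* M') {x : M} (h : small p x) :
    small p (f x) := by
  rcases h with h | ⟨h2, h⟩
  · left
    rw [← map_pow, h, map_one]
  · right
    exact ⟨h2, by rw [← map_pow, h, map_one]⟩

theorem small_inv (p : ℕ) {M : Type*} [Group M] {x : M} (h : small p x) : small p x⁻¹ := by
  rcases h with h | ⟨h2, h⟩
  · left
    rw [inv_pow, h, inv_one]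
  · right
    exact ⟨h2, by rw [inv_pow, h, inv_one]⟩

/-- `[U, Aut_F(U)]` -/
def commX (F : FusionSystem S) (U : Subgroup Ω) : Subgroup U :=
  Subgroup.closure {w | ∃ (u : U) (α : MulAut U), α ∈ F.autGroup U ∧ w = u⁻¹ * α u}

theorem gen_mem_commX (F : FusionSystem S) (U : Subgroup Ω) (u : U) {α : MulAut U} (hα : α ∈ F.autGroup U) :
    u⁻¹ * α u ∈ commX F U := Subgroup.subset_closure ⟨u, α, hα, rfl⟩

theorem commX_inv (F : FusionSystem S) (U : Subgroup Ω) {α : MulAut U} (hα : α ∈ F.autGroup U) :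
    ∀ w ∈ commX F U, α w ∈ commX F U := by
  intro w hw
  have h1 : commX F U ≤ (commX F U).comap α.toMonoidHom := by
    conv_lhs => unfold commX
    rw [Subgroup.closure_le]
    rintro _ ⟨u, γ, hγ, rfl⟩
    have h2 := gen_mem_commX F U (α u) (α := α * γ * α⁻¹)
      ((F.autGroup U).mul_mem ((F.autGroup U).mul_mem hα hγ) ((F.autGroup U).inv_mem hα))
    show α (u⁻¹ * γ u) ∈ commX F U
    have e : α (u⁻¹ * γ u) = (α u)⁻¹ * (α * γ * α⁻¹) (α u) := by
      simp [MulAut.mul_apply]
    rw [e]
    exact h2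
  exact h1 hw

theorem commX_le_focal (F : FusionSystem S) {U : Subgroup Ω} (hU : U ≤ S) :
    ∀ w ∈ commX F U, (w : Ω) ∈ F.focalSubgroup := by
  intro w hw
  have h1 : commX F U ≤ F.focalSubgroup.comap U.subtype := by
    unfold commX
    rw [Subgroup.closure_le]
    rintro _ ⟨u, α, hα, rfl⟩
    show ((u⁻¹ * α u : U) : Ω) ∈ F.focalSubgroup
    unfold FusionSystem.focalSubgroup
    apply Subgroup.subset_closure
    exact ⟨U, U.subtype.comp α.toMonoidHom, u, (mem_autGroup_iff F hU).1 hα, rfl⟩
  exact h1 hw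

/-- automorphisms acting on the small elements of `[U, Aut_F(U)]` trivially or (for `p = 2`) by inversion -/
def goodAut (p : ℕ) (F : FusionSystem S) (U : Subgroup Ω) : Subgroup (F.autGroup U) where
  carrier := {γ | ∀ x ∈ commX F U, small p x →
    ((γ : MulAut U) x = x ∨ (p = 2 ∧ (γ : MulAut U) x = x⁻¹))}
  one_mem' := fun x _ _ => Or.inl rfl
  mul_mem' := by
    intro γ δ hγ hδ x hx hs
    show (γ : MulAut U) ((δ : MulAut U) x) = x ∨ (p = 2 ∧ (γ : MulAut U) ((δ : MulAut U) x) = x⁻¹)
    rcases hδ x hx hs with h1 | ⟨h2, h1⟩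
    · rw [h1]
      exact hγ x hx hs
    · rw [h1, map_inv]
      rcases hγ x hx hs with h3 | ⟨_, h3⟩
      · rw [h3]
        exact Or.inr ⟨h2, rfl⟩
      · rw [h3, inv_inv]
        exact Or.inl rfl
  inv_mem' := by
    intro γ hγ x hx hs
    show (γ : MulAut U)⁻¹ x = x ∨ (p = 2 ∧ (γ : MulAut U)⁻¹ x = x⁻¹)
    rcases hγ x hx hs with h1 | ⟨h2, h1⟩
    · left
      calc (γ : MulAut U)⁻¹ x = (γ : MulAut U)⁻¹ ((γ : MulAut U) x) := by rw [h1]
        _ = x := MulAut.inv_apply_self _ _ _
    · right
      refine ⟨h2, ?_⟩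
      have h3 : (γ : MulAut U) x⁻¹ = x := by rw [map_inv, h1, inv_inv]
      calc (γ : MulAut U)⁻¹ x = (γ : MulAut U)⁻¹ ((γ : MulAut U) x⁻¹) := by rw [h3]
        _ = x⁻¹ := MulAut.inv_apply_self _ _ _

instance goodAut_normal (p : ℕ) (F : FusionSystem S) (U : Subgroup Ω) : (goodAut p F U).Normal := ⟨by
  intro γ hγ α x hx hs
  show (α : MulAut U) ((γ : MulAut U) ((α : MulAut U)⁻¹ x)) = x ∨
    (p = 2 ∧ (α : MulAut U) ((γ : MulAut U) ((α : MulAut U)⁻¹ x)) = x⁻¹)
  have hx' : (α : MulAut U)⁻¹ x ∈ commX F U := commX_inv F U ((F.autGroup U).inv_mem α.2) x hx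
  have hs' : small p ((α : MulAut U)⁻¹ x) := small_map p ((α : MulAut U)⁻¹).toMonoidHom hs
  rcases hγ _ hx' hs' with h1 | ⟨h2, h1⟩
  · left
    rw [h1, MulAut.apply_inv_self]
  · right
    refine ⟨h2, ?_⟩
    rw [h1, map_inv, MulAut.apply_inv_self]⟩

/-- Let F be a saturated fusion system over a finite p-group S. If every cyclic subgroup of the focal subgroup of F of order p (of order 2 or 4 when p = 2) is normal in S, then S is normal in F. -/
theorem result {Ω : Type u} [Group Ω] {S : Subgroup Ω} [Finite S] (p : ℕ) [Fact p.Prime] (hS : IsPGroup p S)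
    (F : Cfsg.FusionSystem S) (hF : F.IsSaturated p)
    (hnorm : ∀ x ∈ F.focalSubgroup, (x ^ p = 1 ∨ (p = 2 ∧ x ^ 4 = 1)) → ∀ s ∈ S, s * x * s⁻¹ ∈ Subgroup.zpowers x) :
    F.IsNormal S := by
  have hp : p.Prime := Fact.out
  apply isNormal_of_aut p hS F hF S
  rintro U (rfl | hU)
  · refine ⟨le_rfl, fun α _ => ?_⟩
    rw [Subgroup.subgroupOf_self]
    exact Subgroup.map_top_of_surjective _ α.surjective
  exfalso
  have hrad := isRadical_of_isEssential hS F hU
  obtain ⟨hcen, hfn, hN, E', hE'⟩ := hU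
  have hUS : U ≤ S := hcen.1
  haveI : Finite U := finite_of_le hUS
  obtain ⟨_, R, hR⟩ := (((Cfsg.Agent.S5077.result p hS F).1 hF).1 U hfn).2
  have hUp : IsPGroup p U := hS.of_injective (Subgroup.inclusion hUS) (Subgroup.inclusion_injective hUS)
  -- `R ≤ goodAut`
  have hRgood : ((R : Subgroup (F.autGroup U)) : Set (F.autGroup U)) ⊆ goodAut p F U := by
    intro ρ hρ x hx hs
    rw [SetLike.mem_coe, hR, Subgroup.mem_subgroupOf, autInducedBy_eq_map] at hρ
    obtain ⟨n, hn, hnρ⟩ := hρ
    have hnS : (n : Ω) ∈ S := hn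
    have hρx : (((ρ : MulAut U) x : U) : Ω) = (n : Ω) * x * (n : Ω)⁻¹ := by
      rw [← hnρ]
      rfl
    have hxfoc := commX_le_focal F hUS x hx
    have hsx : small p (x : Ω) := small_map p U.subtype hs
    have hz := hnorm (x : Ω) hxfoc hsx (n : Ω) hnS
    rcases hs with hs1 | ⟨h2, hs4⟩
    · left
      apply Subtype.ext
      rw [hρx]
      obtain ⟨a, ha⟩ := hS ⟨(n : Ω), hnS⟩
      have ha' : (n : Ω) ^ (p ^ a) = 1 := congrArg Subtype.val ha
      have hs1' : (x : Ω) ^ p = 1 := by
        have := congrArg Subtype.val hs1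
        exact this
      exact conj_eq_of_pow_p ha' hs1' hz
    · have hs4' : (x : Ω) ^ 4 = 1 := by
        have := congrArg Subtype.val hs4
        exact this
      have ho : orderOf ((n : Ω) * x * (n : Ω)⁻¹) = orderOf (x : Ω) := by
        have := (MulAut.conj (n : Ω)).orderOf_eq (x : Ω)
        rwa [MulAut.conj_apply] at this
      rcases eq_or_eq_inv_of_pow_four hs4' hz ho with h | h
      · left
        apply Subtype.ext
        rw [hρx]
        exact h
      · right
        refine ⟨h2, Subtype.ext ?_⟩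
        rw [hρx]
        exact h
  -- the normal closure of `R` is a `p`-group
  have hA₁le : Subgroup.normalClosure ((R : Subgroup (F.autGroup U)) : Set (F.autGroup U)) ≤ goodAut p F U :=
    Subgroup.normalClosure_le_normal hRgood
  have hA₁p : IsPGroup p (Subgroup.normalClosure ((R : Subgroup (F.autGroup U)) : Set (F.autGroup U))) := by
    rw [IsPGroup.iff_card]
    refine ⟨_, Nat.eq_prime_pow_of_unique_prime_dvd Nat.card_pos.ne' ?_⟩
    intro r hr hrd
    by_contra hrp
    haveI := Fact.mk hr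
    obtain ⟨β, hβ⟩ := exists_prime_orderOf_dvd_card' r hrd
    have hβgood := hA₁le β.2
    have hbr : ((β : F.autGroup U) : MulAut U) ^ r = 1 := by
      have h1 : β ^ r = 1 := by rw [← hβ]; exact pow_orderOf_eq_one β
      have h2 := congrArg Subtype.val (congrArg Subtype.val h1)
      simpa using h2
    have hcop : r.Coprime p := (Nat.coprime_primes hr hp).2 hrp
    have hfixsmall : ∀ x ∈ commX F U, (x ^ p = 1 ∨ (p = 2 ∧ x ^ 4 = 1)) →
        ((β : F.autGroup U) : MulAut U) x = x := by
      intro x hx hs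
      rcases hβgood x hx hs with h | ⟨h2, h⟩
      · exact h
      · -- p = 2, r odd
        have hrodd : Odd r := by
          rcases hr.eq_two_or_odd' with h3 | h3
          · exact absurd (h3.trans h2.symm) hrp
          · exact h3
        have hj : ∀ j : ℕ, (((β : F.autGroup U) : MulAut U) ^ j) x = x ^ ((-1 : ℤ) ^ j) := by
          intro j
          induction j with
          | zero => simp
          | succ j ih =>
            rw [pow_succ', MulAut.mul_apply, ih, map_zpow, h, inv_zpow']
            congr 1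
            ring
        have h3 := hj r
        rw [hbr, MulAut.one_apply, hrodd.neg_one_pow, zpow_neg_one] at h3
        rw [h, ← h3]
    have hXfin : Finite (commX F U) := inferInstance
    have hfix := fix_of_fix_small (p := p) ((β : F.autGroup U) : MulAut U) hbr hcop (Nat.card (commX F U))
      (commX F U) rfl hXfin (hUp.to_subgroup _) (commX_inv F U (β : F.autGroup U).2) hfixsmall
    have hb1 : ((β : F.autGroup U) : MulAut U) = 1 := by
      apply MulEquiv.ext
      intro u
      have hn := gen_mem_commX F U u (β : F.autGroup U).2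
      have hbn := hfix _ hn
      obtain ⟨k, hk⟩ := hUp (u⁻¹ * ((β : F.autGroup U) : MulAut U) u)
      have h1 := eq_one_of_fixed_comm (p := p) ((β : F.autGroup U) : MulAut U) hbr hcop (y := u)
        (n := u⁻¹ * ((β : F.autGroup U) : MulAut U) u) (by group) hbn hk
      have h2 : u * (u⁻¹ * ((β : F.autGroup U) : MulAut U) u) = u * 1 := by rw [h1]
      rw [mul_inv_cancel_left, mul_one] at h2
      rw [h2]
      rfl
    have hβ1 : β = 1 := Subtype.ext (Subtype.ext hb1)
    rw [hβ1, orderOf_one] at hβ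
    exact hr.one_lt.ne hβ
  have hRcore : (R : Subgroup (F.autGroup U)) ≤ pCore p (F.autGroup U) :=
    Subgroup.le_normalClosure.trans (le_pCore' Subgroup.normalClosure_normal hA₁p)
  have hcore : pCore p (F.autGroup U) = (Inn U).subgroupOf (F.autGroup U) := by
    rw [← hrad.2]
    exact (Subgroup.comap_map_eq_self_of_injective (Subgroup.subtype_injective _) _).symm
  rw [hcore] at hRcore
  have h1 : ((Inn U).subgroupOf (F.autGroup U)).index ∣ (R : Subgroup (F.autGroup U)).index :=
    Subgroup.index_dvd_of_le hRcore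
  have h2 : p ∣ ((Inn U).subgroupOf (F.autGroup U)).index := by
    rw [Subgroup.index_eq_card]
    exact hE'.1
  exact R.not_dvd_index (h2.trans h1)

end Cfsg.Agent.S5300
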