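import Cfsg.Statements.S5301
import Cfsg.Agent.Lib.Helper29.FusionChain4

set_option autoImplicit false
universe u
open Cfsg

namespace Cfsg.Agent.S5301

/-- Let F be a saturated fusion system over a finite p-group S. If for every subgroup P of S that is fully normalized, centric and radical in F the automorphism group that F induces on P has a normal Sylow p-subgroup, then S is normal in F. -/
theorem result {Ω : Type u} [Group Ω] {S : Subgroup Ω} [Finite S] (p : ℕ) [Fact p.Prime] (hS : IsPGroup p S)
    (F : Cfsg.FusionSystem S) (hF : F.IsSaturated p)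
    (hcl : ∀ P : Subgroup Ω, F.IsFullyNormalized P → F.IsCentric P → F.IsRadical p P →
      ∃ R : Sylow p ↥(F.autGroup P), (R : Subgroup ↥(F.autGroup P)).Normal) :
    F.IsNormal S := by
  open Cfsg.Agent.Lib.Helper29 in
  have hess : ∀ P : Subgroup Ω, F.IsEssential p P → P = S := by
    intro P hP
    have hPS : P ≤ S := hP.1.1
    have : Finite P := finite_of_le hPS
    have hrad := isRadical_of_isEssential hS F hP
    obtain ⟨R, hRn⟩ := hcl P hP.2.1 hP.1 hrad
    have hcen : FusionSystem.centralizerIn S P ≤ P := hP.1.2 P (isConj_refl F hPS)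
    have hcore : (R : Subgroup (F.autGroup P)) ≤ pCore p (F.autGroup P) := le_pCore' hRn R.isPGroup'
    have hSA : autInducedBy S P ≤ F.autGroup P := autInducedBy_le_autGroup F hPS
    have hpA : IsPGroup p ((autInducedBy S P).subgroupOf (F.autGroup P)) :=
      (isPGroup_autInducedBy hS P).comap_subtype
    have hle : (autInducedBy S P).subgroupOf (F.autGroup P) ≤ (R : Subgroup (F.autGroup P)) := by
      obtain ⟨R', hR'⟩ := hpA.exists_le_sylow
      obtain ⟨g, hg⟩ := MulAction.exists_smul_eq (F.autGroup P) R R'
      have : R' = R := by rw [← hg]; exact Sylow.smul_eq_of_normal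
      rw [← this]
      exact hR'
    by_contra hne
    apply normalizerIn_ne_self hS hPS hne
    apply le_antisymm _ (le_normalizerIn hPS)
    intro g hg
    have h1 : P.normalizerMonoidHom ⟨g, hg.2⟩ ∈ autInducedBy S P :=
      Subgroup.subset_closure ⟨g, hg.1, fun x => rfl⟩
    have h2 : P.normalizerMonoidHom ⟨g, hg.2⟩ ∈ Inn P := by
      rw [← hrad.2]
      exact ⟨⟨_, hSA h1⟩, hcore (hle h1), rfl⟩
    exact mem_of_conj_mem_inn hPS hcen hg.1 hg.2 h2
  apply isNormal_of_aut p hS F hF S
  intro P hP
  have hPeq : P = S := by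
    rcases hP with rfl | hP
    · rfl
    · exact hess P hP
  subst hPeq
  refine ⟨le_rfl, fun α _ => ?_⟩
  rw [Subgroup.subgroupOf_self]
  ext x
  simp only [Subgroup.mem_map, Subgroup.mem_top, true_and, iff_true]
  exact ⟨α.symm x, α.apply_symm_apply x⟩

end Cfsg.Agent.S5301
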