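import Cfsg.Statements.S5306
import Cfsg.Agent.Lib.Helper17.ThompsonFusion
import Cfsg.Agent.Lib.Helper17.SylowConj
open Cfsg.Agent.Lib.Helper17

set_option autoImplicit false
open Cfsg

namespace Cfsg.Agent.S5306

/-- Let P be a Sylow p-subgroup of the finite group X and J = J(P) its Thompson subgroup (generated by the elementary abelian subgroups of P of largest order). If x and y lie in the centre of J and y = g x g⁻¹ for some g in X, then y = n x n⁻¹ for some n in the normalizer N_X(J). -/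
theorem result {X : Type*} [Group X] [Finite X] (p : ℕ) [Fact p.Prime] (P : Sylow p X) (J : Subgroup X) (hJ : J = Cfsg.thompsonSubgroupOf p (P : Subgroup X))
    (x y : X) (hx : x ∈ J ∧ ∀ j ∈ J, Commute j x) (hy : y ∈ J ∧ ∀ j ∈ J, Commute j y) (g : X) (hg : g * x * g⁻¹ = y) :
    ∃ n ∈ Subgroup.normalizer (J : Set X), n * x * n⁻¹ = y := by
  classical
  subst hJ
  set J := Cfsg.thompsonSubgroupOf p (P : Subgroup X) with hJdef
  set C : Subgroup X := Subgroup.centralizer {y} with hC
  have hJP : J ≤ (P : Subgroup X) := thompsonSubgroupOf_le_self _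
  have hJp : IsPGroup p J := P.2.to_le hJP
  have hJC : J ≤ C := by
    intro j hj
    rw [hC, Subgroup.mem_centralizer_singleton_iff]
    exact (hy.2 j hj).eq
  obtain ⟨Q, hQ⟩ := (hJp.comap_subtype (K := C)).exists_le_sylow
  set A : Subgroup X := (Q : Subgroup C).map C.subtype with hAdef
  have hA : IsPGroup p A := Q.2.map _
  have hidx : ¬ p ∣ A.relIndex C := by
    have h1 : A.subgroupOf C = (Q : Subgroup C) :=
      Subgroup.comap_map_eq_self_of_injective C.subtype_injective _
    show ¬ p ∣ (A.subgroupOf C).index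
    rw [h1]
    exact Q.not_dvd_index
  have hJA : J ≤ A := by
    intro j hj
    exact Subgroup.mem_map.mpr ⟨⟨j, hJC hj⟩, hQ (show (⟨j, hJC hj⟩ : C) ∈ J.subgroupOf C from hj), rfl⟩
  set B : Subgroup X := J.map (MulAut.conj g).toMonoidHom with hBdef
  have hB : IsPGroup p B := hJp.map _
  have hBC : B ≤ C := by
    rintro _ ⟨j, hj, rfl⟩
    rw [hC, Subgroup.mem_centralizer_singleton_iff]
    show g * j * g⁻¹ * y = y * (g * j * g⁻¹)
    have h1 : j * x = x * j := (hx.2 j hj).eq
    rw [← hg]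
    calc g * j * g⁻¹ * (g * x * g⁻¹) = g * (j * x) * g⁻¹ := by group
      _ = g * (x * j) * g⁻¹ := by rw [h1]
      _ = g * x * g⁻¹ * (g * j * g⁻¹) := by group
  obtain ⟨k, hkC, hk⟩ := exists_conj_le_of_not_dvd_relIndex C A B hA hidx hB hBC
  obtain ⟨P', hAP'⟩ := hA.exists_le_sylow
  have h1 : Cfsg.thompsonSubgroupOf p (P' : Subgroup X) = J :=
    thompsonSubgroupOf_sylow_eq_of_le P P' (hJA.trans hAP')
  have hJn : Cfsg.thompsonSubgroupOf p (((k * g) • P : Sylow p X) : Subgroup X) =
      J.map (MulAut.conj (k * g)).toMonoidHom := by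
    rw [coe_smul_sylow_eq_map, thompsonSubgroupOf_map]
  have h2 : Cfsg.thompsonSubgroupOf p (P' : Subgroup X) =
      J.map (MulAut.conj (k * g)).toMonoidHom := by
    rw [← hJn]
    apply thompsonSubgroupOf_sylow_eq_of_le
    rw [hJn]
    rintro _ ⟨j, hj, rfl⟩
    apply hAP'
    have := hk (g * j * g⁻¹) (Subgroup.mem_map.mpr ⟨j, hj, rfl⟩)
    show k * g * j * (k * g)⁻¹ ∈ A
    have e : k * g * j * (k * g)⁻¹ = k * (g * j * g⁻¹) * k⁻¹ := by group
    rw [e]
    exact this
  refine ⟨k * g, ?_, ?_⟩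
  · rw [Subgroup.mem_normalizer_iff_map_conj_eq]
    exact h2.symm.trans h1
  · have hky : k * y = y * k := by
      rw [hC, Subgroup.mem_centralizer_singleton_iff] at hkC
      exact hkC
    calc k * g * x * (k * g)⁻¹ = k * (g * x * g⁻¹) * k⁻¹ := by group
      _ = k * y * k⁻¹ := by rw [hg]
      _ = y := by rw [hky, mul_assoc, mul_inv_cancel, mul_one]

end Cfsg.Agent.S5306
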