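import Cfsg.Statements.S5328
import Mathlib

set_option autoImplicit false
universe u
open Cfsg

namespace Cfsg.Agent.S5328


section Burnside

variable {H : Type*} [Group H]

/-- Two maps from finite types with fibres of equal size are related by a bijection. -/
theorem fiber_equiv {A B C : Type*} [Finite A] [Finite B] (f : A → C) (g : B → C)
    (h : ∀ c, Nat.card {a // f a = c} = Nat.card {b // g b = c}) :
    ∃ σ : A ≃ B, ∀ a, g (σ a) = f a := by
  have h' : ∀ c, Nonempty ({a // f a = c} ≃ {b // g b = c}) := fun c => Finite.card_eq.mp (h c)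
  let ε : ∀ c, {a // f a = c} ≃ {b // g b = c} := fun c => (h' c).some
  refine ⟨(Equiv.sigmaFiberEquiv f).symm.trans
    ((Equiv.sigmaCongrRight ε).trans (Equiv.sigmaFiberEquiv g)), ?_⟩
  intro a
  exact (ε (f a) ⟨a, rfl⟩).2

/-- Conjugacy of subgroups, elementwise. -/
def SConj (K K' : Subgroup H) : Prop := ∃ h : H, ∀ k, k ∈ K' ↔ h⁻¹ * k * h ∈ K

theorem sconj_refl (K : Subgroup H) : SConj K K := ⟨1, fun k => by simp⟩

theorem sconj_symm {K K' : Subgroup H} (h : SConj K K') : SConj K' K := by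
  obtain ⟨a, ha⟩ := h
  refine ⟨a⁻¹, fun k => ?_⟩
  rw [ha]
  have : a⁻¹ * (a⁻¹⁻¹ * k * a⁻¹) * a = k := by group
  rw [this]

theorem sconj_trans {K K' K'' : Subgroup H} (h : SConj K K') (h' : SConj K' K'') :
    SConj K K'' := by
  obtain ⟨a, ha⟩ := h
  obtain ⟨b, hb⟩ := h'
  refine ⟨b * a, fun k => ?_⟩
  rw [hb, ha]
  have : a⁻¹ * (b⁻¹ * k * b) * a = (b * a)⁻¹ * k * (b * a) := by group
  rw [this]

/-- The conjugacy setoid on subgroups. -/
def sconjSetoid (H : Type*) [Group H] : Setoid (Subgroup H) :=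
  ⟨SConj, sconj_refl, sconj_symm, sconj_trans⟩

variable {X : Type*} [MulAction H X]

theorem mem_stab_smul (h : H) (x : X) (k : H) :
    k ∈ MulAction.stabilizer H (h • x) ↔ h⁻¹ * k * h ∈ MulAction.stabilizer H x := by
  rw [MulAction.mem_stabilizer_iff, MulAction.mem_stabilizer_iff, mul_smul, mul_smul,
    inv_smul_eq_iff]

/-- The class map. -/
noncomputable def qmk (H : Type*) [Group H] {X : Type*} [MulAction H X] (x : X) :
    MulAction.orbitRel.Quotient H X := Quotient.mk (MulAction.orbitRel H X) x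

theorem qmk_eq_iff (x y : X) : qmk H x = qmk H y ↔ ∃ h : H, h • y = x := by
  unfold qmk
  constructor
  · intro h
    have := Quotient.exact h
    exact (MulAction.orbitRel_apply.mp this)
  · rintro ⟨h, rfl⟩
    apply Quotient.sound
    exact MulAction.orbitRel_apply.mpr ⟨h, rfl⟩

theorem qmk_smul (h : H) (x : X) : qmk H (h • x) = qmk H x :=
  (qmk_eq_iff _ _).mpr ⟨h, rfl⟩

theorem qmk_out (ω : MulAction.orbitRel.Quotient H X) : qmk H (Quotient.out ω) = ω :=
  Quotient.out_eq ω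

/-- The stabilizer type of an orbit. -/
noncomputable def otype (H : Type*) [Group H] {X : Type*} [MulAction H X]
    (ω : MulAction.orbitRel.Quotient H X) : Quotient (sconjSetoid H) :=
  Quotient.mk (sconjSetoid H) (MulAction.stabilizer H (Quotient.out ω))

theorem otype_qmk (x : X) :
    otype H (qmk H x) = Quotient.mk (sconjSetoid H) (MulAction.stabilizer H x) := by
  unfold otype
  apply Quotient.sound
  have h1 : qmk H (Quotient.out (qmk H x)) = qmk H x := qmk_out _
  obtain ⟨h, hh⟩ := (qmk_eq_iff _ _).mp h1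
  show SConj _ _
  refine ⟨h⁻¹, fun k => ?_⟩
  rw [← hh, mem_stab_smul]
  have : h⁻¹ * (h⁻¹⁻¹ * k * h⁻¹) * h = k := by group
  rw [this]

theorem otype_eq_iff (ω : MulAction.orbitRel.Quotient H X) (K : Subgroup H) :
    otype H ω = Quotient.mk (sconjSetoid H) K ↔
      ∃ x : X, qmk H x = ω ∧ MulAction.stabilizer H x = K := by
  constructor
  · intro h
    have h1 : SConj (MulAction.stabilizer H (Quotient.out ω)) K := Quotient.exact h
    obtain ⟨a, ha⟩ := h1
    refine ⟨a • Quotient.out ω, ?_, ?_⟩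
    · rw [qmk_smul, qmk_out]
    · ext k
      rw [mem_stab_smul, ha]
  · rintro ⟨x, rfl, rfl⟩
    exact otype_qmk x

end Burnside



section Burnside2

variable {H : Type*} [Group H] [Finite H]

/-- Counting points with a given stabilizer through the orbits containing one. -/
theorem count_points {X : Type*} [Finite X] [MulAction H X] (K : Subgroup H) :
    Nat.card {x : X // MulAction.stabilizer H x = K} * Nat.card K =
      Nat.card {ω : MulAction.orbitRel.Quotient H X //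
          ∃ x : X, qmk H x = ω ∧ MulAction.stabilizer H x = K} *
        Nat.card {n : H // ∀ k, k ∈ K ↔ n⁻¹ * k * n ∈ K} := by
  classical
  rw [← Nat.card_prod, ← Nat.card_prod]
  apply Nat.card_congr
  -- base points
  have hb : ∀ ω : {ω : MulAction.orbitRel.Quotient H X //
      ∃ x : X, qmk H x = ω ∧ MulAction.stabilizer H x = K},
      ∃ x : X, qmk H x = ω.1 ∧ MulAction.stabilizer H x = K := fun ω => ω.2
  choose b hb1 hb2 using hb
  -- the orbit of a point with stabilizer K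
  let om : {x : X // MulAction.stabilizer H x = K} → {ω : MulAction.orbitRel.Quotient H X //
      ∃ x : X, qmk H x = ω ∧ MulAction.stabilizer H x = K} :=
    fun x => ⟨qmk H x.1, x.1, rfl, x.2⟩
  have hn : ∀ x : {x : X // MulAction.stabilizer H x = K}, ∃ n : H, n • b (om x) = x.1 := by
    intro x
    have h1 : qmk H x.1 = qmk H (b (om x)) := (hb1 (om x)).symm
    exact (qmk_eq_iff _ _).mp h1
  choose nn hnn using hn
  have hnN : ∀ (n : H) (ω), MulAction.stabilizer H (n • b ω) = K →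
      ∀ k, k ∈ K ↔ n⁻¹ * k * n ∈ K := by
    intro n ω h k
    have h2 := mem_stab_smul n (b ω) k
    rw [h, hb2 ω] at h2
    exact h2
  have hmulN : ∀ (n : H) (k : H), (∀ k', k' ∈ K ↔ n⁻¹ * k' * n ∈ K) → k ∈ K →
      ∀ k', k' ∈ K ↔ (n * k)⁻¹ * k' * (n * k) ∈ K := by
    intro n k hn hk k'
    have e : (n * k)⁻¹ * k' * (n * k) = k⁻¹ * (n⁻¹ * k' * n) * k := by group
    rw [e, hn k']
    constructor
    · intro h
      exact K.mul_mem (K.mul_mem (K.inv_mem hk) h) hk
    · intro h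
      have := K.mul_mem (K.mul_mem hk h) (K.inv_mem hk)
      have e2 : k * (k⁻¹ * (n⁻¹ * k' * n) * k) * k⁻¹ = n⁻¹ * k' * n := by group
      rwa [e2] at this
  have hstab : ∀ (n : {n : H // ∀ k, k ∈ K ↔ n⁻¹ * k * n ∈ K}) (ω),
      MulAction.stabilizer H (n.1 • b ω) = K := by
    intro n ω
    ext k
    rw [mem_stab_smul, hb2 ω]
    exact (n.2 k).symm
  refine Equiv.ofBijective (fun p => (om p.1, ⟨nn p.1 * p.2.1,
    hmulN _ _ (hnN (nn p.1) (om p.1) (by rw [hnn p.1]; exact p.1.2)) p.2.2⟩)) ⟨?_, ?_⟩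
  · rintro ⟨x, k⟩ ⟨x', k'⟩ h
    have h1 : om x = om x' := congrArg Prod.fst h
    have h2 : nn x * k.1 = nn x' * k'.1 := congrArg (fun p => p.2.1) h
    have hk : k.1 • b (om x) = b (om x) := by
      have : k.1 ∈ MulAction.stabilizer H (b (om x)) := by rw [hb2]; exact k.2
      exact this
    have hk' : k'.1 • b (om x') = b (om x') := by
      have : k'.1 ∈ MulAction.stabilizer H (b (om x')) := by rw [hb2]; exact k'.2
      exact this
    have hx : x = x' := by
      apply Subtype.ext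
      calc x.1 = nn x • b (om x) := (hnn x).symm
        _ = (nn x * k.1) • b (om x) := by rw [mul_smul, hk]
        _ = (nn x' * k'.1) • b (om x') := by rw [h2, h1]
        _ = nn x' • b (om x') := by rw [mul_smul, hk']
        _ = x'.1 := hnn x'
    subst hx
    have : k.1 = k'.1 := mul_left_cancel h2
    exact Prod.ext rfl (Subtype.ext this)
  · rintro ⟨ω, n⟩
    let x : {x : X // MulAction.stabilizer H x = K} := ⟨n.1 • b ω, hstab n ω⟩
    have hω : om x = ω := by
      apply Subtype.ext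
      show qmk H (n.1 • b ω) = ω.1
      rw [qmk_smul, hb1]
    have hk : (nn x)⁻¹ * n.1 ∈ K := by
      have h1 : nn x • b (om x) = n.1 • b ω := hnn x
      rw [hω] at h1
      have : (nn x)⁻¹ * n.1 ∈ MulAction.stabilizer H (b ω) := by
        rw [MulAction.mem_stabilizer_iff, mul_smul, ← h1, inv_smul_smul]
      rwa [hb2] at this
    refine ⟨(x, ⟨(nn x)⁻¹ * n.1, hk⟩), ?_⟩
    apply Prod.ext
    · exact hω
    · apply Subtype.ext
      show nn x * ((nn x)⁻¹ * n.1) = n.1
      rw [mul_inv_cancel_left]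

end Burnside2



section Burnside3

variable {H : Type*} [Group H] [Finite H]

/-- Equal exact-stabilizer counts give an equivariant bijection. -/
theorem exists_equivariant_of_exact {X Y : Type*} [Finite X] [Finite Y] [MulAction H X]
    [MulAction H Y]
    (h : ∀ K : Subgroup H, Nat.card {x : X // MulAction.stabilizer H x = K} =
      Nat.card {y : Y // MulAction.stabilizer H y = K}) :
    ∃ e : X ≃ Y, ∀ (k : H) (x : X), e (k • x) = k • e x := by
  classical
  -- orbit counts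
  have horb : ∀ K : Subgroup H,
      Nat.card {ω : MulAction.orbitRel.Quotient H X //
          ∃ x : X, qmk H x = ω ∧ MulAction.stabilizer H x = K} =
      Nat.card {ω : MulAction.orbitRel.Quotient H Y //
          ∃ y : Y, qmk H y = ω ∧ MulAction.stabilizer H y = K} := by
    intro K
    have h1 := count_points (X := X) K
    have h2 := count_points (X := Y) K
    rw [h K, h2] at h1
    have hpos : 0 < Nat.card {n : H // ∀ k, k ∈ K ↔ n⁻¹ * k * n ∈ K} := by
      have : Nonempty {n : H // ∀ k, k ∈ K ↔ n⁻¹ * k * n ∈ K} := ⟨⟨1, fun k => by simp⟩⟩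
      exact Nat.card_pos
    exact (Nat.eq_of_mul_eq_mul_right hpos h1).symm
  -- fibres of the type maps
  have hfib : ∀ c : Quotient (sconjSetoid H),
      Nat.card {ω : MulAction.orbitRel.Quotient H X // otype H ω = c} =
      Nat.card {ω : MulAction.orbitRel.Quotient H Y // otype H ω = c} := by
    intro c
    induction c using Quotient.inductionOn with
    | h K =>
      rw [Nat.card_congr (Equiv.subtypeEquivRight (fun ω => otype_eq_iff ω K)),
        Nat.card_congr (Equiv.subtypeEquivRight (fun ω => otype_eq_iff ω K))]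
      exact horb K
  obtain ⟨σ, hσ⟩ := fiber_equiv (otype H (X := X)) (otype H (X := Y)) hfib
  -- base points in Y with matching stabilizers
  have hy : ∀ ω : MulAction.orbitRel.Quotient H X, ∃ y : Y, qmk H y = σ ω ∧
      MulAction.stabilizer H y = MulAction.stabilizer H (Quotient.out ω) := by
    intro ω
    have h1 : otype H (σ ω) =
        Quotient.mk (sconjSetoid H) (MulAction.stabilizer H (Quotient.out ω)) := by
      rw [hσ ω]; rfl
    exact (otype_eq_iff _ _).mp h1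
  choose yy hyy1 hyy2 using hy
  have hx : ∀ x : X, ∃ n : H, n • Quotient.out (qmk H x) = x := by
    intro x
    have h1 : qmk H x = qmk H (Quotient.out (qmk H x)) := (qmk_out _).symm
    exact (qmk_eq_iff _ _).mp h1
  choose nn hnn using hx
  let e : X → Y := fun x => nn x • yy (qmk H x)
  have espec : ∀ (ω : MulAction.orbitRel.Quotient H X) (n : H),
      e (n • Quotient.out ω) = n • yy ω := by
    intro ω n
    have hq : qmk H (n • Quotient.out ω) = ω := by rw [qmk_smul, qmk_out]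
    show nn (n • Quotient.out ω) • yy (qmk H (n • Quotient.out ω)) = n • yy ω
    have h1 := hnn (n • Quotient.out ω)
    rw [hq] at h1 ⊢
    have h2 : n⁻¹ * nn (n • Quotient.out ω) ∈ MulAction.stabilizer H (Quotient.out ω) := by
      rw [MulAction.mem_stabilizer_iff, mul_smul, h1, inv_smul_smul]
    rw [← hyy2, MulAction.mem_stabilizer_iff, mul_smul, inv_smul_eq_iff] at h2
    exact h2
  have hequiv : ∀ (k : H) (x : X), e (k • x) = k • e x := by
    intro k x
    have h1 := hnn x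
    have h2 : e x = nn x • yy (qmk H x) := rfl
    have h3 : k • x = (k * nn x) • Quotient.out (qmk H x) := by rw [mul_smul, h1]
    rw [h3, espec, h2, mul_smul]
  have hinj : Function.Injective e := by
    intro x x' hxx
    have h1 := hnn x
    have h1' := hnn x'
    have hq : qmk H (e x) = σ (qmk H x) := by
      show qmk H (nn x • yy (qmk H x)) = _
      rw [qmk_smul, hyy1]
    have hq' : qmk H (e x') = σ (qmk H x') := by
      show qmk H (nn x' • yy (qmk H x')) = _
      rw [qmk_smul, hyy1]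
    have hω : qmk H x = qmk H x' := by
      apply σ.injective
      rw [← hq, ← hq', hxx]
    have h2 : nn x • yy (qmk H x) = nn x' • yy (qmk H x') := hxx
    rw [← hω] at h2 h1'
    have h3 : (nn x)⁻¹ * nn x' ∈ MulAction.stabilizer H (yy (qmk H x)) := by
      rw [MulAction.mem_stabilizer_iff, mul_smul, ← h2, inv_smul_smul]
    rw [hyy2, MulAction.mem_stabilizer_iff, mul_smul, inv_smul_eq_iff] at h3
    rw [← h1, ← h1', h3]
  have hsurj : Function.Surjective e := by
    intro y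
    obtain ⟨ω, hω⟩ := σ.surjective (qmk H y)
    have h1 : qmk H y = qmk H (yy ω) := by rw [hyy1, hω]
    obtain ⟨n, hn⟩ := (qmk_eq_iff _ _).mp h1
    exact ⟨n • Quotient.out ω, by rw [espec, hn]⟩
  exact ⟨Equiv.ofBijective e ⟨hinj, hsurj⟩, hequiv⟩

/-- Splitting the fixed-point count by exact stabilizers. -/
theorem fix_count_split {Z : Type*} [Finite Z] [MulAction H Z] [Fintype (Subgroup H)]
    (K : Subgroup H) [DecidablePred (fun K' : Subgroup H => K < K')] :
    Nat.card {x : Z // K ≤ MulAction.stabilizer H x} =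
        Nat.card {x : Z // MulAction.stabilizer H x = K} +
        ∑ K' ∈ (Finset.univ : Finset (Subgroup H)).filter (fun K' => K < K'),
          Nat.card {x : Z // MulAction.stabilizer H x = K'} := by
  classical
  have hfinZ : Fintype Z := Fintype.ofFinite _
  have e1 : ∀ p : Z → Prop, Nat.card {x : Z // p x} = (Finset.univ.filter p).card := by
    intro p
    rw [Nat.card_eq_fintype_card, Fintype.card_subtype]
  rw [e1, e1]
  have h1 := Finset.card_eq_sum_card_fiberwise (f := fun x : Z => MulAction.stabilizer H x)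
    (s := Finset.univ.filter (fun x : Z => K ≤ MulAction.stabilizer H x))
    (t := (Finset.univ : Finset (Subgroup H)).filter (fun K' => K ≤ K'))
    (by
      intro x hx
      have hx' := (Finset.mem_filter.mp hx).2
      exact Finset.mem_filter.mpr ⟨Finset.mem_univ _, hx'⟩)
  rw [h1]
  have h2 : (Finset.univ : Finset (Subgroup H)).filter (fun K' => K ≤ K') =
      insert K ((Finset.univ : Finset (Subgroup H)).filter (fun K' => K < K')) := by
    ext K'
    simp only [Finset.mem_filter, Finset.mem_univ, true_and, Finset.mem_insert]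
    constructor
    · intro h
      rcases eq_or_lt_of_le h with h | h
      · exact Or.inl h.symm
      · exact Or.inr h
    · rintro (h | h)
      · exact h ▸ le_refl _
      · exact h.le
  rw [h2, Finset.sum_insert (by simp)]
  congr 1
  · congr 1
    ext x
    simp only [Finset.mem_filter, Finset.mem_univ, true_and]
    constructor
    · exact fun h => h.2
    · exact fun h => ⟨h ▸ le_refl _, h⟩
  · apply Finset.sum_congr rfl
    intro K' hK'
    have hK'' : K < K' := (Finset.mem_filter.mp hK').2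
    rw [e1]
    congr 1
    ext x
    simp only [Finset.mem_filter, Finset.mem_univ, true_and]
    constructor
    · exact fun h => h.2
    · exact fun h => ⟨h ▸ hK''.le, h⟩

/-- Möbius step: equal fixed-point counts give equal exact-stabilizer counts. -/
theorem exact_count_eq {X Y : Type*} [Finite X] [Finite Y] [MulAction H X] [MulAction H Y]
    (h : ∀ K : Subgroup H, Nat.card {x : X // K ≤ MulAction.stabilizer H x} =
      Nat.card {y : Y // K ≤ MulAction.stabilizer H y}) :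
    ∀ K : Subgroup H, Nat.card {x : X // MulAction.stabilizer H x = K} =
      Nat.card {y : Y // MulAction.stabilizer H y = K} := by
  classical
  let hfinS : Fintype (Subgroup H) := Fintype.ofFinite _
  have key : ∀ K : Subgroup H, _ := fun K => fix_count_split (Z := X) K
  have key' : ∀ K : Subgroup H, _ := fun K => fix_count_split (Z := Y) K
  intro K
  induction K using WellFoundedGT.induction with
  | ind K ih =>
    have hX := key K
    have hY := key' K
    rw [h K, hY] at hX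
    have hs : ∑ K' ∈ (Finset.univ : Finset (Subgroup H)).filter (fun K' => K < K'),
          Nat.card {x : X // MulAction.stabilizer H x = K'} =
        ∑ K' ∈ (Finset.univ : Finset (Subgroup H)).filter (fun K' => K < K'),
          Nat.card {x : Y // MulAction.stabilizer H x = K'} := by
      apply Finset.sum_congr rfl
      intro K' hK'
      exact ih K' (Finset.mem_filter.mp hK').2
    rw [hs] at hX
    exact (Nat.add_right_cancel hX).symm

/-- Two descriptions of the fixed points of a subgroup. -/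
def fixEquiv {Z : Type*} [MulAction H Z] (K : Subgroup H) :
    {x : Z // K ≤ MulAction.stabilizer H x} ≃ {x : Z // ∀ k ∈ K, k • x = x} := by
  apply Equiv.subtypeEquivRight
  intro x
  constructor
  · intro hx k hk
    exact MulAction.mem_stabilizer_iff.mp (hx hk)
  · intro hx k hk
    exact MulAction.mem_stabilizer_iff.mpr (hx k hk)

/-- Burnside's marks theorem: finite `H`-sets with equal fixed-point counts for all subgroups are
isomorphic. -/
theorem burnside_marks {X Y : Type*} [Finite X] [Finite Y] [MulAction H X] [MulAction H Y]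
    (h : ∀ K : Subgroup H, Nat.card {x : X // ∀ k ∈ K, k • x = x} =
      Nat.card {y : Y // ∀ k ∈ K, k • y = y}) :
    ∃ e : X ≃ Y, ∀ (k : H) (x : X), e (k • x) = k • e x := by
  apply exists_equivariant_of_exact
  apply exact_count_eq
  intro K
  rw [Nat.card_congr (fixEquiv (Z := X) K), Nat.card_congr (fixEquiv (Z := Y) K)]
  exact h K

end Burnside3



section GraphSys

variable {S : Type*} [Group S]

/-- The inverse relation. -/
def swapS (D : Subgroup (S × S)) : Subgroup (S × S) where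
  carrier := {t | (t.2, t.1) ∈ D}
  mul_mem' := by
    intro a b ha hb
    exact D.mul_mem ha hb
  one_mem' := D.one_mem
  inv_mem' := by
    intro a ha
    exact D.inv_mem ha

theorem mem_swapS {D : Subgroup (S × S)} {t : S × S} : t ∈ swapS D ↔ (t.2, t.1) ∈ D := Iff.rfl

/-- Relational composition: first `A`, then `B`. -/
def compS (A B : Subgroup (S × S)) : Subgroup (S × S) where
  carrier := {t | ∃ y, (t.1, y) ∈ A ∧ (y, t.2) ∈ B}
  mul_mem' := by
    rintro a b ⟨y, h1, h2⟩ ⟨y', h1', h2'⟩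
    exact ⟨y * y', A.mul_mem h1 h1', B.mul_mem h2 h2'⟩
  one_mem' := ⟨1, A.one_mem, B.one_mem⟩
  inv_mem' := by
    rintro a ⟨y, h1, h2⟩
    exact ⟨y⁻¹, A.inv_mem h1, B.inv_mem h2⟩

theorem mem_compS {A B : Subgroup (S × S)} {t : S × S} :
    t ∈ compS A B ↔ ∃ y, (t.1, y) ∈ A ∧ (y, t.2) ∈ B := Iff.rfl

/-- The graph of conjugation by `g`. -/
def diagConj (g : S) : Subgroup (S × S) where
  carrier := {t | t.2 = g * t.1 * g⁻¹}
  mul_mem' := by
    intro a b ha hb
    show a.2 * b.2 = g * (a.1 * b.1) * g⁻¹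
    have ha' : a.2 = g * a.1 * g⁻¹ := ha
    have hb' : b.2 = g * b.1 * g⁻¹ := hb
    rw [ha', hb']
    group
  one_mem' := by
    show (1 : S) = g * 1 * g⁻¹
    group
  inv_mem' := by
    intro a ha
    show a.2⁻¹ = g * a.1⁻¹ * g⁻¹
    have ha' : a.2 = g * a.1 * g⁻¹ := ha
    rw [ha']
    group

theorem mem_diagConj {g : S} {t : S × S} : t ∈ diagConj g ↔ t.2 = g * t.1 * g⁻¹ := Iff.rfl

/-- The axioms of a system of graphs of partial isomorphisms. -/
structure IsGraphSys (𝒟 : Finset (Subgroup (S × S))) : Prop where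
  func : ∀ D ∈ 𝒟, ∀ y : S, ((1 : S), y) ∈ D → y = 1
  inv : ∀ D ∈ 𝒟, swapS D ∈ 𝒟
  comp : ∀ A ∈ 𝒟, ∀ B ∈ 𝒟, compS A B ∈ 𝒟
  sub : ∀ D ∈ 𝒟, ∀ L : Subgroup (S × S), L ≤ D → L ∈ 𝒟
  conj : ∀ g : S, diagConj g ∈ 𝒟

theorem IsGraphSys.map_conj {𝒟 : Finset (Subgroup (S × S))} (h : IsGraphSys 𝒟)
    {M : Subgroup (S × S)} (hM : M ∈ 𝒟) (t : S × S) :
    M.map (MulAut.conj t).toMonoidHom ∈ 𝒟 := by
  have h1 : compS (compS (swapS (diagConj t.1)) M) (diagConj t.2) ∈ 𝒟 :=
    h.comp _ (h.comp _ (h.inv _ (h.conj t.1)) _ hM) _ (h.conj t.2)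
  apply h.sub _ h1
  rintro x ⟨m, hm, rfl⟩
  have e : (MulAut.conj t).toMonoidHom m = t * m * t⁻¹ := rfl
  rw [e, mem_compS]
  refine ⟨m.2, ?_, ?_⟩
  · rw [mem_compS]
    refine ⟨m.1, ?_, hm⟩
    rw [mem_swapS, mem_diagConj]
    rfl
  · rw [mem_diagConj]
    rfl

theorem IsGraphSys.of_map_conj {𝒟 : Finset (Subgroup (S × S))} (h : IsGraphSys 𝒟)
    {M : Subgroup (S × S)} (t : S × S) (hM : M.map (MulAut.conj t).toMonoidHom ∈ 𝒟) :
    M ∈ 𝒟 := by
  have h1 := h.map_conj hM t⁻¹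
  apply h.sub _ h1
  intro m hm
  refine ⟨(MulAut.conj t).toMonoidHom m, ⟨m, hm, rfl⟩, ?_⟩
  show t⁻¹ * (t * m * t⁻¹) * t⁻¹⁻¹ = m
  group

end GraphSys

section Weights

variable {S : Type*} [Group S]

open Classical in
/-- The multiplicities: defined by downward recursion on the order. -/
noncomputable def W [hfin : Finite S] (𝒟 : Finset (Subgroup (S × S))) (D : Subgroup (S × S)) : ℕ :=
  1 + ∑ D' ∈ (𝒟.filter (fun D' : Subgroup (S × S) => Nat.card D < Nat.card D' ∧ ¬ D ≤ D')).attach, W 𝒟 D'.1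
termination_by Nat.card (S × S) - Nat.card D
decreasing_by
  have h := (Finset.mem_filter.mp D'.2).2.1
  have h2 : Nat.card D'.1 ≤ Nat.card (S × S) := Subgroup.card_le_card_group _
  omega

open Classical in
theorem W_eq [Finite S] (𝒟 : Finset (Subgroup (S × S))) (D : Subgroup (S × S)) :
    W 𝒟 D = 1 + ∑ D' ∈ 𝒟.filter (fun D' : Subgroup (S × S) => Nat.card D < Nat.card D' ∧ ¬ D ≤ D'), W 𝒟 D' := by
  rw [W]
  congr 1
  exact Finset.sum_attach _ (fun D' => W 𝒟 D')

theorem W_pos [Finite S] (𝒟 : Finset (Subgroup (S × S))) (D : Subgroup (S × S)) : 0 < W 𝒟 D := by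
  rw [W_eq]
  omega

open Classical in
/-- The common value of the sums of multiplicities above a member of given order. -/
noncomputable def ee [Finite S] (𝒟 : Finset (Subgroup (S × S))) (n : ℕ) : ℕ :=
  1 + ∑ D' ∈ 𝒟.filter (fun D' : Subgroup (S × S) => n < Nat.card D'), W 𝒟 D'

theorem lt_iff_card [Finite S] {L D : Subgroup (S × S)} : L < D ↔ Nat.card L < Nat.card D ∧ L ≤ D := by
  constructor
  · intro h
    refine ⟨?_, h.le⟩
    by_contra hc
    push Not at hc
    exact h.ne (Subgroup.eq_of_le_of_card_ge h.le hc)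
  · rintro ⟨h1, h2⟩
    apply lt_of_le_of_ne h2
    rintro rfl
    exact lt_irrefl _ h1

open Classical in
theorem sum_above [Finite S] (𝒟 : Finset (Subgroup (S × S))) {L : Subgroup (S × S)} (hL : L ∈ 𝒟) :
    ∑ D ∈ 𝒟.filter (fun D => L ≤ D), W 𝒟 D = ee 𝒟 (Nat.card L) := by
  have h2 : 𝒟.filter (fun D => L ≤ D) = insert L (𝒟.filter (fun D => L < D)) := by
    ext K'
    simp only [Finset.mem_filter, Finset.mem_insert]
    constructor
    · rintro ⟨h1, h⟩
      rcases eq_or_lt_of_le h with h | h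
      · exact Or.inl h.symm
      · exact Or.inr ⟨h1, h⟩
    · rintro (h | h)
      · exact ⟨h ▸ hL, h ▸ le_refl _⟩
      · exact ⟨h.1, h.2.le⟩
  rw [h2, Finset.sum_insert (by simp), W_eq 𝒟 L, ee]
  have h3 := Finset.sum_filter_add_sum_filter_not (𝒟.filter (fun D' : Subgroup (S × S) => Nat.card L < Nat.card D'))
    (fun D' : Subgroup (S × S) => L ≤ D') (fun D' => W 𝒟 D')
  rw [Finset.filter_filter, Finset.filter_filter] at h3
  have h4 : 𝒟.filter (fun D => L < D) =
      𝒟.filter (fun D' : Subgroup (S × S) => Nat.card L < Nat.card D' ∧ L ≤ D') := by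
    apply Finset.filter_congr
    intro D' _
    exact lt_iff_card
  rw [h4, ← h3]
  ring

end Weights



section TheSet

variable {S : Type*} [Group S]

/-- Fixed cosets versus conjugating elements. -/
theorem coset_fix_count [Finite S] (D M : Subgroup (S × S)) :
    Nat.card D * Nat.card {q : (S × S) ⧸ D // ∀ m ∈ M, m • q = q} =
      Nat.card {t : S × S // ∀ m ∈ M, t⁻¹ * m * t ∈ D} := by
  have h := QuotientGroup.card_preimage_mk D {q : (S × S) ⧸ D | ∀ m ∈ M, m • q = q}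
  rw [show Nat.card D * Nat.card {q : (S × S) ⧸ D // ∀ m ∈ M, m • q = q} =
    Nat.card ↑(QuotientGroup.mk ⁻¹' {q : (S × S) ⧸ D | ∀ m ∈ M, m • q = q}) from h.symm]
  apply Nat.card_congr
  apply Equiv.subtypeEquivRight
  intro t
  show (∀ m ∈ M, m • (QuotientGroup.mk t : (S × S) ⧸ D) = QuotientGroup.mk t) ↔
    (∀ m ∈ M, t⁻¹ * m * t ∈ D)
  constructor
  · intro h1 m hm
    have h2 := h1 m⁻¹ (M.inv_mem hm)
    rw [MulAction.Quotient.smul_mk, QuotientGroup.eq] at h2
    have e : (m⁻¹ • t)⁻¹ * t = t⁻¹ * m * t := by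
      show (m⁻¹ * t)⁻¹ * t = _
      group
    rw [e] at h2
    exact h2
  · intro h1 m hm
    rw [MulAction.Quotient.smul_mk, QuotientGroup.eq]
    have h2 := h1 m⁻¹ (M.inv_mem hm)
    have e : (m • t)⁻¹ * t = t⁻¹ * m⁻¹ * t := by
      show (m * t)⁻¹ * t = _
      group
    rw [e]
    exact h2

variable [Finite S]

/-- The index set: a member of the system together with a copy number. -/
abbrev Idx (𝒟 : Finset (Subgroup (S × S))) : Type _ :=
  Σ D : {D // D ∈ 𝒟}, Fin (Nat.card D.1 * W 𝒟 D.1)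

/-- The biset. -/
abbrev XX (𝒟 : Finset (Subgroup (S × S))) : Type _ :=
  Σ i : Idx 𝒟, (S × S) ⧸ i.1.1

/-- Fixed points of the biset, componentwise. -/
def fixSigmaEquiv (𝒟 : Finset (Subgroup (S × S))) (M : Subgroup (S × S)) :
    {z : XX 𝒟 // ∀ m ∈ M, m • z = z} ≃
      Σ i : Idx 𝒟, {q : (S × S) ⧸ i.1.1 // ∀ m ∈ M, m • q = q} where
  toFun z := ⟨z.1.1, ⟨z.1.2, fun m hm => by
    have h := z.2 m hm
    obtain ⟨⟨i, q⟩, hz⟩ := z
    rw [Sigma.smul_mk] at h
    exact eq_of_heq (Sigma.mk.inj_iff.mp h).2⟩⟩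
  invFun w := ⟨⟨w.1, w.2.1⟩, fun m hm => by
    rw [Sigma.smul_mk, w.2.2 m hm]⟩
  left_inv z := by
    obtain ⟨⟨i, q⟩, hz⟩ := z
    rfl
  right_inv w := by
    obtain ⟨i, ⟨q, hq⟩⟩ := w
    rfl

theorem fix_card (𝒟 : Finset (Subgroup (S × S))) (M : Subgroup (S × S)) :
    Nat.card {z : XX 𝒟 // ∀ m ∈ M, m • z = z} =
      ∑ D ∈ 𝒟, W 𝒟 D * Nat.card {t : S × S // ∀ m ∈ M, t⁻¹ * m * t ∈ D} := by
  classical
  rw [Nat.card_congr (fixSigmaEquiv 𝒟 M), Nat.card_sigma, Fintype.sum_sigma]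
  rw [← Finset.sum_coe_sort 𝒟]
  apply Finset.sum_congr rfl
  intro D _
  show ∑ _y : Fin (Nat.card D.1 * W 𝒟 D.1),
    Nat.card {q : (S × S) ⧸ D.1 // ∀ m ∈ M, m • q = q} = _
  rw [Finset.sum_const, Finset.card_univ, Fintype.card_fin, smul_eq_mul, ← coset_fix_count D.1 M]
  ring

end TheSet



section FixFormula

variable {S : Type*} [Group S] [Finite S]

theorem conj_le_iff (M D : Subgroup (S × S)) (t : S × S) :
    (∀ m ∈ M, t⁻¹ * m * t ∈ D) ↔ M.map (MulAut.conj t⁻¹).toMonoidHom ≤ D := by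
  constructor
  · rintro h x ⟨m, hm, rfl⟩
    have e : (MulAut.conj t⁻¹).toMonoidHom m = t⁻¹ * m * t := by
      show t⁻¹ * m * t⁻¹⁻¹ = _
      rw [inv_inv]
    rw [e]
    exact h m hm
  · intro h m hm
    have e : (MulAut.conj t⁻¹).toMonoidHom m = t⁻¹ * m * t := by
      show t⁻¹ * m * t⁻¹⁻¹ = _
      rw [inv_inv]
    rw [← e]
    exact h ⟨m, hm, rfl⟩

theorem fix_card_mem {𝒟 : Finset (Subgroup (S × S))} (h : IsGraphSys 𝒟) {M : Subgroup (S × S)}
    (hM : M ∈ 𝒟) :
    Nat.card {z : XX 𝒟 // ∀ m ∈ M, m • z = z} = Nat.card (S × S) * ee 𝒟 (Nat.card M) := by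
  classical
  have hfT : Fintype (S × S) := Fintype.ofFinite _
  rw [fix_card]
  have h1 : ∀ D : Subgroup (S × S), Nat.card {t : S × S // ∀ m ∈ M, t⁻¹ * m * t ∈ D} =
      ∑ t : S × S, if (M.map (MulAut.conj t⁻¹).toMonoidHom ≤ D) then 1 else 0 := by
    intro D
    rw [Nat.card_congr (Equiv.subtypeEquivRight (fun t => conj_le_iff M D t)),
      Nat.card_eq_fintype_card, Fintype.card_subtype, Finset.card_filter]
  have h2 : ∑ D ∈ 𝒟, W 𝒟 D * Nat.card {t : S × S // ∀ m ∈ M, t⁻¹ * m * t ∈ D} =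
      ∑ t : S × S, ∑ D ∈ 𝒟.filter (fun D => M.map (MulAut.conj t⁻¹).toMonoidHom ≤ D), W 𝒟 D := by
    rw [Finset.sum_congr rfl (fun D _ => by rw [h1 D, Finset.mul_sum])]
    rw [Finset.sum_comm]
    apply Finset.sum_congr rfl
    intro t _
    rw [Finset.sum_filter]
    apply Finset.sum_congr rfl
    intro D _
    split_ifs <;> simp
  rw [h2]
  have h3 : ∀ t : S × S,
      ∑ D ∈ 𝒟.filter (fun D => M.map (MulAut.conj t⁻¹).toMonoidHom ≤ D), W 𝒟 D =
        ee 𝒟 (Nat.card M) := by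
    intro t
    rw [sum_above 𝒟 (h.map_conj hM t⁻¹),
      Subgroup.card_map_of_injective (MulAut.conj t⁻¹).injective]
  rw [Finset.sum_congr rfl (fun t _ => h3 t), Finset.sum_const, Finset.card_univ, smul_eq_mul,
    ← Nat.card_eq_fintype_card]

theorem fix_card_not_mem {𝒟 : Finset (Subgroup (S × S))} (h : IsGraphSys 𝒟)
    {M : Subgroup (S × S)} (hM : M ∉ 𝒟) :
    Nat.card {z : XX 𝒟 // ∀ m ∈ M, m • z = z} = 0 := by
  classical
  rw [fix_card]
  apply Finset.sum_eq_zero
  intro D hD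
  have : IsEmpty {t : S × S // ∀ m ∈ M, t⁻¹ * m * t ∈ D} := by
    constructor
    rintro ⟨t, ht⟩
    apply hM
    have h1 := (conj_le_iff M D t).mp ht
    exact h.of_map_conj t⁻¹ (h.sub D hD _ h1)
  rw [Nat.card_of_isEmpty, mul_zero]

end FixFormula



section TheGroup

variable {S : Type*} [Group S] [Finite S]

/-- The group: permutations of the biset commuting with the right action. -/
def GG (𝒟 : Finset (Subgroup (S × S))) : Subgroup (Equiv.Perm (XX 𝒟)) :=
  Subgroup.centralizer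
    (Set.range (fun s : S => MulAction.toPermHom (S × S) (XX 𝒟) ((1 : S), s)))

theorem mem_GG {𝒟 : Finset (Subgroup (S × S))} (g : Equiv.Perm (XX 𝒟)) :
    g ∈ GG 𝒟 ↔ ∀ (s : S) (z : XX 𝒟), g (((1 : S), s) • z) = ((1 : S), s) • g z := by
  unfold GG
  rw [Subgroup.mem_centralizer_iff]
  constructor
  · intro h s z
    have h1 := h _ ⟨s, rfl⟩
    have h2 := congrArg (fun f : Equiv.Perm (XX 𝒟) => f z) h1
    exact h2.symm
  · rintro h _ ⟨s, rfl⟩
    apply Equiv.ext
    intro z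
    exact (h s z).symm

/-- The embedding of `S` by the left action. -/
def iota (𝒟 : Finset (Subgroup (S × S))) : S →* GG 𝒟 :=
  ((MulAction.toPermHom (S × S) (XX 𝒟)).comp (MonoidHom.inl S S)).codRestrict (GG 𝒟) (by
    intro s
    rw [mem_GG]
    intro s' z
    show ((s, 1) : S × S) • (((1 : S), s') • z) = ((1 : S), s') • (((s, 1) : S × S) • z)
    rw [smul_smul, smul_smul]
    congr 1
    ext <;> simp)

theorem iota_apply (𝒟 : Finset (Subgroup (S × S))) (s : S) (z : XX 𝒟) :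
    (iota 𝒟 s : Equiv.Perm (XX 𝒟)) z = ((s, 1) : S × S) • z := rfl

theorem smul_eq_iff {𝒟 : Finset (Subgroup (S × S))} (i : Idx 𝒟) (t m : S × S) :
    m • (⟨i, QuotientGroup.mk t⟩ : XX 𝒟) = ⟨i, QuotientGroup.mk t⟩ ↔ t⁻¹ * m * t ∈ i.1.1 := by
  rw [Sigma.smul_mk, Sigma.mk.inj_iff]
  simp only [heq_eq_eq, true_and]
  rw [MulAction.Quotient.smul_mk, QuotientGroup.eq]
  have e : (m • t)⁻¹ * t = (t⁻¹ * m * t)⁻¹ := by
    show (m * t)⁻¹ * t = _
    group
  rw [e, inv_mem_iff]

theorem realize {𝒟 : Finset (Subgroup (S × S))} (h : IsGraphSys 𝒟) :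
    Function.Injective (iota 𝒟) ∧ ∀ L : Subgroup (S × S),
      L ∈ 𝒟 ↔ ∃ g : GG 𝒟, ∀ t ∈ L, iota 𝒟 t.2 = g * iota 𝒟 t.1 * g⁻¹ := by
  classical
  -- base point
  have hpos : 0 < Nat.card (diagConj (1 : S)) * W 𝒟 (diagConj (1 : S)) :=
    Nat.mul_pos Nat.card_pos (W_pos _ _)
  let i₀ : Idx 𝒟 := ⟨⟨diagConj 1, h.conj 1⟩, ⟨0, hpos⟩⟩
  let z₀ : XX 𝒟 := ⟨i₀, QuotientGroup.mk 1⟩
  have hz₀ : ∀ m : S × S, m • z₀ = z₀ ↔ m.2 = m.1 := by
    intro m
    have h1 := smul_eq_iff i₀ 1 m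
    rw [h1]
    show (1 : S × S)⁻¹ * m * 1 ∈ diagConj (1 : S) ↔ _
    rw [mem_diagConj]
    simp
  refine ⟨?_, ?_⟩
  · rw [injective_iff_map_eq_one]
    intro s hs
    have h1 : (iota 𝒟 s : Equiv.Perm (XX 𝒟)) z₀ = z₀ := by rw [hs]; rfl
    rw [iota_apply, hz₀] at h1
    exact h1.symm
  intro L
  constructor
  · intro hL
    let α₁ : ↥L × S →* S × S :=
      MonoidHom.prodMap ((MonoidHom.fst S S).comp L.subtype) (MonoidHom.id S)
    let α₂ : ↥L × S →* S × S :=
      MonoidHom.prodMap ((MonoidHom.snd S S).comp L.subtype) (MonoidHom.id S)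
    have hα₁ : ∀ (l : ↥L) (s : S), α₁ (l, s) = (l.1.1, s) := fun _ _ => rfl
    have hα₂ : ∀ (l : ↥L) (s : S), α₂ (l, s) = (l.1.2, s) := fun _ _ => rfl
    have hfunc : ∀ a b : ↥L, a.1.1 = b.1.1 → a = b := by
      intro a b hab
      have h1 : (a⁻¹ * b).1 ∈ L := (a⁻¹ * b).2
      have h2 : ((a⁻¹ * b : ↥L) : S × S) = (1, a.1.2⁻¹ * b.1.2) := by
        apply Prod.ext
        · show a.1.1⁻¹ * b.1.1 = 1
          rw [hab, inv_mul_cancel]
        · rfl
      rw [h2] at h1
      have h3 := h.func L hL _ h1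
      apply Subtype.ext
      apply Prod.ext hab
      exact inv_mul_eq_one.mp h3
    have hfunc' : ∀ a b : ↥L, a.1.2 = b.1.2 → a = b := by
      intro a b hab
      have h1 : (a⁻¹ * b).1 ∈ L := (a⁻¹ * b).2
      have h2 : ((a⁻¹ * b : ↥L) : S × S) = (a.1.1⁻¹ * b.1.1, 1) := by
        apply Prod.ext
        · rfl
        · show a.1.2⁻¹ * b.1.2 = 1
          rw [hab, inv_mul_cancel]
      rw [h2] at h1
      have h3 := h.func (swapS L) (h.inv L hL) (a.1.1⁻¹ * b.1.1) h1
      apply Subtype.ext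
      apply Prod.ext _ hab
      exact inv_mul_eq_one.mp h3
    have hinj₁ : Function.Injective α₁ := by
      rintro ⟨l, s⟩ ⟨l', s'⟩ hh
      rw [hα₁, hα₁] at hh
      have h1 := Prod.ext_iff.mp hh
      have h2 : s = s' := h1.2
      rw [hfunc l l' h1.1, h2]
    have hinj₂ : Function.Injective α₂ := by
      rintro ⟨l, s⟩ ⟨l', s'⟩ hh
      rw [hα₂, hα₂] at hh
      have h1 := Prod.ext_iff.mp hh
      have h2 : s = s' := h1.2
      rw [hfunc' l l' h1.1, h2]
    have key : ∀ K : Subgroup (↥L × S),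
        Nat.card {z : XX 𝒟 // ∀ k ∈ K, α₁ k • z = z} =
          Nat.card {z : XX 𝒟 // ∀ k ∈ K, α₂ k • z = z} := by
      intro K
      have e1 : ∀ (α : ↥L × S →* S × S), {z : XX 𝒟 // ∀ k ∈ K, α k • z = z} ≃
          {z : XX 𝒟 // ∀ m ∈ K.map α, m • z = z} := fun α =>
        Equiv.subtypeEquivRight (fun z =>
          ⟨fun h m ⟨k, hk, hkm⟩ => hkm ▸ h k hk, fun h k hk => h _ ⟨k, hk, rfl⟩⟩)
      rw [Nat.card_congr (e1 α₁), Nat.card_congr (e1 α₂)]
      have h12 : K.map α₁ ∈ 𝒟 → K.map α₂ ∈ 𝒟 := by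
        intro hK
        apply h.sub (compS (swapS L) (K.map α₁)) (h.comp _ (h.inv L hL) _ hK)
        rintro _ ⟨⟨l, s⟩, hk, rfl⟩
        rw [mem_compS]
        refine ⟨l.1.1, ?_, ?_⟩
        · rw [mem_swapS]
          exact l.2
        · exact ⟨(l, s), hk, rfl⟩
      have h21 : K.map α₂ ∈ 𝒟 → K.map α₁ ∈ 𝒟 := by
        intro hK
        apply h.sub (compS L (K.map α₂)) (h.comp _ hL _ hK)
        rintro _ ⟨⟨l, s⟩, hk, rfl⟩
        rw [mem_compS]
        refine ⟨l.1.2, ?_, ?_⟩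
        · exact l.2
        · exact ⟨(l, s), hk, rfl⟩
      by_cases hK : K.map α₁ ∈ 𝒟
      · rw [fix_card_mem h hK, fix_card_mem h (h12 hK), Subgroup.card_map_of_injective hinj₁,
          Subgroup.card_map_of_injective hinj₂]
      · have hK2 : K.map α₂ ∉ 𝒟 := fun h2 => hK (h21 h2)
        rw [fix_card_not_mem h hK, fix_card_not_mem h hK2]
    obtain ⟨e, he⟩ := @burnside_marks (↥L × S) _ _ (XX 𝒟) (XX 𝒟) _ _
      (MulAction.compHom (XX 𝒟) α₁) (MulAction.compHom (XX 𝒟) α₂) key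
    have he' : ∀ (k : ↥L × S) (z : XX 𝒟), e (α₁ k • z) = α₂ k • e z := he
    have heG : e ∈ GG 𝒟 := by
      rw [mem_GG]
      intro s z
      exact he' (1, s) z
    refine ⟨⟨e, heG⟩, ?_⟩
    intro t ht
    rw [eq_mul_inv_iff_mul_eq]
    apply Subtype.ext
    apply Equiv.ext
    intro z
    show ((t.2, 1) : S × S) • e z = e (((t.1, 1) : S × S) • z)
    exact (he' (⟨t, ht⟩, 1) z).symm
  · rintro ⟨g, hg⟩
    -- the image of the base point
    obtain ⟨i, q, hw⟩ : ∃ (i : Idx 𝒟) (q : (S × S) ⧸ i.1.1), (g : Equiv.Perm (XX 𝒟)) z₀ = ⟨i, q⟩ :=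
      ⟨_, _, rfl⟩
    obtain ⟨a, rfl⟩ := QuotientGroup.mk_surjective q
    have hD' : i.1.1.map (MulAut.conj a).toMonoidHom ∈ 𝒟 := h.map_conj i.1.2 a
    have hsub : swapS L ≤ i.1.1.map (MulAut.conj a).toMonoidHom := by
      intro t ht
      rw [mem_swapS] at ht
      have h1 := hg _ ht
      rw [eq_mul_inv_iff_mul_eq] at h1
      have h2 := congrArg (fun f : GG 𝒟 => (f : Equiv.Perm (XX 𝒟)) (((1 : S), t.2) • z₀)) h1
      have h3 : (((t.2, 1) : S × S) * ((1 : S), t.2)) • z₀ = z₀ := by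
        rw [hz₀]
        simp
      have h4 : (iota 𝒟 t.1 : Equiv.Perm (XX 𝒟)) ((g : Equiv.Perm (XX 𝒟)) (((1 : S), t.2) • z₀)) =
          (g : Equiv.Perm (XX 𝒟)) ((iota 𝒟 t.2 : Equiv.Perm (XX 𝒟)) (((1 : S), t.2) • z₀)) := h2
      rw [iota_apply, iota_apply, smul_smul, h3, (mem_GG _).mp g.2, smul_smul, hw] at h4
      have h5 := (smul_eq_iff i a _).mp h4
      refine ⟨a⁻¹ * (((t.1, 1) : S × S) * ((1 : S), t.2)) * a, h5, ?_⟩
      show a * (a⁻¹ * (((t.1, 1) : S × S) * ((1 : S), t.2)) * a) * a⁻¹ = t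
      have e : a * (a⁻¹ * (((t.1, 1) : S × S) * ((1 : S), t.2)) * a) * a⁻¹ =
          ((t.1, 1) : S × S) * ((1 : S), t.2) := by group
      rw [e]
      ext <;> simp
    have h1 : swapS L ∈ 𝒟 := h.sub _ hD' _ hsub
    have h2 := h.inv _ h1
    apply h.sub _ h2
    intro t ht
    exact ht

end TheGroup



section Translate

variable {Ω : Type*} [Group Ω] {S : Subgroup Ω}

/-- Restriction of a map of the system to a smaller subgroup is a map of the system. -/
theorem restrict_mem' (F : FusionSystem S) {R R' : Subgroup Ω} (h : R ≤ R') {ψ : R' →* Ω}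
    (hψ : ψ ∈ F.Hom R') : ψ.comp (Subgroup.inclusion h) ∈ F.Hom R := by
  have hR'S : R' ≤ S := (F.le_of_mem hψ).1
  have h1 : conjHom R 1 ∈ F.Hom R := F.conj_mem (h.trans hR'S) S.one_mem
  have h2 : ∀ x : R, conjHom R 1 x ∈ R' := by
    intro x
    show 1 * (x : Ω) * 1⁻¹ ∈ R'
    rw [one_mul, inv_one, mul_one]
    exact h x.2
  have h3 := F.comp_mem h1 hψ h2
  have h4 : ψ.comp ((conjHom R 1).codRestrict R' h2) = ψ.comp (Subgroup.inclusion h) := by
    ext x
    show ψ ⟨1 * (x : Ω) * 1⁻¹, _⟩ = ψ ⟨x, _⟩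
    congr 1
    apply Subtype.ext
    show 1 * (x : Ω) * 1⁻¹ = x
    rw [one_mul, inv_one, mul_one]
  rwa [h4] at h3

/-- The graph of a homomorphism from a subgroup, inside `S × S`. -/
def graphOf (S : Subgroup Ω) (P : Subgroup Ω) (φ : P →* Ω) : Subgroup (↥S × ↥S) where
  carrier := {t | ∃ x : P, (t.1 : Ω) = x ∧ (t.2 : Ω) = φ x}
  mul_mem' := by
    rintro a b ⟨x, h1, h2⟩ ⟨y, h1', h2'⟩
    refine ⟨x * y, ?_, ?_⟩
    · show ((a.1 : Ω) * (b.1 : Ω)) = (x : Ω) * (y : Ω)
      rw [h1, h1']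
    · show ((a.2 : Ω) * (b.2 : Ω)) = φ (x * y)
      rw [h2, h2', map_mul]
  one_mem' := ⟨1, rfl, by rw [map_one]; rfl⟩
  inv_mem' := by
    rintro a ⟨x, h1, h2⟩
    refine ⟨x⁻¹, ?_, ?_⟩
    · show ((a.1 : Ω))⁻¹ = ((x : Ω))⁻¹
      rw [h1]
    · show ((a.2 : Ω))⁻¹ = φ x⁻¹
      rw [h2, map_inv]

theorem mem_graphOf {P : Subgroup Ω} {φ : P →* Ω} {t : ↥S × ↥S} :
    t ∈ graphOf S P φ ↔ ∃ x : P, (t.1 : Ω) = x ∧ (t.2 : Ω) = φ x := Iff.rfl

/-- The set of graphs of the maps of the system. -/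
def graphSet (F : FusionSystem S) : Set (Subgroup (↥S × ↥S)) :=
  {D | ∃ (P : Subgroup Ω) (φ : P →* Ω), φ ∈ F.Hom P ∧ D = graphOf S P φ}

theorem graphSet_sub (F : FusionSystem S) {D : Subgroup (↥S × ↥S)} (hD : D ∈ graphSet F)
    (L : Subgroup (↥S × ↥S)) (hL : L ≤ D) : L ∈ graphSet F := by
  obtain ⟨P, φ, hφ, rfl⟩ := hD
  let R : Subgroup Ω := (L.map (MonoidHom.fst ↥S ↥S)).map S.subtype
  have hR : ∀ x : Ω, x ∈ R ↔ ∃ t ∈ L, (t.1 : Ω) = x := by
    intro x
    constructor
    · rintro ⟨s, ⟨t, ht, rfl⟩, rfl⟩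
      exact ⟨t, ht, rfl⟩
    · rintro ⟨t, ht, rfl⟩
      exact ⟨t.1, ⟨t, ht, rfl⟩, rfl⟩
  have hRP : R ≤ P := by
    intro x hx
    obtain ⟨t, ht, rfl⟩ := (hR x).mp hx
    obtain ⟨y, h1, _⟩ := mem_graphOf.mp (hL ht)
    rw [h1]
    exact y.2
  refine ⟨R, φ.comp (Subgroup.inclusion hRP), restrict_mem' F hRP hφ, ?_⟩
  ext t
  rw [mem_graphOf]
  constructor
  · intro ht
    obtain ⟨y, h1, h2⟩ := mem_graphOf.mp (hL ht)
    refine ⟨⟨(t.1 : Ω), (hR _).mpr ⟨t, ht, rfl⟩⟩, rfl, ?_⟩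
    rw [h2]
    show φ y = φ _
    congr 1
    apply Subtype.ext
    exact h1.symm
  · rintro ⟨r, h1, h2⟩
    obtain ⟨t', ht', h3⟩ := (hR _).mp r.2
    obtain ⟨y, h4, h5⟩ := mem_graphOf.mp (hL ht')
    have e : t = t' := by
      apply Prod.ext
      · apply Subtype.ext
        rw [h1, h3]
      · apply Subtype.ext
        rw [h2, h5]
        show φ _ = φ y
        congr 1
        apply Subtype.ext
        show (r : Ω) = y
        rw [← h4, h3]
    rw [e]
    exact ht'

theorem graphSet_func (F : FusionSystem S) {D : Subgroup (↥S × ↥S)} (hD : D ∈ graphSet F)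
    (y : ↥S) (h : ((1 : ↥S), y) ∈ D) : y = 1 := by
  obtain ⟨P, φ, hφ, rfl⟩ := hD
  obtain ⟨x, h1, h2⟩ := mem_graphOf.mp h
  have hx : x = 1 := by
    apply Subtype.ext
    rw [← h1]
    rfl
  apply Subtype.ext
  rw [h2, hx, map_one]
  rfl

theorem graphSet_inv (F : FusionSystem S) {D : Subgroup (↥S × ↥S)} (hD : D ∈ graphSet F) :
    swapS D ∈ graphSet F := by
  obtain ⟨P, φ, hφ, rfl⟩ := hD
  obtain ⟨ψ, hψ, hψ2⟩ := F.inv_mem hφ
  apply graphSet_sub F ⟨φ.range, ψ, hψ, rfl⟩
  intro t ht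
  obtain ⟨x, h1, h2⟩ := mem_graphOf.mp (mem_swapS.mp ht)
  rw [mem_graphOf]
  refine ⟨⟨φ x, x, rfl⟩, h2, ?_⟩
  rw [hψ2 x]
  exact h1

theorem graphSet_comp (F : FusionSystem S) {A B : Subgroup (↥S × ↥S)} (hA : A ∈ graphSet F)
    (hB : B ∈ graphSet F) : compS A B ∈ graphSet F := by
  obtain ⟨P, φ, hφ, rfl⟩ := hA
  obtain ⟨Q, ψ, hψ, rfl⟩ := hB
  let R : Subgroup Ω := (Q.comap φ).map P.subtype
  have hRP : R ≤ P := by
    rintro _ ⟨x, _, rfl⟩
    exact x.2
  have hval : ∀ r : R, (φ.comp (Subgroup.inclusion hRP)) r ∈ Q := by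
    rintro ⟨_, ⟨x, hx, rfl⟩⟩
    have : Subgroup.inclusion hRP ⟨P.subtype x, ⟨x, hx, rfl⟩⟩ = x := Subtype.ext rfl
    show φ (Subgroup.inclusion hRP ⟨P.subtype x, ⟨x, hx, rfl⟩⟩) ∈ Q
    rw [this]
    exact hx
  have h1 := F.comp_mem (restrict_mem' F hRP hφ) hψ hval
  apply graphSet_sub F ⟨R, _, h1, rfl⟩
  intro t ht
  obtain ⟨y, ⟨x, hx1, hx2⟩, ⟨q, hq1, hq2⟩⟩ := mem_compS.mp ht
  rw [mem_graphOf]
  have hxQ : φ x ∈ Q := by
    rw [← hx2]
    show (y : Ω) ∈ Q
    rw [hq1]
    exact q.2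
  refine ⟨⟨(x : Ω), ⟨x, hxQ, rfl⟩⟩, hx1, ?_⟩
  rw [hq2]
  show ψ q = ψ ⟨φ (Subgroup.inclusion hRP ⟨(x : Ω), _⟩), _⟩
  congr 1
  apply Subtype.ext
  show (q : Ω) = φ (Subgroup.inclusion hRP ⟨(x : Ω), _⟩)
  have : Subgroup.inclusion hRP ⟨(x : Ω), ⟨x, hxQ, rfl⟩⟩ = x := Subtype.ext rfl
  rw [this, ← hq1]
  exact hx2

theorem graphSet_conj (F : FusionSystem S) (g : ↥S) : diagConj g ∈ graphSet F := by
  refine ⟨S, conjHom S (g : Ω), F.conj_mem (le_refl S) g.2, ?_⟩
  ext t
  rw [mem_diagConj, mem_graphOf]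
  constructor
  · intro h
    refine ⟨t.1, rfl, ?_⟩
    rw [h]
    rfl
  · rintro ⟨x, h1, h2⟩
    apply Subtype.ext
    rw [h2]
    show (g : Ω) * (x : Ω) * (g : Ω)⁻¹ = (g : Ω) * (t.1 : Ω) * ((g : Ω))⁻¹
    rw [h1]

theorem mem_graphSet_iff (F : FusionSystem S) (P : Subgroup Ω) (hP : P ≤ S) (φ : P →* Ω)
    (hφ : ∀ x : P, φ x ∈ S) : φ ∈ F.Hom P ↔ graphOf S P φ ∈ graphSet F := by
  constructor
  · intro h
    exact ⟨P, φ, h, rfl⟩
  · rintro ⟨P', φ', hφ', he⟩
    have hP' : P' ≤ S := (F.le_of_mem hφ').1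
    have hφ'S : ∀ x : P', φ' x ∈ S := (F.le_of_mem hφ').2
    have hPP : P = P' := by
      ext x
      constructor
      · intro hx
        have h1 : ((⟨x, hP hx⟩ : ↥S), (⟨φ ⟨x, hx⟩, hφ _⟩ : ↥S)) ∈ graphOf S P φ :=
          ⟨⟨x, hx⟩, rfl, rfl⟩
        rw [he] at h1
        obtain ⟨y, h2, _⟩ := mem_graphOf.mp h1
        have : x = y := h2
        rw [this]
        exact y.2
      · intro hx
        have h1 : ((⟨x, hP' hx⟩ : ↥S), (⟨φ' ⟨x, hx⟩, hφ'S _⟩ : ↥S)) ∈ graphOf S P' φ' :=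
          ⟨⟨x, hx⟩, rfl, rfl⟩
        rw [← he] at h1
        obtain ⟨y, h2, _⟩ := mem_graphOf.mp h1
        have : x = y := h2
        rw [this]
        exact y.2
    subst hPP
    have : φ = φ' := by
      ext x
      have h1 : ((⟨x, hP x.2⟩ : ↥S), (⟨φ x, hφ _⟩ : ↥S)) ∈ graphOf S P φ :=
        ⟨x, rfl, rfl⟩
      rw [he] at h1
      obtain ⟨y, h2, h3⟩ := mem_graphOf.mp h1
      have hxy : x = y := Subtype.ext h2
      have h3' : φ x = φ' y := h3
      rw [h3', hxy]
    rw [this]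
    exact hφ'

end Translate


/-- Every fusion system over a finite p-group S, saturated or not, is realized inside some finite group: there is a finite group G and an injective homomorphism ι of S into G such that the maps of the system are exactly the homomorphisms between subgroups of S that become conjugations by elements of G (the image of S need not be a Sylow p-subgroup of G). -/
theorem result {Ω : Type u} [Group Ω] {S : Subgroup Ω} [Finite S] (p : ℕ) [Fact p.Prime] (hS : IsPGroup p S) (F : Cfsg.FusionSystem S) : ∃ (G : Type u) (_ : Group G) (_ : Finite G) (ι : ↥S →* G), F.IsRealizedBy ι := by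
  classical
  let 𝒟 : Finset (Subgroup (↥S × ↥S)) := (Set.toFinite (graphSet F)).toFinset
  have hmem : ∀ D, D ∈ 𝒟 ↔ D ∈ graphSet F := fun D => Set.Finite.mem_toFinset _
  have hsys : IsGraphSys 𝒟 := by
    refine ⟨?_, ?_, ?_, ?_, ?_⟩
    · intro D hD y hy
      exact graphSet_func F ((hmem D).mp hD) y hy
    · intro D hD
      exact (hmem _).mpr (graphSet_inv F ((hmem D).mp hD))
    · intro A hA B hB
      exact (hmem _).mpr (graphSet_comp F ((hmem A).mp hA) ((hmem B).mp hB))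
    · intro D hD L hL
      exact (hmem _).mpr (graphSet_sub F ((hmem D).mp hD) L hL)
    · intro g
      exact (hmem _).mpr (graphSet_conj F g)
  obtain ⟨hinj, hreal⟩ := realize hsys
  refine ⟨↥(GG 𝒟), inferInstance, inferInstance, iota 𝒟, hinj, ?_⟩
  intro P hP φ hφ
  rw [mem_graphSet_iff F P hP φ hφ, ← hmem, hreal]
  constructor
  · rintro ⟨g, hg⟩
    refine ⟨g, fun x => ?_⟩
    exact hg ((⟨x, hP x.2⟩ : ↥S), (⟨φ x, hφ x⟩ : ↥S)) ⟨x, rfl, rfl⟩
  · rintro ⟨g, hg⟩
    refine ⟨g, ?_⟩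
    rintro t ⟨x, h1, h2⟩
    have e1 : t.1 = ⟨x, hP x.2⟩ := Subtype.ext h1
    have e2 : t.2 = ⟨φ x, hφ x⟩ := Subtype.ext h2
    rw [e1, e2]
    exact hg x

end Cfsg.Agent.S5328
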