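import Cfsg.Statements.S5329
import Cfsg.Agent.Lib.Helper29.BisetApp
import Cfsg.Agent.Lib.Helper29.FusionHyp

set_option autoImplicit false
open Cfsg

namespace Cfsg.Agent.S5329

/-- For a saturated fusion system F over a finite p-group S, the focal subgroup and the derived subgroup of S meet the centre Z(F) of the system in the same subgroup: foc(F) ∩ Z(F) = S′ ∩ Z(F). -/
theorem result {Ω : Type*} [Group Ω] {S : Subgroup Ω} [Finite S] (p : ℕ) [Fact p.Prime] (hS : IsPGroup p S) (F : Cfsg.FusionSystem S) (hF : F.IsSaturated p) : F.focalSubgroup ⊓ F.center = ⁅(S : Subgroup Ω), (S : Subgroup Ω)⁆ ⊓ F.center := by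
  open Cfsg.Agent.Lib.Helper29 in
  apply le_antisymm
  · rintro z ⟨hzf, hzc⟩
    refine ⟨?_, hzc⟩
    have hcen : F.IsCentral F.center := Cfsg.Agent.Lib.Helper1.isCentral_center F
    have hzS : z ∈ S := hcen.1 hzc
    obtain ⟨m, h1, h2, h3⟩ := exists_stable_biset' p hS F hF
    set ε : S →* Abelianization S := Abelianization.of with hε
    have e1 := btrHom_focal F m h1 h2 ε ⟨z, hzS⟩ hzf
    have e2 := btrHom_central F m h1 ε ⟨z, hzS⟩ hzc
    rw [e1] at e2
    have hP : IsPGroup p (Abelianization S) := hS.to_quotient (commutator S)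
    obtain ⟨k, hk⟩ := hP (ε ⟨z, hzS⟩)
    have hd1 : orderOf (ε ⟨z, hzS⟩) ∣ p ^ k := orderOf_dvd_of_pow_eq_one hk
    have hd2 : (orderOf (ε ⟨z, hzS⟩) : ℤ) ∣ bisetDeg m := orderOf_dvd_iff_zpow_eq_one.2 e2.symm
    obtain ⟨j, _, hj⟩ := (Nat.dvd_prime_pow (Fact.out : p.Prime)).1 hd1
    have hj0 : j = 0 := by
      by_contra hne
      apply h3
      refine dvd_trans ?_ hd2
      rw [hj]
      push_cast
      exact dvd_pow_self _ hne
    rw [hj0, pow_zero, orderOf_eq_one_iff] at hj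
    have hker : (⟨z, hzS⟩ : S) ∈ (Abelianization.of : S →* Abelianization S).ker := hj
    rw [Abelianization.ker_of] at hker
    rw [← Subgroup.map_subtype_commutator]
    exact ⟨⟨z, hzS⟩, hker, rfl⟩
  · rintro z ⟨hzf, hzc⟩
    refine ⟨?_, hzc⟩
    rw [focal_eq_hyperfocal_sup p hS F hF]
    exact (le_sup_right : ⁅S, S⁆ ≤ _) hzf

end Cfsg.Agent.S5329
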