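import Cfsg.Statements.S5331
import Mathlib
import Cfsg.Agent.Lib.Helper25.FusionAbelian

set_option autoImplicit false
open Cfsg

namespace Cfsg.Agent.S5331

open Cfsg.Agent.Lib.Helper25 Cfsg.Agent.Lib.Helper29

/-- arithmetic in one coordinate, in terms of natural numbers -/
theorem coordNat (a k v : ℕ) (hk : 1 ≤ k) (h2 : 2 ^ a ∣ 2 ^ k * v) :
    (a ≠ k → ∃ r : ℕ, 2 ^ (k - 1) * v ≡ 2 ^ k * r [MOD 2 ^ a]) ∧
    (a = k → (2 ^ (k - 1) * v ≡ 0 [MOD 2 ^ a] ∨ 2 ^ (k - 1) * v ≡ 2 ^ (k - 1) [MOD 2 ^ a])) := by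
  constructor
  · intro hne
    rcases Nat.lt_or_gt_of_ne hne with hlt | hgt
    · refine ⟨0, ?_⟩
      rw [mul_zero]
      apply (Nat.modEq_zero_iff_dvd).mpr
      exact Dvd.dvd.mul_right (pow_dvd_pow 2 (by omega : a ≤ k - 1)) v
    · have h3 : 2 ^ a = 2 ^ k * 2 ^ (a - k) := by
        rw [← pow_add]
        congr 1
        omega
      rw [h3] at h2
      have h4 : 2 ^ (a - k) ∣ v := (Nat.mul_dvd_mul_iff_left (by positivity)).mp h2
      obtain ⟨r, rfl⟩ := h4
      refine ⟨2 ^ (a - k - 1) * r, ?_⟩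
      have h5 : 2 ^ (k - 1) * (2 ^ (a - k) * r) = 2 ^ k * (2 ^ (a - k - 1) * r) := by
        rw [← mul_assoc, ← pow_add, ← mul_assoc, ← pow_add]
        congr 2
        omega
      rw [h5]
  · intro hak
    subst hak
    obtain ⟨r, hr | hr⟩ := Nat.even_or_odd' v
    · left
      apply (Nat.modEq_zero_iff_dvd).mpr
      refine ⟨r, ?_⟩
      rw [hr]
      have : 2 ^ a = 2 ^ (a - 1) * 2 := by
        rw [← pow_succ]
        congr 1
        omega
      rw [this]
      ring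
    · right
      have h5 : 2 ^ (a - 1) * v = 2 ^ a * r + 2 ^ (a - 1) := by
        rw [hr]
        have : 2 ^ a = 2 ^ (a - 1) * 2 := by
          rw [← pow_succ]
          congr 1
          omega
        rw [this]
        ring
      rw [h5]
      show (2 ^ a * r + 2 ^ (a - 1)) % 2 ^ a = 2 ^ (a - 1) % 2 ^ a
      exact Nat.mul_add_mod _ _ _

/-- arithmetic in one coordinate -/
theorem coord (a k : ℕ) (hk : 1 ≤ k) (u : ZMod (2 ^ a))
    (h2 : (2 : ℕ) • ((2 ^ (k - 1) : ℕ) • u) = 0) :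
    (a ≠ k → ∃ w : ZMod (2 ^ a), (2 ^ (k - 1) : ℕ) • u = (2 ^ k : ℕ) • w) ∧
    (a = k → ((2 ^ (k - 1) : ℕ) • u = 0 ∨
      (2 ^ (k - 1) : ℕ) • u = (2 ^ (k - 1) : ℕ) • (1 : ZMod (2 ^ a)))) := by
  haveI : NeZero (2 ^ a) := ⟨by positivity⟩
  have hu : u = ((u.val : ℕ) : ZMod (2 ^ a)) := (ZMod.natCast_zmod_val u).symm
  set v := u.val with hv
  have hsm : ∀ (m : ℕ) (t : ℕ), (m : ℕ) • ((t : ℕ) : ZMod (2 ^ a)) = ((m * t : ℕ) : ZMod (2 ^ a)) := by
    intro m t
    rw [nsmul_eq_mul, Nat.cast_mul]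
  rw [hu] at h2 ⊢
  rw [hsm, hsm] at h2
  have h3 : 2 ^ a ∣ 2 ^ k * v := by
    have h4 := (ZMod.natCast_eq_zero_iff _ _).mp h2
    have h5 : 2 * (2 ^ (k - 1) * v) = 2 ^ k * v := by
      rw [← mul_assoc, ← pow_succ']
      congr 2
      omega
    rwa [h5] at h4
  obtain ⟨c1, c2⟩ := coordNat a k v hk h3
  rw [hsm]
  constructor
  · intro hne
    obtain ⟨r, hr⟩ := c1 hne
    refine ⟨((r : ℕ) : ZMod (2 ^ a)), ?_⟩
    rw [hsm]
    exact (ZMod.natCast_eq_natCast_iff _ _ _).mpr hr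
  · intro hak
    rcases c2 hak with h | h
    · left
      have := (ZMod.natCast_eq_natCast_iff _ _ _).mpr h
      rw [this, Nat.cast_zero]
    · right
      have := (ZMod.natCast_eq_natCast_iff _ _ _).mpr h
      rw [this, nsmul_eq_mul, mul_one]

/-- the key arithmetic fact on `∏ ZMod (2 ^ a i)` with distinct `a i` -/
theorem key_add {n : ℕ} (a : Fin n → ℕ) (ha : StrictMono a) (k : ℕ) (hk : 1 ≤ k)
    (U V : (i : Fin n) → ZMod (2 ^ a i))
    (hX : (2 : ℕ) • ((2 ^ (k - 1) : ℕ) • U) = 0) (hY : (2 : ℕ) • ((2 ^ (k - 1) : ℕ) • V) = 0) :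
    ∃ W : (i : Fin n) → ZMod (2 ^ a i), (2 ^ (k - 1) : ℕ) • U = (2 ^ k : ℕ) • W ∨
      (2 ^ (k - 1) : ℕ) • V = (2 ^ k : ℕ) • W ∨
      (2 ^ (k - 1) : ℕ) • U - (2 ^ (k - 1) : ℕ) • V = (2 ^ k : ℕ) • W := by
  have hXi : ∀ i, (2 : ℕ) • ((2 ^ (k - 1) : ℕ) • U i) = 0 := fun i => congrFun hX i
  have hYi : ∀ i, (2 : ℕ) • ((2 ^ (k - 1) : ℕ) • V i) = 0 := fun i => congrFun hY i
  have cU := fun i => coord (a i) k hk (U i) (hXi i)
  have cV := fun i => coord (a i) k hk (V i) (hYi i)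
  by_cases hex : ∃ i0, a i0 = k
  · obtain ⟨i0, hi0⟩ := hex
    have hne : ∀ i, i ≠ i0 → a i ≠ k := fun i hi h => hi (ha.injective (h.trans hi0.symm))
    rcases (cU i0).2 hi0 with hU0 | hU0
    · have : ∀ i, ∃ w : ZMod (2 ^ a i), (2 ^ (k - 1) : ℕ) • U i = (2 ^ k : ℕ) • w := by
        intro i
        by_cases hi : i = i0
        · subst hi
          exact ⟨0, by rw [hU0, smul_zero]⟩
        · exact (cU i).1 (hne i hi)
      choose W hW using this
      exact ⟨W, Or.inl (funext hW)⟩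
    · rcases (cV i0).2 hi0 with hV0 | hV0
      · have : ∀ i, ∃ w : ZMod (2 ^ a i), (2 ^ (k - 1) : ℕ) • V i = (2 ^ k : ℕ) • w := by
          intro i
          by_cases hi : i = i0
          · subst hi
            exact ⟨0, by rw [hV0, smul_zero]⟩
          · exact (cV i).1 (hne i hi)
        choose W hW using this
        exact ⟨W, Or.inr (Or.inl (funext hW))⟩
      · have : ∀ i, ∃ w : ZMod (2 ^ a i),
            (2 ^ (k - 1) : ℕ) • U i - (2 ^ (k - 1) : ℕ) • V i = (2 ^ k : ℕ) • w := by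
          intro i
          by_cases hi : i = i0
          · subst hi
            exact ⟨0, by rw [hU0, hV0, sub_self, smul_zero]⟩
          · obtain ⟨w1, h1⟩ := (cU i).1 (hne i hi)
            obtain ⟨w2, h2⟩ := (cV i).1 (hne i hi)
            exact ⟨w1 - w2, by rw [h1, h2, smul_sub]⟩
        choose W hW using this
        exact ⟨W, Or.inr (Or.inr (funext hW))⟩
  · push Not at hex
    have : ∀ i, ∃ w : ZMod (2 ^ a i), (2 ^ (k - 1) : ℕ) • U i = (2 ^ k : ℕ) • w :=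
      fun i => (cU i).1 (hex i)
    choose W hW using this
    exact ⟨W, Or.inl (funext hW)⟩

/-- the key fact transported to a group isomorphic to `∏ ZMod (2 ^ a i)` -/
theorem key_mul {G : Type*} [Group G] {n : ℕ} (a : Fin n → ℕ) (ha : StrictMono a)
    (e : G ≃* Multiplicative ((i : Fin n) → ZMod (2 ^ a i))) (k : ℕ) (hk : 1 ≤ k) (u v : G)
    (hu : (u ^ 2 ^ (k - 1)) ^ 2 = 1) (hv : (v ^ 2 ^ (k - 1)) ^ 2 = 1) :
    ∃ w : G, u ^ 2 ^ (k - 1) = w ^ 2 ^ k ∨ v ^ 2 ^ (k - 1) = w ^ 2 ^ k ∨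
      u ^ 2 ^ (k - 1) * (v ^ 2 ^ (k - 1))⁻¹ = w ^ 2 ^ k := by
  have hX : (2 : ℕ) • ((2 ^ (k - 1) : ℕ) • (e u).toAdd) = 0 := by
    have := congrArg (fun s => (e s).toAdd) hu
    simpa only [map_pow, toAdd_pow, map_one, toAdd_one] using this
  have hY : (2 : ℕ) • ((2 ^ (k - 1) : ℕ) • (e v).toAdd) = 0 := by
    have := congrArg (fun s => (e s).toAdd) hv
    simpa only [map_pow, toAdd_pow, map_one, toAdd_one] using this
  obtain ⟨W, hW⟩ := key_add a ha k hk _ _ hX hY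
  refine ⟨e.symm (Multiplicative.ofAdd W), ?_⟩
  rcases hW with h | h | h
  · left
    apply e.injective
    apply Multiplicative.toAdd.injective
    simp only [map_pow, toAdd_pow, MulEquiv.apply_symm_apply, toAdd_ofAdd]
    exact h
  · right; left
    apply e.injective
    apply Multiplicative.toAdd.injective
    simp only [map_pow, toAdd_pow, MulEquiv.apply_symm_apply, toAdd_ofAdd]
    exact h
  · right; right
    apply e.injective
    apply Multiplicative.toAdd.injective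
    simp only [map_pow, map_mul, map_inv, toAdd_mul, toAdd_inv, toAdd_pow,
      MulEquiv.apply_symm_apply, toAdd_ofAdd]
    rw [← sub_eq_add_neg]
    exact h

/-- Let S be a finite abelian 2-group that is a direct product of cyclic groups of pairwise distinct orders 2^{a_1} < 2^{a_2} < ⋯ < 2^{a_n} (all a_i ≥ 1). Then every saturated fusion system over S is the inner one: its maps are exactly the conjugations by elements of S. -/
theorem result {Ω : Type*} [Group Ω] {S : Subgroup Ω} [Finite S] (n : ℕ) (a : Fin n → ℕ) (ha : StrictMono a) (ha1 : ∀ i, 1 ≤ a i) (e : ↥S ≃* Multiplicative ((i : Fin n) → ZMod (2 ^ a i))) (F : Cfsg.FusionSystem S) (hF : F.IsSaturated 2) (P : Subgroup Ω) : F.Hom P = (Cfsg.innerFusionSystem S).Hom P := by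
  have hcomm : ∀ x y : S, x * y = y * x := fun x y =>
    e.injective (by rw [map_mul, map_mul, mul_comm])
  have hab : ∀ x ∈ S, ∀ y ∈ S, x * y = y * x := fun x hx y hy =>
    congrArg Subtype.val (hcomm ⟨x, hx⟩ ⟨y, hy⟩)
  have hcard : Nat.card S = 2 ^ (∑ i, a i) := by
    rw [Nat.card_congr e.toEquiv, Nat.card_congr Multiplicative.toAdd, Nat.card_pi,
      ← Finset.prod_pow_eq_pow_sum]
    exact Finset.prod_congr rfl (fun i _ => Nat.card_zmod _)
  have hS : IsPGroup 2 S := IsPGroup.of_card hcard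
  obtain ⟨hinf, hsup⟩ := fusion_decomp hS F hF hab
  set A := F.autGroup S with hA
  -- `2^k0`-th powers lying in `D` are trivial
  have hpowD : ∀ (k : ℕ), (∀ d ∈ commSub A, d ^ 2 ^ k = 1) →
      ∀ w : S, w ^ 2 ^ k ∈ commSub A → w ^ 2 ^ k = 1 := by
    intro k hk w hw
    have hw' : w ∈ fixedSub A ⊔ commSub A := by rw [hsup]; trivial
    obtain ⟨c, hc, d, hd, rfl⟩ := mem_sup_comm hcomm hw'
    have h1 : (c * d) ^ 2 ^ k = c ^ 2 ^ k := by
      rw [Commute.mul_pow (show Commute c d from hcomm c d), hk d hd, mul_one]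
    rw [h1] at hw ⊢
    have h2 : c ^ 2 ^ k ∈ fixedSub A ⊓ commSub A :=
      Subgroup.mem_inf.mpr ⟨(fixedSub A).pow_mem hc _, hw⟩
    rw [hinf] at h2
    exact Subgroup.mem_bot.mp h2
  have hD : commSub A = ⊥ := by
    by_contra hD
    have hex : ∃ k, ∀ d ∈ commSub A, d ^ 2 ^ k = 1 := by
      refine ⟨∑ i, a i, fun d _ => ?_⟩
      rw [← hcard]
      exact pow_card_eq_one'
    classical
    set k0 := Nat.find hex with hk0
    have hk0spec : ∀ d ∈ commSub A, d ^ 2 ^ k0 = 1 := Nat.find_spec hex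
    have hk0pos : 1 ≤ k0 := by
      by_contra h0
      have h0' : k0 = 0 := by omega
      apply hD
      rw [eq_bot_iff]
      intro d hd
      have := hk0spec d hd
      rw [h0', pow_zero, pow_one] at this
      exact Subgroup.mem_bot.mpr this
    have hmin : ¬ ∀ d ∈ commSub A, d ^ 2 ^ (k0 - 1) = 1 :=
      Nat.find_min hex (by omega : k0 - 1 < k0)
    push Not at hmin
    obtain ⟨d0, hd0, hd0ne⟩ := hmin
    have hpw : ∀ d : S, (d ^ 2 ^ (k0 - 1)) ^ 2 = d ^ 2 ^ k0 := by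
      intro d
      rw [← pow_mul, ← pow_succ]
      congr 2
      omega
    have hx2 : (d0 ^ 2 ^ (k0 - 1)) ^ 2 = 1 := by rw [hpw, hk0spec d0 hd0]
    have hxD : d0 ^ 2 ^ (k0 - 1) ∈ commSub A := (commSub A).pow_mem hd0 _
    have hxC : d0 ^ 2 ^ (k0 - 1) ∉ fixedSub A := by
      intro hC
      have h2 : d0 ^ 2 ^ (k0 - 1) ∈ fixedSub A ⊓ commSub A := Subgroup.mem_inf.mpr ⟨hC, hxD⟩
      rw [hinf] at h2
      exact hd0ne (Subgroup.mem_bot.mp h2)
    rw [mem_fixedSub] at hxC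
    push Not at hxC
    obtain ⟨α, hα, hαx⟩ := hxC
    have hd1 : α d0 ∈ commSub A := map_mem_commSub hα hd0
    have hy2 : ((α d0) ^ 2 ^ (k0 - 1)) ^ 2 = 1 := by rw [hpw, hk0spec _ hd1]
    have hyx : (α d0) ^ 2 ^ (k0 - 1) = α (d0 ^ 2 ^ (k0 - 1)) := (map_pow α d0 _).symm
    obtain ⟨w, hw | hw | hw⟩ := key_mul a ha e k0 hk0pos d0 (α d0) hx2 hy2
    · have h1 := hpowD k0 hk0spec w (hw ▸ hxD)
      rw [← hw] at h1
      exact hd0ne h1
    · have h1 := hpowD k0 hk0spec w (hw ▸ (commSub A).pow_mem hd1 _)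
      rw [← hw, hyx] at h1
      apply hd0ne
      have h2 : α (d0 ^ 2 ^ (k0 - 1)) = α 1 := by rw [h1, map_one]
      exact α.injective h2
    · have h1 := hpowD k0 hk0spec w
        (hw ▸ (commSub A).mul_mem hxD ((commSub A).inv_mem ((commSub A).pow_mem hd1 _)))
      rw [← hw, mul_inv_eq_one, hyx] at h1
      exact hαx h1.symm
  have hC : fixedSub A = ⊤ := by
    rw [hD, sup_bot_eq] at hsup
    exact hsup
  exact hom_eq_inner_of_fixed F hF hab hC P

end Cfsg.Agent.S5331
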