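import Cfsg.Statements.S5332
import Cfsg.Agent.Lib.Helper29.GTConstrained

set_option autoImplicit false
open Cfsg

namespace Cfsg.Agent.S5332

/-- Let p be odd and F a saturated fusion system over a finite p-group S that is not the inner system of S. Then F contains a saturated constrained subsystem over S that is itself not the inner system. -/
theorem result {Ω : Type*} [Group Ω] {S : Subgroup Ω} [Finite S] (p : ℕ) [Fact p.Prime] (hS : IsPGroup p S) (F : Cfsg.FusionSystem S) (hF : F.IsSaturated p) (hp : p ≠ 2) (hne : ∃ P : Subgroup Ω, F.Hom P ≠ (Cfsg.innerFusionSystem S).Hom P) : ∃ E : Cfsg.FusionSystem S, E ≤ F ∧ E.IsConstrained p ∧ ∃ P : Subgroup Ω, E.Hom P ≠ (Cfsg.innerFusionSystem S).Hom P := by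
  open Cfsg.Agent.Lib.Helper29 in
  have hPW : PW p F := by
    by_contra hPW
    obtain ⟨P, hP⟩ := hne
    apply hP
    have hall : ∀ P : Subgroup Ω, P ≤ S → IsPGroup p (F.autGroup P) := by
      intro P' hP'
      by_contra hnp
      exact hPW ⟨P', hP', hnp⟩
    ext φ
    constructor
    · intro hφ
      have hPS := (F.le_of_mem hφ).1
      obtain ⟨g, hg, hge⟩ := hom_eq_conj_of_isPGroup_aut p hS F hF hall _ P hPS rfl φ hφ
      exact ⟨hPS, g, hg, hge⟩
    · rintro ⟨hPS, g, hg, hge⟩
      have h1 := F.conj_mem hPS hg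
      have e : φ = Cfsg.conjHom P g := by
        ext x
        exact hge x
      rw [e]
      exact h1
  obtain ⟨E, hEF, hEc, U, hUS, hU⟩ := exists_constrained_sub p hp hS F hF hPW
  refine ⟨E, hEF, hEc, ?_⟩
  by_contra hall
  push_neg at hall
  apply hU
  rintro ⟨β, hβ⟩
  have h1 := (mem_autGroup_iff E hUS).1 hβ
  rw [hall] at h1
  obtain ⟨_, g, hg, hge⟩ := h1
  have hge' : ∀ x : U, ((β x : U) : Ω) = g * x * g⁻¹ := hge
  have hpow : ∀ n : ℕ, ∀ x : U, (((β ^ n) x : U) : Ω) = g ^ n * x * (g ^ n)⁻¹ := by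
    intro n
    induction n with
    | zero =>
      intro x
      simp
    | succ n ih =>
      intro x
      have e : (β ^ (n + 1)) x = β ((β ^ n) x) := by
        rw [pow_succ', MulAut.mul_apply]
      rw [e, hge', ih, pow_succ']
      group
  obtain ⟨k, hk⟩ := hS ⟨g, hg⟩
  have hk' : g ^ p ^ k = 1 := by
    have := congrArg Subtype.val hk
    simpa using this
  refine ⟨k, ?_⟩
  apply Subtype.ext
  rw [Subgroup.coe_pow]
  show β ^ p ^ k = 1
  apply MulEquiv.ext
  intro x
  apply Subtype.ext
  rw [hpow, hk']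
  simp

end Cfsg.Agent.S5332
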