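import Cfsg.Statements.S5335
import Cfsg.Agent.Lib.Helper29.FusionSub

set_option autoImplicit false
open Cfsg

namespace Cfsg.Agent.S5335

/-- Let F′ ≤ F be saturated fusion systems over the same finite p-group S. If the maps of F and of F′ with source Q coincide for every F-centric subgroup Q that is minimal among F-centric subgroups, then F = F′. -/
theorem result {Ω : Type*} [Group Ω] {S : Subgroup Ω} [Finite S] (p : ℕ) [Fact p.Prime] (hS : IsPGroup p S) (F : Cfsg.FusionSystem S) (hF : F.IsSaturated p) (F' : Cfsg.FusionSystem S) (hF' : F'.IsSaturated p) (hle : F' ≤ F) (hmin : ∀ Q : Subgroup Ω, F.IsCentric Q → (∀ R : Subgroup Ω, R < Q → ¬ F.IsCentric R) → F.Hom Q = F'.Hom Q) (P : Subgroup Ω) : F.Hom P = F'.Hom P := by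
  open Cfsg.Agent.Lib.Helper29 in
  have hScen : F.IsCentric S := by
    refine ⟨le_rfl, ?_⟩
    rintro X ⟨φ, hφ, rfl⟩
    have hle' : φ.range ≤ S := range_le_of_hom_mem F hφ
    have hcard : Nat.card φ.range = Nat.card S :=
      (Nat.card_congr (MonoidHom.ofInjective (F.injective_of_mem hφ)).toEquiv).symm
    have : φ.range = S := Subgroup.eq_of_le_of_card_ge hle' hcard.ge
    rw [this]
    exact inf_le_left
  have hexmin : ∀ n : ℕ, ∀ P₀ : Subgroup Ω, F.IsCentric P₀ → Nat.card P₀ = n →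
      ∃ Q₀ : Subgroup Ω, Q₀ ≤ P₀ ∧ F.IsCentric Q₀ ∧ ∀ R : Subgroup Ω, R < Q₀ → ¬ F.IsCentric R := by
    intro n
    induction n using Nat.strong_induction_on with
    | _ n ih =>
      intro P₀ hP₀ hn
      by_cases hmin' : ∀ R : Subgroup Ω, R < P₀ → ¬ F.IsCentric R
      · exact ⟨P₀, le_rfl, hP₀, hmin'⟩
      · push Not at hmin'
        obtain ⟨R, hRP, hRc⟩ := hmin'
        have : Finite P₀ := finite_of_le hP₀.1
        have hlt : Nat.card R < n := by
          rw [← hn]
          rcases (Subgroup.card_le_of_le hRP.le).lt_or_eq with h | h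
          · exact h
          · exact absurd (Subgroup.eq_of_le_of_card_ge hRP.le h.ge) hRP.ne
        obtain ⟨Q₀, hQ₀R, hQ₀c, hQ₀min⟩ := ih _ hlt R hRc rfl
        exact ⟨Q₀, hQ₀R.trans hRP.le, hQ₀c, hQ₀min⟩
  have hFle : F ≤ F' := by
    apply alperin p hS F hF F'
    intro P₀ hP₀ α hα
    have hP₀c : F.IsCentric P₀ := by
      rcases hP₀ with rfl | hP₀
      · exact hScen
      · exact hP₀.1
    have hP₀S : P₀ ≤ S := hP₀c.1
    obtain ⟨Q₀, hQ₀P, hQ₀c, hQ₀min⟩ := hexmin _ P₀ hP₀c rfl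
    rw [mem_autGroup_iff F' hP₀S]
    have hψ := (mem_autGroup_iff F hP₀S).1 hα
    apply mem_sub_of_restrict_centric p hS F hF F' hF' hle _ hQ₀P hQ₀c hψ _ rfl
    rw [← hmin Q₀ hQ₀c hQ₀min]
    exact restrict_mem F hQ₀P hψ
  exact Set.Subset.antisymm (hFle P) (hle P)

end Cfsg.Agent.S5335
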