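import Cfsg.Statements.S5336
import Cfsg.Agent.S5118
import Cfsg.Agent.Lib.Helper29.FusionSubgroupSys

set_option autoImplicit false
open Cfsg

namespace Cfsg.Agent.S5336

/-- Let G be a finite group with Sylow p-subgroup S whose fusion system F_S(G) is simple. If G has no nontrivial normal subgroup of order prime to p and no proper subgroup H containing S induces the same fusion system on S as G does, then G is a simple group. -/
theorem result {G : Type*} [Group G] [Finite G] (p : ℕ) [Fact p.Prime] (S : Sylow p G) (hsimple : (Cfsg.groupFusionSystem (S : Subgroup G)).IsSimple p) (hcore : Cfsg.pPrimeCore p G = ⊥) (hmin : ∀ (H : Subgroup G) (hSH : (S : Subgroup G) ≤ H), H ≠ ⊤ → ∃ P : Subgroup G, (Cfsg.fusionSystemOfSubgroup H (S : Subgroup G) hSH).Hom P ≠ (Cfsg.groupFusionSystem (S : Subgroup G)).Hom P) : IsSimpleGroup G := by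
  open Cfsg.Agent.Lib.Helper29 in
  obtain ⟨_, hne, hsimp⟩ := hsimple
  have hnt : Nontrivial G := by
    by_contra hnt
    rw [not_nontrivial_iff_subsingleton] at hnt
    exact hne (Subsingleton.elim _ _)
  refine { toNontrivial := hnt, eq_bot_or_eq_top_of_normal := fun H hH => ?_ }
  have hnorm := Cfsg.Agent.S5118.result p S H
  rcases hsimp _ _ hnorm with h0 | ⟨hS, hHom⟩
  · left
    have hsyl := isSylowSub_inf_normal (p := p) S H
    rw [isSylowSub_iff inf_le_right] at hsyl
    have hcard : Nat.card ((S : Subgroup G) ⊓ H : Subgroup G) = 1 := by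
      rw [h0]
      exact Subgroup.card_bot
    have hpow : p ^ (Nat.card H).factorization p = 1 := by rw [← hsyl.2, hcard]
    have hp : p.Prime := Fact.out
    have hfac : (Nat.card H).factorization p = 0 := by
      by_contra hf
      have : 1 < p ^ (Nat.card H).factorization p := Nat.one_lt_pow hf hp.one_lt
      omega
    have hndvd : ¬ p ∣ Nat.card H := by
      intro hd
      rcases (Nat.factorization_eq_zero_iff _ _).1 hfac with h1 | h1 | h1
      · exact h1 hp
      · exact h1 hd
      · exact Nat.card_pos.ne' h1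
    have hcop : (Nat.card H).Coprime p := ((Nat.Prime.coprime_iff_not_dvd hp).2 hndvd).symm
    have hle : H ≤ Cfsg.pPrimeCore p G := le_sSup ⟨hH, hcop⟩
    rw [hcore] at hle
    exact le_bot_iff.1 hle
  · right
    by_contra hHtop
    have hSH : (S : Subgroup G) ≤ H := inf_eq_left.1 hS
    obtain ⟨P, hP⟩ := hmin H hSH hHtop
    apply hP
    rw [← hHom P]
    ext φ
    constructor
    · rintro ⟨h1, h2, g, hg, hge⟩
      exact ⟨le_inf h1 (h1.trans hSH), fun x => ⟨h2 x, hSH (h2 x)⟩, g, hg, hge⟩
    · rintro ⟨h1, h2, g, hg, hge⟩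
      exact ⟨h1.trans inf_le_left, fun x => (h2 x).1, g, hg, hge⟩

end Cfsg.Agent.S5336
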