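import Cfsg.Statements.S5339
import Cfsg.Agent.Lib.Helper29.FusionChain4

set_option autoImplicit false
open Cfsg

namespace Cfsg.Agent.S5339

/-- Let F be a saturated fusion system over a nontrivial finite p-group S such that Aut_F(S) consists of inner automorphisms only and S has no strongly closed subgroup other than 1 and S. Then F is simple. -/
theorem result {Ω : Type*} [Group Ω] {S : Subgroup Ω} [Finite S] (p : ℕ) [Fact p.Prime] (hS : IsPGroup p S) (F : Cfsg.FusionSystem S) (hF : F.IsSaturated p) (hS1 : S ≠ ⊥) (htop : F.autGroup S = Cfsg.Inn ↥S) (hsc : ∀ T : Subgroup Ω, F.StronglyClosed T → T = ⊥ ∨ T = S) : F.IsSimple p := by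
  open Cfsg.Agent.Lib.Helper29 in
  refine ⟨hF, hS1, fun T E hE => ?_⟩
  obtain ⟨⟨_, _, hsub, hTsc, _, hfrat⟩, _⟩ := hE
  rcases hsc T hTsc with hT | hT
  · exact Or.inl hT
  · refine Or.inr ⟨hT, fun P => ?_⟩
    subst hT
    apply Set.Subset.antisymm (hsub P)
    intro φ hφ
    have hPT : P ≤ T := le_of_hom_mem F hφ
    obtain ⟨α, hα, φ₀, hφ₀, hφeq⟩ := hfrat P hPT φ hφ
    rw [htop] at hα
    obtain ⟨s, rfl⟩ := hα
    have h1 : ∀ x : P, φ₀ x ∈ T := (E.le_of_mem hφ₀).2
    have h2 := E.comp_mem hφ₀ (E.conj_mem le_rfl s.2) h1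
    have h3 : (conjHom T (s : Ω)).comp (φ₀.codRestrict T h1) = φ := by
      ext x
      rw [hφeq x (h1 x)]
      rfl
    rw [h3] at h2
    exact h2

end Cfsg.Agent.S5339
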