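import Cfsg.Statements.S5340
import Cfsg.Agent.Lib.Helper29.FusionChain4
import Cfsg.Agent.S5339

set_option autoImplicit false
open Cfsg

namespace Cfsg.Agent.S5340

/-- Let F be a saturated fusion system over a nontrivial finite p-group S such that S is generated by its elements of order p, any two subgroups of S of order p are F-conjugate, and Aut_F(S) consists of inner automorphisms only. Then F is simple. -/
theorem result {Ω : Type*} [Group Ω] {S : Subgroup Ω} [Finite S] (p : ℕ) [Fact p.Prime] (hS : IsPGroup p S) (F : Cfsg.FusionSystem S) (hF : F.IsSaturated p) (hS1 : S ≠ ⊥) (hgen : Subgroup.closure {x : Ω | x ∈ S ∧ orderOf x = p} = S) (htr : ∀ A B : Subgroup Ω, A ≤ S → B ≤ S → Nat.card A = p → Nat.card B = p → F.IsConj A B) (htop : F.autGroup S = Cfsg.Inn ↥S) : F.IsSimple p := by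
  open Cfsg.Agent.Lib.Helper29 in
  apply Cfsg.Agent.S5339.result p hS F hF hS1 htop
  intro T hT
  by_cases hTb : T = ⊥
  · exact Or.inl hTb
  · right
    have hTS : T ≤ S := hT.1
    have hfin : Finite T := finite_of_le hTS
    have hTp : IsPGroup p T := hS.to_le hTS
    have hnt : Nontrivial T := (Subgroup.nontrivial_iff_ne_bot T).2 hTb
    obtain ⟨k, hk⟩ := IsPGroup.iff_card.1 hTp
    have hk0 : k ≠ 0 := by
      rintro rfl
      rw [pow_zero] at hk
      exact hTb (Subgroup.card_eq_one.1 hk)
    have hdvd : p ∣ Nat.card T := by rw [hk]; exact dvd_pow_self p hk0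
    obtain ⟨a, ha⟩ := exists_prime_orderOf_dvd_card' p hdvd
    have haT : Subgroup.zpowers (a : Ω) ≤ T := by
      rw [Subgroup.zpowers_le]
      exact a.2
    have hacard : Nat.card (Subgroup.zpowers (a : Ω)) = p := by
      rw [Nat.card_zpowers, Subgroup.orderOf_coe, ha]
    apply le_antisymm hTS
    rw [← hgen, Subgroup.closure_le]
    rintro x ⟨hxS, hxo⟩
    have hxle : Subgroup.zpowers x ≤ S := by
      rw [Subgroup.zpowers_le]
      exact hxS
    have hxcard : Nat.card (Subgroup.zpowers x) = p := by rw [Nat.card_zpowers, hxo]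
    obtain ⟨φ, hφ, hr⟩ := htr _ _ (haT.trans hTS) hxle hacard hxcard
    have hx : x ∈ φ.range := hr ▸ Subgroup.mem_zpowers x
    obtain ⟨y, rfl⟩ := hx
    exact hT.2 _ haT φ hφ y

end Cfsg.Agent.S5340
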