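import Cfsg.Statements.S5341
import Cfsg.Agent.Lib.Helper29.FusionSub

set_option autoImplicit false
open Cfsg

namespace Cfsg.Agent.S5341

/-- Let F be a saturated fusion system over a finite p-group S, T a subgroup strongly closed in F, and F′ any fusion system over T all of whose maps are maps of F. For a subgroup Q ≤ T: if Q is fully centralized in F then it is fully centralized in F′, and if Q is fully normalized in F then it is fully normalized in F′. -/
theorem result {Ω : Type*} [Group Ω] {S : Subgroup Ω} [Finite S] (p : ℕ) [Fact p.Prime] (hS : IsPGroup p S) (F : Cfsg.FusionSystem S) (hF : F.IsSaturated p) (T : Subgroup Ω) (hT : F.StronglyClosed T) (F' : Cfsg.FusionSystem T) (hsub : F'.IsSubsystemOf F) (Q : Subgroup Ω) (hQT : Q ≤ T) : (F.IsFullyCentralized Q → F'.IsFullyCentralized Q) ∧ (F.IsFullyNormalized Q → F'.IsFullyNormalized Q) := by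
  open Cfsg.Agent.Lib.Helper29 in
  have hTS : T ≤ S := hT.1
  have hsat := (Cfsg.Agent.S5077.result p hS F).1 hF
  constructor
  · intro hfc
    refine ⟨hQT, ?_⟩
    rintro Q' ⟨θ, hθ', hr⟩
    have hθ : θ ∈ F.Hom Q := hsub Q hθ'
    have hrec : F.IsReceptive Q := hsat.2 Q hfc
    obtain ⟨χ₀, hχ₀, hχr⟩ := isConj_symm F ⟨θ, hθ, hr⟩
    obtain ⟨ψ, hψ, hext⟩ := hrec.2 Q' χ₀ hχ₀ hχr
    have hψinj := F.injective_of_mem hψ
    have hCT : FusionSystem.centralizerIn T Q' ≤ FusionSystem.centralizerIn S Q' :=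
      fun c hc => ⟨hTS hc.1, hc.2⟩
    have hle : FusionSystem.centralizerIn T Q' ≤ FusionSystem.extender S Q' χ₀ :=
      hCT.trans (centralizerIn_le_extender Q' χ₀)
    have hmem : ∀ c : FusionSystem.centralizerIn T Q', ψ ⟨c.1, hle c.2⟩ ∈ FusionSystem.centralizerIn T Q := by
      intro c
      have h1 := ext_centralizer F hχ₀ hχr hψ hext c.1 (hCT c.2)
      have h2 := hT.2 (FusionSystem.centralizerIn T Q') inf_le_left _ (restrict_mem F hle hψ) c
      exact ⟨h2, h1.2⟩
    have : Finite (FusionSystem.centralizerIn T Q) := finite_of_le ((inf_le_left : _ ≤ T).trans hTS)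
    apply Nat.card_le_card_of_injective
      (fun c => (⟨ψ ⟨c.1, hle c.2⟩, hmem c⟩ : FusionSystem.centralizerIn T Q))
    intro c c' hcc
    have h1 : ψ ⟨c.1, hle c.2⟩ = ψ ⟨c'.1, hle c'.2⟩ := congrArg Subtype.val hcc
    have h2 := hψinj h1
    have h3 : ((⟨c.1, hle c.2⟩ : FusionSystem.extender S Q' χ₀) : Ω) =
        ((⟨c'.1, hle c'.2⟩ : FusionSystem.extender S Q' χ₀) : Ω) :=
      congrArg (fun y : FusionSystem.extender S Q' χ₀ => (y : Ω)) h2
    exact Subtype.ext h3
  · intro hfn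
    refine ⟨hQT, ?_⟩
    rintro Q' ⟨θ, hθ', hr⟩
    have hθ : θ ∈ F.Hom Q := hsub Q hθ'
    obtain ⟨hfc, hfa⟩ := hsat.1 Q hfn
    have hrec : F.IsReceptive Q := hsat.2 Q hfc
    obtain ⟨φ, hφ, hφN, _, _⟩ := exists_hom_normalizer p hS F Q Q' hfa hrec (isConj_symm F ⟨θ, hθ, hr⟩)
    have hφinj := F.injective_of_mem hφ
    have hle : FusionSystem.normalizerIn T Q' ≤ FusionSystem.normalizerIn S Q' :=
      fun c hc => ⟨hTS hc.1, hc.2⟩
    have hmem : ∀ c : FusionSystem.normalizerIn T Q', φ ⟨c.1, hle c.2⟩ ∈ FusionSystem.normalizerIn T Q := by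
      intro c
      have h1 := hφN ⟨c.1, hle c.2⟩
      have h2 := hT.2 (FusionSystem.normalizerIn T Q') inf_le_left _ (restrict_mem F hle hφ) c
      exact ⟨h2, h1.2⟩
    have : Finite (FusionSystem.normalizerIn T Q) := finite_of_le ((inf_le_left : _ ≤ T).trans hTS)
    apply Nat.card_le_card_of_injective
      (fun c => (⟨φ ⟨c.1, hle c.2⟩, hmem c⟩ : FusionSystem.normalizerIn T Q))
    intro c c' hcc
    have h1 : φ ⟨c.1, hle c.2⟩ = φ ⟨c'.1, hle c'.2⟩ := congrArg Subtype.val hcc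
    have h2 := hφinj h1
    have h3 : ((⟨c.1, hle c.2⟩ : FusionSystem.normalizerIn S Q') : Ω) =
        ((⟨c'.1, hle c'.2⟩ : FusionSystem.normalizerIn S Q') : Ω) :=
      congrArg (fun y : FusionSystem.normalizerIn S Q' => (y : Ω)) h2
    exact Subtype.ext h3

end Cfsg.Agent.S5341
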