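import Cfsg.Statements.S5342
import Cfsg.Agent.Lib.Helper29.SubnormalConstrained

set_option autoImplicit false
open Cfsg

namespace Cfsg.Agent.S5342

/-- Let F be a constrained saturated fusion system over a finite p-group S. Then every subsystem of F that is subnormal in F (reached from F by a finite chain of successive normal subsystems) is constrained. -/
theorem result {Ω : Type*} [Group Ω] {S : Subgroup Ω} [Finite S] (p : ℕ) [Fact p.Prime] (hS : IsPGroup p S) (F : Cfsg.FusionSystem S) (hF : F.IsConstrained p) {T : Subgroup Ω} (E : Cfsg.FusionSystem T) (hE : E.IsSubnormalIn F p) : E.IsConstrained p := by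
  open Cfsg.Agent.Lib.Helper29 in
  have key : ∀ {T S : Subgroup Ω} (E : FusionSystem T) (F : FusionSystem S) (p : ℕ),
      E.IsSubnormalIn F p → Finite S → Fact p.Prime → IsPGroup p S → F.IsConstrained p →
      E.IsConstrained p := by
    intro T S E F p h
    induction h with
    | refl F p => exact fun _ _ _ hF => hF
    | @step U S E D F p hED hDF ih =>
      intro hfin hp hS hF
      have hDs : D.IsSaturated p := hDF.1.1
      have hDsub : D.IsSubsystemOf F := hDF.1.2.2.1
      have hUsc : F.StronglyClosed U := hDF.1.2.2.2.1
      have hUS : U ≤ S := hUsc.1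
      exact ih (finite_of_le hUS) hp (hS.to_le hUS) (constrained_of_subsystem p hS F hF D hDs hDsub hUsc)
  exact key E F p hE inferInstance inferInstance hS hF

end Cfsg.Agent.S5342
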