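import Cfsg.Statements.S5343
import Mathlib
import Cfsg.Agent.Lib.Helper25.RealizedNormal
-- import your own Cfsg.Agent.* helpers here

set_option autoImplicit false
universe u
open Cfsg

namespace Cfsg.Agent.S5343

open Cfsg.Agent.Lib.Helper29 Cfsg.Agent.Lib.Helper25
open scoped Pointwise

/-- if `T ∩ N = 1` then the quotient by `N` realizes the same system -/
theorem quotient_realized {Ω : Type u} [Group Ω] {S : Subgroup Ω} [Finite S] (p : ℕ) [Fact p.Prime]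
    (hS : IsPGroup p S) (F : Cfsg.FusionSystem S) {G : Type u} [Group G] [Finite G] (ι : ↥S →* G)
    (hR : F.IsRealizedBy ι) (T : Sylow p G) (hT : (T : Subgroup G) = ι.range) (N : Subgroup G) [hN : N.Normal]
    (hTN : ∀ y, y ∈ (T : Subgroup G) → y ∈ N → y = 1) :
    F.IsRealizedBy ((QuotientGroup.mk' N).comp ι) := by
  refine ⟨?_, fun P hP φ hφ => ?_⟩
  · intro x y hxy
    have h1 : (ι x)⁻¹ * ι y ∈ N := QuotientGroup.eq.1 hxy
    have h2 : (ι x)⁻¹ * ι y ∈ (T : Subgroup G) := by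
      rw [hT]
      exact ι.range.mul_mem (ι.range.inv_mem ⟨x, rfl⟩) ⟨y, rfl⟩
    have h3 := hTN _ h2 h1
    apply hR.1
    exact inv_mul_eq_one.1 h3
  · rw [hR.2 P hP φ hφ]
    constructor
    · rintro ⟨g, hg⟩
      refine ⟨QuotientGroup.mk g, fun x => ?_⟩
      show (QuotientGroup.mk (ι ⟨φ x, hφ x⟩) : G ⧸ N) = _
      rw [hg x]
      rfl
    · rintro ⟨gbar, hg⟩
      obtain ⟨g, rfl⟩ := QuotientGroup.mk_surjective gbar
      have hmod : ∀ x : P, (ι ⟨φ x, hφ x⟩)⁻¹ * (g * ι ⟨x, hP x.2⟩ * g⁻¹) ∈ N := by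
        intro x
        apply QuotientGroup.eq.1
        exact hg x
      have hφT : ∀ x : P, ι ⟨φ x, hφ x⟩ ∈ (T : Subgroup G) := by
        intro x
        rw [hT]
        exact ⟨_, rfl⟩
      let B : Subgroup G := cj g ((P.subgroupOf S).map ι)
      have hBp : IsPGroup p B := isPGroup_cj ((hS.to_subgroup (P.subgroupOf S)).map ι)
      have hBmem : ∀ x : P, g * ι ⟨x, hP x.2⟩ * g⁻¹ ∈ B := by
        intro x
        exact conj_mem_cj ⟨⟨x.1, hP x.2⟩, x.2, rfl⟩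
      have hBK : B ≤ (T : Subgroup G) ⊔ N := by
        rintro _ ⟨_, ⟨s, hs, rfl⟩, rfl⟩
        have h1 := hmod ⟨s.1, hs⟩
        have h2 := hφT ⟨s.1, hs⟩
        have e : (MulAut.conj g).toMonoidHom (ι s) =
            ι ⟨φ ⟨s.1, hs⟩, hφ _⟩ * ((ι ⟨φ ⟨s.1, hs⟩, hφ _⟩)⁻¹ * (g * ι ⟨s.1, hP hs⟩ * g⁻¹)) := by
          show g * ι s * g⁻¹ = _
          rw [mul_inv_cancel_left]
        rw [e]
        exact Subgroup.mul_mem _ ((le_sup_left : (T : Subgroup G) ≤ _) h2)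
          ((le_sup_right : N ≤ (T : Subgroup G) ⊔ N) h1)
      have hSyl : IsSylowSub p (T : Subgroup G) ((T : Subgroup G) ⊔ N) :=
        (isSylowSub_top T).of_le le_sup_left le_top
      obtain ⟨m, hm, hmB⟩ := exists_cj_le_of_isSylowSub hSyl hBK hBp
      have hm' : m ∈ ((T : Subgroup G) : Set G) * (N : Set G) := by
        rw [← Subgroup.mul_normal]
        exact hm
      obtain ⟨t, ht, n, hn, rfl⟩ := Set.mem_mul.1 hm'
      refine ⟨n * g, fun x => ?_⟩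
      have h1 : (t * n) * (g * ι ⟨x, hP x.2⟩ * g⁻¹) * (t * n)⁻¹ ∈ (T : Subgroup G) :=
        hmB (conj_mem_cj (hBmem x))
      have h2 : n * (g * ι ⟨x, hP x.2⟩ * g⁻¹) * n⁻¹ ∈ (T : Subgroup G) := by
        have h3 := (T : Subgroup G).mul_mem ((T : Subgroup G).mul_mem ((T : Subgroup G).inv_mem ht) h1) ht
        have e : t⁻¹ * ((t * n) * (g * ι ⟨x, hP x.2⟩ * g⁻¹) * (t * n)⁻¹) * t =
            n * (g * ι ⟨x, hP x.2⟩ * g⁻¹) * n⁻¹ := by group
        rwa [e] at h3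
      have h4 : (ι ⟨φ x, hφ x⟩)⁻¹ * (n * (g * ι ⟨x, hP x.2⟩ * g⁻¹) * n⁻¹) ∈ (T : Subgroup G) :=
        (T : Subgroup G).mul_mem ((T : Subgroup G).inv_mem (hφT x)) h2
      have h5 : (ι ⟨φ x, hφ x⟩)⁻¹ * (n * (g * ι ⟨x, hP x.2⟩ * g⁻¹) * n⁻¹) ∈ N := by
        have h6 : (g * ι ⟨x, hP x.2⟩ * g⁻¹)⁻¹ * n * (g * ι ⟨x, hP x.2⟩ * g⁻¹)⁻¹⁻¹ ∈ N :=
          hN.conj_mem n hn _
        have h7 := N.mul_mem (N.mul_mem (hmod x) h6) (N.inv_mem hn)
        have e : (ι ⟨φ x, hφ x⟩)⁻¹ * (g * ι ⟨x, hP x.2⟩ * g⁻¹) *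
            ((g * ι ⟨x, hP x.2⟩ * g⁻¹)⁻¹ * n * (g * ι ⟨x, hP x.2⟩ * g⁻¹)⁻¹⁻¹) * n⁻¹ =
            (ι ⟨φ x, hφ x⟩)⁻¹ * (n * (g * ι ⟨x, hP x.2⟩ * g⁻¹) * n⁻¹) := by group
        rwa [e] at h7
      have h8 := hTN _ h4 h5
      have h9 : ι ⟨φ x, hφ x⟩ = n * (g * ι ⟨x, hP x.2⟩ * g⁻¹) * n⁻¹ := inv_mul_eq_one.1 h8
      rw [h9]
      group

/-- Let F be a simple saturated fusion system over a finite p-group S that is realized by some finite group on a Sylow p-subgroup. Then F is realized by a finite simple group on a Sylow p-subgroup. -/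
theorem result {Ω : Type u} [Group Ω] {S : Subgroup Ω} [Finite S] (p : ℕ) [Fact p.Prime] (hS : IsPGroup p S) (F : Cfsg.FusionSystem S) (hsimple : F.IsSimple p) (hreal : F.IsRealizable p) : ∃ (G : Type u) (_ : Group G) (_ : Finite G) (_ : IsSimpleGroup G) (ι : ↥S →* G), F.IsRealizedBy ι ∧ ∃ T : Sylow p G, (T : Subgroup G) = ι.range := by
  classical
  let A : Set ℕ := {n | ∃ (G : Type u) (_ : Group G) (_ : Finite G) (ι : ↥S →* G),
    F.IsRealizedBy ι ∧ (∃ T : Sylow p G, (T : Subgroup G) = ι.range) ∧ Nat.card G = n}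
  have hA : A.Nonempty := by
    obtain ⟨G, i1, i2, ι, h1, h2⟩ := hreal
    exact ⟨Nat.card G, G, i1, i2, ι, h1, h2, rfl⟩
  obtain ⟨G, iG, iF, ι, hR, ⟨T, hT⟩, hcard⟩ := Nat.sInf_mem hA
  have hmin : ∀ (G' : Type u) [Group G'] [Finite G'] (ι' : ↥S →* G'), F.IsRealizedBy ι' →
      (∃ T : Sylow p G', (T : Subgroup G') = ι'.range) → Nat.card G ≤ Nat.card G' := by
    intro G' _ _ ι' h1 h2
    rw [hcard]
    exact Nat.sInf_le ⟨G', inferInstance, inferInstance, ι', h1, h2, rfl⟩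
  have hnt : Nontrivial G := by
    obtain ⟨a, ha⟩ := (Subgroup.ne_bot_iff_exists_ne_one).1 hsimple.2.1
    refine ⟨ι a, 1, fun h => ha ?_⟩
    apply hR.1
    rw [h, map_one]
  refine ⟨G, iG, iF, ?_, ι, hR, T, hT⟩
  refine @IsSimpleGroup.mk G _ hnt ?_
  intro N hN
  by_contra hcon
  push Not at hcon
  obtain ⟨hNbot, hNtop⟩ := hcon
  have hnorm := nSys_isNormalIn hR N p hS T hT
  rcases hsimple.2.2 _ _ hnorm with h0 | ⟨h1, h2⟩
  · -- the quotient realizes
    have hTN : ∀ y, y ∈ (T : Subgroup G) → y ∈ N → y = 1 := by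
      intro y hyT hyN
      rw [hT] at hyT
      obtain ⟨x, hx, rfl⟩ := exists_of_mem_range ι hyT
      have h3 : x ∈ preimg ι N := mem_preimg_iff.2 ⟨hx, hyN⟩
      rw [h0, Subgroup.mem_bot] at h3
      subst h3
      rw [iX_eq ι S.one_mem]
      exact map_one ι
    have hR' := quotient_realized p hS F ι hR T hT N hTN
    have hSyl' : ∃ T' : Sylow p (G ⧸ N),
        (T' : Subgroup (G ⧸ N)) = ((QuotientGroup.mk' N).comp ι).range := by
      refine ⟨T.mapSurjective (QuotientGroup.mk'_surjective N), ?_⟩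
      rw [Sylow.coe_mapSurjective, hT, MonoidHom.range_comp]
    have hlt : Nat.card (G ⧸ N) < Nat.card G := by
      rw [← Subgroup.index_eq_card, ← Subgroup.index_mul_card N]
      have h1 : 1 < Nat.card N := (Subgroup.one_lt_card_iff_ne_bot N).2 hNbot
      have h2 : 0 < N.index := Nat.pos_of_ne_zero Subgroup.index_ne_zero_of_finite
      nlinarith
    exact absurd (hmin (G ⧸ N) _ hR' hSyl') (not_le.2 hlt)
  · -- the normal subgroup realizes
    have hιN : ∀ x : S, ι x ∈ N := by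
      intro x
      have h3 : (x : Ω) ∈ preimg ι N := by
        rw [h1]
        exact x.2
      exact (mem_preimg.1 h3).2
    have hR' : F.IsRealizedBy (ι.codRestrict N hιN) := by
      refine ⟨fun x y hxy => hR.1 (congrArg Subtype.val hxy), fun P hP φ hφ => ?_⟩
      constructor
      · intro hφF
        rw [← h2 P] at hφF
        obtain ⟨_, _, n, hn, h⟩ := hφF
        refine ⟨⟨n, hn⟩, fun x => Subtype.ext ?_⟩
        show ι ⟨φ x, hφ x⟩ = n * ι ⟨x, hP x.2⟩ * n⁻¹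
        have h3 := h x
        rwa [iX_eq ι (hφ x), iX_eq ι (hP x.2)] at h3
      · rintro ⟨g, hg⟩
        rw [hR.2 P hP φ hφ]
        exact ⟨g.1, fun x => congrArg Subtype.val (hg x)⟩
    have hTN : (T : Subgroup G) ≤ N := by
      rw [hT]
      rintro _ ⟨x, rfl⟩
      exact hιN x
    have hSyl' : ∃ T' : Sylow p N, (T' : Subgroup N) = (ι.codRestrict N hιN).range := by
      refine ⟨T.subtype hTN, ?_⟩
      rw [Sylow.coe_subtype]
      ext y
      rw [Subgroup.mem_subgroupOf, hT]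
      constructor
      · rintro ⟨x, hx⟩
        exact ⟨x, Subtype.ext hx⟩
      · rintro ⟨x, rfl⟩
        exact ⟨x, rfl⟩
    have hlt : Nat.card N < Nat.card G :=
      lt_of_le_of_ne (Subgroup.card_le_card_group N)
        (fun h => hNtop ((Subgroup.card_eq_iff_eq_top N).1 h))
    exact absurd (hmin N _ hR' hSyl') (not_le.2 hlt)

end Cfsg.Agent.S5343
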