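import Cfsg.Statements.S5344
import Mathlib
import Cfsg.Agent.Lib.Helper1.CoxeterA

set_option autoImplicit false
open Cfsg

namespace Cfsg.Agent.S5344


open Equiv

set_option maxRecDepth 100000 in
lemma s4_normal_closure : ∀ σ : Perm (Fin 4), σ ≠ 1 → ∃ x y : Perm (Fin 4),
    (x * σ * x⁻¹ = swap 0 1 * swap 2 3) ∨ (x * σ * x⁻¹ * (y * σ * y⁻¹) = swap 0 1 * swap 2 3) := by
  decide

lemma cube_of_not_commute {G : Type*} [Group G] {x y : G} (hx : x * x = 1) (hy : y * y = 1)
    (h : (x * y) ^ 2 = 1 ∨ (x * y) ^ 3 = 1) (hnc : ¬ Commute x y) : (x * y) ^ 3 = 1 := by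
  rcases h with h | h
  · exfalso
    apply hnc
    have hxi : x⁻¹ = x := inv_eq_of_mul_eq_one_right hx
    have hyi : y⁻¹ = y := inv_eq_of_mul_eq_one_right hy
    have h2 : (x * y) * (x * y) = 1 := by rw [← pow_two]; exact h
    have h3 : (x * y)⁻¹ = x * y := inv_eq_of_mul_eq_one_right h2
    rw [mul_inv_rev, hxi, hyi] at h3
    exact h3.symm
  · exact h


/-- In a set of 3-transpositions, let a, b, c be members with a and c different and commuting, while neither a nor c commutes with b (a 3-string). Then there is an injective homomorphism from the symmetric group of degree 4 into the ambient group sending the transpositions (0 1), (1 2), (2 3) to a, b, c; so a, b, c generate a copy of the symmetric group of degree 4 in which they are transpositions. -/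
theorem result {G : Type*} [Group G] {D : Set G} (hD : Cfsg.IsThreeTranspositionSet D) {a b c : G} (ha : a ∈ D) (hb : b ∈ D) (hc : c ∈ D) (hac : a ≠ c) (hac' : Commute a c) (hab : ¬ Commute a b) (hbc : ¬ Commute b c) : ∃ φ : Equiv.Perm (Fin 4) →* G, Function.Injective φ ∧ φ (Equiv.swap 0 1) = a ∧ φ (Equiv.swap 1 2) = b ∧ φ (Equiv.swap 2 3) = c := by
  obtain ⟨hord, hprod⟩ := hD
  have sq : ∀ d ∈ D, d * d = 1 := by
    intro d hd
    rw [← pow_two, ← hord d hd]; exact pow_orderOf_eq_one d
  have ha2 := sq a ha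
  have hb2 := sq b hb
  have hc2 := sq c hc
  have hab3 : (a * b) ^ 3 = 1 := cube_of_not_commute ha2 hb2 (hprod a ha b hb) hab
  have hbc3 : (b * c) ^ 3 = 1 := cube_of_not_commute hb2 hc2 (hprod b hb c hc) hbc
  have hba3 : (b * a) ^ 3 = 1 :=
    cube_of_not_commute hb2 ha2 (hprod b hb a ha) (fun h => hab h.symm)
  have hcb3 : (c * b) ^ 3 = 1 :=
    cube_of_not_commute hc2 hb2 (hprod c hc b hb) (fun h => hbc h.symm)
  have hac2 : (a * c) ^ 2 = 1 := by
    rw [pow_two]
    calc a * c * (a * c) = a * (c * a) * c := by group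
      _ = a * (a * c) * c := by rw [hac'.eq]
      _ = (a * a) * (c * c) := by group
      _ = 1 := by rw [ha2, hc2, one_mul]
  have hca2 : (c * a) ^ 2 = 1 := by rw [← hac'.eq]; exact hac2
  let f : Fin 3 → G := ![a, b, c]
  have hlift : (CoxeterMatrix.A 3).IsLiftable f := by
    intro i j
    rw [Cfsg.Agent.Lib.Helper1.CoxA.A_apply]
    fin_cases i <;> fin_cases j <;> simp [f, ha2, hb2, hc2, hab3, hbc3, hba3, hcb3, hac2, hca2]
  let cs := Cfsg.Agent.Lib.Helper1.CoxA.coxeterSystemPerm 3
  let φ : Perm (Fin 4) →* G := cs.lift ⟨f, hlift⟩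
  have hφ : ∀ i : Fin 3, φ (swap i.castSucc i.succ) = f i := by
    intro i
    have := cs.lift_apply_simple hlift i
    rw [Cfsg.Agent.Lib.Helper1.CoxA.coxeterSystemPerm_simple] at this
    exact this
  have h0 : φ (swap 0 1) = a := hφ 0
  have h1 : φ (swap 1 2) = b := hφ 1
  have h2 : φ (swap 2 3) = c := hφ 2
  refine ⟨φ, ?_, h0, h1, h2⟩
  rw [injective_iff_map_eq_one]
  intro σ hσ
  by_contra hne
  obtain ⟨x, y, hxy⟩ := s4_normal_closure σ hne
  have hv : φ (swap 0 1 * swap 2 3) = 1 := by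
    rcases hxy with h | h
    · rw [← h, map_mul, map_mul, hσ, mul_one, ← map_mul, mul_inv_cancel, map_one]
    · rw [← h, map_mul, map_mul, map_mul, map_mul, map_mul, hσ, mul_one, mul_one, ← map_mul,
        mul_inv_cancel, map_one, one_mul, ← map_mul, mul_inv_cancel, map_one]
  rw [map_mul, h0, h2] at hv
  apply hac
  have hci : c⁻¹ = c := inv_eq_of_mul_eq_one_right hc2
  rw [← hci]
  exact eq_inv_of_mul_eq_one_left hv

end Cfsg.Agent.S5344
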