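import Cfsg.Statements.S5355
import Mathlib
import Cfsg.Agent.S5344

set_option autoImplicit false
open Cfsg

namespace Cfsg.Agent.S5355

open Equiv

/-- In a 3-string a—x—c, the conjugate of x by a*c commutes with x and differs from x. -/
lemma string_partner {G : Type*} [Group G] {D : Set G} (hD : Cfsg.IsThreeTranspositionSet D)
    {a x c : G} (ha : a ∈ D) (hx : x ∈ D) (hc : c ∈ D) (hac : a ≠ c) (hac' : Commute a c)
    (hax : ¬ Commute a x) (hxc : ¬ Commute x c) :
    Commute x ((a * c) * x * (a * c)⁻¹) ∧ (a * c) * x * (a * c)⁻¹ ≠ x := by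
  obtain ⟨φ, hinj, h0, h1, h2⟩ := Cfsg.Agent.S5344.result hD ha hx hc hac hac' hax hxc
  have e : (a * c) * x * (a * c)⁻¹ = φ (swap 0 3) := by
    rw [← h0, ← h1, ← h2, ← map_mul, ← map_mul, ← map_inv, ← map_mul]
    congr 1
    decide
  rw [e, ← h1]
  constructor
  · show φ (swap 1 2) * φ (swap 0 3) = φ (swap 0 3) * φ (swap 1 2)
    rw [← map_mul, ← map_mul]
    congr 1
    decide
  · intro h
    have := hinj h
    revert this
    decide


open Equiv

/-- partner property -/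
def Q {G : Type*} [Group G] (D : Set G) (x x' : G) : Prop :=
  x' ∈ D ∧ x' ≠ x ∧ Commute x x' ∧ (∀ y ∈ D, Commute x y → y = x ∨ y = x') ∧
    (∀ y ∈ D, Commute x' y → y = x ∨ y = x')

lemma commute_conj_iff {G : Type*} [Group G] (g x y : G) :
    Commute (g * x * g⁻¹) y ↔ Commute x (g⁻¹ * y * g) := by
  unfold Commute SemiconjBy
  constructor
  · intro h
    have e1 : x * (g⁻¹ * y * g) = g⁻¹ * ((g * x * g⁻¹) * y) * g := by group
    have e2 : g⁻¹ * y * g * x = g⁻¹ * (y * (g * x * g⁻¹)) * g := by group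
    rw [e1, e2, h]
  · intro h
    have e1 : g * x * g⁻¹ * y = g * (x * (g⁻¹ * y * g)) * g⁻¹ := by group
    have e2 : y * (g * x * g⁻¹) = g * ((g⁻¹ * y * g) * x) * g⁻¹ := by group
    rw [e1, e2, h]

lemma Q_conj {G : Type*} [Group G] {D : Set G} (hconj : ∀ y ∈ D, ∀ g : G, g * y * g⁻¹ ∈ D)
    {x x' : G} (h : Q D x x') (g : G) : Q D (g * x * g⁻¹) (g * x' * g⁻¹) := by
  obtain ⟨h1, h2, h3, h4, h5⟩ := h
  have hback : ∀ y ∈ D, g⁻¹ * y * g ∈ D := by
    intro y hy
    have := hconj y hy g⁻¹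
    rwa [inv_inv] at this
  have hyy : ∀ y : G, y = g * (g⁻¹ * y * g) * g⁻¹ := fun y => by group
  refine ⟨hconj x' h1 g, ?_, ?_, ?_, ?_⟩
  · intro he
    apply h2
    have : g⁻¹ * (g * x' * g⁻¹) * g = g⁻¹ * (g * x * g⁻¹) * g := by rw [he]
    have e1 : g⁻¹ * (g * x' * g⁻¹) * g = x' := by group
    have e2 : g⁻¹ * (g * x * g⁻¹) * g = x := by group
    rw [e1, e2] at this
    exact this
  · rw [commute_conj_iff]
    have e1 : g⁻¹ * (g * x' * g⁻¹) * g = x' := by group
    rw [e1]; exact h3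
  · intro y hy hc
    rw [commute_conj_iff] at hc
    rcases h4 _ (hback y hy) hc with h | h
    · left; rw [hyy y, h]
    · right; rw [hyy y, h]
  · intro y hy hc
    rw [commute_conj_iff] at hc
    rcases h5 _ (hback y hy) hc with h | h
    · left; rw [hyy y, h]
    · right; rw [hyy y, h]

lemma pair_lemma {G : Type*} [Group G] {D : Set G} (hT : Cfsg.IsThreeTranspositionSet D)
    (hconj : ∀ y ∈ D, ∀ g : G, g * y * g⁻¹ ∈ D) (hQ : ∀ x ∈ D, ∃ x', Q D x x')
    {s s' x x' : G} (hs : s ∈ D) (hs' : s' ∈ D) (hne : s ≠ s') (hc : Commute s s')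
    (hx : x ∈ D) (hxx' : Q D x x') :
    (x = s ∨ x = s') ∨ ((s * s') * x * (s * s')⁻¹ = x') := by
  obtain ⟨s'', hq⟩ := hQ s hs
  have hs'' : s' = s'' := (hq.2.2.2.1 s' hs' hc).resolve_left (fun h => hne h.symm)
  subst hs''
  by_cases h1 : Commute s x
  · left; exact hq.2.2.2.1 x hx h1
  by_cases h2 : Commute s' x
  · left; exact hq.2.2.2.2 x hx h2
  right
  obtain ⟨hcomm, hne'⟩ := string_partner hT hs hx hs' hne hc h1 (fun h => h2 h.symm)
  have hyD : (s * s') * x * (s * s')⁻¹ ∈ D := hconj x hx _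
  exact (hxx'.2.2.2.1 _ hyD hcomm).resolve_left hne'


open Equiv


/-- Let D be a conjugacy class of 3-transpositions generating the finite group G, with at least two members, and d a member of D. Suppose that every member of D commuting with d commutes with exactly the same members of D as d does, and that exactly one member of D other than d commutes with d. Then G is isomorphic to the symmetric group of degree 4. -/
theorem result {G : Type*} [Group G] [Finite G] {D : Set G} (hD : Cfsg.IsThreeTranspositionClass D) (hD2 : ∃ a ∈ D, ∃ b ∈ D, a ≠ b) {d : G} (hd : d ∈ D) (hV : {y : G | y ∈ D ∧ Commute d y} = {v : G | v ∈ D ∧ ∀ e ∈ D, Commute v e ↔ Commute d e}) (hm : {y : G | y ∈ D ∧ Commute d y}.ncard = 2) : Nonempty (G ≃* Equiv.Perm (Fin 4)) := by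
  classical
  obtain ⟨hT, ⟨d0, hd0, hDconj⟩, hgen⟩ := hD
  -- D closed under conjugation, and any element is a conjugate of d
  have mc : ∀ y, y ∈ D ↔ IsConj d0 y := fun y => by rw [hDconj]; exact Iff.rfl
  have hconj : ∀ y ∈ D, ∀ g : G, g * y * g⁻¹ ∈ D := by
    intro y hy g
    rw [mc] at hy ⊢
    exact hy.trans (isConj_iff.2 ⟨g, rfl⟩)
  have hall : ∀ x ∈ D, ∃ g : G, g * d * g⁻¹ = x := by
    intro x hx
    rw [mc] at hx
    have hd' := (mc d).1 hd
    exact isConj_iff.1 (hd'.symm.trans hx)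
  -- the partner of d
  obtain ⟨u, v, huv, hC⟩ := Set.ncard_eq_two.1 hm
  have hdC : d ∈ {y : G | y ∈ D ∧ Commute d y} := ⟨hd, Commute.refl d⟩
  have hQd : ∃ e, Q D d e := by
    have hmemiff : ∀ y, (y ∈ D ∧ Commute d y) ↔ (y = u ∨ y = v) := by
      intro y
      have : y ∈ {y : G | y ∈ D ∧ Commute d y} ↔ y ∈ ({u, v} : Set G) := by rw [hC]
      simpa using this
    have hdu := (hmemiff d).1 hdC
    have hsec : ∀ e, e ∈ D → Commute d e → ∀ y ∈ D, Commute e y → Commute d y := by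
      intro e he hce y hy hey
      have : e ∈ {v : G | v ∈ D ∧ ∀ e ∈ D, Commute v e ↔ Commute d e} := by
        rw [← hV]; exact ⟨he, hce⟩
      exact (this.2 y hy).1 hey
    rcases hdu with rfl | rfl
    · have hv := (hmemiff v).2 (Or.inr rfl)
      refine ⟨v, hv.1, fun h => huv h.symm, hv.2, ?_, ?_⟩
      · intro y hy hc; exact (hmemiff y).1 ⟨hy, hc⟩
      · intro y hy hc; exact (hmemiff y).1 ⟨hy, hsec v hv.1 hv.2 y hy hc⟩
    · have hu := (hmemiff u).2 (Or.inl rfl)
      refine ⟨u, hu.1, huv, hu.2, ?_, ?_⟩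
      · intro y hy hc; exact ((hmemiff y).1 ⟨hy, hc⟩).symm
      · intro y hy hc; exact ((hmemiff y).1 ⟨hy, hsec u hu.1 hu.2 y hy hc⟩).symm
  have hQ : ∀ x ∈ D, ∃ x', Q D x x' := by
    intro x hx
    obtain ⟨g, rfl⟩ := hall x hx
    obtain ⟨e, he⟩ := hQd
    exact ⟨_, Q_conj hconj he g⟩
  obtain ⟨e, hQe⟩ := hQd
  obtain ⟨heD, hed, hde, hQ4, hQ5⟩ := hQe
  -- an element b not commuting with d
  have hb : ∃ b ∈ D, ¬ Commute d b := by
    by_contra hcon
    push Not at hcon
    have hcent : d ∈ Subgroup.center G := by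
      rw [Subgroup.mem_center_iff]
      intro g
      have hg : g ∈ Subgroup.closure D := by rw [hgen]; exact Subgroup.mem_top g
      have : g ∈ Subgroup.centralizer ({d} : Set G) := by
        refine (Subgroup.closure_le (K := Subgroup.centralizer ({d} : Set G))).2 ?_ hg
        intro y hy
        rw [SetLike.mem_coe, Subgroup.mem_centralizer_iff]
        intro z hz
        rw [Set.mem_singleton_iff] at hz
        rw [hz]
        exact (hcon y hy).eq
      rw [Subgroup.mem_centralizer_iff] at this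
      exact (this d rfl).symm
    obtain ⟨a, ha, b, hb, hab⟩ := hD2
    obtain ⟨g1, rfl⟩ := hall a ha
    obtain ⟨g2, rfl⟩ := hall b hb
    apply hab
    rw [Subgroup.mem_center_iff] at hcent
    have e1 : g1 * d * g1⁻¹ = d := by rw [hcent g1]; group
    have e2 : g2 * d * g2⁻¹ = d := by rw [hcent g2]; group
    rw [e1, e2]
  obtain ⟨b, hbD, hdb⟩ := hb
  have hbe : ¬ Commute b e := by
    intro h
    rcases hQ5 b hbD h.symm with h' | h'
    · rw [h'] at hdb; exact hdb (Commute.refl d)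
    · rw [h'] at hdb; exact hdb hde
  obtain ⟨φ, hinj, h0, h1, h2⟩ := Cfsg.Agent.S5344.result hT hd hbD heD (fun h => hed h.symm) hde hdb hbe
  -- the six transpositions lie in D
  have m01 : φ (swap 0 1) ∈ D := by rw [h0]; exact hd
  have m12 : φ (swap 1 2) ∈ D := by rw [h1]; exact hbD
  have m23 : φ (swap 2 3) ∈ D := by rw [h2]; exact heD
  have m02 : φ (swap 0 2) ∈ D := by
    have : (swap 0 2 : Perm (Fin 4)) = swap 1 2 * swap 0 1 * (swap 1 2)⁻¹ := by decide
    rw [this, map_mul, map_mul, map_inv]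
    exact hconj _ m01 _
  have m13 : φ (swap 1 3) ∈ D := by
    have : (swap 1 3 : Perm (Fin 4)) = swap 1 2 * swap 2 3 * (swap 1 2)⁻¹ := by decide
    rw [this, map_mul, map_mul, map_inv]
    exact hconj _ m23 _
  have m03 : φ (swap 0 3) ∈ D := by
    have : (swap 0 3 : Perm (Fin 4)) = (swap 0 1 * swap 2 3) * swap 1 2 * (swap 0 1 * swap 2 3)⁻¹ := by
      decide
    rw [this, map_mul, map_mul, map_inv]
    exact hconj _ m12 _
  have hcomm : ∀ σ τ : Perm (Fin 4), σ * τ = τ * σ → Commute (φ σ) (φ τ) := by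
    intro σ τ h
    show φ σ * φ τ = φ τ * φ σ
    rw [← map_mul, ← map_mul, h]
  have hne : ∀ σ τ : Perm (Fin 4), σ ≠ τ → φ σ ≠ φ τ := fun σ τ h h' => h (hinj h')
  have key : ∀ x ∈ D, x ∈ φ.range := by
    intro x hx
    obtain ⟨x', hxx'⟩ := hQ x hx
    have p1 := pair_lemma hT hconj hQ m01 m23 (hne _ _ (by decide)) (hcomm _ _ (by decide)) hx hxx'
    have p2 := pair_lemma hT hconj hQ m12 m03 (hne _ _ (by decide)) (hcomm _ _ (by decide)) hx hxx'
    have p3 := pair_lemma hT hconj hQ m02 m13 (hne _ _ (by decide)) (hcomm _ _ (by decide)) hx hxx'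
    rcases p1 with (h | h) | q1
    · exact ⟨_, h.symm⟩
    · exact ⟨_, h.symm⟩
    rcases p2 with (h | h) | q2
    · exact ⟨_, h.symm⟩
    · exact ⟨_, h.symm⟩
    rcases p3 with (h | h) | q3
    · exact ⟨_, h.symm⟩
    · exact ⟨_, h.symm⟩
    exfalso
    apply hxx'.2.1
    rw [← map_mul] at q1 q2 q3
    set v1 : Perm (Fin 4) := swap 0 1 * swap 2 3 with hv1
    set v2 : Perm (Fin 4) := swap 1 2 * swap 0 3 with hv2
    set v3 : Perm (Fin 4) := swap 0 2 * swap 1 3 with hv3
    have e3 : v3 = v1 * v2 := by decide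
    have e1 : v1 * v1 = 1 := by decide
    have hz1 : φ v1 * φ v1 = 1 := by rw [← map_mul, e1, map_one]
    have hz1i : (φ v1)⁻¹ = φ v1 := inv_eq_of_mul_eq_one_right hz1
    calc x' = φ v3 * x * (φ v3)⁻¹ := q3.symm
      _ = φ v1 * (φ v2 * x * (φ v2)⁻¹) * (φ v1)⁻¹ := by rw [e3, map_mul]; group
      _ = φ v1 * (φ v1 * x * (φ v1)⁻¹) * (φ v1)⁻¹ := by rw [q2, q1]
      _ = (φ v1 * φ v1) * x * (φ v1 * φ v1)⁻¹ := by group
      _ = x := by rw [hz1]; group
  have hsurj : Function.Surjective φ := by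
    rw [← MonoidHom.range_eq_top, eq_top_iff, ← hgen, Subgroup.closure_le]
    exact key
  exact ⟨(MulEquiv.ofBijective φ ⟨hinj, hsurj⟩).symm⟩

end Cfsg.Agent.S5355
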