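import Cfsg.Statements.S5358

set_option autoImplicit false
open Cfsg
open scoped MatrixGroups

namespace Cfsg.Agent.S5358

/-- The dot product of the polar vector of `u` with `x` is the polar form `B(u, x)`. -/
theorem polarVec_dotProduct (n : ℕ) (Q : QuadraticForm (ZMod 3) (Fin n → ZMod 3))
    (u x : Fin n → ZMod 3) :
    Cfsg.polarVec (⇑Q) u ⬝ᵥ x = QuadraticMap.polar (⇑Q) u x := by
  rw [← QuadraticMap.polarBilin_apply_apply, LinearMap.pi_apply_eq_sum_univ (Q.polarBilin u) x]
  unfold dotProduct Cfsg.polarVec
  apply Finset.sum_congr rfl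
  intro i _
  rw [smul_eq_mul, mul_comm, QuadraticMap.polarBilin_apply_apply]
  congr 2
  ext j
  simp [Pi.single_apply, eq_comm]

theorem zmod3_cases (c : ZMod 3) : c = 0 ∨ c = 1 ∨ c = -1 := by
  revert c; decide

/-- Let Q be a non-degenerate quadratic form on the n-dimensional coordinate space over the field with three elements and u, v vectors of the same non-zero norm Q(u) = Q(v) spanning different lines (v ≠ u and v ≠ −u). Then the reflection matrices of u and v commute if and only if u and v are orthogonal for the polar form of Q. -/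
theorem result (n : ℕ) (Q : QuadraticForm (ZMod 3) (Fin n → ZMod 3)) (hQ : (QuadraticMap.polarBilin Q).Nondegenerate) (u v : Fin n → ZMod 3) (hu : Q u ≠ 0) (huv : Q u = Q v) (h1 : v ≠ u) (h2 : v ≠ -u) : Commute (Cfsg.reflectionMatrix (⇑Q) u) (Cfsg.reflectionMatrix (⇑Q) v) ↔ QuadraticMap.polar (⇑Q) u v = 0 := by
  set pu := Cfsg.polarVec (⇑Q) u with hpu
  set pv := Cfsg.polarVec (⇑Q) v with hpv
  set a : ZMod 3 := (Q u)⁻¹ with ha
  have ha0 : a ≠ 0 := inv_ne_zero hu
  have hRu : Cfsg.reflectionMatrix (⇑Q) u = 1 - a • Matrix.vecMulVec u pu := rfl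
  have hRv : Cfsg.reflectionMatrix (⇑Q) v = 1 - a • Matrix.vecMulVec v pv := by
    unfold Cfsg.reflectionMatrix
    rw [← huv]
  have hUV : Matrix.vecMulVec u pu * Matrix.vecMulVec v pv
      = (QuadraticMap.polar (⇑Q) u v) • Matrix.vecMulVec u pv := by
    rw [Matrix.vecMulVec_mul_vecMulVec, Matrix.vecMulVec_smul, hpu, polarVec_dotProduct]
  have hVU : Matrix.vecMulVec v pv * Matrix.vecMulVec u pu
      = (QuadraticMap.polar (⇑Q) u v) • Matrix.vecMulVec v pu := by
    rw [Matrix.vecMulVec_mul_vecMulVec, Matrix.vecMulVec_smul, hpv, polarVec_dotProduct,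
      QuadraticMap.polar_comm]
  -- commutation reduces to UV = VU
  have hcomm : Commute (Cfsg.reflectionMatrix (⇑Q) u) (Cfsg.reflectionMatrix (⇑Q) v) ↔
      Matrix.vecMulVec u pu * Matrix.vecMulVec v pv = Matrix.vecMulVec v pv * Matrix.vecMulVec u pu := by
    rw [hRu, hRv]
    generalize Matrix.vecMulVec u pu = U
    generalize Matrix.vecMulVec v pv = V
    unfold Commute SemiconjBy
    simp only [sub_mul, mul_sub, one_mul, mul_one, Matrix.smul_mul, Matrix.mul_smul, smul_smul]
    have haa : a * a ≠ 0 := mul_ne_zero ha0 ha0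
    constructor
    · intro h
      have h' : (a * a) • (U * V) = (a * a) • (V * U) := by
        generalize (a * a) • (U * V) = X at h ⊢
        generalize (a * a) • (V * U) = Y at h ⊢
        have h3 : X = (1 - a • U - (a • V - X)) - (1 - a • U - a • V) := by abel
        have h4 : Y = (1 - a • V - (a • U - Y)) - (1 - a • U - a • V) := by abel
        rw [h3, h4, h]
      have := congrArg (fun M => (a * a)⁻¹ • M) h'
      simpa only [smul_smul, inv_mul_cancel₀ haa, one_smul] using this
    · intro h
      rw [h]
      abel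
  rw [hcomm, hUV, hVU]
  constructor
  · intro h
    by_contra hB
    have h' : Matrix.vecMulVec u pv = Matrix.vecMulVec v pu := by
      have := congrArg (fun M => (QuadraticMap.polar (⇑Q) u v)⁻¹ • M) h
      simpa [smul_smul, inv_mul_cancel₀ hB] using this
    -- some coordinate of pu is nonzero
    have hu0 : u ≠ 0 := by
      intro h0
      apply hu
      rw [h0]
      exact QuadraticMap.map_zero Q
    have hex : ∃ j, pu j ≠ 0 := by
      by_contra hall
      push Not at hall
      apply hu0
      apply hQ.1 u
      intro y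
      rw [QuadraticMap.polarBilin_apply_apply, ← polarVec_dotProduct]
      unfold dotProduct
      apply Finset.sum_eq_zero
      intro i _
      rw [← hpu, hall i, zero_mul]
    obtain ⟨j, hj⟩ := hex
    have hv : v = (pv j / pu j) • u := by
      ext i
      have := congrFun (congrFun h' i) j
      simp only [Matrix.vecMulVec_apply] at this
      rw [Pi.smul_apply, smul_eq_mul]
      field_simp
      rw [← this]; ring
    rcases zmod3_cases (pv j / pu j) with hc | hc | hc
    · rw [hc, zero_smul] at hv
      apply hu
      rw [huv, hv]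
      exact QuadraticMap.map_zero Q
    · rw [hc, one_smul] at hv
      exact h1 hv
    · rw [hc, neg_smul, one_smul] at hv
      exact h2 hv
  · intro h
    rw [h, zero_smul, zero_smul]

end Cfsg.Agent.S5358
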