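import Cfsg.Statements.S5363

set_option autoImplicit false
open Cfsg

namespace Cfsg.Agent.S5363

theorem inv_self_of_order_two {G : Type*} [Group G] (d : G) (h : orderOf d = 2) : d * d = 1 := by
  have := pow_orderOf_eq_one d
  rw [h, pow_two] at this
  exact this

/-- `a * (a*b)^k * a = (b*a)^k` for an involution `a`. -/
theorem conj_pow_invol {G : Type*} [Group G] (a b : G) (ha : a * a = 1) (k : ℕ) :
    a * (a * b) ^ k * a = (b * a) ^ k := by
  have hainv : a⁻¹ = a := inv_eq_of_mul_eq_one_right ha
  have : a * (a * b) ^ k * a⁻¹ = (a * (a * b) * a⁻¹) ^ k := by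
    rw [_root_.conj_pow]
  rw [hainv] at this
  rw [this]
  congr 1
  rw [← mul_assoc, ha, one_mul]

theorem ba_eq_inv {G : Type*} [Group G] (a b : G) (ha : a * a = 1) (hb : b * b = 1) :
    b * a = (a * b)⁻¹ := by
  rw [mul_inv_rev, inv_eq_of_mul_eq_one_right ha, inv_eq_of_mul_eq_one_right hb]

/-- The element `a * (a*b)^m` lies in `D` (it is a conjugate of `a` or of `b`). -/
theorem mul_pow_mem {G : Type*} [Group G] {D : Set G}
    (hconj : ∀ g : G, ∀ d ∈ D, g * d * g⁻¹ ∈ D) (a b : G) (haD : a ∈ D) (hbD : b ∈ D)
    (ha : a * a = 1) (hb : b * b = 1) (m : ℕ) : a * (a * b) ^ m ∈ D := by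
  have hainv : a⁻¹ = a := inv_eq_of_mul_eq_one_right ha
  -- a (ab)^k = (ba)^k a
  have hswap : ∀ k : ℕ, a * (a * b) ^ k = (b * a) ^ k * a := by
    intro k
    have := conj_pow_invol a b ha k
    calc a * (a * b) ^ k = a * (a * b) ^ k * a * a := by rw [mul_assoc _ a a, ha, mul_one]
      _ = (b * a) ^ k * a := by rw [this]
  have hinvk : ∀ k : ℕ, ((b * a) ^ k)⁻¹ = (a * b) ^ k := by
    intro k
    rw [ba_eq_inv a b ha hb, inv_pow, inv_inv]
  rcases Nat.even_or_odd' m with ⟨k, hk | hk⟩
  · -- m = 2k: a (ab)^{2k} = (ba)^k a (ab)^k = g a g⁻¹ with g = (ba)^k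
    have : a * (a * b) ^ m = (b * a) ^ k * a * ((b * a) ^ k)⁻¹ := by
      rw [hinvk, hk, two_mul, pow_add, ← mul_assoc, hswap k]
    rw [this]
    exact hconj _ a haD
  · -- m = 2k+1: a (ab)^{2k+1} = (ba)^k a (ab) (ab)^k = (ba)^k b (ab)^k
    have : a * (a * b) ^ m = (b * a) ^ k * b * ((b * a) ^ k)⁻¹ := by
      rw [hinvk, hk]
      calc a * (a * b) ^ (2 * k + 1) = a * ((a * b) ^ k * (a * b) * (a * b) ^ k) := by
              rw [← pow_succ, ← pow_add]; congr 2; omega
        _ = (a * (a * b) ^ k) * (a * b) * (a * b) ^ k := by simp only [mul_assoc]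
        _ = (b * a) ^ k * a * (a * b) * (a * b) ^ k := by rw [hswap k]
        _ = (b * a) ^ k * b * (a * b) ^ k := by
              congr 1
              rw [mul_assoc, ← mul_assoc a a b, ha, one_mul]
    rw [this]
    exact hconj _ b hbD

/-- Let D be a conjugation-invariant set of involutions of a finite group G. Then every product of two members of D has odd order or order 2 if and only if, for every a in D and every b in D different from a and commuting with a, the members of D commuting with a b are exactly those commuting with both a and b. -/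
theorem result {G : Type*} [Group G] [Finite G] {D : Set G} (hinv : ∀ d ∈ D, orderOf d = 2) (hconj : ∀ g : G, ∀ d ∈ D, g * d * g⁻¹ ∈ D) : (∀ a ∈ D, ∀ b ∈ D, Odd (orderOf (a * b)) ∨ orderOf (a * b) = 2) ↔ ∀ a ∈ D, ∀ b ∈ D, b ≠ a → Commute a b → {y : G | y ∈ D ∧ Commute (a * b) y} = {y : G | y ∈ D ∧ Commute a y} ∩ {y : G | y ∈ D ∧ Commute b y} := by
  constructor
  · intro H a ha b hb hne hab
    have ha2 := inv_self_of_order_two a (hinv a ha)
    have hb2 := inv_self_of_order_two b (hinv b hb)
    ext y
    constructor
    · rintro ⟨hy, hc⟩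
      have hy2 := inv_self_of_order_two y (hinv y hy)
      -- z = a*b is an involution
      have hz2 : (a * b) ^ 2 = 1 := by
        rw [hab.mul_pow, pow_two, pow_two, ha2, hb2, one_mul]
      have hz1 : a * b ≠ 1 := by
        intro h
        apply hne
        have : b = a⁻¹ := (eq_inv_of_mul_eq_one_right h)
        rw [this, inv_eq_of_mul_eq_one_right ha2]
      have hzord : orderOf (a * b) = 2 := orderOf_eq_prime hz2 hz1
      -- z commutes with a
      have hza : Commute (a * b) a := (Commute.refl a).mul_left hab.symm
      have hzay : Commute (a * y) (a * b) := (hza.symm.mul_left hc.symm)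
      -- b * y = (a * y) * (a * b)
      have hby : b * y = (a * y) * (a * b) := by
        have : a * y * (a * b) = a * (a * b) * y := by
          rw [mul_assoc, ← hc.eq, ← mul_assoc]
        rw [this, ← mul_assoc a a b, ha2, one_mul]
      rcases H a ha y hy with hodd | h2
      · -- order of (a*y) odd
        have hcop : Nat.Coprime (orderOf (a * y)) (orderOf (a * b)) := by
          rw [hzord]
          exact Nat.Coprime.symm (Nat.coprime_two_left.mpr hodd)
        have hord := hzay.orderOf_mul_eq_mul_orderOf_of_coprime hcop
        rw [← hby, hzord] at hord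
        rcases H b hb y hy with hodd' | h2'
        · exfalso
          rw [hord] at hodd'
          exact (Nat.not_even_iff_odd.mpr hodd') (even_two.mul_left _)
        · rw [h2'] at hord
          have h1 : orderOf (a * y) = 1 := by omega
          have hay : a * y = 1 := orderOf_eq_one_iff.mp h1
          have hya : y = a := by
            have : y = a⁻¹ := eq_inv_of_mul_eq_one_right hay
            rw [this, inv_eq_of_mul_eq_one_right ha2]
          subst hya
          exact ⟨⟨hy, Commute.refl _⟩, ⟨hy, hab.symm⟩⟩
      · have hay : Commute a y := by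
          have h : (a * y) * (a * y) = 1 := by
            have := pow_orderOf_eq_one (a * y)
            rwa [h2, pow_two] at this
          show a * y = y * a
          have h3 : a * y = (a * y)⁻¹ := (inv_eq_of_mul_eq_one_right h).symm
          rw [mul_inv_rev, inv_eq_of_mul_eq_one_right ha2, inv_eq_of_mul_eq_one_right hy2] at h3
          exact h3
        refine ⟨⟨hy, hay⟩, ⟨hy, ?_⟩⟩
        -- b = a * (a*b)
        have hb' : b = a * (a * b) := by rw [← mul_assoc, ha2, one_mul]
        rw [hb']
        exact hay.mul_left hc
    · rintro ⟨⟨hy, h1⟩, ⟨_, h2⟩⟩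
      exact ⟨hy, h1.mul_left h2⟩
  · intro H a ha b hb
    have ha2 := inv_self_of_order_two a (hinv a ha)
    have hb2 := inv_self_of_order_two b (hinv b hb)
    rcases Nat.even_or_odd (orderOf (a * b)) with heven | hodd
    · right
      obtain ⟨m, hm⟩ := heven
      have hpos : 0 < orderOf (a * b) := orderOf_pos (a * b)
      have hmpos : 0 < m := by omega
      set w := (a * b) ^ m with hw
      have hw2 : w * w = 1 := by
        rw [hw, ← pow_add, ← hm]; exact pow_orderOf_eq_one _
      have hw1 : w ≠ 1 := by
        intro h
        have := orderOf_dvd_of_pow_eq_one h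
        have := Nat.le_of_dvd hmpos this
        omega
      -- a commutes with w
      have haw : Commute a w := by
        show a * w = w * a
        have h1 := conj_pow_invol a b ha2 m
        -- a w a = (ba)^m = w⁻¹ = w
        have hwinv : w⁻¹ = w := inv_eq_of_mul_eq_one_right hw2
        have h2 : (b * a) ^ m = w := by
          rw [ba_eq_inv a b ha2 hb2, inv_pow, ← hw, hwinv]
        rw [h2] at h1
        calc a * w = a * w * a * a := by rw [mul_assoc _ a a, ha2, mul_one]
          _ = w * a := by rw [h1]
      have hbw : Commute b w := by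
        -- b = a * (a*b), and (a*b) commutes with its power
        have hb' : b = a * (a * b) := by rw [← mul_assoc, ha2, one_mul]
        rw [hb']
        exact haw.mul_left (Commute.self_pow (a * b) m)
      have hmem : a * w ∈ D := mul_pow_mem hconj a b ha hb ha2 hb2 m
      have hne : a * w ≠ a := by
        intro h
        apply hw1
        exact mul_left_cancel (a := a) (by rw [h, mul_one])
      have hcomm : Commute a (a * w) := (Commute.refl a).mul_right haw
      have hset := H a ha (a * w) hmem hne hcomm
      have hbmem : b ∈ {y : G | y ∈ D ∧ Commute (a * (a * w)) y} := by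
        refine ⟨hb, ?_⟩
        rw [← mul_assoc, ha2, one_mul]
        exact hbw.symm
      rw [hset] at hbmem
      have hab : Commute a b := hbmem.1.2
      have hsq : (a * b) ^ 2 = 1 := by
        rw [hab.mul_pow, pow_two, pow_two, ha2, hb2, one_mul]
      have hdvd := orderOf_dvd_of_pow_eq_one hsq
      have hle := Nat.le_of_dvd (by norm_num) hdvd
      omega
    · left; exact hodd

end Cfsg.Agent.S5363
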