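import Cfsg.Statements.S5364

set_option autoImplicit false
open Cfsg

namespace Cfsg.Agent.S5364

theorem mem_zpowers_of_order_two {G : Type*} [Group G] (t : G) (ht : orderOf t = 2) (x : G)
    (hx : x ∈ Subgroup.zpowers t) : x = 1 ∨ x = t := by
  rw [Subgroup.mem_zpowers_iff] at hx
  obtain ⟨k, rfl⟩ := hx
  have ht2 : t ^ 2 = 1 := by rw [← ht]; exact pow_orderOf_eq_one t
  rcases Int.even_or_odd' k with ⟨m, hm | hm⟩
  · left
    rw [hm, zpow_mul, zpow_ofNat, ht2, one_zpow]
  · right
    rw [hm, zpow_add, zpow_mul, zpow_ofNat, ht2, one_zpow, one_mul, zpow_one]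

/-- Let D be a conjugation-invariant set of involutions of a finite group G and t an involution in the centre of G such that d t does not lie in D for any d in D. If the images of the members of D in G modulo the subgroup generated by t satisfy the 3-transposition order conditions (each has order 2 and any two have product of order at most 3), then so do the members of D. -/
theorem result {G : Type*} [Group G] [Finite G] {D : Set G} (hinv : ∀ d ∈ D, orderOf d = 2) (hconj : ∀ g : G, ∀ d ∈ D, g * d * g⁻¹ ∈ D) (t : G) (ht : orderOf t = 2) (htZ : t ∈ Subgroup.center G) (hDt : ∀ d ∈ D, d * t ∉ D) [(Subgroup.zpowers t).Normal] (himg : Cfsg.IsThreeTranspositionSet ((QuotientGroup.mk : G → G ⧸ Subgroup.zpowers t) '' D)) : Cfsg.IsThreeTranspositionSet D := by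
  refine ⟨hinv, ?_⟩
  intro d hd e he
  have hd2 : d * d = 1 := by
    have := pow_orderOf_eq_one d
    rw [hinv d hd, pow_two] at this
    exact this
  have he2 : e * e = 1 := by
    have := pow_orderOf_eq_one e
    rw [hinv e he, pow_two] at this
    exact this
  have hdinv : d⁻¹ = d := inv_eq_of_mul_eq_one_right hd2
  have heinv : e⁻¹ = e := inv_eq_of_mul_eq_one_right he2
  have htc : ∀ g : G, g * t = t * g := fun g => (Subgroup.mem_center_iff.mp htZ g)
  obtain ⟨_, h3⟩ := himg
  have := h3 (QuotientGroup.mk d) ⟨d, hd, rfl⟩ (QuotientGroup.mk e) ⟨e, he, rfl⟩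
  rcases this with h | h
  · -- (de)^2 ∈ ⟨t⟩
    have hmem : (d * e) ^ 2 ∈ Subgroup.zpowers t := by
      rw [← QuotientGroup.eq_one_iff]
      simpa using h
    rcases mem_zpowers_of_order_two t ht _ hmem with h1 | h1
    · left; exact h1
    · exfalso
      -- e d e = d t
      have key : e * d * e⁻¹ = d * t := by
        rw [heinv]
        have : d * e * (d * e) = t := by rw [← pow_two]; exact h1
        calc e * d * e = d * (d * e * (d * e)) := by
                simp only [← mul_assoc]; rw [hd2, one_mul]
          _ = d * t := by rw [this]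
      exact hDt d hd (key ▸ hconj e d hd)
  · have hmem : (d * e) ^ 3 ∈ Subgroup.zpowers t := by
      rw [← QuotientGroup.eq_one_iff]
      simpa using h
    rcases mem_zpowers_of_order_two t ht _ hmem with h1 | h1
    · right; exact h1
    · exfalso
      -- (de) d (de)⁻¹ = e t
      have key : (d * e) * d * (d * e)⁻¹ = e * t := by
        rw [mul_inv_rev, hdinv, heinv]
        have : d * e * (d * e) * (d * e) = t := by
          rw [← h1, pow_succ, pow_two]
        calc d * e * d * (e * d) = (d * e * (d * e) * (d * e)) * e := by
                simp only [mul_assoc]; rw [he2, mul_one]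
          _ = t * e := by rw [this]
          _ = e * t := (htc e).symm
      exact hDt e he (key ▸ hconj (d * e) d hd)

end Cfsg.Agent.S5364
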