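import Cfsg.Statements.S5365
import Mathlib
import Cfsg.Agent.Lib.Helper1.CoxeterA
import Cfsg.Agent.Lib.Lead.BaerSuzuki

set_option autoImplicit false
open Cfsg

namespace Cfsg.Agent.S5365


variable {G : Type*} [Group G]

/-- neighbour relation in the commuting graph on `D` -/
def Nbr (D : Set G) (t y : G) : Prop := y ∈ D ∧ y ≠ t ∧ Commute t y

/-- the package of hypotheses on `D` -/
structure TT (D : Set G) : Prop where
  ord : ∀ d ∈ D, orderOf d = 2
  prod : ∀ d ∈ D, ∀ e ∈ D, (d * e) ^ 2 = 1 ∨ (d * e) ^ 3 = 1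
  conj : ∀ g : G, ∀ d ∈ D, g * d * g⁻¹ ∈ D

section basic

variable {D : Set G} (h : TT D)

include h in
lemma sq_one {d : G} (hd : d ∈ D) : d * d = 1 := by
  have := h.ord d hd
  rw [← pow_two, ← this]; exact pow_orderOf_eq_one d

include h in
lemma inv_eq {d : G} (hd : d ∈ D) : d⁻¹ = d :=
  inv_eq_of_mul_eq_one_left (sq_one h hd)

include h in
lemma ne_one {d : G} (hd : d ∈ D) : d ≠ 1 := by
  intro h1
  have := h.ord d hd
  rw [h1, orderOf_one] at this
  omega

include h in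
lemma cancel_l {d : G} (hd : d ∈ D) (z : G) : d * (d * z) = z := by
  rw [← mul_assoc, sq_one h hd, one_mul]

include h in
lemma conj_inv_mem {t y : G} (ht : t ∈ D) (hy : y ∈ D) : t * y * t ∈ D := by
  have := h.conj t y hy
  rwa [inv_eq h ht] at this

include h in
lemma cube {x y : G} (hx : x ∈ D) (hy : y ∈ D) (hc : ¬ Commute x y) : (x * y) ^ 3 = 1 := by
  rcases h.prod x hx y hy with h2 | h3
  · exfalso
    apply hc
    -- x y x y = 1 → x y = y x
    rw [pow_two] at h2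
    have : x * y = (x * y)⁻¹ := by
      rw [eq_inv_iff_mul_eq_one]; exact h2
    rw [mul_inv_rev, inv_eq h hx, inv_eq h hy] at this
    exact this
  · exact h3

include h in
lemma braid {x y : G} (hx : x ∈ D) (hy : y ∈ D) (hc : ¬ Commute x y) :
    x * y * x = y * x * y := by
  have h3 := cube h hx hy hc
  rw [pow_succ, pow_two] at h3
  -- (x y)(x y)(x y) = 1
  have : x * y * x = (y * x * y)⁻¹ := by
    rw [eq_inv_iff_mul_eq_one]
    rw [← h3]; simp only [mul_assoc]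
  rw [this, mul_inv_rev, mul_inv_rev, inv_eq h hx, inv_eq h hy, mul_assoc]

include h in
lemma nbr_symm {t y : G} (ht : t ∈ D) (hn : Nbr D t y) : Nbr D y t :=
  ⟨ht, hn.2.1.symm, hn.2.2.symm⟩

include h in
lemma nbr_conj {t y : G} (g : G) (hn : Nbr D t y) : Nbr D (g * t * g⁻¹) (g * y * g⁻¹) := by
  refine ⟨h.conj g y hn.1, ?_, ?_⟩
  · intro heq
    apply hn.2.1
    have := mul_left_cancel (mul_right_cancel heq)
    exact this
  · have := hn.2.2.eq
    show g * t * g⁻¹ * (g * y * g⁻¹) = g * y * g⁻¹ * (g * t * g⁻¹)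
    calc g * t * g⁻¹ * (g * y * g⁻¹) = g * (t * y) * g⁻¹ := by group
      _ = g * (y * t) * g⁻¹ := by rw [this]
      _ = g * y * g⁻¹ * (g * t * g⁻¹) := by group

include h in
lemma nbr_conj_iff {t y : G} (g : G) : Nbr D (g * t * g⁻¹) (g * y * g⁻¹) ↔ Nbr D t y := by
  constructor
  · intro hn
    have := nbr_conj h g⁻¹ hn
    have e1 : g⁻¹ * (g * t * g⁻¹) * g⁻¹⁻¹ = t := by group
    have e2 : g⁻¹ * (g * y * g⁻¹) * g⁻¹⁻¹ = y := by group
    rwa [e1, e2] at this
  · exact nbr_conj h g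

/-- noncommuting members of `D` are different -/
lemma ne_of_not_commute {x y : G} (hc : ¬ Commute x y) : x ≠ y := by
  intro hxy; apply hc; rw [hxy]

-- S₄-lemma
include h in
lemma s4_lemma {x d a : G} (hx : x ∈ D) (hd : d ∈ D) (ha : a ∈ D) (hda : Commute d a)
    (hne : d ≠ a) (hxd : ¬ Commute x d) (hxa : ¬ Commute x a) :
    Nbr D x (a * d * x * d * a) := by
  have hw : a * d * x * d * a = a * (d * x * d) * a := by simp only [mul_assoc]
  have hdx : d * x * d = x * d * x := braid h hd hx (fun hc => hxd hc.symm)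
  have hax : a * x * a = x * a * x := braid h ha hx (fun hc => hxa hc.symm)
  have hmem : a * d * x * d * a ∈ D := by
    rw [hw]
    exact conj_inv_mem h ha (conj_inv_mem h hd hx)
  refine ⟨hmem, ?_, ?_⟩
  · -- w ≠ x
    intro heq
    rw [hw, hdx] at heq
    -- a (x d x) a = x
    -- then x d x = a x a = x a x, so d = a
    have h1 : x * d * x = a * x * a := by
      have : a * (a * (x * d * x) * a) * a = a * x * a := by rw [heq]
      rw [← this]
      simp only [mul_assoc]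
      rw [sq_one h ha, mul_one, cancel_l h ha]
    rw [hax] at h1
    have h2 : d = a := by
      have := mul_left_cancel (mul_right_cancel h1)
      exact this
    exact hne h2
  · -- commute: x w x = w
    have hxw : x * (a * d * x * d * a) * x = a * d * x * d * a := by
      rw [hw, hdx]
      calc x * (a * (x * d * x) * a) * x = (x * a * x) * d * (x * a * x) := by
            simp only [mul_assoc]
        _ = (a * x * a) * d * (a * x * a) := by rw [← hax]
        _ = a * x * (a * d * a) * x * a := by simp only [mul_assoc]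
        _ = a * x * d * x * a := by
            have : a * d * a = d := by
              rw [← hda.eq, mul_assoc, sq_one h ha, mul_one]
            rw [this]
        _ = a * (x * d * x) * a := by simp only [mul_assoc]
    show x * (a * d * x * d * a) = a * d * x * d * a * x
    calc x * (a * d * x * d * a) = x * (a * d * x * d * a) * x * x := by
          rw [mul_assoc (x * (a * d * x * d * a)), sq_one h hx, mul_one]
      _ = a * d * x * d * a * x := by rw [hxw]

-- Lemma K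
include h in
lemma lemmaK {x a b : G} (hx : x ∈ D) (ha : a ∈ D) (hb : b ∈ D) (hab : ¬ Commute a b)
    (hxa : ¬ Commute x a) : ¬ Commute x (a * b) := by
  intro hc
  obtain ⟨ρ, hρ⟩ : ∃ ρ, ρ = a * b := ⟨_, rfl⟩
  rw [← hρ] at hc
  have hρ3 : ρ ^ 3 = 1 := by rw [hρ]; exact cube h ha hb hab
  have haρ : a * ρ * a = ρ⁻¹ := by
    rw [hρ, mul_inv_rev, inv_eq h ha, inv_eq h hb, ← mul_assoc, sq_one h ha, one_mul]
  have hxρ : x * ρ * x = ρ := by
    rw [hc.eq, mul_assoc, sq_one h hx, mul_one]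
  obtain ⟨g, hg⟩ : ∃ g, g = x * a := ⟨_, rfl⟩
  have hg3 : g ^ 3 = 1 := by rw [hg]; exact cube h hx ha hxa
  have hginv : g⁻¹ = a * x := by
    rw [hg, mul_inv_rev, inv_eq h ha, inv_eq h hx]
  have hgρ : g * ρ * g⁻¹ = ρ⁻¹ := by
    rw [hginv, hg]
    calc x * a * ρ * (a * x) = x * (a * ρ * a) * x := by simp only [mul_assoc]
      _ = x * ρ⁻¹ * x := by rw [haρ]
      _ = (x * ρ * x)⁻¹ := by
          rw [mul_inv_rev, mul_inv_rev, inv_eq h hx, ← mul_assoc]
      _ = ρ⁻¹ := by rw [hxρ]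
  have hgρi : g * ρ⁻¹ * g⁻¹ = ρ := by
    have := congrArg (·⁻¹) hgρ
    simp only [mul_inv_rev, inv_inv] at this
    rw [← mul_assoc] at this
    exact this
  -- g^3 ρ g^-3 = ρ⁻¹
  have h3 : g ^ 3 * ρ * (g ^ 3)⁻¹ = ρ⁻¹ := by
    have e : g ^ 3 * ρ * (g ^ 3)⁻¹ = g * (g * (g * ρ * g⁻¹) * g⁻¹) * g⁻¹ := by
      rw [pow_succ, pow_two]; group
    rw [e, hgρ, hgρi, hgρ]
  rw [hg3, one_mul, inv_one, mul_one] at h3
  -- ρ = ρ⁻¹ and ρ^3 = 1 → ρ = 1
  have hρ1 : ρ = 1 := by
    have h2 : ρ * ρ = 1 := by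
      nth_rewrite 1 [h3]; exact inv_mul_cancel ρ
    have : ρ ^ 3 = ρ := by rw [pow_succ, pow_two, h2, one_mul]
    rw [← this, hρ3]
  -- a * b = 1 → commute
  apply hab
  have hba : b = a := by
    have : a * b = a * a := by rw [sq_one h ha, ← hρ]; exact hρ1
    exact mul_left_cancel this
  rw [hba]

end basic



variable {G : Type*} [Group G]

lemma perm3_P1 : ∀ σ τ : Equiv.Perm (Fin 3), σ ^ 2 = 1 → σ ≠ 1 → τ ^ 2 = 1 → τ ≠ 1 → σ ≠ τ →
    σ * τ ≠ τ * σ := by decide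

lemma perm3_P2' : ∀ σ τ υ : Equiv.Perm (Fin 3), (σ ^ 2 = 1 ∧ σ ≠ 1 ∧ τ ^ 2 = 1 ∧ τ ≠ 1 ∧
    υ ^ 2 = 1 ∧ υ ≠ 1 ∧ σ ≠ τ) → (υ = σ ∨ υ = τ ∨ υ = σ * τ * σ) := by decide +kernel

lemma perm3_P2 (σ τ υ : Equiv.Perm (Fin 3)) (h1 : σ ^ 2 = 1) (h2 : σ ≠ 1) (h3 : τ ^ 2 = 1)
    (h4 : τ ≠ 1) (h5 : υ ^ 2 = 1) (h6 : υ ≠ 1) (h7 : σ ≠ τ) :
    υ = σ ∨ υ = τ ∨ υ = σ * τ * σ := perm3_P2' σ τ υ ⟨h1, h2, h3, h4, h5, h6, h7⟩

lemma perm3_P3 : ¬ ∀ σ τ : Equiv.Perm (Fin 3), σ * τ = τ * σ := by decide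

lemma perm3_center : ∀ σ : Equiv.Perm (Fin 3), (∀ τ : Equiv.Perm (Fin 3), σ * τ = τ * σ) → σ = 1 := by
  decide

section loc

variable {D : Set G} (h : TT D) {d : G} (hd : d ∈ D)
  (e : ↥(Subgroup.closure {y : G | y ∈ D ∧ y ≠ d ∧ Commute d y}) ≃* Equiv.Perm (Fin 3))

include h e in
lemma nbr_exists : ∃ u v, Nbr D d u ∧ Nbr D d v ∧ ¬ Commute u v := by
  by_contra hcon
  push Not at hcon
  apply perm3_P3
  have hcomm : ∀ x ∈ {y : G | y ∈ D ∧ y ≠ d ∧ Commute d y},
      ∀ y ∈ {y : G | y ∈ D ∧ y ≠ d ∧ Commute d y}, x * y = y * x := by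
    intro x hx y hy
    exact (hcon x y hx hy).eq
  have hC := Subgroup.isMulCommutative_closure hcomm
  intro σ τ
  have := hC.is_comm.comm (e.symm σ) (e.symm τ)
  have h2 := congrArg e this
  simpa using h2

include h hd e in
lemma nbr_two {u v : G} (hu : Nbr D d u) (hv : Nbr D d v) (huv : u ≠ v) :
    ¬ Commute u v ∧ ∀ y, Nbr D d y ↔ (y = u ∨ y = v ∨ y = u * v * u) := by
  have key : ∀ y (hy : Nbr D d y),
      (e ⟨y, Subgroup.subset_closure hy⟩) ^ 2 = 1 ∧ e ⟨y, Subgroup.subset_closure hy⟩ ≠ 1 := by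
    intro y hy
    constructor
    · rw [← map_pow]
      have : (⟨y, Subgroup.subset_closure hy⟩ :
          ↥(Subgroup.closure {y : G | y ∈ D ∧ y ≠ d ∧ Commute d y})) ^ 2 = 1 := by
        apply Subtype.ext
        show y ^ 2 = 1
        rw [pow_two]; exact sq_one h hy.1
      rw [this, map_one]
    · intro h1
      have : (⟨y, Subgroup.subset_closure hy⟩ :
          ↥(Subgroup.closure {y : G | y ∈ D ∧ y ≠ d ∧ Commute d y})) = 1 := by
        apply e.injective; rw [h1, map_one]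
      have := congrArg Subtype.val this
      exact ne_one h hy.1 this
  obtain ⟨hu2, hu1⟩ := key u hu
  obtain ⟨hv2, hv1⟩ := key v hv
  have hne : e ⟨u, Subgroup.subset_closure hu⟩ ≠ e ⟨v, Subgroup.subset_closure hv⟩ := by
    intro heq
    have := e.injective heq
    exact huv (congrArg Subtype.val this)
  have hnc : ¬ Commute u v := by
    intro hc
    apply perm3_P1 _ _ hu2 hu1 hv2 hv1 hne
    rw [← map_mul, ← map_mul]
    congr 1
    apply Subtype.ext
    exact hc.eq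
  refine ⟨hnc, fun y => ⟨fun hy => ?_, fun hy => ?_⟩⟩
  · obtain ⟨hy2, hy1⟩ := key y hy
    rcases perm3_P2 _ _ _ hu2 hu1 hv2 hv1 hy2 hy1 hne with h1 | h1 | h1
    · left; exact congrArg Subtype.val (e.injective h1)
    · right; left; exact congrArg Subtype.val (e.injective h1)
    · right; right
      rw [← map_mul, ← map_mul] at h1
      exact congrArg Subtype.val (e.injective h1)
  · rcases hy with rfl | rfl | rfl
    · exact hu
    · exact hv
    · refine ⟨conj_inv_mem h hu.1 hv.1, ?_, ?_⟩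
      · intro heq
        -- u v u = d → v = u d u = d
        apply hv.2.1
        have : v = u * (u * v * u) * u := by
          simp only [mul_assoc]
          rw [sq_one h hu.1, mul_one, cancel_l h hu.1]
        rw [this, heq, ← hu.2.2.eq, mul_assoc, sq_one h hu.1, mul_one]
      · show d * (u * v * u) = u * v * u * d
        have e1 := hu.2.2.eq
        have e2 := hv.2.2.eq
        calc d * (u * v * u) = (d * u) * v * u := by simp only [mul_assoc]
          _ = u * (d * v) * u := by rw [e1]; simp only [mul_assoc]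
          _ = u * v * (d * u) := by rw [e2]; simp only [mul_assoc]
          _ = u * v * u * d := by rw [e1]; simp only [mul_assoc]

end loc



variable {G : Type*} [Group G]

/-- all hypotheses -/
structure Hyp (D : Set G) : Prop where
  tt : TT D
  loc : ∀ d ∈ D, Nonempty (↥(Subgroup.closure {y : G | y ∈ D ∧ y ≠ d ∧ Commute d y}) ≃*
    Equiv.Perm (Fin 3))

section hyp

variable {D : Set G} (H : Hyp D)

include H in
lemma Hyp.ex {d : G} (hd : d ∈ D) : ∃ u v, Nbr D d u ∧ Nbr D d v ∧ ¬ Commute u v := by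
  obtain ⟨e⟩ := H.loc d hd
  exact nbr_exists H.tt e

include H in
lemma Hyp.two {d u v : G} (hd : d ∈ D) (hu : Nbr D d u) (hv : Nbr D d v) (huv : u ≠ v) :
    ¬ Commute u v ∧ ∀ y, Nbr D d y ↔ (y = u ∨ y = v ∨ y = u * v * u) := by
  obtain ⟨e⟩ := H.loc d hd
  exact nbr_two H.tt hd e hu hv huv

include H in
lemma Hyp.nc {d u v : G} (hd : d ∈ D) (hu : Nbr D d u) (hv : Nbr D d v) (huv : u ≠ v) :
    ¬ Commute u v := (H.two hd hu hv huv).1

include H in
lemma Hyp.third {d u v : G} (hd : d ∈ D) (hu : Nbr D d u) (hv : Nbr D d v) (huv : u ≠ v) :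
    Nbr D d (u * v * u) ∧ u * v * u ≠ u ∧ u * v * u ≠ v := by
  have h2 := H.two hd hu hv huv
  refine ⟨(h2.2 _).mpr (Or.inr (Or.inr rfl)), ?_, ?_⟩
  · intro heq
    -- u v u = u → v u = 1 → v = u
    apply huv
    have h1 : u * (v * u) = u * 1 := by rw [mul_one, ← mul_assoc]; exact heq
    have h3 := mul_left_cancel h1
    have : v = u⁻¹ := eq_inv_of_mul_eq_one_left h3
    rw [this, inv_eq H.tt hu.1]
  · intro heq
    apply h2.1
    -- u v u = v → u v = v u
    show u * v = v * u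
    calc u * v = u * v * u * u := by rw [mul_assoc (u * v), sq_one H.tt hu.1, mul_one]
      _ = v * u := by rw [heq]

include H in
lemma Hyp.three {d u v w : G} (hd : d ∈ D) (hu : Nbr D d u) (hv : Nbr D d v) (hw : Nbr D d w)
    (huv : u ≠ v) (huw : u ≠ w) (hvw : v ≠ w) :
    ∀ y, Nbr D d y → y = u ∨ y = v ∨ y = w := by
  have h2 := H.two hd hu hv huv
  have hw' : w = u * v * u := by
    rcases (h2.2 w).mp hw with h1 | h1 | h1
    · exact absurd h1.symm huw
    · exact absurd h1.symm hvw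
    · exact h1
  intro y hy
  rw [hw']
  exact (h2.2 y).mp hy

-- any two distinct neighbours multiply to the rotation or its inverse
include H in
lemma Hyp.rot_pm {d a b t s : G} (hd : d ∈ D) (ha : Nbr D d a) (hb : Nbr D d b) (hab : a ≠ b)
    (ht : Nbr D d t) (hs : Nbr D d s) (hts : t ≠ s) :
    t * s = a * b ∨ t * s = b * a := by
  have h2 := H.two hd ha hb hab
  have haa := sq_one H.tt ha.1
  have hbb := sq_one H.tt hb.1
  have hbr : a * b * a = b * a * b := braid H.tt ha.1 hb.1 h2.1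
  rcases (h2.2 t).mp ht with rfl | rfl | rfl <;> rcases (h2.2 s).mp hs with rfl | rfl | rfl
  · exact absurd rfl hts
  · left; rfl
  · right; simp only [← mul_assoc]; rw [haa, one_mul]
  · right; rfl
  · exact absurd rfl hts
  · left
    calc t * (a * t * a) = t * (t * a * t) := by rw [hbr]
      _ = a * t := by simp only [← mul_assoc]; rw [hbb, one_mul]
  · left; rw [mul_assoc, haa, mul_one]
  · right
    calc a * s * a * s = s * a * s * s := by rw [hbr]
      _ = s * a := by rw [mul_assoc (s * a), hbb, mul_one]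
  · exact absurd rfl hts

end hyp

/-- type-0 pairs -/
def T0 (D : Set G) (x y : G) : Prop :=
  x ∈ D ∧ y ∈ D ∧ ¬ Commute x y ∧ ∀ z, Nbr D x z → ¬ Nbr D y z

lemma T0.symm {D : Set G} {x y : G} (h : T0 D x y) : T0 D y x :=
  ⟨h.2.1, h.1, fun hc => h.2.2.1 hc.symm, fun z hz hz' => h.2.2.2 z hz' hz⟩

lemma T0.nc {D : Set G} {x y a : G} (h : T0 D x y) (ha : Nbr D x a) : ¬ Commute y a := by
  intro hc
  apply h.2.2.2 a ha
  refine ⟨ha.1, ?_, hc⟩
  intro heq
  apply h.2.2.1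
  rw [← heq]
  exact ha.2.2

section t0

variable {D : Set G} (H : Hyp D)

include H in
lemma T0.W {x y a : G} (h : T0 D x y) (ha : Nbr D x a) : Nbr D y (a * x * y * x * a) :=
  s4_lemma H.tt h.2.1 h.1 ha.1 ha.2.2 ha.2.1.symm (fun hc => h.2.2.1 hc.symm) (h.nc ha)

include H in
lemma T0.nbrW {x y t s : G} (h : T0 D x y) (ht : Nbr D x t) (hs : Nbr D x s) :
    Nbr D (t * x * y * x * t) ((t * s) * y * (t * s)⁻¹) := by
  have h1 : Nbr D (s * x * y * x * s) y := nbr_symm H.tt h.2.1 (h.W H hs)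
  have h2 := nbr_conj H.tt (t * x) h1
  have hxx := sq_one H.tt h.1
  have hx := inv_eq H.tt h.1
  have htt := inv_eq H.tt ht.1
  have hss := inv_eq H.tt hs.1
  have hcs : x * s = s * x := hs.2.2.eq
  have e1 : (t * x) * y * (t * x)⁻¹ = t * x * y * x * t := by
    rw [mul_inv_rev, hx, htt]; simp only [mul_assoc]
  have e2 : (t * x) * (s * x * y * x * s) * (t * x)⁻¹ = (t * s) * y * (t * s)⁻¹ := by
    rw [mul_inv_rev, mul_inv_rev, hx, htt, hss]
    have e3 : x * s * x = s := by rw [hcs, mul_assoc, hxx, mul_one]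
    calc t * x * (s * x * y * x * s) * (x * t) = t * (x * s * x) * y * (x * s * x) * t := by
          simp only [mul_assoc]
      _ = t * s * y * (s * t) := by rw [e3]; simp only [mul_assoc]
  rw [e1, e2] at h2
  exact nbr_symm H.tt (H.tt.conj (t * s) y h.2.1) h2

include H in
lemma T0.y_ne_conj {x y a b : G} (h : T0 D x y) (ha : Nbr D x a) (hb : Nbr D x b) (hab : a ≠ b) :
    y ≠ (a * b) * y * (a * b)⁻¹ := by
  intro heq
  have hnc := H.nc h.1 ha hb hab
  apply lemmaK H.tt h.2.1 ha.1 hb.1 hnc (h.nc ha)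
  show y * (a * b) = a * b * y
  calc y * (a * b) = ((a * b) * y * (a * b)⁻¹) * (a * b) := by rw [← heq]
    _ = a * b * y := by group

end t0



variable {G : Type*} [Group G]

lemma conj_aux (r y : G) (hr : r ^ 3 = 1) (heq : r * y * r⁻¹ = r⁻¹ * y * r) :
    r⁻¹ * y * r = y := by
  have h1 : r * r = r⁻¹ := by
    apply eq_inv_of_mul_eq_one_left
    rw [← hr, pow_succ, pow_two]
  have h2 : r⁻¹ * r⁻¹ = r := by
    have := congrArg (·⁻¹) h1
    simpa using this
  calc r⁻¹ * y * r = (r * r) * y * (r⁻¹ * r⁻¹) := by rw [h1, h2]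
    _ = r * (r * y * r⁻¹) * r⁻¹ := by simp only [mul_assoc]
    _ = r * (r⁻¹ * y * r) * r⁻¹ := by rw [heq]
    _ = y := by group

section t0

variable {D : Set G} (H : Hyp D)

include H in
lemma T0.W_ne {x y t s : G} (h : T0 D x y) (ht : Nbr D x t) (hs : Nbr D x s) (hts : t ≠ s) :
    t * x * y * x * t ≠ s * x * y * x * s := by
  intro heq
  apply h.y_ne_conj H ht hs hts
  have hxx := sq_one H.tt h.1
  have htt := sq_one H.tt ht.1
  have hss := sq_one H.tt hs.1
  have hct : x * t = t * x := ht.2.2.eq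
  have hcs : x * s = s * x := hs.2.2.eq
  rw [mul_inv_rev, inv_eq H.tt ht.1, inv_eq H.tt hs.1]
  -- y = x t (t x y x t) t x = x t (s x y x s) t x
  have e1 : y = x * t * (t * x * y * x * t) * t * x := by
    simp only [mul_assoc]
    rw [cancel_l H.tt ht.1, cancel_l H.tt h.1, cancel_l H.tt ht.1, hxx, mul_one]
  rw [heq] at e1
  have e2 : x * t * s * x = t * s := by
    rw [hct, mul_assoc t x s, hcs, ← mul_assoc, mul_assoc (t * s), hxx, mul_one]
  have e3 : x * s * t * x = s * t := by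
    rw [hcs, mul_assoc s x t, hct, ← mul_assoc, mul_assoc (s * t), hxx, mul_one]
  calc y = x * t * (s * x * y * x * s) * t * x := e1
    _ = (x * t * s * x) * y * (x * s * t * x) := by simp only [mul_assoc]
    _ = t * s * y * (s * t) := by rw [e2, e3]

include H in
lemma T0.Np_ts {x y t s : G} (h : T0 D x y) (ht : Nbr D x t) (hs : Nbr D x s) (hts : t ≠ s) :
    ∀ z, Nbr D (t * x * y * x * t) z ↔
      (z = y ∨ z = (t * s) * y * (t * s)⁻¹ ∨ z = (s * t) * y * (s * t)⁻¹) := by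
  have hthird := H.third h.1 ht hs hts
  have htt := sq_one H.tt ht.1
  have hpD : t * x * y * x * t ∈ D := (h.W H ht).1
  have n1 : Nbr D (t * x * y * x * t) y := nbr_symm H.tt h.2.1 (h.W H ht)
  have n2 := h.nbrW H ht hs
  have n3 := h.nbrW H ht hthird.1
  have e : t * (t * s * t) = s * t := by
    simp only [← mul_assoc]; rw [htt, one_mul]
  rw [e] at n3
  have d1 : y ≠ (t * s) * y * (t * s)⁻¹ := h.y_ne_conj H ht hs hts
  have d2 : y ≠ (s * t) * y * (s * t)⁻¹ := h.y_ne_conj H hs ht (Ne.symm hts)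
  have hnc := H.nc h.1 ht hs hts
  have h3 : (t * s) ^ 3 = 1 := cube H.tt ht.1 hs.1 hnc
  have hinv : (t * s)⁻¹ = s * t := by rw [mul_inv_rev, inv_eq H.tt ht.1, inv_eq H.tt hs.1]
  have hinv' : (s * t)⁻¹ = t * s := by rw [mul_inv_rev, inv_eq H.tt ht.1, inv_eq H.tt hs.1]
  have d3 : (t * s) * y * (t * s)⁻¹ ≠ (s * t) * y * (s * t)⁻¹ := by
    intro heq
    apply d2
    rw [hinv'] at heq ⊢
    rw [← hinv] at heq ⊢
    exact (conj_aux (t * s) y h3 (by simpa using heq)).symm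
  have hthree := H.three hpD n1 n2 n3 d1 d2 d3
  intro z
  constructor
  · exact hthree z
  · rintro (rfl | rfl | rfl)
    · exact n1
    · exact n2
    · exact n3

end t0



variable {G : Type*} [Group G]

section t0

variable {D : Set G} (H : Hyp D)

-- the neighbours of y are the three W
include H in
lemma T0.Ny {x y a b p : G} (h : T0 D x y) (ha : Nbr D x a) (hb : Nbr D x b) (hab : a ≠ b)
    (hp : Nbr D y p) : ∃ t, Nbr D x t ∧ p = t * x * y * x * t := by
  have hthird := H.third h.1 ha hb hab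
  have n1 := h.W H ha
  have n2 := h.W H hb
  have n3 := h.W H hthird.1
  have d1 := h.W_ne H ha hb hab
  have d2 := h.W_ne H ha hthird.1 (Ne.symm hthird.2.1)
  have d3 := h.W_ne H hb hthird.1 (Ne.symm hthird.2.2)
  rcases H.three h.2.1 n1 n2 n3 d1 d2 d3 p hp with rfl | rfl | rfl
  · exact ⟨a, ha, rfl⟩
  · exact ⟨b, hb, rfl⟩
  · exact ⟨_, hthird.1, rfl⟩

include H in
lemma T0.Np {x y a b p : G} (h : T0 D x y) (ha : Nbr D x a) (hb : Nbr D x b) (hab : a ≠ b)
    (hp : Nbr D y p) : ∀ z, Nbr D p z ↔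
      (z = y ∨ z = (a * b) * y * (a * b)⁻¹ ∨ z = (b * a) * y * (b * a)⁻¹) := by
  obtain ⟨t, ht, rfl⟩ := h.Ny H ha hb hab hp
  -- choose s ≠ t
  obtain ⟨s, hs, hts⟩ : ∃ s, Nbr D x s ∧ t ≠ s := by
    by_cases hta : t = a
    · exact ⟨b, hb, by rw [hta]; exact hab⟩
    · exact ⟨a, ha, hta⟩
  have key := h.Np_ts H ht hs hts
  intro z
  rw [key z]
  rcases H.rot_pm h.1 ha hb hab ht hs hts with e1 | e1
  · have e2 : s * t = b * a := by
      have : (t * s)⁻¹ = (a * b)⁻¹ := by rw [e1]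
      rwa [mul_inv_rev, mul_inv_rev, inv_eq H.tt ht.1, inv_eq H.tt hs.1, inv_eq H.tt ha.1,
        inv_eq H.tt hb.1] at this
    rw [e1, e2]
  · have e2 : s * t = a * b := by
      have : (t * s)⁻¹ = (b * a)⁻¹ := by rw [e1]
      rwa [mul_inv_rev, mul_inv_rev, inv_eq H.tt ht.1, inv_eq H.tt hs.1, inv_eq H.tt ha.1,
        inv_eq H.tt hb.1] at this
    rw [e1, e2]
    constructor
    · rintro (h1 | h1 | h1)
      · exact Or.inl h1
      · exact Or.inr (Or.inr h1)
      · exact Or.inr (Or.inl h1)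
    · rintro (h1 | h1 | h1)
      · exact Or.inl h1
      · exact Or.inr (Or.inr h1)
      · exact Or.inr (Or.inl h1)

include H in
lemma T0.bip {x y p q : G} (h : T0 D x y) (hp : Nbr D y p) (hq : Nbr D y q) :
    ∀ z, Nbr D p z ↔ Nbr D q z := by
  obtain ⟨a, b, ha, hb, hnc⟩ := H.ex h.1
  have hab : a ≠ b := ne_of_not_commute hnc
  intro z
  rw [h.Np H ha hb hab hp z, h.Np H ha hb hab hq z]

include H in
lemma T0.rot_comm {x y a b : G} (h : T0 D x y) (ha : Nbr D x a) (hb : Nbr D x b) (hab : a ≠ b) :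
    Commute (a * b) (y * (a * b) * y) := by
  obtain ⟨p, q, hp, -, -⟩ := H.ex h.2.1
  have key := h.Np H ha hb hab hp
  have hinv : (a * b)⁻¹ = b * a := by rw [mul_inv_rev, inv_eq H.tt ha.1, inv_eq H.tt hb.1]
  have hinv' : (b * a)⁻¹ = a * b := by rw [mul_inv_rev, inv_eq H.tt ha.1, inv_eq H.tt hb.1]
  obtain ⟨ρ, hρ⟩ : ∃ ρ, ρ = a * b := ⟨_, rfl⟩
  have hρi : b * a = ρ⁻¹ := by rw [hρ, hinv]
  rw [hinv', hρi, ← hρ] at key
  rw [← hρ]
  have n1 : Nbr D p y := (key y).mpr (Or.inl rfl)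
  have n2 : Nbr D p (ρ * y * ρ⁻¹) := (key _).mpr (Or.inr (Or.inl rfl))
  have n3 : Nbr D p (ρ⁻¹ * y * ρ) := (key _).mpr (Or.inr (Or.inr rfl))
  have d1 : y ≠ ρ * y * ρ⁻¹ := by
    have := h.y_ne_conj H ha hb hab
    rwa [← hρ] at this
  have d2 : y ≠ ρ⁻¹ * y * ρ := by
    have := h.y_ne_conj H hb ha (Ne.symm hab)
    rwa [hinv', hρi, ← hρ] at this
  have hnc := H.nc h.1 ha hb hab
  have h3 : ρ ^ 3 = 1 := by rw [hρ]; exact cube H.tt ha.1 hb.1 hnc
  have d3 : ρ * y * ρ⁻¹ ≠ ρ⁻¹ * y * ρ := by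
    intro heq
    exact d2 (conj_aux ρ y h3 heq).symm
  have h2 := H.two hp.1 n1 n2 d1
  rcases (h2.2 _).mp n3 with e | e | e
  · exact absurd e.symm d2
  · exact absurd e.symm d3
  · -- ρ⁻¹ y ρ = y (ρ y ρ⁻¹) y
    have hyy := sq_one H.tt h.2.1
    show ρ * (y * ρ * y) = y * ρ * y * ρ
    -- from e: ρ⁻¹ * y * ρ = y * (ρ * y * ρ⁻¹) * y
    have e' : y * ρ * y * ρ⁻¹ = ρ⁻¹ * (y * ρ * y) := by
      have h5 : ρ⁻¹ * y * ρ * y = y * ρ * y * ρ⁻¹ := by
        rw [e]; simp only [mul_assoc]; rw [hyy, mul_one]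
      rw [← h5]; simp only [mul_assoc]
    -- so y ρ y commutes with ρ⁻¹, hence with ρ
    have : ρ * (y * ρ * y * ρ⁻¹) * ρ = ρ * (ρ⁻¹ * (y * ρ * y)) * ρ := by rw [e']
    have l : ρ * (y * ρ * y * ρ⁻¹) * ρ = ρ * (y * ρ * y) := by group
    have r : ρ * (ρ⁻¹ * (y * ρ * y)) * ρ = y * ρ * y * ρ := by group
    rw [l, r] at this
    exact this

end t0



variable {G : Type*} [Group G]

open Equiv

section caseA

variable {D : Set G} (H : Hyp D)

include H in
lemma mem_of_nbr_conj (R : Subgroup G) {c k y : G} (hk : k ∈ R)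
    (hc : ∀ z, Nbr D c z → z ∈ R) (hy : Nbr D (k * c * k⁻¹) y) : y ∈ R := by
  have e : y = k * (k⁻¹ * y * k) * k⁻¹ := by group
  rw [e] at hy
  have h1 := (nbr_conj_iff H.tt k).mp hy
  have h2 := hc _ h1
  rw [e]
  exact R.mul_mem (R.mul_mem hk h2) (R.inv_mem hk)

include H in
lemma sq_of_commute {x y : G} (hx : x ∈ D) (hy : y ∈ D) (hc : Commute x y) : (x * y) ^ 2 = 1 := by
  rw [pow_two]
  calc x * y * (x * y) = x * (y * x) * y := by simp only [mul_assoc]
    _ = x * (x * y) * y := by rw [hc.eq]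
    _ = (x * x) * (y * y) := by simp only [mul_assoc]
    _ = 1 := by rw [sq_one H.tt hx, sq_one H.tt hy, one_mul]

include H in
lemma caseA [Finite G] {d a c g : G} (hd : d ∈ D) (ha : Nbr D d a) (hc : Nbr D d c) (hac : a ≠ c)
    (hg : Nbr D c g) (hga : ¬ Nbr D a g) :
    Nonempty (↥(Subgroup.closure D) ≃* Equiv.Perm (Fin 5)) := by
  have hnc_ac : ¬ Commute a c := H.nc hd ha hc hac
  have hg_ne_a : g ≠ a := by
    intro h1; apply hnc_ac; rw [← h1]; exact hg.2.2.symm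
  have hnc_ag : ¬ Commute a g := fun hcm => hga ⟨hg.1, hg_ne_a, hcm⟩
  have hcd : Nbr D c d := nbr_symm H.tt hd hc
  have had : Nbr D a d := nbr_symm H.tt hd ha
  have hg_ne_d : g ≠ d := by
    intro h1; apply hga; rw [h1]; exact had
  have hnc_dg : ¬ Commute d g := H.nc hc.1 hcd hg (Ne.symm hg_ne_d)
  -- relations
  have hd2 := sq_one H.tt hd
  have hg2 := sq_one H.tt hg.1
  have ha2 := sq_one H.tt ha.1
  have hc2 := sq_one H.tt hc.1
  have r_dg : (d * g) ^ 3 = 1 := cube H.tt hd hg.1 hnc_dg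
  have r_gd : (g * d) ^ 3 = 1 := cube H.tt hg.1 hd (fun h => hnc_dg h.symm)
  have r_ga : (g * a) ^ 3 = 1 := cube H.tt hg.1 ha.1 (fun h => hnc_ag h.symm)
  have r_ag : (a * g) ^ 3 = 1 := cube H.tt ha.1 hg.1 hnc_ag
  have r_ac : (a * c) ^ 3 = 1 := cube H.tt ha.1 hc.1 hnc_ac
  have r_ca : (c * a) ^ 3 = 1 := cube H.tt hc.1 ha.1 (fun h => hnc_ac h.symm)
  have r_da : (d * a) ^ 2 = 1 := sq_of_commute H hd ha.1 ha.2.2
  have r_ad : (a * d) ^ 2 = 1 := sq_of_commute H ha.1 hd ha.2.2.symm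
  have r_dc : (d * c) ^ 2 = 1 := sq_of_commute H hd hc.1 hc.2.2
  have r_cd : (c * d) ^ 2 = 1 := sq_of_commute H hc.1 hd hc.2.2.symm
  have r_gc : (g * c) ^ 2 = 1 := sq_of_commute H hg.1 hc.1 hg.2.2.symm
  have r_cg : (c * g) ^ 2 = 1 := sq_of_commute H hc.1 hg.1 hg.2.2
  let f : Fin 4 → G := ![d, g, a, c]
  have hlift : (CoxeterMatrix.A 4).IsLiftable f := by
    intro i j
    rw [Cfsg.Agent.Lib.Helper1.CoxA.A_apply]
    fin_cases i <;> fin_cases j <;>
      simp [f, hd2, hg2, ha2, hc2, r_dg, r_gd, r_ga, r_ag, r_ac, r_ca, r_da, r_ad, r_dc, r_cd,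
        r_gc, r_cg]
  let cs := Cfsg.Agent.Lib.Helper1.CoxA.coxeterSystemPerm 4
  let φ : Perm (Fin 5) →* G := cs.lift ⟨f, hlift⟩
  have hφ : ∀ i : Fin 4, φ (swap i.castSucc i.succ) = f i := by
    intro i
    have := cs.lift_apply_simple hlift i
    rw [Cfsg.Agent.Lib.Helper1.CoxA.coxeterSystemPerm_simple] at this
    exact this
  have h0 : φ (swap 0 1) = d := hφ 0
  have h1 : φ (swap 1 2) = g := hφ 1
  have h2 : φ (swap 2 3) = a := hφ 2
  have h3 : φ (swap 3 4) = c := hφ 3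
  -- injectivity
  have hinj : Function.Injective φ := by
    rw [← MonoidHom.ker_eq_bot_iff]
    by_contra hne
    have hnt : Nontrivial φ.ker := (Subgroup.nontrivial_iff_ne_bot _).mpr hne
    have hA : alternatingGroup (Fin 5) ≤ φ.ker :=
      Equiv.Perm.alternatingGroup_le_of_normal (by simp) hnt
    have hmem : (swap 0 1 * swap 1 2 : Perm (Fin 5)) ∈ alternatingGroup (Fin 5) := by
      rw [Equiv.Perm.mem_alternatingGroup]
      decide
    have := hA hmem
    rw [MonoidHom.mem_ker, map_mul, h0, h1] at this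
    apply hg_ne_d
    have h5 : d * g = d * d := by rw [hd2]; exact this
    exact mul_left_cancel h5
  -- range
  have hdR : d ∈ φ.range := ⟨_, h0⟩
  have hgR : g ∈ φ.range := ⟨_, h1⟩
  have haR : a ∈ φ.range := ⟨_, h2⟩
  have hcR : c ∈ φ.range := ⟨_, h3⟩
  have hNc : ∀ z, Nbr D c z → z ∈ φ.range := by
    intro z hz
    rcases ((H.two hc.1 hcd hg (Ne.symm hg_ne_d)).2 z).mp hz with rfl | rfl | rfl
    · exact hdR
    · exact hgR
    · exact φ.range.mul_mem (φ.range.mul_mem hdR hgR) hdR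
  have hrange : φ.range = Subgroup.closure D := by
    apply le_antisymm
    · rintro _ ⟨w, rfl⟩
      refine cs.simple_induction (p := fun w => φ w ∈ Subgroup.closure D) w ?_ ?_ ?_
      · intro i
        have : φ (cs.simple i) = f i := cs.lift_apply_simple hlift i
        rw [this]
        apply Subgroup.subset_closure
        fin_cases i
        · exact hd
        · exact hg.1
        · exact ha.1
        · exact hc.1
      · rw [map_one]; exact Subgroup.one_mem _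
      · intro w w' hw hw'
        rw [map_mul]; exact Subgroup.mul_mem _ hw hw'
    · rw [Subgroup.closure_le]
      intro y hy
      show y ∈ φ.range
      by_cases hyd : y = d
      · rw [hyd]; exact hdR
      by_cases hcm : Commute d y
      · have hn : Nbr D d y := ⟨hy, hyd, hcm⟩
        rcases ((H.two hd ha hc hac).2 y).mp hn with rfl | rfl | rfl
        · exact haR
        · exact hcR
        · exact φ.range.mul_mem (φ.range.mul_mem haR hcR) haR
      · -- common neighbour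
        have hex : ∃ t, Nbr D d t ∧ Nbr D y t := by
          by_contra hcon
          push Not at hcon
          have ht0 : T0 D d y := ⟨hd, hy, hcm, hcon⟩
          have := ht0.symm.bip H hc ha g
          exact hga (this.mp hg)
        obtain ⟨t, htd, hty⟩ := hex
        have hyt : Nbr D t y := nbr_symm H.tt hy hty
        rcases ((H.two hd ha hc hac).2 t).mp htd with rfl | rfl | rfl
        · -- t = a = (c a) c (c a)⁻¹
          have e : t = (c * t) * c * (c * t)⁻¹ := by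
            rw [mul_inv_rev, inv_eq H.tt hc.1, inv_eq H.tt ha.1]
            have hbr : c * t * c = t * c * t := braid H.tt hc.1 ha.1 (fun h => hnc_ac h.symm)
            calc t = t * c * t * t * c := by
                  rw [mul_assoc (t * c), ha2, mul_one, mul_assoc, hc2, mul_one]
              _ = c * t * c * t * c := by rw [← hbr]
              _ = c * t * c * (t * c) := by simp only [mul_assoc]
          rw [e] at hyt
          exact mem_of_nbr_conj H φ.range (φ.range.mul_mem hcR haR) hNc hyt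
        · have e : t = (1 : G) * t * (1 : G)⁻¹ := by group
          rw [e] at hyt
          exact mem_of_nbr_conj H φ.range (φ.range.one_mem) hNc hyt
        · have e : a * c * a = a * c * a⁻¹ := by rw [inv_eq H.tt ha.1]
          rw [e] at hyt
          exact mem_of_nbr_conj H φ.range haR hNc hyt
  exact ⟨((MonoidHom.ofInjective hinj).trans (MulEquiv.subgroupCongr hrange)).symm⟩

end caseA



variable {G : Type*} [Group G]

open Equiv

/-- bipartite property -/
def Bip (D : Set G) : Prop :=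
  ∀ t ∈ D, ∀ p q, Nbr D t p → Nbr D t q → ∀ z, Nbr D p z ↔ Nbr D q z

section caseB1

variable {D : Set G} (H : Hyp D)

include H in
lemma caseB1 (hB : Bip D) {d a : G} (hd : d ∈ D) (ha : Nbr D d a)
    (hsub : ∀ y ∈ D, Nbr D d y ∨ Nbr D a y) :
    Nonempty (↥(Subgroup.closure D) ≃* Equiv.Perm (Fin 3) × Equiv.Perm (Fin 3)) := by
  obtain ⟨e₁⟩ := H.loc d hd
  obtain ⟨e₂⟩ := H.loc a ha.1
  set S₁ : Set G := {y : G | y ∈ D ∧ y ≠ d ∧ Commute d y} with hS₁
  set S₂ : Set G := {y : G | y ∈ D ∧ y ≠ a ∧ Commute a y} with hS₂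
  have hcomm0 : ∀ s₁ ∈ S₁, ∀ s₂ ∈ S₂, Commute s₁ s₂ := by
    intro s₁ h1 s₂ h2
    have h1' : Nbr D d s₁ := h1
    have h2' : Nbr D a s₂ := h2
    have := (hB d hd a s₁ ha h1' s₂).mp h2'
    exact this.2.2
  have hcomm : ∀ (m : ↥(Subgroup.closure S₁)) (n : ↥(Subgroup.closure S₂)),
      Commute ((Subgroup.closure S₁).subtype m) ((Subgroup.closure S₂).subtype n) := by
    rintro ⟨m, hm⟩ ⟨n, hn⟩
    show Commute m n
    have h1 : Subgroup.closure S₂ ≤ Subgroup.centralizer {m} := by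
      rw [Subgroup.closure_le]
      intro s₂ h2
      rw [SetLike.mem_coe, Subgroup.mem_centralizer_singleton_iff]
      have h3 : Subgroup.closure S₁ ≤ Subgroup.centralizer {s₂} := by
        rw [Subgroup.closure_le]
        intro s₁ h1
        rw [SetLike.mem_coe, Subgroup.mem_centralizer_singleton_iff]
        exact (hcomm0 s₁ h1 s₂ h2).eq
      have := h3 hm
      rw [Subgroup.mem_centralizer_singleton_iff] at this
      exact this.symm
    have := h1 hn
    rw [Subgroup.mem_centralizer_singleton_iff] at this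
    exact this.symm
  let ψ := MonoidHom.noncommCoprod (Subgroup.closure S₁).subtype (Subgroup.closure S₂).subtype hcomm
  have hinj : Function.Injective ψ := by
    rw [MonoidHom.noncommCoprod_injective]
    refine ⟨Subgroup.subtype_injective _, Subgroup.subtype_injective _, ?_⟩
    rw [Subgroup.range_subtype, Subgroup.range_subtype, disjoint_iff_inf_le]
    intro x ⟨hx1, hx2⟩
    rw [Subgroup.mem_bot]
    -- x ∈ closure S₁ central
    have hcen : ∀ τ : Equiv.Perm (Fin 3), e₁ ⟨x, hx1⟩ * τ = τ * e₁ ⟨x, hx1⟩ := by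
      intro τ
      obtain ⟨m, rfl⟩ := e₁.surjective τ
      rw [← map_mul, ← map_mul]
      congr 1
      apply Subtype.ext
      have := hcomm m ⟨x, hx2⟩
      exact this.eq.symm
    have h1 := perm3_center _ hcen
    have h2 : (⟨x, hx1⟩ : ↥(Subgroup.closure S₁)) = 1 := by
      apply e₁.injective; rw [h1, map_one]
    exact congrArg Subtype.val h2
  have hrange : ψ.range = Subgroup.closure D := by
    rw [MonoidHom.noncommCoprod_range, Subgroup.range_subtype, Subgroup.range_subtype,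
      ← Subgroup.closure_union]
    congr 1
    ext y
    constructor
    · rintro (hy | hy)
      · exact hy.1
      · exact hy.1
    · intro hy
      rcases hsub y hy with h1 | h1
      · left; exact h1
      · right; exact h1
  let E : ↥(Subgroup.closure D) ≃* ↥(Subgroup.closure S₁) × ↥(Subgroup.closure S₂) :=
    ((MonoidHom.ofInjective hinj).trans (MulEquiv.subgroupCongr hrange)).symm
  exact ⟨E.trans (MulEquiv.prodCongr e₁ e₂)⟩

end caseB1



variable {G : Type*} [Group G]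

open Equiv

/-- same neighbourhoods -/
def SameN (D : Set G) (s t : G) : Prop := ∀ z, Nbr D s z ↔ Nbr D t z

/-- the set of rotations -/
def Kset (D : Set G) : Set G :=
  {r | ∃ s t, s ∈ D ∧ t ∈ D ∧ s ≠ t ∧ SameN D s t ∧ r = s * t}

lemma pgroup_zpowers {x : G} (hx : x ^ 3 = 1) : IsPGroup 3 (Subgroup.zpowers x) := by
  rintro ⟨g, hg⟩
  obtain ⟨k, rfl⟩ := Subgroup.mem_zpowers_iff.mp hg
  refine ⟨1, ?_⟩
  apply Subtype.ext
  show (x ^ k) ^ (3 ^ 1) = 1
  rw [pow_one, ← zpow_natCast, ← zpow_mul, mul_comm, zpow_mul, zpow_natCast, hx, one_zpow]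

lemma pgroup_comm {x y : G} (hx : x ^ 3 = 1) (hy : y ^ 3 = 1) (hc : Commute x y) :
    IsPGroup 3 (Subgroup.closure ({x, y} : Set G)) := by
  have e : Subgroup.closure ({x, y} : Set G) = Subgroup.zpowers x ⊔ Subgroup.zpowers y := by
    rw [Subgroup.zpowers_eq_closure, Subgroup.zpowers_eq_closure, ← Subgroup.closure_union]
    rfl
  rw [e]
  apply IsPGroup.to_sup_of_normal_right' (pgroup_zpowers hx) (pgroup_zpowers hy)
  rw [Subgroup.zpowers_le]
  rw [Subgroup.mem_normalizer_iff]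
  intro h
  constructor
  · intro hh
    obtain ⟨k, rfl⟩ := Subgroup.mem_zpowers_iff.mp hh
    have : x * y ^ k * x⁻¹ = y ^ k := by
      have := (hc.zpow_right k).eq
      rw [this, mul_assoc, mul_inv_cancel, mul_one]
    rw [this]; exact hh
  · intro hh
    obtain ⟨k, hk⟩ := Subgroup.mem_zpowers_iff.mp hh
    have : h = y ^ k := by
      have e1 : x⁻¹ * y ^ k * x = y ^ k := by
        have := (hc.zpow_right k).eq
        rw [mul_assoc, ← this, ← mul_assoc, inv_mul_cancel, one_mul]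
      calc h = x⁻¹ * (x * h * x⁻¹) * x := by group
        _ = x⁻¹ * y ^ k * x := by rw [hk]
        _ = y ^ k := e1
    rw [this]; exact Subgroup.zpow_mem_zpowers y k

section B2

variable {D : Set G} (H : Hyp D)

include H in
lemma sameN_nc {s t : G} (hs : s ∈ D) (ht : t ∈ D) (hst : s ≠ t) (hN : SameN D s t) :
    ¬ Commute s t := by
  intro hc
  have : Nbr D s t := ⟨ht, hst.symm, hc⟩
  exact ((hN t).mp this).2.1 rfl

include H in
lemma Kset_conj (g r : G) (hr : r ∈ Kset D) : g * r * g⁻¹ ∈ Kset D := by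
  obtain ⟨s, t, hs, ht, hst, hN, rfl⟩ := hr
  refine ⟨g * s * g⁻¹, g * t * g⁻¹, H.tt.conj g s hs, H.tt.conj g t ht, ?_, ?_, by group⟩
  · intro heq
    exact hst (mul_left_cancel (mul_right_cancel heq))
  · intro z
    have e : z = g * (g⁻¹ * z * g) * g⁻¹ := by group
    rw [e, nbr_conj_iff H.tt, nbr_conj_iff H.tt]
    exact hN _

include H in
lemma Kset_cube {r : G} (hr : r ∈ Kset D) : r ^ 3 = 1 := by
  obtain ⟨s, t, hs, ht, hst, hN, rfl⟩ := hr
  exact cube H.tt hs ht (sameN_nc H hs ht hst hN)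

include H in
lemma Kset_pair (hB : Bip D) {r₁ r₂ : G} (h1 : r₁ ∈ Kset D) (h2 : r₂ ∈ Kset D) :
    IsPGroup 3 (Subgroup.closure ({r₁, r₂} : Set G)) := by
  have hc1 := Kset_cube H h1
  have hc2 := Kset_cube H h2
  obtain ⟨s₁, t₁, hs₁, ht₁, hst₁, hN₁, rfl⟩ := h1
  obtain ⟨s₂, t₂, hs₂, ht₂, hst₂, hN₂, rfl⟩ := h2
  obtain ⟨e, -, he, -, -⟩ := H.ex hs₁
  have hes₁ : Nbr D e s₁ := nbr_symm H.tt hs₁ he
  have het₁ : Nbr D e t₁ := nbr_symm H.tt ht₁ ((hN₁ e).mp he)
  by_cases hβ : Nbr D e s₂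
  · -- β: all four on the line N(e)
    have het₂ : Nbr D e t₂ := nbr_symm H.tt ht₂ ((hN₂ e).mp (nbr_symm H.tt he.1 hβ))
    have hpm := H.rot_pm he.1 hes₁ het₁ hst₁ hβ het₂ hst₂
    have hle : Subgroup.closure ({s₁ * t₁, s₂ * t₂} : Set G) ≤ Subgroup.zpowers (s₁ * t₁) := by
      rw [Subgroup.closure_le]
      intro z hz
      rcases hz with rfl | rfl
      · exact Subgroup.mem_zpowers _
      · rcases hpm with e1 | e1
        · rw [SetLike.mem_coe, e1]; exact Subgroup.mem_zpowers _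
        · rw [SetLike.mem_coe, e1]
          have : t₁ * s₁ = (s₁ * t₁)⁻¹ := by
            rw [mul_inv_rev, inv_eq H.tt hs₁, inv_eq H.tt ht₁]
          rw [this]
          exact Subgroup.inv_mem _ (Subgroup.mem_zpowers _)
    exact (pgroup_zpowers hc1).to_le hle
  by_cases hα : Nbr D s₁ s₂
  · -- α: commute
    have a1 : Commute s₁ s₂ := hα.2.2
    have a2 : Commute t₁ s₂ := ((hN₁ s₂).mp hα).2.2
    have b1 : Nbr D s₂ s₁ := nbr_symm H.tt hs₁ hα
    have b2 : Nbr D s₂ t₁ := nbr_symm H.tt ht₁ ((hN₁ s₂).mp hα)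
    have a3 : Commute t₂ s₁ := ((hN₂ s₁).mp b1).2.2
    have a4 : Commute t₂ t₁ := ((hN₂ t₁).mp b2).2.2
    apply pgroup_comm hc1 hc2
    exact (a1.mul_right a3.symm).mul_left (a2.mul_right a4.symm)
  · -- γ: T0 e s₂
    have ht0 : T0 D e s₂ := by
      refine ⟨he.1, hs₂, ?_, ?_⟩
      · intro hc
        by_cases hse : s₂ = e
        · apply hα; rw [hse]; exact he
        · exact hβ ⟨hs₂, hse, hc⟩
      · intro z hz hz'
        apply hα
        have hsame := hB e he.1 z s₁ hz hes₁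
        have : Nbr D z s₂ := nbr_symm H.tt hs₂ hz'
        exact (hsame s₂).mp this
    obtain ⟨p, -, hp, -, -⟩ := H.ex hs₂
    have hNp := ht0.Np H hes₁ het₁ hst₁ hp
    have hpt₂ : Nbr D p t₂ := nbr_symm H.tt ht₂ ((hN₂ p).mp hp)
    have hcomm := ht0.rot_comm H hes₁ het₁ hst₁
    have hinv : (s₁ * t₁)⁻¹ = t₁ * s₁ := by
      rw [mul_inv_rev, inv_eq H.tt hs₁, inv_eq H.tt ht₁]
    have hss := sq_one H.tt hs₂
    obtain ⟨ρ, hρ⟩ : ∃ ρ, ρ = s₁ * t₁ := ⟨_, rfl⟩
    have hρi : t₁ * s₁ = ρ⁻¹ := by rw [hρ, hinv]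
    rw [← hρ] at hcomm hc1 ⊢
    rw [hρi, ← hρ, inv_inv] at hNp
    have hq3 : (s₂ * ρ * s₂) ^ 3 = 1 := by
      have : s₂ * ρ * s₂ = s₂ * ρ * s₂⁻¹ := by rw [inv_eq H.tt hs₂]
      rw [this, conj_pow, hc1, mul_one, mul_inv_cancel]
    have hbig := pgroup_comm hc1 hq3 hcomm
    apply hbig.to_le
    rw [Subgroup.closure_le]
    intro z hz
    have hρmem : ρ ∈ Subgroup.closure ({ρ, s₂ * ρ * s₂} : Set G) :=
      Subgroup.subset_closure (by simp)
    have hqmem : s₂ * ρ * s₂ ∈ Subgroup.closure ({ρ, s₂ * ρ * s₂} : Set G) :=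
      Subgroup.subset_closure (by simp)
    rcases hz with rfl | rfl
    · exact hρmem
    · rcases (hNp t₂).mp hpt₂ with e1 | e1 | e1
      · exact absurd e1.symm hst₂
      · -- t₂ = ρ s₂ ρ⁻¹ : s₂ t₂ = (s₂ ρ s₂) ρ⁻¹
        have : s₂ * t₂ = (s₂ * ρ * s₂) * ρ⁻¹ := by rw [e1]; simp only [mul_assoc]
        rw [SetLike.mem_coe, this]
        exact Subgroup.mul_mem _ hqmem (Subgroup.inv_mem _ hρmem)
      · have : s₂ * t₂ = (s₂ * ρ * s₂)⁻¹ * ρ := by
          rw [e1, mul_inv_rev, mul_inv_rev, inv_eq H.tt hs₂]; simp only [mul_assoc]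
        rw [SetLike.mem_coe, this]
        exact Subgroup.mul_mem _ (Subgroup.inv_mem _ hqmem) hρmem

end B2



variable {G : Type*} [Group G]

open Equiv Cfsg.Agent.Lib.Lead

section B2

variable {D : Set G} (H : Hyp D)

include H in
lemma core_cyclic [Finite G] (hB : Bip D)
    (hO : ∀ d ∈ D, Nat.card (Cfsg.pCore 3 ↥(Subgroup.centralizer ({d} : Set G))) = 3)
    {t r₁ r₂ : G} (ht : t ∈ D) (h1 : r₁ ∈ Subgroup.closure (Kset D)) (c1 : Commute t r₁)
    (n1 : r₁ ≠ 1) (h2 : r₂ ∈ Subgroup.closure (Kset D)) (c2 : Commute t r₂) :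
    r₂ ∈ Subgroup.zpowers r₁ := by
  haveI : Fact (Nat.Prime 3) := ⟨Nat.prime_three⟩
  obtain ⟨hYn, hYp⟩ := baer_suzuki_closure (p := 3) (Kset D) (fun g x hx => Kset_conj H g x hx)
    (fun x hx y hy => Kset_pair H hB hx hy)
  set Y := Subgroup.closure (Kset D) with hY
  set C := Subgroup.centralizer ({t} : Set G) with hC
  have hPn : (Y.subgroupOf C).Normal := hYn.subgroupOf C
  have hPp : IsPGroup 3 (Y.subgroupOf C) := hYp.comap_subtype
  have hle : Y.subgroupOf C ≤ Cfsg.pCore 3 ↥C := le_sSup ⟨hPn, hPp⟩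
  have m1 : r₁ ∈ C := by
    rw [hC, Subgroup.mem_centralizer_singleton_iff]; exact c1.eq.symm
  have m2 : r₂ ∈ C := by
    rw [hC, Subgroup.mem_centralizer_singleton_iff]; exact c2.eq.symm
  have p1 : (⟨r₁, m1⟩ : ↥C) ∈ Cfsg.pCore 3 ↥C := hle (Subgroup.mem_subgroupOf.mpr h1)
  have p2 : (⟨r₂, m2⟩ : ↥C) ∈ Cfsg.pCore 3 ↥C := hle (Subgroup.mem_subgroupOf.mpr h2)
  have hne : (⟨⟨r₁, m1⟩, p1⟩ : ↥(Cfsg.pCore 3 ↥C)) ≠ 1 := by
    intro h
    apply n1
    have := congrArg (fun z : ↥(Cfsg.pCore 3 ↥C) => ((z : ↥C) : G)) h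
    exact this
  have hmem := mem_zpowers_of_prime_card (hO t ht) (g' := (⟨⟨r₂, m2⟩, p2⟩ : ↥(Cfsg.pCore 3 ↥C))) hne
  obtain ⟨k, hk⟩ := Subgroup.mem_zpowers_iff.mp hmem
  rw [Subgroup.mem_zpowers_iff]
  refine ⟨k, ?_⟩
  have := congrArg (fun z : ↥(Cfsg.pCore 3 ↥C) => ((z : ↥C) : G)) hk
  simpa using this

include H in
lemma T0.of_nbr (hB : Bip D) {t z a : G} (h : T0 D t z) (ha : Nbr D t a) : T0 D a z := by
  refine ⟨ha.1, h.2.1, fun hc => h.nc ha hc.symm, ?_⟩
  intro w hw hw'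
  -- w ∈ N(a) ∩ N(z); t ∈ N(a) so SameN w t; z ∈ N(w) → z ∈ N(t)
  have hat : Nbr D a t := nbr_symm H.tt h.1 ha
  have hsame := hB a ha.1 w t hw hat
  have : Nbr D w z := nbr_symm H.tt h.2.1 hw'
  have := (hsame z).mp this
  exact h.2.2.1 this.2.2

include H in
lemma Kset_of_nbrs (hB : Bip D) {t a b : G} (ht : t ∈ D) (ha : Nbr D t a) (hb : Nbr D t b)
    (hab : a ≠ b) : a * b ∈ Kset D :=
  ⟨a, b, ha.1, hb.1, hab, hB t ht a b ha hb, rfl⟩

include H in
lemma lemmaV [Finite G] (hB : Bip D)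
    (hO : ∀ d ∈ D, Nat.card (Cfsg.pCore 3 ↥(Subgroup.centralizer ({d} : Set G))) = 3)
    {t a b e z p q : G} (ha : Nbr D t a) (hb : Nbr D t b) (hab : a ≠ b)
    (het : Nbr D a e) (hne : t ≠ e) (h : T0 D t z) (hp : Nbr D z p) (hq : Nbr D z q)
    (hpq : p ≠ q) : p * q ∈ Subgroup.closure ({a * b, t * e} : Set G) := by
  have ht := h.1
  have hat : Nbr D a t := nbr_symm H.tt ht ha
  have h' : T0 D a z := h.of_nbr H hB ha
  have N1 := h.Np H ha hb hab hp
  have N2 := h'.Np H hat het hne hp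
  have hρK : a * b ∈ Kset D := Kset_of_nbrs H hB ht ha hb hab
  have hτK : t * e ∈ Kset D := Kset_of_nbrs H hB ha.1 hat het hne
  have hσK : p * q ∈ Kset D := Kset_of_nbrs H hB h.2.1 hp hq hpq
  have hinvτ : (t * e)⁻¹ = e * t := by rw [mul_inv_rev, inv_eq H.tt ht, inv_eq H.tt het.1]
  obtain ⟨ρ, hρ⟩ : ∃ ρ, ρ = a * b := ⟨_, rfl⟩
  obtain ⟨τ, hτ⟩ : ∃ τ, τ = t * e := ⟨_, rfl⟩
  have hτi : e * t = τ⁻¹ := by rw [hτ, hinvτ]
  rw [← hρ] at N1 hρK ⊢
  rw [← hτ, hτi, inv_inv] at N2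
  rw [← hτ] at hτK ⊢
  -- ρ z ρ⁻¹ is a neighbour of p
  have m1 : Nbr D p (ρ * z * ρ⁻¹) := (N1 _).mpr (Or.inr (Or.inl rfl))
  have hzne : z ≠ ρ * z * ρ⁻¹ := by
    have := h.y_ne_conj H ha hb hab
    rwa [← hρ] at this
  -- t commutes with ρ but not with τ
  have htρ : Commute t ρ := by
    rw [hρ]; exact ha.2.2.mul_right hb.2.2
  have hnc_te : ¬ Commute t e := H.nc ha.1 hat het hne
  have hρY : ρ ∈ Subgroup.closure (Kset D) := Subgroup.subset_closure hρK
  have hτY : τ ∈ Subgroup.closure (Kset D) := Subgroup.subset_closure hτK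
  have hσY : p * q ∈ Subgroup.closure (Kset D) := Subgroup.subset_closure hσK
  have hρV : ρ ∈ Subgroup.closure ({ρ, τ} : Set G) := Subgroup.subset_closure (by simp)
  have hτV : τ ∈ Subgroup.closure ({ρ, τ} : Set G) := Subgroup.subset_closure (by simp)
  have hzσ : Commute z (p * q) := hp.2.2.mul_right hq.2.2
  have hσ1 : p * q ≠ 1 := by
    intro h1
    apply hpq
    have : p * q = p * p := by rw [sq_one H.tt hp.1]; exact h1
    exact (mul_left_cancel this).symm
  -- key: for u ∈ Y commuting with z, u ≠ 1: p*q ∈ zpowers u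
  have key : ∀ u, u ∈ Subgroup.closure (Kset D) → Commute z u → u ≠ 1 →
      u ∈ Subgroup.closure ({ρ, τ} : Set G) → p * q ∈ Subgroup.closure ({ρ, τ} : Set G) := by
    intro u hu hcu hu1 huV
    have h1 := core_cyclic H hB hO h.2.1 hσY hzσ hσ1 hu hcu
    -- u ∈ zpowers (p*q); and p*q ∈ zpowers u
    have h2 := core_cyclic H hB hO h.2.1 hu hcu hu1 hσY hzσ
    have : Subgroup.zpowers u ≤ Subgroup.closure ({ρ, τ} : Set G) := by
      rw [Subgroup.zpowers_le]; exact huV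
    exact this h2
  -- the element τ^{∓1} ρ ≠ 1
  have hne1 : ∀ w, (w = τ ∨ w = τ⁻¹) → w * ρ ≠ 1 := by
    intro w hw h1
    -- ρ = w⁻¹, so t commutes with w⁻¹ hence with τ
    have hρw : ρ = w⁻¹ := by
      have := eq_inv_of_mul_eq_one_right h1
      exact this
    have htw : Commute t τ := by
      rcases hw with rfl | rfl
      · have : Commute t w⁻¹ := by rw [← hρw]; exact htρ
        simpa using this.inv_right
      · have : Commute t (τ⁻¹)⁻¹ := by rw [← hρw]; exact htρ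
        simpa using this
    apply hnc_te
    rw [hτ] at htw
    -- t commutes with t * e → commutes with e
    have : Commute t (t⁻¹ * (t * e)) := (Commute.refl t).inv_right.mul_right htw
    simpa using this
  rcases (N2 _).mp m1 with e1 | e1 | e1
  · exact absurd e1.symm hzne
  · -- ρ z ρ⁻¹ = τ z τ⁻¹ : z commutes with τ⁻¹ ρ
    apply key (τ⁻¹ * ρ)
    · exact Subgroup.mul_mem _ (Subgroup.inv_mem _ hτY) hρY
    · show z * (τ⁻¹ * ρ) = τ⁻¹ * ρ * z
      have : τ⁻¹ * (ρ * z * ρ⁻¹) * ρ = τ⁻¹ * (τ * z * τ⁻¹) * ρ := by rw [e1]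
      have l : τ⁻¹ * (ρ * z * ρ⁻¹) * ρ = τ⁻¹ * ρ * z := by group
      have r : τ⁻¹ * (τ * z * τ⁻¹) * ρ = z * (τ⁻¹ * ρ) := by group
      rw [l, r] at this
      exact this.symm
    · exact hne1 τ⁻¹ (Or.inr rfl)
    · exact Subgroup.mul_mem _ (Subgroup.inv_mem _ hτV) hρV
  · apply key (τ * ρ)
    · exact Subgroup.mul_mem _ hτY hρY
    · show z * (τ * ρ) = τ * ρ * z
      have : τ * (ρ * z * ρ⁻¹) * ρ = τ * (τ⁻¹ * z * τ) * ρ := by rw [e1]
      have l : τ * (ρ * z * ρ⁻¹) * ρ = τ * ρ * z := by group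
      have r : τ * (τ⁻¹ * z * τ) * ρ = z * (τ * ρ) := by group
      rw [l, r] at this
      exact this.symm
    · exact hne1 τ (Or.inl rfl)
    · exact Subgroup.mul_mem _ hτV hρV

end B2



variable {G : Type*} [Group G]

open Equiv Cfsg.Agent.Lib.Lead

lemma conj_closure_le (T : Set G) (K : Subgroup G) (x : G) (hx : ∀ t ∈ T, x * t * x⁻¹ ∈ K) :
    ∀ v ∈ Subgroup.closure T, x * v * x⁻¹ ∈ K := by
  have : Subgroup.closure T ≤ K.comap (MulAut.conj x).toMonoidHom := by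
    rw [Subgroup.closure_le]
    intro t ht
    show (MulAut.conj x) t ∈ K
    rw [MulAut.conj_apply]
    exact hx t ht
  intro v hv
  have := this hv
  rw [Subgroup.mem_comap] at this
  simpa [MulAut.conj_apply] using this

lemma pow3_conj {g : G} (hg : g ^ 3 = 1) (v : G) :
    g * (g * (g * v * g⁻¹) * g⁻¹) * g⁻¹ = v := by
  have : g * (g * (g * v * g⁻¹) * g⁻¹) * g⁻¹ = g ^ 3 * v * (g ^ 3)⁻¹ := by
    rw [pow_succ, pow_two]; group
  rw [this, hg, one_mul, inv_one, mul_one]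

section B2

variable {D : Set G} (H : Hyp D)

include H in
lemma other_nbr {t a : G} (ht : t ∈ D) : ∃ b, Nbr D t b ∧ a ≠ b := by
  obtain ⟨u, v, hu, hv, hnc⟩ := H.ex ht
  by_cases h : a = u
  · refine ⟨v, hv, ?_⟩
    rw [h]; exact ne_of_not_commute hnc
  · exact ⟨u, hu, h⟩

include H in
lemma caseB2 [Finite G] (hB : Bip D)
    (hO : ∀ d ∈ D, Nat.card (Cfsg.pCore 3 ↥(Subgroup.centralizer ({d} : Set G))) = 3)
    {d a y : G} (hd : d ∈ D) (ha : Nbr D d a) (hy : y ∈ D) (hyd : ¬ Nbr D d y)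
    (hya : ¬ Nbr D a y) : False := by
  have had : Nbr D a d := nbr_symm H.tt hd ha
  obtain ⟨b, hb, hab⟩ := other_nbr H (a := a) hd
  obtain ⟨e, he, hde⟩ := other_nbr H (a := d) ha.1
  have hy_ne_d : y ≠ d := fun h => hya (h ▸ had)
  have hncdy : ¬ Commute d y := fun hc => hyd ⟨hy, hy_ne_d, hc⟩
  have t0dy : T0 D d y := by
    refine ⟨hd, hy, hncdy, ?_⟩
    intro w hw hw'
    have hsame := hB d hd w a hw ha
    exact hya ((hsame y).mp (nbr_symm H.tt hy hw'))
  have t0ay : T0 D a y := t0dy.of_nbr H hB ha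
  obtain ⟨p, q, hp, hq, hncpq⟩ := H.ex hy
  have hpq : p ≠ q := ne_of_not_commute hncpq
  have hpy : Nbr D p y := nbr_symm H.tt hy hp
  obtain ⟨y', hy', hyy'⟩ := other_nbr H (a := y) hp.1
  have t0dp : T0 D d p := (t0dy.symm.of_nbr H hB hp).symm
  have t0ap : T0 D a p := (t0ay.symm.of_nbr H hB hp).symm
  -- the four memberships
  have m1 := lemmaV H hB hO ha hb hab he hde t0dy hp hq hpq
  have m2 := lemmaV H hB hO ha hb hab he hde t0dp hpy hy' hyy'
  have m3 := lemmaV H hB hO hp hq hpq hy' hyy' t0dy.symm ha hb hab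
  have m4 := lemmaV H hB hO hp hq hpq hy' hyy' t0ay.symm had he hde
  -- name the rotations
  have hdd := sq_one H.tt hd
  have haa := sq_one H.tt ha.1
  have hyy := sq_one H.tt hy
  have hdi := inv_eq H.tt hd
  have hai := inv_eq H.tt ha.1
  have hyi := inv_eq H.tt hy
  have hρ3 : (a * b) ^ 3 = 1 := cube H.tt ha.1 hb.1 (H.nc hd ha hb hab)
  have hda : Commute d a := ha.2.2
  have hdb : Commute d b := hb.2.2
  have hae : Commute a e := he.2.2
  have hbe : Commute b e := ((hB d hd a b ha hb e).mp he).2.2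
  have hinvρ : (a * b)⁻¹ = b * a := by rw [mul_inv_rev, hai, inv_eq H.tt hb.1]
  have hinvτ : (d * e)⁻¹ = e * d := by rw [mul_inv_rev, hdi, inv_eq H.tt he.1]
  have hinvρ₂ : (y * y')⁻¹ = y' * y := by rw [mul_inv_rev, hyi, inv_eq H.tt hy'.1]
  obtain ⟨ρ, hρ⟩ : ∃ ρ, ρ = a * b := ⟨_, rfl⟩
  obtain ⟨τ, hτ⟩ : ∃ τ, τ = d * e := ⟨_, rfl⟩
  obtain ⟨ρ₂, hρ₂⟩ : ∃ ρ₂, ρ₂ = y * y' := ⟨_, rfl⟩
  obtain ⟨τ₂, hτ₂⟩ : ∃ τ₂, τ₂ = p * q := ⟨_, rfl⟩
  rw [← hρ, ← hτ, ← hτ₂] at m1
  rw [← hρ, ← hτ, ← hρ₂] at m2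
  rw [← hρ, ← hρ₂, ← hτ₂] at m3
  rw [← hτ, ← hρ₂, ← hτ₂] at m4
  rw [← hρ] at hρ3
  have hV : Subgroup.closure ({ρ, τ} : Set G) = Subgroup.closure ({τ₂, ρ₂} : Set G) := by
    apply le_antisymm
    · rw [Subgroup.closure_le]
      rintro z (rfl | rfl)
      · exact m3
      · exact m4
    · rw [Subgroup.closure_le]
      rintro z (rfl | rfl)
      · exact m1
      · exact m2
  -- conjugation facts on generators
  have cdρ : d * ρ * d⁻¹ = ρ := by
    have : Commute d ρ := by rw [hρ]; exact hda.mul_right hdb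
    rw [this.eq, mul_assoc, mul_inv_cancel, mul_one]
  have cdτ : d * τ * d⁻¹ = τ⁻¹ := by
    rw [hτ, hinvτ, hdi]
    simp only [← mul_assoc]; rw [hdd, one_mul]
  have caρ : a * ρ * a⁻¹ = ρ⁻¹ := by
    rw [hρ, hinvρ, hai]
    simp only [← mul_assoc]; rw [haa, one_mul]
  have caτ : a * τ * a⁻¹ = τ := by
    have : Commute a τ := by rw [hτ]; exact hda.symm.mul_right hae
    rw [this.eq, mul_assoc, mul_inv_cancel, mul_one]
  have cyρ₂ : y * ρ₂ * y⁻¹ = ρ₂⁻¹ := by
    rw [hρ₂, hinvρ₂, hyi]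
    simp only [← mul_assoc]; rw [hyy, one_mul]
  have cyτ₂ : y * τ₂ * y⁻¹ = τ₂ := by
    have : Commute y τ₂ := by rw [hτ₂]; exact hp.2.2.mul_right hq.2.2
    rw [this.eq, mul_assoc, mul_inv_cancel, mul_one]
  have hρτ : Commute ρ τ := by
    rw [hρ, hτ]
    exact (hda.symm.mul_right hae).mul_left (hdb.symm.mul_right hbe)
  set V := Subgroup.closure ({ρ, τ} : Set G) with hVdef
  have hρV : ρ ∈ V := Subgroup.subset_closure (by simp)
  have hτV : τ ∈ V := Subgroup.subset_closure (by simp)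
  have hρ₂V : ρ₂ ∈ V := by rw [hV]; exact Subgroup.subset_closure (by simp)
  have hτ₂V : τ₂ ∈ V := by rw [hV]; exact Subgroup.subset_closure (by simp)
  -- V is commutative
  have hVc : ∀ v ∈ V, ∀ w ∈ V, v * w = w * v := by
    have hgen : ∀ x ∈ ({ρ, τ} : Set G), ∀ z ∈ ({ρ, τ} : Set G), x * z = z * x := by
      rintro x (rfl | rfl) z (rfl | rfl)
      · rfl
      · exact hρτ.eq
      · exact hρτ.eq.symm
      · rfl
    have hC := Subgroup.isMulCommutative_closure hgen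
    intro v hv w hw
    have := hC.is_comm.comm (⟨v, hv⟩ : ↥(Subgroup.closure ({ρ, τ} : Set G))) ⟨w, hw⟩
    exact congrArg Subtype.val this
  -- A1, A3
  have A1 : ∀ v ∈ V, d * v * d⁻¹ ∈ V := by
    apply conj_closure_le
    rintro t (rfl | rfl)
    · rw [cdρ]; exact hρV
    · rw [cdτ]; exact V.inv_mem hτV
  have A1a : ∀ v ∈ V, a * v * a⁻¹ ∈ V := by
    apply conj_closure_le
    rintro t (rfl | rfl)
    · rw [caρ]; exact V.inv_mem hρV
    · rw [caτ]; exact hτV
  have A3 : ∀ v ∈ V, y * v * y⁻¹ ∈ V := by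
    intro v hv
    rw [hV] at hv
    have := conj_closure_le ({τ₂, ρ₂} : Set G) V y (by
      rintro t (rfl | rfl)
      · rw [cyτ₂]; exact hτ₂V
      · rw [cyρ₂]; exact V.inv_mem hρ₂V) v hv
    exact this
  -- A2 : a v a⁻¹ = (d v d⁻¹)⁻¹ on V
  have A2 : ∀ v ∈ V, a * v * a⁻¹ = (d * v * d⁻¹)⁻¹ := by
    intro v hv
    induction hv using Subgroup.closure_induction with
    | mem x hx =>
      rcases hx with rfl | rfl
      · rw [caρ, cdρ]
      · rw [caτ, cdτ, inv_inv]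
    | one => simp
    | mul x z hx hz ihx ihz =>
      have hx' : x ∈ V := hx
      have hz' : z ∈ V := hz
      have e1 : a * (x * z) * a⁻¹ = (a * x * a⁻¹) * (a * z * a⁻¹) := by group
      have e2 : d * (x * z) * d⁻¹ = (d * x * d⁻¹) * (d * z * d⁻¹) := by group
      rw [e1, e2, ihx, ihz, mul_inv_rev]
      have := hVc _ (A1 x hx') _ (A1 z hz')
      rw [← mul_inv_rev, ← mul_inv_rev, this]
    | inv x hx ihx =>
      have e1 : a * x⁻¹ * a⁻¹ = (a * x * a⁻¹)⁻¹ := by group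
      have e2 : d * x⁻¹ * d⁻¹ = (d * x * d⁻¹)⁻¹ := by group
      rw [e1, e2, ihx]
  -- g = d y, g' = a y
  have hncay : ¬ Commute a y := t0ay.2.2.1
  have g3 : (d * y) ^ 3 = 1 := cube H.tt hd hy hncdy
  have g3' : (a * y) ^ 3 = 1 := cube H.tt ha.1 hy hncay
  have cg : ∀ v, (d * y) * v * (d * y)⁻¹ = d * (y * v * y⁻¹) * d⁻¹ := by intro v; group
  have cg' : ∀ v, (a * y) * v * (a * y)⁻¹ = a * (y * v * y⁻¹) * a⁻¹ := by intro v; group
  have hcV : ∀ v ∈ V, (d * y) * v * (d * y)⁻¹ ∈ V := by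
    intro v hv; rw [cg]; exact A1 _ (A3 v hv)
  have hcc : ∀ v ∈ V, (a * y) * v * (a * y)⁻¹ = ((d * y) * v * (d * y)⁻¹)⁻¹ := by
    intro v hv
    rw [cg, cg', A2 _ (A3 v hv)]
  set g := d * y with hg
  set g' := a * y with hg'
  set v₁ := g * ρ * g⁻¹ with hv₁
  have hv₁V : v₁ ∈ V := hcV ρ hρV
  set v₂ := g * v₁ * g⁻¹ with hv₂
  have hv₂V : v₂ ∈ V := hcV v₁ hv₁V
  have s1 : g' * ρ * g'⁻¹ = v₁⁻¹ := hcc ρ hρV
  have s2 : g' * v₁⁻¹ * g'⁻¹ = v₂ := by
    rw [hcc _ (V.inv_mem hv₁V)]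
    have : g * v₁⁻¹ * g⁻¹ = (g * v₁ * g⁻¹)⁻¹ := by group
    rw [this, inv_inv]
  have s3 : g' * v₂ * g'⁻¹ = ρ⁻¹ := by
    rw [hcc _ hv₂V, hv₂, hv₁, pow3_conj g3]
  have hfin : ρ = ρ⁻¹ := by
    have := pow3_conj g3' ρ
    rw [s1, s2, s3] at this
    exact this.symm
  -- ρ = 1
  have hρ1 : ρ = 1 := by
    have h2 : ρ * ρ = 1 := by
      nth_rewrite 1 [hfin]; exact inv_mul_cancel ρ
    have : ρ ^ 3 = ρ := by rw [pow_succ, pow_two, h2, one_mul]
    rw [← this, hρ3]
  apply hab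
  have : a * b = a * a := by rw [haa, ← hρ]; exact hρ1
  exact (mul_left_cancel this).symm

end B2



open Equiv Cfsg.Agent.Lib.Lead


/-- Let D be a non-empty conjugation-invariant set of involutions of a finite group G satisfying the 3-transposition order conditions, and suppose that for every d in D the members of D other than d commuting with d generate a subgroup isomorphic to the symmetric group of degree 3, and the largest normal 3-subgroup of the centralizer of d has order 3. Then the subgroup generated by D is isomorphic to the symmetric group of degree 5 or to the direct product of two symmetric groups of degree 3. -/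
theorem result {G : Type*} [Group G] [Finite G] {D : Set G} (hD : Cfsg.IsThreeTranspositionSet D) (hconj : ∀ g : G, ∀ d ∈ D, g * d * g⁻¹ ∈ D) (hne : D.Nonempty) (hloc : ∀ d ∈ D, Nonempty (↥(Subgroup.closure {y : G | y ∈ D ∧ y ≠ d ∧ Commute d y}) ≃* Equiv.Perm (Fin 3)) ∧ Nat.card (Cfsg.pCore 3 ↥(Subgroup.centralizer ({d} : Set G))) = 3) : Nonempty (↥(Subgroup.closure D) ≃* Equiv.Perm (Fin 5)) ∨ Nonempty (↥(Subgroup.closure D) ≃* Equiv.Perm (Fin 3) × Equiv.Perm (Fin 3)) := by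
  have H : Hyp D := ⟨⟨hD.1, hD.2, hconj⟩, fun d hd => (hloc d hd).1⟩
  have hO := fun d hd => (hloc d hd).2
  obtain ⟨d, hd⟩ := hne
  by_cases hB : Bip D
  · obtain ⟨a, -, ha, -, -⟩ := H.ex hd
    by_cases hsub : ∀ y ∈ D, Nbr D d y ∨ Nbr D a y
    · right; exact caseB1 H hB hd ha hsub
    · push Not at hsub
      obtain ⟨y, hy, h1, h2⟩ := hsub
      exact (caseB2 H hB hO hd ha hy h1 h2).elim
  · left
    unfold Bip at hB
    push Not at hB
    obtain ⟨t, ht, p, q, hp, hq, z, hz⟩ := hB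
    rcases hz with ⟨h1, h2⟩ | ⟨h1, h2⟩
    · have hpq : p ≠ q := by
        intro h; apply h2; rw [← h]; exact h1
      exact caseA H ht hq hp (Ne.symm hpq) h1 h2
    · have hpq : p ≠ q := by
        intro h; apply h1; rw [h]; exact h2
      exact caseA H ht hp hq hpq h2 h1

end Cfsg.Agent.S5365
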