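import Mathlib
import Cfsg.Statements.S5366

set_option autoImplicit false
set_option maxHeartbeats 1000000
open Cfsg

namespace Cfsg.Agent.S5366

/-- the "third point" relation -/
abbrev TT {X : Type*} (L : Set (Set X)) (x y z : X) : Prop :=
  z ≠ x ∧ z ≠ y ∧ x ≠ y ∧ ({x, y, z} : Set X) ∈ L

section basics
variable {X : Type*} {L : Set (Set X)}

theorem TT_unique (hPL : LineSystem.IsPartialLinear L) {x y z z' : X} (h : TT L x y z)
    (h' : TT L x y z') : z = z' := by
  obtain ⟨hzx, hzy, hxy, hl⟩ := h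
  obtain ⟨_, _, _, hl'⟩ := h'
  have heq : ({x, y, z} : Set X) = {x, y, z'} :=
    hPL _ hl _ hl' x y hxy (by simp) (by simp) (by simp) (by simp)
  have hz : z ∈ ({x, y, z'} : Set X) := by rw [← heq]; simp
  rcases hz with h | h | h
  · exact absurd h hzx
  · exact absurd h hzy
  · exact h

theorem lineMap_eq_of_TT (hPL : LineSystem.IsPartialLinear L) {x y z : X} (h : TT L x y z) :
    LineSystem.lineMap L x y = z := by
  have hex : ∃ z : X, z ≠ x ∧ z ≠ y ∧ x ≠ y ∧ ({x, y, z} : Set X) ∈ L := ⟨z, h⟩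
  have h1 : LineSystem.lineMap L x y = hex.choose := dif_pos hex
  rw [h1]
  exact TT_unique hPL hex.choose_spec h

theorem lineMap_eq_self {x y : X} (h : ¬ ∃ z : X, TT L x y z) : LineSystem.lineMap L x y = y :=
  dif_neg h

theorem TT_swap23 {x y z : X} (h : TT L x y z) : TT L x z y := by
  obtain ⟨hzx, hzy, hxy, hl⟩ := h
  refine ⟨hxy.symm, hzy.symm, hzx.symm, ?_⟩
  rw [Set.pair_comm z y]; exact hl

theorem TT_swap12 {x y z : X} (h : TT L x y z) : TT L y x z := by
  obtain ⟨hzx, hzy, hxy, hl⟩ := h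
  refine ⟨hzy, hzx, hxy.symm, ?_⟩
  rw [Set.insert_comm y x]; exact hl

theorem lineMap_involutive (hPL : LineSystem.IsPartialLinear L) (x : X) :
    Function.Involutive (LineSystem.lineMap L x) := by
  intro y
  by_cases h : ∃ z : X, TT L x y z
  · obtain ⟨z, hz⟩ := h
    rw [lineMap_eq_of_TT hPL hz]
    exact lineMap_eq_of_TT hPL (TT_swap23 hz)
  · rw [lineMap_eq_self h, lineMap_eq_self h]

theorem line_eq_triple (h3 : ∀ l ∈ L, l.ncard = 3) {l : Set X} (hl : l ∈ L) {x y : X}
    (hx : x ∈ l) (hy : y ∈ l) (hxy : x ≠ y) : ∃ z, z ≠ x ∧ z ≠ y ∧ z ∈ l ∧ l = {x, y, z} := by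
  have hsub : ({x, y} : Set X) ⊆ l := by
    intro w hw
    rcases hw with h | h
    · rw [h]; exact hx
    · rw [Set.mem_singleton_iff.mp h]; exact hy
  have hcard : (l \ {x, y}).ncard = 1 := by
    rw [Set.ncard_sdiff hsub (Set.toFinite _), h3 l hl, Set.ncard_pair hxy]
  obtain ⟨z, hz⟩ := Set.ncard_eq_one.mp hcard
  have hzmem : z ∈ l \ {x, y} := by rw [hz]; exact Set.mem_singleton z
  refine ⟨z, ?_, ?_, hzmem.1, ?_⟩
  · intro h; exact hzmem.2 (by rw [h]; simp)
  · intro h; exact hzmem.2 (by rw [h]; simp)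
  · ext w
    constructor
    · intro hw
      by_cases h1 : w = x
      · rw [h1]; simp
      by_cases h2 : w = y
      · rw [h2]; simp
      have hw' : w ∈ l \ {x, y} := ⟨hw, by simp [h1, h2]⟩
      rw [hz] at hw'
      rw [Set.mem_singleton_iff.mp hw']; simp
    · intro hw
      rcases hw with h | h | h
      · rw [h]; exact hx
      · rw [h]; exact hy
      · rw [Set.mem_singleton_iff.mp h]; exact hzmem.1

theorem exists_TT_of_mem (h3 : ∀ l ∈ L, l.ncard = 3) {l : Set X} (hl : l ∈ L) {x y : X}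
    (hx : x ∈ l) (hy : y ∈ l) (hxy : x ≠ y) : ∃ z, TT L x y z ∧ l = {x, y, z} := by
  obtain ⟨z, hzx, hzy, _, hleq⟩ := line_eq_triple h3 hl hx hy hxy
  refine ⟨z, ⟨hzx, hzy, hxy, ?_⟩, hleq⟩
  rw [← hleq]; exact hl

theorem subset_span (L : Set (Set X)) (A : Set X) : A ⊆ LineSystem.span L A := by
  unfold LineSystem.span
  exact Set.subset_sInter (fun T hT => hT.1)

theorem span_isSubspace (L : Set (Set X)) (A : Set X) :
    LineSystem.IsSubspace L (LineSystem.span L A) := by
  intro l' hl' a ha b hb hab hal hbl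
  unfold LineSystem.span at ha hb ⊢
  apply Set.subset_sInter
  intro T hT
  exact hT.2 l' hl' a (Set.mem_sInter.mp ha T hT) b (Set.mem_sInter.mp hb T hT) hab hal hbl

theorem TT_of_restrict (h3 : ∀ l ∈ L, l.ncard = 3) {S : Set X} {a b c : S}
    (h : TT (LineSystem.restrict L S) a b c) : TT L (a : X) (b : X) (c : X) := by
  obtain ⟨hca, hcb, hab, l0, hl0, hl0S, heq⟩ := h
  have hca' : (c : X) ≠ a := fun h => hca (Subtype.ext h)
  have hcb' : (c : X) ≠ b := fun h => hcb (Subtype.ext h)
  have hab' : (a : X) ≠ b := fun h => hab (Subtype.ext h)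
  have ha : (a : X) ∈ l0 := by
    have : a ∈ ({a, b, c} : Set S) := by simp
    rw [heq] at this; exact this
  have hb : (b : X) ∈ l0 := by
    have : b ∈ ({a, b, c} : Set S) := by simp
    rw [heq] at this; exact this
  have hc : (c : X) ∈ l0 := by
    have : c ∈ ({a, b, c} : Set S) := by simp
    rw [heq] at this; exact this
  obtain ⟨z, hzx, hzy, hzl, hl0eq⟩ := line_eq_triple h3 hl0 ha hb hab'
  have hcz : (c : X) = z := by
    rw [hl0eq] at hc
    rcases hc with h | h | h
    · exact absurd h hca'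
    · exact absurd h hcb'
    · exact h
  refine ⟨hca', hcb', hab', ?_⟩
  rw [hcz, ← hl0eq]; exact hl0

theorem restrict_of_TT {S : Set X} (hS : LineSystem.IsSubspace L S) {a b : S} {z : X}
    (h : TT L (a : X) (b : X) z) : ∃ hz : z ∈ S, TT (LineSystem.restrict L S) a b ⟨z, hz⟩ := by
  obtain ⟨hza, hzb, hab, hl⟩ := h
  have hsub : ({(a : X), (b : X), z} : Set X) ⊆ S :=
    hS _ hl a a.2 b b.2 hab (by simp) (by simp)
  have hz : z ∈ S := hsub (by simp)
  refine ⟨hz, ?_, ?_, ?_, {(a : X), (b : X), z}, hl, hsub, ?_⟩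
  · intro h; exact hza (congrArg Subtype.val h)
  · intro h; exact hzb (congrArg Subtype.val h)
  · intro h; exact hab (congrArg Subtype.val h)
  · ext s
    constructor
    · intro hs
      rcases hs with h | h | h
      · exact Or.inl (congrArg Subtype.val h)
      · exact Or.inr (Or.inl (congrArg Subtype.val h))
      · exact Or.inr (Or.inr (congrArg Subtype.val (Set.mem_singleton_iff.mp h)))
    · intro hs
      rcases hs with h | h | h
      · exact Or.inl (Subtype.ext h)
      · exact Or.inr (Or.inl (Subtype.ext h))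
      · exact Or.inr (Or.inr (Subtype.ext (Set.mem_singleton_iff.mp h)))

end basics

section iso
variable {X' : Type*} {Y : Type*} {M' : Set (Set X')} {M : Set (Set Y)}

theorem TT_map (e : X' ≃ Y) (he : LineSystem.IsIso M' M e) {a b c : X'} :
    TT M' a b c ↔ TT M (e a) (e b) (e c) := by
  have himg : e '' ({a, b, c} : Set X') = {e a, e b, e c} := by
    rw [Set.image_insert_eq, Set.image_insert_eq, Set.image_singleton]
  constructor
  · rintro ⟨hca, hcb, hab, hl⟩
    refine ⟨fun h => hca (e.injective h), fun h => hcb (e.injective h),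
      fun h => hab (e.injective h), ?_⟩
    rw [← himg]; exact (he _).mp hl
  · rintro ⟨hca, hcb, hab, hl⟩
    refine ⟨fun h => hca (congrArg e h), fun h => hcb (congrArg e h),
      fun h => hab (congrArg e h), ?_⟩
    apply (he _).mpr
    rw [himg]; exact hl

/-- the property of a line system that each point-reflection maps lines to lines -/
def Pprop {Y : Type*} (M : Set (Set Y)) : Prop :=
  ∀ a : Y, ∀ l1 ∈ M, ∃ l2 ∈ M, ∀ b ∈ l1,
    (∃ c ∈ l2, TT M a b c) ∨ ((¬ ∃ c, TT M a b c) ∧ b ∈ l2)

theorem Pprop_of_iso (e : X' ≃ Y) (he : LineSystem.IsIso M' M e) (hP : Pprop M) : Pprop M' := by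
  intro a l1 hl1
  obtain ⟨l0, hl0, h0⟩ := hP (e a) (e '' l1) ((he l1).mp hl1)
  refine ⟨e.symm '' l0, (he _).mpr (by rw [Equiv.image_symm_image]; exact hl0), ?_⟩
  intro b hb
  rcases h0 (e b) ⟨b, hb, rfl⟩ with ⟨c0, hc0, hT⟩ | ⟨hno, hb0⟩
  · left
    refine ⟨e.symm c0, ⟨c0, hc0, rfl⟩, (TT_map e he).mpr ?_⟩
    rw [Equiv.apply_symm_apply]; exact hT
  · right
    refine ⟨?_, ⟨e b, hb0, e.symm_apply_apply b⟩⟩
    rintro ⟨c, hc⟩
    exact hno ⟨e c, (TT_map e he).mp hc⟩

end iso

theorem zmod3_cases (c : ZMod 3) : c = 0 ∨ c = 1 ∨ c = 2 := by revert c; decide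

theorem P_affine : Pprop affinePlaneThree := by
  have h3 : (3 : ZMod 3) = 0 := by decide
  intro a l1 hl1
  obtain ⟨v, w, hw, rfl⟩ := hl1
  refine ⟨{x | ∃ c : ZMod 3, x = (-a - v) + c • w}, ⟨-a - v, w, hw, rfl⟩, ?_⟩
  rintro b0 ⟨c, rfl⟩
  by_cases hab : a = v + c • w
  · right
    refine ⟨?_, ⟨-c, ?_⟩⟩
    · rintro ⟨c', hc'⟩
      exact hc'.2.2.1 hab
    · subst hab
      funext i
      simp only [Pi.add_apply, Pi.sub_apply, Pi.neg_apply, Pi.smul_apply, smul_eq_mul]
      linear_combination (v i + c * w i) * h3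
  · left
    obtain ⟨b, hb⟩ : ∃ b, b = v + c • w := ⟨_, rfl⟩
    rw [← hb] at hab ⊢
    have hc0l : -a - b ∈ {x | ∃ c : ZMod 3, x = (-a - v) + c • w} := by
      refine ⟨-c, ?_⟩
      rw [hb, neg_smul]; abel
    refine ⟨-a - b, hc0l, ?_, ?_, hab, ?_⟩
    · intro h
      apply hab
      funext i
      have hi := congrFun h i
      simp only [Pi.sub_apply, Pi.neg_apply] at hi
      linear_combination hi + (a i) * h3
    · intro h
      apply hab
      funext i
      have hi := congrFun h i
      simp only [Pi.sub_apply, Pi.neg_apply] at hi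
      linear_combination (-1 : ZMod 3) * hi - (b i) * h3
    · refine ⟨a, b - a, sub_ne_zero.mpr (Ne.symm hab), ?_⟩
      ext y
      constructor
      · intro hy
        rcases hy with h | h | h
        · exact ⟨0, by rw [h]; simp⟩
        · exact ⟨1, by rw [h]; simp⟩
        · refine ⟨2, ?_⟩
          rw [Set.mem_singleton_iff.mp h]
          funext i
          simp only [Pi.add_apply, Pi.sub_apply, Pi.neg_apply, Pi.smul_apply, smul_eq_mul]
          linear_combination (-(b i)) * h3
      · rintro ⟨c', rfl⟩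
        rcases zmod3_cases c' with h | h | h
        · left; rw [h]; simp
        · right; left; rw [h]; simp
        · right; right
          rw [h]
          show a + (2 : ZMod 3) • (b - a) = -a - b
          funext i
          simp only [Pi.add_apply, Pi.sub_apply, Pi.neg_apply, Pi.smul_apply, smul_eq_mul]
          linear_combination (b i) * h3

set_option maxRecDepth 100000 in
theorem dual_d2 : ∀ a b : Finset (Fin 4), a.card = 2 → b.card = 2 → a ∩ b = ∅ →
    ∀ k : Fin 4, k ∈ a ∨ k ∈ b := by decide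

set_option maxRecDepth 100000 in
theorem dual_d3 : ∀ a : Finset (Fin 4), a.card = 2 → ∀ i : Fin 4, ∃ j : Fin 4,
    ∀ b : Finset (Fin 4), b.card = 2 → i ∉ b →
    ((a = b ∨ a ∩ b = ∅) → j ∉ b) ∧ ((a ≠ b ∧ a ∩ b ≠ ∅) → j ∉ (a \ b) ∪ (b \ a)) := by decide

set_option maxRecDepth 100000 in
theorem dual_d1 : ∀ a b : Finset (Fin 4), a.card = 2 → b.card = 2 → a ≠ b → a ∩ b ≠ ∅ →
    ((a \ b) ∪ (b \ a)).card = 2 ∧ (a \ b) ∪ (b \ a) ≠ a ∧ (a \ b) ∪ (b \ a) ≠ b ∧
    ∃ k : Fin 4, ∀ s : Finset (Fin 4), s.card = 2 →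
      ((s = a ∨ s = b ∨ s = (a \ b) ∪ (b \ a)) ↔ k ∉ s) := by
  decide

theorem P_dual : Pprop dualAffinePlaneTwo := by
  intro a l1 hl1
  obtain ⟨i, rfl⟩ := hl1
  obtain ⟨j, hj⟩ := dual_d3 a.1 a.2 i
  refine ⟨{s | j ∉ s.val}, ⟨j, rfl⟩, ?_⟩
  intro b hb
  by_cases hcase : a.1 ≠ b.1 ∧ a.1 ∩ b.1 ≠ ∅
  · left
    obtain ⟨hc2, hca, hcb, k, hk⟩ := dual_d1 a.1 b.1 a.2 b.2 hcase.1 hcase.2
    refine ⟨⟨(a.1 \ b.1) ∪ (b.1 \ a.1), hc2⟩, (hj b.1 b.2 hb).2 hcase, ?_, ?_, ?_, k, ?_⟩
    · intro h; exact hca (congrArg Subtype.val h)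
    · intro h; exact hcb (congrArg Subtype.val h)
    · intro h; exact hcase.1 (congrArg Subtype.val h)
    · ext s
      constructor
      · intro hs
        apply (hk s.1 s.2).mp
        rcases hs with h | h | h
        · exact Or.inl (congrArg Subtype.val h)
        · exact Or.inr (Or.inl (congrArg Subtype.val h))
        · exact Or.inr (Or.inr (congrArg Subtype.val (Set.mem_singleton_iff.mp h)))
      · intro hs
        rcases (hk s.1 s.2).mpr hs with h | h | h
        · exact Or.inl (Subtype.ext h)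
        · exact Or.inr (Or.inl (Subtype.ext h))
        · exact Or.inr (Or.inr (Subtype.ext h))
  · right
    have hcase' : a.1 = b.1 ∨ a.1 ∩ b.1 = ∅ := by
      by_cases h1 : a.1 = b.1
      · exact Or.inl h1
      · by_cases h2 : a.1 ∩ b.1 = ∅
        · exact Or.inr h2
        · exact absurd ⟨h1, h2⟩ hcase
    refine ⟨?_, (hj b.1 b.2 hb).1 hcase'⟩
    rintro ⟨c, hca, hcb, hab, k, hk⟩
    rcases hcase' with h | h
    · exact hab (Subtype.ext h)
    · have ha : a ∈ ({a, b, c} : Set DualAffinePoint) := by simp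
      have hb' : b ∈ ({a, b, c} : Set DualAffinePoint) := by simp
      rw [hk] at ha hb'
      rcases dual_d2 a.1 b.1 a.2 b.2 h k with h1 | h1
      · exact ha h1
      · exact hb' h1

section main
variable {X : Type*} {L : Set (Set X)}

theorem lineMap_conj (hPL : LineSystem.IsPartialLinear L) (phi : Equiv.Perm X)
    (hphi : LineSystem.IsIso L L phi) (y b : X) :
    LineSystem.lineMap L (phi y) (phi b) = phi (LineSystem.lineMap L y b) := by
  by_cases h : ∃ c, TT L y b c
  · obtain ⟨c, hc⟩ := h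
    rw [lineMap_eq_of_TT hPL hc, lineMap_eq_of_TT hPL ((TT_map phi hphi).mp hc)]
  · have h' : ¬ ∃ c', TT L (phi y) (phi b) c' := by
      rintro ⟨c', hc'⟩
      apply h
      refine ⟨phi.symm c', (TT_map phi hphi).mpr ?_⟩
      rw [Equiv.apply_symm_apply]; exact hc'
    rw [lineMap_eq_self h, lineMap_eq_self h']

theorem image_line (hL : IsFischerSpace L) (x : X) {l : Set X} (hl : l ∈ L) :
    LineSystem.lineMap L x '' l ∈ L := by
  obtain ⟨hPL, h3, hplane⟩ := hL
  by_cases hx : x ∈ l
  · obtain ⟨y, hyl, hyx⟩ := Set.exists_ne_of_one_lt_ncard (by rw [h3 l hl]; norm_num) x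
    obtain ⟨z, hT, hleq⟩ := exists_TT_of_mem h3 hl hx hyl (Ne.symm hyx)
    have hxx : LineSystem.lineMap L x x = x :=
      lineMap_eq_self (by rintro ⟨z', hz'⟩; exact hz'.2.2.1 rfl)
    have hxy : LineSystem.lineMap L x y = z := lineMap_eq_of_TT hPL hT
    have hxz : LineSystem.lineMap L x z = y := lineMap_eq_of_TT hPL (TT_swap23 hT)
    have himg : LineSystem.lineMap L x '' l = l := by
      rw [hleq, Set.image_insert_eq, Set.image_insert_eq, Set.image_singleton, hxx, hxy, hxz,
        Set.pair_comm z y]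
    rw [himg]; exact hl
  · by_cases hcol : ∃ p ∈ l, ∃ q, TT L x p q
    · obtain ⟨p, hpl, q, hT⟩ := hcol
      have hmL : ({x, p, q} : Set X) ∈ L := hT.2.2.2
      have hxm : x ∈ ({x, p, q} : Set X) := by simp
      have hpm : p ∈ ({x, p, q} : Set X) := by simp
      have hne : l ≠ ({x, p, q} : Set X) := fun h => hx (by rw [h]; exact hxm)
      have hSsub := span_isSubspace L (l ∪ {x, p, q})
      have hsubS := subset_span L (l ∪ {x, p, q})
      have hP : Pprop (LineSystem.restrict L (LineSystem.span L (l ∪ {x, p, q}))) := by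
        rcases hplane l hl _ hmL hne ⟨p, hpl, hpm⟩ with ⟨e, he⟩ | ⟨e, he⟩
        · exact Pprop_of_iso e he P_dual
        · exact Pprop_of_iso e he P_affine
      have hxS : x ∈ LineSystem.span L (l ∪ {x, p, q}) := hsubS (Or.inr hxm)
      have hlS : l ⊆ LineSystem.span L (l ∪ {x, p, q}) := fun w hw => hsubS (Or.inl hw)
      obtain ⟨l1, hl1, hb⟩ := hP ⟨x, hxS⟩ {s | (s : X) ∈ l} ⟨l, hl, hlS, rfl⟩
      obtain ⟨l', hl'L, hl'S, rfl⟩ := hl1
      have hsub : LineSystem.lineMap L x '' l ⊆ l' := by
        rintro _ ⟨y, hy, rfl⟩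
        rcases hb ⟨y, hlS hy⟩ hy with ⟨c, hc, hTc⟩ | ⟨hno, hyl'⟩
        · have hT' : TT L x y (c : X) := TT_of_restrict h3 hTc
          rw [lineMap_eq_of_TT hPL hT']; exact hc
        · have hno' : ¬ ∃ z, TT L x y z := by
            rintro ⟨z, hz⟩
            obtain ⟨hzS, hz'⟩ := restrict_of_TT hSsub (a := ⟨x, hxS⟩) (b := ⟨y, hlS hy⟩) hz
            exact hno ⟨⟨z, hzS⟩, hz'⟩
          rw [lineMap_eq_self hno']; exact hyl'
      have hfin : l'.Finite := Set.finite_of_ncard_ne_zero (by rw [h3 l' hl'L]; norm_num)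
      have heq : LineSystem.lineMap L x '' l = l' :=
        Set.eq_of_subset_of_ncard_le hsub
          (le_of_eq (by rw [h3 l' hl'L,
            Set.ncard_image_of_injective _ (lineMap_involutive hPL x).injective, h3 l hl])) hfin
      rw [heq]; exact hl'L
    · have hfix : ∀ p ∈ l, LineSystem.lineMap L x p = p := by
        intro p hp
        apply lineMap_eq_self
        rintro ⟨q, hq⟩
        exact hcol ⟨p, hp, q, hq⟩
      have : LineSystem.lineMap L x '' l = l := by
        ext w
        constructor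
        · rintro ⟨p, hp, rfl⟩; rw [hfix p hp]; exact hp
        · intro hw; exact ⟨w, hw, hfix w hw⟩
      rw [this]; exact hl

end main

/-- Let L be a nondegenerate Fischer space on the point type X (every point on a line). Then for every point x the map t(x) — sending a point collinear with x to the third point of their common line and fixing every other point — is a permutation of X of order 2 and an automorphism of the line system; and the set of all t(x) satisfies the 3-transposition order conditions in the permutation group of X (any two have product of order at most 3). -/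
theorem result {X : Type*} (L : Set (Set X)) (hL : Cfsg.IsFischerSpace L) (hnd : Cfsg.LineSystem.IsNondegenerate L) : (∀ x : X, ∃ σ : Equiv.Perm X, ⇑σ = Cfsg.LineSystem.lineMap L x ∧ orderOf σ = 2 ∧ Cfsg.LineSystem.IsIso L L σ) ∧ Cfsg.IsThreeTranspositionSet {σ : Equiv.Perm X | ∃ x : X, ⇑σ = Cfsg.LineSystem.lineMap L x} := by
  have hPL := hL.1
  have h3 := hL.2.1
  let sig : X → Equiv.Perm X := fun x => (lineMap_involutive hPL x).toPerm
  have hsig : ∀ x, ⇑(sig x) = LineSystem.lineMap L x := fun x => rfl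
  have hsq : ∀ x, sig x * sig x = 1 := by
    intro x; ext w; exact lineMap_involutive hPL x w
  have hiso : ∀ x, LineSystem.IsIso L L (sig x) := by
    intro x l
    constructor
    · intro hl; rw [hsig]; exact image_line hL x hl
    · intro hl
      rw [hsig] at hl
      have h2 := image_line hL x hl
      have himg2 : LineSystem.lineMap L x '' (LineSystem.lineMap L x '' l) = l := by
        rw [Set.image_image]
        have : (fun w => LineSystem.lineMap L x (LineSystem.lineMap L x w)) = id :=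
          funext (lineMap_involutive hPL x)
        rw [this, Set.image_id]
      rw [himg2] at h2; exact h2
  have hord : ∀ x, orderOf (sig x) = 2 := by
    intro x
    obtain ⟨l, hl, hxl⟩ := hnd x
    obtain ⟨y, hyl, hyx⟩ := Set.exists_ne_of_one_lt_ncard (by rw [h3 l hl]; norm_num) x
    obtain ⟨z, hT, _⟩ := exists_TT_of_mem h3 hl hxl hyl (Ne.symm hyx)
    apply orderOf_eq_prime
    · rw [sq]; exact hsq x
    · intro h1
      have h2 : sig x y = y := by rw [h1]; rfl
      rw [hsig, lineMap_eq_of_TT hPL hT] at h2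
      exact hT.2.1 h2
  have hconj : ∀ x y, sig x * sig y * sig x = sig (LineSystem.lineMap L x y) := by
    intro x y
    ext w
    have h := lineMap_conj hPL (sig x) (hiso x) y (LineSystem.lineMap L x w)
    have e1 : sig x (LineSystem.lineMap L x w) = w := lineMap_involutive hPL x w
    rw [e1] at h
    show sig x (sig y (sig x w)) = sig (LineSystem.lineMap L x y) w
    exact h.symm
  refine ⟨fun x => ⟨sig x, hsig x, hord x, hiso x⟩, ?_, ?_⟩
  · rintro d ⟨x, hx⟩
    have hd : d = sig x := DFunLike.coe_injective (hx.trans (hsig x).symm)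
    rw [hd]; exact hord x
  · rintro d ⟨x, hx⟩ e ⟨y, hy⟩
    have hd : d = sig x := DFunLike.coe_injective (hx.trans (hsig x).symm)
    have he : e = sig y := DFunLike.coe_injective (hy.trans (hsig y).symm)
    rw [hd, he]
    by_cases hcol : ∃ z, TT L x y z
    · right
      obtain ⟨z, hz⟩ := hcol
      have A : sig x * sig y * sig x = sig z := by rw [hconj, lineMap_eq_of_TT hPL hz]
      have B : sig y * sig x * sig y = sig z := by
        rw [hconj, lineMap_eq_of_TT hPL (TT_swap12 hz)]
      calc (sig x * sig y) ^ 3 = (sig x * sig y * sig x) * (sig y * sig x * sig y) := by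
            simp only [pow_succ, pow_zero, one_mul, mul_assoc]
        _ = sig z * sig z := by rw [A, B]
        _ = 1 := hsq z
    · left
      have A : sig x * sig y * sig x = sig y := by rw [hconj, lineMap_eq_self hcol]
      calc (sig x * sig y) ^ 2 = (sig x * sig y * sig x) * sig y := by
            simp only [pow_succ, pow_zero, one_mul, mul_assoc]
        _ = sig y * sig y := by rw [A]
        _ = 1 := hsq y

end Cfsg.Agent.S5366
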