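import Cfsg.Statements.S5367
import Mathlib
import Cfsg.Agent.Lib.Helper1.CoxeterA

set_option autoImplicit false
open Cfsg

namespace Cfsg.Agent.S5367


section defs

variable {G : Type*} [Group G]

/-- the package of hypotheses on `D` -/
structure TT (D : Set G) : Prop where
  ord : ∀ d ∈ D, orderOf d = 2
  prod : ∀ d ∈ D, ∀ e ∈ D, (d * e) ^ 2 = 1 ∨ (d * e) ^ 3 = 1
  conj : ∀ g : G, ∀ d ∈ D, g * d * g⁻¹ ∈ D

/-- `x, y ∈ D` do not commute and `z = y x y` is the third point of their line -/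
def Q (D : Set G) (x y z : G) : Prop := x ∈ D ∧ y ∈ D ∧ ¬ Commute x y ∧ y * x * y = z

end defs

section basic

variable {G : Type*} [Group G] {D : Set G} (h : TT D)

include h in
lemma sq_one {d : G} (hd : d ∈ D) : d * d = 1 := by
  have := h.ord d hd
  rw [← pow_two, ← this]; exact pow_orderOf_eq_one d

include h in
lemma inv_eq {d : G} (hd : d ∈ D) : d⁻¹ = d :=
  inv_eq_of_mul_eq_one_left (sq_one h hd)

include h in
lemma cancel_l {d : G} (hd : d ∈ D) (z : G) : d * (d * z) = z := by
  rw [← mul_assoc, sq_one h hd, one_mul]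

include h in
lemma conj_inv_mem {t y : G} (ht : t ∈ D) (hy : y ∈ D) : t * y * t ∈ D := by
  have := h.conj t y hy
  rwa [inv_eq h ht] at this

include h in
lemma cube {x y : G} (hx : x ∈ D) (hy : y ∈ D) (hc : ¬ Commute x y) : (x * y) ^ 3 = 1 := by
  rcases h.prod x hx y hy with h2 | h3
  · exfalso
    apply hc
    rw [pow_two] at h2
    have : x * y = (x * y)⁻¹ := by
      rw [eq_inv_iff_mul_eq_one]; exact h2
    rw [mul_inv_rev, inv_eq h hx, inv_eq h hy] at this
    exact this
  · exact h3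

include h in
lemma braid {x y : G} (hx : x ∈ D) (hy : y ∈ D) (hc : ¬ Commute x y) :
    x * y * x = y * x * y := by
  have h3 := cube h hx hy hc
  rw [pow_succ, pow_two] at h3
  have : x * y * x = (y * x * y)⁻¹ := by
    rw [eq_inv_iff_mul_eq_one]
    rw [← h3]; simp only [mul_assoc]
  rw [this, mul_inv_rev, mul_inv_rev, inv_eq h hx, inv_eq h hy, mul_assoc]

lemma Q.mk' {x y : G} (hx : x ∈ D) (hy : y ∈ D) (hc : ¬ Commute x y) : Q D x y (y * x * y) :=
  ⟨hx, hy, hc, rfl⟩

include h in
lemma Q.mem3 {x y z : G} (hQ : Q D x y z) : z ∈ D := by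
  rw [← hQ.2.2.2]; exact conj_inv_mem h hQ.2.1 hQ.1

include h in
lemma Q.symm {x y z : G} (hQ : Q D x y z) : Q D y x z := by
  refine ⟨hQ.2.1, hQ.1, fun hc => hQ.2.2.1 hc.symm, ?_⟩
  rw [braid h hQ.1 hQ.2.1 hQ.2.2.1]; exact hQ.2.2.2

include h in
lemma Q.rot {x y z : G} (hQ : Q D x y z) : Q D x z y := by
  obtain ⟨hx, hy, hc, rfl⟩ := hQ
  have hb := braid h hx hy hc
  refine ⟨hx, conj_inv_mem h hy hx, ?_, ?_⟩
  · intro hcom
    apply hc
    have e := hcom.eq
    rw [← hb] at e
    have e1 : x * (x * y * x) = y * x := by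
      simp only [mul_assoc]; rw [cancel_l h hx]
    have e2 : x * y * x * x = x * y := by rw [mul_assoc, sq_one h hx, mul_one]
    rw [e1, e2] at e
    exact e.symm
  · rw [← hb]
    calc x * y * x * x * (x * y * x) = x * y * (x * x) * (x * y * x) := by simp only [mul_assoc]
      _ = x * y * (x * y * x) := by rw [sq_one h hx, mul_one]
      _ = x * (y * x * y) * x := by simp only [mul_assoc]
      _ = x * (x * y * x) * x := by rw [hb]
      _ = y := by simp only [mul_assoc]; rw [cancel_l h hx, sq_one h hx, mul_one]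

include h in
lemma Q.conj {t x y z : G} (ht : t ∈ D) (hQ : Q D x y z) :
    Q D (t * x * t) (t * y * t) (t * z * t) := by
  obtain ⟨hx, hy, hc, rfl⟩ := hQ
  refine ⟨conj_inv_mem h ht hx, conj_inv_mem h ht hy, ?_, ?_⟩
  · intro hcom
    apply hc
    have e := hcom.eq
    have e1 : t * x * t * (t * y * t) = t * (x * y) * t := by
      simp only [mul_assoc, cancel_l h ht]
    have e2 : t * y * t * (t * x * t) = t * (y * x) * t := by
      simp only [mul_assoc, cancel_l h ht]
    rw [e1, e2] at e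
    exact mul_left_cancel (mul_right_cancel e)
  · simp only [mul_assoc, cancel_l h ht]

lemma Q.ne12 {x y z : G} (hQ : Q D x y z) : x ≠ y := by
  intro hxy; apply hQ.2.2.1; rw [hxy]

include h in
lemma Q.ne13 {x y z : G} (hQ : Q D x y z) : x ≠ z := (Q.rot h hQ).ne12

include h in
lemma Q.ne23 {x y z : G} (hQ : Q D x y z) : y ≠ z := (Q.rot h (Q.symm h hQ)).ne12

/-- third point as an element of `D` -/
def th (x y : D) : D := ⟨(y : G) * x * (y : G)⁻¹, h.conj y x x.2⟩

/-- the line through `x`, `y` -/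
def ln (x y : D) : Set D :=
  {z : D | (z : G) = x ∨ (z : G) = y ∨ (z : G) = (y : G) * (x : G) * (y : G)⁻¹}

lemma mem_lines {l : Set D} : l ∈ threeTranspositionLines D ↔
    ∃ x y : D, ¬ Commute (x : G) (y : G) ∧ l = ln x y := Iff.rfl

include h in
lemma Q_th {x y : D} (hc : ¬ Commute (x : G) (y : G)) :
    Q D (x : G) (y : G) ((th h x y : D) : G) :=
  ⟨x.2, y.2, hc, by show (y : G) * x * y = (y : G) * x * (y : G)⁻¹; rw [inv_eq h y.2]⟩

include h in
lemma ln_eq_of_Q {x y z : D} (hQ : Q D (x : G) (y : G) (z : G)) : ln x y = {x, y, z} := by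
  ext w
  simp only [ln, Set.mem_ofPred_eq, Set.mem_insert_iff, Set.mem_singleton_iff, Subtype.ext_iff]
  rw [inv_eq h y.2, hQ.2.2.2]

include h in
lemma ln_mem_lines {x y z : D} (hQ : Q D (x : G) (y : G) (z : G)) :
    ({x, y, z} : Set D) ∈ threeTranspositionLines D :=
  ⟨x, y, hQ.2.2.1, (ln_eq_of_Q h hQ).symm⟩

include h in
lemma ln_of_mem {x y u v : D} (hc : ¬ Commute (x : G) (y : G)) (hu : u ∈ ln x y)
    (hv : v ∈ ln x y) (huv : u ≠ v) : ¬ Commute (u : G) (v : G) ∧ ln u v = ln x y := by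
  obtain ⟨z, hz⟩ : ∃ z, z = th h x y := ⟨_, rfl⟩
  have hQ := Q_th h hc
  rw [← hz] at hQ
  have hl := ln_eq_of_Q h hQ
  rw [hl] at hu hv ⊢
  simp only [Set.mem_insert_iff, Set.mem_singleton_iff] at hu hv
  have key : ∀ {u v w : D}, Q D (u : G) (v : G) (w : G) → ({u, v, w} : Set D) = {x, y, z} →
      ¬ Commute (u : G) (v : G) ∧ ln u v = {x, y, z} := by
    intro u v w hQ' hs
    exact ⟨hQ'.2.2.1, by rw [ln_eq_of_Q h hQ', hs]⟩
  have hs : ∀ a b c : D, ({a, c, b} : Set D) = {a, b, c} := by
    intro a b c; ext w; simp only [Set.mem_insert_iff, Set.mem_singleton_iff]; tauto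
  have hs2 : ∀ a b c : D, ({b, a, c} : Set D) = {a, b, c} := by
    intro a b c; ext w; simp only [Set.mem_insert_iff, Set.mem_singleton_iff]; tauto
  have hs3 : ∀ a b c : D, ({b, c, a} : Set D) = {a, b, c} := by
    intro a b c; ext w; simp only [Set.mem_insert_iff, Set.mem_singleton_iff]; tauto
  have hs4 : ∀ a b c : D, ({c, a, b} : Set D) = {a, b, c} := by
    intro a b c; ext w; simp only [Set.mem_insert_iff, Set.mem_singleton_iff]; tauto
  have hs5 : ∀ a b c : D, ({c, b, a} : Set D) = {a, b, c} := by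
    intro a b c; ext w; simp only [Set.mem_insert_iff, Set.mem_singleton_iff]; tauto
  rcases hu with hu | hu | hu <;> rcases hv with hv | hv | hv
  · exact absurd (hu.trans hv.symm) huv
  · rw [hu, hv]; exact key hQ rfl
  · rw [hu, hv]; exact key (Q.rot h hQ) (hs _ _ _)
  · rw [hu, hv]; exact key (Q.symm h hQ) (hs2 _ _ _)
  · exact absurd (hu.trans hv.symm) huv
  · rw [hu, hv]; exact key (Q.rot h (Q.symm h hQ)) (hs3 _ _ _)
  · rw [hu, hv]; exact key (Q.symm h (Q.rot h hQ)) (hs4 _ _ _)
  · rw [hu, hv]; exact key (Q.symm h (Q.rot h (Q.symm h hQ))) (hs5 _ _ _)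
  · exact absurd (hu.trans hv.symm) huv

include h in
lemma partial_linear : LineSystem.IsPartialLinear (threeTranspositionLines D) := by
  rintro l ⟨x, y, hxy, rfl⟩ m ⟨x', y', hxy', rfl⟩ u v huv hul hvl hum hvm
  show ln x y = ln x' y'
  rw [← (ln_of_mem h hxy hul hvl huv).2, ← (ln_of_mem h hxy' hum hvm huv).2]

include h in
lemma ncard_three : ∀ l ∈ threeTranspositionLines D, l.ncard = 3 := by
  rintro l ⟨x, y, hxy, rfl⟩
  have hQ := Q_th h hxy
  show (ln x y).ncard = 3
  rw [ln_eq_of_Q h hQ, Set.ncard_eq_three]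
  refine ⟨x, y, th h x y, ?_, ?_, ?_, rfl⟩
  · intro e; exact hQ.ne12 (congrArg Subtype.val e)
  · intro e; exact (Q.ne13 h hQ) (congrArg Subtype.val e)
  · intro e; exact (Q.ne23 h hQ) (congrArg Subtype.val e)

include h in
lemma exists_other {l : Set D} (hl : l ∈ threeTranspositionLines D) {p : D} (hp : p ∈ l) :
    ∃ a : D, ¬ Commute (p : G) (a : G) ∧ l = ln p a := by
  obtain ⟨x, y, hxy, rfl⟩ := hl
  have hxm : x ∈ ln x y := Or.inl rfl
  have hym : y ∈ ln x y := Or.inr (Or.inl rfl)
  by_cases hpx : p = x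
  · have hpy : p ≠ y := by
      intro e; apply hxy; rw [← hpx, ← e]
    have := ln_of_mem h hxy hp hym hpy
    exact ⟨y, this.1, this.2.symm⟩
  · have := ln_of_mem h hxy hp hxm hpx
    exact ⟨x, this.1, this.2.symm⟩

end basic



section generic

open LineSystem

variable {X : Type*}

lemma span_isSubspace (L : Set (Set X)) (S : Set X) : IsSubspace L (span L S) := by
  intro l hl x hx y hy hxy hxl hyl z hz
  rw [span, Set.mem_sInter] at hx hy ⊢
  intro T hT
  exact hT.2 l hl x (hx T hT) y (hy T hT) hxy hxl hyl hz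

lemma subset_span (L : Set (Set X)) (S : Set X) : S ⊆ span L S := by
  intro x hx
  rw [span, Set.mem_sInter]
  intro T hT
  exact hT.1 hx

lemma span_subset {L : Set (Set X)} {S T : Set X} (hST : S ⊆ T) (hT : IsSubspace L T) :
    span L S ⊆ T := Set.sInter_subset_of_mem ⟨hST, hT⟩

lemma iso_of_param {Y : Type*} (L : Set (Set X)) (M : Set (Set Y)) (φ : Y → X)
    (hinj : Function.Injective φ)
    (h2 : ∀ n ∈ M, φ '' n ∈ L)
    (h3 : ∀ l' ∈ L, l' ⊆ Set.range φ → ∃ n ∈ M, l' = φ '' n) :
    Isomorphic (restrict L (Set.range φ)) M := by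
  refine ⟨(Equiv.ofInjective φ hinj).symm, ?_⟩
  intro n
  constructor
  · rintro ⟨l', hl', hsub, rfl⟩
    obtain ⟨n₀, hn₀, rfl⟩ := h3 l' hl' hsub
    convert hn₀
    ext y
    constructor
    · rintro ⟨x, ⟨y', hy', hxy⟩, rfl⟩
      have : x = Equiv.ofInjective φ hinj y' := Subtype.ext hxy.symm
      rw [this, Equiv.symm_apply_apply]; exact hy'
    · intro hy
      exact ⟨Equiv.ofInjective φ hinj y, ⟨y, hy, rfl⟩, by simp⟩
  · intro hn
    refine ⟨φ '' ((Equiv.ofInjective φ hinj).symm '' n), h2 _ hn, ?_, ?_⟩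
    · rintro _ ⟨y, _, rfl⟩; exact ⟨y, rfl⟩
    · ext x
      constructor
      · intro hx
        exact ⟨(Equiv.ofInjective φ hinj).symm x, ⟨x, hx, rfl⟩,
          Equiv.apply_ofInjective_symm hinj x⟩
      · rintro ⟨y, ⟨x', hx', rfl⟩, hy⟩
        have : x' = x := Subtype.ext (by rw [← hy]; exact (Equiv.apply_ofInjective_symm hinj x').symm)
        rwa [← this]

end generic

section plane

open LineSystem

variable {G : Type*} [Group G] {D : Set G} (h : TT D)

include h in
lemma Q_span {S : Set D} {x y z : D} (hQ : Q D (x : G) (y : G) (z : G))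
    (hx : x ∈ span (threeTranspositionLines D) S) (hy : y ∈ span (threeTranspositionLines D) S) :
    z ∈ span (threeTranspositionLines D) S := by
  have hsub := span_isSubspace (threeTranspositionLines D) S
  have hne : x ≠ y := fun e => hQ.ne12 (congrArg Subtype.val e)
  have := hsub _ (ln_mem_lines h hQ) x hx y hy hne (by simp) (by simp)
  exact this (by simp)

include h in
lemma plane_iso {Y : Type} (M : Set (Set Y)) (R : Y → Y → Y → Prop) (φ : Y → D)
    (M1 : ∀ n ∈ M, ∃ s t u, R s t u ∧ n = {s, t, u})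
    (M2 : ∀ s t u, R s t u → ({s, t, u} : Set Y) ∈ M)
    (Φ1 : ∀ s t u, R s t u → Q D ((φ s : D) : G) ((φ t : D) : G) ((φ u : D) : G))
    (Φ2 : ∀ s t, s ≠ t → (∃ u, R s t u) ∨ (Commute ((φ s : D) : G) ((φ t : D) : G) ∧ φ s ≠ φ t))
    (S : Set D) (hS1 : S ⊆ Set.range φ)
    (hS2 : ∀ s, φ s ∈ span (threeTranspositionLines D) S) :
    Isomorphic (restrict (threeTranspositionLines D) (span (threeTranspositionLines D) S)) M := by
  have hinj : Function.Injective φ := by
    intro s t hst
    by_contra hne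
    rcases Φ2 s t hne with ⟨u, hu⟩ | ⟨_, hne'⟩
    · exact (Φ1 s t u hu).ne12 (congrArg Subtype.val hst)
    · exact hne' hst
  -- lines through two points of the range
  have hline : ∀ s t : Y, ¬ Commute ((φ s : D) : G) ((φ t : D) : G) →
      ∃ u, R s t u ∧ ln (φ s) (φ t) = {φ s, φ t, φ u} := by
    intro s t hc
    have hst : s ≠ t := by
      intro e; apply hc; rw [e]
    rcases Φ2 s t hst with ⟨u, hu⟩ | ⟨hcom, _⟩
    · exact ⟨u, hu, ln_eq_of_Q h (Φ1 s t u hu)⟩
    · exact absurd hcom hc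
  have hsub : IsSubspace (threeTranspositionLines D) (Set.range φ) := by
    rintro l ⟨x₀, y₀, h₀, rfl⟩ x ⟨s, rfl⟩ y ⟨t, rfl⟩ hxy hxl hyl
    have := ln_of_mem h h₀ hxl hyl hxy
    obtain ⟨u, _, hu⟩ := hline s t this.1
    show ln x₀ y₀ ⊆ Set.range φ
    rw [← this.2, hu]
    rintro w (rfl | rfl | rfl)
    · exact ⟨s, rfl⟩
    · exact ⟨t, rfl⟩
    · exact ⟨u, rfl⟩
  have hspan : span (threeTranspositionLines D) S = Set.range φ := by
    apply subset_antisymm
    · exact span_subset hS1 hsub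
    · rintro _ ⟨s, rfl⟩; exact hS2 s
  rw [hspan]
  apply iso_of_param _ _ φ hinj
  · intro n hn
    obtain ⟨s, t, u, hR, rfl⟩ := M1 n hn
    have hQ := Φ1 s t u hR
    have : φ '' {s, t, u} = {φ s, φ t, φ u} := by
      rw [Set.image_insert_eq, Set.image_insert_eq, Set.image_singleton]
    rw [this]
    exact ln_mem_lines h hQ
  · rintro l' ⟨x₀, y₀, h₀, rfl⟩ hsubl
    have hx₀ : x₀ ∈ ln x₀ y₀ := Or.inl rfl
    have hy₀ : y₀ ∈ ln x₀ y₀ := Or.inr (Or.inl rfl)
    obtain ⟨s, hs⟩ := hsubl hx₀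
    obtain ⟨t, ht⟩ := hsubl hy₀
    rw [← hs, ← ht] at h₀
    obtain ⟨u, hR, hu⟩ := hline s t h₀
    refine ⟨{s, t, u}, M2 s t u hR, ?_⟩
    show ln x₀ y₀ = _
    rw [← hs, ← ht, hu, Set.image_insert_eq, Set.image_insert_eq, Set.image_singleton]

end plane



open Equiv

/-- the transposition attached to a two-element subset of `Fin 4` -/
def pairSwap (s : DualAffinePoint) : Perm (Fin 4) :=
  if 0 ∈ s.val ∧ 1 ∈ s.val then swap 0 1
  else if 0 ∈ s.val ∧ 2 ∈ s.val then swap 0 2
  else if 0 ∈ s.val ∧ 3 ∈ s.val then swap 0 3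
  else if 1 ∈ s.val ∧ 2 ∈ s.val then swap 1 2
  else if 1 ∈ s.val ∧ 3 ∈ s.val then swap 1 3
  else swap 2 3

/-- three different points of the dual affine plane on a common line -/
def RA (s t u : DualAffinePoint) : Prop :=
  s ≠ t ∧ s ≠ u ∧ t ≠ u ∧ ∃ i : Fin 4, i ∉ s.val ∧ i ∉ t.val ∧ i ∉ u.val

instance (s t u : DualAffinePoint) : Decidable (RA s t u) := by unfold RA; infer_instance

set_option maxRecDepth 100000 in
lemma pairSwap_inj : ∀ s t : DualAffinePoint, pairSwap s = pairSwap t → s = t := by decide +kernel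

set_option maxRecDepth 100000 in
lemma RA_spec : ∀ s t u : DualAffinePoint, RA s t u →
    pairSwap s * pairSwap t ≠ pairSwap t * pairSwap s ∧
    pairSwap t * pairSwap s * pairSwap t = pairSwap u := by decide +kernel

set_option maxRecDepth 100000 in
lemma RA_total : ∀ s t : DualAffinePoint, s ≠ t → (∃ u, RA s t u) ∨
    (pairSwap s * pairSwap t = pairSwap t * pairSwap s ∧ pairSwap s ≠ pairSwap t) := by
  decide +kernel

set_option maxRecDepth 100000 in
lemma pairSwap_conj : ∀ s : DualAffinePoint, ∃ g : Perm (Fin 4), pairSwap s = g * swap 0 1 * g⁻¹ := by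
  decide +kernel

set_option maxRecDepth 100000 in
lemma M1A : ∀ i : Fin 4, ∃ s t u : DualAffinePoint, RA s t u ∧
    ∀ w : DualAffinePoint, i ∉ w.val ↔ (w = s ∨ w = t ∨ w = u) := by decide +kernel

set_option maxRecDepth 100000 in
lemma M2A : ∀ s t u : DualAffinePoint, RA s t u → ∃ i : Fin 4,
    ∀ w : DualAffinePoint, (w = s ∨ w = t ∨ w = u) ↔ i ∉ w.val := by decide +kernel

set_option maxRecDepth 100000 in
lemma ker_lemma : ∀ σ : Perm (Fin 4), σ ≠ 1 →
    ∃ g k : Perm (Fin 4), g * σ * g⁻¹ * (k * σ * k⁻¹) = swap 0 1 * swap 2 3 := by decide +kernel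

set_option maxRecDepth 100000 in
lemma pairSwap_enum : ∀ s : DualAffinePoint, pairSwap s = swap 0 1 ∨ pairSwap s = swap 1 2 ∨
    pairSwap s = swap 2 3 ∨ pairSwap s = swap 0 2 ∨ pairSwap s = swap 1 3 ∨
    pairSwap s = swap 0 3 := by decide +kernel

set_option maxRecDepth 100000 in
lemma ex01 : ∃ s : DualAffinePoint, pairSwap s = swap 0 1 := by decide +kernel
set_option maxRecDepth 100000 in
lemma ex12 : ∃ s : DualAffinePoint, pairSwap s = swap 1 2 := by decide +kernel
set_option maxRecDepth 100000 in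
lemma ex23 : ∃ s : DualAffinePoint, pairSwap s = swap 2 3 := by decide +kernel
set_option maxRecDepth 100000 in
lemma ex02 : ∃ s : DualAffinePoint, pairSwap s = swap 0 2 := by decide +kernel
set_option maxRecDepth 100000 in
lemma ex13 : ∃ s : DualAffinePoint, pairSwap s = swap 1 3 := by decide +kernel

set_option maxRecDepth 100000 in
lemma RA_03 : ∀ s : DualAffinePoint, pairSwap s = swap 0 3 →
    ∃ s' t' : DualAffinePoint, pairSwap s' = swap 0 1 ∧ pairSwap t' = swap 1 3 ∧ RA s' t' s := by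
  decide +kernel

lemma id02 : (swap 0 1 * swap 1 2 * (swap 0 1)⁻¹ : Perm (Fin 4)) = swap 0 2 := by decide
lemma id13 : (swap 2 3 * swap 1 2 * (swap 2 3)⁻¹ : Perm (Fin 4)) = swap 1 3 := by decide

section caseA

variable {G : Type*} [Group G] {D : Set G} (h : TT D)

include h in
lemma planeA {p a b : D} (hpa : ¬ Commute (p : G) (a : G)) (hpb : ¬ Commute (p : G) (b : G))
    (hab : Commute (a : G) (b : G)) (hne : a ≠ b) :
    LineSystem.Isomorphic (LineSystem.restrict (threeTranspositionLines D)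
      (LineSystem.span (threeTranspositionLines D) (ln p a ∪ ln p b))) dualAffinePlaneTwo := by
  have ha2 := sq_one h a.2
  have hp2 := sq_one h p.2
  have hb2 := sq_one h b.2
  have r_ap : ((a : G) * p) ^ 3 = 1 := cube h a.2 p.2 (fun hc => hpa hc.symm)
  have r_pa : ((p : G) * a) ^ 3 = 1 := cube h p.2 a.2 hpa
  have r_pb : ((p : G) * b) ^ 3 = 1 := cube h p.2 b.2 hpb
  have r_bp : ((b : G) * p) ^ 3 = 1 := cube h b.2 p.2 (fun hc => hpb hc.symm)
  have r_ab : ((a : G) * b) ^ 2 = 1 := by
    rw [pow_two]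
    calc (a : G) * b * (a * b) = a * (b * a) * b := by simp only [mul_assoc]
      _ = a * (a * b) * b := by rw [hab.eq]
      _ = 1 := by simp only [mul_assoc]; rw [cancel_l h a.2, hb2]
  have r_ba : ((b : G) * a) ^ 2 = 1 := by
    rw [← hab.eq]; exact r_ab
  let f : Fin 3 → G := ![(a : G), (p : G), (b : G)]
  have hlift : (CoxeterMatrix.A 3).IsLiftable f := by
    intro i j
    rw [Cfsg.Agent.Lib.Helper1.CoxA.A_apply]
    fin_cases i <;> fin_cases j <;>
      simp [f, ha2, hp2, hb2, r_ap, r_pa, r_pb, r_bp, r_ab, r_ba]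
  let cs := Cfsg.Agent.Lib.Helper1.CoxA.coxeterSystemPerm 3
  let F : Perm (Fin 4) →* G := cs.lift ⟨f, hlift⟩
  have hF : ∀ i : Fin 3, F (swap i.castSucc i.succ) = f i := by
    intro i
    have := cs.lift_apply_simple hlift i
    rw [Cfsg.Agent.Lib.Helper1.CoxA.coxeterSystemPerm_simple] at this
    exact this
  have hF0 : F (swap 0 1) = a := hF 0
  have hF1 : F (swap 1 2) = p := hF 1
  have hF2 : F (swap 2 3) = b := hF 2
  have hinjF : Function.Injective F := by
    rw [injective_iff_map_eq_one]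
    intro σ hσ
    by_contra hne1
    obtain ⟨g, k, hgk⟩ := ker_lemma σ hne1
    have h1 : F (swap 0 1 * swap 2 3) = 1 := by
      rw [← hgk]; simp [map_mul, hσ]
    rw [map_mul, hF0, hF2] at h1
    apply hne; apply Subtype.ext
    have := mul_eq_one_iff_eq_inv.mp h1
    rw [inv_eq h b.2] at this; exact this
  have hmemD : ∀ s, F (pairSwap s) ∈ D := by
    intro s
    obtain ⟨g, hg⟩ := pairSwap_conj s
    rw [hg, map_mul, map_mul, map_inv, hF0]
    exact h.conj _ _ a.2
  let φ : DualAffinePoint → D := fun s => ⟨F (pairSwap s), hmemD s⟩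
  have hφ : ∀ s, ((φ s : D) : G) = F (pairSwap s) := fun s => rfl
  have Φ1 : ∀ s t u, RA s t u → Q D ((φ s : D) : G) ((φ t : D) : G) ((φ u : D) : G) := by
    intro s t u hR
    obtain ⟨hnc, heq⟩ := RA_spec s t u hR
    refine ⟨(φ s).2, (φ t).2, ?_, ?_⟩
    · intro hcom
      apply hnc; apply hinjF
      rw [map_mul, map_mul]; exact hcom.eq
    · rw [hφ, hφ, hφ, ← map_mul, ← map_mul, heq]
  have hval : ∀ (s : DualAffinePoint) (y : D), F (pairSwap s) = (y : G) → φ s = y :=
    fun s y e => Subtype.ext e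
  apply plane_iso h dualAffinePlaneTwo RA φ
  · rintro n ⟨i, rfl⟩
    obtain ⟨s, t, u, hR, hw⟩ := M1A i
    refine ⟨s, t, u, hR, ?_⟩
    ext w
    simp only [Set.mem_ofPred_eq, Set.mem_insert_iff, Set.mem_singleton_iff]
    exact hw w
  · intro s t u hR
    obtain ⟨i, hw⟩ := M2A s t u hR
    refine ⟨i, ?_⟩
    ext w
    simp only [Set.mem_ofPred_eq, Set.mem_insert_iff, Set.mem_singleton_iff]
    exact hw w
  · exact Φ1
  · intro s t hst
    rcases RA_total s t hst with ⟨u, hu⟩ | ⟨hcom, hne'⟩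
    · exact Or.inl ⟨u, hu⟩
    · right
      refine ⟨?_, fun e => hne' (hinjF (congrArg Subtype.val e))⟩
      show F _ * F _ = F _ * F _
      rw [← map_mul, ← map_mul, hcom]
  · rintro x (hx | hx)
    · rcases hx with hx | hx | hx
      · obtain ⟨s, hs⟩ := ex12
        exact ⟨s, hval s x (by rw [hs, hF1, hx])⟩
      · obtain ⟨s, hs⟩ := ex01
        exact ⟨s, hval s x (by rw [hs, hF0, hx])⟩
      · obtain ⟨s, hs⟩ := ex02
        exact ⟨s, hval s x (by rw [hs, ← id02, map_mul, map_mul, map_inv, hF0, hF1, hx])⟩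
    · rcases hx with hx | hx | hx
      · obtain ⟨s, hs⟩ := ex12
        exact ⟨s, hval s x (by rw [hs, hF1, hx])⟩
      · obtain ⟨s, hs⟩ := ex23
        exact ⟨s, hval s x (by rw [hs, hF2, hx])⟩
      · obtain ⟨s, hs⟩ := ex13
        exact ⟨s, hval s x (by rw [hs, ← id13, map_mul, map_mul, map_inv, hF2, hF1, hx])⟩
  · have hsub := subset_span (threeTranspositionLines D) (ln p a ∪ ln p b)
    have h01 : ∀ s, pairSwap s = swap 0 1 → φ s ∈ LineSystem.span (threeTranspositionLines D) (ln p a ∪ ln p b) := by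
      intro s e
      rw [hval s a (by rw [e, hF0])]
      exact hsub (Or.inl (Or.inr (Or.inl rfl)))
    have h13 : ∀ s, pairSwap s = swap 1 3 → φ s ∈ LineSystem.span (threeTranspositionLines D) (ln p a ∪ ln p b) := by
      intro s e
      rw [hval s (th h p b) (by
        show F (pairSwap s) = (b : G) * p * (b : G)⁻¹
        rw [e, ← id13, map_mul, map_mul, map_inv, hF2, hF1])]
      exact hsub (Or.inr (Or.inr (Or.inr rfl)))
    intro s
    rcases pairSwap_enum s with e | e | e | e | e | e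
    · exact h01 s e
    · rw [hval s p (by rw [e, hF1])]
      exact hsub (Or.inl (Or.inl rfl))
    · rw [hval s b (by rw [e, hF2])]
      exact hsub (Or.inr (Or.inr (Or.inl rfl)))
    · rw [hval s (th h p a) (by
        show F (pairSwap s) = (a : G) * p * (a : G)⁻¹
        rw [e, ← id02, map_mul, map_mul, map_inv, hF0, hF1])]
      exact hsub (Or.inl (Or.inr (Or.inr rfl)))
    · exact h13 s e
    · obtain ⟨s', t', hs', ht', hR⟩ := RA_03 s e
      exact Q_span h (Φ1 s' t' s hR) (h01 s' hs') (h13 t' ht')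

end caseA



/-- `ZMod 3` is `Fin 3` -/
def toF (x : ZMod 3) : Fin 3 := x

section caseB

variable {G : Type*} [Group G]

/-- the nine points of the affine plane spanned by `p`, `a`, `b` -/
def Ptab (p a b : G) : Fin 3 → Fin 3 → G :=
  ![![p, b, p * b * p], ![a, p * (a * b * a) * p, (p * a * p) * b * (p * a * p)],
    ![p * a * p, a * (p * b * p) * a, a * b * a]]

/-- the twelve lines of the plane, one ordered pair for each -/
structure BaseB (D : Set G) (p a b : G) : Prop where
  g1 : Q D p a (p * a * p)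
  g2 : Q D p b (p * b * p)
  g3 : Q D (a * b * a) p (p * (a * b * a) * p)
  g4 : Q D (a * (p * b * p) * a) p ((p * a * p) * b * (p * a * p))
  g5 : Q D b a (a * b * a)
  g6 : Q D (p * b * p) a (a * (p * b * p) * a)
  g7 : Q D b (p * a * p) ((p * a * p) * b * (p * a * p))
  g8 : Q D (p * b * p) (p * a * p) (p * (a * b * a) * p)
  g9 : Q D (p * (a * b * a) * p) a ((p * a * p) * b * (p * a * p))
  g10 : Q D (p * (a * b * a) * p) b (a * (p * b * p) * a)
  g11 : Q D (a * b * a) (p * a * p) (a * (p * b * p) * a)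
  g12 : Q D (a * b * a) (p * b * p) ((p * a * p) * b * (p * a * p))

variable {D : Set G} (h : TT D)

include h in
lemma nc_conj {t x y : G} (ht : t ∈ D) (hx : x ∈ D) (hy : y ∈ D) (hc : ¬ Commute x y) :
    ¬ Commute (t * x * t) (t * y * t) :=
  (Q.conj h ht (Q.mk' hx hy hc)).2.2.1

include h in
lemma baseB {p a b : G} (hp : p ∈ D) (ha : a ∈ D) (hb : b ∈ D) (hpa : ¬ Commute p a)
    (hpb : ¬ Commute p b) (hab : ¬ Commute a b) (hac : ¬ Commute a (p * b * p)) :
    BaseB D p a b := by
  have hp2 := sq_one h hp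
  have ha2 := sq_one h ha
  have hb2 := sq_one h hb
  have cp := cancel_l h hp
  have ca := cancel_l h ha
  have cb := cancel_l h hb
  have hpbp : p * b * p ∈ D := conj_inv_mem h hp hb
  have hpap : p * a * p ∈ D := conj_inv_mem h hp ha
  have haba : a * b * a ∈ D := conj_inv_mem h ha hb
  have hbpa : p * a * p = a * p * a := braid h hp ha hpa
  have hbpb : p * b * p = b * p * b := braid h hp hb hpb
  have hbab : a * b * a = b * a * b := braid h ha hb hab
  have hbac : a * (p * b * p) * a = (p * b * p) * a * (p * b * p) := braid h ha hpbp hac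
  have g1 : Q D p a (p * a * p) := by
    have := Q.mk' hp ha hpa
    rwa [← hbpa] at this
  have g2 : Q D p b (p * b * p) := by
    have := Q.mk' hp hb hpb
    rwa [← hbpb] at this
  have g5 : Q D b a (a * b * a) := Q.mk' hb ha (fun hc => hab hc.symm)
  have g6 : Q D (p * b * p) a (a * (p * b * p) * a) := Q.mk' hpbp ha (fun hc => hac hc.symm)
  have g8 : Q D (p * b * p) (p * a * p) (p * (a * b * a) * p) := Q.conj h hp g5
  have e_pp : ∀ z : G, p * (p * z * p) * p = z := by
    intro z; simp only [mul_assoc, cp, hp2, mul_one]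
  have e_apa : a * (p * a * p) * a = p := by
    rw [hbpa]; simp only [mul_assoc, ca, ha2, mul_one]
  have e_bpb : b * (p * b * p) * b = p := by
    rw [hbpb]; simp only [mul_assoc, cb, hb2, mul_one]
  have nc_b_pap : ¬ Commute b (p * a * p) := by
    have := nc_conj h hp hpbp ha (fun hc => hac hc.symm)
    rwa [e_pp] at this
  have g7 : Q D b (p * a * p) ((p * a * p) * b * (p * a * p)) := Q.mk' hb hpap nc_b_pap
  have nc_aba_p : ¬ Commute (a * b * a) p := by
    have := nc_conj h ha hb hpap nc_b_pap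
    rwa [e_apa] at this
  have g3 : Q D (a * b * a) p (p * (a * b * a) * p) := Q.mk' haba hp nc_aba_p
  have nc_21_p : ¬ Commute (a * (p * b * p) * a) p := by
    have := nc_conj h ha hpbp hpap g8.2.2.1
    rwa [e_apa] at this
  have g4 : Q D (a * (p * b * p) * a) p ((p * a * p) * b * (p * a * p)) := by
    have := Q.mk' (conj_inv_mem h ha hpbp) hp nc_21_p
    have e : p * (a * (p * b * p) * a) * p = (p * a * p) * b * (p * a * p) := by
      simp only [mul_assoc]
    rwa [e] at this
  have h11 : p * (a * b * a) * p ∈ D := conj_inv_mem h hp haba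
  have nc_11_a : ¬ Commute (p * (a * b * a) * p) a := by
    have h1 := nc_conj h ha hb hp (fun hc => hpb hc.symm)
    rw [← hbpa] at h1
    have h2 := nc_conj h hp haba hpap h1
    rwa [e_pp] at h2
  have g9 : Q D (p * (a * b * a) * p) a ((p * a * p) * b * (p * a * p)) := by
    have := Q.mk' h11 ha nc_11_a
    have e : a * (p * (a * b * a) * p) * a = (p * a * p) * b * (p * a * p) := by
      rw [hbpa]; simp only [mul_assoc]
    rwa [e] at this
  have nc_11_b : ¬ Commute (p * (a * b * a) * p) b := by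
    have h1 := nc_conj h hb ha hp (fun hc => hpa hc.symm)
    rw [← hbab, ← hbpb] at h1
    have h2 := nc_conj h hp haba hpbp h1
    rwa [e_pp] at h2
  have g10 : Q D (p * (a * b * a) * p) b (a * (p * b * p) * a) := by
    have := Q.mk' h11 hb nc_11_b
    have e : b * (p * (a * b * a) * p) * b = a * (p * b * p) * a := by
      calc b * (p * (a * b * a) * p) * b = b * (p * (b * a * b) * p) * b := by rw [hbab]
        _ = (b * p * b) * a * (b * p * b) := by simp only [mul_assoc]
        _ = (p * b * p) * a * (p * b * p) := by rw [← hbpb]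
        _ = a * (p * b * p) * a := hbac.symm
    rwa [e] at this
  have g11 : Q D (a * b * a) (p * a * p) (a * (p * b * p) * a) := by
    have := Q.conj h hp g9
    have e2 : p * ((p * a * p) * b * (p * a * p)) * p = a * (p * b * p) * a := by
      simp only [mul_assoc, cp, hp2, mul_one]
    rwa [e_pp, e2] at this
  have g12 : Q D (a * b * a) (p * b * p) ((p * a * p) * b * (p * a * p)) := by
    have := Q.conj h hp g10
    have e2 : p * (a * (p * b * p) * a) * p = (p * a * p) * b * (p * a * p) := by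
      simp only [mul_assoc]
    rwa [e_pp, e2] at this
  exact ⟨g1, g2, g3, g4, g5, g6, g7, g8, g9, g10, g11, g12⟩

include h in
lemma allQ {p a b : G} (B : BaseB D p a b) : ∀ i j k l : Fin 3, (i, j) ≠ (k, l) →
    Q D (Ptab p a b i j) (Ptab p a b k l) (Ptab p a b (-i - k) (-j - l)) := by
  intro i j k l hne
  fin_cases i <;> fin_cases j <;> fin_cases k <;> fin_cases l
  · exact absurd rfl hne
  · exact B.g2
  · exact Q.rot h B.g2
  · exact B.g1
  · exact Q.rot h (Q.symm h B.g3)
  · exact Q.rot h (Q.symm h B.g4)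
  · exact Q.rot h B.g1
  · exact Q.symm h B.g4
  · exact Q.symm h B.g3
  · exact Q.symm h B.g2
  · exact absurd rfl hne
  · exact Q.rot h (Q.symm h B.g2)
  · exact B.g5
  · exact Q.symm h B.g10
  · exact Q.rot h B.g7
  · exact B.g7
  · exact Q.rot h (Q.symm h B.g10)
  · exact Q.rot h B.g5
  · exact Q.symm h (Q.rot h B.g2)
  · exact Q.symm h (Q.rot h (Q.symm h B.g2))
  · exact absurd rfl hne
  · exact B.g6
  · exact Q.rot h B.g8
  · exact Q.rot h (Q.symm h B.g12)
  · exact B.g8
  · exact Q.rot h B.g6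
  · exact Q.symm h B.g12
  · exact Q.symm h B.g1
  · exact Q.symm h B.g5
  · exact Q.symm h B.g6
  · exact absurd rfl hne
  · exact Q.symm h B.g9
  · exact Q.rot h (Q.symm h B.g9)
  · exact Q.rot h (Q.symm h B.g1)
  · exact Q.rot h (Q.symm h B.g6)
  · exact Q.rot h (Q.symm h B.g5)
  · exact Q.symm h (Q.rot h (Q.symm h B.g3))
  · exact B.g10
  · exact Q.symm h (Q.rot h B.g8)
  · exact B.g9
  · exact absurd rfl hne
  · exact Q.rot h B.g9
  · exact Q.symm h (Q.rot h (Q.symm h B.g8))
  · exact Q.rot h B.g10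
  · exact Q.symm h (Q.rot h B.g3)
  · exact Q.symm h (Q.rot h (Q.symm h B.g4))
  · exact Q.symm h (Q.rot h B.g7)
  · exact Q.symm h (Q.rot h (Q.symm h B.g12))
  · exact Q.symm h (Q.rot h (Q.symm h B.g9))
  · exact Q.symm h (Q.rot h B.g9)
  · exact absurd rfl hne
  · exact Q.symm h (Q.rot h (Q.symm h B.g7))
  · exact Q.symm h (Q.rot h B.g4)
  · exact Q.symm h (Q.rot h B.g12)
  · exact Q.symm h (Q.rot h B.g1)
  · exact Q.symm h B.g7
  · exact Q.symm h B.g8
  · exact Q.symm h (Q.rot h (Q.symm h B.g1))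
  · exact Q.rot h (Q.symm h B.g8)
  · exact Q.rot h (Q.symm h B.g7)
  · exact absurd rfl hne
  · exact Q.rot h (Q.symm h B.g11)
  · exact Q.symm h B.g11
  · exact B.g4
  · exact Q.symm h (Q.rot h (Q.symm h B.g10))
  · exact Q.symm h (Q.rot h B.g6)
  · exact Q.symm h (Q.rot h (Q.symm h B.g6))
  · exact Q.symm h (Q.rot h B.g10)
  · exact Q.rot h B.g4
  · exact Q.symm h (Q.rot h (Q.symm h B.g11))
  · exact absurd rfl hne
  · exact Q.symm h (Q.rot h B.g11)
  · exact B.g3
  · exact Q.symm h (Q.rot h B.g5)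
  · exact B.g12
  · exact Q.symm h (Q.rot h (Q.symm h B.g5))
  · exact Q.rot h B.g3
  · exact Q.rot h B.g12
  · exact B.g11
  · exact Q.rot h B.g11
  · exact absurd rfl hne
end caseB



lemma z3 : ∀ c : ZMod 3, c = 0 ∨ c = 1 ∨ c = 2 := by decide
lemma z3a : ∀ x y : ZMod 3, x + 2 * y = -x - (x + y) := by decide
lemma z3b : ∀ x y : ZMod 3, x + 2 * (y - x) = -x - y := by decide
lemma f3ne : ∀ i j : Fin 3, (i, j) ≠ (i + 1, j) := by decide

section caseB2

variable {G : Type*} [Group G] {D : Set G} (h : TT D)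

include h in
lemma planeB {p a b : D} (hpa : ¬ Commute (p : G) (a : G)) (hpb : ¬ Commute (p : G) (b : G))
    (hab : ¬ Commute (a : G) (b : G)) (hac : ¬ Commute (a : G) ((th h p b : D) : G)) :
    LineSystem.Isomorphic (LineSystem.restrict (threeTranspositionLines D)
      (LineSystem.span (threeTranspositionLines D) (ln p a ∪ ln p b))) affinePlaneThree := by
  have hthb : ((th h p b : D) : G) = (p : G) * b * p := by
    show (b : G) * p * (b : G)⁻¹ = _
    rw [inv_eq h b.2]; exact (braid h p.2 b.2 hpb).symm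
  have htha : (a : G) * p * (a : G)⁻¹ = (p : G) * a * p := by
    rw [inv_eq h a.2]; exact (braid h p.2 a.2 hpa).symm
  have hthb' : (b : G) * p * (b : G)⁻¹ = (p : G) * b * p := hthb
  rw [hthb] at hac
  have B := baseB h p.2 a.2 b.2 hpa hpb hab hac
  have hall := allQ h B
  have hmem : ∀ i j : Fin 3, Ptab (p : G) a b i j ∈ D := fun i j => (hall i j _ _ (f3ne i j)).1
  let φ : (Fin 2 → ZMod 3) → D := fun s => ⟨Ptab (p : G) a b (toF (s 0)) (toF (s 1)), hmem _ _⟩
  let R : (Fin 2 → ZMod 3) → (Fin 2 → ZMod 3) → (Fin 2 → ZMod 3) → Prop :=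
    fun s t u => s ≠ t ∧ u = -s - t
  apply plane_iso h affinePlaneThree R φ
  · -- M1
    rintro n ⟨v, w, hw, rfl⟩
    refine ⟨v, v + w, v + (2 : ZMod 3) • w, ⟨?_, ?_⟩, ?_⟩
    · intro e
      apply hw
      have := congrArg (fun x => x - v) e
      simpa using this.symm
    · funext i
      simp only [Pi.add_apply, Pi.smul_apply, Pi.neg_apply, Pi.sub_apply, smul_eq_mul]
      exact z3a (v i) (w i)
    · ext x
      simp only [Set.mem_ofPred_eq, Set.mem_insert_iff, Set.mem_singleton_iff]
      constructor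
      · rintro ⟨c, rfl⟩
        rcases z3 c with rfl | rfl | rfl
        · left; simp
        · right; left; simp
        · right; right; rfl
      · rintro (rfl | rfl | rfl)
        · exact ⟨0, by simp⟩
        · exact ⟨1, by simp⟩
        · exact ⟨2, rfl⟩
  · -- M2
    rintro s t u ⟨hst, rfl⟩
    refine ⟨s, t - s, sub_ne_zero.mpr (Ne.symm hst), ?_⟩
    have e2 : s + (2 : ZMod 3) • (t - s) = -s - t := by
      funext i
      simp only [Pi.add_apply, Pi.smul_apply, Pi.neg_apply, Pi.sub_apply, smul_eq_mul]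
      exact z3b (s i) (t i)
    ext x
    simp only [Set.mem_ofPred_eq, Set.mem_insert_iff, Set.mem_singleton_iff]
    constructor
    · rintro (rfl | rfl | rfl)
      · exact ⟨0, by simp⟩
      · exact ⟨1, by simp⟩
      · exact ⟨2, e2.symm⟩
    · rintro ⟨c, rfl⟩
      rcases z3 c with rfl | rfl | rfl
      · left; simp
      · right; left; simp
      · right; right; exact e2
  · -- Φ1
    rintro s t u ⟨hst, rfl⟩
    have hne' : (toF (s 0), toF (s 1)) ≠ (toF (t 0), toF (t 1)) := by
      intro e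
      apply hst
      funext i
      fin_cases i
      · exact congrArg Prod.fst e
      · exact congrArg Prod.snd e
    exact hall _ _ _ _ hne'
  · -- Φ2
    intro s t hst
    exact Or.inl ⟨-s - t, hst, rfl⟩
  · -- hS1
    rintro x (hx | hx)
    · rcases hx with hx | hx | hx
      · exact ⟨![0, 0], Subtype.ext (by rw [hx]; rfl)⟩
      · exact ⟨![1, 0], Subtype.ext (by rw [hx]; rfl)⟩
      · exact ⟨![2, 0], Subtype.ext (by rw [hx, htha]; rfl)⟩
    · rcases hx with hx | hx | hx
      · exact ⟨![0, 0], Subtype.ext (by rw [hx]; rfl)⟩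
      · exact ⟨![0, 1], Subtype.ext (by rw [hx]; rfl)⟩
      · exact ⟨![0, 2], Subtype.ext (by rw [hx, hthb']; rfl)⟩
  · -- hS2
    have hsub := subset_span (threeTranspositionLines D) (ln p a ∪ ln p b)
    have h00 : ∀ hm, (⟨(p : G), hm⟩ : D) ∈
        LineSystem.span (threeTranspositionLines D) (ln p a ∪ ln p b) :=
      fun hm => hsub (Or.inl (Or.inl rfl))
    have h10 : ∀ hm, (⟨(a : G), hm⟩ : D) ∈
        LineSystem.span (threeTranspositionLines D) (ln p a ∪ ln p b) :=
      fun hm => hsub (Or.inl (Or.inr (Or.inl rfl)))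
    have h01 : ∀ hm, (⟨(b : G), hm⟩ : D) ∈
        LineSystem.span (threeTranspositionLines D) (ln p a ∪ ln p b) :=
      fun hm => hsub (Or.inr (Or.inr (Or.inl rfl)))
    have h20 : ∀ hm, (⟨(p : G) * a * p, hm⟩ : D) ∈
        LineSystem.span (threeTranspositionLines D) (ln p a ∪ ln p b) :=
      fun hm => hsub (Or.inl (Or.inr (Or.inr htha.symm)))
    have h02 : ∀ hm, (⟨(p : G) * b * p, hm⟩ : D) ∈
        LineSystem.span (threeTranspositionLines D) (ln p a ∪ ln p b) :=
      fun hm => hsub (Or.inr (Or.inr (Or.inr hthb'.symm)))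
    have h22 : ∀ hm, (⟨(a : G) * b * a, hm⟩ : D) ∈
        LineSystem.span (threeTranspositionLines D) (ln p a ∪ ln p b) :=
      fun hm => Q_span h (x := ⟨(b : G), b.2⟩) (y := ⟨(a : G), a.2⟩) (z := ⟨_, hm⟩) B.g5
        (h01 _) (h10 _)
    have h11 : ∀ hm, (⟨(p : G) * ((a : G) * b * a) * p, hm⟩ : D) ∈
        LineSystem.span (threeTranspositionLines D) (ln p a ∪ ln p b) :=
      fun hm => Q_span h (x := ⟨(a : G) * b * a, B.g3.1⟩) (y := ⟨(p : G), p.2⟩) (z := ⟨_, hm⟩) B.g3
        (h22 _) (h00 _)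
    have h21 : ∀ hm, (⟨(a : G) * ((p : G) * b * p) * a, hm⟩ : D) ∈
        LineSystem.span (threeTranspositionLines D) (ln p a ∪ ln p b) :=
      fun hm => Q_span h (x := ⟨(p : G) * b * p, B.g6.1⟩) (y := ⟨(a : G), a.2⟩) (z := ⟨_, hm⟩) B.g6
        (h02 _) (h10 _)
    have h12 : ∀ hm, (⟨((p : G) * a * p) * b * ((p : G) * a * p), hm⟩ : D) ∈
        LineSystem.span (threeTranspositionLines D) (ln p a ∪ ln p b) :=
      fun hm => Q_span h (x := ⟨(b : G), b.2⟩) (y := ⟨(p : G) * a * p, B.g7.2.1⟩) (z := ⟨_, hm⟩) B.g7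
        (h01 _) (h20 _)
    have hallpts : ∀ (i j : Fin 3) (hm : Ptab (p : G) a b i j ∈ D),
        (⟨Ptab (p : G) a b i j, hm⟩ : D) ∈
          LineSystem.span (threeTranspositionLines D) (ln p a ∪ ln p b) := by
      intro i j
      fin_cases i <;> fin_cases j
      · exact h00
      · exact h01
      · exact h02
      · exact h10
      · exact h11
      · exact h12
      · exact h20
      · exact h21
      · exact h22
    intro s
    exact hallpts _ _ _

end caseB2


/-- Let D be a conjugation-invariant generating set of 3-transpositions of a finite group G. Then the line system on D whose lines are the triples {x, y, y x y⁻¹} for non-commuting members x, y of D is a Fischer space: two points lie on at most one line, lines have three points, and two different meeting lines generate a subspace isomorphic to the dual affine plane of order two or to the affine plane of order three. -/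
theorem result {G : Type*} [Group G] [Finite G] {D : Set G} (hD : Cfsg.IsThreeTranspositionGroup D) : Cfsg.IsFischerSpace (Cfsg.threeTranspositionLines D) := by
  have h : TT D := ⟨hD.1.1, hD.1.2, hD.2.1⟩
  refine ⟨partial_linear h, ncard_three h, ?_⟩
  rintro l hl m hm hne ⟨p, hpl, hpm⟩
  obtain ⟨a, hpa, rfl⟩ := exists_other h hl hpl
  obtain ⟨b, hpb, rfl⟩ := exists_other h hm hpm
  have hab_ne : a ≠ b := by
    intro e; apply hne; rw [e]
  by_cases hab : Commute (a : G) (b : G)
  · left; exact planeA h hpa hpb hab hab_ne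
  · by_cases hac : Commute (a : G) ((th h p b : D) : G)
    · left
      have hQ := Q.rot h (Q_th h hpb)
      have hlb : ln p (th h p b) = ln p b := by
        have := ln_of_mem h hpb (u := p) (v := th h p b) (Or.inl rfl) (Or.inr (Or.inr rfl))
          (fun e => hQ.ne12 (congrArg Subtype.val e))
        exact this.2
      have hne' : a ≠ th h p b := by
        intro e; apply hne; rw [e, hlb]
      rw [← hlb]
      exact planeA h hpa hQ.2.2.1 hac hne'
    · right
      exact planeB h hpa hpb hab hac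

end Cfsg.Agent.S5367
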