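import Cfsg.Statements.S5394
import Cfsg.Agent.Lib.Helper9.M24Std

set_option autoImplicit false
open Cfsg

namespace Cfsg.Agent.S5394

/-- The automorphism group of the length-24 code built from the squares modulo 23 has exactly two conjugacy classes of involutions: an involution either fixes exactly the eight points of an octad or has no fixed points, both kinds occur, and any two involutions of the same kind are conjugate in the group. -/
theorem result : (∀ g ∈ Cfsg.M24, orderOf g = 2 → (Finset.univ.filter fun p => g p = p) ∈ Cfsg.octads ∨ ∀ p, g p ≠ p) ∧ (∃ g ∈ Cfsg.M24, orderOf g = 2 ∧ (Finset.univ.filter fun p => g p = p) ∈ Cfsg.octads) ∧ (∃ g ∈ Cfsg.M24, orderOf g = 2 ∧ ∀ p, g p ≠ p) ∧ ∀ g ∈ Cfsg.M24, ∀ h ∈ Cfsg.M24, orderOf g = 2 → orderOf h = 2 → ((∀ p, g p ≠ p) ↔ (∀ p, h p ≠ p)) → ∃ k ∈ Cfsg.M24, k * g * k⁻¹ = h := by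
  open Cfsg.Agent.Lib.Helper9.M24Coset in
  refine ⟨fun g hg h2 => ?_, ⟨tp t0, tp_mem valid_t0, orderOf_t0, fixed_t0_mem⟩,
    ⟨tp t1, tp_mem valid_t1, orderOf_t1, tp_fpf valid_t1 t1_fpf⟩, fun g hg h hh og oh hiff => ?_⟩
  · obtain ⟨g2, g1⟩ := sq_of_orderOf h2
    by_cases hf : ∀ p, g p ≠ p
    · exact Or.inr hf
    · left
      push Not at hf
      obtain ⟨p, hp⟩ := hf
      exact (invol_fixed_conj hg g2 g1 hp).fixed_octad
  · obtain ⟨g2, g1⟩ := sq_of_orderOf og
    obtain ⟨h2, h1⟩ := sq_of_orderOf oh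
    by_cases hf : ∀ p, g p ≠ p
    · exact (invol_fpf_conj hg g2 hf).conj (invol_fpf_conj hh h2 (hiff.1 hf))
    · have hf' : ¬ ∀ p, h p ≠ p := fun e => hf (hiff.2 e)
      push Not at hf hf'
      obtain ⟨p, hp⟩ := hf
      obtain ⟨q, hq⟩ := hf'
      exact (invol_fixed_conj hg g2 g1 hp).conj (invol_fixed_conj hh h2 h1 hq)

end Cfsg.Agent.S5394
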