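import Cfsg.Statements.S5395
import Mathlib

set_option autoImplicit false
open Cfsg

namespace Cfsg.Agent.S5395

open scoped commutatorElement IsMulCommutative

theorem result {E : Type*} [Group E] [Finite E] (hE : Cfsg.IsExtraspecial 2 E) (φ : E ≃* E) (hφ : ∀ x : E, φ x * x⁻¹ ∈ Subgroup.center E) : ∃ g : E, ∀ x : E, φ x = g * x * g⁻¹ := by
  classical
  obtain ⟨⟨hP, hfr, hcomm⟩, hZ2⟩ := hE
  obtain ⟨z, hz, huniq⟩ := (Nat.card_eq_two_iff' (1 : Subgroup.center E)).mp hZ2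
  have hZall : ∀ w : Subgroup.center E, w ≠ 1 → w = z := fun w hw => huniq w hw
  -- an injective character of Z
  obtain ⟨ι, hι⟩ := CommGroup.exists_apply_ne_one_of_hasEnoughRootsOfUnity (Subgroup.center E) ℂ hz
  have hιinj : ∀ w : Subgroup.center E, ι w = 1 → w = 1 := by
    intro w hw
    by_contra hne
    rw [hZall w hne] at hw
    exact hι hw
  have hcen : ∀ (w : Subgroup.center E) (x : E), x * (w : E) = (w : E) * x := fun w x =>
    (Subgroup.mem_center_iff.mp w.2 x)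
  -- the commutator maps
  have hcmem : ∀ g x : E, g * x * g⁻¹ * x⁻¹ ∈ Subgroup.center E := by
    intro g x
    rw [← hcomm, commutator_def]
    exact Subgroup.commutator_mem_commutator (Subgroup.mem_top g) (Subgroup.mem_top x)
  let c : E → E → Subgroup.center E := fun g x => ⟨g * x * g⁻¹ * x⁻¹, hcmem g x⟩
  have hc_mul_right : ∀ g x y : E, c g (x * y) = c g x * c g y := by
    intro g x y
    apply Subtype.ext
    show g * (x * y) * g⁻¹ * (x * y)⁻¹ = (g * x * g⁻¹ * x⁻¹) * (g * y * g⁻¹ * y⁻¹)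
    have h1 := hcen (c g y) x⁻¹
    have h1' : x⁻¹ * (g * y * g⁻¹ * y⁻¹) = (g * y * g⁻¹ * y⁻¹) * x⁻¹ := h1
    calc g * (x * y) * g⁻¹ * (x * y)⁻¹ = g * x * g⁻¹ * ((g * y * g⁻¹ * y⁻¹) * x⁻¹) := by group
      _ = g * x * g⁻¹ * (x⁻¹ * (g * y * g⁻¹ * y⁻¹)) := by rw [h1']
      _ = _ := by group
  have hc_mul_left : ∀ g h x : E, c (g * h) x = c g x * c h x := by
    intro g h x
    apply Subtype.ext
    show (g * h) * x * (g * h)⁻¹ * x⁻¹ = (g * x * g⁻¹ * x⁻¹) * (h * x * h⁻¹ * x⁻¹)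
    have h1 : g⁻¹ * (h * x * h⁻¹ * x⁻¹) = (h * x * h⁻¹ * x⁻¹) * g⁻¹ := hcen (c h x) g⁻¹
    have h2 : x⁻¹ * (h * x * h⁻¹ * x⁻¹) = (h * x * h⁻¹ * x⁻¹) * x⁻¹ := hcen (c h x) x⁻¹
    calc (g * h) * x * (g * h)⁻¹ * x⁻¹ = g * ((h * x * h⁻¹ * x⁻¹) * x * g⁻¹ * x⁻¹) := by group
      _ = g * x * ((h * x * h⁻¹ * x⁻¹) * g⁻¹) * x⁻¹ := by
          have h3 : (h * x * h⁻¹ * x⁻¹) * x = x * (h * x * h⁻¹ * x⁻¹) := (hcen (c h x) x).symm
          rw [h3]; group
      _ = g * x * (g⁻¹ * (h * x * h⁻¹ * x⁻¹)) * x⁻¹ := by rw [h1]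
      _ = g * x * g⁻¹ * ((h * x * h⁻¹ * x⁻¹) * x⁻¹) := by group
      _ = g * x * g⁻¹ * (x⁻¹ * (h * x * h⁻¹ * x⁻¹)) := by rw [h2]
      _ = _ := by group
  have hc_one : ∀ x : E, c 1 x = 1 := by
    intro x
    apply Subtype.ext
    show (1 : E) * x * 1⁻¹ * x⁻¹ = 1
    group
  let Ψ0 : E → (E →* ℂˣ) := fun g =>
    { toFun := fun x => ι (c g x)
      map_one' := by
        have : c g 1 = 1 := by
          apply Subtype.ext
          show g * 1 * g⁻¹ * (1 : E)⁻¹ = 1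
          group
        rw [this, map_one]
      map_mul' := fun x y => by rw [hc_mul_right, map_mul] }
  let Ψ : E →* (E →* ℂˣ) :=
    { toFun := Ψ0
      map_one' := by
        ext x
        show ((ι (c 1 x) : ℂˣ) : ℂ) = ((1 : ℂˣ) : ℂ)
        rw [hc_one, map_one]
      map_mul' := fun g h => by
        ext x
        show ((ι (c (g * h) x) : ℂˣ) : ℂ) = ((ι (c g x) * ι (c h x) : ℂˣ) : ℂ)
        rw [hc_mul_left, map_mul] }
  -- counting
  have hcardHom : Nat.card (E →* ℂˣ) = Nat.card (Abelianization E) := by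
    rw [Nat.card_congr (Abelianization.lift (G := E) (A := ℂˣ))]
    exact CommGroup.card_monoidHom_of_hasEnoughRootsOfUnity (Abelianization E) ℂ
  have hfin : Finite (E →* ℂˣ) := by
    apply Nat.finite_of_card_ne_zero
    rw [hcardHom]
    exact Nat.card_pos.ne'
  have hAb : Nat.card (Abelianization E) * 2 = Nat.card E := by
    have h1 : Nat.card (Abelianization E) = (commutator E).index := rfl
    rw [h1, ← hZ2, ← hcomm, mul_comm]
    exact Subgroup.card_mul_index _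
  have hker : Ψ.ker ≤ Subgroup.center E := by
    intro g hg
    rw [MonoidHom.mem_ker] at hg
    rw [Subgroup.mem_center_iff]
    intro x
    have h1 : ι (c g x) = 1 := by
      have := DFunLike.congr_fun hg x
      exact this
    have h2 := hιinj _ h1
    have h3 : g * x * g⁻¹ * x⁻¹ = 1 := congrArg Subtype.val h2
    calc x * g = (g * x * g⁻¹ * x⁻¹)⁻¹ * (g * x) := by group
      _ = g * x := by rw [h3]; group
  have hsurj : Function.Surjective Ψ := by
    apply MonoidHom.surjective_of_card_ker_le_div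
    rw [hcardHom]
    have h1 : Nat.card Ψ.ker ≤ 2 := by
      rw [← hZ2]
      exact Subgroup.card_le_of_le hker
    have h2 : Nat.card E / Nat.card (Abelianization E) = 2 := by
      rw [← hAb]
      exact Nat.mul_div_cancel_left _ Nat.card_pos
    omega
  -- the cocycle of φ
  let cφ : E →* ℂˣ :=
    { toFun := fun x => ι ⟨φ x * x⁻¹, hφ x⟩
      map_one' := by
        have : (⟨φ 1 * (1 : E)⁻¹, hφ 1⟩ : Subgroup.center E) = 1 := by
          apply Subtype.ext
          show φ 1 * (1 : E)⁻¹ = 1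
          rw [map_one]; group
        rw [this, map_one]
      map_mul' := fun x y => by
        rw [← map_mul]
        congr 1
        apply Subtype.ext
        show φ (x * y) * (x * y)⁻¹ = (φ x * x⁻¹) * (φ y * y⁻¹)
        have h1 : x⁻¹ * (φ y * y⁻¹) = (φ y * y⁻¹) * x⁻¹ := hcen ⟨_, hφ y⟩ x⁻¹
        calc φ (x * y) * (x * y)⁻¹ = φ x * ((φ y * y⁻¹) * x⁻¹) := by rw [map_mul]; group
          _ = φ x * (x⁻¹ * (φ y * y⁻¹)) := by rw [h1]
          _ = _ := by group }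
  obtain ⟨g, hg⟩ := hsurj cφ
  refine ⟨g, fun x => ?_⟩
  have h1 : ι (c g x) = ι ⟨φ x * x⁻¹, hφ x⟩ := DFunLike.congr_fun hg x
  have h2 : ι ((c g x)⁻¹ * ⟨φ x * x⁻¹, hφ x⟩) = 1 := by
    rw [map_mul, map_inv, h1, inv_mul_cancel]
  have h3 := hιinj _ h2
  have h4 : (g * x * g⁻¹ * x⁻¹)⁻¹ * (φ x * x⁻¹) = 1 := congrArg Subtype.val h3
  have h5 : g * x * g⁻¹ * x⁻¹ = φ x * x⁻¹ := by
    rw [inv_mul_eq_one] at h4; exact h4
  calc φ x = (φ x * x⁻¹) * x := by group
    _ = (g * x * g⁻¹ * x⁻¹) * x := by rw [h5]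
    _ = g * x * g⁻¹ := by group
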