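import Cfsg.Statements.S5426
import Cfsg.Agent.Lib.Helper3.LargeStructF

set_option autoImplicit false
set_option maxHeartbeats 1000000
open Cfsg
open Cfsg.Agent.Lib.Helper5.ES Cfsg.Agent.Lib.Helper3.LargeQuot Cfsg.Agent.Lib.Helper3.LargeStruct

namespace Cfsg.Agent.S5426

/-- Let Q be a large extraspecial 2-subgroup of the finite group G (extraspecial; centralizer equal to its centre; normal in the centralizer of its centre; normalizing no non-trivial subgroup of odd order) with centre generated by z, and let M be the normal closure of z in G. Then one of the following holds: Q is normal in G; or M is abelian and the generalized Fitting subgroup of G is its largest normal 2-subgroup; or M is the generalized Fitting subgroup of G and is a non-abelian simple group; or M is the generalized Fitting subgroup of G and is the direct product of a non-abelian simple subgroup L and its conjugate u L u⁻¹ by some u in Q (the two meet trivially and commute elementwise), with z = z₁ (u z₁ u⁻¹) for some z₁ in L whose centralizer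 in L is a Sylow 2-subgroup of L with Frattini subgroup inside the subgroup generated by z₁, and Q is not the largest normal 2-subgroup of the centralizer of z. -/
theorem result {G : Type*} [Group G] [Finite G] (Q : Subgroup G) (hQ : Cfsg.IsLargeExtraspecial Q) (z : G) (hz : ((Subgroup.center ↥Q).map Q.subtype) = Subgroup.zpowers z) (M : Subgroup G) (hM : M = Subgroup.normalClosure ({z} : Set G)) : Q.Normal ∨ (IsMulCommutative ↥M ∧ Cfsg.generalizedFittingSubgroup G = Cfsg.pCore 2 G) ∨ (M = Cfsg.generalizedFittingSubgroup G ∧ IsSimpleGroup ↥M ∧ ¬ IsMulCommutative ↥M) ∨ (M = Cfsg.generalizedFittingSubgroup G ∧ ∃ (L : Subgroup G) (u : G), u ∈ Q ∧ IsSimpleGroup ↥L ∧ ¬ IsMulCommutative ↥L ∧ L ⊓ (L).map (MulAut.conj u).toMonoidHom = ⊥ ∧ (∀ x ∈ L, ∀ y ∈ (L).map (MulAut.conj u).toMonoidHom, x * y = y * x) ∧ L ⊔ (L).map (MulAut.conj u).toMonoidHom = M ∧ ∃ z₁ ∈ L, z = z₁ * (u * z₁ * u⁻¹) ∧ (∃ R : Sylow 2 ↥L, (R : Subgroup ↥L) = (Subgroup.centralizer ({z₁} : Set G)).subgroupOf L ∧ (frattini ↥(R : Subgroup ↥L)).map ((L.subtype).comp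 (R : Subgroup ↥L).subtype) ≤ Subgroup.zpowers z₁) ∧ Q ≠ (Cfsg.pCore 2 ↥(Subgroup.centralizer ({z} : Set G))).map (Subgroup.centralizer ({z} : Set G)).subtype) := by
  classical
  haveI : Fact (Nat.Prime 2) := ⟨Nat.prime_two⟩
  obtain ⟨hL1, hL2, hL3, hL4⟩ := hQ
  have hzZ : z ∈ (Subgroup.center ↥Q).map Q.subtype := by
    rw [hz]; exact Subgroup.mem_zpowers z
  have hz1 : z ≠ 1 := by
    intro h
    have hcard : Nat.card (Subgroup.center ↥Q) = 2 := hL1.2
    rw [h, Subgroup.zpowers_one_eq_bot] at hz
    have hcb : Subgroup.center ↥Q = ⊥ :=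
      (Subgroup.map_eq_bot_iff_of_injective _ Q.subtype_injective).mp hz
    rw [hcb, Subgroup.card_bot] at hcard
    norm_num at hcard
  obtain ⟨zq, hzq, hzqz⟩ := hzZ
  have hzq1 : zq ≠ 1 := by
    intro hh; apply hz1; rw [← hzqz, hh, map_one]
  have hES0 := ESData.ofExtraspecial hL1 zq hzq hzq1
  have hES1 := hES0.map Q.subtype (Subgroup.subtype_injective _)
  have htop : (⊤ : Subgroup ↥Q).map Q.subtype = Q := by
    rw [← MonoidHom.range_eq_map, Subgroup.range_subtype]
  rw [htop, hzqz] at hES1
  have hES : ESData Q z := hES1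
  have hZmem : ∀ v, v ∈ (Subgroup.center ↥Q).map Q.subtype ↔ v = 1 ∨ v = z := by
    intro v
    constructor
    · rintro ⟨c, hc, rfl⟩
      apply hES.cen _ c.2
      intro y hy
      have := (Subgroup.mem_center_iff.mp hc) ⟨y, hy⟩
      exact (congrArg Subtype.val this).symm
    · rintro (rfl | rfl)
      · exact Subgroup.one_mem _
      · exact ⟨zq, hzq, hzqz⟩
  have hcgq : ∀ x : G, (∀ q ∈ Q, x * q = q * x) → x = 1 ∨ x = z := by
    intro x hx
    apply (hZmem x).mp
    rw [← hL2, Subgroup.mem_centralizer_iff]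
    intro q hq
    exact (hx q hq).symm
  have hnrm : ∀ c : G, z * c = c * z → ∀ q ∈ Q, c * q * c⁻¹ ∈ Q := by
    intro c hc q hq
    have hcC : c ∈ Subgroup.centralizer
        (((Subgroup.center ↥Q).map Q.subtype : Subgroup G) : Set G) := by
      rw [Subgroup.mem_centralizer_iff]
      intro v hv
      rcases (hZmem v).mp hv with rfl | rfl
      · simp
      · exact hc
    exact (Subgroup.mem_normalizer_iff.mp (hL3 hcC) q).mp hq
  have S : LSetup Q z := ⟨hES, hcgq, hnrm, hL4, hL1.1.1⟩
  by_cases hQn : Q.Normal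
  · exact Or.inl hQn
  right
  subst hM
  by_cases hO : pCore 2 G = ⊥
  · right
    obtain ⟨hF, hFs, hME, hzE⟩ := S.layer_facts hO
    obtain ⟨L, hL⟩ : ∃ L : Subgroup G, IsComponent L := by
      by_contra hcon
      push_neg at hcon
      have hbot : layer G = ⊥ := by
        unfold layer
        rw [sSup_eq_bot]
        intro K hK
        exact absurd hK (hcon K)
      rw [hbot] at hzE
      exact hz1 (Subgroup.mem_bot.mp hzE)
    by_cases hQL : ∀ u ∈ Q, L.map (MulAut.conj u).toMonoidHom = L
    · left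
      have hEL := S.caseA hF hzE L hL hQL
      refine ⟨by rw [hME, hFs], ?_, ?_⟩
      · rw [hME, hEL]; exact comp_simple hF L hL
      · rw [hME, hEL]
        intro hc
        obtain ⟨a, ha, b, hb, hab⟩ := comp_nonabelian L hL
        apply hab
        have := isMulCommutative_iff.mp hc ⟨a, ha⟩ ⟨b, hb⟩
        exact congrArg Subtype.val this
    · right
      push_neg at hQL
      obtain ⟨u, hu, hLu⟩ := hQL
      obtain ⟨z₁, B⟩ := S.caseB1 hF hzE L hL u hu hLu
      refine ⟨by rw [hME, hFs], L, u, hu, comp_simple hF L hL, ?_, ?_, B.comm, ?_, z₁, B.z₁L,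
        B.zeq, ?_, B.ne_core S hF hL⟩
      · intro hc
        obtain ⟨a, ha, b, hb, hab⟩ := comp_nonabelian L hL
        apply hab
        have := isMulCommutative_iff.mp hc ⟨a, ha⟩ ⟨b, hb⟩
        exact congrArg Subtype.val this
      · rw [eq_bot_iff]
        rintro x ⟨hx, hx'⟩
        exact Subgroup.mem_bot.mpr (B.disj x hx hx')
      · rw [hME]; exact B.layer_eq hL
      · obtain ⟨hR2, hfr⟩ := B.frat S
        exact ⟨⟨(Subgroup.centralizer ({z₁} : Set G)).subgroupOf L, hR2,
          fun hS hle => B.max S hL _ hS hle⟩, rfl, hfr⟩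
  · left
    exact S.case2 hO

end Cfsg.Agent.S5426
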