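import Cfsg.Statements.S5428
import Cfsg.Agent.S5427
import Cfsg.Agent.Lib.Helper3.LargeQuot2

set_option autoImplicit false
set_option maxHeartbeats 2000000
open Cfsg
open scoped commutatorElement
open Cfsg.Agent.Lib.Helper5.ES Cfsg.Agent.Lib.Helper3.LargeQuot

namespace Cfsg.Agent.S5428

/-- Let z be an involution of the finite group G whose centralizer C has generalized Fitting subgroup Q extraspecial (as a 2-group), let A be a subgroup of C of odd order, and let R be the centralizer of A in Q; suppose R has order at least 32, the largest normal subgroup of odd order of the centralizer of the subgroup generated by A and R lies in A, the order of that centralizer is not divisible by 4, and g is an element of G with g z g⁻¹ in R but outside the centre Z of Q. Let M be the subgroup generated by A and the centralizer of A (A is normal in it). Then: the centralizer in M of the subgroup generated by R and A, joined with A, equals the subgroup generated by A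 and Z; the image of R in M/A is a large extraspecial 2-subgroup of M/A; and g z g⁻¹ is conjugate to z inside the subgroup generated by R and the centralizer of A in g Q g⁻¹. -/
theorem result {G : Type*} [Group G] [Finite G] (z : G) (hz : orderOf z = 2) (Q : Subgroup G) (hQC : Q ≤ Subgroup.centralizer ({z} : Set G)) (hF : (Cfsg.generalizedFittingSubgroup ↥(Subgroup.centralizer ({z} : Set G))).map (Subgroup.centralizer ({z} : Set G)).subtype = Q) (hQ : Cfsg.IsExtraspecial 2 ↥Q) (A : Subgroup G) (hA : A ≤ Subgroup.centralizer ({z} : Set G)) (hAodd : Odd (Nat.card ↥A)) (R : Subgroup G) (hR : R = Q ⊓ Subgroup.centralizer (A : Set G)) (hR32 : 32 ≤ Nat.card ↥R) (hO : (Cfsg.oddCore ↥(Subgroup.centralizer ((A ⊔ R : Subgroup G) : Set G))).map (Subgroup.centralizer ((A ⊔ R : Subgroup G) : Set G)).subtype ≤ A) (h4 : ¬ 4 ∣ Nat.card ↥(Subgroup.centralizer ((A ⊔ R : Subgroup G) : Set G))) (g : G) (hgR : g * z * g⁻¹ ∈ R) (hgZ : g * z * g⁻¹ ∉ ((Subgroup.center ↥Q).map Q.subtype))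 (M : Subgroup G) (hM : M = Subgroup.centralizer (A : Set G) ⊔ A) [hn : (A.subgroupOf M).Normal] : (M ⊓ Subgroup.centralizer ((R ⊔ A : Subgroup G) : Set G)) ⊔ A = A ⊔ ((Subgroup.center ↥Q).map Q.subtype) ∧ Cfsg.IsLargeExtraspecial ((R.subgroupOf M).map (QuotientGroup.mk' (A.subgroupOf M))) ∧ ∃ x ∈ R ⊔ ((Q).map (MulAut.conj g).toMonoidHom ⊓ Subgroup.centralizer (A : Set G)), x * (g * z * g⁻¹) * x⁻¹ = z := by
  classical
  haveI : Fact (Nat.Prime 2) := ⟨Nat.prime_two⟩
  have hz1 : z ≠ 1 := by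
    rintro rfl
    simp at hz
  have hzz : z * z = 1 := by rw [← pow_two, ← hz, pow_orderOf_eq_one]
  have hzi : z⁻¹ = z := inv_eq_of_mul_eq_one_left hzz
  have hmemH : ∀ h : G, h ∈ Subgroup.centralizer ({z} : Set G) ↔ z * h = h * z := by
    intro h
    rw [Subgroup.mem_centralizer_singleton_iff]
    exact eq_comm
  have hzH : z ∈ Subgroup.centralizer ({z} : Set G) := (hmemH z).mpr rfl
  have hQ2 : IsPGroup 2 ↥Q := hQ.1.1
  -- N1 : C(z) normalizes Q
  have hFn := Cfsg.Agent.Lib.Helper9.generalizedFittingSubgroup_normal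
    ↥(Subgroup.centralizer ({z} : Set G))
  have hN1 : ∀ c : G, z * c = c * z → ∀ q ∈ Q, c * q * c⁻¹ ∈ Q := by
    intro c hc q hq
    rw [← hF] at hq ⊢
    obtain ⟨q', hq', rfl⟩ := Subgroup.mem_map.mp hq
    refine Subgroup.mem_map.mpr ⟨⟨c, (hmemH c).mpr hc⟩ * q' * (⟨c, (hmemH c).mpr hc⟩)⁻¹,
      hFn.conj_mem _ hq' _, ?_⟩
    simp
  -- N2 : C_{C(z)}(Q) ≤ Q
  have hCF := Cfsg.Agent.S1265.result (G := ↥(Subgroup.centralizer ({z} : Set G)))
  have hN2 : ∀ c : G, z * c = c * z → (∀ q ∈ Q, c * q = q * c) → c ∈ Q := by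
    intro c hc hcq
    rw [← hF]
    refine Subgroup.mem_map.mpr ⟨⟨c, (hmemH c).mpr hc⟩, hCF ?_, rfl⟩
    rw [Subgroup.mem_centralizer_iff]
    intro f hf
    apply Subtype.ext
    have hfQ : (f : G) ∈ Q := by rw [← hF]; exact Subgroup.mem_map.mpr ⟨f, hf, rfl⟩
    exact (hcq f hfQ).symm
  have hzQ : z ∈ Q := hN2 z rfl (fun q hq => (hmemH q).mp (hQC hq))
  have hcardc : Nat.card (Subgroup.center ↥Q) = 2 := hQ.2
  have hcenQ : ∀ x ∈ Q, (∀ q ∈ Q, x * q = q * x) → x = 1 ∨ x = z := by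
    intro x hx hxq
    have hxc : (⟨x, hx⟩ : ↥Q) ∈ Subgroup.center ↥Q := by
      rw [Subgroup.mem_center_iff]; intro q; apply Subtype.ext; exact (hxq q q.2).symm
    have hzc : (⟨z, hzQ⟩ : ↥Q) ∈ Subgroup.center ↥Q := by
      rw [Subgroup.mem_center_iff]; intro q; apply Subtype.ext
      exact ((hmemH q).mp (hQC q.2)).symm
    obtain ⟨y, _, hy⟩ := (Nat.card_eq_two_iff' (1 : Subgroup.center ↥Q)).mp hcardc
    by_cases h1 : x = 1
    · exact Or.inl h1
    · right
      have e1 : (⟨⟨x, hx⟩, hxc⟩ : Subgroup.center ↥Q) = y :=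
        hy _ (fun e => h1 (congrArg (fun t : Subgroup.center ↥Q => ((t : ↥Q) : G)) e))
      have e2 : (⟨⟨z, hzQ⟩, hzc⟩ : Subgroup.center ↥Q) = y :=
        hy _ (fun e => hz1 (congrArg (fun t : Subgroup.center ↥Q => ((t : ↥Q) : G)) e))
      exact congrArg (fun t : Subgroup.center ↥Q => ((t : ↥Q) : G)) (e1.trans e2.symm)
  have hCGQ : ∀ x : G, (∀ q ∈ Q, x * q = q * x) → x = 1 ∨ x = z := by
    intro x hxq
    have hxz : z * x = x * z := (hxq z hzQ).symm
    exact hcenQ x (hN2 x hxz hxq) hxq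
  have hcommQ : ∀ a ∈ Q, ∀ b ∈ Q, ⁅a, b⁆ = 1 ∨ ⁅a, b⁆ = z := by
    intro a ha b hb
    have hmem : ⁅(⟨a, ha⟩ : ↥Q), ⟨b, hb⟩⁆ ∈ commutator ↥Q :=
      Subgroup.commutator_mem_commutator (Subgroup.mem_top _) (Subgroup.mem_top _)
    rw [hQ.1.2.2] at hmem
    have hc : ⁅a, b⁆ ∈ Q := by
      rw [commutatorElement_def]
      exact Q.mul_mem (Q.mul_mem (Q.mul_mem ha hb) (Q.inv_mem ha)) (Q.inv_mem hb)
    apply hcenQ _ hc
    intro q hq
    have h1 := Subgroup.mem_center_iff.mp hmem ⟨q, hq⟩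
    have h2 : q * ⁅a, b⁆ = ⁅a, b⁆ * q := congrArg Subtype.val h1
    exact h2.symm
  have hsqQ : ∀ a ∈ Q, a * a = 1 ∨ a * a = z := by
    intro a ha
    have hmem := Cfsg.Agent.Lib.Helper11.pow_mem_frattini_of_isPGroup hQ2 (⟨a, ha⟩ : ↥Q)
    rw [hQ.1.2.1] at hmem
    have hc : a * a ∈ Q := Q.mul_mem ha ha
    apply hcenQ _ hc
    intro q hq
    have h1 := Subgroup.mem_center_iff.mp hmem ⟨q, hq⟩
    have h2 : q * (a ^ 2) = (a ^ 2) * q := congrArg Subtype.val h1
    rw [pow_two] at h2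
    exact h2.symm
  have hPair : Cfsg.Agent.Lib.Helper20.SympPair z Q :=
    { z2 := hzz, z1 := hz1, le := fun q hq => (hmemH q).mp (hQC hq), normal := hN1, self := hN2,
      zmem := hzQ, comm := hcommQ, sq := hsqQ, cen := fun x hx hxq _ => hcenQ x hx hxq,
      pgroup := hQ2 }
  have hES : ESData Q z :=
    { zQ := hzQ, z1 := hz1, zz := hzz
      comm := fun x hx y hy => by
        have := hcommQ x hx y hy
        rwa [commutatorElement_def] at this
      zc := fun x hx => (hmemH x).mp (hQC hx), cen := hcenQ, sq := hsqQ }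
  subst hR
  have hgQ : g * z * g⁻¹ ∈ Q := hgR.1
  have hne : g * z * g⁻¹ ≠ z := by
    intro h
    apply hgZ
    rw [h, Cfsg.Agent.Lib.Helper3.mem_center_map_subtype]
    exact ⟨hzQ, fun w hw => ((hmemH w).mp (hQC hw)).symm⟩
  obtain ⟨hzQg, -, -⟩ := Cfsg.Agent.Lib.Helper20.st_main hPair g hne hgQ
  have hPg := hPair.conj g
  have hESg : ESData (Q.map (MulAut.conj g).toMonoidHom) (g * z * g⁻¹) :=
    hES.map (MulAut.conj g).toMonoidHom (MulAut.conj g).injective
  have hQg2 : IsPGroup 2 ↥(Q.map (MulAut.conj g).toMonoidHom) := hQ2.map _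
  obtain ⟨z', hz'⟩ : ∃ z' : G, z' = g * z * g⁻¹ := ⟨_, rfl⟩
  rw [← hz'] at hgQ hne hPg hESg hgR ⊢
  clear hgZ
  have hz'1 : z' ≠ 1 := hESg.z1
  have hz'z' : z' * z' = 1 := hESg.zz
  have hz'i : z'⁻¹ = z' := inv_eq_of_mul_eq_one_left hz'z'
  have hzz'c : z * z' = z' * z := (hmemH z').mp (hQC hgQ)
  -- A
  have hAz : ∀ a ∈ A, a * z = z * a := fun a ha => ((hmemH a).mp (hA ha)).symm
  have hzCA : z ∈ Subgroup.centralizer (A : Set G) := Subgroup.mem_centralizer_iff.mpr hAz
  have hz'CA : z' ∈ Subgroup.centralizer (A : Set G) := hgR.2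
  have hAz' : ∀ a ∈ A, a * z' = z' * a := fun a ha => Subgroup.mem_centralizer_iff.mp hz'CA a ha
  have hAQ : A ≤ Subgroup.normalizer (Q : Set G) := by
    intro a ha
    rw [Subgroup.mem_normalizer_iff]
    intro q
    constructor
    · exact hN1 a (hAz a ha).symm q
    · intro hq
      have hai : z * a⁻¹ = a⁻¹ * z := ((hmemH a⁻¹).mp (hA (A.inv_mem ha)))
      have := hN1 a⁻¹ hai _ hq
      have e : a⁻¹ * (a * q * a⁻¹) * a⁻¹⁻¹ = q := by group
      rwa [e] at this
  have hAQg : A ≤ Subgroup.normalizer ((Q.map (MulAut.conj g).toMonoidHom : Subgroup G) : Set G) := by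
    intro a ha
    rw [Subgroup.mem_normalizer_iff]
    intro q
    constructor
    · exact hPg.normal a (hAz' a ha).symm q
    · intro hq
      have hai : z' * a⁻¹ = a⁻¹ * z' := (hAz' a⁻¹ (A.inv_mem ha)).symm
      have := hPg.normal a⁻¹ hai _ hq
      have e : a⁻¹ * (a * q * a⁻¹) * a⁻¹⁻¹ = q := by group
      rwa [e] at this
  have hnoA : ∀ x ∈ A, x * x = 1 → x = 1 := by
    intro x hx hxx
    have e1 : orderOf x ∣ 2 ^ 1 := orderOf_dvd_of_pow_eq_one (by rw [pow_one, pow_two]; exact hxx)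
    have e2 : orderOf x ∣ Nat.card A := Subgroup.orderOf_dvd_natCard A hx
    have e3 : Nat.Coprime (2 ^ 1) (Nat.card A) :=
      Nat.Coprime.pow_left 1 (Nat.coprime_two_left.mpr hAodd)
    exact orderOf_eq_one_iff.mp (Nat.eq_one_of_dvd_coprimes e3 e1 e2)
  have hzA : z ∉ A := fun h => hz1 (hnoA z h hzz)
  -- partners
  have hzR : z ∈ Q ⊓ Subgroup.centralizer (A : Set G) := Subgroup.mem_inf.mpr ⟨hzQ, hzCA⟩
  obtain ⟨q, hqR, hqz'⟩ := dec hES hQ2 A hAQ hAodd z' hgR hz'1 hne
  obtain ⟨r, hrR, hrz⟩ := dec hESg hQg2 A hAQg hAodd z (Subgroup.mem_inf.mpr ⟨hzQg, hzCA⟩) hz1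
    (fun h => hne h.symm)
  -- ESData for R
  have hESR : ESData (Q ⊓ Subgroup.centralizer (A : Set G)) z :=
    { zQ := hzR, z1 := hz1, zz := hzz
      comm := fun x hx y hy => hES.comm x hx.1 y hy.1
      zc := fun x hx => hES.zc x hx.1
      cen := by
        intro x hx hxc
        by_contra hcon
        push_neg at hcon
        obtain ⟨q', hq', hq'x⟩ := dec hES hQ2 A hAQ hAodd x hx hcon.1 hcon.2
        have : q' * x * q'⁻¹ * x⁻¹ = 1 := comm_eq_one_iff.mpr (hxc q' hq').symm
        exact hz1 (hq'x.symm.trans this)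
      sq := fun x hx => hES.sq x hx.1 }
  have hR2 : IsPGroup 2 ↥(Q ⊓ Subgroup.centralizer (A : Set G)) := hQ2.to_le inf_le_left
  -- the centralizer Y of A ⊔ R
  have hmemY : ∀ y : G, y ∈ Subgroup.centralizer
      ((A ⊔ (Q ⊓ Subgroup.centralizer (A : Set G)) : Subgroup G) : Set G) ↔
      (∀ a ∈ A, a * y = y * a) ∧ ∀ r ∈ Q ⊓ Subgroup.centralizer (A : Set G), r * y = y * r := by
    intro y
    constructor
    · intro hy
      exact ⟨fun a ha => Subgroup.mem_centralizer_iff.mp hy a (Subgroup.mem_sup_left ha),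
        fun r hr => Subgroup.mem_centralizer_iff.mp hy r (Subgroup.mem_sup_right hr)⟩
    · rintro ⟨h1, h2⟩
      have hle : A ⊔ (Q ⊓ Subgroup.centralizer (A : Set G)) ≤ Subgroup.centralizer ({y} : Set G) := by
        apply sup_le
        · intro a ha
          exact Subgroup.mem_centralizer_singleton_iff.mpr (h1 a ha)
        · intro r hr
          exact Subgroup.mem_centralizer_singleton_iff.mpr (h2 r hr)
      rw [Subgroup.mem_centralizer_iff]
      intro x hx
      exact Subgroup.mem_centralizer_singleton_iff.mp (hle hx)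
  have hzY : z ∈ Subgroup.centralizer
      ((A ⊔ (Q ⊓ Subgroup.centralizer (A : Set G)) : Subgroup G) : Set G) :=
    (hmemY z).mpr ⟨hAz, fun r hr => (hES.zc r hr.1).symm⟩
  have hYel : ∀ y ∈ Subgroup.centralizer
      ((A ⊔ (Q ⊓ Subgroup.centralizer (A : Set G)) : Subgroup G) : Set G), y ∈ A ∨ y * z ∈ A := by
    intro y hy
    have key := two_odd (Y := ↥(Subgroup.centralizer
      ((A ⊔ (Q ⊓ Subgroup.centralizer (A : Set G)) : Subgroup G) : Set G))) ⟨z, hzY⟩
      (Subtype.ext hzz) (fun h => hz1 (congrArg Subtype.val h)) h4 ⟨y, hy⟩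
    rcases key with h | h
    · left; exact hO ⟨_, h, rfl⟩
    · right; exact hO ⟨_, h, rfl⟩
  have hCM : Subgroup.centralizer (A : Set G) ≤ M := hM ▸ le_sup_left
  have hAM : A ≤ M := hM ▸ le_sup_right
  have hzM : z ∈ M := hCM hzCA
  have hz'M : z' ∈ M := hCM hz'CA
  refine ⟨?_, ?_, r⁻¹ * q, ?_, ?_⟩
  · -- (i)
    have hzZ : z ∈ (Subgroup.center ↥Q).map Q.subtype :=
      (Cfsg.Agent.Lib.Helper3.mem_center_map_subtype Q z).mpr
        ⟨hzQ, fun w hw => ((hmemH w).mp (hQC hw)).symm⟩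
    have hRA : ((Q ⊓ Subgroup.centralizer (A : Set G)) ⊔ A : Subgroup G) =
        A ⊔ (Q ⊓ Subgroup.centralizer (A : Set G)) := sup_comm _ _
    rw [hRA]
    apply le_antisymm
    · apply sup_le _ le_sup_left
      intro y hy
      rcases hYel y hy.2 with h | h
      · exact Subgroup.mem_sup_left h
      · have : y = (y * z) * z := by rw [mul_assoc, hzz, mul_one]
        rw [this]
        exact Subgroup.mul_mem _ (Subgroup.mem_sup_left h) (Subgroup.mem_sup_right hzZ)
    · apply sup_le le_sup_right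
      intro x hx
      rw [Cfsg.Agent.Lib.Helper3.mem_center_map_subtype] at hx
      rcases hcenQ x hx.1 (fun q hq => (hx.2 q hq).symm) with rfl | rfl
      · exact Subgroup.one_mem _
      · exact Subgroup.mem_sup_left (Subgroup.mem_inf.mpr ⟨hzM, hzY⟩)
  · -- (ii)
    have hMdec : ∀ m ∈ M, ∃ c ∈ Subgroup.centralizer (A : Set G), ∃ a ∈ A, c * a = m := by
      intro m hm
      have hcoe := Subgroup.coe_mul_of_left_le_normalizer_right (Subgroup.centralizer (A : Set G)) A
        (Subgroup.centralizer_le_normalizer (A : Set G))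
      have hm' : m ∈ ((Subgroup.centralizer (A : Set G) ⊔ A : Subgroup G) : Set G) := by
        rw [SetLike.mem_coe, ← hM]; exact hm
      rw [hcoe] at hm'
      obtain ⟨c, hc, a, ha, hca⟩ := hm'
      exact ⟨c, hc, a, ha, hca⟩
    have hπ : ∀ a b : ↥M, QuotientGroup.mk' (A.subgroupOf M) a = QuotientGroup.mk' (A.subgroupOf M) b ↔
        (a : G)⁻¹ * (b : G) ∈ A := by
      intro a b
      rw [QuotientGroup.mk'_apply, QuotientGroup.mk'_apply, QuotientGroup.eq, Subgroup.mem_subgroupOf]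
      rfl
    have hπ1 : ∀ a : ↥M, QuotientGroup.mk' (A.subgroupOf M) a = 1 ↔ (a : G) ∈ A := by
      intro a
      rw [QuotientGroup.mk'_apply, QuotientGroup.eq_one_iff, Subgroup.mem_subgroupOf]
    have hsurjC : ∀ xb : ↥M ⧸ A.subgroupOf M, ∃ c : ↥M,
        (c : G) ∈ Subgroup.centralizer (A : Set G) ∧ QuotientGroup.mk' (A.subgroupOf M) c = xb := by
      intro xb
      obtain ⟨m, rfl⟩ := QuotientGroup.mk'_surjective (A.subgroupOf M) xb
      obtain ⟨c, hc, a, ha, hca⟩ := hMdec m m.2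
      refine ⟨⟨c, hCM hc⟩, hc, ?_⟩
      rw [hπ]
      show c⁻¹ * (m : G) ∈ A
      rw [← hca]
      have : c⁻¹ * (c * a) = a := by group
      rw [this]; exact ha
    have hlift : ∀ (w : G) (hwC : w ∈ Subgroup.centralizer (A : Set G)) (n : ℕ), w ^ (2 ^ n) = 1 →
        ∀ c : ↥M, (c : G) ∈ Subgroup.centralizer (A : Set G) →
        QuotientGroup.mk' (A.subgroupOf M) ⟨w, hCM hwC⟩ * QuotientGroup.mk' (A.subgroupOf M) c =
          QuotientGroup.mk' (A.subgroupOf M) c * QuotientGroup.mk' (A.subgroupOf M) ⟨w, hCM hwC⟩ →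
        (c : G) * w = w * (c : G) := by
      intro w hwC n hwn c hc hcomm
      have e1 : QuotientGroup.mk' (A.subgroupOf M) ⟨w, hCM hwC⟩ =
          QuotientGroup.mk' (A.subgroupOf M) (c * ⟨w, hCM hwC⟩ * c⁻¹) := by
        rw [map_mul, map_mul, map_inv, ← hcomm]; group
      rw [hπ] at e1
      have e2 : w⁻¹ * ((c : G) * w * (c : G)⁻¹) ∈ A := e1
      have hew : (w⁻¹ * ((c : G) * w * (c : G)⁻¹)) * w = w * (w⁻¹ * ((c : G) * w * (c : G)⁻¹)) :=
        Subgroup.mem_centralizer_iff.mp hwC _ e2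
      have hpow : ((w⁻¹ * ((c : G) * w * (c : G)⁻¹)) * w) ^ (2 ^ n) = 1 := by
        rw [hew]
        have : w * (w⁻¹ * ((c : G) * w * (c : G)⁻¹)) = (c : G) * w * (c : G)⁻¹ := by group
        rw [this, conj_pow, hwn]; group
      have := odd_trick A hAodd _ w e2 hew n hwn hpow
      calc (c : G) * w = w * (w⁻¹ * ((c : G) * w * (c : G)⁻¹)) * c := by group
        _ = w * c := by rw [this, mul_one]
    have hESq : ESData (((Q ⊓ Subgroup.centralizer (A : Set G)).subgroupOf M).map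
        (QuotientGroup.mk' (A.subgroupOf M))) (QuotientGroup.mk' (A.subgroupOf M) ⟨z, hzM⟩) :=
      { zQ := Subgroup.mem_map_of_mem _ (Subgroup.mem_subgroupOf.mpr hzR)
        z1 := by
          intro hh
          rw [hπ1] at hh
          exact hzA hh
        zz := by
          have : (⟨z, hzM⟩ : ↥M) * ⟨z, hzM⟩ = 1 := Subtype.ext hzz
          rw [← map_mul, this, map_one]
        comm := by
          rintro _ ⟨x, hx, rfl⟩ _ ⟨y, hy, rfl⟩
          rcases hESR.comm _ (Subgroup.mem_subgroupOf.mp hx) _ (Subgroup.mem_subgroupOf.mp hy) with h1 | h1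
          · left
            have : x * y * x⁻¹ * y⁻¹ = 1 := Subtype.ext h1
            rw [← map_inv, ← map_inv, ← map_mul, ← map_mul, ← map_mul, this, map_one]
          · right
            have : x * y * x⁻¹ * y⁻¹ = ⟨z, hzM⟩ := Subtype.ext h1
            rw [← map_inv, ← map_inv, ← map_mul, ← map_mul, ← map_mul, this]
        zc := by
          rintro _ ⟨x, hx, rfl⟩
          have : (⟨z, hzM⟩ : ↥M) * x = x * ⟨z, hzM⟩ :=
            Subtype.ext (hESR.zc _ (Subgroup.mem_subgroupOf.mp hx))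
          rw [← map_mul, ← map_mul, this]
        cen := by
          rintro _ ⟨x, hx, rfl⟩ hh
          have hx' := Subgroup.mem_subgroupOf.mp hx
          have hxc : ∀ y ∈ Q ⊓ Subgroup.centralizer (A : Set G), (x : G) * y = y * (x : G) := by
            intro y hy
            have h1 := hh _ (Subgroup.mem_map_of_mem _ (Subgroup.mem_subgroupOf.mpr
              (show ((⟨y, hCM hy.2⟩ : ↥M) : G) ∈ _ from hy)))
            rw [← map_mul, ← map_mul, hπ] at h1
            have h1' : ((x : G) * y)⁻¹ * (y * (x : G)) ∈ A := h1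
            have h3 : ((x : G) * y)⁻¹ * (y * (x : G)) = 1 ∨ ((x : G) * y)⁻¹ * (y * (x : G)) = z := by
              have h2 := hESR.comm y⁻¹ (Subgroup.inv_mem _ hy) (x : G)⁻¹ (Subgroup.inv_mem _ hx')
              have e : ((x : G) * y)⁻¹ * (y * (x : G)) = y⁻¹ * (x : G)⁻¹ * y⁻¹⁻¹ * (x : G)⁻¹⁻¹ := by group
              rw [e]; exact h2
            rcases h3 with h3 | h3
            · exact inv_mul_eq_one.mp h3
            · exfalso; rw [h3] at h1'; exact hzA h1'
          rcases hESR.cen _ hx' hxc with h1 | h1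
          · left
            have : x = 1 := Subtype.ext h1
            rw [this, map_one]
          · right
            have : x = ⟨z, hzM⟩ := Subtype.ext h1
            rw [this]
        sq := by
          rintro _ ⟨x, hx, rfl⟩
          rcases hESR.sq _ (Subgroup.mem_subgroupOf.mp hx) with h1 | h1
          · left
            have : x * x = 1 := Subtype.ext h1
            rw [← map_mul, this, map_one]
          · right
            have : x * x = ⟨z, hzM⟩ := Subtype.ext h1
            rw [← map_mul, this] }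
    have hP2q : IsPGroup 2 ↥(((Q ⊓ Subgroup.centralizer (A : Set G)).subgroupOf M).map
        (QuotientGroup.mk' (A.subgroupOf M))) :=
      (hR2.comap_of_injective M.subtype (Subgroup.subtype_injective M)).map _
    have hnaq : ∃ a ∈ ((Q ⊓ Subgroup.centralizer (A : Set G)).subgroupOf M).map
        (QuotientGroup.mk' (A.subgroupOf M)), ∃ b ∈ ((Q ⊓ Subgroup.centralizer (A : Set G)).subgroupOf M).map
        (QuotientGroup.mk' (A.subgroupOf M)),
        a * b * a⁻¹ * b⁻¹ = QuotientGroup.mk' (A.subgroupOf M) ⟨z, hzM⟩ := by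
      refine ⟨_, Subgroup.mem_map_of_mem _ (Subgroup.mem_subgroupOf.mpr
        (show ((⟨q, hCM hqR.2⟩ : ↥M) : G) ∈ _ from hqR)), _,
        Subgroup.mem_map_of_mem _ (Subgroup.mem_subgroupOf.mpr
        (show ((⟨z', hz'M⟩ : ↥M) : G) ∈ _ from hgR)), ?_⟩
      have : (⟨q, hCM hqR.2⟩ : ↥M) * ⟨z', hz'M⟩ * (⟨q, hCM hqR.2⟩)⁻¹ * (⟨z', hz'M⟩)⁻¹ = ⟨z, hzM⟩ :=
        Subtype.ext hqz'
      rw [← map_inv, ← map_inv, ← map_mul, ← map_mul, ← map_mul, this]
    refine le_of _ _ hESq hP2q hnaq ?_ ?_ (QuotientGroup.mk' (A.subgroupOf M) ⟨z', hz'M⟩) ?_ ?_ ?_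
      ((((Q.map (MulAut.conj g).toMonoidHom) ⊓ Subgroup.centralizer (A : Set G)).subgroupOf M).map
        (QuotientGroup.mk' (A.subgroupOf M))) ?_ ?_ ?_
    · -- hc2
      intro xb hxb
      obtain ⟨c, hcC, rfl⟩ := hsurjC xb
      have hcR : ∀ r ∈ Q ⊓ Subgroup.centralizer (A : Set G), r * (c : G) = (c : G) * r := by
        intro r hr
        obtain ⟨n, hn⟩ := hR2 ⟨r, hr⟩
        have hrn : r ^ (2 ^ n) = 1 := by simpa using congrArg Subtype.val hn
        have := hlift r hr.2 n hrn c hcC (hxb _ (Subgroup.mem_map_of_mem _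
          (Subgroup.mem_subgroupOf.mpr (show ((⟨r, hCM hr.2⟩ : ↥M) : G) ∈ _ from hr))))
        exact this.symm
      have hcY : (c : G) ∈ Subgroup.centralizer
          ((A ⊔ (Q ⊓ Subgroup.centralizer (A : Set G)) : Subgroup G) : Set G) :=
        (hmemY _).mpr ⟨fun a ha => Subgroup.mem_centralizer_iff.mp hcC a ha, hcR⟩
      rcases hYel _ hcY with h | h
      · have : QuotientGroup.mk' (A.subgroupOf M) c = 1 := (hπ1 c).mpr h
        rw [this]; exact Subgroup.one_mem _
      · have hcz : z * (c : G) = (c : G) * z := hcR z hzR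
        have : QuotientGroup.mk' (A.subgroupOf M) c = QuotientGroup.mk' (A.subgroupOf M) ⟨z, hzM⟩ := by
          rw [hπ]
          show (c : G)⁻¹ * z ∈ A
          have e : (c : G)⁻¹ * z = ((c : G) * z)⁻¹ := by
            rw [mul_inv_rev, hzi]
            calc (c : G)⁻¹ * z = (c : G)⁻¹ * (z * c) * (c : G)⁻¹ := by group
              _ = (c : G)⁻¹ * (c * z) * (c : G)⁻¹ := by rw [hcz]
              _ = z * (c : G)⁻¹ := by group
          rw [e]
          exact A.inv_mem h
        rw [this]; exact hESq.zQ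
    · -- hc3
      intro xb hxb yb hyb
      obtain ⟨c, hcC, rfl⟩ := hsurjC xb
      obtain ⟨r', hr', rfl⟩ := hyb
      have hr'' := Subgroup.mem_subgroupOf.mp hr'
      have hcz : (c : G) * z = z * (c : G) :=
        hlift z hzCA 1 (by rw [pow_one, pow_two]; exact hzz) c hcC hxb
      rw [← map_inv, ← map_mul, ← map_mul]
      apply Subgroup.mem_map_of_mem
      rw [Subgroup.mem_subgroupOf]
      show (c : G) * (r' : G) * (c : G)⁻¹ ∈ Q ⊓ Subgroup.centralizer (A : Set G)
      refine Subgroup.mem_inf.mpr ⟨hN1 _ hcz.symm _ hr''.1, ?_⟩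
      exact Subgroup.mul_mem _ (Subgroup.mul_mem _ hcC hr''.2) (Subgroup.inv_mem _ hcC)
    · exact Subgroup.mem_map_of_mem _ (Subgroup.mem_subgroupOf.mpr
        (show ((⟨z', hz'M⟩ : ↥M) : G) ∈ _ from hgR))
    · have : (⟨z', hz'M⟩ : ↥M) * ⟨z', hz'M⟩ = 1 := Subtype.ext hz'z'
      rw [← map_mul, this, map_one]
    · intro hh
      rw [hπ] at hh
      have h1 : z'⁻¹ * z ∈ A := hh
      rw [hz'i] at h1
      have h2 : (z' * z) * (z' * z) = 1 := by
        calc (z' * z) * (z' * z) = z' * (z * z') * z := by group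
          _ = z' * (z' * z) * z := by rw [hzz'c]
          _ = (z' * z') * (z * z) := by group
          _ = 1 := by rw [hz'z', hzz, one_mul]
      have h3 := hnoA _ h1 h2
      apply hne
      have := eq_inv_of_mul_eq_one_left h3
      rw [this, hzi]
    · exact ((hQg2.to_le inf_le_left).comap_of_injective M.subtype
        (Subgroup.subtype_injective M)).map _
    · exact Subgroup.mem_map_of_mem _ (Subgroup.mem_subgroupOf.mpr
        (show ((⟨z, hzM⟩ : ↥M) : G) ∈ _ from Subgroup.mem_inf.mpr ⟨hzQg, hzCA⟩))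
    · intro cb hcb rb hrb
      obtain ⟨c, hcC, rfl⟩ := hsurjC cb
      obtain ⟨r', hr', rfl⟩ := hrb
      have hr'' := Subgroup.mem_subgroupOf.mp hr'
      have hcz' : (c : G) * z' = z' * (c : G) :=
        hlift z' hz'CA 1 (by rw [pow_one, pow_two]; exact hz'z') c hcC hcb
      rw [← map_inv, ← map_mul, ← map_mul]
      apply Subgroup.mem_map_of_mem
      rw [Subgroup.mem_subgroupOf]
      show (c : G) * (r' : G) * (c : G)⁻¹ ∈
        (Q.map (MulAut.conj g).toMonoidHom) ⊓ Subgroup.centralizer (A : Set G)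
      refine Subgroup.mem_inf.mpr ⟨hPg.normal _ hcz'.symm _ hr''.1, ?_⟩
      exact Subgroup.mul_mem _ (Subgroup.mul_mem _ hcC hr''.2) (Subgroup.inv_mem _ hcC)
  · -- membership
    exact Subgroup.mul_mem _ (Subgroup.inv_mem _ (Subgroup.mem_sup_right hrR))
      (Subgroup.mem_sup_left hqR)
  · -- conjugation
    have e1 : q * z' * q⁻¹ = z * z' := by
      calc q * z' * q⁻¹ = (q * z' * q⁻¹ * z'⁻¹) * z' := by group
        _ = z * z' := by rw [hqz']
    have e2 : r * z * r⁻¹ = z' * z := by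
      calc r * z * r⁻¹ = (r * z * r⁻¹ * z⁻¹) * z := by group
        _ = z' * z := by rw [hrz]
    have e3 : r⁻¹ * (z * z') * r = z := by
      calc r⁻¹ * (z * z') * r = r⁻¹ * (z' * z) * r := by rw [hzz'c]
        _ = r⁻¹ * (r * z * r⁻¹) * r := by rw [e2]
        _ = z := by group
    calc r⁻¹ * q * z' * (r⁻¹ * q)⁻¹ = r⁻¹ * (q * z' * q⁻¹) * r := by group
      _ = r⁻¹ * (z * z') * r := by rw [e1]
      _ = z := e3

end Cfsg.Agent.S5428
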