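import Cfsg.Statements.S5429
import Cfsg.Agent.S5427
import Cfsg.Agent.Lib.Helper3.LargeQuot

set_option autoImplicit false
set_option maxHeartbeats 1000000
open Cfsg
open scoped commutatorElement
open Cfsg.Agent.Lib.Helper5.ES Cfsg.Agent.Lib.Helper3.LargeQuot

namespace Cfsg.Agent.S5429

/-- Let z be an involution of the finite group G with centralizer C whose generalized Fitting subgroup Q is extraspecial of width at least 3 (order 2^(2w+1), w ≥ 3); let g be an element of G with g z g⁻¹ in Q but outside the centre Z of Q, and t an involution lying in both Q and g Q g⁻¹ that is not conjugate to z; write P for the centralizer of t in Q and suppose that the elements of C acting trivially by conjugation on P modulo the subgroup generated by t and z are exactly the elements of Q. Then the image of P in the centralizer of t modulo the subgroup generated by t is a large extraspecial 2-subgroup there, and g z g⁻¹ is conjugate to z inside the subgroup generated by P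 and the centralizer of t in g Q g⁻¹. -/
theorem result {G : Type*} [Group G] [Finite G] (z : G) (hz : orderOf z = 2) (Q : Subgroup G) (hQC : Q ≤ Subgroup.centralizer ({z} : Set G)) (hF : (Cfsg.generalizedFittingSubgroup ↥(Subgroup.centralizer ({z} : Set G))).map (Subgroup.centralizer ({z} : Set G)).subtype = Q) (hQ : Cfsg.IsExtraspecial 2 ↥Q) (w : ℕ) (hw : 3 ≤ w) (hcard : Nat.card ↥Q = 2 ^ (2 * w + 1)) (g : G) (hgQ : g * z * g⁻¹ ∈ Q) (hgZ : g * z * g⁻¹ ∉ ((Subgroup.center ↥Q).map Q.subtype)) (t : G) (ht : orderOf t = 2) (htQ : t ∈ Q ⊓ (Q).map (MulAut.conj g).toMonoidHom) (htz : ¬ IsConj z t) (P : Subgroup G) (hP : P = Q ⊓ Subgroup.centralizer ({t} : Set G)) (hCP : ∀ c ∈ Subgroup.centralizer ({z} : Set G), (∀ x ∈ P, ∃ y ∈ Subgroup.closure ({t, z} : Set G), c * x * c⁻¹ = x * y) ↔ c ∈ Q) [hn : ((Subgroup.zpowers t).subgroupOf (Subgroup.centralizer ({t} : Set G))).Normal] : Cfsg.IsLargeExtraspecial ((P.subgroupOf (Subgroup.centralizer ({t} : Set G))).map (QuotientGroup.mk'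 ((Subgroup.zpowers t).subgroupOf (Subgroup.centralizer ({t} : Set G))))) ∧ ∃ x ∈ P ⊔ ((Q).map (MulAut.conj g).toMonoidHom ⊓ Subgroup.centralizer ({t} : Set G)), x * (g * z * g⁻¹) * x⁻¹ = z := by
  classical
  haveI : Fact (Nat.Prime 2) := ⟨Nat.prime_two⟩
  have hz1 : z ≠ 1 := by
    rintro rfl
    simp at hz
  have hzz : z * z = 1 := by rw [← pow_two, ← hz, pow_orderOf_eq_one]
  have hzi : z⁻¹ = z := inv_eq_of_mul_eq_one_left hzz
  have hmemH : ∀ h : G, h ∈ Subgroup.centralizer ({z} : Set G) ↔ z * h = h * z := by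
    intro h
    rw [Subgroup.mem_centralizer_singleton_iff]
    exact eq_comm
  have hzH : z ∈ Subgroup.centralizer ({z} : Set G) := (hmemH z).mpr rfl
  have hQ2 : IsPGroup 2 ↥Q := hQ.1.1
  -- N1 : C(z) normalizes Q
  have hFn := Cfsg.Agent.Lib.Helper9.generalizedFittingSubgroup_normal
    ↥(Subgroup.centralizer ({z} : Set G))
  have hN1 : ∀ c : G, z * c = c * z → ∀ q ∈ Q, c * q * c⁻¹ ∈ Q := by
    intro c hc q hq
    rw [← hF] at hq ⊢
    obtain ⟨q', hq', rfl⟩ := Subgroup.mem_map.mp hq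
    refine Subgroup.mem_map.mpr ⟨⟨c, (hmemH c).mpr hc⟩ * q' * (⟨c, (hmemH c).mpr hc⟩)⁻¹,
      hFn.conj_mem _ hq' _, ?_⟩
    simp
  -- N2 : C_{C(z)}(Q) ≤ Q
  have hCF := Cfsg.Agent.S1265.result (G := ↥(Subgroup.centralizer ({z} : Set G)))
  have hN2 : ∀ c : G, z * c = c * z → (∀ q ∈ Q, c * q = q * c) → c ∈ Q := by
    intro c hc hcq
    rw [← hF]
    refine Subgroup.mem_map.mpr ⟨⟨c, (hmemH c).mpr hc⟩, hCF ?_, rfl⟩
    rw [Subgroup.mem_centralizer_iff]
    intro f hf
    apply Subtype.ext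
    have hfQ : (f : G) ∈ Q := by rw [← hF]; exact Subgroup.mem_map.mpr ⟨f, hf, rfl⟩
    exact (hcq f hfQ).symm
  have hzQ : z ∈ Q := hN2 z rfl (fun q hq => (hmemH q).mp (hQC hq))
  have hcardc : Nat.card (Subgroup.center ↥Q) = 2 := hQ.2
  have hcenQ : ∀ x ∈ Q, (∀ q ∈ Q, x * q = q * x) → x = 1 ∨ x = z := by
    intro x hx hxq
    have hxc : (⟨x, hx⟩ : ↥Q) ∈ Subgroup.center ↥Q := by
      rw [Subgroup.mem_center_iff]; intro q; apply Subtype.ext; exact (hxq q q.2).symm
    have hzc : (⟨z, hzQ⟩ : ↥Q) ∈ Subgroup.center ↥Q := by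
      rw [Subgroup.mem_center_iff]; intro q; apply Subtype.ext
      exact ((hmemH q).mp (hQC q.2)).symm
    obtain ⟨y, _, hy⟩ := (Nat.card_eq_two_iff' (1 : Subgroup.center ↥Q)).mp hcardc
    by_cases h1 : x = 1
    · exact Or.inl h1
    · right
      have e1 : (⟨⟨x, hx⟩, hxc⟩ : Subgroup.center ↥Q) = y :=
        hy _ (fun e => h1 (congrArg (fun t : Subgroup.center ↥Q => ((t : ↥Q) : G)) e))
      have e2 : (⟨⟨z, hzQ⟩, hzc⟩ : Subgroup.center ↥Q) = y :=
        hy _ (fun e => hz1 (congrArg (fun t : Subgroup.center ↥Q => ((t : ↥Q) : G)) e))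
      exact congrArg (fun t : Subgroup.center ↥Q => ((t : ↥Q) : G)) (e1.trans e2.symm)
  have hCGQ : ∀ x : G, (∀ q ∈ Q, x * q = q * x) → x = 1 ∨ x = z := by
    intro x hxq
    have hxz : z * x = x * z := (hxq z hzQ).symm
    exact hcenQ x (hN2 x hxz hxq) hxq
  have hcommQ : ∀ a ∈ Q, ∀ b ∈ Q, ⁅a, b⁆ = 1 ∨ ⁅a, b⁆ = z := by
    intro a ha b hb
    have hmem : ⁅(⟨a, ha⟩ : ↥Q), ⟨b, hb⟩⁆ ∈ commutator ↥Q :=
      Subgroup.commutator_mem_commutator (Subgroup.mem_top _) (Subgroup.mem_top _)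
    rw [hQ.1.2.2] at hmem
    have hc : ⁅a, b⁆ ∈ Q := by
      rw [commutatorElement_def]
      exact Q.mul_mem (Q.mul_mem (Q.mul_mem ha hb) (Q.inv_mem ha)) (Q.inv_mem hb)
    apply hcenQ _ hc
    intro q hq
    have h1 := Subgroup.mem_center_iff.mp hmem ⟨q, hq⟩
    have h2 : q * ⁅a, b⁆ = ⁅a, b⁆ * q := congrArg Subtype.val h1
    exact h2.symm
  have hsqQ : ∀ a ∈ Q, a * a = 1 ∨ a * a = z := by
    intro a ha
    have hmem := Cfsg.Agent.Lib.Helper11.pow_mem_frattini_of_isPGroup hQ2 (⟨a, ha⟩ : ↥Q)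
    rw [hQ.1.2.1] at hmem
    have hc : a * a ∈ Q := Q.mul_mem ha ha
    apply hcenQ _ hc
    intro q hq
    have h1 := Subgroup.mem_center_iff.mp hmem ⟨q, hq⟩
    have h2 : q * (a ^ 2) = (a ^ 2) * q := congrArg Subtype.val h1
    rw [pow_two] at h2
    exact h2.symm
  have hPair : Cfsg.Agent.Lib.Helper20.SympPair z Q :=
    { z2 := hzz, z1 := hz1, le := fun q hq => (hmemH q).mp (hQC hq), normal := hN1, self := hN2,
      zmem := hzQ, comm := hcommQ, sq := hsqQ, cen := fun x hx hxq _ => hcenQ x hx hxq,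
      pgroup := hQ2 }
  have hES : ESData Q z :=
    { zQ := hzQ, z1 := hz1, zz := hzz
      comm := fun x hx y hy => by
        have := hcommQ x hx y hy
        rwa [commutatorElement_def] at this
      zc := fun x hx => (hmemH x).mp (hQC hx), cen := hcenQ, sq := hsqQ }
  -- the conjugate z'
  have hne : g * z * g⁻¹ ≠ z := by
    intro h
    apply hgZ
    rw [h, Cfsg.Agent.Lib.Helper3.mem_center_map_subtype]
    exact ⟨hzQ, fun w hw => ((hmemH w).mp (hQC hw)).symm⟩
  obtain ⟨hzQg, -, ⟨r1, _, hr1z, -⟩⟩ := Cfsg.Agent.Lib.Helper20.st_main hPair g hne hgQ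
  have hPg := hPair.conj g
  have hESg : ESData (Q.map (MulAut.conj g).toMonoidHom) (g * z * g⁻¹) :=
    hES.map (MulAut.conj g).toMonoidHom (MulAut.conj g).injective
  obtain ⟨z', hz'⟩ : ∃ z' : G, z' = g * z * g⁻¹ := ⟨_, rfl⟩
  rw [← hz'] at hgQ hne hPg hESg hr1z ⊢
  clear hgZ
  have hzz'conj : IsConj z z' := isConj_iff.mpr ⟨g, hz'.symm⟩
  have hz'1 : z' ≠ 1 := hESg.z1
  have hz'z' : z' * z' = 1 := hESg.zz
  have hz'i : z'⁻¹ = z' := inv_eq_of_mul_eq_one_left hz'z'
  have hzz'c : z * z' = z' * z := (hmemH z').mp (hQC hgQ)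
  -- facts about t
  have ht1 : t ≠ 1 := by
    rintro rfl
    simp at ht
  have htt : t * t = 1 := by rw [← pow_two, ← ht, pow_orderOf_eq_one]
  have hti : t⁻¹ = t := inv_eq_of_mul_eq_one_left htt
  have htQ' : t ∈ Q := htQ.1
  have htQg : t ∈ Q.map (MulAut.conj g).toMonoidHom := htQ.2
  have htnz : t ≠ z := by
    rintro rfl
    exact htz (IsConj.refl _)
  have hzt : z * t = t * z := (hmemH t).mp (hQC htQ')
  have hz't : z' * t = t * z' := hESg.zc t htQg
  have hmemCt : ∀ c : G, c ∈ Subgroup.centralizer ({t} : Set G) ↔ t * c = c * t := by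
    intro c
    rw [Subgroup.mem_centralizer_singleton_iff]
    exact eq_comm
  have htCt : t ∈ Subgroup.centralizer ({t} : Set G) := (hmemCt t).mpr rfl
  have hzCt : z ∈ Subgroup.centralizer ({t} : Set G) := (hmemCt z).mpr hzt.symm
  have hz'Ct : z' ∈ Subgroup.centralizer ({t} : Set G) := (hmemCt z').mpr hz't.symm
  subst hP
  -- t ~ t z and t ~ t z'
  obtain ⟨q0, _, hq0⟩ := es_conj hES t htQ' ht1 htnz
  have htz'ne : t ≠ z' := by
    rintro rfl
    exact htz hzz'conj
  obtain ⟨r0, _, hr0⟩ := es_conj hESg t htQg ht1 htz'ne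
  have hc1 : IsConj t (t * z) := isConj_iff.mpr ⟨q0, hq0⟩
  have hc2 : IsConj t (t * z') := isConj_iff.mpr ⟨r0, hr0⟩
  have hnc1 : ¬ IsConj z (t * z) := fun h => htz (h.trans hc1.symm)
  have hnc2 : ¬ IsConj z' (t * z') := fun h => htz ((hzz'conj.trans h).trans hc2.symm)
  have hc3 : IsConj z (z * z') := isConj_iff.mpr ⟨r1, hr1z⟩
  -- z' not in {1, z, t, t z}
  have hz'4 : ¬ (z' = 1 ∨ z' = z ∨ z' = t ∨ z' = t * z) := by
    rintro (h | h | h | h)
    · exact hz'1 h
    · exact hne h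
    · exact htz'ne h.symm
    · exact hnc1 (h ▸ hzz'conj)
  have hz4 : ¬ (z = 1 ∨ z = z' ∨ z = t ∨ z = t * z') := by
    rintro (h | h | h | h)
    · exact hz1 h
    · exact hne h.symm
    · exact htnz h.symm
    · apply htz
      have : z * z' = t := by
        rw [h, mul_assoc, hz'z', mul_one]
      exact this ▸ hc3
  -- q ∈ P moving z' to z z'
  obtain ⟨q, hqQ, hqt, hqz'⟩ : ∃ q ∈ Q, q * t = t * q ∧ q * z' * q⁻¹ * z'⁻¹ = z := by
    by_contra hcon
    push_neg at hcon
    apply hz'4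
    apply hES.double_centralizer htQ' htt hgQ
    intro a ha hat
    by_contra hne'
    rcases hES.comm a ha z' hgQ with h | h
    · exact hne' (comm_eq_one_iff.mp h).symm
    · exact hcon a ha hat h
  obtain ⟨r, hrQ, hrt, hrz⟩ : ∃ r ∈ Q.map (MulAut.conj g).toMonoidHom, r * t = t * r ∧
      r * z * r⁻¹ * z⁻¹ = z' := by
    by_contra hcon
    push_neg at hcon
    apply hz4
    apply hESg.double_centralizer htQg htt hzQg
    intro a ha hat
    by_contra hne'
    rcases hESg.comm a ha z hzQg with h | h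
    · exact hne' (comm_eq_one_iff.mp h).symm
    · exact hcon a ha hat h
  have hqP : q ∈ Q ⊓ Subgroup.centralizer ({t} : Set G) :=
    Subgroup.mem_inf.mpr ⟨hqQ, (hmemCt q).mpr hqt.symm⟩
  have hz'P : z' ∈ Q ⊓ Subgroup.centralizer ({t} : Set G) := Subgroup.mem_inf.mpr ⟨hgQ, hz'Ct⟩
  have hzP : z ∈ Q ⊓ Subgroup.centralizer ({t} : Set G) := Subgroup.mem_inf.mpr ⟨hzQ, hzCt⟩
  refine ⟨?_, r⁻¹ * q, ?_, ?_⟩
  · -- large extraspecial
    refine qle (X := ↥(Subgroup.centralizer ({t} : Set G))) ⟨t, htCt⟩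
      (fun h => ht1 (congrArg Subtype.val h)) _ ?_ _ ⟨z, hzCt⟩ ?_
      (fun h => hz1 (congrArg Subtype.val h)) (fun h => htnz (congrArg Subtype.val h).symm)
      (Subtype.ext hzz) ?_ ?_ ?_ ?_ ?_ ?_ ?_ ?_ ?_ ⟨z', hz'Ct⟩ ?_ (Subtype.ext hz'z')
      (fun h => hne (congrArg Subtype.val h)) ?_
      ((Q.map (MulAut.conj g).toMonoidHom).subgroupOf (Subgroup.centralizer ({t} : Set G)))
      ?_ ?_ ?_ ?_
    · -- hN
      intro x
      rw [Subgroup.mem_subgroupOf, Cfsg.Agent.Lib.Helper3.mem_zpowers_iff_of_sq t htt]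
      constructor
      · rintro (h | h)
        · exact Or.inl (Subtype.ext h)
        · exact Or.inr (Subtype.ext h)
      · rintro (h | h)
        · exact Or.inl (congrArg Subtype.val h)
        · exact Or.inr (congrArg Subtype.val h)
    · exact Subgroup.mem_subgroupOf.mpr hzP
    · -- hcomm
      intro x hx y hy
      have hx' : (x : G) ∈ Q := (Subgroup.mem_inf.mp (Subgroup.mem_subgroupOf.mp hx)).1
      have hy' : (y : G) ∈ Q := (Subgroup.mem_inf.mp (Subgroup.mem_subgroupOf.mp hy)).1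
      rcases hES.comm _ hx' _ hy' with h | h
      · exact Or.inl (Subtype.ext h)
      · exact Or.inr (Subtype.ext h)
    · -- hsq
      intro x hx
      have hx' : (x : G) ∈ Q := (Subgroup.mem_inf.mp (Subgroup.mem_subgroupOf.mp hx)).1
      rcases hES.sq _ hx' with h | h
      · exact Or.inl (Subtype.ext h)
      · exact Or.inr (Subtype.ext h)
    · -- hζc
      intro x hx
      have hx' : (x : G) ∈ Q := (Subgroup.mem_inf.mp (Subgroup.mem_subgroupOf.mp hx)).1
      exact Subtype.ext (hES.zc _ hx')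
    · -- hcen
      intro x hx hxc
      have hx' : (x : G) ∈ Q := (Subgroup.mem_inf.mp (Subgroup.mem_subgroupOf.mp hx)).1
      have := hES.double_centralizer htQ' htt hx' (by
        intro a ha hat
        have haCt : a ∈ Subgroup.centralizer ({t} : Set G) := (hmemCt a).mpr hat.symm
        have haP : (⟨a, haCt⟩ : ↥(Subgroup.centralizer ({t} : Set G))) ∈
            (Q ⊓ Subgroup.centralizer ({t} : Set G)).subgroupOf (Subgroup.centralizer ({t} : Set G)) :=
          Subgroup.mem_subgroupOf.mpr (Subgroup.mem_inf.mpr ⟨ha, haCt⟩)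
        exact congrArg Subtype.val (hxc _ haP))
      rcases this with h | h | h | h
      · exact Or.inl (Subtype.ext h)
      · exact Or.inr (Or.inl (Subtype.ext h))
      · exact Or.inr (Or.inr (Or.inl (Subtype.ext h)))
      · exact Or.inr (Or.inr (Or.inr (Subtype.ext h)))
    · -- hP2
      have h1 : IsPGroup 2 ↥(Q ⊓ Subgroup.centralizer ({t} : Set G)) := hQ2.to_le inf_le_left
      exact h1.comap_of_injective _ (Subgroup.subtype_injective _)
    · -- hna
      exact ⟨⟨q, hqP.2⟩, Subgroup.mem_subgroupOf.mpr hqP, ⟨z', hz'Ct⟩,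
        Subgroup.mem_subgroupOf.mpr hz'P, Subtype.ext hqz'⟩
    · -- hfus
      rintro c (h | h)
      · have h' : (c : G) * z * (c : G)⁻¹ = z := congrArg Subtype.val h
        apply Subtype.ext
        show (c : G) * z = z * (c : G)
        calc (c : G) * z = ((c : G) * z * (c : G)⁻¹) * c := by group
          _ = z * c := by rw [h']
      · exfalso
        have h' : (c : G) * z * (c : G)⁻¹ = z * t := congrArg Subtype.val h
        apply hnc1
        rw [← hzt]
        exact isConj_iff.mpr ⟨c, h'⟩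
    · -- hnorm
      intro c hc p hp
      have hc' : z * (c : G) = (c : G) * z := (congrArg Subtype.val hc).symm
      have hp' : (p : G) ∈ Q := (Subgroup.mem_inf.mp (Subgroup.mem_subgroupOf.mp hp)).1
      rw [Subgroup.mem_subgroupOf]
      exact Subgroup.mem_inf.mpr ⟨hN1 _ hc' _ hp', (c * p * c⁻¹).2⟩
    · -- hself
      intro c hc hcp
      have hc' : z * (c : G) = (c : G) * z := (congrArg Subtype.val hc).symm
      rw [Subgroup.mem_subgroupOf]
      refine Subgroup.mem_inf.mpr ⟨?_, c.2⟩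
      apply (hCP c ((hmemH c).mpr hc')).mp
      intro x hx
      have hxCt : x ∈ Subgroup.centralizer ({t} : Set G) := (Subgroup.mem_inf.mp hx).2
      rcases hcp ⟨x, hxCt⟩ (Subgroup.mem_subgroupOf.mpr hx) with h | h
      · refine ⟨1, Subgroup.one_mem _, ?_⟩
        rw [mul_one]
        exact congrArg Subtype.val h
      · refine ⟨t, Subgroup.subset_closure (Set.mem_insert _ _), ?_⟩
        exact congrArg Subtype.val h
    · exact Subgroup.mem_subgroupOf.mpr hz'P
    · -- huζτ
      intro h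
      have h' : z' = z * t := congrArg Subtype.val h
      apply hz'4
      right; right; right
      rw [h', hzt]
    · -- hR2
      exact (hQ2.map _).comap_of_injective _ (Subgroup.subtype_injective _)
    · exact Subgroup.mem_subgroupOf.mpr hzQg
    · -- hufus
      rintro c (h | h)
      · have h' : (c : G) * z' * (c : G)⁻¹ = z' := congrArg Subtype.val h
        apply Subtype.ext
        show (c : G) * z' = z' * (c : G)
        calc (c : G) * z' = ((c : G) * z' * (c : G)⁻¹) * c := by group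
          _ = z' * c := by rw [h']
      · exfalso
        have h' : (c : G) * z' * (c : G)⁻¹ = z' * t := congrArg Subtype.val h
        apply hnc2
        rw [← hz't]
        exact isConj_iff.mpr ⟨c, h'⟩
    · -- hRn
      intro c hc r' hr'
      have hc' : z' * (c : G) = (c : G) * z' := (congrArg Subtype.val hc).symm
      rw [Subgroup.mem_subgroupOf] at hr' ⊢
      exact hPg.normal _ hc' _ hr'
  · -- membership
    refine Subgroup.mul_mem _ (Subgroup.inv_mem _ (Subgroup.mem_sup_right ?_)) (Subgroup.mem_sup_left hqP)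
    exact Subgroup.mem_inf.mpr ⟨hrQ, (hmemCt r).mpr hrt.symm⟩
  · -- conjugation
    have e1 : q * z' * q⁻¹ = z * z' := by
      calc q * z' * q⁻¹ = (q * z' * q⁻¹ * z'⁻¹) * z' := by group
        _ = z * z' := by rw [hqz']
    have e2 : r * z * r⁻¹ = z' * z := by
      calc r * z * r⁻¹ = (r * z * r⁻¹ * z⁻¹) * z := by group
        _ = z' * z := by rw [hrz]
    have e3 : r⁻¹ * (z * z') * r = z := by
      calc r⁻¹ * (z * z') * r = r⁻¹ * (z' * z) * r := by rw [hzz'c]
        _ = r⁻¹ * (r * z * r⁻¹) * r := by rw [e2]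
        _ = z := by group
    calc r⁻¹ * q * z' * (r⁻¹ * q)⁻¹ = r⁻¹ * (q * z' * q⁻¹) * r := by group
      _ = r⁻¹ * (z * z') * r := by rw [e1]
      _ = z := e3

end Cfsg.Agent.S5429
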