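import Cfsg.Statements.S5432
import Mathlib
import Cfsg.Agent.Lib.Helper22.ES32
import Cfsg.Agent.Lib.Helper22.ESCoord
import Cfsg.Agent.Lib.Helper22.ESBasis
import Cfsg.Agent.Lib.Helper22.ESType

set_option autoImplicit false
open Cfsg

namespace Cfsg.Agent.S5432

/-- Let E be an extraspecial 2-group of order 2^(2n+1), n ≥ 1. If E contains an elementary abelian subgroup of order 2^(n+1) (plus type), then its outer automorphism group is isomorphic to the full isometry group of the hyperbolic quadratic form in dimension 2n over the field with two elements; otherwise (minus type) it is isomorphic to the full isometry group of the elliptic quadratic form in dimension 2n over that field. -/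
theorem result {E : Type*} [Group E] [Finite E] (hE : Cfsg.IsExtraspecial 2 E) (n : ℕ) (hn : 1 ≤ n) (hcard : Nat.card E = 2 ^ (2 * n + 1)) : ((∃ A : Subgroup E, Cfsg.IsElementaryAbelian 2 A ∧ Nat.card ↥A = 2 ^ (n + 1)) → Nonempty (Cfsg.Out E ≃* Cfsg.isometryGroup (ZMod 2) (Cfsg.quadFormPlus n (ZMod 2)))) ∧ ((¬ ∃ A : Subgroup E, Cfsg.IsElementaryAbelian 2 A ∧ Nat.card ↥A = 2 ^ (n + 1)) → Nonempty (Cfsg.Out E ≃* Cfsg.isometryGroup (ZMod 2) (Cfsg.quadFormMinus (n - 1) (ZMod 2) 1 1))) := by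
  classical
  obtain ⟨⟨hp, hfr, hcm⟩, hZ⟩ := hE
  obtain ⟨z, h⟩ := Cfsg.Agent.Lib.Helper22.ES32.esData_of hp hfr hcm hZ
  haveI : Fintype E := Fintype.ofFinite E
  have hc : Fintype.card E = 2 ^ (2 * n + 1) := by
    rw [← Nat.card_eq_fintype_card]; exact hcard
  have hbasis := Cfsg.Agent.Lib.Helper22.ESBasis.exists_basis n E z h hc
  have plus_iso : ∀ e f : Fin n → E, Cfsg.Agent.Lib.Helper22.ESBasis.PlusBasis E n e f →
      Nonempty (Cfsg.Out E ≃* Cfsg.isometryGroup (ZMod 2) (Cfsg.quadFormPlus n (ZMod 2))) := by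
    intro e f B
    have C := Cfsg.Agent.Lib.Helper22.ESType.coords_plus h n e f B
    have hPV : Nat.card E = 2 * Nat.card (Fin n ⊕ Fin n → ZMod 2) := by
      rw [hcard, Nat.card_fun, Nat.card_zmod, Nat.card_sum, Nat.card_fin]; ring
    exact Cfsg.Agent.Lib.Helper22.ESCoord.out_iso h C
      (Cfsg.isometryGroup (ZMod 2) (Cfsg.quadFormPlus n (ZMod 2)))
      (fun g => ⟨fun hg v => hg v v, fun hg u _ => hg u⟩) hZ hPV
  have minus_iso : ∀ (m : ℕ) (e f : Fin m → E) (u v : E), n = m + 1 →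
      Cfsg.Agent.Lib.Helper22.ESBasis.MinusBasis E m e f u v →
      Nonempty (Cfsg.Out E ≃*
        Cfsg.isometryGroup (ZMod 2) (Cfsg.quadFormMinus (n - 1) (ZMod 2) 1 1)) := by
    intro m e f u v hnm B
    subst hnm
    have C := Cfsg.Agent.Lib.Helper22.ESType.coords_minus h m e f u v B
    have hPV : Nat.card E = 2 * Nat.card ((Fin m ⊕ Fin m) ⊕ Fin 2 → ZMod 2) := by
      rw [hcard, Nat.card_fun, Nat.card_zmod, Nat.card_sum, Nat.card_sum, Nat.card_fin,
        Nat.card_fin]; ring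
    exact Cfsg.Agent.Lib.Helper22.ESCoord.out_iso h C
      (Cfsg.isometryGroup (ZMod 2) (Cfsg.quadFormMinus m (ZMod 2) 1 1))
      (fun g => ⟨fun hg v => hg v v, fun hg u _ => hg u⟩) hZ hPV
  constructor
  · rintro ⟨A, ⟨hAc, hA2⟩, hAn⟩
    rcases hbasis with ⟨e, f, B, -⟩ | ⟨m, e, f, u, v, hnm, B, hneg⟩
    · exact plus_iso e f B
    · exfalso
      have := Cfsg.Agent.Lib.Helper22.ESType.Tsum_pos_of_elemAb h n hc A
        (fun x hx y hy => congrArg Subtype.val (hAc.is_comm.comm ⟨x, hx⟩ ⟨y, hy⟩))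
        (fun x hx => by rw [← pow_two]; exact hA2 x hx) hAn
      linarith
  · intro hno
    rcases hbasis with ⟨e, f, B, -⟩ | ⟨m, e, f, u, v, hnm, B, -⟩
    · exfalso
      apply hno
      obtain ⟨A, h1, h2, h3⟩ :=
        Cfsg.Agent.Lib.Helper22.ESType.exists_elemAb_of_plus h n hcard e f B
      exact ⟨A, ⟨⟨⟨fun a b => Subtype.ext (h1 a.1 a.2 b.1 b.2)⟩⟩,
        fun a ha => by rw [pow_two]; exact h2 a ha⟩, h3⟩
    · exact minus_iso m e f u v hnm B

end Cfsg.Agent.S5432
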