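import Cfsg.Statements.S5433

set_option autoImplicit false
open Cfsg

namespace Cfsg.Agent.S5433

/-- Let Q be a large extraspecial 2-subgroup of the finite group G (extraspecial; centralizer equal to its centre; normal in the centralizer of its centre; normalizing no non-trivial subgroup of odd order), and L a normal subgroup of G containing Q. Then G is the product of L and the normalizer of Q. -/
theorem result {G : Type*} [Group G] [Finite G] (Q : Subgroup G) (hQ : Cfsg.IsLargeExtraspecial Q) (L : Subgroup G) [L.Normal] (hQL : Q ≤ L) : L ⊔ Subgroup.normalizer (Q : Set G) = ⊤ := by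
  obtain ⟨hex, hcent, hnorm, _⟩ := hQ
  obtain ⟨⟨hp, _, _⟩, hcard⟩ := hex
  have : Fact (Nat.Prime 2) := ⟨Nat.prime_two⟩
  -- the subgroup Q' of L
  have hp' : IsPGroup 2 (Q.subgroupOf L) := by
    have e : Q.subgroupOf L ≃* Q := Subgroup.subgroupOfEquivOfLe hQL
    exact hp.of_equiv e.symm
  obtain ⟨S, hS⟩ := hp'.exists_le_sylow
  set S' : Subgroup G := Subgroup.map L.subtype (S : Subgroup L) with hS'
  have hfr := Sylow.normalizer_sup_eq_top S
  have hQS' : Q ≤ S' := by
    intro q hq
    exact ⟨⟨q, hQL hq⟩, hS (by simpa [Subgroup.mem_subgroupOf] using hq), rfl⟩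
  have hS'p : IsPGroup 2 S' := S.2.map L.subtype
  set ZQ : Subgroup G := (Subgroup.center Q).map Q.subtype with hZQ
  -- ZQ has exactly two elements
  have hZQcard : Nat.card ZQ = 2 := by
    rw [hZQ, Subgroup.card_map_of_injective (Subgroup.subtype_injective Q)]
    exact hcard
  -- nontrivial center of S'
  have : Nontrivial Q := by
    have : Nontrivial (Subgroup.center Q) := by
      apply Finite.one_lt_card_iff_nontrivial.mp
      rw [hcard]; norm_num
    obtain ⟨a, b, hab⟩ := this
    exact ⟨⟨a, b, fun h => hab (Subtype.ext h)⟩⟩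
  have : Nontrivial S' := by
    obtain ⟨a, b, hab⟩ := (inferInstance : Nontrivial Q)
    exact ⟨⟨⟨a, hQS' a.2⟩, ⟨b, hQS' b.2⟩, fun h => hab (Subtype.ext (congrArg (fun x : S' => (x : G)) h))⟩⟩
  have hcnt : Nontrivial (Subgroup.center S') := hS'p.center_nontrivial
  obtain ⟨c, hc1⟩ := exists_ne (1 : Subgroup.center S')
  -- c as an element of G
  set cG : G := ((c : S') : G) with hcG
  have hcG1 : cG ≠ 1 := by
    intro h
    apply hc1
    apply Subtype.ext
    apply Subtype.ext
    exact h
  have hcS' : cG ∈ S' := (c : S').2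
  have hccomm : ∀ s ∈ S', s * cG = cG * s := by
    intro s hs
    have := Subgroup.mem_center_iff.mp c.2 ⟨s, hs⟩
    exact congrArg (fun x : S' => (x : G)) this
  -- cG ∈ C_G(Q) = ZQ
  have hcZQ : cG ∈ ZQ := by
    rw [← hcent, Subgroup.mem_centralizer_iff]
    intro q hq
    exact hccomm q (hQS' hq)
  -- every element of ZQ is 1 or cG
  have hZQel : ∀ x ∈ ZQ, x = 1 ∨ x = cG := by
    intro x hx
    obtain ⟨y, hy, huniq⟩ := (Nat.card_eq_two_iff' (1 : ZQ)).mp hZQcard
    by_cases hx1 : x = 1
    · left; exact hx1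
    · right
      have h1 : (⟨x, hx⟩ : ZQ) = y := huniq _ (fun h => hx1 (congrArg Subtype.val h))
      have h2 : (⟨cG, hcZQ⟩ : ZQ) = y := huniq _ (fun h => hcG1 (congrArg Subtype.val h))
      exact congrArg Subtype.val (h1.trans h2.symm)
  -- N_G(S') ≤ N_G(Q)
  have hNle : Subgroup.normalizer (S' : Set G) ≤ Subgroup.normalizer (Q : Set G) := by
    intro n hn
    apply hnorm
    rw [Subgroup.mem_centralizer_iff]
    rw [Subgroup.mem_normalizer_iff] at hn
    -- n cG n⁻¹ ∈ ZQ
    have hconjS' : n * cG * n⁻¹ ∈ S' := (hn cG).mp hcS'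
    have hconjZQ : n * cG * n⁻¹ ∈ ZQ := by
      rw [← hcent, Subgroup.mem_centralizer_iff]
      intro q hq
      -- n⁻¹ q n ∈ S'
      have hq' : n⁻¹ * q * n ∈ S' := by
        rw [hn]
        simpa [mul_assoc] using hQS' hq
      have := hccomm _ hq'
      -- (n⁻¹ q n) c = c (n⁻¹ q n)
      calc q * (n * cG * n⁻¹) = n * ((n⁻¹ * q * n) * cG) * n⁻¹ := by simp [mul_assoc]
        _ = n * (cG * (n⁻¹ * q * n)) * n⁻¹ := by rw [this]
        _ = n * cG * n⁻¹ * q := by simp [mul_assoc]
    have hconj : n * cG * n⁻¹ = cG := by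
      rcases hZQel _ hconjZQ with h | h
      · exfalso
        apply hcG1
        have : cG = n⁻¹ * (n * cG * n⁻¹) * n := by simp [mul_assoc]
        rw [this, h]; simp
      · exact h
    intro x hx
    rcases hZQel x hx with h | h
    · rw [h]; simp
    · rw [h]
      calc cG * n = (n * cG * n⁻¹) * n := by rw [hconj]
        _ = n * cG := by simp [mul_assoc]
  rw [eq_top_iff, ← hfr, sup_comm]
  exact sup_le_sup_left hNle L

end Cfsg.Agent.S5433
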