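import Cfsg.Statements.S5434
import Mathlib
import Cfsg.Agent.Lib.Helper5.ESX
import Cfsg.Agent.Lib.Helper5.ESD
import Cfsg.Agent.Lib.Helper5.LEF
import Cfsg.Agent.Lib.Helper13.Coprime

set_option autoImplicit false
open Cfsg

namespace Cfsg.Agent.S5434

/-- Let Q be a large extraspecial 2-subgroup of the finite group G (extraspecial; centralizer equal to its centre; normal in the centralizer of its centre; normalizing no non-trivial subgroup of odd order), and A a non-trivial subgroup of odd order of the normalizer of Q. Then Q is the central product of the centralizer of A in Q and the commutator subgroup [Q, A] (they generate Q and commute elementwise), [Q, A] is extraspecial, and the centralizer of A in Q is either the centre of Q or extraspecial. -/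
theorem result {G : Type*} [Group G] [Finite G] (Q : Subgroup G) (hQ : Cfsg.IsLargeExtraspecial Q) (A : Subgroup G) (hA : A ≤ Subgroup.normalizer (Q : Set G)) (hAodd : Odd (Nat.card ↥A)) (hA1 : A ≠ ⊥) : (Q ⊓ Subgroup.centralizer (A : Set G)) ⊔ ⁅Q, A⁆ = Q ∧ (∀ x ∈ Q ⊓ Subgroup.centralizer (A : Set G), ∀ y ∈ ⁅Q, A⁆, x * y = y * x) ∧ Cfsg.IsExtraspecial 2 ↥⁅Q, A⁆ ∧ (Q ⊓ Subgroup.centralizer (A : Set G) = ((Subgroup.center ↥Q).map Q.subtype) ∨ Cfsg.IsExtraspecial 2 ↥(Q ⊓ Subgroup.centralizer (A : Set G))) := by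
  classical
  have h2 : Fact (Nat.Prime 2) := ⟨Nat.prime_two⟩
  obtain ⟨hL1, hL2, hL3, hL4⟩ := hQ
  -- the central involution
  obtain ⟨z0, hz0, _⟩ := (Nat.card_eq_two_iff' (1 : Subgroup.center ↥Q)).mp hL1.2
  have hz0' : (z0 : ↥Q) ≠ 1 := fun hh => hz0 (Subtype.ext hh)
  have hES0 := Cfsg.Agent.Lib.Helper5.ES.ESData.ofExtraspecial hL1 (z0 : ↥Q) z0.2 hz0'
  have hES1 := hES0.map Q.subtype (Subgroup.subtype_injective _)
  have htop : (⊤ : Subgroup ↥Q).map Q.subtype = Q := by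
    rw [← MonoidHom.range_eq_map, Subgroup.range_subtype]
  rw [htop] at hES1
  obtain ⟨z, hzdef⟩ : ∃ z : G, z = ((z0 : ↥Q) : G) := ⟨_, rfl⟩
  have hESQ : Cfsg.Agent.Lib.Helper5.ES.ESData Q z := by rw [hzdef]; exact hES1
  have hzz : z * z = 1 := hESQ.zz
  have hz1 : z ≠ 1 := hESQ.z1
  have hzQ : z ∈ Q := hESQ.zQ
  have hZmem : ∀ v, v ∈ (Subgroup.center ↥Q).map Q.subtype ↔ v = 1 ∨ v = z := by
    intro v
    constructor
    · rintro ⟨c, hc, rfl⟩
      apply hESQ.cen _ c.2
      intro y hy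
      have := (Subgroup.mem_center_iff.mp hc) ⟨y, hy⟩
      exact (congrArg Subtype.val this).symm
    · rintro (rfl | rfl)
      · exact Subgroup.one_mem _
      · exact ⟨(z0 : ↥Q), z0.2, hzdef.symm⟩
  -- A normalizes Q, centralizes z
  have hAn : ∀ a ∈ A, ∀ q, q ∈ Q ↔ a * q * a⁻¹ ∈ Q := fun a ha =>
    Subgroup.mem_normalizer_iff.mp (hA ha)
  have hAz : ∀ a ∈ A, a * z = z * a := by
    intro a ha
    have h1 : a * z * a⁻¹ ∈ Q := (hAn a ha z).mp hzQ
    have h2' : ∀ y ∈ Q, (a * z * a⁻¹) * y = y * (a * z * a⁻¹) := by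
      intro y hy
      have hy' : a⁻¹ * y * a ∈ Q := by
        have := (hAn a⁻¹ (A.inv_mem ha) y).mp hy
        rwa [inv_inv] at this
      have := hESQ.zc _ hy'
      calc (a * z * a⁻¹) * y = a * (z * (a⁻¹ * y * a)) * a⁻¹ := by group
        _ = a * ((a⁻¹ * y * a) * z) * a⁻¹ := by rw [this]
        _ = y * (a * z * a⁻¹) := by group
    rcases hESQ.cen _ h1 h2' with h3 | h3
    · exfalso; apply hz1
      calc z = a⁻¹ * (a * z * a⁻¹) * a := by group
        _ = 1 := by rw [h3]; group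
    · calc a * z = (a * z * a⁻¹) * a := by group
        _ = z * a := by rw [h3]
  -- coprimality and solvability
  have hPQ : IsPGroup 2 ↥Q := hL1.1.1
  obtain ⟨n, hn⟩ := hPQ.exists_card_eq
  have hcop : (Nat.card ↥A).Coprime (Nat.card ↥Q) := by
    rw [hn]
    exact Nat.Coprime.pow_right _ (Nat.coprime_two_right.mpr hAodd)
  have hsolv : Group.IsSolvable ↥Q := by
    have := hPQ.isNilpotent
    infer_instance
  have H1 := Cfsg.Agent.Lib.Helper13.coprime_commutator_sup_centralizer A Q hA hcop (Or.inr hsolv)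
  have H2 := Cfsg.Agent.Lib.Helper13.coprime_commutator_stable A Q hA hcop (Or.inr hsolv)
  have hDQ : ⁅Q, A⁆ ≤ Q := Cfsg.Agent.Lib.Helper13.commutator_le_of_le_normalizer Q A hA
  have hDn : Q ≤ Subgroup.normalizer ((⁅Q, A⁆ : Subgroup G) : Set G) :=
    le_sup_left.trans (Cfsg.Agent.Lib.Helper13.le_normalizer_commutator Q A)
  -- (2) C and D commute
  have hCD : ∀ c ∈ Q ⊓ Subgroup.centralizer (A : Set G), ∀ y ∈ ⁅Q, A⁆, c * y = y * c := by
    intro c hc
    have hcQ : c ∈ Q := hc.1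
    have hcA : ∀ a ∈ A, a * c = c * a := fun a ha => (Subgroup.mem_centralizer_iff.mp hc.2 a ha)
    have hle : ⁅Q, A⁆ ≤ Subgroup.centralizer ({c} : Set G) := by
      rw [Subgroup.commutator_le]
      intro q hq a ha
      rw [Subgroup.mem_centralizer_singleton_iff, commutatorElement_def]
      have hq' : a * q⁻¹ * a⁻¹ ∈ Q := (hAn a ha _).mp (Q.inv_mem hq)
      have e : q * a * q⁻¹ * a⁻¹ = q * (a * q⁻¹ * a⁻¹) := by group
      rw [e, hESQ.commute_mul_iff hq hq' hcQ]
      have h1 : (a * q⁻¹ * a⁻¹) * c = c * (a * q⁻¹ * a⁻¹) ↔ q⁻¹ * c = c * q⁻¹ :=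
        Cfsg.Agent.Lib.Helper5.ES.conj_commute_iff (hcA a ha)
      have h2' : q⁻¹ * c = c * q⁻¹ ↔ q * c = c * q := hESQ.commute_inv_iff
      constructor
      · intro h; exact h1.mpr (h2'.mpr h)
      · intro h; exact h2'.mp (h1.mp h)
    intro y hy
    exact (Subgroup.mem_centralizer_singleton_iff.mp (hle hy)).symm
  -- product decomposition
  have hprod : ∀ q ∈ Q, ∃ c ∈ Q ⊓ Subgroup.centralizer (A : Set G), ∃ d ∈ ⁅Q, A⁆, c * d = q := by
    intro q hq
    have hle : Q ⊓ Subgroup.centralizer (A : Set G)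
        ≤ Subgroup.normalizer ((⁅Q, A⁆ : Subgroup G) : Set G) := inf_le_left.trans hDn
    have hcoe := Subgroup.coe_mul_of_left_le_normalizer_right _ _ hle
    have hq' : q ∈ (((Q ⊓ Subgroup.centralizer (A : Set G)) ⊔ ⁅Q, A⁆ : Subgroup G) : Set G) := by
      rw [SetLike.mem_coe, sup_comm, H1]; exact hq
    rw [hcoe] at hq'
    obtain ⟨c, hc, d, hd, hcd⟩ := hq'
    exact ⟨c, hc, d, hd, hcd⟩
  -- partners
  have hpartD : ∀ d ∈ ⁅Q, A⁆, ¬ (d = 1 ∨ d = z) → ∃ d' ∈ ⁅Q, A⁆, d * d' * d⁻¹ * d'⁻¹ = z := by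
    intro d hd hdn
    have hnc : ¬ ∀ y ∈ Q, d * y = y * d := fun hh => hdn (hESQ.cen d (hDQ hd) hh)
    push Not at hnc
    obtain ⟨q, hq, hdq⟩ := hnc
    obtain ⟨c, hc, d', hd', rfl⟩ := hprod q hq
    refine ⟨d', hd', ?_⟩
    rcases hESQ.comm d (hDQ hd) d' (hDQ hd') with h1 | h1
    · exfalso
      apply hdq
      have h3 : d * d' = d' * d := Cfsg.Agent.Lib.Helper5.ES.comm_eq_one_iff.mp h1
      have h4 := hCD c hc d hd
      calc d * (c * d') = (d * c) * d' := by group
        _ = (c * d) * d' := by rw [h4]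
        _ = c * (d * d') := by group
        _ = c * (d' * d) := by rw [h3]
        _ = c * d' * d := by group
    · exact h1
  have hpartC : ∀ c ∈ Q ⊓ Subgroup.centralizer (A : Set G), ¬ (c = 1 ∨ c = z) →
      ∃ c' ∈ Q ⊓ Subgroup.centralizer (A : Set G), c * c' * c⁻¹ * c'⁻¹ = z := by
    intro c hc hcn
    have hnc : ¬ ∀ y ∈ Q, c * y = y * c := fun hh => hcn (hESQ.cen c hc.1 hh)
    push Not at hnc
    obtain ⟨q, hq, hcq⟩ := hnc
    obtain ⟨c', hc', d, hd, rfl⟩ := hprod q hq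
    refine ⟨c', hc', ?_⟩
    rcases hESQ.comm c hc.1 c' hc'.1 with h1 | h1
    · exfalso
      apply hcq
      have h3 : c * c' = c' * c := Cfsg.Agent.Lib.Helper5.ES.comm_eq_one_iff.mp h1
      have h4 := hCD c hc d hd
      calc c * (c' * d) = (c * c') * d := by group
        _ = (c' * c) * d := by rw [h3]
        _ = c' * (c * d) := by group
        _ = c' * (d * c) := by rw [h4]
        _ = c' * d * c := by group
    · exact h1
  -- D is not central
  have hDnc : ∃ d ∈ ⁅Q, A⁆, ¬ (d = 1 ∨ d = z) := by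
    by_contra hcon
    push Not at hcon
    have hDA : ⁅⁅Q, A⁆, A⁆ = ⊥ := by
      rw [Subgroup.commutator_eq_bot_iff_le_centralizer]
      intro d hd
      rw [Subgroup.mem_centralizer_iff]
      intro a ha
      rcases hcon d hd with h1 | h1
      · rw [h1]; simp
      · rw [h1]; exact hAz a ha
    rw [H2] at hDA
    have hQA : Q ≤ Subgroup.centralizer (A : Set G) :=
      Subgroup.commutator_eq_bot_iff_le_centralizer.mp hDA
    apply hA1
    rw [eq_bot_iff]
    intro a ha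
    rw [Subgroup.mem_bot]
    have haQ : a ∈ Subgroup.centralizer (Q : Set G) := by
      rw [Subgroup.mem_centralizer_iff]
      intro q hq
      exact (Subgroup.mem_centralizer_iff.mp (hQA hq) a ha).symm
    rw [hL2] at haQ
    rcases (hZmem a).mp haQ with h1 | h1
    · exact h1
    · exfalso
      have hord : orderOf z = 2 := orderOf_eq_prime (by rw [pow_two]; exact hzz) hz1
      have hd : orderOf a ∣ Nat.card ↥A := Subgroup.orderOf_dvd_natCard A ha
      rw [h1, hord] at hd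
      exact (Nat.not_even_iff_odd.mpr hAodd) (even_iff_two_dvd.mpr hd)
  obtain ⟨d0, hd0, hd0n⟩ := hDnc
  obtain ⟨d0', hd0', hd0z⟩ := hpartD d0 hd0 hd0n
  have hzD : z ∈ ⁅Q, A⁆ := by
    rw [← hd0z]
    exact Subgroup.mul_mem _ (Subgroup.mul_mem _ (Subgroup.mul_mem _ hd0 hd0') (Subgroup.inv_mem _ hd0))
      (Subgroup.inv_mem _ hd0')
  have hESD : Cfsg.Agent.Lib.Helper5.ES.ESData ⁅Q, A⁆ z := by
    refine ⟨hzD, hz1, hzz, ?_, ?_, ?_, ?_⟩
    · intro u hu v hv; exact hESQ.comm u (hDQ hu) v (hDQ hv)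
    · intro u hu; exact hESQ.zc u (hDQ hu)
    · intro d hd hdc
      by_contra hdn
      obtain ⟨d', hd', hdz⟩ := hpartD d hd hdn
      apply hz1
      rw [← hdz]
      exact Cfsg.Agent.Lib.Helper5.ES.comm_eq_one_iff.mpr (hdc d' hd')
    · intro u hu; exact hESQ.sq u (hDQ hu)
  have hzC : z ∈ Q ⊓ Subgroup.centralizer (A : Set G) := by
    refine Subgroup.mem_inf.mpr ⟨hzQ, ?_⟩
    rw [Subgroup.mem_centralizer_iff]
    intro a ha
    exact hAz a ha
  refine ⟨?_, hCD, ?_, ?_⟩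
  · rw [sup_comm]; exact H1
  · exact Cfsg.Agent.Lib.Helper5.ES.ESData.toExtraspecial _ z hESD (hPQ.to_le hDQ)
      ⟨d0, hd0, d0', hd0', hd0z⟩
  · by_cases hC : ∀ c ∈ Q ⊓ Subgroup.centralizer (A : Set G), c = 1 ∨ c = z
    · left
      ext v
      rw [hZmem]
      constructor
      · intro hv; exact hC v hv
      · rintro (rfl | rfl)
        · exact Subgroup.one_mem _
        · exact hzC
    · right
      push Not at hC
      obtain ⟨c0, hc0, hc0n⟩ := hC
      have hc0n' : ¬ (c0 = 1 ∨ c0 = z) := by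
        intro h; rcases h with h | h
        · exact hc0n.1 h
        · exact hc0n.2 h
      obtain ⟨c0', hc0', hc0z⟩ := hpartC c0 hc0 hc0n'
      have hESC : Cfsg.Agent.Lib.Helper5.ES.ESData (Q ⊓ Subgroup.centralizer (A : Set G)) z := by
        refine ⟨hzC, hz1, hzz, ?_, ?_, ?_, ?_⟩
        · intro u hu v hv; exact hESQ.comm u hu.1 v hv.1
        · intro u hu; exact hESQ.zc u hu.1
        · intro c hc hcc
          by_contra hcn
          obtain ⟨c', hc', hcz⟩ := hpartC c hc hcn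
          apply hz1
          rw [← hcz]
          exact Cfsg.Agent.Lib.Helper5.ES.comm_eq_one_iff.mpr (hcc c' hc')
        · intro u hu; exact hESQ.sq u hu.1
      exact Cfsg.Agent.Lib.Helper5.ES.ESData.toExtraspecial _ z hESC (hPQ.to_le inf_le_left)
        ⟨c0, hc0, c0', hc0', hc0z⟩

end Cfsg.Agent.S5434
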