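import Cfsg.Statements.S5435
import Cfsg.Agent.S0215
import Cfsg.Agent.Lib.Helper8.ThompsonTransfer
import Cfsg.Agent.Lib.Helper24.DihIso
import Cfsg.Agent.Lib.Helper11.PGroupFrattini
import Cfsg.Agent.Lib.Helper4.CoprimeDerived
import Cfsg.Agent.Lib.Helper16.Frattini2

set_option autoImplicit false
open Cfsg
open scoped commutatorElement

namespace Cfsg.Agent.S5435

theorem zpowers_two {L : Type*} [Group L] (z : L) (hz : orderOf z = 2) (w : L)
    (hw : w ∈ Subgroup.zpowers z) : w = 1 ∨ w = z := by
  obtain ⟨k, rfl⟩ := Subgroup.mem_zpowers_iff.mp hw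
  have h := zpow_mod_orderOf z k
  rw [hz] at h
  push_cast at h
  rcases Int.emod_two_eq_zero_or_one k with h2 | h2
  · left; rw [← h, h2, zpow_zero]
  · right; rw [← h, h2, zpow_one]

/-- quotient of a group by a normal coatom is cyclic -/
theorem cyclic_quot {S : Type*} [Group S] (N : Subgroup S) [N.Normal] (hN : IsCoatom N) :
    IsCyclic (S ⧸ N) := by
  have hne : ∃ a : S, a ∉ N := by
    by_contra h
    push_neg at h
    exact hN.1 (eq_top_iff.mpr fun x _ => h x)
  obtain ⟨a, ha⟩ := hne
  refine ⟨⟨(QuotientGroup.mk a : S ⧸ N), ?_⟩⟩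
  intro y
  obtain ⟨x, rfl⟩ := QuotientGroup.mk_surjective y
  have hlt : N < N ⊔ Subgroup.zpowers a := by
    refine lt_of_le_of_ne le_sup_left ?_
    intro h
    apply ha
    rw [h]
    exact (le_sup_right : Subgroup.zpowers a ≤ N ⊔ Subgroup.zpowers a) (Subgroup.mem_zpowers a)
  have htop : N ⊔ Subgroup.zpowers a = ⊤ := hN.2 _ hlt
  have hx : x ∈ N ⊔ Subgroup.zpowers a := by rw [htop]; exact Subgroup.mem_top x
  have hx' : x ∈ ((N ⊔ Subgroup.zpowers a : Subgroup S) : Set S) := hx
  rw [Subgroup.normal_mul] at hx'
  obtain ⟨n, hn, b, hb, rfl⟩ := hx'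
  obtain ⟨k, rfl⟩ := Subgroup.mem_zpowers_iff.mp hb
  refine Subgroup.mem_zpowers_iff.mpr ⟨k, ?_⟩
  rw [← QuotientGroup.mk_zpow]
  symm
  rw [QuotientGroup.eq]
  have : (n * a ^ k)⁻¹ * a ^ k = (a ^ k)⁻¹ * n⁻¹ * a ^ k := by group
  rw [this]
  have := ‹N.Normal›.conj_mem n⁻¹ (N.inv_mem hn) (a ^ k)⁻¹
  simpa using this


/-- Let L be a finite non-abelian simple group with an involution z whose centralizer R is a Sylow 2-subgroup of L whose Frattini subgroup is the subgroup generated by z. Then R is dihedral of order 8. -/
theorem result {L : Type*} [Group L] [Finite L] [IsSimpleGroup L] (hL : ¬ IsMulCommutative L) (z : L) (hz : orderOf z = 2) (R : Sylow 2 L) (hR : (R : Subgroup L) = Subgroup.centralizer ({z} : Set L)) (hΦ : (frattini ↥(R : Subgroup L)).map (R : Subgroup L).subtype = Subgroup.zpowers z) : Nonempty (↥(R : Subgroup L) ≃* DihedralGroup 4) := by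
  classical
  have hp2 : Fact (Nat.Prime 2) := ⟨Nat.prime_two⟩
  have hz1 : z ≠ 1 := by
    intro h; rw [h, orderOf_one] at hz; omega
  have hzz : z * z = 1 := by
    rw [← pow_two, ← hz]; exact pow_orderOf_eq_one z
  have hzinv : z⁻¹ = z := inv_eq_of_mul_eq_one_right hzz
  have hmemS : ∀ x : L, x ∈ (R : Subgroup L) ↔ x * z = z * x := by
    intro x
    rw [hR, Subgroup.mem_centralizer_iff]
    constructor
    · intro h; exact (h z rfl).symm
    · intro h y hy
      rw [Set.mem_singleton_iff] at hy
      subst hy
      exact h.symm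
  have hzS : z ∈ (R : Subgroup L) := (hmemS z).2 rfl
  have hΦmem : ∀ w : ↥(R : Subgroup L), w ∈ frattini ↥(R : Subgroup L) → (w : L) = 1 ∨ (w : L) = z := by
    intro w hw
    apply zpowers_two z hz
    rw [← hΦ]
    exact ⟨w, hw, rfl⟩
  have hsq : ∀ x ∈ (R : Subgroup L), x * x = 1 ∨ x * x = z := by
    intro x hx
    have h := Cfsg.Agent.Lib.Helper11.pow_mem_frattini_of_isPGroup R.isPGroup' (⟨x, hx⟩ : ↥(R : Subgroup L))
    have h2 := hΦmem _ h
    simpa [pow_two] using h2
  have hcomm : ∀ x ∈ (R : Subgroup L), ∀ y ∈ (R : Subgroup L),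
      x * y * x⁻¹ * y⁻¹ = 1 ∨ x * y * x⁻¹ * y⁻¹ = z := by
    intro x hx y hy
    have h : ⁅(⟨x, hx⟩ : ↥(R : Subgroup L)), ⟨y, hy⟩⁆ ∈ frattini ↥(R : Subgroup L) := by
      apply Cfsg.Agent.Lib.Helper4.commutator_le_frattini R.isPGroup'
      rw [commutator_def]
      exact Subgroup.commutator_mem_commutator (Subgroup.mem_top _) (Subgroup.mem_top _)
    have h2 := hΦmem _ h
    simpa [commutatorElement_def] using h2
  -- elements conjugating R into itself lie in R
  have hN : ∀ g : L, (∀ x ∈ (R : Subgroup L), g * x * g⁻¹ ∈ (R : Subgroup L)) → g ∈ (R : Subgroup L) := by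
    intro g hg
    let φ : ↥(R : Subgroup L) → ↥(R : Subgroup L) := fun x => ⟨g * x * g⁻¹, hg x x.2⟩
    have hinj : Function.Injective φ := by
      intro x y hxy
      have h1 : g * (x : L) * g⁻¹ = g * (y : L) * g⁻¹ := congrArg Subtype.val hxy
      exact Subtype.ext (mul_left_cancel (mul_right_cancel h1))
    have hsurj : Function.Surjective φ := Finite.injective_iff_surjective.mp hinj
    have hnorm : g ∈ Subgroup.normalizer ((R : Subgroup L) : Set L) := by
      rw [Subgroup.mem_normalizer_iff]
      intro h
      constructor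
      · exact hg h
      · intro hh
        obtain ⟨x, hx⟩ := hsurj ⟨g * h * g⁻¹, hh⟩
        have h1 : g * (x : L) * g⁻¹ = g * h * g⁻¹ := congrArg Subtype.val hx
        have h2 : (x : L) = h := mul_left_cancel (mul_right_cancel h1)
        rw [← h2]
        exact x.2
    have h3 := Cfsg.Agent.Lib.Helper16.conj_mem_map_frattini (R : Subgroup L) g hnorm z
      (by rw [hΦ]; exact Subgroup.mem_zpowers z)
    rw [hΦ] at h3
    rcases zpowers_two z hz _ h3 with h4 | h4
    · exfalso
      apply hz1
      have : g * z * g⁻¹ = g * 1 * g⁻¹ := by rw [h4]; group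
      exact mul_left_cancel (mul_right_cancel this)
    · rw [hmemS]
      have : g * z * g⁻¹ * g = z * g := by rw [h4]
      simpa using this
  -- step 1: z is not isolated
  have hstep1 : ∃ g : L, g * z * g⁻¹ ∈ (R : Subgroup L) ∧ g * z * g⁻¹ ≠ z := by
    by_contra hiso
    push_neg at hiso
    obtain ⟨N, hNn, hodd, hcom⟩ := Cfsg.Agent.S0215.result R z hz hzS (fun g hg => hiso g hg)
    rcases hNn.eq_bot_or_eq_top with h | h
    · -- z central
      have hzc : z ∈ Subgroup.center L := by
        rw [Subgroup.mem_center_iff]
        intro g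
        have h1 := hcom g
        rw [h, Subgroup.mem_bot] at h1
        have h2 : z * g * z⁻¹ * g⁻¹ * g * z = g * z := by rw [h1, one_mul]
        have h3 : z * g * z⁻¹ * g⁻¹ * g * z = z * g := by group
        rw [h3] at h2
        exact h2.symm
      rcases (inferInstance : (Subgroup.center L).Normal).eq_bot_or_eq_top with hc | hc
      · rw [hc, Subgroup.mem_bot] at hzc
        exact hz1 hzc
      · apply hL
        refine ⟨⟨fun a b => ?_⟩⟩
        have ha : a ∈ Subgroup.center L := by rw [hc]; exact Subgroup.mem_top a
        exact ((Subgroup.mem_center_iff.mp ha) b).symm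
    · rw [h] at hodd
      have h1 : Nat.card (⊤ : Subgroup L) = Nat.card L := Subgroup.card_top
      rw [h1] at hodd
      have h2 : orderOf z ∣ Nat.card L := orderOf_dvd_natCard z
      rw [hz] at h2
      exact (Nat.not_even_iff_odd.mpr hodd) (even_iff_two_dvd.mpr h2)
  obtain ⟨g, htS, htz⟩ := hstep1
  set t : L := g * z * g⁻¹ with ht
  have htt : t * t = 1 := by
    rw [ht]
    have : g * z * g⁻¹ * (g * z * g⁻¹) = g * (z * z) * g⁻¹ := by group
    rw [this, hzz]; group
  have ht1 : t ≠ 1 := by
    intro h
    apply hz1
    have : g * z * g⁻¹ = g * 1 * g⁻¹ := by rw [← ht, h]; group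
    exact mul_left_cancel (mul_right_cancel this)
  have htinv : t⁻¹ = t := inv_eq_of_mul_eq_one_right htt
  have htzc : t * z = z * t := (hmemS t).1 htS
  -- squares of elements of C(t)
  have hsq' : ∀ x : L, x * t = t * x → x * x = 1 ∨ x * x = t := by
    intro x hx
    have hx' : g⁻¹ * x * g ∈ (R : Subgroup L) := by
      rw [hmemS]
      have h1 : g⁻¹ * (x * t) * g = g⁻¹ * (t * x) * g := by rw [hx]
      rw [ht] at h1
      have e1 : g⁻¹ * (x * (g * z * g⁻¹)) * g = g⁻¹ * x * g * z := by group
      have e2 : g⁻¹ * (g * z * g⁻¹ * x) * g = z * (g⁻¹ * x * g) := by group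
      rw [e1, e2] at h1
      exact h1
    rcases hsq _ hx' with h | h
    · left
      have e : g⁻¹ * x * g * (g⁻¹ * x * g) = g⁻¹ * (x * x) * g := by group
      rw [e] at h
      have h5 : x * x = g * (g⁻¹ * (x * x) * g) * g⁻¹ := by group
      rw [h5, h]; group
    · right
      have e : g⁻¹ * x * g * (g⁻¹ * x * g) = g⁻¹ * (x * x) * g := by group
      rw [e] at h
      have h5 : x * x = g * (g⁻¹ * (x * x) * g) * g⁻¹ := by group
      rw [h5, h]
  -- D = C_R(t) has exponent 2
  have hD2 : ∀ d ∈ (R : Subgroup L), d * t = t * d → d * d = 1 := by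
    intro d hd hdt
    rcases hsq d hd with h | h
    · exact h
    · rcases hsq' d hdt with h' | h'
      · exact h'
      · exfalso; apply htz; rw [← h', h]
  have hDcomm : ∀ d ∈ (R : Subgroup L), d * t = t * d → ∀ e ∈ (R : Subgroup L), e * t = t * e →
      d * e = e * d := by
    intro d hd hdt e he het
    have hde : (d * e) * (d * e) = 1 := by
      apply hD2 _ (Subgroup.mul_mem _ hd he)
      rw [mul_assoc, het, ← mul_assoc, hdt, mul_assoc]
    have h1 := hD2 d hd hdt
    have h2 := hD2 e he het
    have : d * e = d * ((d * e) * (d * e)) * e := by rw [hde, mul_one]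
    rw [this]
    have : d * (d * e * (d * e)) * e = (d * d) * (e * d) * (e * e) := by group
    rw [this, h1, h2, one_mul, mul_one]
  -- t is not central in R
  have hnc : ∃ a ∈ (R : Subgroup L), a * t ≠ t * a := by
    by_contra hall
    push_neg at hall
    have hg' : g⁻¹ ∈ (R : Subgroup L) := by
      apply hN
      intro x hx
      rw [hmemS, inv_inv]
      have h1 := hall x hx
      have h2 : g⁻¹ * (x * t) * g = g⁻¹ * (t * x) * g := by rw [h1]
      rw [ht] at h2
      have e1 : g⁻¹ * (x * (g * z * g⁻¹)) * g = g⁻¹ * x * g * z := by group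
      have e2 : g⁻¹ * (g * z * g⁻¹ * x) * g = z * (g⁻¹ * x * g) := by group
      rw [e1, e2] at h2
      exact h2
    have hg : g ∈ (R : Subgroup L) := by simpa using Subgroup.inv_mem _ hg'
    apply htz
    have := (hmemS g).1 hg
    rw [ht, this]; group
  obtain ⟨a, haS, hat⟩ := hnc
  -- commutator of a and t is z
  have hcz : ∀ x ∈ (R : Subgroup L), x * t ≠ t * x → x * t = z * t * x := by
    intro x hx hxt
    rcases hcomm x hx t htS with h | h
    · exfalso
      apply hxt
      have : x * t * x⁻¹ * t⁻¹ * t * x = 1 * t * x := by rw [h]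
      simpa using this
    · have : x * t * x⁻¹ * t⁻¹ * t * x = z * t * x := by rw [h]
      simpa using this
  have hzc : ∀ x ∈ (R : Subgroup L), x * z = z * x := fun x hx => (hmemS x).1 hx
  -- an involution b in R not commuting with t
  have hb : ∃ b ∈ (R : Subgroup L), b * b = 1 ∧ b * t ≠ t * b := by
    rcases hsq a haS with h | h
    · exact ⟨a, haS, h, hat⟩
    · refine ⟨t * a, Subgroup.mul_mem _ htS haS, ?_, ?_⟩
      · have h1 := hcz a haS hat
        calc t * a * (t * a) = t * (a * t) * a := by group
          _ = t * (z * t * a) * a := by rw [h1]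
          _ = (t * z) * t * (a * a) := by group
          _ = (z * t) * t * z := by rw [htzc, h]
          _ = z * (t * t) * z := by group
          _ = 1 := by rw [htt, mul_one, hzz]
      · intro h2
        apply hat
        have h3 : t * (t * a * t) = t * (t * (t * a)) := by rw [h2]
        have e1 : t * (t * a * t) = (t * t) * a * t := by group
        have e2 : t * (t * (t * a)) = (t * t) * (t * a) := by group
        rw [e1, e2, htt, one_mul, one_mul] at h3
        exact h3
  obtain ⟨b, hbS, hbb, hbt⟩ := hb
  have hb1 : b ≠ 1 := by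
    intro h; apply hbt; rw [h, one_mul, mul_one]
  have hbinv : b⁻¹ = b := inv_eq_of_mul_eq_one_right hbb
  have hbt' : b * t = z * t * b := hcz b hbS hbt
  have hbtsq : (b * t) * (b * t) = z := by
    calc b * t * (b * t) = (b * t) * b * t := by group
      _ = z * t * b * b * t := by rw [hbt']
      _ = z * t * (b * b) * t := by group
      _ = z := by rw [hbb, mul_one, mul_assoc, htt, mul_one]
  have hord : orderOf (b * t) = 4 := by
    have h1 : ¬ (b * t) ^ 2 ^ 1 = 1 := by
      rw [pow_one, pow_two, hbtsq]; exact hz1
    have h2 : (b * t) ^ 2 ^ (1 + 1) = 1 := by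
      have : (b * t) ^ 2 ^ (1 + 1) = ((b * t) * (b * t)) * ((b * t) * (b * t)) := by
        norm_num [pow_succ]; group
      rw [this, hbtsq, hzz]
    have := orderOf_eq_prime_pow h1 h2
    simpa using this
  have hob : orderOf b = 2 := orderOf_eq_prime (by rw [pow_two]; exact hbb) hb1
  have hot : orderOf t = 2 := orderOf_eq_prime (by rw [pow_two]; exact htt) ht1
  -- central elements of R commuting with t and b are 1 or z (Thompson transfer)
  have hcentral : ∀ u ∈ (R : Subgroup L), u * t = t * u → u * b = b * u → u = 1 ∨ u = z := by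
    intro u huS hut hub
    by_contra hne
    push_neg at hne
    -- u is central in R
    have huu : u * u = 1 := hD2 u huS hut
    have hu1 : u ≠ 1 := hne.1
    have huc : ∀ x ∈ (R : Subgroup L), x * u = u * x := by
      intro x hx
      by_cases hxt : x * t = t * x
      · exact hDcomm x hx hxt u huS hut
      · -- b * x commutes with t
        have h1 := hcz x hx hxt
        have hbx : (b * x) * t = t * (b * x) := by
          calc b * x * t = b * (x * t) := by group
            _ = b * (z * t * x) := by rw [h1]
            _ = (b * z) * t * x := by group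
            _ = (z * b) * t * x := by rw [hzc b hbS]
            _ = z * (b * t) * x := by group
            _ = z * (z * t * b) * x := by rw [hbt']
            _ = (z * z) * t * b * x := by group
            _ = t * (b * x) := by rw [hzz]; group
        have h2 := hDcomm (b * x) (Subgroup.mul_mem _ hbS hx) hbx u huS hut
        have h3 : b * (x * u) = b * (u * x) := by
          calc b * (x * u) = b * x * u := by group
            _ = u * (b * x) := h2
            _ = (u * b) * x := by group
            _ = (b * u) * x := by rw [hub]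
            _ = b * (u * x) := by group
        exact mul_left_cancel h3
    have huord : orderOf u = 2 := orderOf_eq_prime (by rw [pow_two]; exact huu) hu1
    -- u is not in the Frattini subgroup
    have hunot : (⟨u, huS⟩ : ↥(R : Subgroup L)) ∉ frattini ↥(R : Subgroup L) := by
      intro h
      rcases hΦmem _ h with h' | h'
      · exact hne.1 h'
      · exact hne.2 h'
    have hM : ∃ M : Subgroup ↥(R : Subgroup L), IsCoatom M ∧ (⟨u, huS⟩ : ↥(R : Subgroup L)) ∉ M := by
      by_contra hall
      push_neg at hall
      apply hunot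
      unfold frattini Order.radical
      rw [Subgroup.mem_iInf]
      intro M
      rw [Subgroup.mem_iInf]
      intro hMc
      exact hall M hMc
    obtain ⟨M, hMc, huM⟩ := hM
    have hMn : M.Normal := Cfsg.Agent.Lib.Helper11.coatom_normal_of_isPGroup R.isPGroup' M hMc
    set T : Subgroup L := M.map (R : Subgroup L).subtype with hT
    have hTS : T ≤ (R : Subgroup L) := by
      rw [hT]; exact Subgroup.map_subtype_le M
    have hTM : T.subgroupOf (R : Subgroup L) = M := by
      rw [hT]
      exact Subgroup.comap_map_eq_self_of_injective (Subgroup.subtype_injective _) M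
    have hTn : (T.subgroupOf (R : Subgroup L)).Normal := by rw [hTM]; exact hMn
    have hTc : IsCoatom (T.subgroupOf (R : Subgroup L)) := by rw [hTM]; exact hMc
    have hcyc : IsCyclic (↥(R : Subgroup L) ⧸ T.subgroupOf (R : Subgroup L)) := cyclic_quot _ hTc
    have htriv : ∀ f : L →* (↥(R : Subgroup L) ⧸ T.subgroupOf (R : Subgroup L)), ∀ x, f x = 1 := by
      intro f x
      rcases (MonoidHom.normal_ker f).eq_bot_or_eq_top with hk | hk
      · exfalso
        apply hL
        refine ⟨⟨fun p q => ?_⟩⟩
        have hinj : Function.Injective f := (MonoidHom.ker_eq_bot_iff f).mp hk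
        apply hinj
        rw [map_mul, map_mul]
        obtain ⟨c, hc⟩ := hcyc.exists_generator
        obtain ⟨i, hi⟩ := Subgroup.mem_zpowers_iff.mp (hc (f p))
        obtain ⟨j, hj⟩ := Subgroup.mem_zpowers_iff.mp (hc (f q))
        rw [← hi, ← hj]
        exact zpow_mul_comm c i j
      · have : x ∈ f.ker := by rw [hk]; exact Subgroup.mem_top x
        exact MonoidHom.mem_ker.mp this
    have huT : u ∉ T := by
      intro h
      apply huM
      rw [← hTM, Subgroup.mem_subgroupOf]
      exact h
    obtain ⟨g', hg'T, _, hg'map⟩ := Cfsg.Agent.Lib.Helper8.extremal_transfer R T hTS hcyc htriv u huord huS huT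
    have hg'R : g' ∈ (R : Subgroup L) := by
      apply hN
      intro x hx
      have hxm : g' * x * g'⁻¹ ∈ ((R : Subgroup L) ⊓ Subgroup.centralizer {u}).map (MulAut.conj g').toMonoidHom := by
        refine ⟨x, Subgroup.mem_inf.mpr ⟨hx, ?_⟩, ?_⟩
        · rw [Subgroup.mem_centralizer_iff]
          intro y hy
          rw [Set.mem_singleton_iff] at hy
          subst hy
          exact (huc x hx).symm
        · simp [MulAut.conj_apply]
      exact (hg'map hxm).1
    have : g' * u * g'⁻¹ = u := by
      rw [huc g' hg'R]; group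
    rw [this] at hg'T
    exact huT hg'T
  -- R is generated by b and t
  have hzcl : z ∈ Subgroup.closure ({b, t} : Set L) := by
    rw [← hbtsq]
    have hb' : b ∈ Subgroup.closure ({b, t} : Set L) := Subgroup.subset_closure (by simp)
    have ht' : t ∈ Subgroup.closure ({b, t} : Set L) := Subgroup.subset_closure (by simp)
    exact Subgroup.mul_mem _ (Subgroup.mul_mem _ hb' ht') (Subgroup.mul_mem _ hb' ht')
  have hbcl : b ∈ Subgroup.closure ({b, t} : Set L) := Subgroup.subset_closure (by simp)
  have htcl : t ∈ Subgroup.closure ({b, t} : Set L) := Subgroup.subset_closure (by simp)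
  have htb : t * b = z * b * t := by
    have h1 : t * b = z * (z * t * b) := by rw [← mul_assoc, ← mul_assoc, hzz, one_mul]
    rw [h1, ← hbt']; group
  have hDle : ∀ d ∈ (R : Subgroup L), d * t = t * d → d ∈ Subgroup.closure ({b, t} : Set L) := by
    intro d hd hdt
    by_cases hdb : d * b = b * d
    · rcases hcentral d hd hdt hdb with h | h
      · rw [h]; exact Subgroup.one_mem _
      · rw [h]; exact hzcl
    · -- t * d commutes with b
      have htd : (t * d) * t = t * (t * d) := by rw [mul_assoc, hdt]
      have hdb' : d * b = z * b * d := by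
        rcases hcomm d hd b hbS with h | h
        · exfalso
          apply hdb
          have : d * b * d⁻¹ * b⁻¹ * b * d = 1 * b * d := by rw [h]
          simpa using this
        · have : d * b * d⁻¹ * b⁻¹ * b * d = z * b * d := by rw [h]
          simpa using this
      have htdb : (t * d) * b = b * (t * d) := by
        calc t * d * b = t * (d * b) := by group
          _ = t * (z * b * d) := by rw [hdb']
          _ = (t * z) * b * d := by group
          _ = (z * t) * b * d := by rw [htzc]
          _ = z * (t * b) * d := by group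
          _ = z * (z * b * t) * d := by rw [htb]
          _ = (z * z) * b * t * d := by group
          _ = b * (t * d) := by rw [hzz]; group
      have hmem : t * d ∈ Subgroup.closure ({b, t} : Set L) := by
        rcases hcentral (t * d) (Subgroup.mul_mem _ htS hd) htd htdb with h | h
        · rw [h]; exact Subgroup.one_mem _
        · rw [h]; exact hzcl
      have : d = t⁻¹ * (t * d) := by group
      rw [this]
      exact Subgroup.mul_mem _ (Subgroup.inv_mem _ htcl) hmem
  have hRle : (R : Subgroup L) ≤ Subgroup.closure ({b, t} : Set L) := by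
    intro x hx
    by_cases hxt : x * t = t * x
    · exact hDle x hx hxt
    · have h1 := hcz x hx hxt
      have hbx : (b * x) * t = t * (b * x) := by
        calc b * x * t = b * (x * t) := by group
          _ = b * (z * t * x) := by rw [h1]
          _ = (b * z) * t * x := by group
          _ = (z * b) * t * x := by rw [hzc b hbS]
          _ = z * (b * t) * x := by group
          _ = z * (z * t * b) * x := by rw [hbt']
          _ = (z * z) * t * b * x := by group
          _ = t * (b * x) := by rw [hzz]; group
      have hmem := hDle (b * x) (Subgroup.mul_mem _ hbS hx) hbx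
      have : x = b⁻¹ * (b * x) := by group
      rw [this]
      exact Subgroup.mul_mem _ (Subgroup.inv_mem _ hbcl) hmem
  have hle : Subgroup.closure ({b, t} : Set L) ≤ (R : Subgroup L) := by
    rw [Subgroup.closure_le]
    intro x hx
    rcases hx with rfl | hx
    · exact hbS
    · rw [Set.mem_singleton_iff] at hx
      subst hx
      exact htS
  have heq : Subgroup.closure ({b, t} : Set L) = (R : Subgroup L) := le_antisymm hle hRle
  obtain ⟨e⟩ := Cfsg.Agent.Lib.Helper24.closure_pair_equiv_dihedral hob hot
  rw [hord] at e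
  exact ⟨(MulEquiv.subgroupCongr heq).symm.trans e⟩

end Cfsg.Agent.S5435
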