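import Cfsg.Statements.S5436
import Cfsg.Agent.S1265

set_option autoImplicit false
open Cfsg

namespace Cfsg.Agent.S5436

/-- a fixed-point-free involution on a finite normal subgroup inverts it -/
theorem fpf_inverts {G : Type*} [Group G] [Finite G] (N : Subgroup G) [hN : N.Normal] (z : G)
    (hzz : z * z = 1) (hfix : ∀ n ∈ N, z * n = n * z → n = 1) :
    ∀ n ∈ N, z * n * z⁻¹ = n⁻¹ := by
  have hzi : z⁻¹ = z := inv_eq_of_mul_eq_one_left hzz
  let f : N → N := fun n => ⟨(n : G)⁻¹ * (z * n * z⁻¹), N.mul_mem (N.inv_mem n.2) (hN.conj_mem _ n.2 z)⟩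
  have hinj : Function.Injective f := by
    intro n m h
    have h' : (n : G)⁻¹ * (z * n * z⁻¹) = (m : G)⁻¹ * (z * m * z⁻¹) := congrArg Subtype.val h
    have h2 : z * ((m : G) * (n : G)⁻¹) = ((m : G) * (n : G)⁻¹) * z := by
      have e1 : (m : G) * ((n : G)⁻¹ * (z * n * z⁻¹)) * z = (m : G) * ((m : G)⁻¹ * (z * m * z⁻¹)) * z := by
        rw [h']
      have e2 : (m : G) * (n : G)⁻¹ * z * n = z * m := by
        calc (m : G) * (n : G)⁻¹ * z * n = (m : G) * ((n : G)⁻¹ * (z * n * z⁻¹)) * z := by group
          _ = (m : G) * ((m : G)⁻¹ * (z * m * z⁻¹)) * z := e1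
          _ = z * m := by group
      calc z * ((m : G) * (n : G)⁻¹) = (z * m) * (n : G)⁻¹ := by group
        _ = ((m : G) * (n : G)⁻¹ * z * n) * (n : G)⁻¹ := by rw [e2]
        _ = ((m : G) * (n : G)⁻¹) * z := by group
    have h3 := hfix _ (N.mul_mem m.2 (N.inv_mem n.2)) h2
    have : (m : G) = n := by
      have := mul_inv_eq_one.mp h3
      exact this
    exact (Subtype.ext this).symm
  have hsurj : Function.Surjective f := Finite.injective_iff_surjective.mp hinj
  intro n hn
  obtain ⟨k, hk⟩ := hsurj ⟨n, hn⟩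
  have hk' : (k : G)⁻¹ * (z * k * z⁻¹) = n := congrArg Subtype.val hk
  rw [← hk', hzi]
  have : z * ((k : G)⁻¹ * (z * k * z)) * z = z * (k : G)⁻¹ * z * k * (z * z) := by group
  rw [this, hzz, mul_one]
  have : ((k : G)⁻¹ * (z * k * z))⁻¹ = z⁻¹ * (k : G)⁻¹ * z⁻¹ * k := by group
  rw [this, hzi]


theorem mem_zpowers_two {G : Type*} [Group G] {z x : G} (hzz : z * z = 1) (hx : x ∈ Subgroup.zpowers z) :
    x = 1 ∨ x = z := by
  obtain ⟨k, rfl⟩ := Subgroup.mem_zpowers_iff.mp hx
  have h2 : z ^ (2 : ℤ) = 1 := by rw [zpow_two]; exact hzz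
  have hk : k = k % 2 + 2 * (k / 2) := (Int.emod_add_mul_ediv k 2).symm
  rw [hk, zpow_add, zpow_mul, h2, one_zpow, mul_one]
  rcases Int.emod_two_eq_zero_or_one k with h | h
  · left; rw [h, zpow_zero]
  · right; rw [h, zpow_one]

/-- Let z be an involution of the finite group G with centralizer H whose generalized Fitting subgroup Q is extraspecial of width at least 2 (order 2^(2w+1), w ≥ 2); suppose some conjugate of z other than z lies in Q, H/Q is a non-abelian simple group, H acts irreducibly by conjugation on Q modulo the subgroup generated by z (the only H-invariant subgroups of Q containing z are that subgroup and Q), and Q is not the subgroup generated by the conjugates of z lying in H. Then G is simple. -/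
theorem result {G : Type*} [Group G] [Finite G] (z : G) (hz : orderOf z = 2) (Q : Subgroup (Subgroup.centralizer ({z} : Set G))) [Q.Normal] (hF : Cfsg.generalizedFittingSubgroup ↥(Subgroup.centralizer ({z} : Set G)) = Q) (hQ : Cfsg.IsExtraspecial 2 ↥Q) (w : ℕ) (hw : 2 ≤ w) (hcard : Nat.card ↥Q = 2 ^ (2 * w + 1)) (hnwc : ∃ g : G, (∃ hq : g * z * g⁻¹ ∈ Subgroup.centralizer ({z} : Set G), (⟨g * z * g⁻¹, hq⟩ : Subgroup.centralizer ({z} : Set G)) ∈ Q) ∧ g * z * g⁻¹ ≠ z) (hsimp : IsSimpleGroup (↥(Subgroup.centralizer ({z} : Set G)) ⧸ Q)) (hna : ¬ IsMulCommutative (↥(Subgroup.centralizer ({z} : Set G)) ⧸ Q)) (hirr : ∀ W : Subgroup (Subgroup.centralizer ({z} : Set G)), W.Normal → W ≤ Q → (W = Q ∨ ∀ x ∈ W, (x : G) ∈ Subgroup.zpowers z)) (hwcl : Subgroup.closure {x : Subgroup.centralizer ({z} : Set G) | IsConj z (x : G)} ≠ Q) : IsSimpleGroup G := by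
  classical
  have hz1 : z ≠ 1 := by
    rintro rfl
    simp at hz
  have hzz : z * z = 1 := by rw [← pow_two, ← hz, pow_orderOf_eq_one]
  have hzi : z⁻¹ = z := inv_eq_of_mul_eq_one_left hzz
  have hmemH : ∀ h : G, h ∈ Subgroup.centralizer ({z} : Set G) ↔ z * h = h * z := by
    intro h
    rw [Subgroup.mem_centralizer_singleton_iff]
    exact eq_comm
  have hzH : z ∈ Subgroup.centralizer ({z} : Set G) := (hmemH z).mpr rfl
  obtain ⟨g, ⟨hq, hgQ⟩, hgne⟩ := hnwc
  have hu1 : g * z * g⁻¹ ≠ 1 := by
    intro h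
    apply hz1
    have : z = g⁻¹ * (g * z * g⁻¹) * g := by group
    rw [this, h]; group
  -- F1
  have hCQ : Subgroup.centralizer (Q : Set (Subgroup.centralizer ({z} : Set G))) ≤ Q := by
    have := Cfsg.Agent.S1265.result (G := Subgroup.centralizer ({z} : Set G))
    rw [hF] at this
    exact this
  have hz'c : ∀ h : Subgroup.centralizer ({z} : Set G), h * ⟨z, hzH⟩ = ⟨z, hzH⟩ * h := by
    intro h
    apply Subtype.ext
    exact ((hmemH h).mp h.2).symm
  have hz'Q : (⟨z, hzH⟩ : Subgroup.centralizer ({z} : Set G)) ∈ Q :=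
    hCQ (Subgroup.mem_centralizer_iff.mpr (fun q _ => hz'c q))
  -- F2'
  have hF2 : ∀ h : Subgroup.centralizer ({z} : Set G), (∀ q ∈ Q, q * h = h * q) →
      h = 1 ∨ h = ⟨z, hzH⟩ := by
    intro h hh
    have hhQ : h ∈ Q := hCQ (Subgroup.mem_centralizer_iff.mpr hh)
    have hcardc : Nat.card (Subgroup.center Q) = 2 := hQ.2
    have hhc : (⟨h, hhQ⟩ : Q) ∈ Subgroup.center Q := by
      rw [Subgroup.mem_center_iff]
      intro q
      apply Subtype.ext
      exact hh q q.2
    have hzc : (⟨⟨z, hzH⟩, hz'Q⟩ : Q) ∈ Subgroup.center Q := by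
      rw [Subgroup.mem_center_iff]
      intro q
      apply Subtype.ext
      exact hz'c q
    obtain ⟨y, _, hy⟩ := (Nat.card_eq_two_iff' (1 : Subgroup.center Q)).mp hcardc
    by_cases h1 : h = 1
    · exact Or.inl h1
    · right
      have e1 : (⟨⟨h, hhQ⟩, hhc⟩ : Subgroup.center Q) = y := hy _ (by
        intro e
        apply h1
        have := congrArg (fun t : Subgroup.center Q => ((t : Q) : Subgroup.centralizer ({z} : Set G))) e
        exact this)
      have e2 : (⟨⟨⟨z, hzH⟩, hz'Q⟩, hzc⟩ : Subgroup.center Q) = y := hy _ (by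
        intro e
        apply hz1
        have := congrArg (fun t : Subgroup.center Q => (((t : Q) : Subgroup.centralizer ({z} : Set G)) : G)) e
        exact this)
      have := congrArg (fun t : Subgroup.center Q => ((t : Q) : Subgroup.centralizer ({z} : Set G))) (e1.trans e2.symm)
      exact this
  have hF2G : ∀ x : G, z * x = x * z → (∀ q ∈ Q, (q : G) * x = x * q) → x = 1 ∨ x = z := by
    intro x hx hxq
    rcases hF2 ⟨x, (hmemH x).mpr hx⟩ (fun q hq => Subtype.ext (hxq q hq)) with h | h
    · left; exact congrArg Subtype.val h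
    · right; exact congrArg Subtype.val h
  -- (B)
  have hB : ∀ N : Subgroup G, N.Normal → N ≠ ⊥ → z ∈ N := by
    intro N hN hNbot
    by_contra hzN
    have hW : N.subgroupOf (Subgroup.centralizer ({z} : Set G)) ⊓ Q = ⊥ := by
      have hWn : (N.subgroupOf (Subgroup.centralizer ({z} : Set G)) ⊓ Q).Normal := inferInstance
      rcases hirr _ hWn inf_le_right with h | h
      · exfalso; apply hzN
        have : (⟨z, hzH⟩ : Subgroup.centralizer ({z} : Set G)) ∈
            N.subgroupOf (Subgroup.centralizer ({z} : Set G)) ⊓ Q := by rw [h]; exact hz'Q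
        exact Subgroup.mem_subgroupOf.mp this.1
      · rw [eq_bot_iff]; intro x hx
        have hx1 := h x hx
        have hxN : (x : G) ∈ N := Subgroup.mem_subgroupOf.mp hx.1
        rcases mem_zpowers_two hzz hx1 with h1 | h1
        · exact Subgroup.mem_bot.mpr (Subtype.ext h1)
        · exact absurd (h1 ▸ hxN) hzN
    have hfix : ∀ n ∈ N, z * n = n * z → n = 1 := by
      intro n hn hnz
      have hnH : n ∈ Subgroup.centralizer ({z} : Set G) := (hmemH n).mpr hnz
      have hcomm : ∀ q ∈ Q, (q : G) * n = n * q := by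
        intro q hq
        have hmem : (⟨n, hnH⟩ * q * (⟨n, hnH⟩)⁻¹ * q⁻¹ : Subgroup.centralizer ({z} : Set G)) ∈
            N.subgroupOf (Subgroup.centralizer ({z} : Set G)) ⊓ Q := by
          refine Subgroup.mem_inf.mpr ⟨?_, ?_⟩
          · rw [Subgroup.mem_subgroupOf]
            have : ((⟨n, hnH⟩ * q * (⟨n, hnH⟩)⁻¹ * q⁻¹ : Subgroup.centralizer ({z} : Set G)) : G)
                = n * ((q : G) * n⁻¹ * (q : G)⁻¹) := by
              simp [mul_assoc]
            rw [this]
            exact N.mul_mem hn (hN.conj_mem _ (N.inv_mem hn) _)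
          · exact Q.mul_mem (‹Q.Normal›.conj_mem _ hq _) (Q.inv_mem hq)
        rw [hW, Subgroup.mem_bot] at hmem
        have h2 := congrArg Subtype.val hmem
        have h3 : n * (q : G) * n⁻¹ * (q : G)⁻¹ = 1 := by
          simpa using h2
        have : n * (q : G) = q * n := by
          have := mul_inv_eq_one.mp h3
          calc n * (q : G) = n * q * n⁻¹ * n := by group
            _ = q * n := by rw [this]
        exact this.symm
      rcases hF2G n hnz hcomm with h | h
      · exact h
      · exact absurd (h ▸ hn) hzN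
    have hinv := fpf_inverts N z hzz hfix
    have hinvu : ∀ n ∈ N, (g * z * g⁻¹) * n * (g * z * g⁻¹)⁻¹ = n⁻¹ := by
      intro n hn
      have h1 : g⁻¹ * n * g ∈ N := by
        have := hN.conj_mem n hn g⁻¹
        simpa using this
      have h2 := hinv _ h1
      calc (g * z * g⁻¹) * n * (g * z * g⁻¹)⁻¹ = g * (z * (g⁻¹ * n * g) * z⁻¹) * g⁻¹ := by group
        _ = g * (g⁻¹ * n * g)⁻¹ * g⁻¹ := by rw [h2]
        _ = n⁻¹ := by group
    have hzu : ∀ n ∈ N, (z * (g * z * g⁻¹)) * n = n * (z * (g * z * g⁻¹)) := by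
      intro n hn
      have h1 := hinvu n hn
      have h2 := hinv _ (N.inv_mem hn)
      rw [inv_inv] at h2
      have : (z * (g * z * g⁻¹)) * n * (z * (g * z * g⁻¹))⁻¹ = n := by
        calc (z * (g * z * g⁻¹)) * n * (z * (g * z * g⁻¹))⁻¹
            = z * ((g * z * g⁻¹) * n * (g * z * g⁻¹)⁻¹) * z⁻¹ := by group
          _ = z * n⁻¹ * z⁻¹ := by rw [h1]
          _ = n := h2
      calc (z * (g * z * g⁻¹)) * n = ((z * (g * z * g⁻¹)) * n * (z * (g * z * g⁻¹))⁻¹) * (z * (g * z * g⁻¹)) := by group
        _ = n * (z * (g * z * g⁻¹)) := by rw [this]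
    have hCn : ((Subgroup.centralizer (N : Set G)).subgroupOf (Subgroup.centralizer ({z} : Set G)) ⊓ Q).Normal :=
      inferInstance
    have hzumem : (⟨z, hzH⟩ * ⟨g * z * g⁻¹, hq⟩ : Subgroup.centralizer ({z} : Set G)) ∈
        (Subgroup.centralizer (N : Set G)).subgroupOf (Subgroup.centralizer ({z} : Set G)) ⊓ Q := by
      refine Subgroup.mem_inf.mpr ⟨?_, Q.mul_mem hz'Q hgQ⟩
      rw [Subgroup.mem_subgroupOf, Subgroup.mem_centralizer_iff]
      intro n hn
      exact (hzu n hn).symm
    rcases hirr _ hCn inf_le_right with h | h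
    · have : (⟨z, hzH⟩ : Subgroup.centralizer ({z} : Set G)) ∈
          (Subgroup.centralizer (N : Set G)).subgroupOf (Subgroup.centralizer ({z} : Set G)) ⊓ Q := by
        rw [h]; exact hz'Q
      have hzc := Subgroup.mem_subgroupOf.mp this.1
      rw [Subgroup.mem_centralizer_iff] at hzc
      apply hNbot
      rw [eq_bot_iff]
      intro n hn
      exact Subgroup.mem_bot.mpr (hfix n hn (hzc n hn).symm)
    · have h1 := h _ hzumem
      rcases mem_zpowers_two hzz h1 with h2 | h2
      · apply hgne
        have h3 : z * (g * z * g⁻¹) = 1 := h2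
        have := eq_inv_of_mul_eq_one_right h3
        rw [this, hzi]
      · apply hu1
        have h3 : z * (g * z * g⁻¹) = z := h2
        exact mul_left_cancel (a := z) (by rw [h3, mul_one])
  -- (A)
  have hA : ∀ N : Subgroup G, N.Normal → z ∈ N → N = ⊤ := by
    intro N hN hzN
    have hKn : (Subgroup.closure {x : Subgroup.centralizer ({z} : Set G) | IsConj z (x : G)}).Normal := by
      refine ⟨fun n hn k => ?_⟩
      have hle : (Subgroup.closure {x : Subgroup.centralizer ({z} : Set G) | IsConj z (x : G)}).map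
          (MulAut.conj k).toMonoidHom ≤
          Subgroup.closure {x : Subgroup.centralizer ({z} : Set G) | IsConj z (x : G)} := by
        rw [MonoidHom.map_closure, Subgroup.closure_le]
        rintro _ ⟨x, hx, rfl⟩
        apply Subgroup.subset_closure
        show IsConj z ((k * x * k⁻¹ : Subgroup.centralizer ({z} : Set G)) : G)
        exact IsConj.trans hx (isConj_iff.mpr ⟨(k : G), by simp⟩)
      have := hle (Subgroup.mem_map_of_mem _ hn)
      simpa using this
    have huK : (⟨g * z * g⁻¹, hq⟩ : Subgroup.centralizer ({z} : Set G)) ∈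
        Subgroup.closure {x : Subgroup.centralizer ({z} : Set G) | IsConj z (x : G)} :=
      Subgroup.subset_closure (isConj_iff.mpr ⟨g, rfl⟩)
    have hQK : Q ≤ Subgroup.closure {x : Subgroup.centralizer ({z} : Set G) | IsConj z (x : G)} := by
      have hWn : (Subgroup.closure {x : Subgroup.centralizer ({z} : Set G) | IsConj z (x : G)} ⊓ Q).Normal :=
        inferInstance
      rcases hirr _ hWn inf_le_right with h | h
      · rw [← h]; exact inf_le_left
      · exfalso
        have h1 := h _ (Subgroup.mem_inf.mpr ⟨huK, hgQ⟩)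
        rcases mem_zpowers_two hzz h1 with h2 | h2
        · exact hu1 h2
        · exact hgne h2
    have hKtop : Subgroup.closure {x : Subgroup.centralizer ({z} : Set G) | IsConj z (x : G)} = ⊤ := by
      have hex : ∃ k ∈ Subgroup.closure {x : Subgroup.centralizer ({z} : Set G) | IsConj z (x : G)}, k ∉ Q := by
        by_contra hcon
        push_neg at hcon
        exact hwcl (le_antisymm hcon hQK)
      obtain ⟨k, hkK, hkQ⟩ := hex
      have hmapn : ((Subgroup.closure {x : Subgroup.centralizer ({z} : Set G) | IsConj z (x : G)}).map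
          (QuotientGroup.mk' Q)).Normal := hKn.map _ (QuotientGroup.mk'_surjective Q)
      rcases hmapn.eq_bot_or_eq_top with h | h
      · exfalso
        have : QuotientGroup.mk' Q k ∈ (Subgroup.closure {x : Subgroup.centralizer ({z} : Set G) | IsConj z (x : G)}).map
          (QuotientGroup.mk' Q) := Subgroup.mem_map_of_mem _ hkK
        rw [h, Subgroup.mem_bot] at this
        exact hkQ ((QuotientGroup.eq_one_iff k).mp this)
      · rw [eq_top_iff]
        intro x _
        have : QuotientGroup.mk' Q x ∈ (Subgroup.closure {x : Subgroup.centralizer ({z} : Set G) | IsConj z (x : G)}).map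
          (QuotientGroup.mk' Q) := by rw [h]; trivial
        obtain ⟨y, hyK, hy⟩ := Subgroup.mem_map.mp this
        have hyx : y⁻¹ * x ∈ Q := QuotientGroup.eq.mp hy
        have : x = y * (y⁻¹ * x) := by group
        rw [this]
        exact Subgroup.mul_mem _ hyK (hQK hyx)
    have hHN : ∀ h : G, z * h = h * z → h ∈ N := by
      intro h hh
      have hle : Subgroup.closure {x : Subgroup.centralizer ({z} : Set G) | IsConj z (x : G)} ≤
          N.subgroupOf (Subgroup.centralizer ({z} : Set G)) := by
        rw [Subgroup.closure_le]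
        intro x hx
        obtain ⟨c, hc⟩ := isConj_iff.mp hx
        show x ∈ N.subgroupOf (Subgroup.centralizer ({z} : Set G))
        rw [Subgroup.mem_subgroupOf, ← hc]
        exact hN.conj_mem _ hzN _
      have : (⟨h, (hmemH h).mpr hh⟩ : Subgroup.centralizer ({z} : Set G)) ∈
          Subgroup.closure {x : Subgroup.centralizer ({z} : Set G) | IsConj z (x : G)} := by
        rw [hKtop]; trivial
      exact Subgroup.mem_subgroupOf.mp (hle this)
    -- Sylow
    have hQ2 : IsPGroup 2 ((Q.map (Subgroup.centralizer ({z} : Set G)).subtype).subgroupOf N) := by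
      have h1 : IsPGroup 2 Q := hQ.1.1
      have h2 : IsPGroup 2 (Q.map (Subgroup.centralizer ({z} : Set G)).subtype) := h1.map _
      exact h2.comap_of_injective _ (Subgroup.subtype_injective N)
    obtain ⟨T, hT⟩ := hQ2.exists_le_sylow
    have hfrat := Sylow.normalizer_sup_eq_top T
    have hQT : ∀ q ∈ Q, (q : G) ∈ (T : Subgroup N).map N.subtype := by
      intro q hq
      have hqN : (q : G) ∈ N := hHN q ((hmemH q).mp q.2)
      refine Subgroup.mem_map.mpr ⟨⟨q, hqN⟩, hT ?_, rfl⟩
      rw [Subgroup.mem_subgroupOf]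
      exact Subgroup.mem_map.mpr ⟨q, hq, rfl⟩
    have hzT : z ∈ (T : Subgroup N).map N.subtype := hQT ⟨z, hzH⟩ hz'Q
    have hT2 : IsPGroup 2 ((T : Subgroup N).map N.subtype) := T.2.map _
    haveI : Nontrivial ((T : Subgroup N).map N.subtype) :=
      ⟨⟨⟨z, hzT⟩, 1, fun h => hz1 (congrArg Subtype.val h)⟩⟩
    have hcen : ∀ c ∈ (T : Subgroup N).map N.subtype,
        (∀ t ∈ (T : Subgroup N).map N.subtype, t * c = c * t) → c = 1 ∨ c = z := by
      intro c hc hct
      exact hF2G c (hct z hzT) (fun q hq => hct q (hQT q hq))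
    have hzcen : ∀ t ∈ (T : Subgroup N).map N.subtype, t * z = z * t := by
      haveI := hT2.center_nontrivial
      obtain ⟨c, hc1⟩ := exists_ne (1 : Subgroup.center ((T : Subgroup N).map N.subtype))
      have hcc : ∀ t ∈ (T : Subgroup N).map N.subtype, t * ((c : (T : Subgroup N).map N.subtype) : G)
          = ((c : (T : Subgroup N).map N.subtype) : G) * t := by
        intro t ht
        have := Subgroup.mem_center_iff.mp c.2 ⟨t, ht⟩
        exact congrArg Subtype.val this
      rcases hcen _ (c : (T : Subgroup N).map N.subtype).2 hcc with h | h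
      · exfalso; apply hc1
        apply Subtype.ext; apply Subtype.ext
        exact h
      · rw [← h]; exact hcc
    have hnorm : Subgroup.normalizer (((T : Subgroup N).map N.subtype : Subgroup G) : Set G) ≤ N := by
      intro k hk
      apply hHN
      have hk' : ∀ t, t ∈ (T : Subgroup N).map N.subtype ↔ k * t * k⁻¹ ∈ (T : Subgroup N).map N.subtype :=
        fun t => Subgroup.mem_normalizer_iff.mp hk t
      have hkz : k * z * k⁻¹ ∈ (T : Subgroup N).map N.subtype := (hk' z).mp hzT
      have hcomm : ∀ t ∈ (T : Subgroup N).map N.subtype, t * (k * z * k⁻¹) = (k * z * k⁻¹) * t := by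
        intro t ht
        have ht' : k⁻¹ * t * k ∈ (T : Subgroup N).map N.subtype := by
          rw [hk']
          have : k * (k⁻¹ * t * k) * k⁻¹ = t := by group
          rw [this]; exact ht
        have h1 := hzcen _ ht'
        calc t * (k * z * k⁻¹) = k * ((k⁻¹ * t * k) * z) * k⁻¹ := by group
          _ = k * (z * (k⁻¹ * t * k)) * k⁻¹ := by rw [h1]
          _ = (k * z * k⁻¹) * t := by group
      rcases hcen _ hkz hcomm with h | h
      · exfalso
        apply hz1
        have : z = k⁻¹ * (k * z * k⁻¹) * k := by group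
        rw [this, h]; group
      · calc z * k = (k * z * k⁻¹) * k := by rw [h]
          _ = k * z := by group
    rw [eq_top_iff, ← hfrat]
    exact sup_le hnorm le_rfl
  refine { toNontrivial := ⟨⟨z, 1, hz1⟩⟩, eq_bot_or_eq_top_of_normal := ?_ }
  intro N hN
  by_cases h : N = ⊥
  · exact Or.inl h
  · exact Or.inr (hA N hN (hB N hN h))

end Cfsg.Agent.S5436
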