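import Cfsg.Statements.S5437

set_option autoImplicit false
open Cfsg

namespace Cfsg.Agent.S5437

theorem mem_conj_iff {G : Type*} [Group G] (H : Subgroup G) (g x : G) :
    x ∈ H.map (MulAut.conj g).toMonoidHom ↔ g⁻¹ * x * g ∈ H := by
  constructor
  · rintro ⟨y, hy, rfl⟩
    have : g⁻¹ * ((MulAut.conj g).toMonoidHom y) * g = y := by
      simp [MulAut.conj_apply, mul_assoc]
    rw [this]
    exact hy
  · intro h
    exact ⟨_, h, by simp [MulAut.conj_apply, mul_assoc]⟩

theorem fix_iff {G : Type*} [Group G] (H : Subgroup G) (g x : G) :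
    x • (g : G ⧸ H) = (g : G ⧸ H) ↔ g⁻¹ * x * g ∈ H := by
  have : x • (g : G ⧸ H) = ((x * g : G) : G ⧸ H) := rfl
  rw [this, eq_comm, QuotientGroup.eq, mul_assoc]

/-- Let I be a set of involutions of the finite group G closed under conjugation, and H a subgroup of G. The following are equivalent: (1) for every member x of I lying in H, the conjugates of x lying in H form a single H-class and the centralizer of x lies in H; (2) for every g outside H, no member of I lies in both H and g H g⁻¹; (3) every member of I lying in H fixes exactly one coset in the action of G on the cosets of H. -/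
theorem result {G : Type*} [Group G] [Finite G] (I : Set G) (hI : ∀ x ∈ I, orderOf x = 2) (hIc : ∀ g : G, ∀ x ∈ I, g * x * g⁻¹ ∈ I) (H : Subgroup G) : ((∀ x ∈ I, x ∈ H → (∀ g : G, g * x * g⁻¹ ∈ H → ∃ h ∈ H, h * x * h⁻¹ = g * x * g⁻¹) ∧ Subgroup.centralizer ({x} : Set G) ≤ H) ↔ (∀ g : G, g ∉ H → ∀ x ∈ I, ¬ (x ∈ H ∧ x ∈ (H : Subgroup G).map (MulAut.conj g).toMonoidHom))) ∧ ((∀ g : G, g ∉ H → ∀ x ∈ I, ¬ (x ∈ H ∧ x ∈ (H : Subgroup G).map (MulAut.conj g).toMonoidHom)) ↔ ∀ x ∈ I, x ∈ H → ∃! c : G ⧸ H, x • c = c) := by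
  refine ⟨⟨?_, ?_⟩, ⟨?_, ?_⟩⟩
  · -- (1) → (2)
    intro h1 g hg x hx ⟨hxH, hxg⟩
    rw [mem_conj_iff] at hxg
    obtain ⟨hcl, hcent⟩ := h1 x hx hxH
    obtain ⟨h, hh, heq⟩ := hcl g⁻¹ (by simpa using hxg)
    -- g * h centralizes x
    have hc : g * h ∈ Subgroup.centralizer ({x} : Set G) := by
      rw [Subgroup.mem_centralizer_iff]
      intro y hy
      rw [Set.mem_singleton_iff] at hy
      subst hy
      -- h y h⁻¹ = g⁻¹ y g  → g h y = y g h
      have : g * (h * y * h⁻¹) * g⁻¹ = y := by
        rw [heq]; simp [mul_assoc]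
      calc y * (g * h) = (g * (h * y * h⁻¹) * g⁻¹) * (g * h) := by rw [this]
        _ = g * h * y := by simp [mul_assoc]
    have hgh := hcent hc
    apply hg
    have : g = (g * h) * h⁻¹ := by simp
    rw [this]
    exact H.mul_mem hgh (H.inv_mem hh)
  · -- (2) → (1)
    intro h2 x hx hxH
    constructor
    · intro g hgx
      refine ⟨g, ?_, rfl⟩
      by_contra hg
      apply h2 g hg (g * x * g⁻¹) (hIc g x hx)
      refine ⟨hgx, ?_⟩
      rw [mem_conj_iff]
      simpa [mul_assoc] using hxH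
    · intro c hc
      by_contra hcH
      apply h2 c hcH x hx
      refine ⟨hxH, ?_⟩
      rw [mem_conj_iff]
      rw [Subgroup.mem_centralizer_iff] at hc
      have := hc x (Set.mem_singleton x)
      -- x * c = c * x
      have h3 : c⁻¹ * x * c = x := by
        rw [mul_assoc, this, ← mul_assoc, inv_mul_cancel, one_mul]
      rw [h3]
      exact hxH
  · -- (2) → (3)
    intro h2 x hx hxH
    refine ⟨((1 : G) : G ⧸ H), ?_, ?_⟩
    · show x • ((1 : G) : G ⧸ H) = ((1 : G) : G ⧸ H)
      rw [fix_iff]; simpa using hxH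
    · intro c hc
      induction c using QuotientGroup.induction_on with
      | H g =>
        rw [fix_iff] at hc
        by_contra hne
        have hg : g ∉ H := by
          intro hg
          apply hne
          rw [QuotientGroup.eq]
          simpa using H.inv_mem hg
        exact h2 g hg x hx ⟨hxH, (mem_conj_iff H g x).mpr hc⟩
  · -- (3) → (2)
    intro h3 g hg x hx ⟨hxH, hxg⟩
    obtain ⟨c, _, huniq⟩ := h3 x hx hxH
    rw [mem_conj_iff] at hxg
    have e1 : ((1 : G) : G ⧸ H) = c := huniq _ (by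
      show x • ((1 : G) : G ⧸ H) = ((1 : G) : G ⧸ H)
      rw [fix_iff]; simpa using hxH)
    have e2 : ((g : G) : G ⧸ H) = c := huniq _ (by
      show x • ((g : G) : G ⧸ H) = ((g : G) : G ⧸ H)
      rw [fix_iff]; exact hxg)
    have : ((1 : G) : G ⧸ H) = ((g : G) : G ⧸ H) := e1.trans e2.symm
    rw [QuotientGroup.eq] at this
    apply hg
    simpa using this

end Cfsg.Agent.S5437
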