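import Cfsg.Statements.S5438
import Cfsg.Agent.S0060
import Cfsg.Agent.S1855
import Mathlib

set_option autoImplicit false
open Cfsg

namespace Cfsg.Agent.S5438

theorem result {G : Type*} [Group G] [Finite G] (z : G) (hz : Cfsg.IsTwoCentralInvolution z) (H : Subgroup G) (hzH : z ∈ H) (hfix : ∀ g : G, g⁻¹ * z * g ∈ H → g ∈ H) : Odd H.index ∧ ∀ x ∈ H, (∃ k : ℕ, orderOf x = 2 ^ k) → ∀ g : G, g * x * g⁻¹ ∈ H → ∃ h ∈ H, h * x * h⁻¹ = g * x * g⁻¹ := by
  haveI : Fact (Nat.Prime 2) := ⟨Nat.prime_two⟩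
  obtain ⟨hz2, P, hzP, hzc⟩ := hz
  have hzc' : ∀ y ∈ (P : Subgroup G), y * z = z * y := hzc
  -- P ≤ H
  have hPH : (P : Subgroup G) ≤ H := by
    intro y hy
    apply hfix
    have : y⁻¹ * z * y = z := by
      have h1 := hzc' y hy
      calc y⁻¹ * z * y = y⁻¹ * (z * y) := by group
        _ = y⁻¹ * (y * z) := by rw [h1]
        _ = z := by group
    rw [this]; exact hzH
  -- conjugates of z by elements of H have the fixed point property
  have hfix' : ∀ n ∈ H, ∀ g : G, g⁻¹ * (n * z * n⁻¹) * g ∈ H → g ∈ H := by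
    intro n hn g hg
    have h1 : (n⁻¹ * g)⁻¹ * z * (n⁻¹ * g) ∈ H := by
      have e : (n⁻¹ * g)⁻¹ * z * (n⁻¹ * g) = g⁻¹ * (n * z * n⁻¹) * g := by group
      rw [e]; exact hg
    have h2 := hfix _ h1
    have h3 := H.mul_mem hn h2
    have e : n * (n⁻¹ * g) = g := by group
    rw [e] at h3; exact h3
  -- every 2-element of H commutes with an H-conjugate of z
  have hcomm : ∀ x ∈ H, (∃ k : ℕ, orderOf x = 2 ^ k) → ∃ n ∈ H, (n * z * n⁻¹) * x = x * (n * z * n⁻¹) := by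
    intro x hx hxo
    obtain ⟨k, hk⟩ := hxo
    have hA : IsPGroup 2 (Subgroup.zpowers x) := by
      apply IsPGroup.of_card (n := k)
      rw [Nat.card_zpowers, hk]
    obtain ⟨n, hn, hnA⟩ := Cfsg.Agent.S0060.exists_conj_le P H (Subgroup.zpowers x) hPH
      (Subgroup.zpowers_le.mpr hx) hA
    refine ⟨n, hn, ?_⟩
    have h1 := hzc' _ (hnA x (Subgroup.mem_zpowers x))
    calc n * z * n⁻¹ * x = n * (z * (n⁻¹ * x * n)) * n⁻¹ := by group
      _ = n * ((n⁻¹ * x * n) * z) * n⁻¹ := by rw [h1]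
      _ = x * (n * z * n⁻¹) := by group
  constructor
  · have h1 : H.index ∣ (P : Subgroup G).index := Subgroup.index_dvd_of_le hPH
    have h2 : ¬ 2 ∣ (P : Subgroup G).index := P.not_dvd_index
    rw [← Nat.not_even_iff_odd, even_iff_two_dvd]
    intro h3
    exact h2 (dvd_trans h3 h1)
  · intro x hx hxo g hgx
    obtain ⟨n₁, hn₁, hc₁⟩ := hcomm x hx hxo
    have hxo' : ∃ k : ℕ, orderOf (g * x * g⁻¹) = 2 ^ k := by
      obtain ⟨k, hk⟩ := hxo
      refine ⟨k, ?_⟩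
      have := (MulAut.conj g).orderOf_eq x
      rw [MulAut.conj_apply] at this
      rw [this, hk]
    obtain ⟨n₂, hn₂, hc₂⟩ := hcomm (g * x * g⁻¹) hgx hxo'
    set z₁ := n₁ * z * n₁⁻¹ with hz₁
    set z₂ := n₂ * z * n₂⁻¹ with hz₂
    -- z₁ and g⁻¹ z₂ g lie in C(x)
    have hz₁C : z₁ ∈ Subgroup.centralizer ({x} : Set G) := by
      rw [Subgroup.mem_centralizer_iff]
      intro y hy
      rw [Set.mem_singleton_iff] at hy
      subst hy
      exact hc₁.symm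
    have hz₂C : g⁻¹ * z₂ * g ∈ Subgroup.centralizer ({x} : Set G) := by
      rw [Subgroup.mem_centralizer_iff]
      intro y hy
      rw [Set.mem_singleton_iff] at hy
      subst hy
      calc y * (g⁻¹ * z₂ * g) = g⁻¹ * ((g * y * g⁻¹) * z₂) * g := by group
        _ = g⁻¹ * (z₂ * (g * y * g⁻¹)) * g := by rw [hc₂]
        _ = g⁻¹ * z₂ * g * y := by group
    have ho₁ : orderOf z₁ = 2 := by
      have := (MulAut.conj n₁).orderOf_eq z
      rw [MulAut.conj_apply] at this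
      rw [hz₁, this, hz2]
    have ho₂ : orderOf (g⁻¹ * z₂ * g) = 2 := by
      have h1 := (MulAut.conj n₂).orderOf_eq z
      rw [MulAut.conj_apply] at h1
      have h2 := (MulAut.conj g⁻¹).orderOf_eq z₂
      rw [MulAut.conj_apply, inv_inv] at h2
      rw [h2, hz₂, h1, hz2]
    have hZ1 : IsPGroup 2 (Subgroup.zpowers z₁) := by
      apply IsPGroup.of_card (n := 1)
      rw [Nat.card_zpowers, ho₁, pow_one]
    have hZ2 : IsPGroup 2 (Subgroup.zpowers (g⁻¹ * z₂ * g)) := by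
      apply IsPGroup.of_card (n := 1)
      rw [Nat.card_zpowers, ho₂, pow_one]
    obtain ⟨R, hR, hZR, c, hcC, hc⟩ := Cfsg.Agent.S1855.exists_common_pgroup
      (Subgroup.centralizer ({x} : Set G)) _ _ hZ1 hZ2
      (Subgroup.zpowers_le.mpr hz₁C) (Subgroup.zpowers_le.mpr hz₂C)
    -- R ≤ b⁻¹ P b
    obtain ⟨b, hb⟩ := Cfsg.Agent.S1855.conj_into_sylow P R hR
    -- b z₁ b⁻¹ ∈ P commutes with z; so z' = b⁻¹ z b commutes with z₁
    have hz₁R : z₁ ∈ R := hZR (Subgroup.mem_zpowers z₁)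
    have h1 := hzc' _ (hb z₁ hz₁R)
    -- b ∈ H
    have hbH : b ∈ H := by
      have h2 : (b⁻¹ * z * b)⁻¹ * (n₁ * z * n₁⁻¹) * (b⁻¹ * z * b) ∈ H := by
        have e : (b⁻¹ * z * b)⁻¹ * z₁ * (b⁻¹ * z * b) = z₁ := by
          calc (b⁻¹ * z * b)⁻¹ * z₁ * (b⁻¹ * z * b)
              = b⁻¹ * z⁻¹ * ((b * z₁ * b⁻¹) * z) * b := by group
            _ = b⁻¹ * z⁻¹ * (z * (b * z₁ * b⁻¹)) * b := by rw [h1]
            _ = z₁ := by group
        rw [← hz₁, e]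
        exact H.mul_mem (H.mul_mem hn₁ hzH) (H.inv_mem hn₁)
      have h3 : b⁻¹ * z * b ∈ H := hfix' n₁ hn₁ _ h2
      exact hfix b h3
    -- w = c (g⁻¹ z₂ g) c⁻¹ ∈ R, so in H
    have hwR : c * (g⁻¹ * z₂ * g) * c⁻¹ ∈ R := hc _ (Subgroup.mem_zpowers _)
    have hwH : c * (g⁻¹ * z₂ * g) * c⁻¹ ∈ H := by
      have h2 : b * (c * (g⁻¹ * z₂ * g) * c⁻¹) * b⁻¹ ∈ H := hPH (hb _ hwR)
      have h3 := H.mul_mem (H.mul_mem (H.inv_mem hbH) h2) hbH
      have e : b⁻¹ * (b * (c * (g⁻¹ * z₂ * g) * c⁻¹) * b⁻¹) * b = c * (g⁻¹ * z₂ * g) * c⁻¹ := by group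
      rw [e] at h3; exact h3
    have huH : g * c⁻¹ ∈ H := by
      apply hfix' n₂ hn₂
      have e : (g * c⁻¹)⁻¹ * (n₂ * z * n₂⁻¹) * (g * c⁻¹) = c * (g⁻¹ * z₂ * g) * c⁻¹ := by
        rw [hz₂]; group
      rw [e]; exact hwH
    refine ⟨g * c⁻¹, huH, ?_⟩
    have hcx : x * c = c * x := by
      rw [Subgroup.mem_centralizer_iff] at hcC
      exact hcC x (Set.mem_singleton x)
    have e1 : c⁻¹ * x * c = x := by rw [mul_assoc, hcx]; group
    calc g * c⁻¹ * x * (g * c⁻¹)⁻¹ = g * (c⁻¹ * x * c) * g⁻¹ := by group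
      _ = g * x * g⁻¹ := by rw [e1]

end Cfsg.Agent.S5438
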