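import Cfsg.Statements.S5439
import Cfsg.Agent.S5437
import Cfsg.Agent.Lib.Helper18.Dihedral
import Mathlib

set_option autoImplicit false
open Cfsg

namespace Cfsg.Agent.S5439

theorem result {G : Type*} [Group G] [Finite G] (I J : Set G) (a₀ b₀ : G) (ha₀ : orderOf a₀ = 2) (hb₀ : orderOf b₀ = 2) (hI : I = {x | IsConj a₀ x}) (hJ : J = {x | IsConj b₀ x}) (hIJ : I ≠ J) (H : Subgroup G) (hfix : ∀ x ∈ I ∪ J, ∃! c : G ⧸ H, x • c = c) (hcent : ∀ a ∈ I, a ∈ H → ∀ b ∈ I ∪ J, b ∈ H → a ≠ b → a * b = b * a → Subgroup.centralizer ({a * b} : Set G) ≤ H) : H = ⊤ := by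
  have ha₀2 : a₀ * a₀ = 1 := by
    have := pow_orderOf_eq_one a₀
    rwa [ha₀, pow_two] at this
  have hb₀2 : b₀ * b₀ = 1 := by
    have := pow_orderOf_eq_one b₀
    rwa [hb₀, pow_two] at this
  have huniq : ∀ x ∈ I ∪ J, ∀ c d : G, c⁻¹ * x * c ∈ H → d⁻¹ * x * d ∈ H → c⁻¹ * d ∈ H := by
    intro x hx c d hc hd
    obtain ⟨q, hq, hqu⟩ := hfix x hx
    have h1 : (c : G ⧸ H) = q := hqu _ ((Cfsg.Agent.S5437.fix_iff H c x).mpr hc)
    have h2 : (d : G ⧸ H) = q := hqu _ ((Cfsg.Agent.S5437.fix_iff H d x).mpr hd)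
    have : (c : G ⧸ H) = (d : G ⧸ H) := h1.trans h2.symm
    exact QuotientGroup.eq.mp this
  have hex : ∀ x ∈ I ∪ J, ∃ c : G, c⁻¹ * x * c ∈ H := by
    intro x hx
    obtain ⟨q, hq, -⟩ := hfix x hx
    obtain ⟨c, rfl⟩ := QuotientGroup.mk_surjective q
    exact ⟨c, (Cfsg.Agent.S5437.fix_iff H c x).mp hq⟩
  have ha₀I : a₀ ∈ I := by rw [hI]; exact IsConj.refl a₀
  have hb₀J : b₀ ∈ J := by rw [hJ]; exact IsConj.refl b₀
  have hIconj : ∀ x ∈ I, ∀ g : G, g * x * g⁻¹ ∈ I := by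
    intro x hx g
    rw [hI] at hx ⊢
    exact IsConj.trans hx (isConj_iff.mpr ⟨g, rfl⟩)
  have hJconj : ∀ x ∈ J, ∀ g : G, g * x * g⁻¹ ∈ J := by
    intro x hx g
    rw [hJ] at hx ⊢
    exact IsConj.trans hx (isConj_iff.mpr ⟨g, rfl⟩)
  obtain ⟨c₁, hc₁⟩ := hex a₀ (Or.inl ha₀I)
  obtain ⟨c₂, hc₂⟩ := hex b₀ (Or.inr hb₀J)
  set a := c₁⁻¹ * a₀ * c₁ with ha
  set b' := c₂⁻¹ * b₀ * c₂ with hb'
  have haI : a ∈ I := by
    have := hIconj a₀ ha₀I c₁⁻¹
    rwa [inv_inv] at this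
  have hb'J : b' ∈ J := by
    have := hJconj b₀ hb₀J c₂⁻¹
    rwa [inv_inv] at this
  have ha2 : a * a = 1 := by
    rw [ha]
    calc c₁⁻¹ * a₀ * c₁ * (c₁⁻¹ * a₀ * c₁) = c₁⁻¹ * (a₀ * a₀) * c₁ := by group
      _ = 1 := by rw [ha₀2]; group
  have hb'2 : b' * b' = 1 := by
    rw [hb']
    calc c₂⁻¹ * b₀ * c₂ * (c₂⁻¹ * b₀ * c₂) = c₂⁻¹ * (b₀ * b₀) * c₂ := by group
      _ = 1 := by rw [hb₀2]; group
  rw [eq_top_iff]
  intro g _
  set b := g * b' * g⁻¹ with hb
  have hbJ : b ∈ J := hJconj b' hb'J g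
  have hb2 : b * b = 1 := by
    rw [hb]
    calc g * b' * g⁻¹ * (g * b' * g⁻¹) = g * (b' * b') * g⁻¹ := by group
      _ = 1 := by rw [hb'2]; group
  have hab_nc : ¬ IsConj a b := by
    intro hcon
    apply hIJ
    have h1 : IsConj a₀ a := by rw [hI] at haI; exact haI
    have h2 : IsConj b₀ b := by rw [hJ] at hbJ; exact hbJ
    have h3 : IsConj a₀ b₀ := (h1.trans hcon).trans h2.symm
    rw [hI, hJ]
    ext x
    simp only [Set.mem_ofPred_eq]
    exact ⟨fun h => h3.symm.trans h, fun h => h3.trans h⟩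
  rcases Nat.even_or_odd' (orderOf (a * b)) with ⟨m, hm | hm⟩
  · have hm0 : 0 < m := by
      have := orderOf_pos (a * b)
      omega
    obtain ⟨hw2, hw1, hcz, hcu, hconj⟩ :=
      Cfsg.Agent.Lib.Helper18.central_involution ha2 hb2 m hm hm0
    set w := (a * b) ^ m with hw
    have hwa : w⁻¹ * a * w = a := by
      have := hcz.eq
      calc w⁻¹ * a * w = w⁻¹ * (a * w) := by group
        _ = w⁻¹ * (w * a) := by rw [this]
        _ = a := by group
    have hwH : w ∈ H := by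
      have := huniq a (Or.inl haI) 1 w (by simpa using hc₁) (by rw [hwa]; exact hc₁)
      simpa using this
    have hawIJ : a * w ∈ I ∪ J := by
      rcases hconj with ⟨t, ht⟩ | ⟨t, ht⟩
      · left; rw [← ht]; exact hIconj a haI t
      · right; rw [← ht]; exact hJconj b hbJ t
    have hawH : a * w ∈ H := H.mul_mem hc₁ hwH
    have hne : a ≠ a * w := by
      intro h
      apply hw1
      have : a * 1 = a * w := by rw [mul_one]; exact h
      exact (mul_left_cancel this).symm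
    have hcomm : a * (a * w) = (a * w) * a := by
      have h1 : a * w = w * a := hcz.eq
      calc a * (a * w) = a * (w * a) := by rw [h1]
        _ = a * w * a := (mul_assoc a w a).symm
    have hC := hcent a haI hc₁ (a * w) hawIJ hawH hne hcomm
    have haw : a * (a * w) = w := by rw [← mul_assoc, ha2, one_mul]
    rw [haw] at hC
    have hbC : b ∈ Subgroup.centralizer ({w} : Set G) := by
      rw [Subgroup.mem_centralizer_iff]
      intro y hy
      rw [Set.mem_singleton_iff] at hy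
      subst hy
      exact hcu.eq.symm
    have hbH : b ∈ H := hC hbC
    have hgb : g⁻¹ * b * g = b' := by rw [hb]; group
    have := huniq b (Or.inr hbJ) 1 g (by simpa using hbH) (by rw [hgb]; exact hc₂)
    simpa using this
  · exfalso
    have := Cfsg.Agent.Lib.Helper18.conj_of_odd_order ha2 hb2 m
      (by rw [← hm]; exact pow_orderOf_eq_one _)
    exact hab_nc (isConj_iff.mpr ⟨(a * b) ^ m, this⟩)

end Cfsg.Agent.S5439
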