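import Cfsg.Statements.S5459
import Mathlib
-- import your own Cfsg.Agent.* helpers here

set_option autoImplicit false
open Cfsg

namespace Cfsg.Agent.S5459

open scoped commutatorElement

theorem mem_conj_iff {T : Type*} [Group T] (d a : T) :
    a ∈ conjugatesOf d ↔ ∃ g, g * d * g⁻¹ = a := isConj_iff

/-- commutators are unchanged by central factors -/
theorem comm_central {T : Type*} [Group T] (k₁ k₂ z₁ z₂ : T)
    (h1 : ∀ t : T, z₁ * t = t * z₁) (h2 : ∀ t : T, z₂ * t = t * z₂) :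
    ⁅k₁ * z₁, k₂ * z₂⁆ = ⁅k₁, k₂⁆ := by
  rw [commutatorElement_def, commutatorElement_def]
  have e1 : (k₁ * z₁)⁻¹ = z₁⁻¹ * k₁⁻¹ := mul_inv_rev _ _
  have e2 : (k₂ * z₂)⁻¹ = z₂⁻¹ * k₂⁻¹ := mul_inv_rev _ _
  have h1' : ∀ t : T, z₁⁻¹ * t = t * z₁⁻¹ := by
    intro t
    have := h1 t
    calc z₁⁻¹ * t = z₁⁻¹ * (t * z₁) * z₁⁻¹ := by group
      _ = z₁⁻¹ * (z₁ * t) * z₁⁻¹ := by rw [this]
      _ = t * z₁⁻¹ := by group
  have h2' : ∀ t : T, z₂⁻¹ * t = t * z₂⁻¹ := by
    intro t
    have := h2 t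
    calc z₂⁻¹ * t = z₂⁻¹ * (t * z₂) * z₂⁻¹ := by group
      _ = z₂⁻¹ * (z₂ * t) * z₂⁻¹ := by rw [this]
      _ = t * z₂⁻¹ := by group
  rw [e1, e2]
  calc k₁ * z₁ * (k₂ * z₂) * (z₁⁻¹ * k₁⁻¹) * (z₂⁻¹ * k₂⁻¹)
      = k₁ * (z₁ * (k₂ * z₂ * z₁⁻¹)) * k₁⁻¹ * (z₂⁻¹ * k₂⁻¹) := by group
    _ = k₁ * ((k₂ * z₂ * z₁⁻¹) * z₁) * k₁⁻¹ * (z₂⁻¹ * k₂⁻¹) := by rw [h1]
    _ = k₁ * k₂ * (z₂ * k₁⁻¹) * (z₂⁻¹ * k₂⁻¹) := by group
    _ = k₁ * k₂ * (k₁⁻¹ * z₂) * (z₂⁻¹ * k₂⁻¹) := by rw [h2]
    _ = k₁ * k₂ * k₁⁻¹ * k₂⁻¹ := by group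

theorem perfect_eq_top {T : Type*} [Group T] (hperf : commutator T = ⊤) (K : Subgroup T)
    (h : ∀ l : T, ∃ k ∈ K, ∃ z ∈ Subgroup.center T, l = k * z) : K = ⊤ := by
  rw [eq_top_iff, ← hperf, commutator_def, Subgroup.commutator_le]
  intro x _ y _
  obtain ⟨k₁, hk₁, z₁, hz₁, rfl⟩ := h x
  obtain ⟨k₂, hk₂, z₂, hz₂, rfl⟩ := h y
  rw [comm_central k₁ k₂ z₁ z₂ (fun t => (Subgroup.mem_center_iff.mp hz₁ t).symm)
    (fun t => (Subgroup.mem_center_iff.mp hz₂ t).symm)]
  exact Subgroup.commutator_mem_commutator hk₁ hk₂ |> fun hc =>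
    (Subgroup.commutator_le_self K) hc

theorem core {G : Type*} [Group G] [Finite G] (L : Subgroup G) [hLn : L.Normal]
    (hL : Cfsg.IsQuasisimple ↥L) (d : G) (hd2 : d * d = 1)
    (hgen : L ⊔ Subgroup.zpowers d = ⊤)
    [hn : ((Subgroup.center ↥L).map L.subtype).Normal] (D₀ : Set G)
    (hD₀D : D₀ ⊆ conjugatesOf d) (G1 : d ∈ D₀)
    (G2 : ∀ a ∈ conjugatesOf d, ∃ c ∈ D₀, c⁻¹ * a ∈ (Subgroup.center ↥L).map L.subtype)
    (G3 : ∀ a ∈ D₀, ∀ c ∈ D₀, a * c * a⁻¹ ∈ D₀) : ∀ g : G, g * d * g⁻¹ ∈ D₀ := by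
  classical
  obtain ⟨hperf, hsimple⟩ := hL
  have hZL : (Subgroup.center ↥L).map L.subtype ≤ L := Subgroup.map_subtype_le _
  -- elements of `D₀` are involutions
  have hinvol : ∀ a ∈ D₀, a⁻¹ = a := by
    intro a ha
    obtain ⟨g, rfl⟩ := (mem_conj_iff d a).mp (hD₀D ha)
    apply inv_eq_of_mul_eq_one_right
    calc g * d * g⁻¹ * (g * d * g⁻¹) = g * (d * d) * g⁻¹ := by group
      _ = 1 := by rw [hd2]; group
  -- `H` normalizes `D₀`
  have hHnorm : ∀ h ∈ Subgroup.closure D₀, (∀ c ∈ D₀, h * c * h⁻¹ ∈ D₀) ∧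
      (∀ c ∈ D₀, h⁻¹ * c * h ∈ D₀) := by
    intro h hh
    induction hh using Subgroup.closure_induction with
    | mem a ha =>
      refine ⟨G3 a ha, fun c hc => ?_⟩
      have := G3 a ha c hc
      rw [hinvol a ha] at this ⊢
      exact this
    | one => exact ⟨fun c hc => by simpa using hc, fun c hc => by simpa using hc⟩
    | mul x y _ _ ihx ihy =>
      refine ⟨fun c hc => ?_, fun c hc => ?_⟩
      · have := ihx.1 _ (ihy.1 c hc)
        have e : x * y * c * (x * y)⁻¹ = x * (y * c * y⁻¹) * x⁻¹ := by group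
        rw [e]; exact this
      · have := ihy.2 _ (ihx.2 c hc)
        have e : (x * y)⁻¹ * c * (x * y) = y⁻¹ * (x⁻¹ * c * x) * y := by group
        rw [e]; exact this
    | inv x _ ihx =>
      refine ⟨fun c hc => ?_, fun c hc => ?_⟩
      · have := ihx.2 c hc
        rwa [inv_inv]
      · have := ihx.1 c hc
        rwa [inv_inv]
  -- it suffices that `closure D₀ = ⊤`, or that `d` is central
  by_cases hcase : ∀ l ∈ L, d * l = l * d
  · -- `d` central
    intro g
    have hle : L ⊔ Subgroup.zpowers d ≤ Subgroup.centralizer ({d} : Set G) := by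
      apply sup_le
      · intro l hl
        rw [Subgroup.mem_centralizer_iff]
        intro h hh; rw [Set.mem_singleton_iff.mp hh]; exact hcase l hl
      · rw [Subgroup.zpowers_le, Subgroup.mem_centralizer_iff]
        intro h hh; rw [Set.mem_singleton_iff.mp hh]
    rw [hgen] at hle
    have hg := Subgroup.mem_centralizer_iff.mp (hle (Subgroup.mem_top g)) d rfl
    have : g * d * g⁻¹ = d := by rw [← hg]; group
    rw [this]; exact G1
  · -- main case
    have hN : Subgroup.normalClosure ({d} : Set G) ≤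
        Subgroup.closure D₀ ⊔ (Subgroup.center ↥L).map L.subtype := by
      unfold Subgroup.normalClosure
      rw [Subgroup.closure_le]
      intro a ha
      have haD : a ∈ conjugatesOf d := by
        rw [Group.mem_conjugatesOfSet_iff] at ha
        obtain ⟨x, hx, hxa⟩ := ha
        rw [Set.mem_singleton_iff.mp hx] at hxa
        exact hxa
      obtain ⟨c, hc, hca⟩ := G2 a haD
      have : a = c * (c⁻¹ * a) := by group
      rw [this]
      exact Subgroup.mul_mem _ (Subgroup.mem_sup_left (Subgroup.subset_closure hc))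
        (Subgroup.mem_sup_right hca)
    have hdN : d ∈ Subgroup.normalClosure ({d} : Set G) :=
      Subgroup.subset_normalClosure rfl
    -- dichotomy
    have hMn : ((Subgroup.normalClosure ({d} : Set G) ⊓ L).subgroupOf L).Normal := by
      have : (Subgroup.normalClosure ({d} : Set G) ⊓ L).Normal := inferInstance
      infer_instance
    have hπ : Function.Surjective (QuotientGroup.mk' (Subgroup.center ↥L)) :=
      QuotientGroup.mk'_surjective _
    have hMn' := hMn.map (QuotientGroup.mk' (Subgroup.center ↥L)) hπ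
    rcases hMn'.eq_bot_or_eq_top with hbot | htop
    · -- N ⊓ L ≤ Z, so d centralizes L: contradiction
      exfalso
      apply hcase
      have hMZ : ∀ x ∈ Subgroup.normalClosure ({d} : Set G) ⊓ L,
          x ∈ (Subgroup.center ↥L).map L.subtype := by
        intro x hx
        rw [Subgroup.map_eq_bot_iff, QuotientGroup.ker_mk'] at hbot
        have : (⟨x, hx.2⟩ : ↥L) ∈ Subgroup.center ↥L :=
          hbot (Subgroup.mem_subgroupOf.mpr hx)
        exact ⟨⟨x, hx.2⟩, this, rfl⟩
      have hZc : ∀ z ∈ (Subgroup.center ↥L).map L.subtype, ∀ l ∈ L, z * l = l * z := by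
        rintro _ ⟨z, hz, rfl⟩ l hl
        have := Subgroup.mem_center_iff.mp hz ⟨l, hl⟩
        exact (congrArg Subtype.val this).symm
      have hdl : ∀ l ∈ L, d * l * d⁻¹ * l⁻¹ ∈ (Subgroup.center ↥L).map L.subtype := by
        intro l hl
        apply hMZ
        constructor
        · have h1 : l * d⁻¹ * l⁻¹ ∈ Subgroup.normalClosure ({d} : Set G) :=
            Subgroup.normalClosure_normal.conj_mem _ (Subgroup.inv_mem _ hdN) l
          have : d * l * d⁻¹ * l⁻¹ = d * (l * d⁻¹ * l⁻¹) := by group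
          rw [this]; exact Subgroup.mul_mem _ hdN h1
        · exact L.mul_mem (hLn.conj_mem l hl d) (L.inv_mem hl)
      -- d centralizes all commutators of L
      have hcomm : ∀ x : ↥L, ∀ y : ↥L, d * (⁅x, y⁆ : ↥L) = (⁅x, y⁆ : ↥L) * d := by
        intro x y
        have hx := hdl x x.2
        have hy := hdl y y.2
        have e1 : d * (x : G) * d⁻¹ = (x : G) * ((x : G)⁻¹ * (d * x * d⁻¹ * (x : G)⁻¹) * x) := by
          group
        have hzx : (x : G)⁻¹ * (d * x * d⁻¹ * (x : G)⁻¹) * x ∈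
            (Subgroup.center ↥L).map L.subtype := by
          have := hZc _ hx x x.2
          have e : (x : G)⁻¹ * (d * x * d⁻¹ * (x : G)⁻¹) * x = d * x * d⁻¹ * (x : G)⁻¹ := by
            rw [mul_assoc, this]; group
          rw [e]; exact hx
        have e2 : d * (y : G) * d⁻¹ = (y : G) * ((y : G)⁻¹ * (d * y * d⁻¹ * (y : G)⁻¹) * y) := by
          group
        have hzy : (y : G)⁻¹ * (d * y * d⁻¹ * (y : G)⁻¹) * y ∈
            (Subgroup.center ↥L).map L.subtype := by
          have := hZc _ hy y y.2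
          have e : (y : G)⁻¹ * (d * y * d⁻¹ * (y : G)⁻¹) * y = d * y * d⁻¹ * (y : G)⁻¹ := by
            rw [mul_assoc, this]; group
          rw [e]; exact hy
        obtain ⟨zx', hzx'c, hzx'e⟩ := hzx
        obtain ⟨zy', hzy'c, hzy'e⟩ := hzy
        have h3 := comm_central x y zx' zy'
          (fun t => (Subgroup.mem_center_iff.mp hzx'c t).symm)
          (fun t => (Subgroup.mem_center_iff.mp hzy'c t).symm)
        have h4 : ((⁅x * zx', y * zy'⁆ : ↥L) : G) = ⁅d * (x : G) * d⁻¹, d * (y : G) * d⁻¹⁆ := by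
          rw [e1, e2, ← hzx'e, ← hzy'e]
          exact map_commutatorElement L.subtype _ _
        have h5 : d * ⁅(x : G), (y : G)⁆ * d⁻¹ = ⁅d * (x : G) * d⁻¹, d * (y : G) * d⁻¹⁆ :=
          map_commutatorElement (MulAut.conj d).toMonoidHom (x : G) (y : G)
        have h6 : ((⁅x, y⁆ : ↥L) : G) = ⁅(x : G), (y : G)⁆ := map_commutatorElement L.subtype _ _
        have h7 : d * ((⁅x, y⁆ : ↥L) : G) * d⁻¹ = ((⁅x, y⁆ : ↥L) : G) := by
          rw [h6, h5, ← h4, h3, h6]
        calc d * ((⁅x, y⁆ : ↥L) : G) = (d * ((⁅x, y⁆ : ↥L) : G) * d⁻¹) * d := by group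
          _ = ((⁅x, y⁆ : ↥L) : G) * d := by rw [h7]
      have hC : commutator ↥L ≤ (Subgroup.centralizer ({d} : Set G)).subgroupOf L := by
        rw [commutator_def, Subgroup.commutator_le]
        intro x _ y _
        rw [Subgroup.mem_subgroupOf, Subgroup.mem_centralizer_iff]
        intro h hh; rw [Set.mem_singleton_iff.mp hh]; exact hcomm x y
      rw [hperf.commutator_eq_top] at hC
      intro l hl
      have := hC (Subgroup.mem_top (⟨l, hl⟩ : ↥L))
      rw [Subgroup.mem_subgroupOf, Subgroup.mem_centralizer_iff] at this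
      exact this d rfl
    · -- L ≤ N
      have hM'top : (Subgroup.normalClosure ({d} : Set G) ⊓ L).subgroupOf L = ⊤ := by
        apply perfect_eq_top hperf.commutator_eq_top
        intro l
        have hl : QuotientGroup.mk' (Subgroup.center ↥L) l ∈
            ((Subgroup.normalClosure ({d} : Set G) ⊓ L).subgroupOf L).map
              (QuotientGroup.mk' (Subgroup.center ↥L)) := by
          rw [htop]; exact Subgroup.mem_top _
        obtain ⟨k, hk, hkl⟩ := hl
        refine ⟨k, hk, k⁻¹ * l, ?_, by group⟩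
        exact QuotientGroup.eq.mp hkl
      have hLN : L ≤ Subgroup.normalClosure ({d} : Set G) := by
        intro l hl
        have := Subgroup.subgroupOf_eq_top.mp hM'top
        exact (this hl).1
      have hLHZ : L ≤ Subgroup.closure D₀ ⊔ (Subgroup.center ↥L).map L.subtype := hLN.trans hN
      have hK₂ : (Subgroup.closure D₀ ⊓ L).subgroupOf L = ⊤ := by
        apply perfect_eq_top hperf.commutator_eq_top
        intro l
        obtain ⟨h, hh, w, hw, hhw⟩ := Subgroup.mem_sup_of_normal_right.mp (hLHZ l.2)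
        obtain ⟨z', hz'c, hz'e⟩ := hw
        have hhL : h ∈ L := by
          have : h = (l : G) * w⁻¹ := by rw [← hhw]; group
          rw [this]; exact L.mul_mem l.2 (L.inv_mem (hz'e ▸ z'.2))
        refine ⟨⟨h, hhL⟩, Subgroup.mem_subgroupOf.mpr ⟨hh, hhL⟩, z', hz'c, ?_⟩
        apply Subtype.ext
        rw [Subgroup.coe_mul]
        show (l : G) = h * (z' : G)
        have : (z' : G) = w := hz'e
        rw [this, hhw]
      have hLH : L ≤ Subgroup.closure D₀ := by
        intro l hl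
        have := Subgroup.subgroupOf_eq_top.mp hK₂
        exact (this hl).1
      have hHtop : Subgroup.closure D₀ = ⊤ := by
        rw [eq_top_iff, ← hgen]
        exact sup_le hLH (Subgroup.zpowers_le.mpr (Subgroup.subset_closure G1))
      intro g
      exact (hHnorm g (by rw [hHtop]; exact Subgroup.mem_top g)).1 d G1

/-- conjugation by `g` as a graph homomorphism of the commuting graph on a conjugacy class -/
def conjHom {T : Type*} [Group T] (d g : T) :
    Cfsg.commutingGraph (conjugatesOf d) →g Cfsg.commutingGraph (conjugatesOf d) where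
  toFun x := ⟨g * x * g⁻¹, by
    obtain ⟨u, hu⟩ := (mem_conj_iff d x).mp x.2
    exact (mem_conj_iff d _).mpr ⟨g * u, by rw [← hu]; group⟩⟩
  map_rel' := by
    intro x y h
    unfold Cfsg.commutingGraph at h ⊢
    rw [SimpleGraph.fromRel_adj] at h ⊢
    obtain ⟨hne, hc⟩ := h
    refine ⟨?_, ?_⟩
    · intro heq
      apply hne
      apply Subtype.ext
      have h1 : g * (x : T) * g⁻¹ = g * (y : T) * g⁻¹ := congrArg Subtype.val heq
      calc (x : T) = g⁻¹ * (g * x * g⁻¹) * g := by group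
        _ = g⁻¹ * (g * y * g⁻¹) * g := by rw [h1]
        _ = y := by group
    · have hc' : Commute (x : T) (y : T) := hc.elim id Commute.symm
      left
      have := hc'.map (MulAut.conj g)
      simpa [MulAut.conj_apply] using this

theorem conjHom_apply {T : Type*} [Group T] (d g : T) (x : ↥(conjugatesOf d)) :
    ((conjHom d g x : ↥(conjugatesOf d)) : T) = g * x * g⁻¹ := rfl

/-- Let G be a finite group with a quasisimple normal subgroup L and an involution d such that G is generated by L and d, the centre of L has odd order, and d inverts every element of the centre of L. If the commuting graph on the conjugacy class of the image of d in G modulo the centre of L is connected, then the commuting graph on the conjugacy class of d is connected. -/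
theorem result {G : Type*} [Group G] [Finite G] (L : Subgroup G) [L.Normal] (hL : Cfsg.IsQuasisimple ↥L) (d : G) (hd : orderOf d = 2) (hgen : L ⊔ Subgroup.zpowers d = ⊤) (hodd : Odd (Nat.card ↥(Subgroup.center ↥L))) (hinv : ∀ c ∈ (Subgroup.center ↥L).map L.subtype, d * c * d⁻¹ = c⁻¹) [hn : ((Subgroup.center ↥L).map L.subtype).Normal] (hconn : (Cfsg.commutingGraph (conjugatesOf (QuotientGroup.mk d : G ⧸ (Subgroup.center ↥L).map L.subtype))).Connected) : (Cfsg.commutingGraph (conjugatesOf d)).Connected := by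
  classical
  have hd2 : d * d = 1 := by rw [← pow_two, ← hd]; exact pow_orderOf_eq_one d
  have hdinv : d⁻¹ = d := inv_eq_of_mul_eq_one_right hd2
  have hZodd : Odd (Nat.card ↥((Subgroup.center ↥L).map L.subtype)) := by
    rw [Subgroup.card_map_of_injective L.subtype_injective]; exact hodd
  have hsqrt : ∀ c ∈ (Subgroup.center ↥L).map L.subtype,
      ∃ w ∈ (Subgroup.center ↥L).map L.subtype, w⁻¹ * w⁻¹ = c := by
    intro c hc
    obtain ⟨k, hk⟩ := hZodd
    refine ⟨c ^ k, Subgroup.pow_mem _ hc k, ?_⟩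
    have h1 : c ^ (2 * k + 1) = 1 := by
      have := pow_card_eq_one' (G := ↥((Subgroup.center ↥L).map L.subtype)) (x := ⟨c, hc⟩)
      rw [hk] at this
      simpa using congrArg Subtype.val this
    have h2 : c ^ k * c ^ k * c = 1 := by
      rw [← pow_add, ← pow_succ]
      have : k + k + 1 = 2 * k + 1 := by ring
      rw [this]; exact h1
    rw [← mul_inv_rev]; exact inv_eq_of_mul_eq_one_right h2
  -- facts on the class D
  have hDinv : ∀ a ∈ conjugatesOf d, ∀ c ∈ (Subgroup.center ↥L).map L.subtype,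
      a * c * a⁻¹ = c⁻¹ := by
    intro a ha c hc
    obtain ⟨g, rfl⟩ := (mem_conj_iff d a).mp ha
    have h1 : g⁻¹ * c * g ∈ (Subgroup.center ↥L).map L.subtype := hn.conj_mem' c hc g
    have h2 := hinv _ h1
    calc g * d * g⁻¹ * c * (g * d * g⁻¹)⁻¹ = g * (d * (g⁻¹ * c * g) * d⁻¹) * g⁻¹ := by group
      _ = g * (g⁻¹ * c * g)⁻¹ * g⁻¹ := by rw [h2]
      _ = c⁻¹ := by group
  have hDsq : ∀ a ∈ conjugatesOf d, a⁻¹ = a := by
    intro a ha
    obtain ⟨g, rfl⟩ := (mem_conj_iff d a).mp ha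
    apply inv_eq_of_mul_eq_one_right
    calc g * d * g⁻¹ * (g * d * g⁻¹) = g * (d * d) * g⁻¹ := by group
      _ = 1 := by rw [hd2]; group
  have hDZ : ∀ a ∈ conjugatesOf d, ∀ w ∈ (Subgroup.center ↥L).map L.subtype,
      a * w ∈ conjugatesOf d := by
    intro a ha w hw
    obtain ⟨u, hu, huw⟩ := hsqrt w hw
    have h1 := hDinv a ha u hu
    have h2 : u * a * u⁻¹ = a * w := by
      have h3 : a⁻¹ * u * a = u⁻¹ := by
        have := hDsq a ha
        calc a⁻¹ * u * a = a * u * a⁻¹ := by rw [this]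
          _ = u⁻¹ := h1
      calc u * a * u⁻¹ = a * (a⁻¹ * u * a) * u⁻¹ := by group
        _ = a * u⁻¹ * u⁻¹ := by rw [h3]
        _ = a * (u⁻¹ * u⁻¹) := by group
        _ = a * w := by rw [huw]
    obtain ⟨g, rfl⟩ := (mem_conj_iff d a).mp ha
    rw [← h2]
    exact (mem_conj_iff d _).mpr ⟨u * g, by group⟩
  -- edge lifting
  have hedge : ∀ a ∈ conjugatesOf d, ∀ b ∈ conjugatesOf d,
      Commute (QuotientGroup.mk' ((Subgroup.center ↥L).map L.subtype) a)
        (QuotientGroup.mk' ((Subgroup.center ↥L).map L.subtype) b) →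
      ∃ w ∈ (Subgroup.center ↥L).map L.subtype, Commute a (b * w) := by
    intro a ha b hb hc
    have h0 : QuotientGroup.mk' ((Subgroup.center ↥L).map L.subtype) (b * a) =
        QuotientGroup.mk' ((Subgroup.center ↥L).map L.subtype) (a * b) := by
      rw [map_mul, map_mul]; exact hc.eq.symm
    have hc' : (b * a)⁻¹ * (a * b) ∈ (Subgroup.center ↥L).map L.subtype :=
      QuotientGroup.eq.mp h0
    obtain ⟨w, hw, hww⟩ := hsqrt _ hc'
    refine ⟨w, hw, ?_⟩
    have h1 : w * a = a * w⁻¹ := by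
      have := hDinv a ha w⁻¹ (Subgroup.inv_mem _ hw)
      rw [inv_inv] at this
      calc w * a = (a * w⁻¹ * a⁻¹) * a := by rw [this]
        _ = a * w⁻¹ := by group
    show a * (b * w) = b * w * a
    calc a * (b * w) = (b * a) * ((b * a)⁻¹ * (a * b)) * w := by group
      _ = (b * a) * (w⁻¹ * w⁻¹) * w := by rw [hww]
      _ = b * (a * w⁻¹) := by group
      _ = b * (w * a) := by rw [h1]
      _ = b * w * a := by group
  -- the component of d
  obtain ⟨d₀, hd₀⟩ : ∃ d₀ : ↥(conjugatesOf d), (d₀ : G) = d := ⟨⟨d, mem_conjugatesOf_self⟩, rfl⟩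
  obtain ⟨D₀, hD₀⟩ : ∃ D₀ : Set G, D₀ = {a | ∃ h : a ∈ conjugatesOf d,
      (Cfsg.commutingGraph (conjugatesOf d)).Reachable d₀ ⟨a, h⟩} := ⟨_, rfl⟩
  have hD₀D : D₀ ⊆ conjugatesOf d := by rw [hD₀]; rintro a ⟨h, -⟩; exact h
  have G1 : d ∈ D₀ := by
    rw [hD₀]
    refine ⟨mem_conjugatesOf_self, ?_⟩
    have : (⟨d, mem_conjugatesOf_self⟩ : ↥(conjugatesOf d)) = d₀ := Subtype.ext hd₀.symm
    rw [this]
  have G3 : ∀ a ∈ D₀, ∀ c ∈ D₀, a * c * a⁻¹ ∈ D₀ := by
    intro a ha c hc
    rw [hD₀] at ha hc ⊢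
    obtain ⟨ha', hra⟩ := ha
    obtain ⟨hc', hrc⟩ := hc
    have h1 := hra.map (conjHom d a)
    have h2 := hrc.map (conjHom d a)
    have h3 : conjHom d a ⟨a, ha'⟩ = ⟨a, ha'⟩ := by
      apply Subtype.ext; rw [conjHom_apply]; show a * a * a⁻¹ = a; group
    rw [h3] at h1
    have h4 : conjHom d a ⟨c, hc'⟩ = ⟨a * c * a⁻¹, (conjHom d a ⟨c, hc'⟩).2⟩ :=
      Subtype.ext (conjHom_apply d a _)
    rw [h4] at h2
    exact ⟨_, (hra.trans h1.symm).trans h2⟩
  have G2 : ∀ a ∈ conjugatesOf d, ∃ c ∈ D₀, c⁻¹ * a ∈ (Subgroup.center ↥L).map L.subtype := by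
    have lift : ∀ (x y : ↥(conjugatesOf (QuotientGroup.mk d : G ⧸ (Subgroup.center ↥L).map L.subtype)))
        (p : (Cfsg.commutingGraph (conjugatesOf
          (QuotientGroup.mk d : G ⧸ (Subgroup.center ↥L).map L.subtype))).Walk x y),
        (∃ a : ↥(conjugatesOf d), (Cfsg.commutingGraph (conjugatesOf d)).Reachable d₀ a ∧
          (QuotientGroup.mk (a : G) : G ⧸ (Subgroup.center ↥L).map L.subtype) = x) →
        (∃ a : ↥(conjugatesOf d), (Cfsg.commutingGraph (conjugatesOf d)).Reachable d₀ a ∧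
          (QuotientGroup.mk (a : G) : G ⧸ (Subgroup.center ↥L).map L.subtype) = y) := by
      intro x y p
      induction p with
      | nil => exact id
      | cons h p ih =>
        rename_i u v w'
        intro hx
        apply ih
        obtain ⟨a, hra, hax⟩ := hx
        unfold Cfsg.commutingGraph at h
        rw [SimpleGraph.fromRel_adj] at h
        obtain ⟨hne, hc⟩ := h
        obtain ⟨gbar, hgbar⟩ := (mem_conj_iff _ _).mp v.2
        obtain ⟨g, rfl⟩ := QuotientGroup.mk_surjective gbar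
        have hb : g * d * g⁻¹ ∈ conjugatesOf d := (mem_conj_iff d _).mpr ⟨g, rfl⟩
        have hbv : (QuotientGroup.mk (g * d * g⁻¹) : G ⧸ (Subgroup.center ↥L).map L.subtype) = v := by
          rw [← hgbar]; rfl
        have hcomm : Commute (QuotientGroup.mk' ((Subgroup.center ↥L).map L.subtype) (a : G))
            (QuotientGroup.mk' ((Subgroup.center ↥L).map L.subtype) (g * d * g⁻¹)) := by
          show Commute (QuotientGroup.mk (a : G) : G ⧸ (Subgroup.center ↥L).map L.subtype)
            (QuotientGroup.mk (g * d * g⁻¹))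
          rw [hax, hbv]
          exact hc.elim id Commute.symm
        obtain ⟨w, hw, hcw⟩ := hedge a a.2 _ hb hcomm
        have hb' := hDZ _ hb w hw
        have hb'v : (QuotientGroup.mk (g * d * g⁻¹ * w) : G ⧸ (Subgroup.center ↥L).map L.subtype) = v := by
          rw [QuotientGroup.mk_mul, (QuotientGroup.eq_one_iff w).mpr hw, mul_one, hbv]
        refine ⟨⟨g * d * g⁻¹ * w, hb'⟩, hra.trans (SimpleGraph.Adj.reachable ?_), hb'v⟩
        unfold Cfsg.commutingGraph
        rw [SimpleGraph.fromRel_adj]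
        refine ⟨?_, Or.inl hcw⟩
        intro heq
        apply hne
        apply Subtype.ext
        rw [← hax, ← hb'v, heq]
    intro a ha
    have habar : (QuotientGroup.mk a : G ⧸ (Subgroup.center ↥L).map L.subtype) ∈
        conjugatesOf (QuotientGroup.mk d : G ⧸ (Subgroup.center ↥L).map L.subtype) := by
      obtain ⟨g, rfl⟩ := (mem_conj_iff d a).mp ha
      exact (mem_conj_iff _ _).mpr ⟨QuotientGroup.mk g, rfl⟩
    obtain ⟨p⟩ := hconn.preconnected ⟨_, mem_conjugatesOf_self⟩ ⟨_, habar⟩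
    obtain ⟨c, hrc, hca⟩ := lift _ _ p ⟨d₀, SimpleGraph.Reachable.refl _, by rw [hd₀]⟩
    refine ⟨c, ?_, ?_⟩
    · rw [hD₀]; exact ⟨c.2, hrc⟩
    · exact QuotientGroup.eq.mp hca
  have hmain := core L hL d hd2 hgen D₀ hD₀D G1 G2 G3
  rw [SimpleGraph.connected_iff_exists_forall_reachable]
  refine ⟨d₀, fun x => ?_⟩
  obtain ⟨g, hg⟩ := (mem_conj_iff d x).mp x.2
  have := hmain g
  rw [hD₀, hg] at this
  obtain ⟨h', hr⟩ := this
  exact hr

end Cfsg.Agent.S5459
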