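import Cfsg.Statements.S5521
import Cfsg.Agent.Lib.Helper21.GolayTrans5

set_option autoImplicit false
open Cfsg
open Cfsg.Agent.Lib.Helper21

namespace Cfsg.Agent.S5521

/-- The Mathieu group M₂₄ in its natural action on the 24 coordinate positions of the binary Golay code has minimal base size exactly 7: every set of at most 6 positions is fixed pointwise by some non-identity element of M₂₄, while some set of 7 positions is fixed pointwise only by the identity. -/
theorem result :
    (∀ B : Finset Cfsg.GolayPt, B.card ≤ 6 → ∃ g ∈ Cfsg.M24, g ≠ 1 ∧ ∀ b ∈ B, g b = b) ∧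
    (∃ B : Finset Cfsg.GolayPt, B.card = 7 ∧ ∀ g ∈ Cfsg.M24, (∀ b ∈ B, g b = b) → g = 1) := by
  constructor
  · intro B hB
    -- extend `B` to six points, split off one of them
    obtain ⟨B6, hBB6, hB6⟩ := Finset.exists_superset_card_eq hB (by
      rw [Finset.card_univ]; decide : 6 ≤ (Finset.univ : Finset Cfsg.GolayPt).card)
    obtain ⟨q, B5, hq, rfl, hB5⟩ := Finset.card_eq_succ.1 hB6
    let e := B5.equivFinOfCardEq hB5
    let x : Fin 5 ↪ Cfsg.GolayPt := ⟨fun i => (e.symm i : Cfsg.GolayPt), fun i j h => by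
      have := Subtype.ext h
      exact e.symm.injective this⟩
    have hx : ∀ b ∈ B5, ∃ i, x i = b := fun b hb => ⟨e ⟨b, hb⟩, by
      show ((e.symm (e ⟨b, hb⟩) : B5) : Cfsg.GolayPt) = b
      rw [Equiv.symm_apply_apply]⟩
    obtain ⟨g0, hg0, hg0x⟩ := exists_map_embedding le_rfl x
    -- the stabiliser of the sixth point in the group fixing the first five positions
    have hcard := card_eq_orbit_mul_card_inf_stabilizer (chainSub 5) (g0⁻¹ q)
    rw [card_chainSub_five] at hcard
    have horb : (MulAction.orbit (chainSub 5) (g0⁻¹ q)).ncard ≤ 24 := by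
      have h1 := Set.ncard_le_ncard (Set.subset_univ (MulAction.orbit (chainSub 5) (g0⁻¹ q)))
        Set.finite_univ
      rw [Set.ncard_univ, Nat.card_eq_fintype_card] at h1
      exact h1
    have hK : Nat.card ↥(chainSub 5 ⊓ MulAction.stabilizer (Equiv.Perm Cfsg.GolayPt) (g0⁻¹ q)) ≠ 1 := by
      intro h1
      rw [h1, mul_one] at hcard
      omega
    have hK' : chainSub 5 ⊓ MulAction.stabilizer (Equiv.Perm Cfsg.GolayPt) (g0⁻¹ q) ≠ ⊥ := by
      intro hbot
      apply hK
      rw [hbot]
      exact Subgroup.card_bot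
    obtain ⟨h, hh1⟩ := (Subgroup.ne_bot_iff_exists_ne_one).1 hK'
    have hh' : (h : Equiv.Perm Cfsg.GolayPt) ∈ chainSub 5 ⊓ MulAction.stabilizer (Equiv.Perm Cfsg.GolayPt) (g0⁻¹ q) := h.2
    rw [Subgroup.mem_inf, MulAction.mem_stabilizer_iff] at hh'
    refine ⟨g0 * h * g0⁻¹, Cfsg.M24.mul_mem (Cfsg.M24.mul_mem hg0 hh'.1.1) (Cfsg.M24.inv_mem hg0), ?_, ?_⟩
    · intro h1
      apply hh1
      apply Subtype.ext
      have : (h : Equiv.Perm Cfsg.GolayPt) = g0⁻¹ * (g0 * h * g0⁻¹) * g0 := by group
      rw [this, h1]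
      group
      rfl
    · intro b hb
      have hb' := hBB6 hb
      rw [Finset.mem_insert] at hb'
      rw [Equiv.Perm.mul_apply, Equiv.Perm.mul_apply]
      rcases hb' with rfl | hb'
      · have := hh'.2
        rw [smul_perm_point] at this
        rw [this, perm_apply_inv]
      · obtain ⟨i, rfl⟩ := hx b hb'
        rw [← hg0x i, perm_inv_apply, hh'.1.2 i i.isLt]
  · refine ⟨maskFS (2 ^ 7 - 1), ?_, fun g hg hfix => ?_⟩
    · rw [card_maskFS _ (by norm_num)]
      decide +kernel
    · apply eq_one_of_fix7 hg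
      intro i hi
      apply hfix
      rw [mem_maskFS, gEquiv_ptN_val i (by omega), Nat.testBit_two_pow_sub_one]
      simpa using hi

end Cfsg.Agent.S5521
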