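import Cfsg.Statements.S5522
import Cfsg.Agent.Lib.Helper21.GolayM12Gen

set_option autoImplicit false
open scoped Pointwise
open Cfsg

namespace Cfsg.Agent.S5522

open Cfsg.Agent.Lib.Helper21

/-- Packed tables of the permutations of the transversal words of the chain of `M11`. -/
def TT : ℕ → ℕ
  | 1 => 0xbba8ab116d7c52899d90286a219a405d5f3384ada5c49539848cac61a2007aa359c0a85d086b3983b84e24c9a09d68588ce4bbd1272a06b096d48580b15cf38686adc9254c4c5c2281b520bcec72b2b2750c97a84d58e240c100bccb5585c87da098d1ac508f2190c0bc54770a697ad90b150daca8618480b96367a28d74e42a9cc95416c09060bace589acc7cd0d75609a11411c840bdab49ca307b9ac5a928398a418820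
  | 2 => 0x5de6ea9942a15843c52db41e81c82052dc5a48e99d5028dd86b0de46c020ad22bb31e2b9c6899524719528342074d568a68359e42a94907a2e66b02052e937b4e8a960cb4472b89c4324202d2c754263bc59273c8da89693202059cb598eeda3c82b29898a1d281820aced138dcd5dd102bc46a254c910209b971bc0a6559827d528a10f268c20bdab49ca307b9ac5a928398a418820
  | 3 => 0x79551bc1cc59cc39d488a26cd908202cd51b1a84b9e4c7b86daa169808209be27b25d0ba9122d4c4a3163688209bceab92885c4692b9b2a9ad0608207ccf1b36835a90c2d48674af048820545f3a0ec67160c3ada4ba6b240820badd4290ec7d510b292d88e723082089e65a496873d3055c66b32ad20820bdab49ca307b9ac5a928398a418820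
  | _ => 0x2ccea5b1c9b448d7d506a42f21882075576518ac3dd28a3e449b630188202bd47b11c65c5929d209aa2ed18820bae957b6289ba44b1cd0524ac1882089df3ac2eda150655992591c918820752cb3a4a455cd0acdac7ca28188208aa6fa22f2a96093ac8db31c618820bdab49ca307b9ac5a928398a418820

/-- Table `i` at level `l`. -/
def tabAt (l i : ℕ) : ℕ := (TT l >>> (120 * i)) % 2 ^ 120

theorem tab_spec : ∀ l < 5, 1 ≤ l → ∀ i < (m12Words l).length, ∀ x < 24,
    runWordP 32 ((m12Words l).getD i 0) x = tabGet (tabAt l i) x := by
  decide +kernel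

/-- The composite of four table permutations on positions. -/
def comp (a b c d x : ℕ) : ℕ := tabGet a (tabGet b (tabGet c (tabGet d x)))

/-- The positions outside the dodecad of squares. -/
def outside : List ℕ := [5, 7, 10, 11, 14, 15, 17, 19, 20, 21, 22, 23]

/-- The composite has a fixed position outside the dodecad, or none of its powers with exponent
`2, 3, 5, 11` is trivial. -/
def chk (a b c d : ℕ) : Bool :=
  outside.any (fun x => comp a b c d x == x) ||
    (outside.any (fun x => (comp a b c d)^[2] x != x) &&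
      (outside.any (fun x => (comp a b c d)^[3] x != x) &&
        (outside.any (fun x => (comp a b c d)^[5] x != x) &&
          outside.any (fun x => (comp a b c d)^[11] x != x))))

theorem sweep : ∀ i1 < 11, ∀ i2 < 10, ∀ i3 < 9, ∀ i4 < 8,
    chk (tabAt 1 i1) (tabAt 2 i2) (tabAt 3 i3) (tabAt 4 i4) = true := by
  decide +kernel

theorem lengths : (m12Words 1).length = 11 ∧ (m12Words 2).length = 10 ∧
    (m12Words 3).length = 9 ∧ (m12Words 4).length = 8 := by decide

theorem outside_spec : ∀ x ∈ outside, x < 24 ∧ dsq.testBit x = false := by decide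

/-- One step of the chain: an element at level `k` is a transversal word times an element at
level `k + 1`. -/
theorem peel (k : ℕ) (hk : k < 5) (g : Equiv.Perm GolayPt) (hg : g ∈ conSub [dsq] (m12Fs k)) :
    ∃ i < (m12Words k).length,
      (wordPerm 32 ((m12Words k).getD i 0))⁻¹ * g ∈ conSub [dsq] (m12Fs (k + 1)) := by
  obtain ⟨w, hw, hwm, e⟩ := level_wordC 32 _ _ _ _ _ _ (m12_ok k hk) g hg
  obtain ⟨i, hi, rfl⟩ := List.mem_iff_getElem.1 hw
  refine ⟨i, hi, ?_⟩
  rw [List.getD_eq_getElem _ _ hi]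
  show _ ∈ conSub [dsq] (k :: m12Fs k)
  rw [conSub_cons, Subgroup.mem_inf, MulAction.mem_stabilizer_iff]
  refine ⟨(conSub [dsq] (m12Fs k)).mul_mem ((conSub [dsq] (m12Fs k)).inv_mem hwm) hg, ?_⟩
  rw [smul_perm_point, Equiv.Perm.mul_apply, ← e, perm_inv_apply]

theorem conSub_five_bot : conSub [dsq] (m12Fs 5) = ⊥ :=
  Subgroup.eq_bot_of_card_eq _ card_conSub_m12_five

/-- The action of a transversal word on positions through its table. -/
theorem word_apply (l : ℕ) (hl : l < 5) (hl1 : 1 ≤ l) (i : ℕ) (hi : i < (m12Words l).length)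
    (x : ℕ) (hx : x < 24) :
    wordPerm 32 ((m12Words l).getD i 0) (ptN x) = ptN (tabGet (tabAt l i) x) ∧
      tabGet (tabAt l i) x < 24 := by
  rw [wordPerm_ptN _ _ _ hx, tab_spec l hl hl1 i hi x hx]
  refine ⟨rfl, ?_⟩
  rw [← tab_spec l hl hl1 i hi x hx]
  exact runWordP_lt _ _ _ hx

/-- The Mathieu group M₁₁, realised as the stabiliser of one point of the dodecad of squares inside the stabiliser M₁₂ of that dodecad in M₂₄, acts on the twelve coordinate positions outside the dodecad of squares (its 3-transitive action of degree 12); in this action every element of prime order fixes a point, i.e. the action is elusive. -/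
theorem result (g : Equiv.Perm Cfsg.GolayPt) (hg : g ∈ Cfsg.Spor.M11) (hord : (orderOf g).Prime) :
    ∃ x : Cfsg.GolayPt, x ∉ Cfsg.Spor.squareDodecad ∧ g x = x := by
  classical
  rw [← conSub_dsq_zero] at hg
  have hg1 : g ∈ conSub [dsq] (m12Fs 1) := hg
  obtain ⟨i1, hi1, h1⟩ := peel 1 (by norm_num) g hg1
  obtain ⟨i2, hi2, h2⟩ := peel 2 (by norm_num) _ h1
  obtain ⟨i3, hi3, h3⟩ := peel 3 (by norm_num) _ h2
  obtain ⟨i4, hi4, h4⟩ := peel 4 (by norm_num) _ h3
  rw [conSub_five_bot, Subgroup.mem_bot] at h4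
  set W1 := wordPerm 32 ((m12Words 1).getD i1 0) with hW1
  set W2 := wordPerm 32 ((m12Words 2).getD i2 0) with hW2
  set W3 := wordPerm 32 ((m12Words 3).getD i3 0) with hW3
  set W4 := wordPerm 32 ((m12Words 4).getD i4 0) with hW4
  have hgW : g = W1 * W2 * W3 * W4 := by
    have : W4⁻¹ * (W3⁻¹ * (W2⁻¹ * (W1⁻¹ * g))) = 1 := h4
    calc g = W1 * W2 * W3 * W4 * (W4⁻¹ * (W3⁻¹ * (W2⁻¹ * (W1⁻¹ * g)))) := by group
      _ = W1 * W2 * W3 * W4 := by rw [this, mul_one]
  set f := comp (tabAt 1 i1) (tabAt 2 i2) (tabAt 3 i3) (tabAt 4 i4) with hf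
  have hstep : ∀ x < 24, g (ptN x) = ptN (f x) ∧ f x < 24 := by
    intro x hx
    obtain ⟨e4, l4⟩ := word_apply 4 (by norm_num) (by norm_num) i4 hi4 x hx
    obtain ⟨e3, l3⟩ := word_apply 3 (by norm_num) (by norm_num) i3 hi3 _ l4
    obtain ⟨e2, l2⟩ := word_apply 2 (by norm_num) (by norm_num) i2 hi2 _ l3
    obtain ⟨e1, l1⟩ := word_apply 1 (by norm_num) (by norm_num) i1 hi1 _ l2
    rw [hgW, Equiv.Perm.mul_apply, Equiv.Perm.mul_apply, Equiv.Perm.mul_apply, e4, e3, e2, e1]
    exact ⟨rfl, l1⟩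
  have hiter : ∀ k x, x < 24 → (g ^ k) (ptN x) = ptN (f^[k] x) ∧ f^[k] x < 24 := by
    intro k
    induction k with
    | zero => intro x hx; exact ⟨rfl, hx⟩
    | succ k ih =>
      intro x hx
      obtain ⟨e, l⟩ := hstep x hx
      obtain ⟨e', l'⟩ := ih (f x) l
      rw [pow_succ, Equiv.Perm.mul_apply, e, e', Function.iterate_succ_apply]
      exact ⟨rfl, l'⟩
  have hlen := lengths
  have hchk := sweep i1 (by omega) i2 (by omega) i3 (by omega) i4 (by omega)
  unfold chk at hchk
  rw [Bool.or_eq_true] at hchk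
  rcases hchk with hfix | hpow
  · rw [List.any_eq_true] at hfix
    obtain ⟨x, hx, hxe⟩ := hfix
    rw [beq_iff_eq] at hxe
    obtain ⟨hx24, hxd⟩ := outside_spec x hx
    refine ⟨ptN x, ?_, ?_⟩
    · rw [← maskFS_dsq, mem_maskFS, gEquiv_ptN_val x hx24, hxd]
      exact Bool.false_ne_true
    · rw [(hstep x hx24).1]
      exact congrArg ptN hxe
  · exfalso
    simp only [Bool.and_eq_true, List.any_eq_true, bne_iff_ne] at hpow
    obtain ⟨⟨x2, hx2, n2⟩, ⟨x3, hx3, n3⟩, ⟨x5, hx5, n5⟩, ⟨x11, hx11, n11⟩⟩ := hpow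
    have hno : ∀ k x, x ∈ outside → f^[k] x ≠ x → g ^ k ≠ 1 := by
      intro k x hx hne h1
      obtain ⟨hx24, -⟩ := outside_spec x hx
      obtain ⟨e, l⟩ := hiter k x hx24
      rw [h1, Equiv.Perm.one_apply] at e
      have := congrArg (fun p => ((gEquiv p : Fin 24) : ℕ)) e
      simp only [gEquiv_ptN_val x hx24, gEquiv_ptN_val _ l] at this
      exact hne this.symm
    have hpow1 : g ^ orderOf g = 1 := pow_orderOf_eq_one g
    have hdvd : orderOf g ∣ 7920 := by
      have hgM : g ∈ Spor.M11 := by rw [← conSub_dsq_zero]; exact hg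
      have h := orderOf_dvd_natCard (⟨g, hgM⟩ : ↥Spor.M11)
      rw [card_M11] at h
      have e : orderOf (⟨g, hgM⟩ : ↥Spor.M11) = orderOf g := Subgroup.orderOf_mk g hgM
      rwa [e] at h
    have h7920 : (7920 : ℕ) = 2 ^ 4 * 3 ^ 2 * 5 * 11 := by norm_num
    rw [h7920] at hdvd
    have hcases : orderOf g = 2 ∨ orderOf g = 3 ∨ orderOf g = 5 ∨ orderOf g = 11 := by
      rcases (Nat.Prime.dvd_mul hord).1 hdvd with h | h
      · rcases (Nat.Prime.dvd_mul hord).1 h with h | h
        · rcases (Nat.Prime.dvd_mul hord).1 h with h | h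
          · exact Or.inl ((Nat.prime_dvd_prime_iff_eq hord Nat.prime_two).1
              (hord.dvd_of_dvd_pow h))
          · exact Or.inr (Or.inl ((Nat.prime_dvd_prime_iff_eq hord Nat.prime_three).1
              (hord.dvd_of_dvd_pow h)))
        · exact Or.inr (Or.inr (Or.inl ((Nat.prime_dvd_prime_iff_eq hord Nat.prime_five).1 h)))
      · exact Or.inr (Or.inr (Or.inr ((Nat.prime_dvd_prime_iff_eq hord (by norm_num)).1 h)))
    rcases hcases with h | h | h | h
    · rw [h] at hpow1
      exact hno 2 x2 hx2 n2 hpow1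
    · rw [h] at hpow1
      exact hno 3 x3 hx3 n3 hpow1
    · rw [h] at hpow1
      exact hno 5 x5 hx5 n5 hpow1
    · rw [h] at hpow1
      exact hno 11 x11 hx11 n11 hpow1

end Cfsg.Agent.S5522
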