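import Cfsg.Statements.S5541
import Mathlib

set_option autoImplicit false
open Cfsg

namespace Cfsg.Agent.S5541

variable {H : Type*} [Group H] {U : Type*} [AddCommGroup U] [Module ℝ U]

/-- The form `B` separates points on the left. -/
theorem sepLeft (ρ : Representation ℝ H U)
    (hirr : ∀ W : Submodule ℝ U, (∀ g : H, W.map (ρ g) ≤ W) → W = ⊥ ∨ W = ⊤)
    (B : LinearMap.BilinForm ℝ U) (hB0 : B ≠ 0)
    (hBi : ∀ (g : H) (u v : U), B (ρ g u) (ρ g v) = B u v) :
    ∀ x : U, (∀ y, B x y = 0) → x = 0 := by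
  have hinv : ∀ g : H, (LinearMap.ker B).map (ρ g) ≤ LinearMap.ker B := by
    intro g
    rintro _ ⟨u, hu, rfl⟩
    rw [SetLike.mem_coe, LinearMap.mem_ker] at hu
    rw [LinearMap.mem_ker]
    ext v
    have h1 := hBi g u (ρ g⁻¹ v)
    rw [Representation.self_inv_apply] at h1
    rw [h1, hu]; simp
  rcases hirr _ hinv with h | h
  · intro x hx
    have : x ∈ LinearMap.ker B := by
      rw [LinearMap.mem_ker]; ext y; simpa using hx y
    rw [h] at this
    simpa using this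
  · exfalso
    apply hB0
    ext u v
    have : u ∈ LinearMap.ker B := by rw [h]; trivial
    rw [LinearMap.mem_ker] at this
    rw [this]; simp

theorem nondeg [FiniteDimensional ℝ U] (ρ : Representation ℝ H U)
    (hirr : ∀ W : Submodule ℝ U, (∀ g : H, W.map (ρ g) ≤ W) → W = ⊥ ∨ W = ⊤)
    (B : LinearMap.BilinForm ℝ U) (hB0 : B ≠ 0) (hBs : ∀ u v, B u v = B v u)
    (hBi : ∀ (g : H) (u v : U), B (ρ g u) (ρ g v) = B u v) : B.Nondegenerate := by
  have h := sepLeft ρ hirr B hB0 hBi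
  refine ⟨h, ?_⟩
  intro y hy
  apply h
  intro x
  rw [hBs]; exact hy x

/-- From an invariant trilinear form to an equivariant product. -/
theorem toProduct [FiniteDimensional ℝ U] (ρ : Representation ℝ H U)
    (B : LinearMap.BilinForm ℝ U) (hnd : B.Nondegenerate)
    (hBi : ∀ (g : H) (u v : U), B (ρ g u) (ρ g v) = B u v)
    (t : U →ₗ[ℝ] U →ₗ[ℝ] U →ₗ[ℝ] ℝ)
    (ht : ∀ (g : H) (u v w : U), t (ρ g u) (ρ g v) (ρ g w) = t u v w) :
    ∃ m : U →ₗ[ℝ] U →ₗ[ℝ] U, (∀ u v w, B (m u v) w = t u v w) ∧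
      ∀ (g : H) (u v : U), m (ρ g u) (ρ g v) = ρ g (m u v) := by
  let m : U →ₗ[ℝ] U →ₗ[ℝ] U := t.compr₂ (B.toDual hnd).symm.toLinearMap
  have hm : ∀ u v w, B (m u v) w = t u v w := by
    intro u v w
    show B ((B.toDual hnd).symm (t u v)) w = t u v w
    exact LinearMap.BilinForm.apply_toDual_symm_apply (t u v) w
  refine ⟨m, hm, ?_⟩
  intro g u v
  have hsub : m (ρ g u) (ρ g v) - ρ g (m u v) = 0 := by
    apply hnd.1
    intro w
    rw [map_sub, LinearMap.sub_apply, hm]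
    have h1 := ht g u v (ρ g⁻¹ w)
    rw [Representation.self_inv_apply] at h1
    have h2 := hBi g (m u v) (ρ g⁻¹ w)
    rw [Representation.self_inv_apply] at h2
    rw [h1, h2, hm, sub_self]
  exact sub_eq_zero.mp hsub

/-- From an equivariant product to an invariant trilinear form. -/
theorem toTrilinear (ρ : Representation ℝ H U)
    (B : LinearMap.BilinForm ℝ U)
    (hBi : ∀ (g : H) (u v : U), B (ρ g u) (ρ g v) = B u v)
    (m : U →ₗ[ℝ] U →ₗ[ℝ] U)
    (hm : ∀ (g : H) (u v : U), m (ρ g u) (ρ g v) = ρ g (m u v)) :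
    ∃ t : U →ₗ[ℝ] U →ₗ[ℝ] U →ₗ[ℝ] ℝ, (∀ u v w, t u v w = B (m u v) w) ∧
      ∀ (g : H) (u v w : U), t (ρ g u) (ρ g v) (ρ g w) = t u v w := by
  refine ⟨m.compr₂ B, fun u v w => rfl, ?_⟩
  intro g u v w
  show B (m (ρ g u) (ρ g v)) (ρ g w) = B (m u v) w
  rw [hm, hBi]

theorem result {H : Type*} [Group H] {U : Type*} [AddCommGroup U] [Module ℝ U] [FiniteDimensional ℝ U] (ρ : Representation ℝ H U) (hirr : ∀ W : Submodule ℝ U, (∀ g : H, W.map (ρ g) ≤ W) → W = ⊥ ∨ W = ⊤) (B : LinearMap.BilinForm ℝ U) (hB0 : B ≠ 0) (hBs : ∀ u v, B u v = B v u) (hBi : ∀ (g : H) (u v : U), B (ρ g u) (ρ g v) = B u v) : (∃ m : U →ₗ[ℝ] U →ₗ[ℝ] U, m ≠ 0 ∧ (∀ u v, m u v = m v u) ∧ (∀ (g : H) (u v : U), m (ρ g u) (ρ g v) = ρ g (m u v)) ∧ ∀ m' : U →ₗ[ℝ] U →ₗ[ℝ] U, (∀ (g : H) (u v : U), m' (ρ g u) (ρ g v) = ρ g (m' u v)) → ∃ c : ℝ, m' = c • m) ↔ (∃ t : U →ₗ[ℝ] U →ₗ[ℝ] U →ₗ[ℝ] ℝ, t ≠ 0 ∧ (∀ u v w, t u v w = t v u w ∧ t u v w = t u w v) ∧ (∀ (g : H) (u v w : U),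 t (ρ g u) (ρ g v) (ρ g w) = t u v w) ∧ ∀ t' : U →ₗ[ℝ] U →ₗ[ℝ] U →ₗ[ℝ] ℝ, (∀ (g : H) (u v w : U), t' (ρ g u) (ρ g v) (ρ g w) = t' u v w) → ∃ c : ℝ, t' = c • t) := by
  have hnd := nondeg ρ hirr B hB0 hBs hBi
  have hN : ∀ x y : U, (∀ w, B x w = B y w) → x = y := by
    intro x y h
    have : x - y = 0 := by
      apply hnd.1
      intro w
      rw [map_sub, LinearMap.sub_apply, h w, sub_self]
    exact sub_eq_zero.mp this
  constructor
  · rintro ⟨m, hm0, hmc, hme, hmu⟩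
    obtain ⟨t, htB, hti⟩ := toTrilinear ρ B hBi m hme
    -- uniqueness
    have huniq : ∀ t' : U →ₗ[ℝ] U →ₗ[ℝ] U →ₗ[ℝ] ℝ,
        (∀ (g : H) (u v w : U), t' (ρ g u) (ρ g v) (ρ g w) = t' u v w) → ∃ c : ℝ, t' = c • t := by
      intro t' ht'
      obtain ⟨m', hm'B, hm'e⟩ := toProduct ρ B hnd hBi t' ht'
      obtain ⟨c, hc⟩ := hmu m' hm'e
      refine ⟨c, ?_⟩
      ext u v w
      rw [← hm'B, hc]
      simp only [LinearMap.smul_apply, smul_eq_mul, map_smul]
      rw [htB]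
    have ht0 : t ≠ 0 := by
      intro h0
      apply hm0
      ext u v
      apply hN
      intro w
      rw [← htB, h0]; simp
    have h12 : ∀ u v w, t u v w = t v u w := by
      intro u v w
      rw [htB, htB, hmc]
    -- the flipped form
    let t2 : U →ₗ[ℝ] U →ₗ[ℝ] U →ₗ[ℝ] ℝ := (LinearMap.lflip (R := ℝ) (M := U) (N := U) (P := ℝ)).toLinearMap.comp t
    have ht2 : ∀ u v w, t2 u v w = t u w v := fun u v w => rfl
    obtain ⟨c, hc⟩ := huniq t2 (by
      intro g u v w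
      rw [ht2, ht2, hti])
    have hc' : ∀ u v w, t u w v = c * t u v w := by
      intro u v w
      rw [← ht2, hc]; simp
    -- find nonzero value
    have hex : ∃ u v w, t u v w ≠ 0 := by
      by_contra hcon
      push Not at hcon
      apply ht0
      ext u v w
      simpa using hcon u v w
    obtain ⟨u0, v0, w0, h0⟩ := hex
    have hcc : c * c = 1 := by
      have h1 := hc' u0 v0 w0
      have h2 := hc' u0 w0 v0
      rw [h1] at h2
      have : (c * c - 1) * t u0 v0 w0 = 0 := by linarith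
      rcases mul_eq_zero.mp this with h | h
      · linarith
      · exact absurd h h0
    have hc1 : c = 1 := by
      have : (c - 1) * (c + 1) = 0 := by ring_nf; linarith
      rcases mul_eq_zero.mp this with h | h
      · linarith
      · exfalso
        have hcm : c = -1 := by linarith
        apply h0
        have a1 := hc' u0 v0 w0   -- t u w v = - t u v w
        have a2 := h12 u0 w0 v0   -- t u w v = t w u v
        have a3 := hc' w0 u0 v0   -- t w v u = - t w u v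
        have a4 := h12 w0 v0 u0   -- t w v u = t v w u
        have a5 := hc' v0 w0 u0   -- t v u w = - t v w u
        have a6 := h12 v0 u0 w0   -- t v u w = t u v w
        rw [hcm] at a1 a3 a5
        linarith
    refine ⟨t, ht0, ?_, hti, huniq⟩
    intro u v w
    refine ⟨h12 u v w, ?_⟩
    have := hc' u v w
    rw [hc1, one_mul] at this
    exact this.symm
  · rintro ⟨t, ht0, hts, hti, htu⟩
    obtain ⟨m, hmB, hme⟩ := toProduct ρ B hnd hBi t hti
    refine ⟨m, ?_, ?_, hme, ?_⟩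
    · intro h0
      apply ht0
      ext u v w
      rw [← hmB, h0]; simp
    · intro u v
      apply hN
      intro w
      rw [hmB, hmB]
      exact (hts u v w).1
    · intro m' hm'e
      obtain ⟨t', ht'B, ht'i⟩ := toTrilinear ρ B hBi m' hm'e
      obtain ⟨c, hc⟩ := htu t' ht'i
      refine ⟨c, ?_⟩
      ext u v
      apply hN
      intro w
      rw [← ht'B, hc]
      simp only [LinearMap.smul_apply, smul_eq_mul, map_smul]
      rw [hmB]

end Cfsg.Agent.S5541
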