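import Cfsg.Statements.S5543
import Mathlib
import Cfsg.Agent.Lib.Helper27.Majorana

set_option autoImplicit false
open Cfsg

namespace Cfsg.Agent.S5543

open Cfsg.Axial Cfsg.Agent.Lib.Helper27.Majorana

section
variable {G : Type*} [Group G] (X : Subgroup G) (hX : ∀ x ∈ X, x * x = 1)
include hX

theorem comm_of_sq {a b : G} (ha : a ∈ X) (hb : b ∈ X) : a * b = b * a := by
  have h1 := hX a ha
  have h2 := hX b hb
  have h3 := hX (a * b) (X.mul_mem ha hb)
  -- a b a b = 1 → a b = b⁻¹ a⁻¹ = b a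
  have ha' : a⁻¹ = a := by
    rw [inv_eq_iff_mul_eq_one]; exact h1
  have hb' : b⁻¹ = b := by
    rw [inv_eq_iff_mul_eq_one]; exact h2
  have : a * b = (a * b)⁻¹ := by
    rw [eq_comm, inv_eq_iff_mul_eq_one]; exact h3
  rw [this, mul_inv_rev, ha', hb']

theorem mul_mul_cancel_self {a b : G} (ha : a ∈ X) : a * (a * b) = b := by
  rw [← mul_assoc, hX a ha, one_mul]

end

/-- The main lemma: `a(y) - a(xy)` is a `1/4`-eigenvector of `a(x)`. -/
theorem quarter_eigen {V : Type*} [AddCommGroup V] [Module ℝ V]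
    (mul : V →ₗ[ℝ] V →ₗ[ℝ] V) (X : Subgroup (V ≃ₗ[ℝ] V)) (hX : ∀ x ∈ X, x * x = 1)
    (ax : (V ≃ₗ[ℝ] V) → V)
    (h2A : ∀ x ∈ X, ∀ y ∈ X, x ≠ 1 → y ≠ 1 → x ≠ y →
      mul (ax x) (ax y) = (1 / 8 : ℝ) • (ax x + ax y - ax (x * y)))
    {x y : V ≃ₗ[ℝ] V} (hx : x ∈ X) (hy : y ∈ X) (hx1 : x ≠ 1) (hy1 : y ≠ 1) (hxy : x ≠ y) :
    mul (ax x) (ax y - ax (x * y)) = (1 / 4 : ℝ) • (ax y - ax (x * y)) := by
  have hxy1 : x * y ≠ 1 := by
    intro h
    apply hxy
    have := hX x hx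
    -- x * y = 1 = x * x → y = x
    exact (mul_left_cancel (h.trans this.symm)).symm
  have hxxy : x ≠ x * y := by
    intro h
    apply hy1
    have : x * 1 = x * y := by rw [mul_one]; exact h
    exact (mul_left_cancel this).symm
  have e1 := h2A x hx y hy hx1 hy1 hxy
  have e2 := h2A x hx (x * y) (X.mul_mem hx hy) hx1 hxy1 hxxy
  rw [mul_mul_cancel_self X hX hx] at e2
  rw [map_sub, e1, e2]
  module

theorem result {V : Type*} [AddCommGroup V] [Module ℝ V] [FiniteDimensional ℝ V] (mul : V →ₗ[ℝ] V →ₗ[ℝ] V) (B : LinearMap.BilinForm ℝ V) (hV : Cfsg.Axial.IsMajoranaAmbient mul B) (X : Subgroup (V ≃ₗ[ℝ] V)) (hX : ∀ x ∈ X, x * x = 1) (ax : (V ≃ₗ[ℝ] V) → V) (hax : ∀ x ∈ X, x ≠ 1 → Cfsg.Axial.IsMajoranaPair mul B x (ax x)) (h1 : ∀ x ∈ X, x ≠ 1 → B (ax x) (ax x) = 1) (h2A : ∀ x ∈ X, ∀ y ∈ X, x ≠ 1 → y ≠ 1 → x ≠ y → mul (ax x) (ax y) = (1 / 8 : ℝ) • (ax x + ax y - ax (x * y))) : Nat.card ↥X ≤ 4 := by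
  by_contra hcard
  rw [not_le] at hcard
  have hfin : Finite X := Nat.finite_of_card_ne_zero (by omega)
  have : Fintype X := Fintype.ofFinite X
  classical
  rw [Nat.card_eq_fintype_card, ← Finset.card_univ] at hcard
  -- pick x ≠ 1
  obtain ⟨x, -, hx⟩ := Finset.exists_mem_notMem_of_card_lt_card
    (s := ({1} : Finset X)) (t := Finset.univ) (by rw [Finset.card_singleton]; omega)
  obtain ⟨y, -, hy⟩ := Finset.exists_mem_notMem_of_card_lt_card
    (s := ({1, x} : Finset X)) (t := Finset.univ)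
    (lt_of_le_of_lt Finset.card_le_two (by omega))
  obtain ⟨z, -, hz⟩ := Finset.exists_mem_notMem_of_card_lt_card
    (s := ({1, x, y, x * y} : Finset X)) (t := Finset.univ)
    (lt_of_le_of_lt Finset.card_le_four (by omega))
  simp only [Finset.mem_insert, Finset.mem_singleton, not_or] at hx hy hz
  obtain ⟨x, hxX⟩ := x
  obtain ⟨y, hyX⟩ := y
  obtain ⟨z, hzX⟩ := z
  simp only [Subgroup.mk_eq_one, Subtype.mk.injEq, MulMemClass.mk_mul_mk] at hx hy hz
  obtain ⟨hy1, hyx⟩ := hy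
  obtain ⟨hz1, hzx, hzy, hzxy⟩ := hz
  have hxx := hX x hxX
  have hyy := hX y hyX
  have hzz := hX z hzX
  have cxy : x * y = y * x := comm_of_sq X hX hxX hyX
  have cxz : x * z = z * x := comm_of_sq X hX hxX hzX
  have cyz : y * z = z * y := comm_of_sq X hX hyX hzX
  have hxyX : x * y ∈ X := X.mul_mem hxX hyX
  have hxzX : x * z ∈ X := X.mul_mem hxX hzX
  have hyzX : y * z ∈ X := X.mul_mem hyX hzX
  -- non-identity facts
  have hxy1 : x * y ≠ 1 := by
    intro h; exact hyx (mul_left_cancel (h.trans hxx.symm))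
  have hxz1 : x * z ≠ 1 := by
    intro h; exact hzx (mul_left_cancel (h.trans hxx.symm))
  have hyz1 : y * z ≠ 1 := by
    intro h; exact hzy (mul_left_cancel (h.trans hyy.symm))
  have hx_yz : x ≠ y * z := by
    intro h
    apply hzxy
    -- z = y * (y * z) = y * x = x * y
    have : y * x = z := by rw [h, mul_mul_cancel_self X hX hyX]
    rw [cxy]; exact this.symm
  have hy_xz : y ≠ x * z := by
    intro h
    apply hzxy
    have : x * y = z := by rw [h, mul_mul_cancel_self X hX hxX]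
    exact this.symm
  have hxy_z : x * y ≠ z := fun h => hzxy h.symm
  have hxy_xz : x * y ≠ x * z := fun h => hzy (mul_left_cancel h).symm
  -- eigenvector facts
  have hu := quarter_eigen mul X hX ax h2A hxX hyX hx hy1 (Ne.symm hyx)
  have hv := quarter_eigen mul X hX ax h2A hxX hzX hx hz1 (Ne.symm hzx)
  have hw := quarter_eigen mul X hX ax h2A hxX hyzX hx hyz1 hx_yz
  -- product identities
  have p1 : y * (x * z) = x * (y * z) := by
    rw [← mul_assoc, ← cxy, mul_assoc]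
  have p2 : (x * y) * z = x * (y * z) := mul_assoc _ _ _
  have p3 : (x * y) * (x * z) = y * z := by
    rw [cxy, mul_assoc, mul_mul_cancel_self X hX hxX]
  have e1 := h2A y hyX z hzX hy1 hz1 (Ne.symm hzy)
  have e2 := h2A y hyX (x * z) hxzX hy1 hxz1 hy_xz
  have e3 := h2A (x * y) hxyX z hzX hxy1 hz1 hxy_z
  have e4 := h2A (x * y) hxyX (x * z) hxzX hxy1 hxz1 hxy_xz
  rw [p1] at e2
  rw [p2] at e3
  rw [p3] at e4
  have huv : mul (ax y - ax (x * y)) (ax z - ax (x * z)) =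
      (-(1 / 4 : ℝ)) • (ax (y * z) - ax (x * (y * z))) := by
    simp only [map_sub, LinearMap.sub_apply]
    rw [e1, e2, e3, e4]
    module
  -- fusion law
  obtain ⟨-, -, ⟨⟨hne, hidem, htop, hfus⟩, hprim⟩, -⟩ := hax x hxX hx
  have hfuse := hfus (1 / 4) quarter_mem_spectrum (1 / 4) quarter_mem_spectrum
    (ax y - ax (x * y)) ((mem_eigen_iff _ _ _ _).2 hu)
    (ax z - ax (x * z)) ((mem_eigen_iff _ _ _ _).2 hv)
  rw [monsterLaw_quarter_quarter, huv] at hfuse
  have hw2 : (ax (y * z) - ax (x * (y * z))) ∈ eigenSum mul (ax x) {1, 0} := by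
    have := Submodule.smul_mem _ (-(4 : ℝ)) hfuse
    rwa [smul_smul, show (-(4 : ℝ)) * (-(1 / 4)) = 1 by norm_num, one_smul] at this
  have hw0 : ax (y * z) - ax (x * (y * z)) = 0 :=
    eigen_inter_eq_zero mul (ax x) (1 / 4) {1, 0} quarter_not_mem_one_zero
      ((mem_eigen_iff _ _ _ _).2 hw) hw2
  -- now a(x) is a 1/8-eigenvector for a(yz)
  have e5 := h2A (y * z) hyzX x hxX hyz1 hx (Ne.symm hx_yz)
  have p4 : (y * z) * x = x * (y * z) := (comm_of_sq X hX hxX hyzX).symm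
  rw [p4] at e5
  have e6 : mul (ax (y * z)) (ax x) = (1 / 8 : ℝ) • ax x := by
    rw [e5]
    have : ax (y * z) + ax x - ax (x * (y * z)) = ax x + (ax (y * z) - ax (x * (y * z))) := by
      abel
    rw [this, hw0, add_zero]
  obtain ⟨-, -, ⟨⟨-, -, htop', -⟩, -⟩, -⟩ := hax (y * z) hyzX hyz1
  have hbot := eigen_eq_bot_of_top mul (ax (y * z)) (1 / 8) majoranaSpectrum
    eighth_not_mem_spectrum htop'
  have hmem : ax x ∈ eigen mul (ax (y * z)) (1 / 8) := (mem_eigen_iff _ _ _ _).2 e6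
  rw [hbot, Submodule.mem_bot] at hmem
  exact hne hmem

end Cfsg.Agent.S5543
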