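import Cfsg.Statements.S5545
import Mathlib
import Cfsg.Agent.Lib.Helper27.MajoranaPair

set_option autoImplicit false
open Cfsg

namespace Cfsg.Agent.S5545

open Cfsg.Axial Cfsg.Agent.Lib.Helper27.Majorana

variable {V : Type*} [AddCommGroup V] [Module ℝ V]

/-- Key lemma: if `a` is an idempotent fixed by the Majorana involution of the axis `b`
(with `B b b = 1`), then with `c = B a b` and `σ = mul a b` we get that `4σ - 4c b` is a
`1/4`-eigenvector of `b` and the fusion-rule relation. -/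
theorem key_lemma (mul : V →ₗ[ℝ] V →ₗ[ℝ] V) (B : LinearMap.BilinForm ℝ V)
    (hV : IsMajoranaAmbient mul B) (μ : V ≃ₗ[ℝ] V) (b : V) (h : IsMajoranaPair mul B μ b)
    (hb : B b b = 1) (a : V) (hfix : μ a = a) (hida : mul a a = a) :
    mul b (mul a b) = (3 * B a b / 4) • b + (1 / 4 : ℝ) • mul a b ∧
    mul (a + (3 * B a b) • b - (4 : ℝ) • mul a b) ((4 : ℝ) • mul a b - (4 * B a b) • b) =
      (1 / 2 - B a b / 4) • ((4 : ℝ) • mul a b - (4 * B a b) • b) := by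
  obtain ⟨hcomm, hsym, hpos, hassoc, hnorton⟩ := hV
  obtain ⟨c, x0, hx0, xq, hxq, hdec⟩ := decomp_of_fixed mul B μ b h a hfix
  obtain ⟨hm, hBμ, ⟨⟨hne, hidb, htop, hfus⟩, hprim⟩, hmiy1, hmiy2⟩ := h
  have e0 : mul b x0 = 0 := by
    have := (mem_eigen_iff _ _ _ _).1 hx0
    rwa [zero_smul] at this
  have eq : mul b xq = (1 / 4 : ℝ) • xq := (mem_eigen_iff _ _ _ _).1 hxq
  -- orthogonality
  have o0 : B x0 b = 0 := by
    have h1 : B x0 (mul b b) = B (mul x0 b) b := hassoc x0 b b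
    rw [hidb, hcomm x0 b, e0] at h1
    rw [h1]; simp
  have oq : B xq b = 0 := by
    have h1 : B xq (mul b b) = B (mul xq b) b := hassoc xq b b
    rw [hidb, hcomm xq b, eq] at h1
    simp only [map_smul, LinearMap.smul_apply, smul_eq_mul] at h1
    linarith
  have hc : B a b = c := by
    rw [hdec]
    simp only [map_add, map_smul, LinearMap.add_apply, LinearMap.smul_apply, smul_eq_mul]
    rw [hb, o0, oq]; ring
  have hσ : mul a b = c • b + (1 / 4 : ℝ) • xq := by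
    rw [hcomm a b, hdec]
    simp only [map_add, map_smul]
    rw [hidb, e0, eq]; module
  have hxq' : (4 : ℝ) • mul a b - (4 * B a b) • b = xq := by
    rw [hσ, hc]; module
  have hx0' : a + (3 * B a b) • b - (4 : ℝ) • mul a b = x0 := by
    rw [hσ, hc, hdec]; module
  rw [hxq', hx0']
  constructor
  · rw [hσ, hc]
    simp only [map_add, map_smul]
    rw [hidb, eq]; module
  · -- fusion rules
    have m1 : mul x0 xq ∈ eigen mul b (1 / 4) := by
      have := hfus 0 zero_mem_spectrum (1 / 4) quarter_mem_spectrum x0 hx0 xq hxq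
      rw [monsterLaw_zero_quarter] at this
      unfold eigenSum at this
      rwa [iSup_singleton] at this
    have m2 : mul x0 x0 ∈ eigenSum mul b {1, 0} := by
      have := hfus 0 zero_mem_spectrum 0 zero_mem_spectrum x0 hx0 x0 hx0
      rw [monsterLaw_zero_zero] at this
      exact eigenSum_mono mul b (by simp) this
    have m3 : mul xq xq ∈ eigenSum mul b {1, 0} := by
      have := hfus (1 / 4) quarter_mem_spectrum (1 / 4) quarter_mem_spectrum xq hxq xq hxq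
      rwa [monsterLaw_quarter_quarter] at this
    have m4 : b ∈ eigenSum mul b {1, 0} := by
      apply eigen_le_eigenSum mul b 1 _ (by simp)
      rw [mem_eigen_iff, hidb, one_smul]
    have m5 : x0 ∈ eigenSum mul b {1, 0} := eigen_le_eigenSum mul b 0 _ (by simp) hx0
    -- idempotent relation
    have hidem : (2 : ℝ) • mul x0 xq + (c / 2 - 1) • xq =
        (c - c ^ 2) • b + x0 - mul x0 x0 - mul xq xq := by
      have h1 := hida
      rw [hdec] at h1
      simp only [map_add, map_smul, LinearMap.add_apply, LinearMap.smul_apply] at h1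
      rw [hidb, e0, eq, hcomm x0 b, hcomm xq b, e0, eq, hcomm xq x0] at h1
      linear_combination (norm := module) h1
    have hL1 : (2 : ℝ) • mul x0 xq + (c / 2 - 1) • xq ∈ eigen mul b (1 / 4) :=
      Submodule.add_mem _ (Submodule.smul_mem _ _ m1) (Submodule.smul_mem _ _ hxq)
    have hL2 : (2 : ℝ) • mul x0 xq + (c / 2 - 1) • xq ∈ eigenSum mul b {1, 0} := by
      rw [hidem]
      exact Submodule.sub_mem _ (Submodule.sub_mem _
        (Submodule.add_mem _ (Submodule.smul_mem _ _ m4) m5) m2) m3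
    have hL0 := eigen_inter_eq_zero mul b (1 / 4) {1, 0} quarter_not_mem_one_zero hL1 hL2
    rw [hc]
    linear_combination (norm := module) (1 / 2 : ℝ) • hL0

/-- Pure bilinear algebra: from the eigenvector relations to the value of `σσ`. -/
theorem expand_sigma (mul : V →ₗ[ℝ] V →ₗ[ℝ] V) (a b s : V) (c : ℝ)
    (hab : mul a b = s) (hbb : mul b b = b)
    (hbs : mul b s = (3 * c / 4) • b + (1 / 4 : ℝ) • s)
    (hsb : mul s b = (3 * c / 4) • b + (1 / 4 : ℝ) • s)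
    (has : mul a s = (3 * c / 4) • a + (1 / 4 : ℝ) • s)
    (hrel : mul (a + (3 * c) • b - (4 : ℝ) • s) ((4 : ℝ) • s - (4 * c) • b) =
      (1 / 2 - c / 4) • ((4 : ℝ) • s - (4 * c) • b)) :
    (16 : ℝ) • mul s s = (3 * c) • a + (4 * c - 1) • s + (8 * c ^ 2 + 2 * c) • b := by
  simp only [map_add, map_sub, map_smul, LinearMap.add_apply, LinearMap.sub_apply,
    LinearMap.smul_apply, hab, hbb, hbs, hsb, has] at hrel
  linear_combination (norm := module) (-1 : ℝ) • hrel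

theorem result {V : Type*} [AddCommGroup V] [Module ℝ V] [FiniteDimensional ℝ V] (mul : V →ₗ[ℝ] V →ₗ[ℝ] V) (B : LinearMap.BilinForm ℝ V) (hV : Cfsg.Axial.IsMajoranaAmbient mul B) (μ₀ μ₁ : V ≃ₗ[ℝ] V) (a₀ a₁ : V) (h₀ : Cfsg.Axial.IsMajoranaPair mul B μ₀ a₀) (h₁ : Cfsg.Axial.IsMajoranaPair mul B μ₁ a₁) (hu₀ : ∀ a : V, Cfsg.Axial.IsMajoranaPair mul B μ₀ a → a = a₀) (hu₁ : ∀ a : V, Cfsg.Axial.IsMajoranaPair mul B μ₁ a → a = a₁) (hn₀ : B a₀ a₀ = 1) (hn₁ : B a₁ a₁ = 1) (hc : μ₀ * μ₁ = μ₁ * μ₀) (hne : a₀ ≠ a₁) : (B a₀ a₁ = 0 ∧ mul a₀ a₁ = 0) ∨ (B a₀ a₁ = 1 / 8 ∧ mul (a₀ + a₁ - (8 : ℝ) • mul a₀ a₁) (a₀ + a₁ - (8 : ℝ) • mul a₀ a₁) = a₀ + a₁ - (8 : ℝ) • mul a₀ a₁ ∧ mul a₀ (a₀ + a₁ - (8 : ℝ) • mul a₀ a₁) = (1 / 8 : ℝ) • (a₀ + (a₀ + a₁ - (8 : ℝ) • mul a₀ a₁) - a₁) ∧ mul a₁ (a₀ + a₁ - (8 : ℝ) • mul a₀ a₁) = (1 / 8 : ℝ) • (a₁ + (a₀ + a₁ - (8 : ℝ) • mul a₀ a₁) - a₀)) := by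
  have hcomm01 : ∀ v, μ₀ (μ₁ v) = μ₁ (μ₀ v) := by
    intro v
    have := congrArg (fun f : V ≃ₗ[ℝ] V => f v) hc
    simpa [LinearEquiv.mul_apply] using this
  have fix0 : μ₁ a₀ = a₀ :=
    hu₀ _ (majoranaPair_transport mul B μ₀ μ₁ a₀ h₀ h₁.1 hcomm01)
  have fix1 : μ₀ a₁ = a₁ :=
    hu₁ _ (majoranaPair_transport mul B μ₁ μ₀ a₁ h₁ h₀.1 (fun v => (hcomm01 v).symm))
  have hid0 : mul a₀ a₀ = a₀ := h₀.2.2.1.1.2.1
  have hid1 : mul a₁ a₁ = a₁ := h₁.2.2.1.1.2.1
  obtain ⟨k1, k2⟩ := key_lemma mul B hV μ₁ a₁ h₁ hn₁ a₀ fix0 hid0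
  obtain ⟨k3, k4⟩ := key_lemma mul B hV μ₀ a₀ h₀ hn₀ a₁ fix1 hid1
  obtain ⟨hcomm, hsym, hpos, hassoc, hnorton⟩ := hV
  rw [hsym a₁ a₀, hcomm a₁ a₀] at k3 k4
  set c := B a₀ a₁ with hcdef
  set s := mul a₀ a₁ with hsdef
  have hs' : mul a₁ a₀ = s := by rw [hcomm a₁ a₀]
  have E1 := expand_sigma mul a₀ a₁ s c hsdef.symm hid1 k1 (by rw [hcomm s a₁]; exact k1) k3 k2
  have E2 := expand_sigma mul a₁ a₀ s c hs' hid0 k3 (by rw [hcomm s a₀]; exact k3) k1 k4
  have hdiff : (c * (1 - 8 * c)) • (a₀ - a₁) = 0 := by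
    linear_combination (norm := module) E2 - E1
  have hne' : a₀ - a₁ ≠ 0 := sub_ne_zero.mpr hne
  have hc0 : c * (1 - 8 * c) = 0 := by
    rcases smul_eq_zero.mp hdiff with h | h
    · exact h
    · exact absurd h hne'
  rcases mul_eq_zero.mp hc0 with h | h
  · left
    refine ⟨h, ?_⟩
    by_contra hs0
    have h1 := hpos s hs0
    have h2 := hnorton a₀ a₁
    rw [hid0, hid1] at h2
    rw [← hsdef, ← hcdef, h] at h2
    linarith
  · right
    have hc8 : c = 1 / 8 := by linarith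
    refine ⟨hc8, ?_, ?_, ?_⟩
    · simp only [map_add, map_sub, map_smul, LinearMap.add_apply, LinearMap.sub_apply,
        LinearMap.smul_apply, hid0, hid1, hs', ← hsdef, k1, k3, hcomm s a₀, hcomm s a₁]
      rw [hc8] at E1 ⊢
      linear_combination (norm := module) (4 : ℝ) • E1
    · simp only [map_add, map_sub, map_smul, LinearMap.add_apply, LinearMap.sub_apply,
        LinearMap.smul_apply, hid0, hid1, hs', ← hsdef, k1, k3, hcomm s a₀, hcomm s a₁]
      rw [hc8]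
      module
    · simp only [map_add, map_sub, map_smul, LinearMap.add_apply, LinearMap.sub_apply,
        LinearMap.smul_apply, hid0, hid1, hs', ← hsdef, k1, k3, hcomm s a₀, hcomm s a₁]
      rw [hc8]
      module

end Cfsg.Agent.S5545
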