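import Cfsg.Statements.S5546
import Mathlib
import Cfsg.Agent.Lib.Helper3.Mod13
-- import your own Cfsg.Agent.* helpers here

set_option autoImplicit false
open Cfsg

namespace Cfsg.Agent.S5546

open Cfsg.Agent.Lib.Helper3 Cfsg.Agent.Lib.Helper3.Mod13 Matrix

/-- the reduction of `(4,4,0,…)` -/
def uBar : GolayPt → ZMod 13 := red Spor.vecU

/-- the functional `y ↦ ū · y` -/
def phi : (GolayPt → ZMod 13) →ₗ[ZMod 13] ZMod 13 where
  toFun y := uBar ⬝ᵥ y
  map_add' := dotProduct_add _
  map_smul' c y := by simp [dotProduct_smul]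

/-- the orthogonal complement of `ū` -/
def W : Submodule (ZMod 13) (GolayPt → ZMod 13) := LinearMap.ker phi

theorem mem_W (y : GolayPt → ZMod 13) : y ∈ W ↔ uBar ⬝ᵥ y = 0 := LinearMap.mem_ker

theorem phi_uBar : uBar ⬝ᵥ uBar = 6 := by
  unfold uBar red
  simp only [dotProduct]
  decide

theorem card_GolayPt : Fintype.card GolayPt = 24 := by decide

theorem finrank_W : Module.finrank (ZMod 13) W = 23 := by
  have h1 := LinearMap.finrank_range_add_finrank_ker phi
  have h2 : LinearMap.range phi = ⊤ := by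
    rw [LinearMap.range_eq_top]
    intro c
    refine ⟨(c * 11) • uBar, ?_⟩
    show uBar ⬝ᵥ ((c * 11) • uBar) = c
    rw [dotProduct_smul, phi_uBar, smul_eq_mul, mul_assoc]
    have : (11 : ZMod 13) * 6 = 1 := by decide
    rw [this, mul_one]
  rw [h2, finrank_top, Module.finrank_self, Module.finrank_fintype_fun_eq_card, card_GolayPt] at h1
  unfold W
  omega

theorem Am_uBar {g : Equiv.Perm leechLattice} (hg : g ∈ Spor.Co2) : Am g *ᵥ uBar = uBar := by
  have h1 := Am_mulVec hg.1 Spor.leechU
  have h2 : g Spor.leechU = Spor.leechU := hg.2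
  rw [h2] at h1
  exact h1

theorem uBar_Am {g : Equiv.Perm leechLattice} (hg : g ∈ Spor.Co2) : uBar ᵥ* Am g = uBar := by
  have h1 := Am_uBar hg
  have h2 := Am_transpose_mul hg.1
  have h3 : (Am g)ᵀ *ᵥ (Am g *ᵥ uBar) = uBar := by
    rw [Matrix.mulVec_mulVec, h2, Matrix.one_mulVec]
  rw [h1, Matrix.mulVec_transpose] at h3
  exact h3

theorem Am_mem_W {g : Equiv.Perm leechLattice} (hg : g ∈ Spor.Co2) (y : GolayPt → ZMod 13)
    (hy : y ∈ W) : Matrix.toLin' (Am g) y ∈ W := by
  rw [mem_W] at hy ⊢
  rw [Matrix.toLin'_apply, Matrix.dotProduct_mulVec, uBar_Am hg, hy]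

/-- the 23-dimensional representation of `Co2` -/
def rho23 : ↥Spor.Co2 →* Module.End (ZMod 13) W where
  toFun g := (Matrix.toLin' (Am g.1)).restrict (Am_mem_W g.2)
  map_one' := by
    apply LinearMap.ext
    intro y
    apply Subtype.ext
    rw [LinearMap.restrict_apply]
    show (Matrix.toLin' (Am 1)) y.1 = y.1
    rw [Am_one, Matrix.toLin'_one]; rfl
  map_mul' g h := by
    apply LinearMap.ext
    intro y
    apply Subtype.ext
    rw [LinearMap.restrict_apply]
    show (Matrix.toLin' (Am (g.1 * h.1))) y.1 = (Matrix.toLin' (Am g.1)) ((Matrix.toLin' (Am h.1)) y.1)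
    rw [Am_mul g.2.1 h.2.1, Matrix.toLin'_mul]; rfl

theorem rho23_eq_one {g : ↥Spor.Co2} (h : rho23 g = 1) : g = 1 := by
  have h1 : ∀ y ∈ W, Am g.1 *ᵥ y = y := by
    intro y hy
    have h2 := congrArg (fun f : Module.End (ZMod 13) W => (f ⟨y, hy⟩).1) h
    exact h2
  have h3 : ∀ y : GolayPt → ZMod 13, Am g.1 *ᵥ y = y := by
    intro y
    set c : ZMod 13 := (uBar ⬝ᵥ y) * 11 with hc
    have hw : y - c • uBar ∈ W := by
      rw [mem_W, dotProduct_sub, dotProduct_smul, phi_uBar, hc, smul_eq_mul, mul_assoc]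
      have : (11 : ZMod 13) * 6 = 1 := by decide
      rw [this, mul_one, sub_self]
    have h4 := h1 _ hw
    rw [Matrix.mulVec_sub, Matrix.mulVec_smul, Am_uBar g.2] at h4
    exact sub_left_injective h4
  have h5 : Am g.1 = 1 := by
    apply Matrix.toLin'.injective
    apply LinearMap.ext
    intro y
    rw [Matrix.toLin'_apply, h3 y, Matrix.toLin'_one]; rfl
  apply Subtype.ext
  exact eq_one_of_Am g.2.1 h5

theorem rho23_injective : Function.Injective rho23 := by
  intro g h hgh
  have h1 : rho23 (h⁻¹ * g) = 1 := by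
    rw [map_mul, hgh, ← map_mul, inv_mul_cancel, map_one]
  have h2 := rho23_eq_one h1
  have : g = h * (h⁻¹ * g) := by group
  rw [this, h2, mul_one]

/-- endomorphism units to `GL 23` -/
noncomputable def toGL : (Module.End (ZMod 13) W)ˣ ≃* GL (Fin 23) (ZMod 13) :=
  Units.mapEquiv (LinearMap.toMatrixAlgEquiv
    (Module.finBasisOfFinrankEq (ZMod 13) W finrank_W)).toRingEquiv.toMulEquiv

/-- The second Conway group (the stabilizer in the Leech lattice automorphism group of the short vector fixed in the definitions) is isomorphic to a subgroup of the general linear group of degree 23 over the field with 13 elements: there is an injective homomorphism into it. -/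
theorem result : ∃ f : ↥Cfsg.Spor.Co2 →* GL (Fin 23) (ZMod 13), Function.Injective f := by
  refine ⟨toGL.toMonoidHom.comp rho23.toHomUnits, ?_⟩
  intro g h hgh
  have h1 : rho23.toHomUnits g = rho23.toHomUnits h := toGL.injective hgh
  have h2 := congrArg (fun u : (Module.End (ZMod 13) W)ˣ => (u : Module.End (ZMod 13) W)) h1
  simp only [MonoidHom.coe_toHomUnits] at h2
  exact rho23_injective h2

end Cfsg.Agent.S5546
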