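import Cfsg.Statements.S5548
import Cfsg.Agent.Lib.Helper21.GolayInvSub

set_option autoImplicit false
open Cfsg

namespace Cfsg.Agent.S5548

open Cfsg.Agent.Lib.Helper21
open scoped Pointwise

/-- For the automorphism group of the length-24 binary Golay code of the definitions (the Mathieu group of degree 24) acting on binary words of length 24 by permuting coordinates, the only invariant subspaces of the space of all words are: zero, the span of the all-ones word, the code itself, the even-weight words, and the whole space. (So the permutation module has a unique composition series.) -/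
theorem result (W : Submodule (ZMod 2) (Cfsg.GolayPt → ZMod 2)) (hW : ∀ σ ∈ Cfsg.M24, ∀ w ∈ W, (fun p => w (σ.symm p)) ∈ W) : W = ⊥ ∨ W = Submodule.span (ZMod 2) {fun _ => (1 : ZMod 2)} ∨ W = Cfsg.golayCode ∨ (W : Set (Cfsg.GolayPt → ZMod 2)) = {w | ∑ p, w p = 0} ∨ W = ⊤ := by
  classical
  have hW' : ∀ σ ∈ M24, ∀ w ∈ W, precomp σ⁻¹ w ∈ W := hW
  by_cases hle : W ≤ golayCode
  · by_cases hex : ∃ w ∈ W, w ≠ 0 ∧ w ≠ 1
    · obtain ⟨w, hw, h0, h1⟩ := hex
      right; right; left
      exact le_antisymm hle (code_le_of_mem W hW' hle w hw h0 h1)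
    · push_neg at hex
      by_cases h1 : (1 : GolayPt → ZMod 2) ∈ W
      · right; left
        apply le_antisymm
        · intro w hw
          by_cases h0 : w = 0
          · rw [h0]
            exact Submodule.zero_mem _
          · rw [hex w hw h0]
            exact Submodule.subset_span rfl
        · rw [Submodule.span_le, Set.singleton_subset_iff]
          exact h1
      · left
        rw [eq_bot_iff]
        intro w hw
        rw [Submodule.mem_bot]
        by_contra h0
        exact h1 (hex w hw h0 ▸ hw)
  · right; right; right
    obtain ⟨w, hw, hwC⟩ := Set.not_subset.1 hle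
    obtain ⟨v, hv4, hwv⟩ := exists_leader w
    have hvC : v ∉ golayCode := fun hv => hwC (by
      have h := golayCode.add_mem hwv hv
      rwa [sub_add_cancel] at h)
    obtain ⟨σ, hσ, hfix, hmove⟩ := moving_codeword (w - v) hwv v hvC
    have hxW : precomp σ⁻¹ v - v ∈ W := by
      have h1 : precomp σ⁻¹ w - w ∈ W := W.sub_mem (hW' σ hσ w hw) hw
      have e : precomp σ⁻¹ w - w = precomp σ⁻¹ v - v := by
        have e1 : precomp σ⁻¹ w = precomp σ⁻¹ (w - v) + precomp σ⁻¹ v := by
          rw [← map_add, sub_add_cancel]
        rw [e1, hfix]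
        abel
      rwa [e] at h1
    generalize hx : precomp σ⁻¹ v - v = x at hxW hmove
    have hsx : support₂ x = symmDiff (σ • support₂ v) (support₂ v) := by
      rw [← hx, sub_eq_add₂, support₂_add, support₂_precomp_inv]
    have hcard := card_symmDiff_add (σ • support₂ v) (support₂ v)
    rw [Finset.card_smul_finset, card_support₂, ← hsx] at hcard
    have hx8 : (support₂ x).card ≤ 8 := by omega
    have hxeven : Even (support₂ x).card :=
      ⟨hammingNorm v - (σ • support₂ v ∩ support₂ v).card, by omega⟩
    have hx0 : x ≠ 0 := fun h => hmove (h ▸ golayCode.zero_mem)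
    have hxpos : 1 ≤ (support₂ x).card := by
      apply Finset.card_pos.2
      rw [Finset.nonempty_iff_ne_empty]
      intro h
      exact hx0 ((support₂_eq_empty_iff x).1 h)
    have hxind : indW (support₂ x) ∈ W := by
      rw [indW_support₂]
      exact hxW
    obtain ⟨S', hS', h1, h6⟩ : ∃ S' : Finset GolayPt, indW S' ∈ W ∧ 1 ≤ S'.card ∧ S'.card ≤ 6 := by
      by_cases h6 : (support₂ x).card ≤ 6
      · exact ⟨_, hxind, hxpos, h6⟩
      · have h8 : (support₂ x).card = 8 := by
          obtain ⟨k, hk⟩ := hxeven
          omega
        apply eight_to_small W hW' hxind h8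
        intro ho
        obtain ⟨c, hc, hcs, -⟩ := (mem_octads_iff _).1 ho
        exact hmove (support₂_injective hcs ▸ hc)
    obtain ⟨a, b, hab, hp⟩ := small_to_pair W hW' hS' h1 h6
    have hpairs : ∀ a' b' : GolayPt, a' ≠ b' → indW {a', b'} ∈ W := pair_all W hW' hab hp
    have hE : ∀ w : GolayPt → ZMod 2, ∑ p, w p = 0 → w ∈ W := fun w hw =>
      even_mem_of_pairs W hpairs _ w rfl (even_card_of_sum_zero w hw)
    by_cases hall : ∀ w ∈ W, ∑ p, w p = 0
    · left
      ext w
      exact ⟨fun hw => hall w hw, fun hw => hE w hw⟩
    · right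
      push_neg at hall
      obtain ⟨w1, hw1, hs1⟩ := hall
      rw [eq_top_iff]
      intro z _
      by_cases hz : ∑ p, z p = 0
      · exact hE z hz
      · have h1 : ∑ p, w1 p = 1 := by
          rcases zmod2_cases (∑ p, w1 p) with h | h
          · exact absurd h hs1
          · exact h
        have h2 : ∑ p, z p = 1 := by
          rcases zmod2_cases (∑ p, z p) with h | h
          · exact absurd h hz
          · exact h
        have h3 : ∑ p, (z + w1) p = 0 := by
          simp only [Pi.add_apply, Finset.sum_add_distrib, h1, h2]
          decide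
        have hzw := hE _ h3
        have e : z = (z + w1) + w1 := by rw [add_assoc, zmod2_add_self, add_zero]
        rw [e]
        exact W.add_mem hzw hw1

end Cfsg.Agent.S5548
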