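import Cfsg.Statements.S5550
import Cfsg.Agent.Lib.Helper21.GolayCosetStab

set_option autoImplicit false
open Cfsg

namespace Cfsg.Agent.S5550

open Cfsg.Agent.Lib.Helper21
open scoped Pointwise

/-- Let u be a word of the length-24 binary Golay code of the definitions (possibly zero or all-ones) and w any binary word of length 24 outside the code. Then some automorphism of the code (a coordinate permutation preserving it) fixes u but moves w to a word not congruent to w modulo the code: the stabilizer of a codeword fixes no non-zero element of the quotient of the space of all words by the code. -/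
theorem result (u : (Cfsg.GolayPt → ZMod 2)) (hu : u ∈ Cfsg.golayCode) (w : (Cfsg.GolayPt → ZMod 2)) (hw : w ∉ Cfsg.golayCode) : ∃ σ ∈ Cfsg.M24, (fun p => u (σ.symm p)) = u ∧ (fun p => w (σ.symm p)) - w ∉ Cfsg.golayCode := by
  classical
  rcases golay_weights u hu with h | h | h | h | h
  · obtain ⟨σ, hσ, hn⟩ := moving_univ w hw
    refine ⟨σ, hσ, fix_of_smul σ u ?_, hn⟩
    have h0 : support₂ u = ∅ := by rw [← Finset.card_eq_zero, card_support₂, h]
    rw [h0, Finset.smul_finset_empty]
  · have ho : support₂ u ∈ octads := (mem_octads_iff _).2 ⟨u, hu, rfl, by rw [card_support₂, h]⟩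
    obtain ⟨σ, hσ, hσo, hn⟩ := moving_octad _ ho w hw
    exact ⟨σ, hσ, fix_of_smul σ u hσo, hn⟩
  · have hd : support₂ u ∈ dodecads :=
      (mem_dodecads_iff _).2 ⟨u, hu, rfl, by rw [card_support₂, h]⟩
    obtain ⟨σ, hσ, hσo, hn⟩ := moving_dodecad _ hd w hw
    exact ⟨σ, hσ, fix_of_smul σ u hσo, hn⟩
  · have ho : (support₂ u)ᶜ ∈ octads := by
      refine (mem_octads_iff _).2 ⟨1 + u, golayCode.add_mem one_mem_golay hu,
        support₂_one_add u, ?_⟩
      rw [Finset.card_compl, card_support₂, h, card_golayPt]
    obtain ⟨σ, hσ, hσo, hn⟩ := moving_octad _ ho w hw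
    rw [smul_finset_compl'] at hσo
    exact ⟨σ, hσ, fix_of_smul σ u (compl_injective hσo), hn⟩
  · obtain ⟨σ, hσ, hn⟩ := moving_univ w hw
    refine ⟨σ, hσ, fix_of_smul σ u ?_, hn⟩
    have h0 : support₂ u = Finset.univ := by
      apply Finset.eq_univ_of_card
      rw [card_support₂, h, card_golayPt]
    rw [h0, Finset.smul_finset_univ]

end Cfsg.Agent.S5550
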