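import Cfsg.Statements.S5592
import Cfsg.Agent.S0391
import Mathlib

set_option autoImplicit false
open Cfsg

namespace Cfsg.Agent.S5592

theorem result (x y : Cfsg.GolayPt → ℤ) (hx : x ∈ Cfsg.leechLattice) (hy : y ∈ Cfsg.leechLattice) (hxy : x ≠ y) (hxn : Cfsg.sqNorm x ≤ 64) (hyn : Cfsg.sqNorm y ≤ 64) (hc : (∃ z ∈ Cfsg.leechLattice, x - y = 2 • z)) :
    x = -y ∨ (Cfsg.sqNorm x = 64 ∧ Cfsg.sqNorm y = 64 ∧ Cfsg.dotInt x y = 0) := by
  obtain ⟨z, hz, hxyz⟩ := hc
  have hzi : ∀ i, x i - y i = 2 * z i := by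
    intro i
    have := congrFun hxyz i
    simpa using this
  have hz0 : z ≠ 0 := by
    intro h
    apply hxy
    funext i
    have := hzi i
    rw [h] at this
    simp at this
    linarith
  set w : Cfsg.GolayPt → ℤ := z + y with hw
  have hwL : w ∈ Cfsg.leechLattice := Cfsg.leechLattice.add_mem hz hy
  have hwi : ∀ i, x i + y i = 2 * w i := by
    intro i
    have := hzi i
    simp only [hw, Pi.add_apply]
    linarith
  by_cases hw0 : w = 0
  · left
    funext i
    have := hwi i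
    rw [hw0] at this
    simp at this
    simp only [Pi.neg_apply]
    linarith
  · right
    have h1 := Cfsg.Agent.S0391.result z hz hz0
    have h2 := Cfsg.Agent.S0391.result w hwL hw0
    unfold Cfsg.sqNorm at *
    unfold Cfsg.dotInt
    have hpar : 4 * ∑ i, z i ^ 2 + 4 * ∑ i, w i ^ 2 = 2 * ∑ i, x i ^ 2 + 2 * ∑ i, y i ^ 2 := by
      rw [Finset.mul_sum, Finset.mul_sum, Finset.mul_sum, Finset.mul_sum, ← Finset.sum_add_distrib,
        ← Finset.sum_add_distrib]
      apply Finset.sum_congr rfl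
      intro i _
      have e1 : 4 * z i ^ 2 = (x i - y i) ^ 2 := by rw [hzi i]; ring
      have e2 : 4 * w i ^ 2 = (x i + y i) ^ 2 := by rw [hwi i]; ring
      rw [e1, e2]; ring
    have hdot : 4 * ∑ i, x i * y i = 4 * ∑ i, w i ^ 2 - 4 * ∑ i, z i ^ 2 := by
      rw [Finset.mul_sum, Finset.mul_sum, Finset.mul_sum, ← Finset.sum_sub_distrib]
      apply Finset.sum_congr rfl
      intro i _
      have e1 : 4 * z i ^ 2 = (x i - y i) ^ 2 := by rw [hzi i]; ring
      have e2 : 4 * w i ^ 2 = (x i + y i) ^ 2 := by rw [hwi i]; ring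
      rw [e1, e2]; ring
    refine ⟨by linarith, by linarith, by linarith⟩

end Cfsg.Agent.S5592
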