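import Cfsg.Statements.S5552
import Mathlib
import Cfsg.Agent.Lib.Helper3.LeechQuad
import Cfsg.Agent.Lib.Helper3.Co0Trans64
import Cfsg.Agent.Lib.Helper3.Co0Trans48
-- import your own Cfsg.Agent.* helpers here

set_option autoImplicit false
open Cfsg

namespace Cfsg.Agent.S5552

open Cfsg Cfsg.Agent.Lib.Helper3 Cfsg.Agent.Lib.Helper21

theorem qid1 {p q k : GolayPt} (hpq : p ≠ q) (hpk : p ≠ k) (hqk : q ≠ k) :
    sv 4 {p, q} ∅ + sv 4 {p, k} {p, k} = sv 4 {q, k} {k} := by
  funext i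
  simp only [Pi.add_apply, sv, Finset.mem_insert, Finset.mem_singleton, Finset.notMem_empty,
    if_false]
  by_cases h1 : i = p
  · subst h1; simp [hpq, hpk]
  by_cases h2 : i = q
  · subst h2; simp [h1, hqk]
  by_cases h3 : i = k
  · subst h3; simp [h1, h2]
  simp [h1, h2, h3]

theorem qid2 {p k : GolayPt} {O : Finset GolayPt} (hp : p ∈ O) (hk : k ∈ O) :
    sv 4 {p, k} {p, k} + sv 2 O ∅ = sv 2 O {p, k} := by
  funext i
  simp only [Pi.add_apply, sv, Finset.mem_insert, Finset.mem_singleton, Finset.notMem_empty,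
    if_false]
  by_cases h1 : i = p
  · subst h1; simp [hp]
  by_cases h3 : i = k
  · subst h3; simp [hk]
  by_cases h4 : i ∈ O <;> simp [h1, h3, h4]

theorem qid3 {p q : GolayPt} {O : Finset GolayPt} (hp : p ∈ O) (hq : q ∉ O) :
    sv 4 {p, q} ∅ = ev O (O.erase p) q 4 + sv 2 O ∅ := by
  have hpq : p ≠ q := fun h => hq (h ▸ hp)
  funext i
  simp only [Pi.add_apply, sv, ev, Finset.mem_insert, Finset.mem_singleton, Finset.notMem_empty,
    if_false, Finset.mem_erase]
  by_cases h2 : i = q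
  · subst h2; simp [hq]
  by_cases h1 : i = p
  · subst h1; simp [hp, hpq]
  by_cases h4 : i ∈ O <;> simp [h1, h2, h4]

theorem qid4 {p q k : GolayPt} {O : Finset GolayPt} (hp : p ∈ O) (hk : k ∈ O) (hq : q ∉ O)
    (hpk : p ≠ k) : sv 4 {p, q} ∅ + sv 2 O {p, k} = ev O {k} q 4 := by
  have hpq : p ≠ q := fun h => hq (h ▸ hp)
  have hkq : k ≠ q := fun h => hq (h ▸ hk)
  funext i
  simp only [Pi.add_apply, sv, ev, Finset.mem_insert, Finset.mem_singleton, Finset.notMem_empty,
    if_false]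
  by_cases h2 : i = q
  · subst h2; simp [hq, hpq.symm, hkq.symm]
  by_cases h1 : i = p
  · subst h1; simp [hp, hpq, hpk]
  by_cases h3 : i = k
  · subst h3; simp [h1, h2]
  by_cases h4 : i ∈ O <;> simp [h1, h2, h3, h4]

theorem qid5 {a b : GolayPt} {O : Finset GolayPt} (ha : a ∈ O) (hb : b ∈ O) :
    sv 2 O ∅ + sv 2 O (O \ {a, b}) = sv 4 {a, b} ∅ := by
  funext i
  simp only [Pi.add_apply, sv, Finset.mem_insert, Finset.mem_singleton, Finset.notMem_empty,
    if_false, Finset.mem_sdiff]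
  by_cases h1 : i = a
  · subst h1; simp [ha]
  by_cases h3 : i = b
  · subst h3; simp [hb]
  by_cases h4 : i ∈ O <;> simp [h1, h3, h4]

theorem qid6 {p q a b : GolayPt} {O : Finset GolayPt} (hp : p ∈ O) (hq : q ∉ O) (ha : a ∈ O)
    (hb : b ∈ O) (hpa : p ≠ a) (hpb : p ≠ b) :
    sv 4 {p, q} ∅ + sv 2 O (O \ {a, b}) = ev O ((O \ {a, b}).erase p) q 4 := by
  have hpq : p ≠ q := fun h => hq (h ▸ hp)
  have haq : a ≠ q := fun h => hq (h ▸ ha)
  have hbq : b ≠ q := fun h => hq (h ▸ hb)
  funext i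
  simp only [Pi.add_apply, sv, ev, Finset.mem_insert, Finset.mem_singleton, Finset.notMem_empty,
    if_false, Finset.mem_sdiff, Finset.mem_erase]
  by_cases h2 : i = q
  · subst h2; simp [hq]
  by_cases h1 : i = p
  · subst h1; simp [hp, hpq, hpa, hpb]
  by_cases h3 : i = a
  · subst h3; simp [ha, h1, h2]
  by_cases h5 : i = b
  · subst h5; simp [hb, h1, h2]
  by_cases h4 : i ∈ O <;> simp [h1, h2, h3, h4, h5]

theorem qid7 {p q a b : GolayPt} (hpa : p ≠ a) (hpb : p ≠ b) (hqa : q ≠ a) (hqb : q ≠ b) :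
    sv 4 {p, q} ∅ + sv 4 {a, b} ∅ = sv 4 {p, q, a, b} ∅ := by
  funext i
  simp only [Pi.add_apply, sv, Finset.mem_insert, Finset.mem_singleton, Finset.notMem_empty,
    if_false]
  by_cases h1 : i = p
  · subst h1; simp [hpa, hpb]
  by_cases h2 : i = q
  · subst h2; simp [hqa, hqb]
  by_cases h3 : i = a
  · subst h3; simp [h1, h2]
  by_cases h5 : i = b
  · subst h5; simp [h1, h2]
  simp [h1, h2, h3, h5]


/-- the value of the standard quadratic form -/
noncomputable def kq (v : ↥leechLattice) : ℤ := sqNorm v.1 / 16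

theorem kq_spec (v : ↥leechLattice) : sqNorm v.1 = 16 * kq v := by
  have h := Cfsg.Agent.S0392.result v.1 v.2
  unfold kq
  omega

theorem sqNorm_three (x y z : GolayPt → ℤ) :
    sqNorm (x + y + z) + sqNorm x + sqNorm y + sqNorm z =
      sqNorm (x + y) + sqNorm (x + z) + sqNorm (y + z) := by
  unfold sqNorm
  simp only [← Finset.sum_add_distrib]
  apply Finset.sum_congr rfl
  intro i _
  simp only [Pi.add_apply]; ring

theorem kq_quad (u v w : ↥leechLattice) :
    kq (u + v + w) + kq u + kq v + kq w = kq (u + v) + kq (u + w) + kq (v + w) := by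
  have h := sqNorm_three u.1 v.1 w.1
  have h1 := kq_spec (u + v + w)
  have h2 := kq_spec u
  have h3 := kq_spec v
  have h4 := kq_spec w
  have h5 := kq_spec (u + v)
  have h6 := kq_spec (u + w)
  have h7 := kq_spec (v + w)
  simp only [AddSubgroup.coe_add] at h1 h5 h6 h7
  omega

theorem kq_coset (v w : ↥leechLattice) : (kq (v + (w + w)) : ZMod 2) = (kq v : ZMod 2) := by
  have h1 := kq_spec (v + (w + w))
  have h2 := kq_spec v
  have h3 := kq_spec w
  simp only [AddSubgroup.coe_add] at h1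
  have h4 := sqNorm_add v.1 (w.1 + w.1)
  have h5 := sqNorm_add w.1 w.1
  have h6 : dotInt v.1 (w.1 + w.1) = 2 * dotInt v.1 w.1 := by
    unfold dotInt
    rw [Finset.mul_sum]
    apply Finset.sum_congr rfl
    intro i _
    simp only [Pi.add_apply]; ring
  have h7 : dotInt w.1 w.1 = sqNorm w.1 := by
    unfold dotInt sqNorm
    apply Finset.sum_congr rfl
    intro i _
    ring
  obtain ⟨e, he⟩ := dot_dvd v.2 w.2
  rw [ZMod.intCast_eq_intCast_iff']
  omega

/-- On the Leech lattice of the definitions, let Q be a function to the field with two elements that is constant on cosets of twice the lattice, is a quadratic form there (Q(u+v+w) + Q(u) + Q(v) + Q(w) = Q(u+v) + Q(u+w) + Q(v+w) for all u, v, w), is invariant under every lattice automorphism, and is not identically zero. Then Q(v) is the squared length of v divided by 16, reduced modulo 2, for every lattice vector v (squared lengths of lattice vectors are multiples of 16). -/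
theorem result (Q : ↥Cfsg.leechLattice → ZMod 2) (hcoset : ∀ v w : ↥Cfsg.leechLattice, Q (v + (w + w)) = Q v) (hquad : ∀ u v w : ↥Cfsg.leechLattice, Q (u + v + w) + Q u + Q v + Q w = Q (u + v) + Q (u + w) + Q (v + w)) (hinv : ∀ (g : ↥Cfsg.Co0) (v : ↥Cfsg.leechLattice), Q (g • v) = Q v) (hne : ∃ v : ↥Cfsg.leechLattice, Q v ≠ 0) (v : ↥Cfsg.leechLattice) : Q v = ((Cfsg.sqNorm (v : Cfsg.GolayPt → ℤ) / 16 : ℤ) : ZMod 2) := by
  classical
  revert v
  -- basic consequences
  have hinv' : ∀ g ∈ Cfsg.Co0, ∀ v : ↥Cfsg.leechLattice, Q (g v) = Q v :=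
    fun g hg v => hinv ⟨g, hg⟩ v
  have hQ2 : ∀ a b : ↥Cfsg.leechLattice, sqNorm a.1 = 32 → sqNorm b.1 = 32 → Q a = Q b := by
    intro a b ha hb
    obtain ⟨g, hg, h⟩ := co0_trans_minimal a b ha hb
    rw [← h, hinv' g hg]
  have hQ3 : ∀ a b : ↥Cfsg.leechLattice, sqNorm a.1 = 48 → sqNorm b.1 = 48 → Q a = Q b := by
    intro a b ha hb
    obtain ⟨g, hg, h⟩ := co0_trans_norm48 a b ha hb
    rw [← h, hinv' g hg]
  have hQ4 : ∀ a b : ↥Cfsg.leechLattice, sqNorm a.1 = 64 → sqNorm b.1 = 64 → Q a = Q b := by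
    intro a b ha hb
    obtain ⟨g, hg, h⟩ := co0_trans_norm64 a b ha hb
    rw [← h, hinv' g hg]
  have hQ0 : Q 0 = 0 := by
    have h := hquad 0 0 0
    simp only [add_zero] at h
    revert h
    generalize Q 0 = a
    revert a
    decide
  have hadd : ∀ u v w : ↥Cfsg.leechLattice, Q (u + (v + w)) + Q u + Q (v + w) =
      (Q (u + v) + Q u + Q v) + (Q (u + w) + Q u + Q w) := by
    intro u v w
    have h := hquad u v w
    have h1 : u + v + w = u + (v + w) := add_assoc u v w
    rw [h1] at h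
    revert h
    generalize Q (u + (v + w)) = a
    generalize Q (u + v) = b
    generalize Q (u + w) = c
    generalize Q (v + w) = d
    generalize Q u = e
    generalize Q v = f
    generalize Q w = g
    revert a b c d e f g
    decide
  -- the configuration
  have hpq : (none : GolayPt) ≠ some 0 := by decide
  obtain ⟨O, hO, hpO, hqO⟩ := exists_octad_sep hpq
  have hcard7 : (O.erase none).card = 7 := by rw [Finset.card_erase_of_mem hpO, hO.2]
  obtain ⟨t, ht, htc⟩ := Finset.exists_subset_card_eq (s := O.erase none) (n := 2) (by omega)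
  obtain ⟨a, b, hab, rfl⟩ := Finset.card_eq_two.1 htc
  have haO' := Finset.mem_erase.1 (ht (Finset.mem_insert_self a {b}))
  have hbO' := Finset.mem_erase.1 (ht (Finset.mem_insert_of_mem (Finset.mem_singleton_self b)))
  have hpa : (none : GolayPt) ≠ a := fun h => haO'.1 h.symm
  have hpb : (none : GolayPt) ≠ b := fun h => hbO'.1 h.symm
  have haO := haO'.2
  have hbO := hbO'.2
  have hqa : (some 0 : GolayPt) ≠ a := fun h => hqO (h ▸ haO)
  have hqb : (some 0 : GolayPt) ≠ b := fun h => hqO (h ▸ hbO)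
  -- the vectors
  have hv_mem : sv 4 {none, some 0} ∅ ∈ Cfsg.leechLattice :=
    sv4_mem (Finset.card_pair hpq) (Finset.empty_subset _)
  have hv_n : sqNorm (sv 4 {(none : GolayPt), some 0} ∅) = 32 := by
    rw [sqNorm_sv 4 (Finset.empty_subset _), Finset.card_pair hpq]; norm_num
  have hw1_mem : sv 4 {none, a} {none, a} ∈ Cfsg.leechLattice :=
    sv4_mem (Finset.card_pair hpa) (Finset.Subset.refl _)
  have hw1_n : sqNorm (sv 4 {(none : GolayPt), a} {none, a}) = 32 := by
    rw [sqNorm_sv 4 (Finset.Subset.refl _), Finset.card_pair hpa]; norm_num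
  have hw2_mem : sv 2 O ∅ ∈ Cfsg.leechLattice := sv2_mem hO (Finset.empty_subset _) (by simp)
  have hw2_n : sqNorm (sv 2 O ∅) = 32 := by
    rw [sqNorm_sv 2 (Finset.empty_subset _), hO.2]; norm_num
  have hr1_n : sqNorm (sv 4 {(some 0 : GolayPt), a} {a}) = 32 := by
    rw [sqNorm_sv 4 (by simp), Finset.card_pair hqa]; norm_num
  have hsub2 : ({none, a} : Finset GolayPt) ⊆ O := by
    intro i hi
    rcases Finset.mem_insert.1 hi with rfl | hi
    · exact hpO
    · rw [Finset.mem_singleton.1 hi]; exact haO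
  have hr2_n : sqNorm (sv 2 O {none, a}) = 32 := by
    rw [sqNorm_sv 2 hsub2, hO.2]; norm_num
  have hr3_mem : ev O (O.erase none) (some 0) 4 ∈ Cfsg.leechLattice :=
    ev_mem hO (Finset.erase_subset _ _) (by rw [hcard7]; decide) hqO (Or.inl rfl)
  have hr3_n : sqNorm (ev O (O.erase none) (some 0) 4) = 48 := by
    rw [sqNorm_ev (Finset.erase_subset _ _) hqO, hO.2]; norm_num
  have hsub4 : ({a} : Finset GolayPt) ⊆ O := Finset.singleton_subset_iff.2 haO
  have hr4_n : sqNorm (ev O {a} (some 0) 4) = 48 := by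
    rw [sqNorm_ev hsub4 hqO, hO.2]; norm_num
  -- subtype versions
  obtain ⟨v, hv⟩ : ∃ v : ↥Cfsg.leechLattice, v.1 = sv 4 {none, some 0} ∅ := ⟨⟨_, hv_mem⟩, rfl⟩
  obtain ⟨w1, hw1⟩ : ∃ v : ↥Cfsg.leechLattice, v.1 = sv 4 {none, a} {none, a} :=
    ⟨⟨_, hw1_mem⟩, rfl⟩
  obtain ⟨w2, hw2⟩ : ∃ v : ↥Cfsg.leechLattice, v.1 = sv 2 O ∅ := ⟨⟨_, hw2_mem⟩, rfl⟩
  obtain ⟨r3, hr3⟩ : ∃ v : ↥Cfsg.leechLattice, v.1 = ev O (O.erase none) (some 0) 4 :=
    ⟨⟨_, hr3_mem⟩, rfl⟩
  have hvn : sqNorm v.1 = 32 := by rw [hv]; exact hv_n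
  have hw1n : sqNorm w1.1 = 32 := by rw [hw1]; exact hw1_n
  have hw2n : sqNorm w2.1 = 32 := by rw [hw2]; exact hw2_n
  have hr3n : sqNorm r3.1 = 48 := by rw [hr3]; exact hr3_n
  have e1 : sqNorm (v + w1).1 = 32 := by
    rw [AddSubgroup.coe_add, hv, hw1, qid1 hpq hpa hqa]; exact hr1_n
  have e2 : sqNorm (w1 + w2).1 = 32 := by
    rw [AddSubgroup.coe_add, hw1, hw2, qid2 hpO haO]; exact hr2_n
  have e3 : v = r3 + w2 := by
    apply Subtype.ext
    rw [AddSubgroup.coe_add, hv, hr3, hw2]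
    exact qid3 hpO hqO
  have e4 : sqNorm (v + (w1 + w2)).1 = 48 := by
    rw [AddSubgroup.coe_add, AddSubgroup.coe_add, hv, hw1, hw2, qid2 hpO haO,
      qid4 hpO haO hqO hpa]
    exact hr4_n
  have e5 : Q (v + w2) = Q r3 := by
    rw [e3, add_assoc]
    exact hcoset r3 w2
  -- `c2 = 0`
  have hc2v : Q v = 0 := by
    have h := hadd v w1 w2
    rw [hQ3 _ r3 e4 hr3n, hQ2 _ v e2 hvn, hQ2 _ v e1 hvn, hQ2 w1 v hw1n hvn, e5,
      hQ2 w2 v hw2n hvn] at h
    revert h
    generalize Q v = x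
    generalize Q r3 = y
    revert x y
    decide
  have hc2 : ∀ m : ↥Cfsg.leechLattice, sqNorm m.1 = 32 → Q m = 0 := by
    intro m hm
    rw [hQ2 m v hm hvn, hc2v]
  -- `c4 = 0`
  have hWsub : O \ {a, b} ⊆ O := Finset.sdiff_subset
  have hWcard : (O \ {a, b}).card = 6 := by
    rw [Finset.card_sdiff_of_subset, hO.2, Finset.card_pair hab]
    intro i hi
    rcases Finset.mem_insert.1 hi with rfl | hi
    · exact haO
    · rw [Finset.mem_singleton.1 hi]; exact hbO
  have hw3_mem : sv 2 O (O \ {a, b}) ∈ Cfsg.leechLattice :=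
    sv2_mem hO hWsub (by rw [hWcard]; decide)
  have hw3_n : sqNorm (sv 2 O (O \ {a, b})) = 32 := by
    rw [sqNorm_sv 2 hWsub, hO.2]; norm_num
  obtain ⟨w3, hw3⟩ : ∃ v : ↥Cfsg.leechLattice, v.1 = sv 2 O (O \ {a, b}) := ⟨⟨_, hw3_mem⟩, rfl⟩
  have hw3n : sqNorm w3.1 = 32 := by rw [hw3]; exact hw3_n
  have f1 : sqNorm (w2 + w3).1 = 32 := by
    rw [AddSubgroup.coe_add, hw2, hw3, qid5 haO hbO,
      sqNorm_sv 4 (Finset.empty_subset _), Finset.card_pair hab]
    norm_num
  have hpW : (none : GolayPt) ∈ O \ {a, b} := by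
    rw [Finset.mem_sdiff]
    refine ⟨hpO, ?_⟩
    simp [hpa, hpb]
  have f2 : sqNorm (v + w3).1 = 48 := by
    rw [AddSubgroup.coe_add, hv, hw3, qid6 hpO hqO haO hbO hpa hpb,
      sqNorm_ev ((Finset.erase_subset _ _).trans hWsub) hqO, hO.2]
    norm_num
  have f3 : sqNorm (v + (w2 + w3)).1 = 64 := by
    rw [AddSubgroup.coe_add, AddSubgroup.coe_add, hv, hw2, hw3, qid5 haO hbO,
      qid7 hpa hpb hqa hqb, sqNorm_sv 4 (Finset.empty_subset _)]
    have : ({none, some 0, a, b} : Finset GolayPt).card = 4 := by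
      rw [Finset.card_insert_of_notMem, Finset.card_insert_of_notMem, Finset.card_pair hab]
      · simp [hqa, hqb]
      · simp [hpq, hpa, hpb]
    rw [this]; norm_num
  have hc4v : Q (v + (w2 + w3)) = 0 := by
    have h := hadd v w2 w3
    rw [hc2 _ f1, hc2 v hvn, hc2 w2 hw2n, hc2 w3 hw3n, e5, hQ3 _ r3 f2 hr3n] at h
    revert h
    generalize Q (v + (w2 + w3)) = x
    generalize Q r3 = y
    revert x y
    decide
  have hc4 : ∀ m : ↥Cfsg.leechLattice, sqNorm m.1 = 64 → Q m = 0 := by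
    intro m hm
    rw [hQ4 m _ hm f3, hc4v]
  -- short vectors
  have hshort : ∀ u : ↥Cfsg.leechLattice, sqNorm u.1 ≤ 64 → Q u = Q r3 * (kq u : ZMod 2) := by
    intro u hu
    have h1 := kq_spec u
    have h2 := sqNorm_nonneg u.1
    by_cases h0 : u.1 = 0
    · have : u = 0 := Subtype.ext h0
      rw [this, hQ0]
      have : kq (0 : ↥Cfsg.leechLattice) = 0 := by
        have := kq_spec (0 : ↥Cfsg.leechLattice)
        rw [AddSubgroup.coe_zero, sqNorm_zero] at this
        omega
      rw [this]; simp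
    · have h3 := Cfsg.Agent.S0391.result u.1 u.2 h0
      have h4 : kq u = 2 ∨ kq u = 3 ∨ kq u = 4 := by omega
      rcases h4 with h4 | h4 | h4
      · rw [hc2 u (by omega), h4]
        have : ((2 : ℤ) : ZMod 2) = 0 := by decide
        rw [this, mul_zero]
      · rw [hQ3 u r3 (by omega) hr3n, h4]
        have : ((3 : ℤ) : ZMod 2) = 1 := by decide
        rw [this, mul_one]
      · rw [hc4 u (by omega), h4]
        have : ((4 : ℤ) : ZMod 2) = 0 := by decide
        rw [this, mul_zero]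
  -- the difference form
  have hD := quad_zero (fun u => Q u + Q r3 * (kq u : ZMod 2)) ?_ ?_ ?_ ?_
  · -- conclusion
    have hQ : ∀ u, Q u = Q r3 * (kq u : ZMod 2) := by
      intro u
      have h := hD u
      beta_reduce at h
      revert h
      generalize Q u = x
      generalize Q r3 * (kq u : ZMod 2) = y
      revert x y
      decide
    have hc3 : Q r3 = 1 := by
      obtain ⟨u, hu⟩ := hne
      rw [hQ u] at hu
      have : Q r3 ≠ 0 := fun h => hu (by rw [h, zero_mul])
      revert this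
      generalize Q r3 = x
      revert x
      decide
    intro vv
    rw [hQ vv, hc3, one_mul]
    rfl
  · intro u w
    beta_reduce
    rw [hcoset u w, kq_coset u w]
  · intro u w z
    beta_reduce
    have h1 := hquad u w z
    have h2 := congrArg (Int.cast : ℤ → ZMod 2) (kq_quad u w z)
    push_cast at h2
    linear_combination h1 + Q r3 * h2
  · intro m hm
    beta_reduce
    rw [hshort m (by omega)]
    generalize Q r3 * (kq m : ZMod 2) = y
    revert y
    decide
  · intro m m' hm hm'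
    beta_reduce
    by_cases hle : sqNorm (m + m').1 ≤ 64
    · rw [hshort _ hle]
      generalize Q r3 * (kq (m + m') : ZMod 2) = y
      revert y
      decide
    · have hpar : sqNorm (m + m').1 + sqNorm (m + -m').1 = 128 := by
        rw [AddSubgroup.coe_add, AddSubgroup.coe_add, AddSubgroup.coe_neg, ← sub_eq_add_neg,
          sqNorm_add, sqNorm_sub, hm, hm']
        ring
      have hle' : sqNorm (m + -m').1 ≤ 64 := by omega
      have h1 : m + m' = (m + -m') + (m' + m') := by abel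
      rw [h1, hcoset, kq_coset, hshort _ hle']
      generalize Q r3 * (kq (m + -m') : ZMod 2) = y
      revert y
      decide

end Cfsg.Agent.S5552
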