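import Cfsg.Statements.S5562

set_option autoImplicit false
open Cfsg

namespace Cfsg.Agent.S5562

theorem mul_self_of_order_two {G : Type*} [Group G] {x : G} (hx : orderOf x = 2) : x * x = 1 := by
  have h := pow_orderOf_eq_one x
  rw [hx, pow_two] at h
  exact h

theorem inv_self_of_mul_self {G : Type*} [Group G] {x : G} (hx : x * x = 1) : x⁻¹ = x :=
  inv_eq_of_mul_eq_one_left hx

theorem conj_mem {G : Type*} [Group G] {d a : G} (ha : a ∈ conjugatesOf d) (w : G) :
    w * a * w⁻¹ ∈ conjugatesOf d := by
  have h1 : IsConj d a := ha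
  have h2 : IsConj a (w * a * w⁻¹) := isConj_iff.mpr ⟨w, rfl⟩
  exact h1.trans h2

theorem order_of_mem {G : Type*} [Group G] {d a : G} (ha : a ∈ conjugatesOf d) :
    orderOf a = orderOf d := by
  have h1 : IsConj d a := ha
  obtain ⟨c, hc⟩ := isConj_iff.mp h1
  rw [← hc]
  have := MulEquiv.orderOf_eq (MulAut.conj c) d
  simpa [MulAut.conj_apply] using this

/-- two involutions with product of odd order are conjugate -/
theorem conj_of_odd {G : Type*} [Group G] {s t : G} (hs : s * s = 1) (ht : t * t = 1)
    (hodd : Odd (orderOf (s * t))) : ∃ g : G, g * s * g⁻¹ = t := by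
  obtain ⟨k, hk⟩ := hodd
  have hsi : s⁻¹ = s := inv_self_of_mul_self hs
  have hti : t⁻¹ = t := inv_self_of_mul_self ht
  have hinv : (s * t)⁻¹ = t * s := by rw [mul_inv_rev, hsi, hti]
  have h1 : (s * t) ^ k * (s * t) ^ (k + 1) = 1 := by
    rw [← pow_add, show k + (k + 1) = 2 * k + 1 by ring, ← hk, pow_orderOf_eq_one]
  have h2 : (s * t) ^ k = (t * s) ^ (k + 1) := by
    rw [← hinv, inv_pow]; exact eq_inv_of_mul_eq_one_left h1
  have hsc : SemiconjBy s (t * s) (s * t) := by
    unfold SemiconjBy; simp only [mul_assoc]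
  have hsc' : s * (t * s) ^ k = (s * t) ^ k * s := (hsc.pow_right k)
  refine ⟨(t * s) ^ (k + 1), ?_⟩
  rw [mul_inv_eq_iff_eq_mul]
  calc (t * s) ^ (k + 1) * s = t * (s * (t * s) ^ k) * s := by
        rw [pow_succ' (t * s) k]; simp only [mul_assoc]
    _ = t * ((s * t) ^ k * s) * s := by rw [hsc']
    _ = t * (s * t) ^ k * (s * s) := by simp only [mul_assoc]
    _ = t * (t * s) ^ (k + 1) := by rw [hs, mul_one, h2]

/-- Let G be a finite group, d an involution of G whose conjugates pairwise have products of odd order, and x any involution of G. Then the conjugacy class of d is the disjoint union, over the conjugates a of d commuting with x, of the sets of conjugates of d commuting with ax: every conjugate of d commutes with ax for exactly one conjugate a of d that commutes with x. -/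
theorem result {G : Type*} [Group G] [Finite G] (d : G) (hd : orderOf d = 2)
    (hodd : ∀ a ∈ conjugatesOf d, ∀ b ∈ conjugatesOf d, Odd (orderOf (a * b)))
    (x : G) (hx : orderOf x = 2) :
    ∀ e ∈ conjugatesOf d,
      ∃! a : G, a ∈ conjugatesOf d ∧ Commute a x ∧ Commute e (a * x) := by
  intro e he
  have hxx : x * x = 1 := mul_self_of_order_two hx
  have hee : e * e = 1 := mul_self_of_order_two ((order_of_mem he).trans hd)
  have hxi : x⁻¹ = x := inv_self_of_mul_self hxx
  have hei : e⁻¹ = e := inv_self_of_mul_self hee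
  -- existence
  have hex : ∃ a, a ∈ conjugatesOf d ∧ Commute a x ∧ Commute e (a * x) := by
    rcases Nat.even_or_odd (orderOf (e * x)) with hev | hod
    · obtain ⟨j, hj⟩ := hev
      have hrinv : (e * x)⁻¹ = x * e := by rw [mul_inv_rev, hxi, hei]
      have hrj : (e * x) ^ (j + j) = 1 := by rw [← hj, pow_orderOf_eq_one]
      have hzz : (e * x) ^ j * (e * x) ^ j = 1 := by rw [← pow_add, hrj]
      have hz1 : (e * x) ^ j ≠ 1 := by
        intro h
        have h1 := orderOf_dvd_of_pow_eq_one h
        have hpos : 0 < orderOf (e * x) := orderOf_pos (e * x)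
        have h2 : orderOf (e * x) ≤ j := Nat.le_of_dvd (by omega) h1
        omega
      have hzi : ((e * x) ^ j)⁻¹ = (e * x) ^ j := inv_self_of_mul_self hzz
      have hse : SemiconjBy e (e * x) (e * x)⁻¹ := by
        unfold SemiconjBy; rw [hrinv]; simp only [mul_assoc]; rw [← mul_assoc e e x, hee, one_mul, mul_one]
      have hsx : SemiconjBy x (e * x) (e * x)⁻¹ := by
        unfold SemiconjBy; rw [hrinv]; simp only [mul_assoc]
      have hsen : ∀ n : ℕ, e * (e * x) ^ n = ((e * x) ^ n)⁻¹ * e := by
        intro n; have := hse.pow_right n; rw [inv_pow] at this; exact this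
      have hsxn : ∀ n : ℕ, x * (e * x) ^ n = ((e * x) ^ n)⁻¹ * x := by
        intro n; have := hsx.pow_right n; rw [inv_pow] at this; exact this
      have hce : Commute e ((e * x) ^ j) := by
        have := hsen j; rw [hzi] at this; exact this
      have hcx : Commute x ((e * x) ^ j) := by
        have := hsxn j; rw [hzi] at this; exact this
      rcases Nat.even_or_odd j with ⟨i, hi⟩ | ⟨i, hi⟩
      · -- j even: contradiction
        exfalso
        have hmem : e * (e * x) ^ j ∈ conjugatesOf d := by
          have h1 := conj_mem he ((e * x) ^ i)⁻¹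
          have h2 : ((e * x) ^ i)⁻¹ * e * ((e * x) ^ i)⁻¹⁻¹ = e * (e * x) ^ j := by
            rw [inv_inv, mul_assoc, hsen i, ← mul_assoc, ← mul_inv_rev, ← pow_add, ← hi, hzi]
            exact hce.symm.eq
          rw [h2] at h1; exact h1
        have h3 := hodd e he _ hmem
        rw [← mul_assoc, hee, one_mul, orderOf_eq_prime (by rw [pow_two]; exact hzz) hz1] at h3
        exact absurd h3 (by decide)
      · -- j odd
        refine ⟨x * (e * x) ^ j, ?_, ?_, ?_⟩
        · have h1 := conj_mem he ((e * x) ^ (i + 1))⁻¹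
          have h2 : ((e * x) ^ (i + 1))⁻¹ * e * ((e * x) ^ (i + 1))⁻¹⁻¹ = x * (e * x) ^ j := by
            rw [inv_inv, mul_assoc, hsen (i + 1), ← mul_assoc, ← mul_inv_rev, ← pow_add,
              show i + 1 + (i + 1) = j + 1 by omega, ← hsen (j + 1), pow_succ' (e * x) j,
              ← mul_assoc, ← mul_assoc, hee, one_mul]
          rw [h2] at h1; exact h1
        · exact (Commute.refl x).mul_left hcx.symm
        · have h4 : x * (e * x) ^ j * x = (e * x) ^ j := by
            rw [hcx.eq, mul_assoc, hxx, mul_one]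
          rw [h4]; exact hce
    · -- odd: x itself is a conjugate
      obtain ⟨g, hg⟩ := conj_of_odd hee hxx hod
      refine ⟨x, ?_, Commute.refl x, ?_⟩
      · rw [← hg]; exact conj_mem he g
      · rw [hxx]; exact Commute.one_right e
  obtain ⟨a, ha1, ha2, ha3⟩ := hex
  refine ⟨a, ⟨ha1, ha2, ha3⟩, ?_⟩
  rintro a' ⟨h1', h2', h3'⟩
  have haa : a * a = 1 := mul_self_of_order_two ((order_of_mem ha1).trans hd)
  have ha'a' : a' * a' = 1 := mul_self_of_order_two ((order_of_mem h1').trans hd)
  have hai : a⁻¹ = a := inv_self_of_mul_self haa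
  have ha'i : a'⁻¹ = a' := inv_self_of_mul_self ha'a'
  -- r = a * a'
  have hr_eq : a * a' = (a * x) * (a' * x)⁻¹ := by
    rw [mul_inv_rev, hxi, ha'i]; simp only [mul_assoc]; rw [← mul_assoc x x a', hxx, one_mul]
  have hcer : Commute e (a * a') := by
    rw [hr_eq]; exact ha3.mul_right h3'.inv_right
  have hrodd : Odd (orderOf (a * a')) := hodd a ha1 a' h1'
  have huodd : Odd (orderOf (a * e)) := hodd a ha1 e he
  have hrinv : (a * a')⁻¹ = a' * a := by rw [mul_inv_rev, hai, ha'i]
  have hsu : SemiconjBy (a * e) (a * a') (a * a')⁻¹ := by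
    unfold SemiconjBy
    rw [mul_assoc, hcer.eq, hrinv]
    simp only [mul_assoc]
    rw [← mul_assoc a a (a' * e), haa, one_mul, ← mul_assoc a a e, haa, one_mul]
  have hsu' : SemiconjBy (a * e) (a * a')⁻¹ (a * a') := by
    have := hsu.inv_right; rwa [inv_inv] at this
  have hc2 : Commute ((a * e) * (a * e)) (a * a') := hsu'.mul_left hsu
  obtain ⟨k, hk⟩ := huodd
  have hc2k : Commute (((a * e) * (a * e)) ^ k) (a * a') := hc2.pow_left k
  have hu_inv : ((a * e) * (a * e)) ^ k = (a * e)⁻¹ := by
    rw [← pow_two, ← pow_mul]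
    apply eq_inv_of_mul_eq_one_left
    rw [← pow_succ, ← hk, pow_orderOf_eq_one]
  rw [hu_inv] at hc2k
  have hcu : Commute (a * e) (a * a') := by
    have := hc2k.inv_left; rwa [inv_inv] at this
  have hrr : (a * a') = (a * a')⁻¹ := by
    have h5 : (a * e) * (a * a') = (a * a')⁻¹ * (a * e) := hsu
    rw [hcu.eq] at h5
    exact mul_right_cancel h5
  have hrsq : (a * a') ^ 2 = 1 := by
    rw [pow_two]; nth_rewrite 2 [hrr]; exact mul_inv_cancel _
  have hdvd : orderOf (a * a') ∣ 2 := orderOf_dvd_of_pow_eq_one hrsq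
  have hone : orderOf (a * a') = 1 := by
    rcases (Nat.dvd_prime Nat.prime_two).mp hdvd with h | h
    · exact h
    · rw [h] at hrodd; exact absurd hrodd (by decide)
  have : a * a' = 1 := orderOf_eq_one_iff.mp hone
  calc a' = a⁻¹ := (inv_eq_of_mul_eq_one_right this).symm
    _ = a := hai

end Cfsg.Agent.S5562
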