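import Cfsg.Statements.S5594
import Mathlib
import Cfsg.Agent.Lib.Helper3.Co0Perm
import Cfsg.Agent.Lib.Helper3.Co0Sign
import Cfsg.Agent.S0372
-- import your own Cfsg.Agent.* helpers here

set_option autoImplicit false
open Cfsg

namespace Cfsg.Agent.S5594

open Cfsg.Agent.Lib.Helper3

def D0 : Finset GolayPt := support₂ (qrWord 0)

theorem D0_mem : D0 ∈ supports (golayCode : Set (GolayPt → ZMod 2)) :=
  ⟨qrWord 0, Submodule.subset_span (Or.inl ⟨0, rfl⟩), rfl⟩

theorem qr_swap : ∀ i : GolayPt, (qrWord 0 i ≠ 0 ↔ ¬ qrWord 0 (projInv i) ≠ 0) := by decide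

theorem D0_swap (i : GolayPt) : i ∈ D0 ↔ ¬ projInv i ∈ D0 := by
  have := qr_swap i
  simpa [D0, support₂] using this

theorem projInv_invol : ∀ i : GolayPt, projInv (projInv i) = i := by decide

def gg : Equiv.Perm leechLattice := sgnL D0 D0_mem * permL projInv Cfsg.Agent.S0372.result

theorem gg_mem : gg ∈ Co0 := Co0.mul_mem (sgnL_mem _ _) (permL_mem _ _)

theorem gg_apply (v : leechLattice) (i : GolayPt) :
    (gg v).1 i = if i ∈ D0 then -v.1 (projInv i) else v.1 (projInv i) := rfl

theorem gg_sq (v : leechLattice) : gg (gg v) = -v := by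
  apply Subtype.ext; funext i
  show (gg (gg v)).1 i = -(v.1 i)
  rw [gg_apply, gg_apply, projInv_invol]
  have := D0_swap i
  by_cases hi : i ∈ D0
  · rw [if_pos hi, if_neg (this.mp hi)]
  · have h2 : projInv i ∈ D0 := by
      by_contra h; exact hi (this.mpr h)
    rw [if_neg hi, if_pos h2]

/-- The automorphism group of the Leech lattice contains the negation map, and the subgroup of order 2 it generates has no complement: the automorphism group is a non-split extension of its quotient by that subgroup (it is not the direct product of a group of order 2 with the first Conway group). -/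
theorem result :
    ∃ n : ↥Cfsg.Co0, (∀ v : ↥Cfsg.leechLattice, ((n • v : ↥Cfsg.leechLattice) : Cfsg.GolayPt → ℤ) = -(v : Cfsg.GolayPt → ℤ)) ∧
    ∀ K : Subgroup ↥Cfsg.Co0, ¬ (Subgroup.zpowers n).IsComplement' K := by
  refine ⟨⟨Equiv.neg leechLattice, neg_mem_Co0⟩, fun v => rfl, ?_⟩
  intro K hK
  set n : ↥Co0 := ⟨Equiv.neg leechLattice, neg_mem_Co0⟩ with hn
  set g : ↥Co0 := ⟨gg, gg_mem⟩ with hg
  have hg2 : g * g = n := by
    apply Subtype.ext
    apply Equiv.ext
    intro v
    exact gg_sq v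
  have hn2 : n * n = 1 := by
    apply Subtype.ext
    apply Equiv.ext
    intro v
    show -(-v) = v
    simp
  have hncomm : ∀ x : ↥Co0, Commute n x := by
    intro x
    apply Subtype.ext
    apply Equiv.ext
    intro v
    show -(x.1 v) = x.1 (-v)
    exact (map_neg (co0Hom x.1 x.2) v).symm
  have hn1 : n ≠ 1 := by
    intro h
    have h1 := congrArg (fun z : ↥Co0 => (z.1 (e8 none)).1 none) h
    have h2 : (-(e8 none)).1 none = ((1 : Equiv.Perm leechLattice) (e8 none)).1 none := h1
    rw [Equiv.Perm.one_apply] at h2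
    have h3 : (-(e8 none)).1 none = -((e8 none).1 none) := rfl
    rw [h3, e8_apply] at h2
    norm_num at h2
  obtain ⟨⟨⟨h, hh⟩, ⟨k, hk⟩⟩, hhk⟩ := hK.2 g
  simp only at hhk
  obtain ⟨z, hz⟩ := Subgroup.mem_zpowers_iff.mp hh
  have hhcomm : ∀ x : ↥Co0, Commute h x := by
    intro x; rw [← hz]; exact (hncomm x).zpow_left z
  have hh2 : h * h = 1 := by
    rw [← hz, ← zpow_add, ← two_mul, zpow_mul, zpow_two, hn2, one_zpow]
  have hkk : k * k = n := by
    rw [← hg2, ← hhk]
    have e : h * k * (h * k) = (h * h) * (k * k) := by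
      rw [mul_assoc, ← mul_assoc k h k, ← (hhcomm k).eq, mul_assoc h k k, ← mul_assoc]
    rw [e, hh2, one_mul]
  have hnK : n ∈ K := by rw [← hkk]; exact K.mul_mem hk hk
  have hnH : n ∈ Subgroup.zpowers n := Subgroup.mem_zpowers n
  have hdis := hK.disjoint
  have : n ∈ (⊥ : Subgroup ↥Co0) := by
    rw [← disjoint_iff.mp hdis]
    exact Subgroup.mem_inf.mpr ⟨hnH, hnK⟩
  exact hn1 (Subgroup.mem_bot.mp this)

end Cfsg.Agent.S5594
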