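import Cfsg.Statements.S5595
import Mathlib
import Cfsg.Agent.Lib.Helper5.ESK
import Cfsg.Agent.Lib.Helper5.ESD
import Cfsg.Agent.Lib.Helper5.PCoreOf

set_option autoImplicit false
open Cfsg

namespace Cfsg.Agent.S5595

/-- Setting: `z` is an involution of the finite group `G`; for each element `x`, `Q x` denotes the largest normal 2-subgroup of the centralizer of `x`; `Q z` is extraspecial and contains its own centralizer in `G` (a large extraspecial 2-subgroup in this sense). Call the conjugates of `z` singular, and say that singular `x` is orthogonal to singular `y` when `x ∈ Q y`. Then orthogonality is symmetric: if a conjugate `x` of `z` lies in `Q z`, then `z` lies in `Q x`. -/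
theorem result {G : Type*} [Group G] [Finite G]
    (Q : G → Subgroup G)
    (hQ : ∀ x : G, Q x = (Cfsg.pCore 2 ↥(Subgroup.centralizer ({x} : Set G))).map (Subgroup.centralizer ({x} : Set G)).subtype)
    (z : G) (hz : orderOf z = 2) (hE : Cfsg.IsExtraspecial 2 ↥(Q z))
    (hC : Subgroup.centralizer ((Q z : Subgroup G) : Set G) ≤ Q z)
    (g : G) (hx : g * z * g⁻¹ ∈ Q z) : z ∈ Q (g * z * g⁻¹) := by
  classical
  have h2 : Fact (Nat.Prime 2) := ⟨Nat.prime_two⟩
  set x := g * z * g⁻¹ with hxdef
  -- equivariance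
  have hQconj : ∀ h : G, Q (h * z * h⁻¹) = (Q z).map (MulAut.conj h).toMonoidHom := by
    intro h
    rw [hQ (h * z * h⁻¹), hQ z]
    have e := Cfsg.Agent.Lib.Helper5.PCoreOf.centralizer_conj z h
    rw [e]
    exact Cfsg.Agent.Lib.Helper5.PCoreOf.map_conj 2 _ h
  have hzz : z * z = 1 := by
    have := pow_orderOf_eq_one z
    rw [hz, pow_two] at this; exact this
  have hz1 : z ≠ 1 := by
    intro hh; rw [hh, orderOf_one] at hz; norm_num at hz
  have hQzle : Q z ≤ Subgroup.centralizer ({z} : Set G) := by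
    rw [hQ z]; exact Cfsg.Agent.Lib.Helper5.PCoreOf.le_self 2 _
  have hQzcomm : ∀ q ∈ Q z, q * z = z * q := fun q hq =>
    Subgroup.mem_centralizer_singleton_iff.mp (hQzle hq)
  have hzQ : z ∈ Q z := by
    apply hC
    rw [Subgroup.mem_centralizer_iff]
    intro q hq
    exact hQzcomm q hq
  -- ESData for Q z
  have hzc : (⟨z, hzQ⟩ : ↥(Q z)) ∈ Subgroup.center ↥(Q z) := by
    rw [Subgroup.mem_center_iff]
    rintro ⟨q, hq⟩
    apply Subtype.ext
    exact hQzcomm q hq
  have hz1' : (⟨z, hzQ⟩ : ↥(Q z)) ≠ 1 := by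
    intro hh
    exact hz1 (congrArg Subtype.val hh)
  have hES0 := Cfsg.Agent.Lib.Helper5.ES.ESData.ofExtraspecial hE _ hzc hz1'
  have hES1 := hES0.map (Q z).subtype (Subgroup.subtype_injective _)
  have htop : (⊤ : Subgroup ↥(Q z)).map (Q z).subtype = Q z := by
    rw [← MonoidHom.range_eq_map, Subgroup.range_subtype]
  rw [htop] at hES1
  have hESz : Cfsg.Agent.Lib.Helper5.ES.ESData (Q z) z := hES1
  -- ESData for Q x
  have hESx0 := hESz.map (MulAut.conj g).toMonoidHom (MulAut.conj g).injective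
  rw [← hQconj g] at hESx0
  have hESx : Cfsg.Agent.Lib.Helper5.ES.ESData (Q x) x := hESx0
  have hQxle : Q x ≤ Subgroup.centralizer ({x} : Set G) := by
    rw [hQ x]; exact Cfsg.Agent.Lib.Helper5.PCoreOf.le_self 2 _
  have hxz : x * z = z * x := hQzcomm x hx
  have hnormx : ∀ c : G, c * x = x * c → ∀ r ∈ Q x, c * r * c⁻¹ ∈ Q x := by
    intro c hc r hr
    rw [hQ x] at hr ⊢
    exact Cfsg.Agent.Lib.Helper5.PCoreOf.conj_mem 2 _
      (Subgroup.mem_centralizer_singleton_iff.mpr hc) hr
  have hnormz : ∀ c : G, c * z = z * c → ∀ r ∈ Q z, c * r * c⁻¹ ∈ Q z := by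
    intro c hc r hr
    rw [hQ z] at hr ⊢
    exact Cfsg.Agent.Lib.Helper5.PCoreOf.conj_mem 2 _
      (Subgroup.mem_centralizer_singleton_iff.mpr hc) hr
  have hS : Cfsg.Agent.Lib.Helper5.ES.SymHyp (Q z) (Q x) z x := by
    refine ⟨hESz, hESx, hx, ?_, ?_, ?_, ?_, ?_, ?_⟩
    · exact hnormx z hxz.symm
    · intro a _ hax
      exact hnormx a hax
    · intro b _ hbz
      exact hnormz b hbz
    · intro hcen
      rw [hQconj g]
      refine ⟨g⁻¹ * z * g, ?_, ?_⟩
      · apply hC
        rw [Subgroup.mem_centralizer_iff]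
        intro q hq
        have hgq : g * q * g⁻¹ ∈ Q x := by
          rw [hQconj g]
          exact ⟨q, hq, rfl⟩
        have := hcen _ hgq
        calc q * (g⁻¹ * z * g) = g⁻¹ * ((g * q * g⁻¹) * z) * g := by group
          _ = g⁻¹ * (z * (g * q * g⁻¹)) * g := by rw [this]
          _ = g⁻¹ * z * g * q := by group
      · simp only [MulEquiv.coe_toMonoidHom, MulAut.conj_apply]
        group
    · intro h hh q hq
      rw [← hh, hQconj h]
      exact ⟨q, hq, rfl⟩
    · rw [hQconj g]
      exact (Nat.card_congr ((Q z).equivMapOfInjective _ (MulAut.conj g).injective).toEquiv)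
  exact hS.main

end Cfsg.Agent.S5595
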