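import Cfsg.Statements.S5596
import Mathlib
import Cfsg.Agent.Lib.Helper5.SingA
import Cfsg.Agent.Lib.Helper5.SingC

set_option autoImplicit false
open Cfsg

namespace Cfsg.Agent.S5596

/-- Setting: `z` is an involution of the finite group `G`; for each element `x`, `Q x` is the largest normal 2-subgroup of the centralizer of `x`; `Q z` is extraspecial and contains its own centralizer in `G`. A subgroup `U` is singular when it is elementary abelian, every non-identity element of `U` is conjugate to `z`, and any two non-identity elements `u`, `v` of `U` are orthogonal (`v ∈ Q u`). Write `QU` for the intersection of the `Q u` and `LU` for the join of the `Q u` over the non-identity `u` in `U`. If `U` is singular of order `2 ^ n` with `n ≥ 2`, then `U ≤ QU ≤ LU`, `LU` normalizes `U`, and `LU` induces on `U` its full automorphism group (the general linear group of dimension `n` over the field with two elements): every automorphism of `U` is conjugation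 by some element of `LU`. -/
theorem result {G : Type*} [Group G] [Finite G]
    (Q : G → Subgroup G)
    (hQ : ∀ x : G, Q x = (Cfsg.pCore 2 ↥(Subgroup.centralizer ({x} : Set G))).map (Subgroup.centralizer ({x} : Set G)).subtype)
    (z : G) (hz : orderOf z = 2) (hE : Cfsg.IsExtraspecial 2 ↥(Q z))
    (hC : Subgroup.centralizer ((Q z : Subgroup G) : Set G) ≤ Q z)
    (U : Subgroup G) (hU2 : ∀ u ∈ U, u * u = 1)
    (hS : ∀ u ∈ U, u ≠ 1 → ∃ g : G, g * z * g⁻¹ = u)
    (hO : ∀ u ∈ U, ∀ v ∈ U, u ≠ 1 → v ≠ 1 → v ∈ Q u)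
    (QU LU : Subgroup G) (hQU : QU = ⨅ u ∈ ((U : Set G) \ {1}), Q u) (hLU : LU = ⨆ u ∈ ((U : Set G) \ {1}), Q u)
    (n : ℕ) (hn : 2 ≤ n) (hcard : Nat.card ↥U = 2 ^ n) :
    U ≤ QU ∧ QU ≤ LU ∧ LU ≤ Subgroup.normalizer (U : Set G) ∧
      ∀ φ : ↥U ≃* ↥U, ∃ g ∈ LU, ∀ u : ↥U, g * (u : G) * g⁻¹ = ((φ u : ↥U) : G) := by
  classical
  have S := Cfsg.Agent.Lib.Helper5.ES.QSys.of_pCore Q hQ z hz hE hC
  subst hQU hLU
  have hES : ∀ u ∈ U, u ≠ 1 → Cfsg.Agent.Lib.Helper5.ES.ESData (Q u) u := by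
    intro u hu hu1
    obtain ⟨g, rfl⟩ := hS u hu hu1
    exact S.es g
  have hUQ : ∀ u ∈ U, u ≠ 1 → U ≤ Q u := by
    intro u hu hu1 w hw
    by_cases hw1 : w = 1
    · rw [hw1]; exact Subgroup.one_mem _
    · exact hO u hu w hw hu1 hw1
  have hQUle : ∀ u ∈ U, u ≠ 1 → (⨅ u ∈ ((U : Set G) \ {1}), Q u) ≤ Q u := by
    intro u hu hu1
    exact iInf₂_le u ⟨hu, fun h => hu1 (Set.mem_singleton_iff.mp h)⟩
  have hleLU : ∀ u ∈ U, u ≠ 1 → Q u ≤ ⨆ u ∈ ((U : Set G) \ {1}), Q u := by
    intro u hu hu1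
    exact le_iSup₂ (f := fun u (_ : u ∈ ((U : Set G) \ {1})) => Q u) u
      ⟨hu, fun h => hu1 (Set.mem_singleton_iff.mp h)⟩
  -- a nonidentity element of U
  have hex : ∃ u0 ∈ U, u0 ≠ 1 := by
    by_contra hcon
    push Not at hcon
    have hbot : U = ⊥ := by
      rw [eq_bot_iff]; intro u hu; rw [Subgroup.mem_bot]; exact hcon u hu
    rw [hbot, Subgroup.card_bot] at hcard
    have : 2 ^ n ≥ 2 ^ 2 := Nat.pow_le_pow_right (by norm_num) hn
    omega
  obtain ⟨u0, hu0, hu01⟩ := hex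
  have hLN : (⨆ u ∈ ((U : Set G) \ {1}), Q u) ≤ Subgroup.normalizer (U : Set G) := by
    apply iSup₂_le
    intro u hu g hg
    have hu1 : u ≠ 1 := fun h => hu.2 (Set.mem_singleton_iff.mpr h)
    have hESu := hES u hu.1 hu1
    have hconj : ∀ k ∈ Q u, ∀ e ∈ U, k * e * k⁻¹ ∈ U := by
      intro k hk e he
      have heQ : e ∈ Q u := hUQ u hu.1 hu1 he
      have e1 : k * e * k⁻¹ = (k * e * k⁻¹ * e⁻¹) * e := by group
      rw [e1]
      rcases hESu.comm k hk e heQ with h1 | h1
      · rw [h1, one_mul]; exact he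
      · rw [h1]; exact U.mul_mem hu.1 he
    rw [Subgroup.mem_normalizer_iff]
    intro h
    constructor
    · exact hconj g hg h
    · intro hh
      have := hconj g⁻¹ (Subgroup.inv_mem _ hg) _ hh
      have e : g⁻¹ * (g * h * g⁻¹) * g⁻¹⁻¹ = h := by group
      rwa [e] at this
  refine ⟨?_, ?_, hLN, ?_⟩
  · apply le_iInf₂
    intro u hu
    exact hUQ u hu.1 (fun h => hu.2 (Set.mem_singleton_iff.mpr h))
  · exact (hQUle u0 hu0 hu01).trans (hleLU u0 hu0 hu01)
  · exact Cfsg.Agent.Lib.Helper5.ES.aut_induced U _ hU2 hLN Q hES hUQ hleLU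

end Cfsg.Agent.S5596
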