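import Cfsg.Statements.S5597
import Mathlib
import Cfsg.Agent.Lib.Helper5.SingA
import Cfsg.Agent.Lib.Helper5.ESY
import Cfsg.Agent.Lib.Helper5.LEC

set_option autoImplicit false
open Cfsg

namespace Cfsg.Agent.S5597

/-- Setting: `z` is an involution of the finite group `G`; for each element `x`, `Q x` is the largest normal 2-subgroup of the centralizer of `x`; `Q z` is extraspecial and contains its own centralizer in `G`. A subgroup `U` is singular when it is elementary abelian, every non-identity element of `U` is conjugate to `z`, and any two non-identity elements `u`, `v` of `U` are orthogonal (`v ∈ Q u`). Write `QU` for the intersection of the `Q u` and `LU` for the join of the `Q u` over the non-identity `u` in `U`. If `U` is a non-trivial singular subgroup, then `LU` acts trivially on `QU / U` (every commutator of an element of `LU` with an element of `QU` lies in `U`), and for every `x` in `QU` outside `U` the centralizer of `U` in `LU` permutes the coset `x U` transitively: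 each `x u` with `u ∈ U` is a conjugate of `x` by an element of `LU` centralizing `U`. -/
theorem result {G : Type*} [Group G] [Finite G]
    (Q : G → Subgroup G)
    (hQ : ∀ x : G, Q x = (Cfsg.pCore 2 ↥(Subgroup.centralizer ({x} : Set G))).map (Subgroup.centralizer ({x} : Set G)).subtype)
    (z : G) (hz : orderOf z = 2) (hE : Cfsg.IsExtraspecial 2 ↥(Q z))
    (hC : Subgroup.centralizer ((Q z : Subgroup G) : Set G) ≤ Q z)
    (U : Subgroup G) (hU2 : ∀ u ∈ U, u * u = 1)
    (hS : ∀ u ∈ U, u ≠ 1 → ∃ g : G, g * z * g⁻¹ = u)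
    (hO : ∀ u ∈ U, ∀ v ∈ U, u ≠ 1 → v ≠ 1 → v ∈ Q u)
    (QU LU : Subgroup G) (hQU : QU = ⨅ u ∈ ((U : Set G) \ {1}), Q u) (hLU : LU = ⨆ u ∈ ((U : Set G) \ {1}), Q u)
    (hU : U ≠ ⊥) :
    (∀ g ∈ LU, ∀ x ∈ QU, g * x * g⁻¹ * x⁻¹ ∈ U) ∧
      ∀ x ∈ QU, x ∉ U → ∀ u ∈ U, ∃ g ∈ LU ⊓ Subgroup.centralizer (U : Set G), g * x * g⁻¹ = x * u := by
  classical
  have S := Cfsg.Agent.Lib.Helper5.ES.QSys.of_pCore Q hQ z hz hE hC
  subst hQU hLU
  have hES : ∀ u ∈ U, u ≠ 1 → Cfsg.Agent.Lib.Helper5.ES.ESData (Q u) u := by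
    intro u hu hu1
    obtain ⟨g, rfl⟩ := hS u hu hu1
    exact S.es g
  have hUQ : ∀ u ∈ U, u ≠ 1 → U ≤ Q u := by
    intro u hu hu1 w hw
    by_cases hw1 : w = 1
    · rw [hw1]; exact Subgroup.one_mem _
    · exact hO u hu w hw hu1 hw1
  have hQUle : ∀ u ∈ U, u ≠ 1 → (⨅ u ∈ ((U : Set G) \ {1}), Q u) ≤ Q u := by
    intro u hu hu1
    exact iInf₂_le u ⟨hu, fun h => hu1 (Set.mem_singleton_iff.mp h)⟩
  have hleLU : ∀ u ∈ U, u ≠ 1 → Q u ≤ ⨆ u ∈ ((U : Set G) \ {1}), Q u := by
    intro u hu hu1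
    exact le_iSup₂ (f := fun u (_ : u ∈ ((U : Set G) \ {1})) => Q u) u
      ⟨hu, fun h => hu1 (Set.mem_singleton_iff.mp h)⟩
  constructor
  · -- LU acts trivially on QU / U
    have hle : (⨆ u ∈ ((U : Set G) \ {1}), Q u) ≤ Cfsg.Agent.Lib.Helper5.ES.commLeft U
        (((⨅ u ∈ ((U : Set G) \ {1}), Q u : Subgroup G)) : Set G) := by
      apply iSup₂_le
      intro u hu g hg
      have hu1 : u ≠ 1 := fun h => hu.2 (Set.mem_singleton_iff.mpr h)
      have hESu := hES u hu.1 hu1
      have hconj : ∀ k ∈ Q u, ∀ e ∈ U, k * e * k⁻¹ ∈ U := by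
        intro k hk e he
        have heQ : e ∈ Q u := hUQ u hu.1 hu1 he
        have e1 : k * e * k⁻¹ = (k * e * k⁻¹ * e⁻¹) * e := by group
        rw [e1]
        rcases hESu.comm k hk e heQ with h1 | h1
        · rw [h1, one_mul]; exact he
        · rw [h1]; exact U.mul_mem hu.1 he
      rw [Cfsg.Agent.Lib.Helper5.ES.mem_commLeft]
      refine ⟨hconj g hg, ?_, ?_⟩
      · intro e he
        have := hconj g⁻¹ (Subgroup.inv_mem _ hg) e he
        rwa [inv_inv] at this
      · intro x hx
        have hxQ : x ∈ Q u := hQUle u hu.1 hu1 hx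
        rcases hESu.comm g hg x hxQ with h1 | h1
        · rw [h1]; exact U.one_mem
        · rw [h1]; exact hu.1
    intro g hg x hx
    exact ((Cfsg.Agent.Lib.Helper5.ES.mem_commLeft _ _ _).mp (hle hg)).2.2 x hx
  · intro x hx hxU u hu
    by_cases hu1 : u = 1
    · refine ⟨1, Subgroup.one_mem _, ?_⟩
      rw [hu1]; group
    · have hESu := hES u hu hu1
      have hxQ : x ∈ Q u := hQUle u hu hu1 hx
      have hdc := hESu.double_centralizer_subgroup U (hUQ u hu hu1) hu
      have hex : ∃ g ∈ Q u ⊓ Subgroup.centralizer (U : Set G), g * x ≠ x * g := by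
        by_contra hcon
        push Not at hcon
        apply hxU
        rw [← hdc]
        refine Subgroup.mem_inf.mpr ⟨hxQ, ?_⟩
        rw [Subgroup.mem_centralizer_iff]
        intro w hw
        exact hcon w hw
      obtain ⟨g, hg, hgx⟩ := hex
      have hg' := Subgroup.mem_inf.mp hg
      refine ⟨g, Subgroup.mem_inf.mpr ⟨hleLU u hu hu1 hg'.1, hg'.2⟩, ?_⟩
      rcases hESu.comm g hg'.1 x hxQ with h1 | h1
      · exact absurd (Cfsg.Agent.Lib.Helper5.ES.comm_eq_one_iff.mp h1) hgx
      · calc g * x * g⁻¹ = (g * x * g⁻¹ * x⁻¹) * x := by group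
          _ = u * x := by rw [h1]
          _ = x * u := hESu.zc x hxQ

end Cfsg.Agent.S5597
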