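import Cfsg.Statements.S5598
import Mathlib
import Cfsg.Agent.Lib.Helper5.SingB

set_option autoImplicit false
open Cfsg

namespace Cfsg.Agent.S5598

/-- Setting: `z` is an involution of the finite group `G`; for each element `x`, `Q x` is the largest normal 2-subgroup of the centralizer of `x`; `Q z` is extraspecial and contains its own centralizer in `G`. A subgroup `U` is singular when it is elementary abelian, every non-identity element of `U` is conjugate to `z`, and any two non-identity elements `u`, `v` of `U` are orthogonal (`v ∈ Q u`). Write `QU` for the intersection of the `Q u` and `LU` for the join of the `Q u` over the non-identity `u` in `U`. If the singular subgroup `U` is generated by a set `T` of non-identity elements, then `QU` is already the intersection of the `Q t` over `t ∈ T`. -/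
theorem result {G : Type*} [Group G] [Finite G]
    (Q : G → Subgroup G)
    (hQ : ∀ x : G, Q x = (Cfsg.pCore 2 ↥(Subgroup.centralizer ({x} : Set G))).map (Subgroup.centralizer ({x} : Set G)).subtype)
    (z : G) (hz : orderOf z = 2) (hE : Cfsg.IsExtraspecial 2 ↥(Q z))
    (hC : Subgroup.centralizer ((Q z : Subgroup G) : Set G) ≤ Q z)
    (U : Subgroup G) (hU2 : ∀ u ∈ U, u * u = 1)
    (hS : ∀ u ∈ U, u ≠ 1 → ∃ g : G, g * z * g⁻¹ = u)
    (hO : ∀ u ∈ U, ∀ v ∈ U, u ≠ 1 → v ≠ 1 → v ∈ Q u)
    (QU LU : Subgroup G) (hQU : QU = ⨅ u ∈ ((U : Set G) \ {1}), Q u) (hLU : LU = ⨆ u ∈ ((U : Set G) \ {1}), Q u)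
    (T : Set G) (hT : Subgroup.closure T = U) (hT1 : (1 : G) ∉ T) :
    QU = ⨅ t ∈ T, Q t := by
  classical
  have S := Cfsg.Agent.Lib.Helper5.ES.QSys.of_pCore Q hQ z hz hE hC
  subst hQU
  have hTU : T ⊆ U := by rw [← hT]; exact Subgroup.subset_closure
  apply le_antisymm
  · apply le_iInf₂
    intro t ht
    have hmem : t ∈ (U : Set G) \ {1} := ⟨hTU ht, fun h => hT1 (by rw [← (Set.mem_singleton_iff.mp h)]; exact ht)⟩
    exact iInf₂_le t hmem
  · apply le_iInf₂
    intro u hu
    have key : ∀ w ∈ Subgroup.closure T, w ∈ U ∧ (w ≠ 1 → (⨅ t ∈ T, Q t) ≤ Q w) := by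
      intro w hw
      induction hw using Subgroup.closure_induction with
      | mem t ht => exact ⟨hTU ht, fun _ => iInf₂_le t ht⟩
      | one => exact ⟨U.one_mem, fun h => absurd rfl h⟩
      | mul a b _ _ iha ihb =>
        refine ⟨U.mul_mem iha.1 ihb.1, ?_⟩
        intro hab
        by_cases ha1 : a = 1
        · rw [ha1, one_mul]; rw [ha1, one_mul] at hab; exact ihb.2 hab
        by_cases hb1 : b = 1
        · rw [hb1, mul_one]; rw [hb1, mul_one] at hab; exact iha.2 hab
        have hne : b ≠ a := by
          intro h; apply hab; rw [h]; exact hU2 a iha.1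
        have h1 := S.inf_le_mul (hS a iha.1 ha1) (hS b ihb.1 hb1) hne
          (hO a iha.1 b ihb.1 ha1 hb1) (hO b ihb.1 a iha.1 hb1 ha1)
        exact (le_inf (iha.2 ha1) (ihb.2 hb1)).trans h1
      | inv a _ iha =>
        have : a⁻¹ = a := inv_eq_of_mul_eq_one_left (hU2 a iha.1)
        rw [this]; exact iha
    have huc : u ∈ Subgroup.closure T := by rw [hT]; exact hu.1
    exact (key u huc).2 (fun h => hu.2 h)

end Cfsg.Agent.S5598
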