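import Cfsg.Statements.S5599
import Cfsg.Agent.Lib.Helper21.GolaySets
import Cfsg.Agent.Lib.Helper21.GolayM12

set_option autoImplicit false
open scoped Pointwise
open Cfsg
open Cfsg.Agent.Lib.Helper21

namespace Cfsg.Agent.S5599

/-- In the automorphism group of the length-24 code, the two-point Mathieu group (permutations of the code's group fixing the extra point and the residue 0) has index 2 in the setwise stabiliser of that pair of points, and an element of the code's group interchanging the two points normalises the two-point group and induces on it, by conjugation, an automorphism that is not inner. -/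
theorem result (g : Equiv.Perm Cfsg.GolayPt) (hg : g ∈ Cfsg.M24) (h₁ : g none = some 0) (h₂ : g (some 0) = none) : Cfsg.Spor.M22.relIndex (Cfsg.M24 ⊓ MulAction.stabilizer (Equiv.Perm Cfsg.GolayPt) ({none, some 0} : Finset Cfsg.GolayPt)) = 2 ∧ (∀ x ∈ Cfsg.Spor.M22, g * x * g⁻¹ ∈ Cfsg.Spor.M22) ∧ ¬ ∃ h ∈ Cfsg.Spor.M22, ∀ x ∈ Cfsg.Spor.M22, g * x * g⁻¹ = h * x * h⁻¹ := by
  have hM22 : ∀ x : Equiv.Perm Cfsg.GolayPt, x ∈ Cfsg.Spor.M22 ↔
      x ∈ Cfsg.M24 ∧ x none = none ∧ x (some 0) = some 0 := by
    intro x
    unfold Cfsg.Spor.M22 Cfsg.Spor.M23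
    rw [Subgroup.mem_inf, Subgroup.mem_inf, MulAction.mem_stabilizer_iff,
      MulAction.mem_stabilizer_iff, and_assoc]
    rfl
  have hne : (none : Cfsg.GolayPt) ≠ some 0 := by decide
  have hpair : ∀ x : Equiv.Perm Cfsg.GolayPt,
      x • ({none, some 0} : Finset Cfsg.GolayPt) = {none, some 0} →
      (x none = none ∧ x (some 0) = some 0) ∨ (x none = some 0 ∧ x (some 0) = none) := by
    intro x hx
    have h1 : x none ∈ ({none, some 0} : Finset Cfsg.GolayPt) := by
      rw [← hx]
      exact Finset.smul_mem_smul_finset (by simp)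
    have h2 : x (some 0) ∈ ({none, some 0} : Finset Cfsg.GolayPt) := by
      rw [← hx]
      exact Finset.smul_mem_smul_finset (by simp)
    rw [Finset.mem_insert, Finset.mem_singleton] at h1 h2
    have h3 : x none ≠ x (some 0) := fun h => hne (x.injective h)
    rcases h1 with h1 | h1 <;> rcases h2 with h2 | h2
    · exact absurd (h1.trans h2.symm) h3
    · exact Or.inl ⟨h1, h2⟩
    · exact Or.inr ⟨h1, h2⟩
    · exact absurd (h1.trans h2.symm) h3
  have hginv1 : g⁻¹ (some 0) = none := by rw [Equiv.Perm.inv_eq_iff_eq]; exact h₁.symm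
  have hginv2 : g⁻¹ none = some 0 := by rw [Equiv.Perm.inv_eq_iff_eq]; exact h₂.symm
  refine ⟨?_, ?_, ?_⟩
  · rw [Subgroup.relIndex_eq_two_iff_exists_notMem_and]
    refine ⟨g, Subgroup.mem_inf.2 ⟨hg, ?_⟩, ?_, ?_⟩
    · rw [MulAction.mem_stabilizer_iff]
      ext p
      rw [← Finset.inv_smul_mem_iff]
      simp only [Finset.mem_insert, Finset.mem_singleton]
      constructor
      · rintro (h | h)
        · right
          have : p = g none := by
            rw [← h]; exact (g.apply_symm_apply p).symm
          rw [this, h₁]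
        · left
          have : p = g (some 0) := by
            rw [← h]; exact (g.apply_symm_apply p).symm
          rw [this, h₂]
      · rintro (h | h)
        · right
          rw [h]; exact hginv2
        · left
          rw [h]; exact hginv1
    · intro hmem
      rw [hM22] at hmem
      rw [h₁] at hmem
      exact hne hmem.2.1.symm
    · intro b hb
      rw [Subgroup.mem_inf, MulAction.mem_stabilizer_iff] at hb
      rcases hpair b hb.2 with h | h
      · right
        rw [hM22]
        exact ⟨hb.1, h⟩
      · left
        rw [hM22]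
        refine ⟨Cfsg.M24.mul_mem hb.1 hg, ?_, ?_⟩
        · rw [Equiv.Perm.mul_apply, h₁, h.2]
        · rw [Equiv.Perm.mul_apply, h₂, h.1]
  · intro x hx
    rw [hM22] at hx ⊢
    refine ⟨Cfsg.M24.mul_mem (Cfsg.M24.mul_mem hg hx.1) (Cfsg.M24.inv_mem hg), ?_, ?_⟩
    · rw [Equiv.Perm.mul_apply, Equiv.Perm.mul_apply, hginv2, hx.2.2, h₂]
    · rw [Equiv.Perm.mul_apply, Equiv.Perm.mul_apply, hginv1, hx.2.1, h₁]
  · rintro ⟨h, hh, hconj⟩
    rw [hM22] at hh
    -- `c = h⁻¹ g` centralises `M22` and swaps the two points
    have hc : ∀ x ∈ Cfsg.Spor.M22, (h⁻¹ * g) * x = x * (h⁻¹ * g) := by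
      intro x hx
      have := hconj x hx
      have e : h⁻¹ * g * x = h⁻¹ * (g * x * g⁻¹) * g := by group
      rw [e, this]
      group
    have hhinv1 : h⁻¹ none = none := by rw [Equiv.Perm.inv_eq_iff_eq]; exact hh.2.1.symm
    have hhinv2 : h⁻¹ (some 0) = some 0 := by rw [Equiv.Perm.inv_eq_iff_eq]; exact hh.2.2.symm
    have hc1 : (h⁻¹ * g) none = some 0 := by rw [Equiv.Perm.mul_apply, h₁, hhinv2]
    have hc2 : (h⁻¹ * g) (some 0) = none := by rw [Equiv.Perm.mul_apply, h₂, hhinv1]
    have hcM : h⁻¹ * g ∈ Cfsg.M24 := Cfsg.M24.mul_mem (Cfsg.M24.inv_mem hh.1) hg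
    generalize h⁻¹ * g = c at hc hc1 hc2 hcM
    -- `c` fixes every other point
    have hfix : ∀ r : Cfsg.GolayPt, r ≠ none → r ≠ some 0 → c r = r := by
      intro r hr1 hr2
      by_contra hcr
      have hq1 : c r ≠ none := fun e => hr2 (c.injective (e.trans hc2.symm))
      have hq2 : c r ≠ some 0 := fun e => hr1 (c.injective (e.trans hc1.symm))
      -- a point away from the four
      have hex : ∃ q' : Cfsg.GolayPt, q' ∉ ({none, some 0, r, c r} : Finset Cfsg.GolayPt) := by
        by_contra hall
        push_neg at hall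
        have : ({none, some 0, r, c r} : Finset Cfsg.GolayPt) = Finset.univ :=
          Finset.eq_univ_iff_forall.2 hall
        have h4 : ({none, some 0, r, c r} : Finset Cfsg.GolayPt).card ≤ 4 :=
          Finset.card_le_four
        rw [this, Finset.card_univ] at h4
        have : Fintype.card Cfsg.GolayPt = 24 := by decide
        omega
      obtain ⟨q', hq'⟩ := hex
      simp only [Finset.mem_insert, Finset.mem_singleton, not_or] at hq'
      let xs : Fin 4 → Cfsg.GolayPt := ![none, some 0, r, c r]
      let ys : Fin 4 → Cfsg.GolayPt := ![none, some 0, r, q']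
      have hxs : Function.Injective xs := by
        intro i j hij
        fin_cases i <;> fin_cases j <;> simp [xs] at hij ⊢ <;> first
          | exact absurd hij hne | exact absurd hij.symm hne
          | exact absurd hij hr1 | exact absurd hij.symm hr1
          | exact absurd hij hr2 | exact absurd hij.symm hr2
          | exact absurd hij hq1 | exact absurd hij.symm hq1
          | exact absurd hij hq2 | exact absurd hij.symm hq2
          | exact absurd hij hcr | exact absurd hij.symm hcr
          | exact absurd hij (Ne.symm hr1) | exact absurd hij (Ne.symm hr2)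
      have hys : Function.Injective ys := by
        intro i j hij
        fin_cases i <;> fin_cases j <;> simp [ys] at hij ⊢ <;> first
          | exact absurd hij hne | exact absurd hij.symm hne
          | exact absurd hij hr1 | exact absurd hij.symm hr1
          | exact absurd hij hr2 | exact absurd hij.symm hr2
          | exact absurd hij hq'.1 | exact absurd hij.symm hq'.1
          | exact absurd hij hq'.2.1 | exact absurd hij.symm hq'.2.1
          | exact absurd hij hq'.2.2.1 | exact absurd hij.symm hq'.2.2.1
      obtain ⟨x, hx, hxy⟩ := M24_tuples 4 (by norm_num) ⟨xs, hxs⟩ ⟨ys, hys⟩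
      have hx0 : x none = none := hxy 0
      have hx1 : x (some 0) = some 0 := hxy 1
      have hx2 : x r = r := hxy 2
      have hx3 : x (c r) = q' := hxy 3
      have hxM : x ∈ Cfsg.Spor.M22 := (hM22 x).2 ⟨hx, hx0, hx1⟩
      have := congrArg (fun e : Equiv.Perm Cfsg.GolayPt => e r) (hc x hxM)
      simp only [Equiv.Perm.mul_apply] at this
      rw [hx2] at this
      rw [← this] at hx3
      exact hq'.2.2.2 hx3.symm
    -- conjugate by the translation and use rigidity
    have hσ : ∀ i, i < 22 → genPerm 0 (ptN i) = ptN (i + 1) := by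
      intro i hi
      rw [genPerm_ptN 0 i (by omega)]
      congr 1
      revert i
      decide
    have hptne : ∀ i, 1 ≤ i → i < 23 → ptN i ≠ none ∧ ptN i ≠ some 0 := by
      intro i h1 h2
      have e0 : (some 0 : Cfsg.GolayPt) = ptN 0 := by decide
      have e23 : (none : Cfsg.GolayPt) = ptN 23 := by decide
      rw [e0, e23]
      constructor
      · intro h
        have := ptN_injOn (by omega) (by norm_num) h
        omega
      · intro h
        have := ptN_injOn (by omega) (by norm_num) h
        omega
    have hone : (genPerm 0)⁻¹ * c * genPerm 0 = 1 := by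
      apply eq_one_of_fix7 (Cfsg.M24.mul_mem (Cfsg.M24.mul_mem (Cfsg.M24.inv_mem (genPerm_mem 0))
        hcM) (genPerm_mem 0))
      intro i hi
      rw [Equiv.Perm.mul_apply, Equiv.Perm.mul_apply, hσ i (by omega),
        hfix _ (hptne (i + 1) (by omega) (by omega)).1 (hptne (i + 1) (by omega) (by omega)).2,
        ← hσ i (by omega), perm_inv_apply]
    have hc1' : c = 1 := by
      have : c = genPerm 0 * ((genPerm 0)⁻¹ * c * genPerm 0) * (genPerm 0)⁻¹ := by group
      rw [this, hone]
      group
    rw [hc1'] at hc1
    exact hne hc1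

end Cfsg.Agent.S5599
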