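import Cfsg.Statements.S5601
import Cfsg.Agent.Lib.Helper9.M24Std

set_option autoImplicit false
open scoped Pointwise
open Cfsg

namespace Cfsg.Agent.S5601

open Cfsg.Agent.Lib.Helper9.M24Coset Cfsg.Agent.Lib.Helper21 in
/-- a subgroup of order three is generated by an element of order three -/
theorem exists_gen (X : Subgroup ↥Cfsg.M24) (hX : Nat.card X = 3) :
    ∃ x : ↥Cfsg.M24, X = Subgroup.zpowers x ∧ orderOf x = 3 := by
  haveI : Fact (Nat.Prime 3) := ⟨Nat.prime_three⟩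
  obtain ⟨w, hw⟩ := exists_prime_orderOf_dvd_card' (G := X) 3 (by rw [hX])
  refine ⟨(w : ↥Cfsg.M24), ?_, ?_⟩
  · symm
    apply Subgroup.eq_of_le_of_card_ge
    · rw [Subgroup.zpowers_le]; exact w.2
    · rw [Nat.card_zpowers, hX]
      have : orderOf (w : ↥Cfsg.M24) = orderOf w := Subgroup.orderOf_coe w
      rw [this, hw]
  · have : orderOf (w : ↥Cfsg.M24) = orderOf w := Subgroup.orderOf_coe w
    rw [this, hw]

/-- the set of common fixed points of a cyclic subgroup -/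
theorem fixed_zpowers (x : ↥Cfsg.M24) :
    {p : Cfsg.GolayPt | ∀ z ∈ Subgroup.zpowers x, ((z : ↥Cfsg.M24) : Equiv.Perm Cfsg.GolayPt) p = p} =
      ((Finset.univ.filter fun p : Cfsg.GolayPt => (x : Equiv.Perm Cfsg.GolayPt) p = p :
        Finset Cfsg.GolayPt) : Set Cfsg.GolayPt) := by
  ext p
  simp only [Set.mem_setOf_eq, Finset.coe_filter, Finset.mem_univ, true_and]
  constructor
  · intro h
    exact h x (Subgroup.mem_zpowers x)
  · intro h z hz
    obtain ⟨i, rfl⟩ := Subgroup.mem_zpowers_iff.1 hz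
    rw [Subgroup.coe_zpow]
    exact Equiv.Perm.zpow_apply_eq_self_of_apply_eq_self h i

theorem ncard_fixed_zpowers (x : ↥Cfsg.M24) :
    {p : Cfsg.GolayPt | ∀ z ∈ Subgroup.zpowers x, ((z : ↥Cfsg.M24) : Equiv.Perm Cfsg.GolayPt) p = p}.ncard =
      (Finset.univ.filter fun p : Cfsg.GolayPt => (x : Equiv.Perm Cfsg.GolayPt) p = p).card := by
  rw [fixed_zpowers, Set.ncard_coe_finset]

open Cfsg.Agent.Lib.Helper9.M24Coset in
theorem order_coe (x : ↥Cfsg.M24) (h : orderOf x = 3) :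
    (x : Equiv.Perm Cfsg.GolayPt) ^ 3 = 1 ∧ (x : Equiv.Perm Cfsg.GolayPt) ≠ 1 := by
  apply cube_of_orderOf
  rw [← h]
  exact Subgroup.orderOf_coe x

open Cfsg.Agent.Lib.Helper9.M24Coset in
/-- dichotomy for an element of order three -/
theorem dichotomy (x : ↥Cfsg.M24) (h : orderOf x = 3) :
    (IsConjTo x0 (x : Equiv.Perm Cfsg.GolayPt) ∧
      (Finset.univ.filter fun p : Cfsg.GolayPt => (x : Equiv.Perm Cfsg.GolayPt) p = p).card = 6) ∨
    (IsConjTo x1 (x : Equiv.Perm Cfsg.GolayPt) ∧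
      (Finset.univ.filter fun p : Cfsg.GolayPt => (x : Equiv.Perm Cfsg.GolayPt) p = p).card = 0) := by
  obtain ⟨h3, h1⟩ := order_coe x h
  by_cases hf : ∀ p, (x : Equiv.Perm Cfsg.GolayPt) p ≠ p
  · right
    refine ⟨order3_fpf_conj x.2 h3 hf, ?_⟩
    rw [Finset.card_eq_zero, Finset.filter_eq_empty_iff]
    intro p _
    exact hf p
  · left
    push Not at hf
    obtain ⟨p, hp⟩ := hf
    have hc := order3_fixed_conj x.2 h3 h1 hp
    exact ⟨hc, by rw [hc.card_fixed valid_x0, x0_fixCount]⟩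

theorem conj_zpowers (k x y : ↥Cfsg.M24) (h : k * x * k⁻¹ = y) :
    MulAut.conj k • Subgroup.zpowers x = Subgroup.zpowers y := by
  have h1 := MonoidHom.map_zpowers ((MulAut.conj k).toMonoidHom) x
  have h2 : (MulAut.conj k).toMonoidHom x = y := by
    show MulAut.conj k x = y
    rw [MulAut.conj_apply, h]
  rw [h2] at h1
  rw [← h1]
  rfl

theorem card_zpowers_mk (g : Equiv.Perm Cfsg.GolayPt) (hg : g ∈ Cfsg.M24) (h : orderOf g = 3) :
    Nat.card (Subgroup.zpowers (⟨g, hg⟩ : ↥Cfsg.M24)) = 3 := by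
  rw [Nat.card_zpowers, Subgroup.orderOf_mk, h]

/-- The group of the length-24 code has exactly two conjugacy classes of subgroups of order 3: a subgroup of order 3 fixes either exactly 6 of the 24 points or none of them, both cases occur, and two subgroups of order 3 with the same number of fixed points are conjugate. -/
theorem result : (∀ X : Subgroup ↥Cfsg.M24, Nat.card X = 3 → {p : Cfsg.GolayPt | ∀ x ∈ X, ((x : ↥Cfsg.M24) : Equiv.Perm Cfsg.GolayPt) p = p}.ncard = 6 ∨ {p : Cfsg.GolayPt | ∀ x ∈ X, ((x : ↥Cfsg.M24) : Equiv.Perm Cfsg.GolayPt) p = p}.ncard = 0) ∧ (∃ X : Subgroup ↥Cfsg.M24, Nat.card X = 3 ∧ {p : Cfsg.GolayPt | ∀ x ∈ X, ((x : ↥Cfsg.M24) : Equiv.Perm Cfsg.GolayPt) p = p}.ncard = 6) ∧ (∃ X : Subgroup ↥Cfsg.M24, Nat.card X = 3 ∧ {p : Cfsg.GolayPt | ∀ x ∈ X, ((x : ↥Cfsg.M24) : Equiv.Perm Cfsg.GolayPt) p = p}.ncard = 0) ∧ ∀ X Y : Subgroup ↥Cfsg.M24, Nat.card X = 3 → Nat.card Y = 3 → {p : Cfsg.GolayPt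 | ∀ x ∈ X, ((x : ↥Cfsg.M24) : Equiv.Perm Cfsg.GolayPt) p = p}.ncard = {p : Cfsg.GolayPt | ∀ x ∈ Y, ((x : ↥Cfsg.M24) : Equiv.Perm Cfsg.GolayPt) p = p}.ncard → ∃ k : ↥Cfsg.M24, MulAut.conj k • X = Y := by
  open Cfsg.Agent.Lib.Helper9.M24Coset in
  refine ⟨fun X hX => ?_, ⟨Subgroup.zpowers ⟨tp x0, tp_mem valid_x0⟩, card_zpowers_mk _ _ orderOf_x0, ?_⟩,
    ⟨Subgroup.zpowers ⟨tp x1, tp_mem valid_x1⟩, card_zpowers_mk _ _ orderOf_x1, ?_⟩,
    fun X Y hX hY hXY => ?_⟩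
  · obtain ⟨x, rfl, hx⟩ := exists_gen X hX
    rw [ncard_fixed_zpowers]
    rcases dichotomy x hx with h | h
    · exact Or.inl h.2
    · exact Or.inr h.2
  · rw [ncard_fixed_zpowers]
    show (Finset.univ.filter fun p : Cfsg.GolayPt => tp x0 p = p).card = 6
    rw [card_fixed_tp valid_x0, x0_fixCount]
  · rw [ncard_fixed_zpowers]
    show (Finset.univ.filter fun p : Cfsg.GolayPt => tp x1 p = p).card = 0
    rw [Finset.card_eq_zero, Finset.filter_eq_empty_iff]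
    intro p _
    exact tp_fpf valid_x1 x1_fpf p
  · obtain ⟨x, rfl, hx⟩ := exists_gen X hX
    obtain ⟨y, rfl, hy⟩ := exists_gen Y hY
    rw [ncard_fixed_zpowers, ncard_fixed_zpowers] at hXY
    have key : ∃ k ∈ Cfsg.M24, k * (x : Equiv.Perm Cfsg.GolayPt) * k⁻¹ = (y : Equiv.Perm Cfsg.GolayPt) := by
      rcases dichotomy x hx with h | h <;> rcases dichotomy y hy with h' | h'
      · exact h.1.conj h'.1
      · rw [h.2, h'.2] at hXY; omega
      · rw [h.2, h'.2] at hXY; omega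
      · exact h.1.conj h'.1
    obtain ⟨k, hk, e⟩ := key
    exact ⟨⟨k, hk⟩, conj_zpowers ⟨k, hk⟩ x y (Subtype.ext e)⟩

end Cfsg.Agent.S5601
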