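import Cfsg.Statements.S5602
import Cfsg.Agent.Lib.Helper9.M24FixCounts
import Cfsg.Agent.Lib.Helper9.M24CertX0

open Cfsg.Agent.Lib.Helper9.M24Coset

set_option autoImplicit false
open scoped Pointwise
open Cfsg

namespace Cfsg.Agent.S5602

/-- An element of order 3 of the group of the length-24 code having exactly 6 fixed points maps to themselves exactly 21 octads, exactly 15 trios, exactly 16 sextets and exactly 20 dodecads. -/
theorem result (g : Equiv.Perm Cfsg.GolayPt) (hg : g ∈ Cfsg.M24) (h₃ : orderOf g = 3) (h₆ : (Finset.univ.filter fun p => g p = p).card = 6) : {o : Finset Cfsg.GolayPt | o ∈ Cfsg.octads ∧ g • o = o}.ncard = 21 ∧ {T : Finset (Finset Cfsg.GolayPt) | T ∈ Cfsg.trios ∧ g • T = T}.ncard = 15 ∧ {S : Finset (Finset Cfsg.GolayPt) | S ∈ Cfsg.sextets ∧ g • S = S}.ncard = 16 ∧ {d : Finset Cfsg.GolayPt | d ∈ Cfsg.dodecads ∧ g • d = d}.ncard = 20 := by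
  obtain ⟨hcu, hne⟩ := cube_of_orderOf h₃
  have hp : ∃ p, g p = p := by
    by_contra hcon
    push_neg at hcon
    have hE : (Finset.univ.filter fun p => g p = p) = ∅ :=
      Finset.filter_eq_empty_iff.2 (fun p _ => hcon p)
    rw [hE] at h₆
    simp at h₆
  obtain ⟨p, hp⟩ := hp
  have hc : IsConjTo x0 g := order3_fixed_conj hg hcu hne hp
  have h1 := hc.octad_count valid_x0
  have h2 := hc.trio_count valid_x0
  have h3 := hc.sextet_count valid_x0
  have h4 := hc.dodecad_count valid_x0
  rw [octCert_x0] at h1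
  rw [trioCert_x0] at h2
  rw [quadCert_x0] at h3
  rw [dodCert_x0] at h4
  exact ⟨h1, by omega, by omega, h4⟩

end Cfsg.Agent.S5602
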