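import Cfsg.Statements.S5605
import Cfsg.Agent.Lib.Helper9.M24FixCounts
import Cfsg.Agent.Lib.Helper9.M24CertT0

open Cfsg.Agent.Lib.Helper9.M24Coset

set_option autoImplicit false
open scoped Pointwise
open Cfsg

namespace Cfsg.Agent.S5605

/-- An involution of the group of the length-24 code with exactly 8 fixed points maps to themselves exactly 71 octads, exactly 99 trios and exactly 91 sextets. -/
theorem result (g : Equiv.Perm Cfsg.GolayPt) (hg : g ∈ Cfsg.M24) (h₂ : orderOf g = 2) (h₈ : (Finset.univ.filter fun p => g p = p).card = 8) : {o : Finset Cfsg.GolayPt | o ∈ Cfsg.octads ∧ g • o = o}.ncard = 71 ∧ {T : Finset (Finset Cfsg.GolayPt) | T ∈ Cfsg.trios ∧ g • T = T}.ncard = 99 ∧ {S : Finset (Finset Cfsg.GolayPt) | S ∈ Cfsg.sextets ∧ g • S = S}.ncard = 91 := by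
  obtain ⟨hsq, hne⟩ := sq_of_orderOf h₂
  have hp : ∃ p, g p = p := by
    by_contra hcon
    push_neg at hcon
    have hE : (Finset.univ.filter fun p => g p = p) = ∅ :=
      Finset.filter_eq_empty_iff.2 (fun p _ => hcon p)
    rw [hE] at h₈
    simp at h₈
  obtain ⟨p, hp⟩ := hp
  have hc : IsConjTo t0 g := invol_fixed_conj hg hsq hne hp
  have h1 := hc.octad_count valid_t0
  have h2 := hc.trio_count valid_t0
  have h3 := hc.sextet_count valid_t0
  rw [octCert_t0] at h1
  rw [trioCert_t0] at h2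
  rw [quadCert_t0] at h3
  exact ⟨h1, by omega, by omega⟩

end Cfsg.Agent.S5605
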