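import Cfsg.Statements.S5608
import Cfsg.Agent.Lib.Helper9.M24Commute

set_option autoImplicit false
open scoped Pointwise
open Cfsg

namespace Cfsg.Agent.S5608

/-- a fixed-point-free element of order three commutes with no involution having eight fixed
points: it would permute the eight fixed points without fixing any -/
theorem fixed_of_commute {x s : Equiv.Perm Cfsg.GolayPt} (h3 : x ^ 3 = 1) (hc : x * s = s * x)
    (h8 : (Finset.univ.filter fun p => s p = p).card = 8) : ∃ q, x q = q := by
  classical
  haveI : Fact (Nat.Prime 3) := ⟨Nat.prime_three⟩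
  have hiff : ∀ q, s q = q ↔ s (x q) = x q := by
    intro q
    have h1 : (x * s) q = (s * x) q := by rw [hc]
    rw [Equiv.Perm.mul_apply, Equiv.Perm.mul_apply] at h1
    constructor
    · intro h; rw [← h1, h]
    · intro h
      rw [← h1] at h
      exact x.injective h
  let σ : Equiv.Perm {q // s q = q} := x.subtypePerm (fun q => (hiff q).symm)
  have hσ : σ ^ 3 ^ 1 = 1 := by
    rw [pow_one]
    ext q
    have : ((σ ^ 3) q : Cfsg.GolayPt) = (x ^ 3) q := by
      rw [pow_succ, pow_two, pow_succ, pow_two]
      rfl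
    rw [this, h3]
    rfl
  have hmod := Equiv.Perm.card_compl_support_modEq (p := 3) (n := 1) (σ := σ) hσ
  rw [Fintype.card_subtype, h8] at hmod
  have hpos : 0 < (σ.supportᶜ).card := by
    unfold Nat.ModEq at hmod
    omega
  obtain ⟨q, hq⟩ := Finset.card_pos.1 hpos
  rw [Finset.mem_compl, Equiv.Perm.mem_support, not_not] at hq
  exact ⟨q, congrArg Subtype.val hq⟩

/-- If an element of order 3 and an involution of the group of the length-24 code commute, then either the element of order 3 has exactly 6 fixed points and the involution exactly 8, or both are fixed-point-free. -/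
theorem result (x s : Equiv.Perm Cfsg.GolayPt) (hx : x ∈ Cfsg.M24) (hs : s ∈ Cfsg.M24) (h₃ : orderOf x = 3) (h₂ : orderOf s = 2) (hc : Commute x s) : ((Finset.univ.filter fun p => x p = p).card = 6 ∧ (Finset.univ.filter fun p => s p = p).card = 8) ∨ ((Finset.univ.filter fun p => x p = p).card = 0 ∧ (Finset.univ.filter fun p => s p = p).card = 0) := by
  open Cfsg.Agent.Lib.Helper9.M24Coset in
  obtain ⟨x3, x1⟩ := cube_of_orderOf h₃
  obtain ⟨s2, s1⟩ := sq_of_orderOf h₂
  have hcomm : x * s = s * x := hc.eq
  have hzero : ∀ g : Equiv.Perm Cfsg.GolayPt, (∀ q, g q ≠ q) →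
      (Finset.univ.filter fun p => g p = p).card = 0 := by
    intro g hg
    rw [Finset.card_eq_zero, Finset.filter_eq_empty_iff]
    intro p _
    exact hg p
  by_cases hxf : ∀ q, x q ≠ q
  · by_cases hsf : ∀ q, s q ≠ q
    · exact Or.inr ⟨hzero x hxf, hzero s hsf⟩
    · exfalso
      push Not at hsf
      obtain ⟨p, hp⟩ := hsf
      have h8 : (Finset.univ.filter fun p => s p = p).card = 8 := by
        rw [(invol_fixed_conj hs s2 s1 hp).card_fixed valid_t0, t0_fixCount]
      obtain ⟨q, hq⟩ := fixed_of_commute x3 hcomm h8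
      exact hxf q hq
  · push Not at hxf
    obtain ⟨p, hp⟩ := hxf
    by_cases hsf : ∀ q, s q ≠ q
    · exact (not_commute_fixed_fpf hx hs x3 x1 hp s2 hsf hcomm).elim
    · push Not at hsf
      obtain ⟨q, hq⟩ := hsf
      left
      exact ⟨by rw [(order3_fixed_conj hx x3 x1 hp).card_fixed valid_x0, x0_fixCount],
        by rw [(invol_fixed_conj hs s2 s1 hq).card_fixed valid_t0, t0_fixCount]⟩

end Cfsg.Agent.S5608
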