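import Cfsg.Statements.S5609
import Cfsg.Agent.Lib.Helper9.OctadGraph

set_option autoImplicit false
open scoped Pointwise
open Cfsg

namespace Cfsg.Agent.S5609

/-- In the graph on the 759 octads of the length-24 code in which two octads are adjacent when they are disjoint, the graph is connected (of diameter 3) and two distinct octads are at distance 1, 2 or 3 exactly when they meet in 0, 4 or 2 points respectively. -/
theorem result (o o' : Finset Cfsg.GolayPt) (ho : o ∈ Cfsg.octads) (ho' : o' ∈ Cfsg.octads) (hne : o ≠ o') : (Cfsg.blockGraph Cfsg.octads).Connected ∧ ((Cfsg.blockGraph Cfsg.octads).dist ⟨o, ho⟩ ⟨o', ho'⟩ = 1 ↔ (o ∩ o').card = 0) ∧ ((Cfsg.blockGraph Cfsg.octads).dist ⟨o, ho⟩ ⟨o', ho'⟩ = 2 ↔ (o ∩ o').card = 4) ∧ ((Cfsg.blockGraph Cfsg.octads).dist ⟨o, ho⟩ ⟨o', ho'⟩ = 3 ↔ (o ∩ o').card = 2) := by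
  classical
  open Cfsg.Agent.Lib.Helper21 Cfsg.Agent.Lib.Helper9 in
  have hadj : ∀ a b : Cfsg.octads, (Cfsg.blockGraph Cfsg.octads).Adj a b ↔
      Disjoint (a : Finset Cfsg.GolayPt) (b : Finset Cfsg.GolayPt) := by
    intro a b
    unfold Cfsg.blockGraph
    rw [SimpleGraph.fromRel_adj]
    constructor
    · rintro ⟨_, h | h⟩
      · exact h
      · exact h.symm
    · intro h
      refine ⟨?_, Or.inl h⟩
      intro hab
      exact octads_ne_of_disjoint a.2 h (congrArg Subtype.val hab)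
  -- walks
  open Cfsg.Agent.Lib.Helper21 Cfsg.Agent.Lib.Helper9 in
  have hwalk4 : ∀ a b : Cfsg.octads, ((a : Finset Cfsg.GolayPt) ∩ b).card = 4 →
      ∃ c : Cfsg.octads, (Cfsg.blockGraph Cfsg.octads).Adj a c ∧
        (Cfsg.blockGraph Cfsg.octads).Adj c b := by
    intro a b h4
    obtain ⟨c, hc, hd, hd'⟩ := common_nbr_of_inter_four a.2 b.2 h4
    exact ⟨⟨c, hc⟩, (hadj _ _).mpr hd, (hadj _ _).mpr hd'.symm⟩
  open Cfsg.Agent.Lib.Helper21 Cfsg.Agent.Lib.Helper9 in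
  have hreach : ∀ a b : Cfsg.octads, a ≠ b →
      ∃ p : (Cfsg.blockGraph Cfsg.octads).Walk a b, p.length ≤ 3 := by
    intro a b hab
    have hab' : (a : Finset Cfsg.GolayPt) ≠ b := fun h => hab (Subtype.ext h)
    rcases octads_inter a.2 b.2 hab' with h | h | h
    · have : (Cfsg.blockGraph Cfsg.octads).Adj a b := by
        rw [hadj, Finset.disjoint_iff_inter_eq_empty, ← Finset.card_eq_zero]; exact h
      exact ⟨SimpleGraph.Walk.cons this SimpleGraph.Walk.nil, by simp⟩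
    · obtain ⟨x, hx, hda, hx4⟩ := exists_nbr_inter_four a.2 b.2 h
      obtain ⟨c, hc1, hc2⟩ := hwalk4 ⟨x, hx⟩ b hx4
      have h1 : (Cfsg.blockGraph Cfsg.octads).Adj a ⟨x, hx⟩ := (hadj _ _).mpr hda
      exact ⟨SimpleGraph.Walk.cons h1 (SimpleGraph.Walk.cons hc1
        (SimpleGraph.Walk.cons hc2 SimpleGraph.Walk.nil)), by simp⟩
    · obtain ⟨c, hc1, hc2⟩ := hwalk4 a b h
      exact ⟨SimpleGraph.Walk.cons hc1 (SimpleGraph.Walk.cons hc2 SimpleGraph.Walk.nil),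
        by simp⟩
  have hconn : (Cfsg.blockGraph Cfsg.octads).Connected := by
    haveI : Nonempty Cfsg.octads := ⟨⟨o, ho⟩⟩
    refine SimpleGraph.Connected.mk ?_
    intro a b
    by_cases hab : a = b
    · rw [hab]
    · obtain ⟨p, _⟩ := hreach a b hab
      exact ⟨p⟩
  have hne' : (⟨o, ho⟩ : Cfsg.octads) ≠ ⟨o', ho'⟩ := fun h => hne (congrArg Subtype.val h)
  have hr : (Cfsg.blockGraph Cfsg.octads).Reachable ⟨o, ho⟩ ⟨o', ho'⟩ := hconn.preconnected _ _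
  have hle3 : (Cfsg.blockGraph Cfsg.octads).dist ⟨o, ho⟩ ⟨o', ho'⟩ ≤ 3 := by
    obtain ⟨p, hp⟩ := hreach ⟨o, ho⟩ ⟨o', ho'⟩ hne'
    exact (SimpleGraph.dist_le p).trans hp
  have hpos : 0 < (Cfsg.blockGraph Cfsg.octads).dist ⟨o, ho⟩ ⟨o', ho'⟩ :=
    hconn.pos_dist_of_ne hne'
  have h1 : (Cfsg.blockGraph Cfsg.octads).dist ⟨o, ho⟩ ⟨o', ho'⟩ = 1 ↔ (o ∩ o').card = 0 := by
    rw [SimpleGraph.dist_eq_one_iff_adj, hadj, Finset.disjoint_iff_inter_eq_empty,
      Finset.card_eq_zero]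
  open Cfsg.Agent.Lib.Helper21 Cfsg.Agent.Lib.Helper9 in
  have h2 : (Cfsg.blockGraph Cfsg.octads).dist ⟨o, ho⟩ ⟨o', ho'⟩ = 2 ↔ (o ∩ o').card = 4 := by
    have hcoe := hr.coe_dist_eq_edist
    have h2' : (Cfsg.blockGraph Cfsg.octads).dist ⟨o, ho⟩ ⟨o', ho'⟩ = 2 ↔
        (Cfsg.blockGraph Cfsg.octads).edist ⟨o, ho⟩ ⟨o', ho'⟩ = 2 := by
      rw [← hcoe]
      exact_mod_cast Iff.rfl
    rw [h2', SimpleGraph.edist_eq_two_iff]
    constructor
    · rintro ⟨_, hnadj, ⟨c, hc⟩⟩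
      rw [SimpleGraph.mem_commonNeighbors, hadj, hadj] at hc
      rcases octads_inter ho ho' hne with h | h | h
      · exfalso
        apply hnadj
        rw [hadj, Finset.disjoint_iff_inter_eq_empty, ← Finset.card_eq_zero]; exact h
      · exact (no_common_nbr_of_inter_two ho ho' c.2 h hc.1 hc.2).elim
      · exact h
    · intro h4
      refine ⟨hne', ?_, ?_⟩
      · rw [hadj, Finset.disjoint_iff_inter_eq_empty, ← Finset.card_eq_zero]
        show ¬ (o ∩ o').card = 0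
        omega
      · obtain ⟨c, hc1, hc2⟩ := hwalk4 ⟨o, ho⟩ ⟨o', ho'⟩ h4
        exact ⟨c, (SimpleGraph.mem_commonNeighbors _).mpr ⟨hc1, hc2.symm⟩⟩
  refine ⟨hconn, h1, h2, ?_⟩
  open Cfsg.Agent.Lib.Helper21 in
  have hcases := octads_inter ho ho' hne
  omega

end Cfsg.Agent.S5609
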