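import Cfsg.Statements.S5613
import Cfsg.Agent.Lib.Helper21.GolayTwoOct

set_option autoImplicit false
open scoped Pointwise
open Cfsg

namespace Cfsg.Agent.S5613

/-- In the group of the length-24 code, the joint stabiliser of two octads has order 10752, 1152 or 720 according as the octads meet in 0, 4 or 2 points. -/
theorem result (o o' : Finset Cfsg.GolayPt) (ho : o ∈ Cfsg.octads) (ho' : o' ∈ Cfsg.octads) : ((o ∩ o').card = 0 → Nat.card ↥(MulAction.stabilizer Cfsg.M24 o ⊓ MulAction.stabilizer Cfsg.M24 o') = 10752) ∧ ((o ∩ o').card = 4 → Nat.card ↥(MulAction.stabilizer Cfsg.M24 o ⊓ MulAction.stabilizer Cfsg.M24 o') = 1152) ∧ ((o ∩ o').card = 2 → Nat.card ↥(MulAction.stabilizer Cfsg.M24 o ⊓ MulAction.stabilizer Cfsg.M24 o') = 720) := by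
  have hne : ∀ j, j ≠ 8 → (o ∩ o').card = j → o' ≠ o := by
    intro j hj hc e
    rw [e, Finset.inter_self] at hc
    obtain ⟨_, _, _, h8⟩ := (Cfsg.Agent.Lib.Helper21.mem_octads_iff o).1 ho
    omega
  obtain ⟨c0, -, c2, -, c4⟩ := Cfsg.Agent.Lib.Helper21.interCounts_5_8_24
    Cfsg.Agent.Lib.Helper21.card_golayPt Cfsg.Agent.Lib.Helper21.octads_steiner ho
  refine ⟨fun h => ?_, fun h => ?_, fun h => ?_⟩
  · have := Cfsg.Agent.Lib.Helper21.card_two_octad_stab o o' ho ho' (hne 0 (by norm_num) h)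
    rw [h, c0] at this
    omega
  · have := Cfsg.Agent.Lib.Helper21.card_two_octad_stab o o' ho ho' (hne 4 (by norm_num) h)
    rw [h, c4] at this
    omega
  · have := Cfsg.Agent.Lib.Helper21.card_two_octad_stab o o' ho ho' (hne 2 (by norm_num) h)
    rw [h, c2] at this
    omega

end Cfsg.Agent.S5613
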