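import Cfsg.Statements.S5614
import Cfsg.Agent.Lib.Helper21.GolayFlag
import Cfsg.Agent.Lib.Helper21.PermRestrict
import Cfsg.Agent.Lib.Helper21.GolayTwoOct
import Cfsg.Agent.S1556

set_option autoImplicit false
open scoped Pointwise
open Cfsg

namespace Cfsg.Agent.S5614

open Cfsg.Agent.Lib.Helper21

/-- Masks of the base pair of octads. -/
def m0 : ℕ := 0x149F
def m1 : ℕ := 0x7b42

/-- Fixed positions at the levels of the chain. -/
def eFs : ℕ → List ℕ
  | 0 => []
  | 1 => [6]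
  | 2 => [8, 6]
  | 3 => [9, 8, 6]
  | 4 => [11, 9, 8, 6]
  | _ => [13, 11, 9, 8, 6]

def eB : ℕ → ℕ
  | 0 => 6
  | 1 => 8
  | 2 => 9
  | 3 => 11
  | _ => 13

def eWords : ℕ → List ℕ
  | 0 => [1, 1628354, 281054685, 5229616, 403430797, 79741903]
  | 1 => [1, 7518801366, 7574258271, 453816373, 5821903712]
  | 2 => [1, 7532380223, 7563912663, 76342134]
  | 3 => [1, 1540849792, 23022472655]
  | _ => [1, 1602189197]

def eE : ℕ → ℕ
  | 0 => 0x6b40
  | 1 => 0x6b00
  | 2 => 0x6a00
  | 3 => 0x6800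
  | _ => 0x6000

theorem e_ok : ∀ k, k < 5 → levelOkC 32 [m0, m1] (eFs k) (eB k) (eWords k)
    [(0, m1, true), (0, m0, false)] (eE k) = true := by
  decide +kernel

theorem popc_eE : popc 24 (eE 0) = 6 ∧ popc 24 (eE 1) = 5 ∧ popc 24 (eE 2) = 4 ∧
    popc 24 (eE 3) = 3 ∧ popc 24 (eE 4) = 2 := by decide +kernel

theorem e_card (k : ℕ) (hk : k < 5) :
    Nat.card (conSub [m0, m1] (eFs k)) = popc 24 (eE k) * Nat.card (conSub [m0, m1] (eFs (k + 1))) := by
  have e : ∀ k, k < 5 → eB k :: eFs k = eFs (k + 1) := by decide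
  have h := level_cardC 32 _ _ _ _ _ _ (e_ok k hk)
  rw [e k hk] at h
  exact h

theorem m1_mem : maskFS m1 ∈ octads := by
  have h : m1 = encMask 0xb42 := by decide +kernel
  rw [h]
  exact maskFS_encMask_mem_octads _ (by norm_num) (by decide +kernel)

theorem base_inter : (oct0 ∩ maskFS m1).card = 2 := by
  unfold oct0
  rw [card_maskFS_inter _ (by norm_num), fsMask_maskFS _ (by unfold m1; norm_num)]
  decide +kernel


/-- In the group of the length-24 code, the joint stabiliser of two octads meeting in exactly two points is isomorphic to the symmetric group of degree 6. -/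
theorem result (o o' : Finset Cfsg.GolayPt) (ho : o ∈ Cfsg.octads) (ho' : o' ∈ Cfsg.octads) (h₂ : (o ∩ o').card = 2) : Nonempty (↥(MulAction.stabilizer Cfsg.M24 o ⊓ MulAction.stabilizer Cfsg.M24 o') ≃* Equiv.Perm (Fin 6)) := by
  classical
  -- move the base pair to the given one
  obtain ⟨k, hk, hk0, hk1⟩ : ∃ k ∈ M24, k • maskFS m0 = o ∧ k • maskFS m1 = o' := by
    obtain ⟨k₁, hk₁⟩ := octads_transitive oct0 o oct0_mem ho
    have hk₁' : (k₁ : Equiv.Perm GolayPt) • oct0 = o := hk₁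
    have ho'' : (k₁ : Equiv.Perm GolayPt)⁻¹ • o' ∈ octads := smul_mem_octads (M24.inv_mem k₁.2) ho'
    have hc : (oct0 ∩ maskFS m1).card = (oct0 ∩ (k₁ : Equiv.Perm GolayPt)⁻¹ • o').card := by
      rw [base_inter, ← h₂, ← hk₁', ← card_smul_inter (k₁ : Equiv.Perm GolayPt)⁻¹, inv_smul_smul]
    obtain ⟨g, hg, hg0, hg1⟩ := Cfsg.Agent.S1556.result oct0 (maskFS m1) _ oct0_mem m1_mem ho'' hc
    refine ⟨k₁ * g, M24.mul_mem k₁.2 hg, ?_, ?_⟩
    · rw [mul_smul]
      show (k₁ : Equiv.Perm GolayPt) • g • oct0 = o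
      rw [hg0, hk₁']
    · rw [mul_smul, hg1, smul_inv_smul]
  have hK : ∀ x : ↥M24, x ∈ (MulAction.stabilizer Cfsg.M24 o ⊓ MulAction.stabilizer Cfsg.M24 o') ↔
      (∀ D ∈ [m0, m1], (x : Equiv.Perm GolayPt) • (k • maskFS D) = k • maskFS D) ∧
        ∀ i ∈ ([] : List ℕ), (x : Equiv.Perm GolayPt) (k (ptN i)) = k (ptN i) := by
    intro x
    simp only [Subgroup.mem_inf, MulAction.mem_stabilizer_iff, List.mem_cons, List.not_mem_nil,
      or_false, forall_eq_or_imp, forall_eq, hk0, hk1, false_imp_iff, implies_true, and_true]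
    rfl
  -- the order of the joint stabiliser
  have hne : o' ≠ o := by
    rintro rfl
    rw [Finset.inter_self, octad_card o' ho'] at h₂
    omega
  have hcardK : Nat.card ↥(MulAction.stabilizer Cfsg.M24 o ⊓ MulAction.stabilizer Cfsg.M24 o') =
      720 := by
    have h := card_two_octad_stab o o' ho ho' hne
    rw [h₂, (interCounts_5_8_24 card_golayPt octads_steiner ho).2.2.1] at h
    omega
  let φ := conSubMulEquiv hk _ hK
  have hcard0 : Nat.card (conSub [m0, m1] (eFs 0)) = 720 := by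
    rw [← hcardK]
    exact (Nat.card_congr φ.toEquiv).symm
  -- the chain
  have hbot : conSub [m0, m1] (eFs 5) = ⊥ := by
    have h0 := e_card 0 (by norm_num)
    have h1 := e_card 1 (by norm_num)
    have h2 := e_card 2 (by norm_num)
    have h3 := e_card 3 (by norm_num)
    have h4 := e_card 4 (by norm_num)
    rw [popc_eE.1] at h0
    rw [popc_eE.2.1] at h1
    rw [popc_eE.2.2.1] at h2
    rw [popc_eE.2.2.2.1] at h3
    rw [popc_eE.2.2.2.2] at h4
    simp only [Nat.reduceAdd] at h0 h1 h2 h3 h4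
    rw [h0, h1, h2, h3, h4] at hcard0
    apply (Subgroup.card_eq_one).1
    omega
  have hiso : Nonempty (↥(conSub [m0, m1] (eFs 0)) ≃* Equiv.Perm (Fin 6)) := by
    apply nonempty_mulEquiv_perm_of_card (conSub [m0, m1] (eFs 0))
      (maskFS (m1 &&& (m0 ^^^ 0xFFFFFF))) 6
    · rw [card_maskFS _ (by decide)]
      decide +kernel
    · intro g hg
      exact (hg.2.1 m1 (by simp)).and (hg.2.1 m0 (by simp)).compl
    · intro g hg hfix
      have : g ∈ conSub [m0, m1] (eFs 5) :=
        conSub_fixes_of_forall (E := m1 &&& (m0 ^^^ 0xFFFFFF)) hg (by decide) hfix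
      rw [hbot, Subgroup.mem_bot] at this
      exact this
    · rw [hcard0]
      rfl
  obtain ⟨ψ⟩ := hiso
  exact ⟨φ.trans ψ⟩

end Cfsg.Agent.S5614
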