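import Cfsg.Statements.S5615
import Cfsg.Agent.Lib.Helper21.TrioPairBase

set_option autoImplicit false
open scoped Pointwise
open Cfsg

namespace Cfsg.Agent.S5615

open Cfsg.Agent.Lib.Helper21

theorem mem_thru_smul (k : Equiv.Perm GolayPt) (hk : k ∈ M24) (T : Finset (Finset GolayPt)) :
    (T ∈ trios ∧ k • oct0 ∈ T) ↔ (k⁻¹ • T ∈ trios ∧ oct0 ∈ k⁻¹ • T) := by
  have e1 : T ∈ trios ↔ k⁻¹ • T ∈ trios := by
    constructor
    · exact fun h => smul_mem_trios (M24.inv_mem hk) h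
    · intro h
      have := smul_mem_trios hk h
      rwa [smul_inv_smul] at this
  have e2 : k • oct0 ∈ T ↔ oct0 ∈ k⁻¹ • T := by
    have := Finset.inv_smul_mem_iff (a := k⁻¹) (b := oct0) (s := T)
    rw [inv_inv] at this
    exact this
  rw [e1, e2]

/-- Two distinct trios through an octad can be mapped to the images of the two base trios. -/
theorem pair_nf (k : Equiv.Perm GolayPt) (hk : k ∈ M24) (T₁ T₂ : Finset (Finset GolayPt))
    (h1 : T₁ ∈ trios) (h2 : T₂ ∈ trios) (ho1 : k • oct0 ∈ T₁) (ho2 : k • oct0 ∈ T₂)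
    (hne : T₁ ≠ T₂) :
    ∃ g ∈ M24, g • oct0 = oct0 ∧ g • (k⁻¹ • T₁) = trioR0 ∧ g • (k⁻¹ • T₂) = trioR1 := by
  obtain ⟨a1, b1⟩ := (mem_thru_smul k hk T₁).1 ⟨h1, ho1⟩
  obtain ⟨a2, b2⟩ := (mem_thru_smul k hk T₂).1 ⟨h2, ho2⟩
  apply pair_normal_form _ _ a1 a2 b1 b2
  intro e
  exact hne ((MulAction.injective k⁻¹) e)

/-- An element fixing an octad pointwise fixes the trios through it. -/
theorem fix_thru (k : Equiv.Perm GolayPt) (hk : k ∈ M24) (n : Equiv.Perm GolayPt) (hn : n ∈ M24)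
    (hfix : ∀ p ∈ k • oct0, n p = p) (T : Finset (Finset GolayPt)) (hT : T ∈ trios)
    (ho : k • oct0 ∈ T) : n • T = T := by
  obtain ⟨a1, b1⟩ := (mem_thru_smul k hk T).1 ⟨hT, ho⟩
  have hfix' : ∀ p ∈ oct0, (k⁻¹ * n * k) p = p := by
    intro p hp
    have hkp : k p ∈ k • oct0 := Finset.smul_mem_smul_finset (a := k) hp
    rw [Equiv.Perm.mul_apply, Equiv.Perm.mul_apply, hfix _ hkp]
    exact k.symm_apply_apply p
  have := fix_thru_base (k⁻¹ * n * k) (M24.mul_mem (M24.mul_mem (M24.inv_mem hk) hn) hk) hfix'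
    _ a1 b1
  rw [mul_smul, mul_smul, smul_inv_smul, inv_smul_eq_iff, smul_inv_smul] at this
  exact this

/-- An element of the stabiliser of an octad fixing all trios through it fixes it pointwise. -/
theorem kernel_fix (o : Finset GolayPt) (ho : o ∈ octads)
    (hE : ∀ n ∈ M24, (∀ p ∈ o, n p = p) → ∀ T ∈ trios, o ∈ T → n • T = T)
    (hTr : ∃ T₁ T₂ : Finset (Finset GolayPt), T₁ ∈ trios ∧ o ∈ T₁ ∧ T₁ ≠ T₂ ∧
      ∃ y ∈ M24, y • o = o ∧ y • T₁ = T₂)
    (g : Equiv.Perm GolayPt) (hg : g ∈ M24) (hgo : g • o = o)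
    (hfix : ∀ T ∈ trios, o ∈ T → g • T = T) : ∀ p ∈ o, g p = p := by
  classical
  have hM : ∀ x : ↥(octStab o), (x : Equiv.Perm GolayPt) ∈ M24 :=
    fun x => (Subgroup.mem_inf.1 x.2).1
  have hO : ∀ x : ↥(octStab o), (x : Equiv.Perm GolayPt) • o = o :=
    fun x => MulAction.mem_stabilizer_iff.1 (Subgroup.mem_inf.1 x.2).2
  let K : Subgroup ↥(octStab o) :=
    { carrier := {x | ∀ T ∈ trios, o ∈ T → (x : Equiv.Perm GolayPt) • T = T}
      mul_mem' := by
        intro a b ha hb T hT hoT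
        show ((a : Equiv.Perm GolayPt) * (b : Equiv.Perm GolayPt)) • T = T
        rw [mul_smul, hb T hT hoT, ha T hT hoT]
      one_mem' := by
        intro T _ _
        exact one_smul _ _
      inv_mem' := by
        intro a ha T hT hoT
        show ((a : Equiv.Perm GolayPt))⁻¹ • T = T
        rw [inv_smul_eq_iff, ha T hT hoT] }
  have hKmem : ∀ x : ↥(octStab o), x ∈ K ↔
      ∀ T ∈ trios, o ∈ T → (x : Equiv.Perm GolayPt) • T = T := fun _ => Iff.rfl
  have hrange := octRestrict_range o ho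
  let P : Subgroup ↥(alternatingGroup ↥o) := (K.map (octRestrict o)).subgroupOf _
  have hPn : P.Normal := by
    refine ⟨fun n hn a => ?_⟩
    obtain ⟨x, hxK, hx⟩ := Subgroup.mem_map.1 (Subgroup.mem_subgroupOf.1 hn)
    have ha : (a : Equiv.Perm ↥o) ∈ (octRestrict o).range := by
      rw [hrange]
      exact a.2
    obtain ⟨y, hy⟩ := ha
    apply Subgroup.mem_subgroupOf.2
    refine Subgroup.mem_map.2 ⟨y * x * y⁻¹, ?_, ?_⟩
    · rw [hKmem]
      intro T hT hoT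
      show ((y : Equiv.Perm GolayPt) * (x : Equiv.Perm GolayPt) * ((y : Equiv.Perm GolayPt))⁻¹) • T
        = T
      have h1 : ((y : Equiv.Perm GolayPt))⁻¹ • T ∈ trios :=
        smul_mem_trios (M24.inv_mem (hM y)) hT
      have h2 : o ∈ ((y : Equiv.Perm GolayPt))⁻¹ • T := by
        have e : ((y : Equiv.Perm GolayPt))⁻¹ • o = o := by rw [inv_smul_eq_iff, hO y]
        have h := Finset.smul_mem_smul_finset (a := ((y : Equiv.Perm GolayPt))⁻¹) hoT
        rwa [e] at h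
      rw [mul_smul, mul_smul, (hKmem x).1 hxK _ h1 h2, smul_inv_smul]
    · rw [map_mul, map_mul, map_inv, hx, hy]
      rfl
  have hsimple : IsSimpleGroup ↥(alternatingGroup ↥o) := by
    apply alternatingGroup.isSimpleGroup
    rw [Nat.card_eq_fintype_card, Fintype.card_coe, octad_card o ho]
    norm_num
  rcases hPn.eq_bot_or_eq_top with hbot | htop
  · let x : ↥(octStab o) := ⟨g, Subgroup.mem_inf.2 ⟨hg, MulAction.mem_stabilizer_iff.2 hgo⟩⟩
    have hxK : x ∈ K := (hKmem x).2 hfix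
    have hφA : octRestrict o x ∈ alternatingGroup ↥o := by
      rw [← hrange]
      exact ⟨x, rfl⟩
    have hmem : (⟨octRestrict o x, hφA⟩ : ↥(alternatingGroup ↥o)) ∈ P :=
      Subgroup.mem_subgroupOf.2 (Subgroup.mem_map.2 ⟨x, hxK, rfl⟩)
    rw [hbot, Subgroup.mem_bot] at hmem
    have h1 : octRestrict o x = 1 := congrArg Subtype.val hmem
    intro p hp
    have h2 := congrArg (fun e : Equiv.Perm ↥o => ((e ⟨p, hp⟩ : ↥o) : GolayPt)) h1
    exact h2
  · obtain ⟨T₁, T₂, hT₁, hoT₁, hne, y, hy, hyo, hyT⟩ := hTr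
    let y' : ↥(octStab o) := ⟨y, Subgroup.mem_inf.2 ⟨hy, MulAction.mem_stabilizer_iff.2 hyo⟩⟩
    have hφA : octRestrict o y' ∈ alternatingGroup ↥o := by
      rw [← hrange]
      exact ⟨y', rfl⟩
    have hmem : (⟨octRestrict o y', hφA⟩ : ↥(alternatingGroup ↥o)) ∈ P := by
      rw [htop]
      exact Subgroup.mem_top _
    obtain ⟨x', hx'K, hx'⟩ := Subgroup.mem_map.1 (Subgroup.mem_subgroupOf.1 hmem)
    have hx'' : octRestrict o x' = octRestrict o y' := hx'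
    have hz : octRestrict o (x'⁻¹ * y') = 1 := by
      rw [map_mul, map_inv, hx'']
      exact inv_mul_cancel _
    have hzfix : ∀ p ∈ o, ((x'⁻¹ * y' : ↥(octStab o)) : Equiv.Perm GolayPt) p = p := by
      intro p hp
      exact congrArg (fun e : Equiv.Perm ↥o => ((e ⟨p, hp⟩ : ↥o) : GolayPt)) hz
    have h3 := hE _ (hM (x'⁻¹ * y')) hzfix T₁ hT₁ hoT₁
    have h4 : ((x'⁻¹ * y' : ↥(octStab o)) : Equiv.Perm GolayPt) =
        ((x' : Equiv.Perm GolayPt))⁻¹ * y := rfl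
    rw [h4, mul_smul, hyT, inv_smul_eq_iff, (hKmem x').1 hx'K T₁ hT₁ hoT₁] at h3
    exact absurd h3.symm hne

/-- An octad of the length-24 code lies in exactly 15 trios; the stabiliser of the octad in the code's group acts doubly transitively on these 15 trios, and the kernel of this action is the pointwise stabiliser of the octad. -/
theorem result (o : Finset Cfsg.GolayPt) (ho : o ∈ Cfsg.octads) : {T : Finset (Finset Cfsg.GolayPt) | T ∈ Cfsg.trios ∧ o ∈ T}.ncard = 15 ∧ (∀ T₁ T₂ T₁' T₂' : Finset (Finset Cfsg.GolayPt), T₁ ∈ Cfsg.trios → T₂ ∈ Cfsg.trios → T₁' ∈ Cfsg.trios → T₂' ∈ Cfsg.trios → o ∈ T₁ → o ∈ T₂ → o ∈ T₁' → o ∈ T₂' → T₁ ≠ T₂ → T₁' ≠ T₂' → ∃ g ∈ Cfsg.M24, g • o = o ∧ g • T₁ = T₁' ∧ g • T₂ = T₂') ∧ ∀ g ∈ Cfsg.M24, g • o = o → ((∀ T ∈ Cfsg.trios, o ∈ T → g • T = T) ↔ ∀ p ∈ o, g p = p) := by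
  obtain ⟨k', hk'⟩ := octads_transitive oct0 o oct0_mem ho
  obtain ⟨k, hk⟩ := k'
  have hko : k • oct0 = o := hk'
  subst hko
  have h2t : ∀ T₁ T₂ T₁' T₂' : Finset (Finset Cfsg.GolayPt), T₁ ∈ Cfsg.trios → T₂ ∈ Cfsg.trios →
      T₁' ∈ Cfsg.trios → T₂' ∈ Cfsg.trios → k • oct0 ∈ T₁ → k • oct0 ∈ T₂ → k • oct0 ∈ T₁' →
      k • oct0 ∈ T₂' → T₁ ≠ T₂ → T₁' ≠ T₂' →
      ∃ g ∈ Cfsg.M24, g • (k • oct0) = k • oct0 ∧ g • T₁ = T₁' ∧ g • T₂ = T₂' := by
    intro T₁ T₂ T₁' T₂' h1 h2 h1' h2' ho1 ho2 ho1' ho2' hne hne'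
    obtain ⟨ga, hga, hgao, ha1, ha2⟩ := pair_nf k hk T₁ T₂ h1 h2 ho1 ho2 hne
    obtain ⟨gb, hgb, hgbo, hb1, hb2⟩ := pair_nf k hk T₁' T₂' h1' h2' ho1' ho2' hne'
    refine ⟨k * gb⁻¹ * ga * k⁻¹, M24.mul_mem (M24.mul_mem (M24.mul_mem hk (M24.inv_mem hgb)) hga)
      (M24.inv_mem hk), ?_, ?_, ?_⟩
    · have e : gb⁻¹ • oct0 = oct0 := by rw [inv_smul_eq_iff, hgbo]
      rw [mul_smul, mul_smul, mul_smul, inv_smul_smul, hgao, e]
    · rw [mul_smul, mul_smul, mul_smul, ha1, ← hb1, inv_smul_smul, smul_inv_smul]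
    · rw [mul_smul, mul_smul, mul_smul, ha2, ← hb2, inv_smul_smul, smul_inv_smul]
  refine ⟨?_, h2t, ?_⟩
  · rw [← ncard_thru_base]
    have : {T : Finset (Finset GolayPt) | T ∈ trios ∧ k • oct0 ∈ T} =
        (fun T => k • T) '' {T : Finset (Finset GolayPt) | T ∈ trios ∧ oct0 ∈ T} := by
      ext T
      rw [Set.mem_ofPred_eq, mem_thru_smul k hk, Set.mem_image]
      constructor
      · intro h
        exact ⟨k⁻¹ • T, h, smul_inv_smul k T⟩
      · rintro ⟨T', hT', rfl⟩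
        rw [inv_smul_smul]
        exact hT'
    rw [this, Set.ncard_image_of_injective _ (MulAction.injective k)]
  · intro g hg hgo
    constructor
    · intro hfix
      apply kernel_fix (k • oct0) ho (fun n hn hnfix T hT hoT => fix_thru k hk n hn hnfix T hT hoT)
        _ g hg hgo hfix
      have m0 : k • trioR0 ∈ trios := smul_mem_trios hk trioR0_mem
      have m1 : k • trioR1 ∈ trios := smul_mem_trios hk trioR1_mem
      have o0 : k • oct0 ∈ k • trioR0 := Finset.smul_mem_smul_finset oct0_mem_R0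
      have o1 : k • oct0 ∈ k • trioR1 := Finset.smul_mem_smul_finset oct0_mem_R1
      have hne : k • trioR0 ≠ k • trioR1 := fun e => trioR0_ne_R1 ((MulAction.injective k) e)
      obtain ⟨y, hy, hyo, hy1, -⟩ := h2t _ _ _ _ m0 m1 m1 m0 o0 o1 o1 o0 hne hne.symm
      exact ⟨k • trioR0, k • trioR1, m0, o0, hne, y, hy, hyo, hy1⟩
    · intro hfix T hT hoT
      exact fix_thru k hk g hg hfix T hT hoT

end Cfsg.Agent.S5615
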