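import Cfsg.Statements.S5616
import Cfsg.Agent.Lib.Helper21.GolaySextetMeet
import Cfsg.Agent.Lib.Helper21.GolaySix

set_option autoImplicit false
open scoped Pointwise
open Cfsg

namespace Cfsg.Agent.S5616

open Cfsg.Agent.Lib.Helper21

theorem trans_of_tetrads {Y : Finset GolayPt} {S S' : Finset (Finset GolayPt)} (hS : S ∈ sextets)
    (hS' : S' ∈ sextets) {t t' : Finset GolayPt} (ht : t ∈ S) (ht' : t' ∈ S')
    (h : ∃ g ∈ M24, g • Y = Y ∧ g • t = t') : ∃ g ∈ M24, g • Y = Y ∧ g • S = S' := by
  obtain ⟨g, hg, hgY, hgt⟩ := h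
  refine ⟨g, hg, hgY, ?_⟩
  rw [eq_sextetOf hS ht, smul_sextetOf hg (tetrad_card hS ht), hgt, ← eq_sextetOf hS' ht']

/-- A tetrad meeting a three-point set in two points: exactly two tetrads meet the set. -/
theorem card_meet_of_two {Y : Finset GolayPt} (hY : Y.card = 3) {S : Finset (Finset GolayPt)}
    (hS : S ∈ sextets) {t : Finset GolayPt} (ht : t ∈ S) (h2 : (t ∩ Y).card = 2) :
    (meetTetrads S Y).card = 2 := by
  classical
  have htm : t ∈ meetTetrads S Y := mem_meetTetrads.2 ⟨ht, Finset.card_pos.1 (by omega)⟩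
  have hle := card_inter_add_le hS Y htm
  have hsd : (Y \ t).card = 1 := by
    have := Finset.card_sdiff_add_card_inter Y t
    rw [Finset.inter_comm] at this
    omega
  obtain ⟨y, hy⟩ := Finset.card_eq_one.1 hsd
  have hy' : y ∈ Y \ t := by rw [hy]; exact Finset.mem_singleton_self y
  obtain ⟨u, hu, hyu⟩ := subset_biUnion_meetTetrads hS Y y (Finset.mem_sdiff.1 hy').1
  have hne : t ≠ u := by
    rintro rfl
    exact (Finset.mem_sdiff.1 hy').2 hyu
  have h1 : 1 < (meetTetrads S Y).card := Finset.one_lt_card.2 ⟨t, htm, u, hu, hne⟩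
  omega

/-- If two tetrads meet a three-point set, one of them meets it in two points. -/
theorem exists_two_of_card_meet {Y : Finset GolayPt} (hY : Y.card = 3)
    {S : Finset (Finset GolayPt)} (hS : S ∈ sextets) (h2 : (meetTetrads S Y).card = 2) :
    ∃ t ∈ S, (t ∩ Y).card = 2 := by
  classical
  obtain ⟨t, u, hne, hm⟩ := Finset.card_eq_two.1 h2
  have hsum := sum_card_inter_meetTetrads hS Y
  rw [hm, Finset.sum_pair hne, hY] at hsum
  have htm : t ∈ meetTetrads S Y := by rw [hm]; simp
  have hum : u ∈ meetTetrads S Y := by rw [hm]; simp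
  have h1 := card_inter_pos_of_mem_meetTetrads htm
  have h2' := card_inter_pos_of_mem_meetTetrads hum
  by_cases h : (t ∩ Y).card = 2
  · exact ⟨t, (mem_meetTetrads.1 htm).1, h⟩
  · exact ⟨u, (mem_meetTetrads.1 hum).1, by omega⟩

/-- If three tetrads meet a three-point set, each meets it in one point, and the set together
with such a tetrad lies in no octad. -/
theorem one_of_card_meet {Y : Finset GolayPt} (hY : Y.card = 3)
    {S : Finset (Finset GolayPt)} (hS : S ∈ sextets) (h3 : (meetTetrads S Y).card = 3) :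
    ∃ t ∈ S, (t ∩ Y).card = 1 ∧ ¬ ∃ o ∈ octads, Y ∪ t ⊆ o := by
  classical
  have hall : ∀ u ∈ meetTetrads S Y, (u ∩ Y).card = 1 := by
    intro u hu
    have h1 := card_inter_add_le hS Y hu
    have h2 := card_inter_pos_of_mem_meetTetrads hu
    omega
  obtain ⟨t, htm⟩ : (meetTetrads S Y).Nonempty := by
    rw [← Finset.card_pos, h3]
    norm_num
  have ht := (mem_meetTetrads.1 htm).1
  refine ⟨t, ht, hall t htm, ?_⟩
  rintro ⟨o, ho, hsub⟩
  have hto : t ⊆ o := fun x hx => hsub (Finset.mem_union_right _ hx)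
  have hu : o \ t ∈ S := by
    rw [eq_sextetOf hS ht, mem_sextetOf]
    exact Or.inr ⟨o, ho, hto, rfl⟩
  have hsub2 : Y \ t ⊆ (o \ t) ∩ Y := by
    intro x hx
    have hx' := Finset.mem_sdiff.1 hx
    exact Finset.mem_inter.2 ⟨Finset.mem_sdiff.2 ⟨hsub (Finset.mem_union_left _ hx'.1), hx'.2⟩,
      hx'.1⟩
  have hc2 : (Y \ t).card = 2 := by
    have := Finset.card_sdiff_add_card_inter Y t
    rw [Finset.inter_comm, hall t htm] at this
    omega
  have hge : 2 ≤ ((o \ t) ∩ Y).card := hc2 ▸ Finset.card_le_card hsub2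
  have hum : o \ t ∈ meetTetrads S Y := mem_meetTetrads.2 ⟨hu, Finset.card_pos.1 (by omega)⟩
  have := hall _ hum
  omega


/-- Let Y be a set of 3 of the 24 points. The sextets of the length-24 code whose tetrads meeting Y number 1, 2 or 3 are respectively 21, 630 and 1120 in number, and two sextets with the same number of tetrads meeting Y are conjugate under the setwise stabiliser of Y in the code's group. -/
theorem result (Y : Finset Cfsg.GolayPt) (hY : Y.card = 3) : {S : Finset (Finset Cfsg.GolayPt) | S ∈ Cfsg.sextets ∧ (S.filter fun t => (t ∩ Y).Nonempty).card = 1}.ncard = 21 ∧ {S : Finset (Finset Cfsg.GolayPt) | S ∈ Cfsg.sextets ∧ (S.filter fun t => (t ∩ Y).Nonempty).card = 2}.ncard = 630 ∧ {S : Finset (Finset Cfsg.GolayPt) | S ∈ Cfsg.sextets ∧ (S.filter fun t => (t ∩ Y).Nonempty).card = 3}.ncard = 1120 ∧ ∀ S S' : Finset (Finset Cfsg.GolayPt), S ∈ Cfsg.sextets → S' ∈ Cfsg.sextets → (S.filter fun t => (t ∩ Y).Nonempty).card = (S'.filter fun t => (t ∩ Y).Nonempty).card → ∃ g ∈ Cfsg.M24, g • Y = Y ∧ g • S = S'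 := by
  classical
  have hYne : Y.Nonempty := by
    rw [← Finset.card_pos, hY]
    norm_num
  have hfilt : ∀ S : Finset (Finset GolayPt),
      (S.filter fun t => (t ∩ Y).Nonempty) = meetTetrads S Y := by
    intro S
    ext t
    rw [Finset.mem_filter, mem_meetTetrads]
  simp only [hfilt]
  -- the class of sextets having a tetrad through `Y`
  have hN1 : {S : Finset (Finset GolayPt) | S ∈ sextets ∧ (meetTetrads S Y).card = 1}.ncard =
      21 := by
    have himg : {S : Finset (Finset GolayPt) | S ∈ sextets ∧ (meetTetrads S Y).card = 1} =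
        (fun a => sextetOf (insert a Y)) '' ↑(Yᶜ) := by
      ext S
      simp only [Set.mem_setOf_eq, Set.mem_image, Finset.mem_coe, Finset.mem_compl]
      constructor
      · rintro ⟨hS, h1⟩
        obtain ⟨t, ht⟩ := Finset.card_eq_one.1 h1
        obtain ⟨htS, hYt⟩ := subset_of_meetTetrads_eq hS ht
        have ht4 := tetrad_card hS htS
        have hsd : (t \ Y).card = 1 := by
          rw [Finset.card_sdiff_of_subset hYt, ht4, hY]
        obtain ⟨a, ha⟩ := Finset.card_eq_one.1 hsd
        have ha' : a ∈ t \ Y := by rw [ha]; exact Finset.mem_singleton_self a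
        refine ⟨a, (Finset.mem_sdiff.1 ha').2, ?_⟩
        have : insert a Y = t := by
          rw [Finset.insert_eq, ← ha, Finset.sdiff_union_of_subset hYt]
        rw [this, ← eq_sextetOf hS htS]
      · rintro ⟨a, ha, rfl⟩
        have h4 : (insert a Y).card = 4 := by rw [Finset.card_insert_of_notMem ha, hY]
        refine ⟨sextetOf_mem h4, ?_⟩
        rw [meetTetrads_of_subset (sextetOf_mem h4) hYne (self_mem_sextetOf _)
          (Finset.subset_insert a Y), Finset.card_singleton]
    rw [himg, Set.ncard_image_of_injOn, Set.ncard_coe_finset, Finset.card_compl, hY,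
      card_golayPt]
    intro a ha b hb hab
    simp only [Finset.mem_coe, Finset.mem_compl] at ha hb
    have ha4 : (insert a Y).card = 4 := by rw [Finset.card_insert_of_notMem ha, hY]
    have hb4 : (insert b Y).card = 4 := by rw [Finset.card_insert_of_notMem hb, hY]
    have hmem : insert a Y ∈ sextetOf (insert b Y) := (sextetOf_eq_iff ha4 hb4).1 hab
    obtain ⟨y, hy⟩ := hYne
    have heq : insert a Y = insert b Y :=
      sextet_tetrad_unique (sextetOf_mem hb4) hmem (self_mem_sextetOf _)
        (Finset.mem_insert_of_mem hy) (Finset.mem_insert_of_mem hy)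
    have : a ∈ insert b Y := by rw [← heq]; exact Finset.mem_insert_self a Y
    rcases Finset.mem_insert.1 this with h | h
    · exact h
    · exact absurd h ha
  -- the class of sextets having a tetrad with two points of `Y`
  have hN2 : {S : Finset (Finset GolayPt) | S ∈ sextets ∧ (meetTetrads S Y).card = 2}.ncard =
      630 := by
    set I : Finset (Finset GolayPt × Finset GolayPt) :=
      (Y.powersetCard 2) ×ˢ (Yᶜ.powersetCard 2) with hI
    have hIcard : I.card = 630 := by
      rw [hI, Finset.card_product, Finset.card_powersetCard, Finset.card_powersetCard,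
        Finset.card_compl, hY, card_golayPt]
      decide
    have hImem : ∀ x : Finset GolayPt × Finset GolayPt, x ∈ I ↔
        (x.1 ⊆ Y ∧ x.1.card = 2) ∧ (x.2 ⊆ Yᶜ ∧ x.2.card = 2) := by
      intro x
      rw [hI, Finset.mem_product, Finset.mem_powersetCard, Finset.mem_powersetCard]
    have hdata : ∀ x ∈ I, (x.1 ∪ x.2).card = 4 ∧ (x.1 ∪ x.2) ∩ Y = x.1 ∧ (x.1 ∪ x.2) \ Y = x.2 := by
      intro x hx
      obtain ⟨⟨h1, h1c⟩, ⟨h2, h2c⟩⟩ := (hImem x).1 hx
      have hdis : Disjoint x.1 x.2 :=
        Finset.disjoint_of_subset_left h1 (Finset.disjoint_of_subset_right h2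
          disjoint_compl_right)
      have h2Y : Disjoint x.2 Y := Finset.disjoint_of_subset_left h2 disjoint_compl_left
      refine ⟨by rw [Finset.card_union_of_disjoint hdis, h1c, h2c], ?_, ?_⟩
      · rw [Finset.union_inter_distrib_right, Finset.inter_eq_left.2 h1,
          Finset.disjoint_iff_inter_eq_empty.1 h2Y, Finset.union_empty]
      · rw [Finset.union_sdiff_distrib, Finset.sdiff_eq_empty_iff_subset.2 h1,
          Finset.sdiff_eq_self_of_disjoint h2Y, Finset.empty_union]
    have himg : {S : Finset (Finset GolayPt) | S ∈ sextets ∧ (meetTetrads S Y).card = 2} =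
        (fun x : Finset GolayPt × Finset GolayPt => sextetOf (x.1 ∪ x.2)) '' ↑I := by
      ext S
      simp only [Set.mem_setOf_eq, Set.mem_image, Finset.mem_coe]
      constructor
      · rintro ⟨hS, h2⟩
        obtain ⟨t, ht, htY⟩ := exists_two_of_card_meet hY hS h2
        have ht4 := tetrad_card hS ht
        refine ⟨(t ∩ Y, t \ Y), ?_, ?_⟩
        · rw [hImem]
          refine ⟨⟨Finset.inter_subset_right, htY⟩, ⟨?_, ?_⟩⟩
          · intro x hx
            rw [Finset.mem_compl]
            exact (Finset.mem_sdiff.1 hx).2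
          · have := Finset.card_sdiff_add_card_inter t Y
            show (t \ Y).card = 2
            omega
        · show sextetOf (t ∩ Y ∪ t \ Y) = S
          rw [Finset.union_comm, Finset.sdiff_union_inter, ← eq_sextetOf hS ht]
      · rintro ⟨x, hx, rfl⟩
        obtain ⟨h4, hint, -⟩ := hdata x hx
        refine ⟨sextetOf_mem h4, ?_⟩
        apply card_meet_of_two hY (sextetOf_mem h4) (self_mem_sextetOf _)
        rw [hint]
        exact ((hImem x).1 hx).1.2
    rw [himg, Set.ncard_image_of_injOn, Set.ncard_coe_finset, hIcard]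
    intro x hx x' hx' hxx'
    simp only [Finset.mem_coe] at hx hx'
    obtain ⟨h4, hint, hsd⟩ := hdata x hx
    obtain ⟨h4', hint', hsd'⟩ := hdata x' hx'
    have hmem : x.1 ∪ x.2 ∈ sextetOf (x'.1 ∪ x'.2) := (sextetOf_eq_iff h4 h4').1 hxx'
    have heq : x.1 ∪ x.2 = x'.1 ∪ x'.2 := by
      by_contra hne
      have hdis := sextet_disjoint (sextetOf_mem h4') hmem (self_mem_sextetOf _) hne
      have hdis' : Disjoint x.1 x'.1 := by
        rw [← hint, ← hint']
        exact Finset.disjoint_of_subset_left Finset.inter_subset_left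
          (Finset.disjoint_of_subset_right Finset.inter_subset_left hdis)
      have hsub : x.1 ∪ x'.1 ⊆ Y :=
        Finset.union_subset ((hImem x).1 hx).1.1 ((hImem x').1 hx').1.1
      have := Finset.card_le_card hsub
      rw [Finset.card_union_of_disjoint hdis', ((hImem x).1 hx).1.2, ((hImem x').1 hx').1.2,
        hY] at this
      omega
    apply Prod.ext
    · rw [← hint, ← hint', heq]
    · rw [← hsd, ← hsd', heq]
  -- all sextets
  have hN3 : {S : Finset (Finset GolayPt) | S ∈ sextets ∧ (meetTetrads S Y).card = 3}.ncard =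
      1120 := by
    have hfin : Set.Finite sextets := Set.toFinite _
    have hsplit : sextets = {S | S ∈ sextets ∧ (meetTetrads S Y).card = 1} ∪
        ({S | S ∈ sextets ∧ (meetTetrads S Y).card = 2} ∪
          {S | S ∈ sextets ∧ (meetTetrads S Y).card = 3}) := by
      ext S
      simp only [Set.mem_union, Set.mem_setOf_eq]
      constructor
      · intro hS
        have h1 := card_meetTetrads_pos hS hYne
        have h2 := card_meetTetrads_le hS Y
        rw [hY] at h2
        have : (meetTetrads S Y).card = 1 ∨ (meetTetrads S Y).card = 2 ∨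
            (meetTetrads S Y).card = 3 := by omega
        rcases this with h | h | h
        · exact Or.inl ⟨hS, h⟩
        · exact Or.inr (Or.inl ⟨hS, h⟩)
        · exact Or.inr (Or.inr ⟨hS, h⟩)
      · rintro (h | h | h) <;> exact h.1
    have hd23 : Disjoint {S : Finset (Finset GolayPt) | S ∈ sextets ∧ (meetTetrads S Y).card = 2}
        {S | S ∈ sextets ∧ (meetTetrads S Y).card = 3} := by
      rw [Set.disjoint_left]
      rintro S ⟨-, h⟩ ⟨-, h'⟩
      omega
    have hd1 : Disjoint {S : Finset (Finset GolayPt) | S ∈ sextets ∧ (meetTetrads S Y).card = 1}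
        ({S | S ∈ sextets ∧ (meetTetrads S Y).card = 2} ∪
          {S | S ∈ sextets ∧ (meetTetrads S Y).card = 3}) := by
      rw [Set.disjoint_left]
      rintro S ⟨-, h⟩ (⟨-, h'⟩ | ⟨-, h'⟩) <;> omega
    have hcard := congrArg Set.ncard hsplit
    rw [ncard_sextets, Set.ncard_union_eq hd1 (Set.toFinite _) (Set.toFinite _),
      Set.ncard_union_eq hd23 (Set.toFinite _) (Set.toFinite _), hN1, hN2] at hcard
    omega
  refine ⟨hN1, hN2, hN3, ?_⟩
  intro S S' hS hS' hm
  have h1 := card_meetTetrads_pos hS hYne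
  have h2 := card_meetTetrads_le hS Y
  rw [hY] at h2
  have hcases : (meetTetrads S Y).card = 1 ∨ (meetTetrads S Y).card = 2 ∨
      (meetTetrads S Y).card = 3 := by omega
  rcases hcases with h | h | h
  · obtain ⟨t, ht⟩ := Finset.card_eq_one.1 h
    obtain ⟨t', ht'⟩ := Finset.card_eq_one.1 (hm ▸ h)
    obtain ⟨htS, hYt⟩ := subset_of_meetTetrads_eq hS ht
    obtain ⟨htS', hYt'⟩ := subset_of_meetTetrads_eq hS' ht'
    apply trans_of_tetrads hS hS' htS htS'
    have ht4 := tetrad_card hS htS
    have ht4' := tetrad_card hS' htS'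
    apply M24_two_sets Y t Y t'
    · rw [Finset.union_eq_right.2 hYt, ht4]
      norm_num
    · rfl
    · rw [ht4, ht4']
    · rw [Finset.inter_eq_left.2 hYt, Finset.inter_eq_left.2 hYt']
  · obtain ⟨t, htS, htY⟩ := exists_two_of_card_meet hY hS h
    obtain ⟨t', htS', htY'⟩ := exists_two_of_card_meet hY hS' (hm ▸ h)
    apply trans_of_tetrads hS hS' htS htS'
    have ht4 := tetrad_card hS htS
    have ht4' := tetrad_card hS' htS'
    apply M24_two_sets Y t Y t'
    · have := Finset.card_union_add_card_inter Y t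
      rw [Finset.inter_comm] at this
      omega
    · rfl
    · rw [ht4, ht4']
    · rw [Finset.inter_comm, htY, Finset.inter_comm, htY']
  · obtain ⟨t, htS, htY, hns⟩ := one_of_card_meet hY hS h
    obtain ⟨t', htS', htY', hns'⟩ := one_of_card_meet hY hS' (hm ▸ h)
    apply trans_of_tetrads hS hS' htS htS'
    have ht4 := tetrad_card hS htS
    have ht4' := tetrad_card hS' htS'
    apply M24_two_sets_six Y t Y t'
    · have := Finset.card_union_add_card_inter Y t
      rw [Finset.inter_comm] at this
      omega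
    · rfl
    · rw [ht4, ht4']
    · rw [Finset.inter_comm, htY, Finset.inter_comm, htY']
    · exact ⟨fun h => absurd h hns, fun h => absurd h hns'⟩

end Cfsg.Agent.S5616
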