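import Cfsg.Statements.S5618
import Cfsg.Agent.Lib.Helper21.GolayFlag
import Cfsg.Agent.Lib.Helper21.PermRestrict

set_option autoImplicit false
open scoped Pointwise
open Cfsg

namespace Cfsg.Agent.S5618

open Cfsg.Agent.Lib.Helper21

/-- Mask of the base hexad: the positions `0, 1, 2, 3, 4, 12`. -/
def c0 : ℕ := 0x101F

def hWords : ℕ → List ℕ
  | 0 => [1, 16963639, 469223932, 99778366, 67728789, 70189680]
  | 1 => [1, 1868022582, 5199820, 2131614077, 1450245336]
  | 2 => [1, 80572003228, 466301704, 1339502653]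
  | 3 => [1, 85210783503, 92327606128]
  | _ => [1, 2113886012]

def hE : ℕ → ℕ
  | 0 => 0x101f
  | 1 => 0x101e
  | 2 => 0x101c
  | 3 => 0x1018
  | _ => 0x1010

theorem h_ok : ∀ k, k < 5 → levelOkC 32 [dsq, c0] (m12Fs k) k (hWords k)
    [(0, c0, true)] (hE k) = true := by
  decide +kernel

theorem popc_hE : popc 24 (hE 0) = 6 ∧ popc 24 (hE 1) = 5 ∧ popc 24 (hE 2) = 4 ∧
    popc 24 (hE 3) = 3 ∧ popc 24 (hE 4) = 2 := by decide +kernel

theorem h_card (k : ℕ) (hk : k < 5) :
    Nat.card (conSub [dsq, c0] (m12Fs k)) =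
      popc 24 (hE k) * Nat.card (conSub [dsq, c0] (m12Fs (k + 1))) :=
  level_cardC 32 _ _ _ _ _ _ (h_ok k hk)

theorem conSub_five : conSub [dsq, c0] (m12Fs 5) = ⊥ := by
  rw [eq_bot_iff, ← conSub_m12_five]
  intro g hg
  exact ⟨hg.1, fun D hD => hg.2.1 D (by rw [List.mem_singleton] at hD; rw [hD]; simp), hg.2.2⟩

theorem card_base : Nat.card (conSub [dsq, c0] (m12Fs 0)) = 720 := by
  have h0 := h_card 0 (by norm_num)
  have h1 := h_card 1 (by norm_num)
  have h2 := h_card 2 (by norm_num)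
  have h3 := h_card 3 (by norm_num)
  have h4 := h_card 4 (by norm_num)
  rw [popc_hE.1] at h0
  rw [popc_hE.2.1] at h1
  rw [popc_hE.2.2.1] at h2
  rw [popc_hE.2.2.2.1] at h3
  rw [popc_hE.2.2.2.2] at h4
  simp only [Nat.reduceAdd] at h0 h1 h2 h3 h4
  have h5 : Nat.card (conSub [dsq, c0] (m12Fs 5)) = 1 := by
    rw [conSub_five]
    exact Subgroup.card_bot
  rw [h0, h1, h2, h3, h4, h5]

theorem maskFS_c0 : maskFS c0 = oct0 ∩ Spor.squareDodecad := by
  have h : c0 = 0x149F &&& dsq := by decide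
  rw [h, maskFS_and, maskFS_dsq]
  rfl

theorem exists_embedding_of_le {n : ℕ} (s : Finset GolayPt) (h : n ≤ s.card) :
    ∃ x : Fin n ↪ GolayPt, ∀ i, x i ∈ s := by
  obtain ⟨t, hts, htc⟩ := Finset.exists_subset_card_eq h
  let e := t.equivFinOfCardEq htc
  exact ⟨e.symm.toEmbedding.trans (Function.Embedding.subtype _), fun i => hts (e.symm i).2⟩


/-- For a dodecad d of the length-24 code and a hexad C on it (a 6-point intersection of d with an octad): the joint stabiliser of d and C in the code's group is isomorphic to the symmetric group of degree 6, and it acts faithfully both on the six points of C and on the six points of d outside C. -/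
theorem result (d : Finset Cfsg.GolayPt) (hd : d ∈ Cfsg.dodecads) (C : Finset Cfsg.GolayPt) (hC : C ∈ Cfsg.hexadsOn d) : Nonempty (↥(MulAction.stabilizer Cfsg.M24 d ⊓ MulAction.stabilizer Cfsg.M24 C) ≃* Equiv.Perm (Fin 6)) ∧ (∀ g ∈ MulAction.stabilizer Cfsg.M24 d ⊓ MulAction.stabilizer Cfsg.M24 C, (∀ p ∈ C, ((g : ↥Cfsg.M24) : Equiv.Perm Cfsg.GolayPt) p = p) → g = 1) ∧ ∀ g ∈ MulAction.stabilizer Cfsg.M24 d ⊓ MulAction.stabilizer Cfsg.M24 C, (∀ p ∈ d \ C, ((g : ↥Cfsg.M24) : Equiv.Perm Cfsg.GolayPt) p = p) → g = 1 := by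
  classical
  obtain ⟨hC6, o, ho, hoC⟩ := hC
  have hCd : C ⊆ d := by
    rw [← hoC]
    exact Finset.inter_subset_right
  -- move the base configuration to the given one
  obtain ⟨k, hk, hkd, hkC⟩ : ∃ k ∈ M24, k • maskFS dsq = d ∧ k • maskFS c0 = C := by
    obtain ⟨k₁, hk₁, hk₁d⟩ := exists_map_squareDodecad d hd
    have hC'card : (k₁⁻¹ • C).card = 6 := by rw [Finset.card_smul_finset, hC6]
    obtain ⟨x, hx⟩ := exists_embedding_of_le (n := 5) (k₁⁻¹ • C) (by omega)
    have hC'sub : k₁⁻¹ • C ⊆ Spor.squareDodecad := by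
      intro y hy
      have h1 : k₁ y ∈ C := by
        rw [← smul_finset_mem_iff] at hy
        rwa [inv_inv] at hy
      have h2 := hCd h1
      rwa [← hk₁d, apply_mem_smul_iff] at h2
    obtain ⟨g, hg, hgx⟩ := M12_map_embedding (n := 5) le_rfl x (fun i => hC'sub (hx i))
    rw [mem_M12_iff] at hg
    refine ⟨k₁ * g, M24.mul_mem hk₁ hg.1, ?_, ?_⟩
    · rw [maskFS_dsq, mul_smul, hg.2, hk₁d]
    · rw [mul_smul, maskFS_c0, Finset.smul_finset_inter, hg.2]
      have ho' : k₁⁻¹ • o ∈ octads := smul_mem_octads (M24.inv_mem hk₁) ho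
      have hgo : g • oct0 ∈ octads := smul_mem_octads hg.1 oct0_mem
      have heq : g • oct0 = k₁⁻¹ • o := by
        apply octad_unique _ _ hgo ho'
        have hsub : Finset.univ.map x ⊆ g • oct0 ∩ k₁⁻¹ • o := by
          intro y hy
          obtain ⟨i, -, rfl⟩ := Finset.mem_map.1 hy
          rw [Finset.mem_inter]
          constructor
          · rw [← hgx i, apply_mem_smul_iff]
            exact ptN_mem_oct0 i i.2
          · have := hx i
            rw [← hoC, Finset.smul_finset_inter] at this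
            exact (Finset.mem_inter.1 this).1
        have := Finset.card_le_card hsub
        rw [Finset.card_map, Finset.card_univ, Fintype.card_fin] at this
        exact this
      rw [heq, Finset.smul_finset_inter, smul_inv_smul, hk₁d, hoC]
  have hK : ∀ x : ↥M24, x ∈ (MulAction.stabilizer Cfsg.M24 d ⊓ MulAction.stabilizer Cfsg.M24 C) ↔
      (∀ D ∈ [dsq, c0], (x : Equiv.Perm GolayPt) • (k • maskFS D) = k • maskFS D) ∧
        ∀ i ∈ ([] : List ℕ), (x : Equiv.Perm GolayPt) (k (ptN i)) = k (ptN i) := by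
    intro x
    simp only [Subgroup.mem_inf, MulAction.mem_stabilizer_iff, List.mem_cons, List.not_mem_nil,
      or_false, forall_eq_or_imp, forall_eq, hkd, hkC, false_imp_iff, implies_true, and_true]
    rfl
  let φ := conSubMulEquiv hk _ hK
  -- faithfulness statements
  have hfaith : ∀ (E : Finset GolayPt), E ⊆ d → 5 ≤ E.card →
      ∀ g ∈ MulAction.stabilizer Cfsg.M24 d ⊓ MulAction.stabilizer Cfsg.M24 C,
        (∀ p ∈ E, ((g : ↥Cfsg.M24) : Equiv.Perm Cfsg.GolayPt) p = p) → g = 1 := by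
    intro E hEd hE5 g hg hfix
    obtain ⟨x, hx⟩ := exists_embedding_of_le (n := 5) E hE5
    have hgd : ((g : ↥M24) : Equiv.Perm GolayPt) • d = d :=
      MulAction.mem_stabilizer_iff.1 (Subgroup.mem_inf.1 hg).1
    have := dodecad_stab_unique d hd x (fun i => hEd (hx i)) (g : Equiv.Perm GolayPt) g.2 hgd
      (fun i => hfix _ (hx i))
    exact Subtype.ext this
  refine ⟨?_, ?_, ?_⟩
  · have hiso : Nonempty (↥(conSub [dsq, c0] (m12Fs 0)) ≃* Equiv.Perm (Fin 6)) := by
      apply nonempty_mulEquiv_perm_of_card (conSub [dsq, c0] (m12Fs 0)) (maskFS c0) 6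
      · rw [card_maskFS _ (by decide)]
        decide +kernel
      · intro g hg
        exact hg.2.1 c0 (by simp)
      · intro g hg hfix
        have : g ∈ conSub [dsq, c0] (m12Fs 5) :=
          conSub_fixes_of_forall (E := c0) hg (by decide) hfix
        rw [conSub_five, Subgroup.mem_bot] at this
        exact this
      · rw [card_base]
        rfl
    obtain ⟨ψ⟩ := hiso
    exact ⟨φ.trans ψ⟩
  · exact hfaith C hCd (by omega)
  · apply hfaith (d \ C) Finset.sdiff_subset
    rw [Finset.card_sdiff_of_subset hCd, hd.2, hC6]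
    norm_num

end Cfsg.Agent.S5618
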