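import Cfsg.Statements.S5620
import Cfsg.Agent.Lib.Helper21.GolayFlag
import Cfsg.Agent.Lib.Helper21.GolayDodPair

set_option autoImplicit false
open scoped Pointwise
open Cfsg

namespace Cfsg.Agent.S5620

open Cfsg.Agent.Lib.Helper21

/-- Inside the stabiliser of the dodecad of squares (a Mathieu group of degree 12), the stabiliser of the residue 0 (a point of the dodecad) and the stabiliser of the extra point (a point outside the dodecad) are isomorphic but not conjugate; conjugation by a suitable element of the code's group that maps the dodecad of squares onto its complement carries the first onto the second. -/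
theorem result : Nonempty (↥(Cfsg.Spor.M12 ⊓ MulAction.stabilizer (Equiv.Perm Cfsg.GolayPt) (none : Cfsg.GolayPt)) ≃* ↥Cfsg.Spor.M11) ∧ (¬ ∃ k ∈ Cfsg.Spor.M12, MulAut.conj k • Cfsg.Spor.M11 = Cfsg.Spor.M12 ⊓ MulAction.stabilizer (Equiv.Perm Cfsg.GolayPt) (none : Cfsg.GolayPt)) ∧ ∃ g ∈ Cfsg.M24, g • Cfsg.Spor.squareDodecad = Finset.univ \ Cfsg.Spor.squareDodecad ∧ MulAut.conj g • Cfsg.Spor.M11 = Cfsg.Spor.M12 ⊓ MulAction.stabilizer (Equiv.Perm Cfsg.GolayPt) (none : Cfsg.GolayPt) := by
  classical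
  have hsq := squareDodecad_mem
  have hsqc : Spor.squareDodecadᶜ ∈ dodecads := dodecad_compl hsq
  have hnone : (none : GolayPt) ∈ Spor.squareDodecadᶜ := by
    rw [Finset.mem_compl, ← maskFS_dsq, mem_maskFS]
    decide
  have hp0 : ptN 0 = (some 0 : GolayPt) := by decide
  -- membership in the conjugate of `M11`
  have hconj : ∀ g ∈ M24, g • Spor.squareDodecad = Spor.squareDodecadᶜ → g (some 0) = none →
      MulAut.conj g • Spor.M11 =
        Spor.M12 ⊓ MulAction.stabilizer (Equiv.Perm GolayPt) (none : GolayPt) := by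
    intro g hg hgd hg0
    ext x
    have hx : (MulAut.conj g)⁻¹ • x = g⁻¹ * x * g := by
      rw [MulAut.smul_def, MulAut.conj_inv_apply]
    have hst : x ∈ MulAction.stabilizer (Equiv.Perm GolayPt) (none : GolayPt) ↔ x none = none :=
      MulAction.mem_stabilizer_iff
    rw [Subgroup.mem_pointwise_smul_iff_inv_smul_mem, Subgroup.mem_inf, mem_M12_iff,
      hst, mem_M11_iff, hp0, hx]
    constructor
    · rintro ⟨h1, h2, h3⟩
      have hxm : x ∈ M24 := by
        have := M24.mul_mem (M24.mul_mem hg h1) (M24.inv_mem hg)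
        have e : g * (g⁻¹ * x * g) * g⁻¹ = x := by group
        rwa [e] at this
      refine ⟨⟨hxm, ?_⟩, ?_⟩
      · have h4 : x • Spor.squareDodecadᶜ = Spor.squareDodecadᶜ := by
          rw [← hgd]
          rw [mul_smul, mul_smul, inv_smul_eq_iff] at h2
          exact h2
        rw [smul_finset_compl', compl_inj_iff] at h4
        exact h4
      · rw [← hg0]
        rw [Equiv.Perm.mul_apply, Equiv.Perm.mul_apply, Equiv.Perm.inv_eq_iff_eq] at h3
        exact h3
    · rintro ⟨⟨h1, h2⟩, h3⟩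
      refine ⟨M24.mul_mem (M24.mul_mem (M24.inv_mem hg) h1) hg, ?_, ?_⟩
      · rw [mul_smul, mul_smul, inv_smul_eq_iff, hgd, smul_finset_compl', h2]
      · rw [Equiv.Perm.mul_apply, Equiv.Perm.mul_apply, Equiv.Perm.inv_eq_iff_eq, hg0]
        exact h3
  -- an element swapping the dodecad with its complement and mapping `0` to the extra point
  obtain ⟨g₁, hg₁⟩ := dodecads_transitive Spor.squareDodecad Spor.squareDodecadᶜ hsq hsqc
  have hg₁' : (g₁ : Equiv.Perm GolayPt) • Spor.squareDodecad = Spor.squareDodecadᶜ := hg₁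
  have h0 : (g₁ : Equiv.Perm GolayPt) (some 0) ∈ Spor.squareDodecadᶜ := by
    rw [← hg₁', apply_mem_smul_iff, ← hp0]
    exact ptN_zero_mem
  obtain ⟨h, hh, hhd, hhp⟩ := dodecad_stab_trans_pt Spor.squareDodecadᶜ hsqc
    ((g₁ : Equiv.Perm GolayPt) (some 0)) none h0 hnone
  have hg : h * g₁ ∈ M24 := M24.mul_mem hh g₁.2
  have hgd : (h * (g₁ : Equiv.Perm GolayPt)) • Spor.squareDodecad = Spor.squareDodecadᶜ := by
    rw [mul_smul, hg₁', hhd]
  have hg0 : (h * (g₁ : Equiv.Perm GolayPt)) (some 0) = none := hhp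
  have hc := hconj _ hg hgd hg0
  refine ⟨?_, ?_, ?_⟩
  · exact ⟨((Subgroup.equivSMul (MulAut.conj (h * (g₁ : Equiv.Perm GolayPt))) Spor.M11).trans
      (MulEquiv.subgroupCongr hc)).symm⟩
  · rintro ⟨k, hk, hkc⟩
    rw [mem_M12_iff] at hk
    have hk0 : k (some 0) ∈ Spor.squareDodecad := by
      rw [← hk.2, apply_mem_smul_iff, ← hp0]
      exact ptN_zero_mem
    -- another point of the dodecad
    obtain ⟨b, hb, hbne⟩ : ∃ b ∈ Spor.squareDodecad, b ≠ k (some 0) := by
      have hc12 : 1 < Spor.squareDodecad.card := by rw [hsq.2]; norm_num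
      obtain ⟨b, hb, hbne⟩ := Finset.exists_mem_ne hc12 (k (some 0))
      exact ⟨b, hb, hbne⟩
    obtain ⟨x, hx, hxd, hxp, hxy⟩ := dodecad_pt_stab_trans (n := 1) (by norm_num)
      Spor.squareDodecadᶜ hsqc none hnone
      ⟨fun _ => k (some 0), fun _ _ _ => Subsingleton.elim _ _⟩
      ⟨fun _ => b, fun _ _ _ => Subsingleton.elim _ _⟩
      (fun _ => by rw [Finset.mem_compl, not_not]; exact hk0)
      (fun _ => by rw [Finset.mem_compl, not_not]; exact hb)
    have hxmem : x ∈ Spor.M12 ⊓ MulAction.stabilizer (Equiv.Perm GolayPt) (none : GolayPt) := by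
      rw [Subgroup.mem_inf, mem_M12_iff]
      refine ⟨⟨hx, ?_⟩, MulAction.mem_stabilizer_iff.2 hxp⟩
      rw [smul_finset_compl', compl_inj_iff] at hxd
      exact hxd
    rw [← hkc, Subgroup.mem_pointwise_smul_iff_inv_smul_mem, mem_M11_iff, hp0] at hxmem
    have hx' : (MulAut.conj k)⁻¹ • x = k⁻¹ * x * k := by
      rw [MulAut.smul_def, MulAut.conj_inv_apply]
    rw [hx'] at hxmem
    have h3 := hxmem.2.2
    rw [Equiv.Perm.mul_apply, Equiv.Perm.mul_apply, Equiv.Perm.inv_eq_iff_eq] at h3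
    have h4 : x (k (some 0)) = b := hxy 0
    exact hbne (h4 ▸ h3)
  · refine ⟨h * g₁, hg, ?_, hc⟩
    rw [hgd, Finset.compl_eq_univ_sdiff]

end Cfsg.Agent.S5620
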