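import Cfsg.Statements.S5624
import Cfsg.Agent.Lib.Helper9.AbstractGolaySteiner

set_option autoImplicit false
open Cfsg

namespace Cfsg.Agent.S5624

/-- Let C be a self-dual binary code of length 24 with minimum weight at least 8 (a 12-dimensional subspace of the 24-dimensional space over the field with two elements, any two of whose words have dot product zero, with no non-zero word of weight below 8 — an abstract extended binary Golay code). Then C is spanned, as a vector space over the field with two elements, by its words of weight 8. -/
theorem result (C : Submodule (ZMod 2) (Fin 24 → ZMod 2)) (hdim : Module.finrank (ZMod 2) C = 12) (horth : ∀ v ∈ C, ∀ w ∈ C, ∑ i, v i * w i = 0) (hmin : ∀ w ∈ C, w ≠ 0 → 8 ≤ hammingNorm w) : Submodule.span (ZMod 2) {w : Fin 24 → ZMod 2 | w ∈ C ∧ hammingNorm w = 8} = C := by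
  open Cfsg.Agent.Lib.Helper9 in
  have h := IsAbstractGolay.mk hdim horth hmin
  apply le_antisymm
  · rw [Submodule.span_le]
    intro w hw
    exact hw.1
  · -- strong induction on the weight
    have key : ∀ n : ℕ, ∀ w ∈ C, hammingNorm w = n →
        w ∈ Submodule.span (ZMod 2) {w : Fin 24 → ZMod 2 | w ∈ C ∧ hammingNorm w = 8} := by
      intro n
      induction n using Nat.strong_induction_on with
      | _ n ih =>
        intro w hw hn
        by_cases hw0 : w = 0
        · rw [hw0]; exact Submodule.zero_mem _
        · have h8 := hmin w hw hw0
          have hcard : 5 ≤ (Cfsg.support₂ w).card := by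
            rw [← Cfsg.Agent.Lib.Helper9.hammingNorm_eq_card_support₂]; omega
          obtain ⟨s, hsw, hs5⟩ := Finset.exists_subset_card_eq hcard
          obtain ⟨o, ho, ho8, hso⟩ := h.exists_octad_word hs5
          have hadd := Cfsg.Agent.Lib.Helper9.hammingNorm_add w o
          have hint : 5 ≤ (Cfsg.support₂ w ∩ Cfsg.support₂ o).card := by
            rw [← hs5]
            exact Finset.card_le_card (Finset.subset_inter hsw hso)
          have hlt : hammingNorm (w + o) < n := by omega
          have h1 := ih _ hlt (w + o) (C.add_mem hw ho) rfl
          have h2 : o ∈ Submodule.span (ZMod 2)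
              {w : Fin 24 → ZMod 2 | w ∈ C ∧ hammingNorm w = 8} :=
            Submodule.subset_span ⟨ho, ho8⟩
          have h3 := Submodule.add_mem _ h1 h2
          rw [add_assoc, Cfsg.Agent.Lib.Helper9.add_self₂, add_zero] at h3
          exact h3
    intro w hw
    exact key _ w hw rfl

end Cfsg.Agent.S5624
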