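import Cfsg.Statements.S5625
import Cfsg.Agent.Lib.Helper9.SteinerMeet

set_option autoImplicit false
open Cfsg

namespace Cfsg.Agent.S5625

/-- In any Steiner system S(5, 8, 24) and for any set Y of three points, the blocks meeting Y in exactly 3, 2, 1 and 0 points number 21, 168, 360 and 210 respectively (so there are 759 blocks in all). -/
theorem result (α : Type*) [Fintype α] [DecidableEq α] (hα : Fintype.card α = 24) (B : Set (Finset α)) (hB : Cfsg.IsSteinerSystem 5 8 B) (Y : Finset α) (hY : Y.card = 3) : {b : Finset α | b ∈ B ∧ (b ∩ Y).card = 3}.ncard = 21 ∧ {b : Finset α | b ∈ B ∧ (b ∩ Y).card = 2}.ncard = 168 ∧ {b : Finset α | b ∈ B ∧ (b ∩ Y).card = 1}.ncard = 360 ∧ {b : Finset α | b ∈ B ∧ (b ∩ Y).card = 0}.ncard = 210 := by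
  classical
  open Cfsg.Agent.Lib.Helper21 Cfsg.Agent.Lib.Helper9 Finset in
  have key : ∀ i lam : ℕ,
      (∀ S : Finset α, S.card = i → ((blocksFinset B).filter (S ⊆ ·)).card = lam) →
      ∑ j ∈ range (Y.card + 1),
          j.choose i * ((blocksFinset B).filter (fun b => (b ∩ Y).card = j)).card
        = (Y.card).choose i * lam := by
    intro i lam hlam
    rw [← sum_fiberwise_inter_card (blocksFinset B) Y (fun j => j.choose i),
      sum_choose_inter_card]
    rw [sum_congr rfl (fun S hS => hlam S (mem_powersetCard.mp hS).2), sum_const,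
      card_powersetCard, smul_eq_mul]
  open Cfsg.Agent.Lib.Helper21 Cfsg.Agent.Lib.Helper9 Finset in
  have e0 := key 0 759 (fun S h => (lam_5_8_24 hα hB S).1 h)
  open Cfsg.Agent.Lib.Helper21 Cfsg.Agent.Lib.Helper9 Finset in
  have e1 := key 1 253 (fun S h => (lam_5_8_24 hα hB S).2.1 h)
  open Cfsg.Agent.Lib.Helper21 Cfsg.Agent.Lib.Helper9 Finset in
  have e2 := key 2 77 (fun S h => (lam_5_8_24 hα hB S).2.2.1 h)
  open Cfsg.Agent.Lib.Helper21 Cfsg.Agent.Lib.Helper9 Finset in
  have e3 := key 3 21 (fun S h => (lam_5_8_24 hα hB S).2.2.2.1 h)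
  rw [Cfsg.Agent.Lib.Helper21.ncard_blocks_filter, Cfsg.Agent.Lib.Helper21.ncard_blocks_filter,
    Cfsg.Agent.Lib.Helper21.ncard_blocks_filter, Cfsg.Agent.Lib.Helper21.ncard_blocks_filter]
  rw [hY] at e0 e1 e2 e3
  simp only [Finset.sum_range_succ, Finset.sum_range_zero, Nat.choose] at e0 e1 e2 e3
  omega

end Cfsg.Agent.S5625
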