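import Cfsg.Statements.S5632
import Mathlib
import Cfsg.Agent.S5631

set_option autoImplicit false
open Cfsg

namespace Cfsg.Agent.S5632

open Matrix Cfsg.Agent.S0772 Cfsg.Agent.Lib.Helper27.GLStab

theorem result {F : Type*} [Field F] [Fintype F] (n : ℕ) (W U : Submodule F (Fin n → F)) (hW0 : W ≠ ⊥) (hWU : W < U) (hdim : Module.finrank F W + Module.finrank F U = n) : ∃ K : Subgroup (Matrix.GeneralLinearGroup (Fin n) F), Cfsg.Geo.subspaceStabilizer W ⊓ Cfsg.Geo.subspaceStabilizer U ⊓ Cfsg.Geo.specialLinear (Fin n) F < K ∧ K < Cfsg.Geo.specialLinear (Fin n) F := by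
  have h1 : 1 ≤ Module.finrank F W := Submodule.one_le_finrank_iff.mpr hW0
  have h2 : Module.finrank F W < Module.finrank F U := Submodule.finrank_lt_finrank_of_lt hWU
  have hn : 2 ≤ n := by omega
  have hW1 : W ≠ ⊤ := by
    rintro rfl
    exact absurd hWU (not_lt_of_ge le_top)
  have hU1 : U ≠ ⊤ := by
    rintro rfl
    rw [finrank_top, Module.finrank_fin_fun] at hdim
    omega
  refine ⟨Cfsg.Geo.subspaceStabilizer W ⊓ Cfsg.Geo.specialLinear (Fin n) F, ?_,
    (Cfsg.Agent.S5631.core hn W hW0 hW1).1⟩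
  obtain ⟨v, hv⟩ : ∃ v, v ∉ U := by
    by_contra h
    apply hU1
    rw [eq_top_iff]
    intro v _
    by_contra hv
    exact h ⟨v, hv⟩
  obtain ⟨u, huU, huW⟩ := SetLike.exists_of_lt hWU
  have hu : u ∉ W ⊔ Submodule.span F {v} := by
    intro hmem
    obtain ⟨w, hw, z, hz, hwz⟩ := Submodule.mem_sup.mp hmem
    obtain ⟨c, rfl⟩ := Submodule.mem_span_singleton.mp hz
    by_cases hc : c = 0
    · rw [hc, zero_smul, add_zero] at hwz
      rw [← hwz] at huW
      exact huW hw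
    · apply hv
      have : v = c⁻¹ • (u - w) := by
        rw [← hwz, add_sub_cancel_left, smul_smul, inv_mul_cancel₀ hc, one_smul]
      rw [this]
      exact U.smul_mem _ (U.sub_mem huU (hWU.le hw))
  obtain ⟨φ, hφ0, hφu⟩ := exists_functional _ u hu
  have hφW : ∀ w ∈ W, φ ⬝ᵥ w = 0 := fun w hw => hφ0 w (Submodule.mem_sup_left hw)
  have hφv : φ ⬝ᵥ v = 0 :=
    hφ0 v (Submodule.mem_sup_right (Submodule.mem_span_singleton_self v))
  have hd : 1 + φ ⬝ᵥ v ≠ 0 := by rw [hφv, add_zero]; exact one_ne_zero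
  have hgW : TmGL v φ hd ∈ Cfsg.Geo.subspaceStabilizer W :=
    TmGL_mem_stab_of_vanish W v φ hd hφW
  have hgS : TmGL v φ hd ∈ Cfsg.Geo.specialLinear (Fin n) F := by
    rw [mem_specialLinear_iff, det_TmGL, hφv, add_zero]
  have hgU : TmGL v φ hd ∉ Cfsg.Geo.subspaceStabilizer U := by
    intro hmem
    have h1 := stab_maps hmem huU
    rw [TmGL_mulVec] at h1
    have h2 : (φ ⬝ᵥ u) • v ∈ U := by
      have := U.sub_mem h1 huU
      rwa [add_sub_cancel_left] at this
    apply hv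
    have := U.smul_mem (φ ⬝ᵥ u)⁻¹ h2
    rwa [smul_smul, inv_mul_cancel₀ hφu, one_smul] at this
  refine lt_of_le_of_ne (fun g hg => ⟨hg.1.1, hg.2⟩) ?_
  intro heq
  have : TmGL v φ hd ∈ Cfsg.Geo.subspaceStabilizer W ⊓ Cfsg.Geo.subspaceStabilizer U ⊓
      Cfsg.Geo.specialLinear (Fin n) F := by
    rw [heq]
    exact ⟨hgW, hgS⟩
  exact hgU this.1.2

end Cfsg.Agent.S5632
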