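import Cfsg.Statements.S5633
import Mathlib
import Cfsg.Agent.S5631

set_option autoImplicit false
open Cfsg

namespace Cfsg.Agent.S5633

open Matrix Cfsg.Agent.S0772 Cfsg.Agent.Lib.Helper27.GLStab

theorem result {F : Type*} [Field F] [Fintype F] (n : ℕ) (W U : Submodule F (Fin n → F)) (hW0 : W ≠ ⊥) (hWU : W ⊓ U = ⊥) (hWU' : W ⊔ U = ⊤) (hdim : Module.finrank F W < Module.finrank F U) : ∃ K : Subgroup (Matrix.GeneralLinearGroup (Fin n) F), Cfsg.Geo.subspaceStabilizer W ⊓ Cfsg.Geo.subspaceStabilizer U ⊓ Cfsg.Geo.specialLinear (Fin n) F < K ∧ K < Cfsg.Geo.specialLinear (Fin n) F := by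
  have h1 : 1 ≤ Module.finrank F W := Submodule.one_le_finrank_iff.mpr hW0
  have h2 : Module.finrank F U ≤ n := by
    have := Submodule.finrank_le U
    rwa [Module.finrank_fin_fun] at this
  have hn : 2 ≤ n := by omega
  have hW1 : W ≠ ⊤ := by
    rintro rfl
    rw [finrank_top, Module.finrank_fin_fun] at hdim
    omega
  have hU0 : U ≠ ⊥ := by
    rintro rfl
    rw [finrank_bot] at hdim
    omega
  refine ⟨Cfsg.Geo.subspaceStabilizer W ⊓ Cfsg.Geo.specialLinear (Fin n) F, ?_,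
    (Cfsg.Agent.S5631.core hn W hW0 hW1).1⟩
  obtain ⟨v, hvW, hv0⟩ := Submodule.exists_mem_ne_zero_of_ne_bot hW0
  obtain ⟨u, huU, hu0⟩ := Submodule.exists_mem_ne_zero_of_ne_bot hU0
  have hvU : v ∉ U := by
    intro hmem
    apply hv0
    have : v ∈ W ⊓ U := ⟨hvW, hmem⟩
    rw [hWU] at this
    exact (Submodule.mem_bot F).mp this
  have hu : u ∉ Submodule.span F {v} := by
    intro hmem
    obtain ⟨c, rfl⟩ := Submodule.mem_span_singleton.mp hmem
    apply hu0
    have : c • v ∈ W ⊓ U := ⟨W.smul_mem _ hvW, huU⟩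
    rw [hWU] at this
    exact (Submodule.mem_bot F).mp this
  obtain ⟨φ, hφ0, hφu⟩ := exists_functional _ u hu
  have hφv : φ ⬝ᵥ v = 0 := hφ0 v (Submodule.mem_span_singleton_self v)
  have hd : 1 + φ ⬝ᵥ v ≠ 0 := by rw [hφv, add_zero]; exact one_ne_zero
  have hgW : TmGL v φ hd ∈ Cfsg.Geo.subspaceStabilizer W :=
    TmGL_mem_stab_of_mem W v φ hd hvW
  have hgS : TmGL v φ hd ∈ Cfsg.Geo.specialLinear (Fin n) F := by
    rw [mem_specialLinear_iff, det_TmGL, hφv, add_zero]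
  have hgU : TmGL v φ hd ∉ Cfsg.Geo.subspaceStabilizer U := by
    intro hmem
    have h1 := stab_maps hmem huU
    rw [TmGL_mulVec] at h1
    have h2 : (φ ⬝ᵥ u) • v ∈ U := by
      have := U.sub_mem h1 huU
      rwa [add_sub_cancel_left] at this
    apply hvU
    have := U.smul_mem (φ ⬝ᵥ u)⁻¹ h2
    rwa [smul_smul, inv_mul_cancel₀ hφu, one_smul] at this
  refine lt_of_le_of_ne (fun g hg => ⟨hg.1.1, hg.2⟩) ?_
  intro heq
  have : TmGL v φ hd ∈ Cfsg.Geo.subspaceStabilizer W ⊓ Cfsg.Geo.subspaceStabilizer U ⊓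
      Cfsg.Geo.specialLinear (Fin n) F := by
    rw [heq]
    exact ⟨hgW, hgS⟩
  exact hgU this.1.2

end Cfsg.Agent.S5633
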