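import Cfsg.Statements.S5635
import Mathlib
import Cfsg.Agent.Lib.Helper27.LinDecomp3

set_option autoImplicit false
open Cfsg

namespace Cfsg.Agent.S5635

/-- For a finite field F with q elements and n ≥ 13, let D be a decomposition of F^n into t ≥ 2 independent subspaces of equal dimension m spanning F^n, where m = 1 and q ≤ 4, or m = 2 and q = 2. Then the elements of SL_n(F) permuting the members of D form a subgroup that is not maximal: some subgroup lies strictly between it and SL_n(F). -/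
theorem result {F : Type*} [Field F] [Fintype F] (n : ℕ) (hn : 13 ≤ n) {t : ℕ} (m : ℕ) (D : Fin t → Submodule F (Fin n → F)) (hD : Cfsg.Geo.IsMDecomposition m D) (h : (m = 1 ∧ Fintype.card F ≤ 4) ∨ (m = 2 ∧ Fintype.card F = 2)) : ∃ K : Subgroup (Matrix.GeneralLinearGroup (Fin n) F), Cfsg.Geo.decompositionStabilizer D ⊓ Cfsg.Geo.specialLinear (Fin n) F < K ∧ K < Cfsg.Geo.specialLinear (Fin n) F := by
  have hnt := Cfsg.Agent.Lib.Helper27.LinDecomp.le_mul hD
  obtain ⟨h0, hSL, hK⟩ := Cfsg.Agent.Lib.Helper27.LinDecomp.exists_SL_not_K0 hD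
  have hex : ∃ g : GL (Fin n) F, g ∈ Cfsg.Agent.Lib.Helper27.LinDecomp.K0 hD ∧
      g ∈ Cfsg.Geo.specialLinear (Fin n) F ∧ g ∉ Cfsg.Geo.decompositionStabilizer D := by
    rcases h with ⟨hm, hq⟩ | ⟨hm, hq⟩
    · subst hm
      exact Cfsg.Agent.Lib.Helper27.LinDecomp.exists_lines hD hq (by omega)
    · subst hm
      exact Cfsg.Agent.Lib.Helper27.LinDecomp.exists_planes hD hq (by omega)
  obtain ⟨g, hgK, hgSL, hgD⟩ := hex
  refine ⟨Cfsg.Agent.Lib.Helper27.LinDecomp.K0 hD ⊓ Cfsg.Geo.specialLinear (Fin n) F, ?_, ?_⟩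
  · refine lt_of_le_of_ne
      (inf_le_inf_right _ (Cfsg.Agent.Lib.Helper27.LinDecomp.stab_le_K0 hD)) ?_
    intro heq
    have hmem : g ∈ Cfsg.Agent.Lib.Helper27.LinDecomp.K0 hD ⊓
        Cfsg.Geo.specialLinear (Fin n) F := ⟨hgK, hgSL⟩
    rw [← heq] at hmem
    exact hgD hmem.1
  · refine lt_of_le_of_ne inf_le_right ?_
    intro heq
    have hmem : h0 ∈ Cfsg.Agent.Lib.Helper27.LinDecomp.K0 hD ⊓
        Cfsg.Geo.specialLinear (Fin n) F := by
      rw [heq]
      exact hSL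
    exact hK hmem.1

end Cfsg.Agent.S5635
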