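import Cfsg.Statements.S5638
import Mathlib
import Cfsg.Agent.Lib.Helper27.TensorF2

set_option autoImplicit false
open Cfsg

namespace Cfsg.Agent.S5638

/-- Over the field with 2 elements, for n = 2 n₂ ≥ 13, the stabiliser in SL_n of a tensor decomposition with factors of dimensions 2 and n₂ (the conjugate by any P of the Kronecker-product subgroup transported along any bijection Fin n ≃ Fin 2 × Fin n₂, intersected with SL_n) is not a maximal subgroup: some subgroup lies strictly between it and SL_n. -/
theorem result {F : Type*} [Field F] [Fintype F] (n : ℕ) (hn : 13 ≤ n) (hq : Fintype.card F = 2) (n₂ : ℕ) (e : Fin n ≃ Fin 2 × Fin n₂) (P : Matrix.GeneralLinearGroup (Fin n) F) : ∃ K : Subgroup (Matrix.GeneralLinearGroup (Fin n) F), Cfsg.Geo.tensorProductSubgroup 2 n₂ e P ⊓ Cfsg.Geo.specialLinear (Fin n) F < K ∧ K < Cfsg.Geo.specialLinear (Fin n) F := by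
  classical
  -- the special linear group is everything over the field with two elements
  have hSL : Cfsg.Geo.specialLinear (Fin n) F = ⊤ := by
    haveI := Cfsg.Agent.Lib.Helper27.TensorF2.units_subsingleton hq
    rw [eq_top_iff]
    intro g _
    show g ∈ (Matrix.GeneralLinearGroup.det : GL (Fin n) F →* Fˣ).ker
    rw [MonoidHom.mem_ker]
    exact Subsingleton.elim _ _
  have hcard : n = 2 * n₂ := by
    have h := Fintype.card_congr e
    simpa using h
  obtain ⟨m, rfl⟩ : ∃ m, n₂ = m + 2 := ⟨n₂ - 2, by omega⟩
  obtain ⟨K', hK1, hK2⟩ := Cfsg.Agent.Lib.Helper27.TensorF2.exists_between hq m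
  have hinj1 : Function.Injective (Cfsg.Geo.glReindex (F := F) e.symm).toMonoidHom :=
    (Cfsg.Geo.glReindex (F := F) e.symm).injective
  have hinj2 : Function.Injective (MulAut.conj P).toMonoidHom := (MulAut.conj P).injective
  have hsurj1 : Function.Surjective (Cfsg.Geo.glReindex (F := F) e.symm).toMonoidHom :=
    (Cfsg.Geo.glReindex (F := F) e.symm).surjective
  have hsurj2 : Function.Surjective (MulAut.conj P).toMonoidHom := (MulAut.conj P).surjective
  refine ⟨(K'.map (Cfsg.Geo.glReindex (F := F) e.symm).toMonoidHom).map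
    (MulAut.conj P).toMonoidHom, ?_, ?_⟩
  · rw [hSL, inf_top_eq]
    unfold Cfsg.Geo.tensorProductSubgroup
    rw [Subgroup.map_lt_map_iff_of_injective hinj2, Subgroup.map_lt_map_iff_of_injective hinj1]
    exact hK1
  · rw [hSL]
    have h1 : (⊤ : Subgroup (GL (Fin n) F)) =
        ((⊤ : Subgroup (GL (Fin 2 × Fin (m + 2)) F)).map
          (Cfsg.Geo.glReindex (F := F) e.symm).toMonoidHom).map (MulAut.conj P).toMonoidHom := by
      rw [Subgroup.map_top_of_surjective _ hsurj1, Subgroup.map_top_of_surjective _ hsurj2]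
    rw [h1, Subgroup.map_lt_map_iff_of_injective hinj2,
      Subgroup.map_lt_map_iff_of_injective hinj1]
    exact hK2

end Cfsg.Agent.S5638
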