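import Cfsg.Statements.S5645
import Mathlib
import Cfsg.Agent.Lib.Helper27.SympStab

set_option autoImplicit false
open Cfsg

namespace Cfsg.Agent.S5645

open Matrix Cfsg.Agent.Lib.Helper27.SympTransv

/-- The general linear group of a vector space is transitive on the non-zero functionals. -/
theorem functional_transitive {K V : Type*} [Field K] [AddCommGroup V] [Module K V]
    (φ ψ : V →ₗ[K] K) (hφ : φ ≠ 0) (hψ : ψ ≠ 0) :
    ∃ α : V ≃ₗ[K] V, ∀ v, ψ (α v) = φ v := by
  obtain ⟨w₀, hw₀⟩ := DFunLike.ne_iff.mp hφ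
  rw [LinearMap.zero_apply] at hw₀
  obtain ⟨w₁, hw₁⟩ : ∃ w₁, φ w₁ = 1 :=
    ⟨(φ w₀)⁻¹ • w₀, by rw [map_smul, smul_eq_mul, inv_mul_cancel₀ hw₀]⟩
  by_cases hk : ∀ v, φ v = 0 → ψ v = 0
  · set c := ψ w₁ with hc
    have hψφ : ∀ v, ψ v = c * φ v := by
      intro v
      have h1 : φ (v - φ v • w₁) = 0 := by
        rw [map_sub, map_smul, hw₁, smul_eq_mul, mul_one, sub_self]
      have h2 := hk _ h1
      rw [map_sub, map_smul, smul_eq_mul, sub_eq_zero] at h2
      rw [h2, mul_comm]
    have hc0 : c ≠ 0 := by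
      intro h0
      apply hψ
      ext v
      rw [hψφ v, h0, zero_mul, LinearMap.zero_apply]
    refine ⟨{ toFun := fun v => v + ((c⁻¹ - 1) * φ v) • w₁
              map_add' := by
                intro x y
                simp only [map_add]
                module
              map_smul' := by
                intro a x
                simp only [map_smul, smul_eq_mul, RingHom.id_apply]
                module
              invFun := fun v => v + ((c - 1) * φ v) • w₁
              left_inv := by
                intro v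
                simp only [map_add, map_smul, hw₁, smul_eq_mul, mul_one]
                have : (c⁻¹ - 1) * φ v + (c - 1) * (φ v + (c⁻¹ - 1) * φ v) = 0 := by
                  field_simp
                  ring
                rw [add_assoc, ← add_smul, this, zero_smul, add_zero]
              right_inv := by
                intro v
                simp only [map_add, map_smul, hw₁, smul_eq_mul, mul_one]
                have : (c - 1) * φ v + (c⁻¹ - 1) * (φ v + (c - 1) * φ v) = 0 := by
                  field_simp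
                  ring
                rw [add_assoc, ← add_smul, this, zero_smul, add_zero] }, ?_⟩
    intro v
    change ψ (v + ((c⁻¹ - 1) * φ v) • w₁) = φ v
    rw [map_add, map_smul, ← hc, hψφ v, smul_eq_mul]
    field_simp
    ring
  · rw [not_forall] at hk
    obtain ⟨a, ha⟩ := hk
    rw [Classical.not_imp] at ha
    obtain ⟨ha1, ha2⟩ := ha
    obtain ⟨w, hφw, hψw⟩ : ∃ w, φ w = 1 ∧ ψ w = 1 := by
      refine ⟨w₁ + ((1 - ψ w₁) / ψ a) • a, ?_, ?_⟩
      · rw [map_add, map_smul, ha1, smul_zero, add_zero, hw₁]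
      · rw [map_add, map_smul, smul_eq_mul, div_mul_cancel₀ _ ha2]
        ring
    refine ⟨{ toFun := fun v => v + (φ v - ψ v) • w
              map_add' := by
                intro x y
                simp only [map_add]
                module
              map_smul' := by
                intro a x
                simp only [map_smul, smul_eq_mul, RingHom.id_apply]
                module
              invFun := fun v => v - (φ v - ψ v) • w
              left_inv := by
                intro v
                simp only [map_add, map_smul, hφw, hψw, smul_eq_mul, mul_one]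
                have : φ v + (φ v - ψ v) - (ψ v + (φ v - ψ v)) = φ v - ψ v := by ring
                rw [this, add_sub_cancel_right]
              right_inv := by
                intro v
                simp only [map_sub, map_smul, hφw, hψw, smul_eq_mul, mul_one]
                have : φ v - (φ v - ψ v) - (ψ v - (φ v - ψ v)) = φ v - ψ v := by ring
                rw [this, sub_add_cancel] }, ?_⟩
    intro v
    change ψ (v + (φ v - ψ v) • w) = φ v
    rw [map_add, map_smul, hψw, smul_eq_mul, mul_one]
    ring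

variable {F : Type*} [Field F] {m : ℕ}

/-- The stabiliser of a totally isotropic subspace `W` is transitive on the vectors outside
`perp W`. -/
theorem trans_outside (W : Submodule F (Fin m ⊕ Fin m → F))
    (hW : ∀ u ∈ W, ∀ v ∈ W, sympForm m F u v = 0) (x y : Fin m ⊕ Fin m → F)
    (hx : x ∉ perp W) (hy : y ∉ perp W) : ∃ g ∈ PW W, act g x = y := by
  have hWle : W ≤ perp W := fun w hw => mem_perp.mpr (fun w' hw' => hW w' hw' w hw)
  set φx : W →ₗ[F] F := ((sympB m F).flip x).comp W.subtype with hφx
  set φy : W →ₗ[F] F := ((sympB m F).flip y).comp W.subtype with hφy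
  have hφx_apply : ∀ w : W, φx w = sympForm m F w.1 x := fun w => sympB_apply _ _
  have hφy_apply : ∀ w : W, φy w = sympForm m F w.1 y := fun w => sympB_apply _ _
  have hφx0 : φx ≠ 0 := by
    intro h0
    apply hx
    rw [mem_perp]
    intro w hw
    rw [← hφx_apply ⟨w, hw⟩, h0, LinearMap.zero_apply]
  have hφy0 : φy ≠ 0 := by
    intro h0
    apply hy
    rw [mem_perp]
    intro w hw
    rw [← hφy_apply ⟨w, hw⟩, h0, LinearMap.zero_apply]
  obtain ⟨α, hα⟩ := functional_transitive φx φy hφx0 hφy0
  have hα' : ∀ w : W, sympForm m F (α w).1 y = sympForm m F w.1 x := by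
    intro w
    rw [← hφx_apply, ← hφy_apply]
    exact hα w
  set emb : (W × F) →ₗ[F] (Fin m ⊕ Fin m → F) :=
    W.subtype.coprod (LinearMap.toSpanSingleton F (Fin m ⊕ Fin m → F) x) with hemb
  have hemb_apply : ∀ p : W × F, emb p = p.1.1 + p.2 • x := by
    intro p
    rw [hemb, LinearMap.coprod_apply, LinearMap.toSpanSingleton_apply]
    rfl
  set gmap : (W × F) →ₗ[F] (Fin m ⊕ Fin m → F) :=
    (W.subtype.comp α.toLinearMap).coprod
      (LinearMap.toSpanSingleton F (Fin m ⊕ Fin m → F) y) with hgmap
  have hgmap_apply : ∀ p : W × F, gmap p = (α p.1).1 + p.2 • y := by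
    intro p
    rw [hgmap, LinearMap.coprod_apply, LinearMap.toSpanSingleton_apply]
    rfl
  have hnotW : ∀ z : Fin m ⊕ Fin m → F, z ∉ perp W → ∀ (w : Fin m ⊕ Fin m → F) (a : F),
      w ∈ W → w + a • z = 0 → a = 0 := by
    intro z hz w a hw h
    by_contra ha
    apply hz
    apply hWle
    have : z = (-a⁻¹) • w := by
      have h' : a • z = -w := by
        rw [eq_neg_iff_add_eq_zero, add_comm]; exact h
      rw [neg_smul, ← smul_neg, ← h', smul_smul, inv_mul_cancel₀ ha, one_smul]
    rw [this]
    exact W.smul_mem _ hw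
  have hker : LinearMap.ker emb = ⊥ := by
    rw [LinearMap.ker_eq_bot']
    intro p hp
    rw [hemb_apply] at hp
    have ha := hnotW x hx p.1.1 p.2 p.1.2 hp
    rw [ha, zero_smul, add_zero] at hp
    exact Prod.ext (Subtype.ext hp) ha
  obtain ⟨r, hr⟩ := LinearMap.exists_leftInverse_of_injective emb hker
  have hr' : ∀ p, r (emb p) = p := fun p => LinearMap.congr_fun hr p
  set f : (Fin m ⊕ Fin m → F) →ₗ[F] (Fin m ⊕ Fin m → F) := gmap.comp r with hf
  have hf_apply : ∀ p, f (emb p) = gmap p := by
    intro p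
    rw [hf, LinearMap.comp_apply, hr']
  obtain ⟨A, hA⟩ := witt_sp_submodule (LinearMap.range emb) f
    (by
      rintro _ ⟨p, rfl⟩ _ ⟨p', rfl⟩
      rw [hf_apply, hf_apply, hgmap_apply, hgmap_apply, hemb_apply, hemb_apply]
      simp only [sf_add_left, sf_add_right, sf_smul_left, sf_smul_right, sf_self, mul_zero,
        add_zero]
      rw [hW _ (α p.1).2 _ (α p'.1).2, hW _ p.1.2 _ p'.1.2, hα' p.1,
        sf_swap (α p'.1).1 y, hα' p'.1, sf_swap p'.1.1 x])
    (by
      rintro _ ⟨p, rfl⟩ h0
      rw [hf_apply, hgmap_apply] at h0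
      have ha := hnotW y hy (α p.1).1 p.2 (α p.1).2 h0
      rw [ha, zero_smul, add_zero] at h0
      have h1 : α p.1 = 0 := Subtype.ext h0
      have h2 : p.1 = 0 := α.map_eq_zero_iff.mp h1
      rw [hemb_apply, ha, h2, zero_smul, add_zero]
      rfl)
  have hAW : ∀ w : W, act A w.1 = (α w).1 := by
    intro w
    have h1 : emb (w, 0) = w.1 := by rw [hemb_apply, zero_smul, add_zero]
    have h2 := hA _ ⟨(w, 0), rfl⟩
    rw [hf_apply, hgmap_apply, h1, zero_smul, add_zero] at h2
    exact h2
  have hAx : act A x = y := by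
    have h1 : emb (0, 1) = x := by
      rw [hemb_apply, one_smul]
      change (0 : Fin m ⊕ Fin m → F) + x = x
      rw [zero_add]
    have h2 := hA _ ⟨(0, 1), rfl⟩
    rw [hf_apply, hgmap_apply, h1, one_smul] at h2
    change act A x = (α 0).1 + y at h2
    rw [map_zero] at h2
    change act A x = (0 : Fin m ⊕ Fin m → F) + y at h2
    rw [zero_add] at h2
    exact h2
  refine ⟨A, ?_, hAx⟩
  apply mem_PW_of_maps
  · intro w hw
    rw [hAW ⟨w, hw⟩]
    exact (α ⟨w, hw⟩).2
  · intro w hw
    have h1 : w = act A (α.symm ⟨w, hw⟩).1 := by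
      rw [hAW, LinearEquiv.apply_symm_apply]
    rw [h1, act_inv_act]
    exact (α.symm ⟨w, hw⟩).2

theorem core (W : Submodule F (Fin m ⊕ Fin m → F))
    (hW : ∀ u ∈ W, ∀ v ∈ W, sympForm m F u v = 0) (hW0 : W ≠ ⊥) :
    PW W ≠ ⊤ ∧ ∀ H : Subgroup (Matrix.symplecticGroup (Fin m) F), PW W ≤ H →
      H = PW W ∨ H = ⊤ := by
  constructor
  · intro htop
    obtain ⟨w, hw, hw0⟩ := Submodule.exists_mem_ne_zero_of_ne_bot hW0
    obtain ⟨y, -, hy⟩ := nondegOn_top w Submodule.mem_top hw0
    have hmem : tv y 1 ∈ PW W := by rw [htop]; trivial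
    have h1 := PW_maps hmem hw
    rw [act_tv, one_mul] at h1
    have h2 : sympForm m F w y • y ∈ W := by
      have := W.sub_mem h1 hw
      rwa [add_sub_cancel_left] at this
    have h3 : y ∈ W := by
      have := W.smul_mem (sympForm m F w y)⁻¹ h2
      rwa [smul_smul, inv_mul_cancel₀ hy, one_smul] at this
    exact hy (hW w hw y h3)
  · intro H hle
    by_cases hH : H ≤ PW W
    · left
      exact le_antisymm hH hle
    right
    obtain ⟨h, hhH, hhP⟩ := SetLike.not_le_iff_exists.mp hH
    have hA_W' : ∀ x ∈ perp W, ∀ c : F, tv x c ∈ H := fun x hx c => hle (tv_mem_PW_of_perp hx c)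
    have hA_inv : ∀ g ∈ H, ∀ x, (∀ c : F, tv x c ∈ H) → ∀ c : F, tv (act g x) c ∈ H := by
      intro g hg x hx c
      rw [← conj_tv]
      exact mul_mem (mul_mem hg (hx c)) (inv_mem hg)
    have hg : ∃ g ∈ H, ¬ ∀ x ∈ W, act g x ∈ W := by
      by_contra hcon
      apply hhP
      apply mem_PW_of_maps
      · by_contra h1
        exact hcon ⟨h, hhH, h1⟩
      · by_contra h1
        exact hcon ⟨h⁻¹, inv_mem hhH, h1⟩
    obtain ⟨g, hgH, hgW⟩ := hg
    rw [not_forall] at hgW
    obtain ⟨x, hx⟩ := hgW
    rw [Classical.not_imp] at hx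
    obtain ⟨hxW, hgx⟩ := hx
    obtain ⟨u, hu, hu0⟩ := exists_perp_of_not_mem hgx
    have hu₀A : ∀ c : F, tv (act g⁻¹ u) c ∈ H := hA_inv g⁻¹ (inv_mem hgH) u (hA_W' u hu)
    have hu₀ : act g⁻¹ u ∉ perp W := by
      intro hmem
      apply hu0
      have := mem_perp.mp hmem x hxW
      rw [← act_preserves g, act_act_inv] at this
      exact this
    apply eq_top_of_tv_mem
    intro w
    by_cases hw : w ∈ perp W
    · exact hA_W' w hw
    obtain ⟨p, hp, hpw⟩ := trans_outside W hW _ w hu₀ hw
    rw [← hpw]
    exact hA_inv p (hle hp) _ hu₀A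

theorem result {F : Type*} [Field F] [Fintype F] (m : ℕ) (hm : 7 ≤ m) (W : Submodule F (Fin m ⊕ Fin m → F)) (hW0 : W ≠ ⊥) (hW : Cfsg.Geo.IsTotallySingularFor (Cfsg.sympForm m F) W) : Cfsg.Geo.IsMaximalIn (Cfsg.spGL m F) (Cfsg.Geo.subspaceStabilizer W ⊓ Cfsg.spGL m F) := by
  obtain ⟨h1, h2⟩ := core W hW hW0
  apply isMaximalIn_of_comap
  · rw [comap_subspaceStabilizer]; exact h1
  · rw [comap_subspaceStabilizer]; exact h2

end Cfsg.Agent.S5645
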