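import Cfsg.Statements.S5647
import Mathlib
import Cfsg.Agent.Lib.Helper27.SympDecomp
import Cfsg.Agent.Lib.Helper27.SympOrder

set_option autoImplicit false
open Cfsg

namespace Cfsg.Agent.S5647

open Matrix Cfsg.Agent.Lib.Helper27.SympTransv

variable {F : Type*} [Field F] {m t : ℕ}

/-- The stabiliser of the decomposition in the matrix symplectic group. -/
def MD (D : Fin t → Submodule F (Fin m ⊕ Fin m → F)) :
    Subgroup (Matrix.symplecticGroup (Fin m) F) :=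
  (Cfsg.Geo.decompositionStabilizer D).comap spHom

theorem toLin_eq (g : Matrix.symplecticGroup (Fin m) F) :
    Matrix.toLin' ((spHom g : Matrix.GeneralLinearGroup (Fin m ⊕ Fin m) F) :
      Matrix (Fin m ⊕ Fin m) (Fin m ⊕ Fin m) F) = (actL g).toLinearMap := by
  apply LinearMap.ext
  intro x
  rw [Matrix.toLin'_apply]
  rfl

theorem mem_MD_iff (D : Fin t → Submodule F (Fin m ⊕ Fin m → F))
    (g : Matrix.symplecticGroup (Fin m) F) :
    g ∈ MD D ↔ ∃ σ : Equiv.Perm (Fin t), ∀ i, (D i).map (actL g).toLinearMap = D (σ i) := by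
  unfold MD
  rw [Subgroup.mem_comap]
  change (∃ σ : Equiv.Perm (Fin t), ∀ i, (D i).map (Matrix.toLin'
    ((spHom g : Matrix.GeneralLinearGroup (Fin m ⊕ Fin m) F) :
      Matrix (Fin m ⊕ Fin m) (Fin m ⊕ Fin m) F)) = D (σ i)) ↔ _
  rw [toLin_eq]

theorem mem_MD_of_maps (D : Fin t → Submodule F (Fin m ⊕ Fin m → F)) (k : ℕ)
    (hfin : ∀ i, Module.finrank F (D i) = k) (g : Matrix.symplecticGroup (Fin m) F)
    (σ : Equiv.Perm (Fin t)) (h : ∀ i, ∀ x ∈ D i, act g x ∈ D (σ i)) : g ∈ MD D := by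
  rw [mem_MD_iff]
  refine ⟨σ, fun i => ?_⟩
  apply Submodule.eq_of_le_of_finrank_eq
  · rintro _ ⟨x, hx, rfl⟩
    exact h i x hx
  · rw [LinearEquiv.finrank_map_eq, hfin, hfin]

theorem MD_maps (D : Fin t → Submodule F (Fin m ⊕ Fin m → F))
    (g : Matrix.symplecticGroup (Fin m) F) (hg : g ∈ MD D) :
    ∃ σ : Equiv.Perm (Fin t), ∀ i, ∀ x ∈ D i, act g x ∈ D (σ i) := by
  rw [mem_MD_iff] at hg
  obtain ⟨σ, hσ⟩ := hg
  refine ⟨σ, fun i x hx => ?_⟩
  rw [← hσ i]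
  exact ⟨x, hx, rfl⟩

/-- A vector with two non-zero components lies in no member of the decomposition. -/
theorem not_mem_of_two {D : Fin t → Submodule F (Fin m ⊕ Fin m → F)} (hD : ODecomp D)
    {i j : Fin t} (hij : i ≠ j) {x : Fin m ⊕ Fin m → F} (hi : x ∉ perp (D i))
    (hj : x ∉ perp (D j)) (l : Fin t) : x ∉ D l := by
  intro hx
  by_cases hl : l = i
  · subst hl
    exact hj (hD.le_perp hij hx)
  · exact hi (hD.le_perp hl hx)

theorem exists_ne_zero_one [Fintype F] (h : Fintype.card F ≠ 2) : ∃ ν : F, ν ≠ 0 ∧ ν ≠ 1 := by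
  classical
  by_contra hne
  apply h
  apply le_antisymm
  · have hsub : (Finset.univ : Finset F) ⊆ {0, 1} := by
      intro x _
      by_contra hx
      apply hne
      refine ⟨x, ?_, ?_⟩
      · intro h0
        apply hx
        rw [h0]
        exact Finset.mem_insert_self _ _
      · intro h1
        apply hx
        rw [h1]
        exact Finset.mem_insert_of_mem (Finset.mem_singleton_self _)
    calc Fintype.card F = (Finset.univ : Finset F).card := rfl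
      _ ≤ ({0, 1} : Finset F).card := Finset.card_le_card hsub
      _ ≤ 2 := Finset.card_le_two
  · exact Fintype.one_lt_card

/-- A second isotropic direction next to a given non-zero vector. -/
theorem exists_other [Fintype F] (W : Submodule F (Fin m ⊕ Fin m → F)) (hW : NondegOn W) (k : ℕ)
    (hk : Module.finrank F W = k) (hex : ¬ (k = 2 ∧ Fintype.card F = 2))
    (u : Fin m ⊕ Fin m → F) (hu : u ∈ W) (hu0 : u ≠ 0) :
    ∃ d ∈ W, d ≠ 0 ∧ d ≠ u ∧ sympForm m F u d = 0 := by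
  by_cases hk3 : 3 ≤ k
  · obtain ⟨a, ha, hua⟩ := hW u hu hu0
    have hw : ∃ w ∈ W, w ∉ Submodule.span F ({u, a} : Set (Fin m ⊕ Fin m → F)) := by
      by_contra hcon
      have hle : W ≤ Submodule.span F ({u, a} : Set (Fin m ⊕ Fin m → F)) := by
        intro w hw
        by_contra hw'
        exact hcon ⟨w, hw, hw'⟩
      have h1 := Submodule.finrank_mono hle
      have h2 : Module.finrank F (Submodule.span F ({u, a} : Set (Fin m ⊕ Fin m → F))) ≤ 2 := by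
        classical
        have h5 : Module.finrank F (Submodule.span F
            ((({u, a} : Finset (Fin m ⊕ Fin m → F)) : Set (Fin m ⊕ Fin m → F)))) ≤
            ({u, a} : Finset (Fin m ⊕ Fin m → F)).card :=
          finrank_span_finset_le_card (R := F) ({u, a} : Finset (Fin m ⊕ Fin m → F))
        have h4 : ((({u, a} : Finset (Fin m ⊕ Fin m → F)) : Set (Fin m ⊕ Fin m → F))) = {u, a} := by
          simp
        rw [h4] at h5
        exact h5.trans Finset.card_le_two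
      omega
    obtain ⟨w, hwW, hw⟩ := hw
    have hspan : ∀ c₁ c₂ : F, c₁ • u + c₂ • a ∈
        Submodule.span F ({u, a} : Set (Fin m ⊕ Fin m → F)) := by
      intro c₁ c₂
      apply Submodule.add_mem
      · exact Submodule.smul_mem _ _ (Submodule.subset_span (Set.mem_insert _ _))
      · exact Submodule.smul_mem _ _ (Submodule.subset_span
          (Set.mem_insert_of_mem _ (Set.mem_singleton _)))
    set c := sympForm m F u w / sympForm m F u a with hc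
    refine ⟨w - c • a, W.sub_mem hwW (W.smul_mem _ ha), ?_, ?_, ?_⟩
    · intro h0
      apply hw
      have : w = (0 : F) • u + c • a := by
        rw [zero_smul, zero_add]
        exact sub_eq_zero.mp h0
      rw [this]
      exact hspan 0 c
    · intro h1
      apply hw
      have : w = (1 : F) • u + c • a := by
        rw [one_smul, ← h1]
        abel
      rw [this]
      exact hspan 1 c
    · rw [sf_sub_right, sf_smul_right, hc, div_mul_cancel₀ _ hua, sub_self]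
  · -- small dimension: use a scalar
    obtain ⟨k', hk'⟩ := exists_half W hW
    have hpos : 0 < Module.finrank F W := by
      rw [Module.finrank_pos_iff_exists_ne_zero]
      exact ⟨⟨u, hu⟩, fun h => hu0 (congrArg Subtype.val h)⟩
    have hk2 : k = 2 := by omega
    have hcard : Fintype.card F ≠ 2 := fun h => hex ⟨hk2, h⟩
    obtain ⟨ν, hν0, hν1⟩ := exists_ne_zero_one hcard
    refine ⟨ν • u, W.smul_mem _ hu, smul_ne_zero hν0 hu0, ?_, ?_⟩
    · intro h
      apply hν1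
      have h2 : (ν - 1) • u = 0 := by
        rw [sub_smul, one_smul, h, sub_self]
      rcases smul_eq_zero.mp h2 with h3 | h3
      · exact sub_eq_zero.mp h3
      · exact absurd h3 hu0
    · rw [sf_smul_right, sf_self, mul_zero]

/-- From a vector of `A` with two non-zero components, a vector of `A` with exactly two non-zero
components. -/
theorem pair_seed [Fintype F] {D : Fin t → Submodule F (Fin m ⊕ Fin m → F)} (hD : ODecomp D)
    (k : ℕ) (hfin : ∀ i, Module.finrank F (D i) = k) (hex : ¬ (k = 2 ∧ Fintype.card F = 2))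
    (H : Subgroup (Matrix.symplecticGroup (Fin m) F)) (hTW : ∀ i, TW (D i) ≤ H)
    (hinv : ∀ g ∈ H, ∀ x, (∀ c : F, tv x c ∈ H) → ∀ c : F, tv (act g x) c ∈ H)
    (a₀ : Fin m ⊕ Fin m → F) (ha₀ : ∀ c : F, tv a₀ c ∈ H) (i₂ i₃ : Fin t) (h23 : i₂ ≠ i₃)
    (h2 : a₀ ∉ perp (D i₂)) (h3 : a₀ ∉ perp (D i₃)) :
    ∃ u₂ ∈ D i₂, u₂ ≠ 0 ∧ ∃ u₃ ∈ D i₃, u₃ ≠ 0 ∧ ∀ c : F, tv (u₂ + u₃) c ∈ H := by
  set a₂ := hD.proj i₂ a₀ with ha₂
  set a₃ := hD.proj i₃ a₀ with ha₃
  have ha₂m : a₂ ∈ D i₂ := hD.proj_mem i₂ a₀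
  have ha₃m : a₃ ∈ D i₃ := hD.proj_mem i₃ a₀
  have ha₂0 : a₂ ≠ 0 := fun h => h2 ((hD.proj_eq_zero_iff i₂ a₀).mp h)
  have ha₃0 : a₃ ≠ 0 := fun h => h3 ((hD.proj_eq_zero_iff i₃ a₀).mp h)
  obtain ⟨d₂, hd₂, hne₂⟩ := hD.nondeg i₂ a₂ ha₂m ha₂0
  obtain ⟨d₃, hd₃, hd₃0, hd₃a, hsf₃⟩ :=
    exists_other (D i₃) (hD.nondeg i₃) k (hfin i₃) hex a₃ ha₃m ha₃0
  have hd₂0 : d₂ ≠ 0 := by
    rintro rfl
    exact hne₂ (sf_zero_right _)
  obtain ⟨g₂, hg₂, hg₂a⟩ := trans1 (D i₂) (hD.nondeg i₂) a₂ d₂ ha₂m hd₂ ha₂0 hd₂0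
  obtain ⟨g₃, hg₃, hg₃a⟩ := trans1 (D i₃) (hD.nondeg i₃) a₃ d₃ ha₃m hd₃ ha₃0 hd₃0
  have e1 : act g₂ a₀ = d₂ + (a₀ - a₂) := by
    have h1 : a₀ = a₂ + (a₀ - a₂) := by abel
    conv_lhs => rw [h1]
    rw [act_add, hg₂a, TW_fix (D i₂) g₂ hg₂ (a₀ - a₂)
      (mem_perp'.mp (hD.sub_proj_mem_perp i₂ a₀))]
  have hy3 : hD.proj i₃ (d₂ + (a₀ - a₂)) = a₃ := by
    rw [map_add, map_sub, hD.proj_of_mem_ne h23.symm hd₂, hD.proj_of_mem_ne h23.symm ha₂m,
      sub_zero, zero_add]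
  have e2 : act g₃ (d₂ + (a₀ - a₂)) = d₃ + (d₂ + (a₀ - a₂) - a₃) := by
    have h1 : d₂ + (a₀ - a₂) = a₃ + (d₂ + (a₀ - a₂) - a₃) := by abel
    conv_lhs => rw [h1]
    have hperp := hD.sub_proj_mem_perp i₃ (d₂ + (a₀ - a₂))
    rw [hy3] at hperp
    rw [act_add, hg₃a, TW_fix (D i₃) g₃ hg₃ _ (mem_perp'.mp hperp)]
  set b := d₃ + (d₂ + (a₀ - a₂) - a₃) with hb
  have hbA : ∀ c : F, tv b c ∈ H := by
    have := hinv (g₃ * g₂) (mul_mem (hTW i₃ hg₃) (hTW i₂ hg₂)) a₀ ha₀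
    rw [act_mul, e1, e2] at this
    exact this
  have hs2 : ∀ y ∈ D i₂, sympForm m F a₀ y = sympForm m F a₂ y :=
    fun y hy => (hD.sf_proj_left i₂ a₀ hy).symm
  have hs3 : ∀ y ∈ D i₃, sympForm m F a₀ y = sympForm m F a₃ y :=
    fun y hy => (hD.sf_proj_left i₃ a₀ hy).symm
  have hsf : sympForm m F a₀ b = sympForm m F a₂ d₂ := by
    rw [hb]
    simp only [sf_add_right, sf_sub_right, sf_self]
    rw [hs3 d₃ hd₃, hs2 d₂ hd₂, hs2 a₂ ha₂m, hs3 a₃ ha₃m, sf_self, sf_self, hsf₃]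
    ring
  have hsf0 : sympForm m F a₀ b ≠ 0 := by rw [hsf]; exact hne₂
  have hdiff : ∀ c : F, tv (a₀ - b) c ∈ H := by
    have := hinv (tv b (-(sympForm m F a₀ b)⁻¹)) (hbA _) a₀ ha₀
    rw [act_tv, neg_mul, inv_mul_cancel₀ hsf0, neg_one_smul, ← sub_eq_add_neg] at this
    exact this
  have heq : a₀ - b = (a₂ - d₂) + (a₃ - d₃) := by
    rw [hb]
    abel
  rw [heq] at hdiff
  refine ⟨a₂ - d₂, (D i₂).sub_mem ha₂m hd₂, ?_, a₃ - d₃, (D i₃).sub_mem ha₃m hd₃, ?_, hdiff⟩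
  · intro h
    apply hne₂
    rw [← sub_eq_zero.mp h, sf_self]
  · intro h
    exact hd₃a (sub_eq_zero.mp h).symm

theorem exists_perm_two (i₂ i₃ i j : Fin t) (h23 : i₂ ≠ i₃) (hij : i ≠ j) :
    ∃ σ : Equiv.Perm (Fin t), σ i₂ = i ∧ σ i₃ = j := by
  refine ⟨Equiv.swap (Equiv.swap i₂ i i₃) j * Equiv.swap i₂ i, ?_, ?_⟩
  · rw [Equiv.Perm.mul_apply, Equiv.swap_apply_left]
    apply Equiv.swap_apply_of_ne_of_ne
    · intro h
      apply h23
      have := congrArg (Equiv.swap i₂ i) h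
      rw [Equiv.swap_apply_right, Equiv.swap_apply_self] at this
      exact this
    · exact hij
  · rw [Equiv.Perm.mul_apply, Equiv.swap_apply_left]

/-- All sums of two non-zero vectors from different members lie in `A`. -/
theorem pair_all {D : Fin t → Submodule F (Fin m ⊕ Fin m → F)} (hD : ODecomp D)
    (k k' : ℕ) (hfin : ∀ i, Module.finrank F (D i) = k) (hkk : k = 2 * k')
    (H : Subgroup (Matrix.symplecticGroup (Fin m) F)) (hMD : MD D ≤ H)
    (hTW : ∀ i, TW (D i) ≤ H)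
    (hinv : ∀ g ∈ H, ∀ x, (∀ c : F, tv x c ∈ H) → ∀ c : F, tv (act g x) c ∈ H)
    (i₂ i₃ : Fin t) (h23 : i₂ ≠ i₃) (u₂ : Fin m ⊕ Fin m → F) (hu₂ : u₂ ∈ D i₂) (hu₂0 : u₂ ≠ 0)
    (u₃ : Fin m ⊕ Fin m → F) (hu₃ : u₃ ∈ D i₃) (hu₃0 : u₃ ≠ 0)
    (hu : ∀ c : F, tv (u₂ + u₃) c ∈ H)
    (i j : Fin t) (hij : i ≠ j) (x : Fin m ⊕ Fin m → F) (hx : x ∈ D i) (hx0 : x ≠ 0)
    (y : Fin m ⊕ Fin m → F) (hy : y ∈ D j) (hy0 : y ≠ 0) : ∀ c : F, tv (x + y) c ∈ H := by
  obtain ⟨σ, hσ2, hσ3⟩ := exists_perm_two i₂ i₃ i j h23 hij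
  obtain ⟨s, hs⟩ := hD.exists_perm k' (fun i => by rw [hfin, hkk]) σ
  have hsMD : s ∈ MD D := mem_MD_of_maps D k hfin s σ hs
  have hsu := hinv s (hMD hsMD) _ hu
  rw [act_add] at hsu
  have h1 : act s u₂ ∈ D i := hσ2 ▸ hs i₂ u₂ hu₂
  have h2 : act s u₃ ∈ D j := hσ3 ▸ hs i₃ u₃ hu₃
  have h10 : act s u₂ ≠ 0 := Cfsg.Agent.S0768.act_ne_zero s u₂ hu₂0
  have h20 : act s u₃ ≠ 0 := Cfsg.Agent.S0768.act_ne_zero s u₃ hu₃0
  obtain ⟨g₁, hg₁, hg₁a⟩ := trans1 (D i) (hD.nondeg i) _ x h1 hx h10 hx0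
  obtain ⟨g₂, hg₂, hg₂a⟩ := trans1 (D j) (hD.nondeg j) _ y h2 hy h20 hy0
  have e1 : act g₁ (act s u₃) = act s u₃ :=
    TW_fix (D i) g₁ hg₁ _ (fun w hw => hD.orth j i hij.symm _ h2 w hw)
  have e2 : act g₂ x = x :=
    TW_fix (D j) g₂ hg₂ _ (fun w hw => hD.orth i j hij x hx w hw)
  have := hinv (g₂ * g₁) (mul_mem (hTW j hg₂) (hTW i hg₁)) _ hsu
  rw [act_mul, act_add, hg₁a, e1, act_add, e2, hg₂a] at this
  exact this

/-- Once all pairs are in `A`, all partial sums of the decomposition are. -/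
theorem all_of_pairs {D : Fin t → Submodule F (Fin m ⊕ Fin m → F)} (hD : ODecomp D)
    (hD0 : ∀ i, D i ≠ ⊥) (H : Subgroup (Matrix.symplecticGroup (Fin m) F))
    (hinv : ∀ g ∈ H, ∀ x, (∀ c : F, tv x c ∈ H) → ∀ c : F, tv (act g x) c ∈ H)
    (hAD : ∀ i, ∀ x ∈ D i, ∀ c : F, tv x c ∈ H)
    (hpair : ∀ i j, i ≠ j → ∀ x ∈ D i, x ≠ 0 → ∀ y ∈ D j, y ≠ 0 → ∀ c : F, tv (x + y) c ∈ H)
    (S : Finset (Fin t)) :
    NondegOn (⨆ i ∈ S, D i) ∧ (∀ j, j ∉ S → (⨆ i ∈ S, D i) ≤ perp (D j)) ∧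
      ∀ x ∈ ⨆ i ∈ S, D i, ∀ c : F, tv x c ∈ H := by
  classical
  induction S using Finset.induction_on with
  | empty =>
    have h0 : (⨆ i ∈ (∅ : Finset (Fin t)), D i) = ⊥ := by simp
    rw [h0]
    refine ⟨?_, fun j _ => bot_le, ?_⟩
    · intro u hu hu0
      exact absurd ((Submodule.mem_bot F).mp hu) hu0
    · intro x hx c
      rw [(Submodule.mem_bot F).mp hx, tv_zero_left]
      exact one_mem H
  | insert j S hj ih =>
    obtain ⟨ihN, ihP, ihA⟩ := ih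
    rw [Finset.iSup_insert]
    set W' := ⨆ i ∈ S, D i with hW'
    have hjW' : W' ≤ perp (D j) := ihP j hj
    refine ⟨?_, ?_, ?_⟩
    · intro u hu hu0
      obtain ⟨u₁, hu₁, u₂, hu₂, rfl⟩ := Submodule.mem_sup.mp hu
      by_cases h1 : u₁ = 0
      · subst h1
        rw [zero_add] at hu0
        obtain ⟨a, ha, hne⟩ := ihN u₂ hu₂ hu0
        exact ⟨a, Submodule.mem_sup_right ha, by rw [zero_add]; exact hne⟩
      · obtain ⟨a, ha, hne⟩ := hD.nondeg j u₁ hu₁ h1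
        refine ⟨a, Submodule.mem_sup_left ha, ?_⟩
        rw [sf_add_left, mem_perp'.mp (hjW' hu₂) a ha, add_zero]
        exact hne
    · intro j' hj'
      rw [Finset.mem_insert, not_or] at hj'
      exact sup_le (hD.le_perp (Ne.symm hj'.1)) (ihP j' hj'.2)
    · intro x hx
      obtain ⟨x₁, hx₁, x₂, hx₂, rfl⟩ := Submodule.mem_sup.mp hx
      by_cases h1 : x₁ = 0
      · rw [h1, zero_add]
        exact ihA x₂ hx₂
      by_cases h2 : x₂ = 0
      · rw [h2, add_zero]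
        exact hAD j x₁ hx₁
      have hSne : S.Nonempty := by
        by_contra hne
        rw [Finset.not_nonempty_iff_eq_empty] at hne
        apply h2
        have h0 : W' = ⊥ := by rw [hW', hne]; simp
        rw [h0] at hx₂
        exact (Submodule.mem_bot F).mp hx₂
      obtain ⟨i, hi⟩ := hSne
      have hji : j ≠ i := fun h => hj (h ▸ hi)
      obtain ⟨z', hz', hz'0⟩ := Submodule.exists_mem_ne_zero_of_ne_bot (hD0 i)
      obtain ⟨y', hy', hy'0⟩ := Submodule.exists_mem_ne_zero_of_ne_bot (hD0 j)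
      have hseed := hpair j i hji y' hy' hy'0 z' hz' hz'0
      have hz'W : z' ∈ W' := (le_iSup₂ (f := fun i (_ : i ∈ S) => D i) i hi) hz'
      obtain ⟨g₁, hg₁, hg₁a⟩ := trans1 (D j) (hD.nondeg j) y' x₁ hy' hx₁ hy'0 h1
      obtain ⟨g₂, hg₂, hg₂a⟩ := trans1 W' ihN z' x₂ hz'W hx₂ hz'0 h2
      have e1 : act g₁ z' = z' := TW_fix (D j) g₁ hg₁ z' (mem_perp'.mp (hjW' hz'W))
      have e2 : act g₂ x₁ = x₁ :=
        TW_fix W' g₂ hg₂ x₁ (fun w hw => mem_perp.mp (hjW' hw) x₁ hx₁)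
      have hT1 : TW (D j) ≤ H := Cfsg.Agent.S5646.TW_le (D j) H (hAD j)
      have hT2 : TW W' ≤ H := Cfsg.Agent.S5646.TW_le W' H ihA
      have := hinv (g₂ * g₁) (mul_mem (hT2 hg₂) (hT1 hg₁)) _ hseed
      rw [act_mul, act_add, hg₁a, e1, act_add, e2, hg₂a] at this
      exact this

/-- An element outside the stabiliser of the decomposition produces a vector of `A` with two
non-zero components. -/
theorem exists_two_comp {D : Fin t → Submodule F (Fin m ⊕ Fin m → F)} (hD : ODecomp D)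
    (k : ℕ) (hfin : ∀ i, Module.finrank F (D i) = k) (hD0 : ∀ i, D i ≠ ⊥)
    (H : Subgroup (Matrix.symplecticGroup (Fin m) F))
    (hinv : ∀ g ∈ H, ∀ x, (∀ c : F, tv x c ∈ H) → ∀ c : F, tv (act g x) c ∈ H)
    (hAD : ∀ i, ∀ x ∈ D i, ∀ c : F, tv x c ∈ H)
    (h : Matrix.symplecticGroup (Fin m) F) (hhH : h ∈ H) (hhM : h ∉ MD D) :
    ∃ a₀ : Fin m ⊕ Fin m → F, (∀ c : F, tv a₀ c ∈ H) ∧
      ∃ i₂ i₃ : Fin t, i₂ ≠ i₃ ∧ a₀ ∉ perp (D i₂) ∧ a₀ ∉ perp (D i₃) := by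
  classical
  by_contra hno
  have hone : ∀ x, (∀ c : F, tv x c ∈ H) → ∀ i₂ i₃ : Fin t, i₂ ≠ i₃ → x ∉ perp (D i₂) →
      x ∈ perp (D i₃) := by
    intro x hx i₂ i₃ h23 h2
    by_contra h3
    exact hno ⟨x, hx, i₂, i₃, h23, h2, h3⟩
  have hmem : ∀ x, (∀ c : F, tv x c ∈ H) → x ≠ 0 → ∃ j, x ∈ D j := by
    intro x hx hx0
    obtain ⟨j, hj⟩ : ∃ j, x ∉ perp (D j) := by
      by_contra hall
      apply hx0
      apply hD.eq_zero_of_forall_perp
      intro j
      by_contra hj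
      exact hall ⟨j, hj⟩
    refine ⟨j, ?_⟩
    have hxj : x = hD.proj j x := by
      conv_lhs => rw [← hD.sum_proj x]
      rw [Finset.sum_eq_single j]
      · intro i _ hij
        exact hD.proj_of_perp (hone x hx j i (Ne.symm hij) hj)
      · intro hj'
        exact absurd (Finset.mem_univ j) hj'
    rw [hxj]
    exact hD.proj_mem j x
  choose z hz hz0 using fun l => Submodule.exists_mem_ne_zero_of_ne_bot (hD0 l)
  have hz' : ∀ l, ∃ j, act h (z l) ∈ D j := fun l =>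
    hmem _ (hinv h hhH _ (hAD l (z l) (hz l))) (Cfsg.Agent.S0768.act_ne_zero h _ (hz0 l))
  choose j hj using hz'
  have hdisj : ∀ (i : Fin t) (x : Fin m ⊕ Fin m → F), x ∈ D i → x ∈ perp (D i) → x = 0 :=
    fun i x => Cfsg.Agent.S5646.disj (D i) (hD.nondeg i) x
  have hmap : ∀ l, ∀ x ∈ D l, act h x ∈ D (j l) := by
    intro l x hx
    by_cases hx0 : x = 0
    · rw [hx0, act_zero]
      exact zero_mem _
    by_cases hs : x + z l = 0
    · have hxz : x = -z l := eq_neg_of_add_eq_zero_left hs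
      rw [hxz, act_neg]
      exact neg_mem (hj l)
    obtain ⟨j', hj'⟩ := hmem (act h x) (hinv h hhH x (hAD l x hx))
      (Cfsg.Agent.S0768.act_ne_zero h x hx0)
    by_cases hjj : j' = j l
    · rw [← hjj]
      exact hj'
    exfalso
    obtain ⟨j'', hj''⟩ := hmem (act h (x + z l))
      (hinv h hhH _ (hAD l _ ((D l).add_mem hx (hz l))))
      (Cfsg.Agent.S0768.act_ne_zero h _ hs)
    rw [act_add] at hj''
    by_cases h2 : j'' = j'
    · rw [h2] at hj''
      have hzp : act h (z l) ∈ perp (D (j l)) := by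
        have h3 : act h (z l) = (act h x + act h (z l)) - act h x := by abel
        rw [h3]
        exact (perp (D (j l))).sub_mem (hD.le_perp hjj hj'') (hD.le_perp hjj hj')
      exact Cfsg.Agent.S0768.act_ne_zero h _ (hz0 l) (hdisj (j l) _ (hj l) hzp)
    · have hxp : act h x ∈ perp (D j') := by
        have h3 : act h x = (act h x + act h (z l)) - act h (z l) := by abel
        rw [h3]
        exact (perp (D j')).sub_mem (hD.le_perp h2 hj'') (hD.le_perp (Ne.symm hjj) (hj l))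
      exact Cfsg.Agent.S0768.act_ne_zero h x hx0 (hdisj j' _ hj' hxp)
  have hmapeq : ∀ l, (D l).map (actL h).toLinearMap = D (j l) := by
    intro l
    apply Submodule.eq_of_le_of_finrank_eq
    · rintro _ ⟨x, hx, rfl⟩
      exact hmap l x hx
    · rw [LinearEquiv.finrank_map_eq, hfin, hfin]
  have hjinj : Function.Injective j := by
    intro l l' hll
    by_contra hne
    have h1 : (D l).map (actL h).toLinearMap = (D l').map (actL h).toLinearMap := by
      rw [hmapeq, hmapeq, hll]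
    have h2 : D l = D l' := Submodule.map_injective_of_injective (actL h).injective h1
    apply hz0 l
    apply hdisj l (z l) (hz l)
    have : z l ∈ D l' := h2 ▸ hz l
    exact hD.le_perp (Ne.symm hne) this
  apply hhM
  exact mem_MD_of_maps D k hfin h (Equiv.ofBijective j (Finite.injective_iff_bijective.mp hjinj))
    (fun i x hx => hmap i x hx)

theorem MD_ne_top {D : Fin t → Submodule F (Fin m ⊕ Fin m → F)} (hD : ODecomp D)
    (hD0 : ∀ i, D i ≠ ⊥) (i₀ i₁ : Fin t) (h01 : i₀ ≠ i₁) : MD D ≠ ⊤ := by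
  intro htop
  obtain ⟨a₁, ha₁, ha₁0⟩ := Submodule.exists_mem_ne_zero_of_ne_bot (hD0 i₀)
  obtain ⟨a₂, ha₂, ha₂0⟩ := Submodule.exists_mem_ne_zero_of_ne_bot (hD0 i₁)
  obtain ⟨b, hb, hab⟩ := hD.nondeg i₀ a₁ ha₁ ha₁0
  have hmem : tv (a₁ + a₂) 1 ∈ MD D := by rw [htop]; trivial
  obtain ⟨σ, hσ⟩ := MD_maps D _ hmem
  have h1 := hσ i₀ b hb
  rw [act_tv, one_mul, sf_add_right, hD.orth i₀ i₁ h01 b hb a₂ ha₂, add_zero] at h1
  have hl0 : sympForm m F b a₁ ≠ 0 := by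
    rw [sf_swap]
    exact neg_ne_zero.mpr hab
  have hdisj : ∀ (i : Fin t) (x : Fin m ⊕ Fin m → F), x ∈ D i → x ∈ perp (D i) → x = 0 :=
    fun i x => Cfsg.Agent.S5646.disj (D i) (hD.nondeg i) x
  refine not_mem_of_two hD h01 ?_ ?_ (σ i₀) h1
  · intro hp
    have h2 : b + sympForm m F b a₁ • a₁ ∈ perp (D i₀) := by
      have h3 : b + sympForm m F b a₁ • a₁ =
          (b + sympForm m F b a₁ • (a₁ + a₂)) - sympForm m F b a₁ • a₂ := by
        rw [smul_add]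
        abel
      rw [h3]
      exact (perp (D i₀)).sub_mem hp
        ((perp (D i₀)).smul_mem _ (hD.le_perp (Ne.symm h01) ha₂))
    have h4 := hdisj i₀ _ ((D i₀).add_mem hb ((D i₀).smul_mem _ ha₁)) h2
    apply hab
    have h5 : b = -(sympForm m F b a₁ • a₁) := eq_neg_of_add_eq_zero_left h4
    rw [h5, sf_neg_right, sf_smul_right, sf_self, mul_zero, neg_zero]
  · intro hp
    have h2 : sympForm m F b a₁ • a₂ ∈ perp (D i₁) := by
      have h3 : sympForm m F b a₁ • a₂ =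
          (b + sympForm m F b a₁ • (a₁ + a₂)) - (b + sympForm m F b a₁ • a₁) := by
        rw [smul_add]
        abel
      rw [h3]
      exact (perp (D i₁)).sub_mem hp
        (hD.le_perp h01 ((D i₀).add_mem hb ((D i₀).smul_mem _ ha₁)))
    have h4 := hdisj i₁ _ ((D i₁).smul_mem _ ha₂) h2
    rcases smul_eq_zero.mp h4 with h5 | h5
    · exact hl0 h5
    · exact ha₂0 h5

theorem core [Fintype F] {D : Fin t → Submodule F (Fin m ⊕ Fin m → F)} (hD : ODecomp D)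
    (k : ℕ) (hfin : ∀ i, Module.finrank F (D i) = k) (hk0 : 0 < k) (ht : 2 ≤ t)
    (hex : ¬ (k = 2 ∧ Fintype.card F = 2)) :
    MD D ≠ ⊤ ∧ ∀ H : Subgroup (Matrix.symplecticGroup (Fin m) F), MD D ≤ H →
      H = MD D ∨ H = ⊤ := by
  have hD0 : ∀ i, D i ≠ ⊥ := by
    intro i h
    have := hfin i
    rw [h, finrank_bot] at this
    omega
  constructor
  · refine MD_ne_top hD hD0 ⟨0, by omega⟩ ⟨1, by omega⟩ ?_
    intro h
    have := congrArg Fin.val h
    simp at this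
  · intro H hle
    by_cases hH : H ≤ MD D
    · left
      exact le_antisymm hH hle
    right
    obtain ⟨h, hhH, hhM⟩ := SetLike.not_le_iff_exists.mp hH
    have hAD : ∀ i, ∀ x ∈ D i, ∀ c : F, tv x c ∈ H := by
      intro i x hx c
      apply hle
      apply mem_MD_of_maps D k hfin _ 1
      intro j y hy
      rw [act_tv, Equiv.Perm.one_apply]
      by_cases hji : j = i
      · subst hji
        exact (D j).add_mem hy ((D j).smul_mem _ hx)
      · rw [hD.orth j i hji y hy x hx, mul_zero, zero_smul, add_zero]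
        exact hy
    have hinv : ∀ g ∈ H, ∀ x, (∀ c : F, tv x c ∈ H) → ∀ c : F, tv (act g x) c ∈ H := by
      intro g hg x hx c
      rw [← conj_tv]
      exact mul_mem (mul_mem hg (hx c)) (inv_mem hg)
    have hTW : ∀ i, TW (D i) ≤ H := fun i => Cfsg.Agent.S5646.TW_le (D i) H (hAD i)
    obtain ⟨a₀, ha₀, i₂, i₃, h23, h2, h3⟩ :=
      exists_two_comp hD k hfin hD0 H hinv hAD h hhH hhM
    obtain ⟨u₂, hu₂, hu₂0, u₃, hu₃, hu₃0, hu⟩ :=
      pair_seed hD k hfin hex H hTW hinv a₀ ha₀ i₂ i₃ h23 h2 h3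
    obtain ⟨k', hk'⟩ := exists_half (D i₂) (hD.nondeg i₂)
    have hkk : k = 2 * k' := by rw [← hfin i₂]; exact hk'
    have hpair := pair_all hD k k' hfin hkk H hle hTW hinv i₂ i₃ h23 u₂ hu₂ hu₂0 u₃ hu₃ hu₃0 hu
    have hall := (all_of_pairs hD hD0 H hinv hAD hpair Finset.univ).2.2
    apply eq_top_of_tv_mem
    intro w
    apply hall
    have htop : (⨆ i ∈ (Finset.univ : Finset (Fin t)), D i) = ⊤ := by
      simp only [Finset.mem_univ, iSup_pos]
      exact hD.top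
    rw [htop]
    trivial

theorem result {F : Type*} [Field F] [Fintype F] (m : ℕ) (hm : 7 ≤ m) {t : ℕ} (k : ℕ) (D : Fin t → Submodule F (Fin m ⊕ Fin m → F)) (hD : Cfsg.Geo.IsNondegenerateMDecomposition (Cfsg.sympForm m F) k D) (hex : ¬ (k = 2 ∧ Fintype.card F = 2)) : Cfsg.Geo.IsMaximalIn (Cfsg.spGL m F) (Cfsg.Geo.decompositionStabilizer D ⊓ Cfsg.spGL m F) := by
  obtain ⟨h1, h2⟩ := core (ODecomp.of_geo hD) k hD.decomp.finrank_eq hD.decomp.pos
    hD.decomp.two_le hex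
  exact isMaximalIn_of_comap _ h1 h2

end Cfsg.Agent.S5647
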