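import Cfsg.Statements.S5648
import Mathlib
import Cfsg.Agent.S5647

set_option autoImplicit false
open Cfsg

namespace Cfsg.Agent.S5648

open Matrix Cfsg.Agent.Lib.Helper27.SympTransv Cfsg.Agent.S5647

variable {F : Type*} [Field F] {m t : ℕ}

theorem zero_or_one [Fintype F] (hq : Fintype.card F = 2) (a : F) : a = 0 ∨ a = 1 := by
  classical
  by_contra hne
  rw [not_or] at hne
  have hcard : ({0, 1, a} : Finset F).card = 3 := by
    rw [Finset.card_insert_of_notMem, Finset.card_insert_of_notMem, Finset.card_singleton]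
    · rw [Finset.mem_singleton]
      exact fun h => hne.2 h.symm
    · rw [Finset.mem_insert, Finset.mem_singleton, not_or]
      exact ⟨zero_ne_one, fun h => hne.1 h.symm⟩
  have := Finset.card_le_univ ({0, 1, a} : Finset F)
  omega

theorem two_eq_zero [Fintype F] (hq : Fintype.card F = 2) : (1 : F) + 1 = 0 := by
  rcases zero_or_one hq ((1 : F) + 1) with h | h
  · exact h
  · exfalso
    have : (1 : F) = 0 := by
      have h2 : (1 : F) + 1 = 1 + 0 := by rw [h, add_zero]
      exact add_left_cancel h2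
    exact one_ne_zero this

open Classical in
/-- The indicator of being non-zero. -/
noncomputable def ind (z : Fin m ⊕ Fin m → F) : F := if z = 0 then 0 else 1

theorem ind_zero : ind (0 : Fin m ⊕ Fin m → F) = 0 := by
  unfold ind
  rw [if_pos rfl]

theorem ind_of_ne {z : Fin m ⊕ Fin m → F} (hz : z ≠ 0) : ind z = 1 := by
  unfold ind
  rw [if_neg hz]

theorem iso_pair' (v w : Fin m ⊕ Fin m → F) (h : Cfsg.sympForm m F v w = 0) :
    ∀ i i' : Fin 2, Cfsg.sympForm m F (![v, w] i) (![v, w] i') = 0 := by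
  intro i i'
  fin_cases i <;> fin_cases i'
  · exact sf_self v
  · exact h
  · change Cfsg.sympForm m F w v = 0
    rw [sf_swap, h, neg_zero]
  · exact sf_self w

/-- In a non-degenerate plane over the field with two elements, distinct non-zero vectors pair
to one. -/
theorem sf_eq_one [Fintype F] (hq : Fintype.card F = 2) (W : Submodule F (Fin m ⊕ Fin m → F))
    (hW : NondegOn W) (hW2 : Module.finrank F W = 2) (u w : Fin m ⊕ Fin m → F) (hu : u ∈ W)
    (hw : w ∈ W) (hu0 : u ≠ 0) (hw0 : w ≠ 0) (huw : u ≠ w) : sympForm m F u w = 1 := by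
  rcases zero_or_one hq (sympForm m F u w) with h | h
  · exfalso
    have hli : LinearIndependent F ![u, w] := by
      rw [LinearIndependent.pair_iff' hu0]
      intro a
      rcases zero_or_one hq a with ha | ha
      · rw [ha, zero_smul]
        exact fun h0 => hw0 h0.symm
      · rw [ha, one_smul]
        exact huw
    have hspan : Submodule.span F (Set.range ![u, w]) = W := by
      apply Submodule.eq_of_le_of_finrank_eq
      · rw [Submodule.span_le]
        rintro _ ⟨i, rfl⟩
        fin_cases i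
        · exact hu
        · exact hw
      · rw [finrank_span_eq_card hli, Fintype.card_fin, hW2]
    obtain ⟨a, ha, hne⟩ := hW u hu hu0
    apply hne
    rw [← hspan] at ha
    exact isotropic_span ![u, w] (iso_pair' u w h) u (Submodule.subset_span ⟨0, rfl⟩) a ha
  · exact h

theorem ind_add [Fintype F] (hq : Fintype.card F = 2) (W : Submodule F (Fin m ⊕ Fin m → F))
    (hW : NondegOn W) (hW2 : Module.finrank F W = 2) (u w : Fin m ⊕ Fin m → F) (hu : u ∈ W)
    (hw : w ∈ W) : ind (u + w) = ind u + ind w + sympForm m F u w := by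
  have h2 := two_eq_zero hq
  by_cases hu0 : u = 0
  · rw [hu0, zero_add, ind_zero, zero_add, sf_zero_left, add_zero]
  by_cases hw0 : w = 0
  · rw [hw0, add_zero, ind_zero, add_zero, sf_zero_right, add_zero]
  by_cases huw : u = w
  · rw [← huw, sf_self, add_zero, ind_of_ne hu0, h2]
    have : u + u = 0 := by
      have : u + u = ((1 : F) + 1) • u := by rw [add_smul, one_smul]
      rw [this, h2, zero_smul]
    rw [this, ind_zero]
  · have hsum : u + w ≠ 0 := by
      intro h
      apply huw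
      have h3 : w + w = 0 := by
        have : w + w = ((1 : F) + 1) • w := by rw [add_smul, one_smul]
        rw [this, h2, zero_smul]
      have h4 : u + w = w + w := by rw [h, h3]
      exact add_right_cancel h4
    rw [ind_of_ne hsum, ind_of_ne hu0, ind_of_ne hw0, sf_eq_one hq W hW hW2 u w hu hw hu0 hw0 huw,
      h2, zero_add]

/-- The quadratic form attached to the decomposition. -/
noncomputable def Q {D : Fin t → Submodule F (Fin m ⊕ Fin m → F)} (hD : ODecomp D)
    (x : Fin m ⊕ Fin m → F) : F := ∑ l, ind (hD.proj l x)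

theorem Q_add [Fintype F] (hq : Fintype.card F = 2)
    {D : Fin t → Submodule F (Fin m ⊕ Fin m → F)} (hD : ODecomp D)
    (hD2 : ∀ i, Module.finrank F (D i) = 2) (x y : Fin m ⊕ Fin m → F) :
    Q hD (x + y) = Q hD x + Q hD y + sympForm m F x y := by
  unfold Q
  rw [hD.sf_eq_sum x y, ← Finset.sum_add_distrib, ← Finset.sum_add_distrib]
  apply Finset.sum_congr rfl
  intro l _
  rw [map_add]
  exact ind_add hq (D l) (hD.nondeg l) (hD2 l) _ _ (hD.proj_mem l x) (hD.proj_mem l y)

theorem Q_of_mem {D : Fin t → Submodule F (Fin m ⊕ Fin m → F)} (hD : ODecomp D) {i : Fin t}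
    {x : Fin m ⊕ Fin m → F} (hx : x ∈ D i) : Q hD x = ind x := by
  unfold Q
  rw [Finset.sum_eq_single i, hD.proj_of_mem hx]
  · intro l _ hl
    rw [hD.proj_of_mem_ne hl hx, ind_zero]
  · intro hi
    exact absurd (Finset.mem_univ i) hi

/-- The isometry group of `Q` inside the symplectic group. -/
noncomputable def K₀ {D : Fin t → Submodule F (Fin m ⊕ Fin m → F)} (hD : ODecomp D) :
    Subgroup (Matrix.symplecticGroup (Fin m) F) where
  carrier := {g | ∀ x, Q hD (act g x) = Q hD x}
  mul_mem' := by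
    intro a b ha hb x
    rw [act_mul, ha, hb]
  one_mem' := by
    intro x
    rw [act_one]
  inv_mem' := by
    intro a ha x
    have := ha (act a⁻¹ x)
    rw [act_act_inv] at this
    exact this.symm

theorem act_sum {ι : Type*} (g : Matrix.symplecticGroup (Fin m) F) (s : Finset ι)
    (f : ι → (Fin m ⊕ Fin m → F)) : act g (∑ i ∈ s, f i) = ∑ i ∈ s, act g (f i) :=
  map_sum (actL g) f s

theorem MD_le_K₀ {D : Fin t → Submodule F (Fin m ⊕ Fin m → F)} (hD : ODecomp D) :
    MD D ≤ K₀ hD := by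
  intro g hg x
  obtain ⟨σ, hσ⟩ := MD_maps D g hg
  have hproj : ∀ l, hD.proj (σ l) (act g x) = act g (hD.proj l x) := by
    intro l
    conv_lhs => rw [← hD.sum_proj x, act_sum, map_sum]
    rw [Finset.sum_eq_single l]
    · exact hD.proj_of_mem (hσ l _ (hD.proj_mem l x))
    · intro j _ hj
      exact hD.proj_of_mem_ne (fun h => hj (σ.injective h).symm) (hσ j _ (hD.proj_mem j x))
    · intro hl
      exact absurd (Finset.mem_univ l) hl
  unfold Q
  rw [← Equiv.sum_comp σ]
  apply Finset.sum_congr rfl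
  intro l _
  rw [hproj]
  by_cases h0 : hD.proj l x = 0
  · rw [h0, act_zero]
  · rw [ind_of_ne h0, ind_of_ne (Cfsg.Agent.S0768.act_ne_zero g _ h0)]

theorem finrank_le_card {D : Fin t → Submodule F (Fin m ⊕ Fin m → F)}
    (hD2 : ∀ i, Module.finrank F (D i) = 2) (S : Finset (Fin t)) :
    Module.finrank F ↥(⨆ i ∈ S, D i) ≤ 2 * S.card := by
  classical
  induction S using Finset.induction_on with
  | empty =>
    have h0 : (⨆ i ∈ (∅ : Finset (Fin t)), D i) = ⊥ := by simp
    rw [h0, finrank_bot]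
    exact Nat.zero_le _
  | insert j S hj ih =>
    rw [Finset.iSup_insert, Finset.card_insert_of_notMem hj]
    have := Submodule.finrank_add_le_finrank_add_finrank (D j) (⨆ i ∈ S, D i)
    rw [hD2 j] at this
    omega

theorem main [Fintype F] (hq : Fintype.card F = 2) (hm : 3 ≤ m)
    {D : Fin t → Submodule F (Fin m ⊕ Fin m → F)} (hD : ODecomp D)
    (hD2 : ∀ i, Module.finrank F (D i) = 2) :
    MD D < K₀ hD ∧ K₀ hD < ⊤ := by
  have h2 := two_eq_zero hq
  have ht : 3 ≤ t := by
    have h1 := finrank_le_card hD2 (Finset.univ : Finset (Fin t))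
    have htop : (⨆ i ∈ (Finset.univ : Finset (Fin t)), D i) = ⊤ := by
      simp only [Finset.mem_univ, iSup_pos]
      exact hD.top
    rw [htop, finrank_top, finrank_space, Finset.card_univ, Fintype.card_fin] at h1
    omega
  have hD0 : ∀ i, D i ≠ ⊥ := by
    intro i h
    have := hD2 i
    rw [h, finrank_bot] at this
    omega
  set i₀ : Fin t := ⟨0, by omega⟩ with hi₀
  set i₁ : Fin t := ⟨1, by omega⟩ with hi₁
  set i₂ : Fin t := ⟨2, by omega⟩ with hi₂
  have h01 : i₀ ≠ i₁ := by
    intro h; have := congrArg Fin.val h; simp [hi₀, hi₁] at this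
  have h02 : i₀ ≠ i₂ := by
    intro h; have := congrArg Fin.val h; simp [hi₀, hi₂] at this
  have h12 : i₁ ≠ i₂ := by
    intro h; have := congrArg Fin.val h; simp [hi₁, hi₂] at this
  obtain ⟨x₀, hx₀, hx₀0⟩ := Submodule.exists_mem_ne_zero_of_ne_bot (hD0 i₀)
  obtain ⟨x₁, hx₁, hx₁0⟩ := Submodule.exists_mem_ne_zero_of_ne_bot (hD0 i₁)
  obtain ⟨x₂, hx₂, hx₂0⟩ := Submodule.exists_mem_ne_zero_of_ne_bot (hD0 i₂)
  obtain ⟨b, hb, hbne⟩ := hD.nondeg i₀ x₀ hx₀ hx₀0
  have hb1 : sympForm m F b x₀ = 1 := by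
    rcases zero_or_one hq (sympForm m F b x₀) with h | h
    · exfalso
      apply hbne
      rw [sf_swap, h, neg_zero]
    · exact h
  have hQx₀ : Q hD x₀ = 1 := by rw [Q_of_mem hD hx₀, ind_of_ne hx₀0]
  have hQx₁ : Q hD x₁ = 1 := by rw [Q_of_mem hD hx₁, ind_of_ne hx₁0]
  have hQx₂ : Q hD x₂ = 1 := by rw [Q_of_mem hD hx₂, ind_of_ne hx₂0]
  have hQ01 : Q hD (x₀ + x₁) = 0 := by
    rw [Q_add hq hD hD2, hQx₀, hQx₁, hD.orth i₀ i₁ h01 x₀ hx₀ x₁ hx₁, add_zero, h2]
  have hQ012 : Q hD (x₀ + x₁ + x₂) = 1 := by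
    rw [Q_add hq hD hD2, hQ01, hQx₂, sf_add_left, hD.orth i₀ i₂ h02 x₀ hx₀ x₂ hx₂,
      hD.orth i₁ i₂ h12 x₁ hx₁ x₂ hx₂, add_zero, add_zero, zero_add]
  have hdisj : ∀ (i : Fin t) (x : Fin m ⊕ Fin m → F), x ∈ D i → x ∈ perp (D i) → x = 0 :=
    fun i x => Cfsg.Agent.S5646.disj (D i) (hD.nondeg i) x
  constructor
  · -- `MD D < K₀`
    refine lt_of_le_of_ne (MD_le_K₀ hD) ?_
    intro heq
    set v := x₀ + x₁ + x₂ with hv
    have hrK : tv v 1 ∈ K₀ hD := by
      intro x
      rw [act_tv, one_mul]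
      rcases zero_or_one hq (sympForm m F x v) with h | h
      · rw [h, zero_smul, add_zero]
      · rw [h, one_smul, Q_add hq hD hD2, hQ012, h, add_assoc, h2, add_zero]
    rw [← heq] at hrK
    obtain ⟨σ, hσ⟩ := MD_maps D _ hrK
    have h1 := hσ i₀ b hb
    have hbv : sympForm m F b v = 1 := by
      rw [hv, sf_add_right, sf_add_right, hb1, hD.orth i₀ i₁ h01 b hb x₁ hx₁,
        hD.orth i₀ i₂ h02 b hb x₂ hx₂, add_zero, add_zero]
    rw [act_tv, one_mul, hbv, one_smul] at h1
    refine not_mem_of_two hD h12 ?_ ?_ (σ i₀) h1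
    · intro hp
      apply hx₁0
      apply hdisj i₁ x₁ hx₁
      have h3 : x₁ = (b + v) - (b + x₀) - x₂ := by rw [hv]; abel
      rw [h3]
      exact (perp (D i₁)).sub_mem ((perp (D i₁)).sub_mem hp
        (hD.le_perp h01 ((D i₀).add_mem hb hx₀))) (hD.le_perp (Ne.symm h12) hx₂)
    · intro hp
      apply hx₂0
      apply hdisj i₂ x₂ hx₂
      have h3 : x₂ = (b + v) - (b + x₀) - x₁ := by rw [hv]; abel
      rw [h3]
      exact (perp (D i₂)).sub_mem ((perp (D i₂)).sub_mem hp
        (hD.le_perp h02 ((D i₀).add_mem hb hx₀))) (hD.le_perp h12 hx₁)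
  · -- `K₀ < ⊤`
    refine lt_of_le_of_ne le_top ?_
    intro heq
    have hmem : tv (x₀ + x₁) 1 ∈ K₀ hD := by rw [heq]; trivial
    have h1 := hmem b
    have hbv : sympForm m F b (x₀ + x₁) = 1 := by
      rw [sf_add_right, hb1, hD.orth i₀ i₁ h01 b hb x₁ hx₁, add_zero]
    rw [act_tv, one_mul, hbv, one_smul, Q_add hq hD hD2, hQ01, hbv, add_zero] at h1
    have : (1 : F) = 0 := by
      have h3 : Q hD b + 1 = Q hD b + 0 := by rw [h1, add_zero]
      exact add_left_cancel h3
    exact one_ne_zero this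

theorem spHom_injective : Function.Injective (spHom (F := F) (m := m)) := by
  intro a b hab
  apply Subtype.ext
  have := congrArg (fun g : Matrix.GeneralLinearGroup (Fin m ⊕ Fin m) F =>
    (g : Matrix (Fin m ⊕ Fin m) (Fin m ⊕ Fin m) F)) hab
  exact this

theorem result {F : Type*} [Field F] [Fintype F] (m : ℕ) (hm : 7 ≤ m) (hq : Fintype.card F = 2) {t : ℕ} (D : Fin t → Submodule F (Fin m ⊕ Fin m → F)) (hD : Cfsg.Geo.IsNondegenerateMDecomposition (Cfsg.sympForm m F) 2 D) : ∃ K : Subgroup (Matrix.GeneralLinearGroup (Fin m ⊕ Fin m) F), Cfsg.Geo.decompositionStabilizer D ⊓ Cfsg.spGL m F < K ∧ K < Cfsg.spGL m F := by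
  have hD' := ODecomp.of_geo hD
  obtain ⟨h1, h2⟩ := main hq (by omega) hD' hD.decomp.finrank_eq
  refine ⟨(K₀ hD').map spHom, ?_, ?_⟩
  · have e : Cfsg.Geo.decompositionStabilizer D ⊓ Cfsg.spGL m F = (MD D).map spHom := by
      unfold MD
      rw [Subgroup.map_comap_eq, spHom_range, inf_comm]
    rw [e]
    exact (Subgroup.map_lt_map_iff_of_injective spHom_injective).mpr h1
  · have e : Cfsg.spGL m F = (⊤ : Subgroup (Matrix.symplecticGroup (Fin m) F)).map spHom := by
      rw [← spHom_range, MonoidHom.range_eq_map]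
    rw [e]
    exact (Subgroup.map_lt_map_iff_of_injective spHom_injective).mpr h2

end Cfsg.Agent.S5648
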