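import Cfsg.Statements.S5652
import Cfsg.Agent.Lib.Helper24.OrthInSp

set_option autoImplicit false
open Cfsg

namespace Cfsg.Agent.S5652

/-- For a finite field F of characteristic two and m ≥ 7, let Q be a non-degenerate quadratic form on F^(2m) whose polar form is the standard alternating form. Then the elements of Sp_2m(F) that are similarities of Q (they are exactly the isometries of Q) form a maximal subgroup of Sp_2m(F). -/
theorem result {F : Type*} [Field F] [Fintype F] (m : ℕ) (hm : 7 ≤ m) (heven : ¬ Odd (Fintype.card F)) (Q : (Fin m ⊕ Fin m → F) → F) (hQ : Cfsg.Geo.IsNondegenerateQuadraticForm Q) (hpol : ∀ u v, QuadraticMap.polar Q u v = Cfsg.sympForm m F u v) : Cfsg.Geo.IsMaximalIn (Cfsg.spGL m F) (Cfsg.Geo.quadSimilarityGroup Q ⊓ Cfsg.spGL m F) := by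
  classical
  -- characteristic two
  have h2 : (2 : F) = 0 := by
    obtain ⟨p, hp⟩ := CharP.exists F
    haveI := hp
    obtain ⟨n, hpp, hcard⟩ := FiniteField.card F p
    have hev : Even (Fintype.card F) := Nat.not_odd_iff_even.mp heven
    rw [hcard] at hev
    have hpe : Even p := (Nat.even_pow.mp hev).1
    have hp2 : p = 2 := (Nat.Prime.even_iff hpp).mp hpe
    subst hp2
    exact_mod_cast CharP.cast_eq_zero F 2
  have hQd : Cfsg.Agent.Lib.Helper24.OrthInSp.QData Q := by
    refine ⟨h2, hQ.smul, ?_, ?_⟩
    · intro u v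
      have := hpol u v
      unfold QuadraticMap.polar at this
      linear_combination this
    · intro x
      have hinj : Function.Injective (fun y : F => y ^ 2) := by
        intro a b hab
        have hab' : a ^ 2 = b ^ 2 := hab
        have : (a - b) ^ 2 = 0 := by linear_combination hab' - (a * b - b ^ 2) * h2
        exact sub_eq_zero.mp (pow_eq_zero_iff (two_ne_zero) |>.mp this)
      exact (Finite.injective_iff_surjective.mp hinj) x
  exact Cfsg.Agent.Lib.Helper27.SympTransv.isMaximalIn_of_comap (Cfsg.Geo.quadSimilarityGroup Q)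
    (Cfsg.Agent.Lib.Helper24.OrthInSp.Hs_ne_top hQd (by omega))
    (fun H hH => Cfsg.Agent.Lib.Helper24.OrthInSp.Hs_maximal hQd (by omega) H hH)

end Cfsg.Agent.S5652
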