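import Cfsg.Statements.S5654
import Mathlib
import Cfsg.Agent.Lib.Helper27.UMax

set_option autoImplicit false
open Cfsg

namespace Cfsg.Agent.S5654

open Cfsg.Agent.Lib.Helper27.Unitary Cfsg.Agent.Lib.Helper27.GLStab Matrix

variable {F : Type*} [Field F] [Fintype F] {q n : ℕ}

theorem mem_stabW_of_maps (W : Submodule F (Fin n → F)) (g : GL (Fin n) F)
    (h : ∀ v ∈ W, gact g v ∈ W) : g ∈ Cfsg.Geo.subspaceStabilizer W :=
  mem_stab_of_maps W g h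

theorem stabW_maps {W : Submodule F (Fin n → F)} {g : GL (Fin n) F}
    (hg : g ∈ Cfsg.Geo.subspaceStabilizer W) {v : Fin n → F} (hv : v ∈ W) : gact g v ∈ W :=
  stab_maps hg hv

/-- The stabiliser of `W` in `SU_n` is transitive on pairs of non-zero vectors of `W` and `W^⊥` of
given norms. -/
theorem orbit_mixed (hF : Fintype.card F = q ^ 2) {W : Submodule F (Fin n → F)}
    (hW : UNondeg q W) (hdimU : 3 ≤ Module.finrank F (uperp q W)) {b₁ w₁ b₂ w₂ : Fin n → F}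
    (hb₁ : b₁ ∈ W) (hw₁ : w₁ ∈ W) (hb₁0 : b₁ ≠ 0) (hw₁0 : w₁ ≠ 0)
    (h₁ : hermForm n F q b₁ b₁ = hermForm n F q w₁ w₁)
    (hb₂ : b₂ ∈ uperp q W) (hw₂ : w₂ ∈ uperp q W) (hb₂0 : b₂ ≠ 0) (hw₂0 : w₂ ≠ 0)
    (h₂ : hermForm n F q b₂ b₂ = hermForm n F q w₂ w₂) :
    ∃ g : GL (Fin n) F, g ∈ Cfsg.Geo.subspaceStabilizer W ⊓
        (GU n F q ⊓ Cfsg.Geo.specialLinear (Fin n) F) ∧ gact g b₁ = w₁ ∧ gact g b₂ = w₂ := by
  have hU : UNondeg q (uperp q W) := unondeg_uperp hF hW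
  obtain ⟨g₁, hg₁, hg₁b, hg₁fix, hg₁W⟩ := witt_rel hF hW hb₁ hw₁ hb₁0 hw₁0 h₁
  obtain ⟨g₂, hg₂, hg₂b, hg₂fix, -⟩ := witt_rel hF hU hb₂ hw₂ hb₂0 hw₂0 h₂
  rw [uperp_uperp hF] at hg₂fix
  obtain ⟨z, hzU, hzz, hwz⟩ := exists_norm_perp_in hF hU hdimU hw₂ 1 (one_pow q) one_ne_zero
  have hzz0 : hermForm n F q z z ≠ 0 := by rw [hzz]; exact one_ne_zero
  obtain ⟨δ, hδ⟩ : ∃ δ : F, δ = ((g₂ * g₁ : GL (Fin n) F) : Matrix (Fin n) (Fin n) F).det :=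
    ⟨_, rfl⟩
  have hδN : δ * δ ^ q = 1 := by rw [hδ]; exact GU_det hF (mul_mem hg₂ hg₁)
  have hδ0 : δ ≠ 0 := by
    rintro rfl
    rw [zero_mul] at hδN
    exact zero_ne_one hδN
  have hδinv : δ⁻¹ * (δ⁻¹) ^ q = 1 := by
    rw [cj_inv, ← mul_inv, hδN, inv_one]
  obtain ⟨r, hr, hrdet, hrx⟩ := exists_qr hF z hzz0 δ⁻¹ hδinv
  have hrW : ∀ y ∈ W, gact r y = y := by
    intro y hy
    rw [hrx, (mem_uperp' hF).mp hzU y hy, mul_zero, zero_smul, add_zero]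
  refine ⟨r * (g₂ * g₁), ⟨?_, ?_⟩, ?_, ?_⟩
  · apply mem_stabW_of_maps
    intro y hy
    rw [gact_mul, gact_mul, hg₂fix _ (hg₁W y hy), hrW _ (hg₁W y hy)]
    exact hg₁W y hy
  · change r * (g₂ * g₁) ∈ GU n F q ⊓ Cfsg.Geo.specialLinear (Fin n) F
    rw [mem_SUg_iff]
    refine ⟨mul_mem hr (mul_mem hg₂ hg₁), ?_⟩
    rw [Units.val_mul, Matrix.det_mul, hrdet, ← hδ, inv_mul_cancel₀ hδ0]
  · rw [gact_mul, gact_mul, hg₁b, hg₂fix w₁ hw₁, hrW w₁ hw₁]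
  · rw [gact_mul, gact_mul, hg₁fix b₂ hb₂, hg₂b, hrx, hwz, mul_zero, zero_smul, add_zero]

theorem cross {W : Submodule F (Fin n → F)} (hF : Fintype.card F = q ^ 2) {x₁ x₂ : Fin n → F}
    (h₁ : x₁ ∈ W) (h₂ : x₂ ∈ uperp q W) :
    hermForm n F q x₁ x₂ = 0 ∧ hermForm n F q x₂ x₁ = 0 :=
  ⟨(mem_uperp' hF).mp h₂ x₁ h₁, h₂ x₁ h₁⟩

theorem A_W (hF : Fintype.card F = q ^ 2) {W : Submodule F (Fin n → F)}
    {H : Subgroup (GL (Fin n) F)}
    (hPH : Cfsg.Geo.subspaceStabilizer W ⊓ (GU n F q ⊓ Cfsg.Geo.specialLinear (Fin n) F) ≤ H)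
    {x : Fin n → F} (hx : x ∈ W) (hxx : hermForm n F q x x = 0) : x ∈ ASet q H := by
  refine ⟨hxx, fun c hc => hPH ⟨?_, tv_mem_SUg hF x hc⟩⟩
  apply mem_stabW_of_maps
  intro y hy
  rw [tv_gact hxx]
  exact W.add_mem hy (W.smul_mem _ hx)

theorem A_U (hF : Fintype.card F = q ^ 2) {W : Submodule F (Fin n → F)}
    {H : Subgroup (GL (Fin n) F)}
    (hPH : Cfsg.Geo.subspaceStabilizer W ⊓ (GU n F q ⊓ Cfsg.Geo.specialLinear (Fin n) F) ≤ H)
    {x : Fin n → F} (hx : x ∈ uperp q W) (hxx : hermForm n F q x x = 0) : x ∈ ASet q H := by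
  refine ⟨hxx, fun c hc => hPH ⟨?_, tv_mem_SUg hF x hc⟩⟩
  apply mem_stabW_of_maps
  intro y hy
  rw [tv_gact hxx, (cross hF hy hx).1, mul_zero, zero_smul, add_zero]
  exact hy

/-- A pair of non-zero vectors of `W` and `W^⊥` of opposite norms. -/
def Mixed (q : ℕ) (W : Submodule F (Fin n → F)) (a : F) (x₁ x₂ : Fin n → F) : Prop :=
  x₁ ∈ W ∧ x₂ ∈ uperp q W ∧ x₁ ≠ 0 ∧ x₂ ≠ 0 ∧ hermForm n F q x₁ x₁ = a ∧
    hermForm n F q x₂ x₂ = -a

theorem Mixed.iso (hF : Fintype.card F = q ^ 2) {W : Submodule F (Fin n → F)} {a : F}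
    {x₁ x₂ : Fin n → F} (h : Mixed q W a x₁ x₂) :
    hermForm n F q (x₁ + x₂) (x₁ + x₂) = 0 := by
  obtain ⟨h₁, h₂, -, -, e₁, e₂⟩ := h
  rw [hf_add_self hF, e₁, e₂, (cross hF h₁ h₂).1, cj_zero hF]
  ring

theorem orbitA (hF : Fintype.card F = q ^ 2) {W : Submodule F (Fin n → F)}
    (hW : UNondeg q W) (hdimU : 3 ≤ Module.finrank F (uperp q W))
    {H : Subgroup (GL (Fin n) F)}
    (hPH : Cfsg.Geo.subspaceStabilizer W ⊓ (GU n F q ⊓ Cfsg.Geo.specialLinear (Fin n) F) ≤ H)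
    (hHG : H ≤ GU n F q ⊓ Cfsg.Geo.specialLinear (Fin n) F) {a : F} {b₁ b₂ : Fin n → F}
    (hb : Mixed q W a b₁ b₂) (hbA : b₁ + b₂ ∈ ASet q H) (l : F) (hl : l ≠ 0)
    {w₁ w₂ : Fin n → F} (hw : Mixed q W (l * l ^ q * a) w₁ w₂) : w₁ + w₂ ∈ ASet q H := by
  obtain ⟨hb₁, hb₂, hb₁0, hb₂0, e₁, e₂⟩ := hb
  obtain ⟨hw₁, hw₂, hw₁0, hw₂0, f₁, f₂⟩ := hw
  obtain ⟨g, hg, hg₁, hg₂⟩ := orbit_mixed hF hW hdimU (W.smul_mem l hb₁) hw₁
    (smul_ne_zero hl hb₁0) hw₁0 (by rw [hf_smul_self, e₁, f₁])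
    ((uperp q W).smul_mem l hb₂) hw₂ (smul_ne_zero hl hb₂0) hw₂0
    (by rw [hf_smul_self, e₂, f₂]; ring)
  have hHU : H ≤ GU n F q := fun x hx => (hHG hx).1
  have := ASet_gact hF hHU (hPH hg) (ASet_smul hF hbA l)
  rw [smul_add, gact_add, hg₁, hg₂] at this
  exact this

theorem type1_to_0 (hF : Fintype.card F = q ^ 2) {W : Submodule F (Fin n → F)}
    (hW : UNondeg q W) (hdimU : 3 ≤ Module.finrank F (uperp q W))
    {H : Subgroup (GL (Fin n) F)}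
    (hHG : H ≤ GU n F q ⊓ Cfsg.Geo.specialLinear (Fin n) F)
    (h1 : ∀ (a' : F) (x₁ x₂ : Fin n → F), a' ≠ 0 → Mixed q W a' x₁ x₂ → x₁ + x₂ ∈ ASet q H)
    {w₁ w₂ : Fin n → F} (hw : Mixed q W 0 w₁ w₂) : w₁ + w₂ ∈ ASet q H := by
  have hwiso := hw.iso hF
  obtain ⟨hw₁, hw₂, hw₁0, hw₂0, f₁, f₂⟩ := hw
  rw [neg_zero] at f₂
  have hHU : H ≤ GU n F q := fun x hx => (hHG hx).1
  have hU : UNondeg q (uperp q W) := unondeg_uperp hF hW
  have : ∃ z ∈ W, hermForm n F q w₁ z ≠ 0 := by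
    by_contra hne
    apply hw₁0
    apply hW w₁ hw₁
    intro y hy
    by_contra h
    exact hne ⟨y, hy, h⟩
  obtain ⟨z, hz, hwz⟩ := this
  obtain ⟨t, ht⟩ : ∃ t : F, t = hermForm n F q z w₁ := ⟨_, rfl⟩
  have ht' : t = (hermForm n F q w₁ z) ^ q := by rw [ht]; exact hf_swap hF w₁ z
  have ht0 : t ≠ 0 := by
    rw [ht']
    exact fun h => hwz ((cj_eq_zero hF).mp h)
  obtain ⟨σ, hσ⟩ := tr_surj hF (1 - hermForm n F q z z)
    (by rw [cj_sub hF, one_pow, hf_self_fixed hF])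
  obtain ⟨l, hl⟩ : ∃ l : F, l = (σ / t) ^ q := ⟨_, rfl⟩
  have hlq : l ^ q * t = σ := by rw [hl, cj_cj hF, div_mul_cancel₀ _ ht0]
  obtain ⟨x₁, hx₁⟩ : ∃ x₁ : Fin n → F, x₁ = z + l • w₁ := ⟨_, rfl⟩
  have hx₁W : x₁ ∈ W := by rw [hx₁]; exact W.add_mem hz (W.smul_mem _ hw₁)
  have hx₁n : hermForm n F q x₁ x₁ = 1 := by
    rw [hx₁, hf_add_self hF, hf_smul_self, f₁, hf_smul_right, ← ht, hlq]
    linear_combination hσ
  obtain ⟨s₁, hs₁⟩ : ∃ s₁ : F, s₁ = hermForm n F q w₁ x₁ := ⟨_, rfl⟩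
  have hs₁' : s₁ = hermForm n F q w₁ z := by
    rw [hs₁, hx₁, hf_add_right hF, hf_smul_right, f₁, mul_zero, add_zero]
  have hs₁0 : s₁ ≠ 0 := by rw [hs₁']; exact hwz
  have hs₁q : hermForm n F q x₁ w₁ = s₁ ^ q := by rw [hs₁]; exact hf_swap hF w₁ x₁
  obtain ⟨x₂, hx₂U, hx₂n, hwx₂⟩ := exists_norm_perp_in hF hU hdimU hw₂ (-1)
    (by rw [cj_neg hF, one_pow]) (neg_ne_zero.mpr one_ne_zero)
  have hx₂w : hermForm n F q x₂ w₂ = 0 := hf_eq_zero_swap hF hwx₂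
  have hx₁0 : x₁ ≠ 0 := by
    rintro rfl
    rw [hf_zero_left] at hx₁n
    exact zero_ne_one hx₁n
  have hx₂0 : x₂ ≠ 0 := by
    rintro rfl
    rw [hf_zero_left] at hx₂n
    exact one_ne_zero (neg_eq_zero.mp hx₂n.symm)
  have hxA : x₁ + x₂ ∈ ASet q H :=
    h1 1 x₁ x₂ one_ne_zero ⟨hx₁W, hx₂U, hx₁0, hx₂0, hx₁n, hx₂n⟩
  obtain ⟨θ, hθ0, hθ⟩ := exists_theta hF
  obtain ⟨μ, hμ⟩ : ∃ μ : F, μ = (θ / s₁) ^ q := ⟨_, rfl⟩
  have hμq : μ ^ q * s₁ = θ := by rw [hμ, cj_cj hF, div_mul_cancel₀ _ hs₁0]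
  have hμ0 : μ ≠ 0 := by
    rintro rfl
    rw [zero_pow (by have := two_le_q hF; omega), zero_mul] at hμq
    exact hθ0 hμq.symm
  have hμq' : μ * s₁ ^ q = θ ^ q := by
    rw [← hμq, mul_pow, cj_cj hF]
  have hN0 : μ * μ ^ q ≠ 0 := mul_ne_zero hμ0 (pow_ne_zero _ hμ0)
  have c1 := cross hF hw₁ hx₂U
  have c2 := cross hF hx₁W hw₂
  have c3 := cross hF hx₁W hx₂U
  have c4 := cross hF hw₁ hw₂
  have hx₁'n : hermForm n F q (w₁ - μ • x₁) (w₁ - μ • x₁) = μ * μ ^ q := by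
    rw [hf_sub_left, hf_sub_right hF, hf_sub_right hF, hf_smul_left, hf_smul_left, hf_smul_right,
      hf_smul_right, f₁, ← hs₁, hs₁q, hx₁n]
    linear_combination (-1 : F) * hμq - hμq' - hθ
  have hx₂'n : hermForm n F q (w₂ - μ • x₂) (w₂ - μ • x₂) = -(μ * μ ^ q) := by
    rw [hf_sub_left, hf_sub_right hF, hf_sub_right hF, hf_smul_left, hf_smul_left, hf_smul_right,
      hf_smul_right, f₂, hwx₂, hx₂w, hx₂n]
    ring
  have hx₁'0 : w₁ - μ • x₁ ≠ 0 := by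
    intro h
    rw [h, hf_zero_left] at hx₁'n
    exact hN0 hx₁'n.symm
  have hx₂'0 : w₂ - μ • x₂ ≠ 0 := by
    intro h
    rw [h, hf_zero_left] at hx₂'n
    exact hN0 (neg_eq_zero.mp hx₂'n.symm)
  have hx'A : (w₁ - μ • x₁) + (w₂ - μ • x₂) ∈ ASet q H :=
    h1 (μ * μ ^ q) _ _ hN0 ⟨W.sub_mem hw₁ (W.smul_mem _ hx₁W),
      (uperp q W).sub_mem hw₂ ((uperp q W).smul_mem _ hx₂U), hx₁'0, hx₂'0, hx₁'n, hx₂'n⟩
  have hpair : hermForm n F q ((w₁ - μ • x₁) + (w₂ - μ • x₂)) (x₁ + x₂) = s₁ := by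
    rw [hf_add_left, hf_add_right hF, hf_add_right hF, hf_sub_left, hf_sub_left, hf_sub_left,
      hf_sub_left, hf_smul_left, hf_smul_left, hf_smul_left, hf_smul_left, ← hs₁, hx₁n, c1.1,
      c3.1, c2.2, c3.2, hwx₂, hx₂n]
    ring
  have hsum : w₁ + w₂ = ((w₁ - μ • x₁) + (w₂ - μ • x₂)) + μ • (x₁ + x₂) := by module
  rw [hsum]
  apply ASet_line hF hHU hxA hx'A μ
  · rw [← hsum]
    exact hwiso
  · rw [hpair]
    exact hs₁0

theorem exists_partner_in (hF : Fintype.card F = q ^ 2) {S : Submodule F (Fin n → F)}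
    (hS : UNondeg q S) {b : Fin n → F} (hb : b ∈ S) (hb0 : b ≠ 0)
    (hbb : hermForm n F q b b = 0) : ∃ p ∈ S, HypPair q b p := by
  have : ∃ y ∈ S, hermForm n F q b y ≠ 0 := by
    by_contra hne
    apply hb0
    apply hS b hb
    intro y hy
    by_contra h
    exact hne ⟨y, hy, h⟩
  obtain ⟨y, hy, hby⟩ := this
  obtain ⟨α, β, hff, hef⟩ := exists_partner hF b y hbb hby
  exact ⟨α • b + β • y, S.add_mem (S.smul_mem _ hb) (S.smul_mem _ hy), hbb, hff, hef⟩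

theorem type0_to_1 (hF : Fintype.card F = q ^ 2) {W : Submodule F (Fin n → F)}
    (hW : UNondeg q W) {H : Subgroup (GL (Fin n) F)}
    (hHG : H ≤ GU n F q ⊓ Cfsg.Geo.specialLinear (Fin n) F)
    (h0 : ∀ (x₁ x₂ : Fin n → F), Mixed q W 0 x₁ x₂ → x₁ + x₂ ∈ ASet q H)
    {b₁ b₂ : Fin n → F} (hb : Mixed q W 0 b₁ b₂) :
    ∃ x₁ x₂ : Fin n → F, Mixed q W 1 x₁ x₂ ∧ x₁ + x₂ ∈ ASet q H := by
  have hxA := h0 b₁ b₂ hb
  obtain ⟨hb₁, hb₂, hb₁0, hb₂0, f₁, f₂⟩ := hb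
  rw [neg_zero] at f₂
  have hHU : H ≤ GU n F q := fun x hx => (hHG hx).1
  have hU : UNondeg q (uperp q W) := unondeg_uperp hF hW
  obtain ⟨p₁, hp₁W, hp₁⟩ := exists_partner_in hF hW hb₁ hb₁0 f₁
  obtain ⟨p₂, hp₂U, hp₂⟩ := exists_partner_in hF hU hb₂ hb₂0 f₂
  obtain ⟨μ, hμ⟩ := tr_surj hF (1 : F) (one_pow q)
  obtain ⟨θ, hθ0, hθ⟩ := exists_theta hF
  have hq0 : q ≠ 0 := by have := two_le_q hF; omega
  have hμ0 : μ ≠ 0 := by
    rintro rfl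
    rw [zero_pow hq0, add_zero] at hμ
    exact zero_ne_one hμ
  have hμq0 : μ ^ q ≠ 0 := pow_ne_zero _ hμ0
  obtain ⟨ρ, hρ⟩ : ∃ ρ : F, ρ = θ / μ ^ q - 1 := ⟨_, rfl⟩
  have hρμ : ρ * μ ^ q = θ - μ ^ q := by
    rw [hρ, sub_mul, div_mul_cancel₀ _ hμq0, one_mul]
  have hρμ' : ρ ^ q * μ = θ ^ q - μ := by
    have := congrArg (fun x => x ^ q) hρμ
    simp only [mul_pow, cj_sub hF, cj_cj hF] at this
    exact this
  have hρ0 : ρ ≠ 0 := by
    rintro rfl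
    rw [zero_mul] at hρμ
    have h1 : θ = μ ^ q := sub_eq_zero.mp hρμ.symm
    rw [h1, cj_cj hF, add_comm, hμ] at hθ
    exact one_ne_zero hθ
  have hx'A : p₁ + ρ • p₂ ∈ ASet q H := by
    apply h0
    refine ⟨hp₁W, (uperp q W).smul_mem _ hp₂U, hp₁.ne_zero_right hF,
      smul_ne_zero hρ0 (hp₂.ne_zero_right hF), hp₁.ff, ?_⟩
    rw [hf_smul_self, hp₂.ff, mul_zero, neg_zero]
  have hy₁n : hermForm n F q (μ • b₁ + (1 : F) • p₁) (μ • b₁ + (1 : F) • p₁) = 1 := by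
    rw [hp₁.form hF, one_pow]
    linear_combination hμ
  have hy₂n : hermForm n F q (μ • b₂ + ρ • p₂) (μ • b₂ + ρ • p₂) = -1 := by
    rw [hp₂.form hF]
    linear_combination hρμ + hρμ' + hθ - hμ
  rw [one_smul] at hy₁n
  have hy₁0 : μ • b₁ + p₁ ≠ 0 := by
    intro h
    rw [h, hf_zero_left] at hy₁n
    exact zero_ne_one hy₁n
  have hy₂0 : μ • b₂ + ρ • p₂ ≠ 0 := by
    intro h
    rw [h, hf_zero_left] at hy₂n
    exact one_ne_zero (neg_eq_zero.mp hy₂n.symm)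
  have hmix : Mixed q W 1 (μ • b₁ + p₁) (μ • b₂ + ρ • p₂) :=
    ⟨W.add_mem (W.smul_mem _ hb₁) hp₁W,
      (uperp q W).add_mem ((uperp q W).smul_mem _ hb₂) ((uperp q W).smul_mem _ hp₂U),
      hy₁0, hy₂0, hy₁n, hy₂n⟩
  refine ⟨_, _, hmix, ?_⟩
  have c1 := cross hF hp₁W hb₂
  have c2 := cross hF hb₁ hp₂U
  have hpair : hermForm n F q (p₁ + ρ • p₂) (b₁ + b₂) = θ / μ ^ q := by
    rw [hf_add_left, hf_add_right hF, hf_add_right hF, hf_smul_left, hf_smul_left, hp₁.fe hF,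
      hp₂.fe hF, c1.1, c2.2, hρ]
    ring
  have hsum : (μ • b₁ + p₁) + (μ • b₂ + ρ • p₂) = (p₁ + ρ • p₂) + μ • (b₁ + b₂) := by module
  rw [hsum]
  apply ASet_line hF hHU hxA hx'A μ
  · rw [← hsum]
    exact hmix.iso hF
  · rw [hpair]
    exact div_ne_zero hθ0 hμq0

theorem key (hF : Fintype.card F = q ^ 2) {W : Submodule F (Fin n → F)}
    (hW : UNondeg q W) (hdim : Module.finrank F W < Module.finrank F (uperp q W))
    (hdimU : 2 ≤ Module.finrank F (uperp q W)) {H : Subgroup (GL (Fin n) F)}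
    (hPH : Cfsg.Geo.subspaceStabilizer W ⊓ (GU n F q ⊓ Cfsg.Geo.specialLinear (Fin n) F) ≤ H)
    (hHG : H ≤ GU n F q ⊓ Cfsg.Geo.specialLinear (Fin n) F)
    (hne : ¬ H ≤ Cfsg.Geo.subspaceStabilizer W ⊓
      (GU n F q ⊓ Cfsg.Geo.specialLinear (Fin n) F)) :
    ∃ (b₁ b₂ : Fin n → F) (a : F), Mixed q W a b₁ b₂ ∧ b₁ + b₂ ∈ ASet q H := by
  by_contra hno
  have hHU : H ≤ GU n F q := fun x hx => (hHG hx).1
  have hU : UNondeg q (uperp q W) := unondeg_uperp hF hW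
  have hAuni : ∀ x ∈ ASet q H, x ∈ W ∨ x ∈ uperp q W := by
    intro x hx
    obtain ⟨x₁, hx₁, x₂, hx₂, rfl⟩ := exists_decomp hF hW x
    by_cases h1 : x₁ = 0
    · right
      rw [h1, zero_add]; exact hx₂
    by_cases h2 : x₂ = 0
    · left
      rw [h2, add_zero]; exact hx₁
    exfalso
    apply hno
    refine ⟨x₁, x₂, hermForm n F q x₁ x₁, ⟨hx₁, hx₂, h1, h2, rfl, ?_⟩, hx⟩
    have := hx.1
    rw [hf_add_self hF, (cross hF hx₁ hx₂).1, cj_zero hF] at this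
    linear_combination this
  apply hne
  intro g hg
  refine ⟨?_, hHG hg⟩
  have step1 : (∀ x ∈ uperp q W, hermForm n F q x x = 0 → gact g x ∈ W) ∨
      (∀ x ∈ uperp q W, hermForm n F q x x = 0 → gact g x ∈ uperp q W) := by
    by_contra hcon
    rw [not_or] at hcon
    obtain ⟨hc1, hc2⟩ := hcon
    rw [not_forall] at hc1 hc2
    obtain ⟨x, hx⟩ := hc1
    obtain ⟨y, hy⟩ := hc2
    rw [Classical.not_imp] at hx hy
    obtain ⟨hxU, hx⟩ := hx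
    obtain ⟨hyU, hy⟩ := hy
    rw [Classical.not_imp] at hx hy
    obtain ⟨hxx, hxW⟩ := hx
    obtain ⟨hyy, hyU'⟩ := hy
    have hgx : gact g x ∈ uperp q W := by
      rcases hAuni _ (ASet_gact hF hHU hg (A_U hF hPH hxU hxx)) with h | h
      · exact absurd h hxW
      · exact h
    have hgy : gact g y ∈ W := by
      rcases hAuni _ (ASet_gact hF hHU hg (A_U hF hPH hyU hyy)) with h | h
      · exact h
      · exact absurd h hyU'
    obtain ⟨μ, hμ0, hiso⟩ := iso_comb hF hxx hyy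
    have hxyU : x + μ • y ∈ uperp q W :=
      (uperp q W).add_mem hxU ((uperp q W).smul_mem _ hyU)
    rcases hAuni _ (ASet_gact hF hHU hg (A_U hF hPH hxyU hiso)) with h | h
    · rw [gact_add, gact_smul] at h
      apply hxW
      have := W.sub_mem h (W.smul_mem μ hgy)
      rwa [add_sub_cancel_right] at this
    · rw [gact_add, gact_smul] at h
      apply hyU'
      have h1 := (uperp q W).sub_mem h hgx
      rw [add_sub_cancel_left] at h1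
      have h2 := (uperp q W).smul_mem μ⁻¹ h1
      rwa [smul_smul, inv_mul_cancel₀ hμ0, one_smul] at h2
  have hspan : ∀ (S : Submodule F (Fin n → F)),
      (∀ x ∈ uperp q W, hermForm n F q x x = 0 → gact g x ∈ S) →
      ∀ x ∈ uperp q W, gact g x ∈ S := by
    intro S hS x hx
    obtain ⟨e₁, he₁, e₂, he₂, h1, h2, α, β, rfl⟩ := iso_span hF hU hdimU hx
    rw [gact_add, gact_smul, gact_smul]
    exact S.add_mem (S.smul_mem _ (hS e₁ he₁ h1)) (S.smul_mem _ (hS e₂ he₂ h2))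
  rcases step1 with h1 | h1
  · exfalso
    have h2 := hspan W h1
    have hle' : (uperp q W).map (gactL g).toLinearMap ≤ W := by
      rintro _ ⟨x, hx, rfl⟩
      exact h2 x hx
    have := Submodule.finrank_mono hle'
    rw [LinearEquiv.finrank_map_eq] at this
    omega
  · have h2 := hspan (uperp q W) h1
    have hgU : g ∈ Cfsg.Geo.subspaceStabilizer (uperp q W) := mem_stabW_of_maps _ g h2
    have hginvU : ∀ u ∈ uperp q W, gact g⁻¹ u ∈ uperp q W := by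
      intro u hu
      exact stabW_maps (inv_mem hgU) hu
    apply mem_stabW_of_maps
    intro y hy
    rw [← uperp_uperp hF W, mem_uperp]
    intro u hu
    rw [GU_adjoint (hHU hg)]
    exact (cross hF hy (hginvU u hu)).1

theorem core (hF : Fintype.card F = q ^ 2) (hn : 13 ≤ n) {W : Submodule F (Fin n → F)}
    (hW : UNondeg q W) (hW0 : W ≠ ⊥) (hdim : 2 * Module.finrank F W < n) :
    Cfsg.Geo.IsMaximalIn (GU n F q ⊓ Cfsg.Geo.specialLinear (Fin n) F)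
      (Cfsg.Geo.subspaceStabilizer W ⊓ (GU n F q ⊓ Cfsg.Geo.specialLinear (Fin n) F)) := by
  have hU : UNondeg q (uperp q W) := unondeg_uperp hF hW
  have hfr := finrank_add_uperp hF W
  have hdimU7 : 7 ≤ Module.finrank F (uperp q W) := by omega
  have hU0 : uperp q W ≠ ⊥ := by
    intro h
    rw [h, finrank_bot] at hdimU7
    omega
  have hex : ¬ (n = 3 ∧ q = 2) := by omega
  constructor
  · rw [SetLike.lt_iff_le_and_exists]
    refine ⟨inf_le_right, ?_⟩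
    obtain ⟨z, hzW, hzz⟩ := exists_aniso hF hW hW0
    obtain ⟨b₂, hb₂U, hb₂n⟩ := exists_norm' hF hU hU0 (- hermForm n F q z z)
      (by rw [cj_neg hF, hf_self_fixed hF]) (neg_ne_zero.mpr hzz)
    obtain ⟨θ, hθ0, hθ⟩ := exists_theta hF
    have c1 := cross hF hzW hb₂U
    have hv : hermForm n F q (z + b₂) (z + b₂) = 0 := by
      rw [hf_add_self hF, hb₂n, c1.1, cj_zero hF]
      ring
    refine ⟨tv q (z + b₂) θ, tv_mem_SUg hF _ hθ, ?_⟩
    intro hmem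
    have h1 := stabW_maps hmem.1 hzW
    rw [tv_gact hv, hf_add_right hF, c1.1, add_zero] at h1
    have h2 : (θ * hermForm n F q z z) • (z + b₂) ∈ W := by
      have := W.sub_mem h1 hzW
      rwa [add_sub_cancel_left] at this
    have h3 : z + b₂ ∈ W := by
      have := W.smul_mem (θ * hermForm n F q z z)⁻¹ h2
      rwa [smul_smul, inv_mul_cancel₀ (mul_ne_zero hθ0 hzz), one_smul] at this
    have h4 : b₂ ∈ W := by
      have := W.sub_mem h3 hzW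
      rwa [add_sub_cancel_left] at this
    have h5 : b₂ = 0 := (Submodule.disjoint_def.mp (unondeg_disjoint hW)) _ h4 hb₂U
    rw [h5, hf_zero_left] at hb₂n
    exact hzz (neg_eq_zero.mp hb₂n.symm)
  · intro M hPM hMG
    by_cases hM : M ≤ Cfsg.Geo.subspaceStabilizer W ⊓
        (GU n F q ⊓ Cfsg.Geo.specialLinear (Fin n) F)
    · left
      exact le_antisymm hM hPM
    right
    obtain ⟨b₁, b₂, a, hb, hbA⟩ := key hF hW (by omega) (by omega) hPM hMG hM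
    have hall1_of : ∀ (a : F) (b₁ b₂ : Fin n → F), a ≠ 0 → Mixed q W a b₁ b₂ →
        b₁ + b₂ ∈ ASet q M → ∀ (a' : F) (x₁ x₂ : Fin n → F), a' ≠ 0 → Mixed q W a' x₁ x₂ →
          x₁ + x₂ ∈ ASet q M := by
      intro a b₁ b₂ ha hb hbA a' x₁ x₂ ha' hx
      have hafix : a ^ q = a := by rw [← hb.2.2.2.2.1]; exact hf_self_fixed hF b₁
      have ha'fix : a' ^ q = a' := by rw [← hx.2.2.2.2.1]; exact hf_self_fixed hF x₁
      obtain ⟨l, hl⟩ := nm_surj hF (a' / a) (by rw [cj_div, hafix, ha'fix])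
      have hl0 : l ≠ 0 := by
        rintro rfl
        rw [zero_mul] at hl
        exact div_ne_zero ha' ha hl.symm
      have e : l * l ^ q * a = a' := by rw [hl, div_mul_cancel₀ _ ha]
      apply orbitA hF hW (by omega) hPM hMG hb hbA l hl0
      rw [e]
      exact hx
    have hall : (∀ (a' : F) (x₁ x₂ : Fin n → F), a' ≠ 0 → Mixed q W a' x₁ x₂ →
          x₁ + x₂ ∈ ASet q M) ∧
        (∀ (x₁ x₂ : Fin n → F), Mixed q W 0 x₁ x₂ → x₁ + x₂ ∈ ASet q M) := by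
      by_cases ha : a = 0
      · rw [ha] at hb
        have h0 : ∀ (x₁ x₂ : Fin n → F), Mixed q W 0 x₁ x₂ → x₁ + x₂ ∈ ASet q M := by
          intro x₁ x₂ hx
          apply orbitA hF hW (by omega) hPM hMG hb hbA 1 one_ne_zero
          rw [mul_zero]
          exact hx
        obtain ⟨y₁, y₂, hy, hyA⟩ := type0_to_1 hF hW hMG h0 hb
        exact ⟨hall1_of 1 y₁ y₂ one_ne_zero hy hyA, h0⟩
      · have h1 := hall1_of a b₁ b₂ ha hb hbA
        exact ⟨h1, fun x₁ x₂ hx => type1_to_0 hF hW (by omega) hMG h1 hx⟩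
    obtain ⟨h1, h0⟩ := hall
    apply ASet_top hF hex hMG
    intro x hxx
    obtain ⟨x₁, hx₁, x₂, hx₂, rfl⟩ := exists_decomp hF hW x
    have hnorm : hermForm n F q x₂ x₂ = - hermForm n F q x₁ x₁ := by
      rw [hf_add_self hF, (cross hF hx₁ hx₂).1, cj_zero hF] at hxx
      linear_combination hxx
    by_cases e1 : x₁ = 0
    · rw [e1, zero_add] at hxx ⊢
      exact A_U hF hPM hx₂ hxx
    by_cases e2 : x₂ = 0
    · rw [e2, add_zero] at hxx ⊢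
      exact A_W hF hPM hx₁ hxx
    by_cases ha' : hermForm n F q x₁ x₁ = 0
    · apply h0
      exact ⟨hx₁, hx₂, e1, e2, ha', by rw [hnorm, ha']⟩
    · exact h1 _ x₁ x₂ ha' ⟨hx₁, hx₂, e1, e2, rfl, hnorm⟩

/-- Let F be the field with q² elements and n ≥ 13. In SU_n(q) (determinant-one isometries of the standard unitary form on F^n) the stabiliser of a non-zero subspace W on which the form is non-degenerate and with 2 dim W < n is a maximal subgroup. -/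
theorem result {F : Type*} [Field F] [Fintype F] (n q : ℕ) (hF : Fintype.card F = q ^ 2) (hn : 13 ≤ n) (W : Submodule F (Fin n → F)) (hW0 : W ≠ ⊥) (hW : Cfsg.Geo.IsNondegenerateOn (Cfsg.hermForm n F q) W) (hdim : 2 * Module.finrank F W < n) : Cfsg.Geo.IsMaximalIn (Cfsg.GU n F q ⊓ Cfsg.Geo.specialLinear (Fin n) F) (Cfsg.Geo.subspaceStabilizer W ⊓ (Cfsg.GU n F q ⊓ Cfsg.Geo.specialLinear (Fin n) F)) := by
  exact core hF hn (unondeg_of_geo hW) hW0 hdim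

end Cfsg.Agent.S5654
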