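import Cfsg.Statements.S5656
import Mathlib
import Cfsg.Agent.Lib.Helper27.UGen2

set_option autoImplicit false
open Cfsg

namespace Cfsg.Agent.S5656

open Cfsg.Agent.Lib.Helper27.Unitary Cfsg.Agent.Lib.Helper27.GLStab Matrix

variable {F : Type*} [Field F] [Fintype F] {q n : ℕ}

/-- Orthonormal basis of a non-degenerate plane. -/
theorem exists_onb_plane (hF : Fintype.card F = q ^ 2) (P : Submodule F (Fin n → F))
    (hP : UNondeg q P) (hdim : Module.finrank F P = 2) :
    ∃ u₁ ∈ P, ∃ u₂ ∈ P, hermForm n F q u₁ u₁ = 1 ∧ hermForm n F q u₂ u₂ = 1 ∧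
      hermForm n F q u₁ u₂ = 0 ∧ ∀ x ∈ P, ∃ α β : F, x = α • u₁ + β • u₂ := by
  obtain ⟨u₁, hu₁P, hu₁⟩ := exists_unit hF P hP (by omega)
  have hP' := rel_unondeg_unit hF P hP u₁ hu₁P hu₁
  have hP'dim := rel_finrank_unit hF P u₁ hu₁P hu₁
  obtain ⟨u₂, hu₂P', hu₂⟩ := exists_unit hF _ hP' (by omega)
  have hu₂0 : u₂ ≠ 0 := by
    rintro rfl
    rw [hf_zero_left] at hu₂
    exact zero_ne_one hu₂
  have hu₂u₁ : hermForm n F q u₂ u₁ = 0 := hu₂P'.2 u₁ (Submodule.mem_span_singleton_self u₁)
  refine ⟨u₁, hu₁P, u₂, hu₂P'.1, hu₁, hu₂, hf_eq_zero_swap hF hu₂u₁, ?_⟩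
  intro x hx
  have hSu : UNondeg q (Submodule.span F {u₁}) :=
    unondeg_span_singleton (by rw [hu₁]; exact one_ne_zero)
  have hSuP : Submodule.span F {u₁} ≤ P := by
    rw [Submodule.span_singleton_le_iff_mem]; exact hu₁P
  rw [← rel_sup hF hSuP hSu] at hx
  obtain ⟨w₁, hw₁, w₂, hw₂, rfl⟩ := Submodule.mem_sup.mp hx
  obtain ⟨α, rfl⟩ := Submodule.mem_span_singleton.mp hw₁
  have hfr1 : Module.finrank F ↥(P ⊓ uperp q (Submodule.span F {u₁})) = 1 := by omega
  have h1 := (finrank_eq_one_iff_of_nonzero'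
    (⟨u₂, hu₂P'⟩ : ↥(P ⊓ uperp q (Submodule.span F {u₁})))
    (fun h => hu₂0 (congrArg Subtype.val h))).mp hfr1 ⟨w₂, hw₂⟩
  obtain ⟨β, hβ⟩ := h1
  refine ⟨α, β, ?_⟩
  have h2 : β • u₂ = w₂ := congrArg Subtype.val hβ
  rw [h2]

open scoped Classical in
/-- Over the field with four elements the norm of a non-zero scalar is one. -/
theorem nm4 (hF : Fintype.card F = 2 ^ 2) (α : F) : α * α ^ 2 = if α = 0 then 0 else 1 := by
  split_ifs with h
  · rw [h, zero_mul]
  · exact cube_eq_one_of_card_four hF h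

/-- Let F be the field with 4 elements (q = 2) and n ≥ 13. Let D be a decomposition of F^n into t pairwise orthogonal 2-dimensional subspaces, each non-degenerate for the standard unitary form Σ u_i v_i². Then the elements of SU_n(2) permuting the members of D form a subgroup that is not maximal: some subgroup lies strictly between it and SU_n(2). -/
theorem result {F : Type*} [Field F] [Fintype F] (n : ℕ) (hF : Fintype.card F = 4) (hn : 13 ≤ n) {t : ℕ} (D : Fin t → Submodule F (Fin n → F)) (hD : Cfsg.Geo.IsNondegenerateMDecomposition (Cfsg.hermForm n F 2) 2 D) : ∃ K : Subgroup (Matrix.GeneralLinearGroup (Fin n) F), Cfsg.Geo.decompositionStabilizer D ⊓ (Cfsg.GU n F 2 ⊓ Cfsg.Geo.specialLinear (Fin n) F) < K ∧ K < (Cfsg.GU n F 2 ⊓ Cfsg.Geo.specialLinear (Fin n) F) := by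
  have hF' : Fintype.card F = 2 ^ 2 := by rw [hF]; norm_num
  have h2 : (2 : F) = 0 := two_eq_zero_of_card_four hF'
  have h11 : (1 : F) + 1 = 0 := by linear_combination h2
  have ht := hD.decomp.two_le
  set i0 : Fin t := ⟨0, by omega⟩ with hi0
  set i1 : Fin t := ⟨1, by omega⟩ with hi1
  have h01 : i0 ≠ i1 := by
    intro h
    have := congrArg Fin.val h
    simp [hi0, hi1] at this
  have hnd : ∀ i, UNondeg 2 (D i) := fun i => unondeg_of_geo (hD.nondegenerate i)
  have horth : ∀ i j, i ≠ j → ∀ x ∈ D i, ∀ y ∈ D j, hermForm n F 2 x y = 0 :=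
    fun i j hij x hx y hy => hD.orthogonal i j hij x hx y hy
  have hdisj : ∀ i j, i ≠ j → ∀ x, x ∈ D i → x ∈ D j → x = 0 := by
    intro i j hij x hxi hxj
    apply hnd i x hxi
    intro w hw
    exact hf_eq_zero_swap hF' (horth i j hij w hw x hxj)
  obtain ⟨u₁, hu₁D, u₂, hu₂D, hu₁, hu₂, hu₁u₂, hspan0⟩ :=
    exists_onb_plane hF' (D i0) (hnd i0) (hD.decomp.finrank_eq i0)
  obtain ⟨w₁, hw₁D, w₂, hw₂D, hw₁, hw₂, hw₁w₂, hspan1⟩ :=
    exists_onb_plane hF' (D i1) (hnd i1) (hD.decomp.finrank_eq i1)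
  have hu₂u₁ : hermForm n F 2 u₂ u₁ = 0 := hf_eq_zero_swap hF' hu₁u₂
  have hw₂w₁ : hermForm n F 2 w₂ w₁ = 0 := hf_eq_zero_swap hF' hw₁w₂
  -- the set of anisotropic vectors lying in a member of `D`
  set S : Set (Fin n → F) := {x | hermForm n F 2 x x ≠ 0 ∧ ∃ i, x ∈ D i} with hS
  refine ⟨Cfsg.stabilizing (Cfsg.glToMat (Fin n) F) S ⊓
    (Cfsg.GU n F 2 ⊓ Cfsg.Geo.specialLinear (Fin n) F), ?_, ?_⟩
  · -- first strict inclusion
    rw [lt_iff_le_and_ne]
    constructor
    · rintro g ⟨hgD, hgS⟩
      refine ⟨?_, hgS⟩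
      obtain ⟨σ, hσ⟩ := hgD
      have hgU : g ∈ GU n F 2 := hgS.1
      intro v
      change v ∈ S ↔ gact g v ∈ S
      constructor
      · rintro ⟨hv, i, hvi⟩
        refine ⟨by rw [GU_preserves hgU]; exact hv, σ i, ?_⟩
        rw [← hσ i]
        exact ⟨v, hvi, rfl⟩
      · rintro ⟨hv, j, hvj⟩
        rw [GU_preserves hgU] at hv
        refine ⟨hv, σ.symm j, ?_⟩
        have h1 := hσ (σ.symm j)
        rw [Equiv.apply_symm_apply] at h1
        rw [← h1] at hvj
        obtain ⟨w, hw, hwv⟩ := hvj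
        have : w = v := by
          apply gact_injective g
          rw [← hwv]
          rfl
        rw [← this]
        exact hw
    · -- an element of `K` outside the decomposition stabiliser
      intro heq
      have hv₀ : hermForm n F 2 (u₁ + w₁) (u₁ + w₁) = 0 := by
        rw [hf_add_self hF', hu₁, hw₁, horth i0 i1 h01 u₁ hu₁D w₁ hw₁D, cj_zero hF']
        linear_combination h11
      have hc1 : (1 : F) + 1 ^ 2 = 0 := by rw [one_pow]; exact h11
      set g := tv 2 (u₁ + w₁) (1 : F) with hg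
      have hgS : g ∈ Cfsg.GU n F 2 ⊓ Cfsg.Geo.specialLinear (Fin n) F := tv_mem_SUg hF' _ hc1
      have hgact : ∀ x, gact g x = x + hermForm n F 2 x (u₁ + w₁) • (u₁ + w₁) := by
        intro x
        rw [hg, tv_gact hv₀, one_mul]
      have hgg : ∀ x, gact g (gact g x) = x := by
        intro x
        rw [← gact_mul, hg, tv_mul hF' hv₀, h11, tv_zero_right, gact_one]
      have hstep : ∀ v, v ∈ S → gact g v ∈ S := by
        rintro v ⟨hv, i, hvi⟩
        by_cases hi0' : i = i0
        · subst hi0'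
          obtain ⟨α, β, rfl⟩ := hspan0 v hvi
          have hform : hermForm n F 2 (α • u₁ + β • u₂) (u₁ + w₁) = α := by
            rw [hf_add_left, hf_add_right hF', hf_add_right hF', hf_smul_left, hf_smul_left,
              hf_smul_left, hf_smul_left, hu₁, hu₂u₁, horth _ _ h01 u₁ hu₁D w₁ hw₁D,
              horth _ _ h01 u₂ hu₂D w₁ hw₁D]
            ring
          have hnorm : hermForm n F 2 (α • u₁ + β • u₂) (α • u₁ + β • u₂) =
              α * α ^ 2 + β * β ^ 2 := by
            rw [hf_add_left, hf_add_right hF', hf_add_right hF', hf_smul_left, hf_smul_left,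
              hf_smul_left, hf_smul_left, hf_smul_right, hf_smul_right, hf_smul_right,
              hf_smul_right, hu₁, hu₂, hu₁u₂, hu₂u₁]
            ring
          have hv0 := hv
          rw [hnorm, nm4 hF', nm4 hF'] at hv
          by_cases hα : α = 0
          · have h0 : α • (u₁ + w₁) = 0 := by rw [hα, zero_smul]
            rw [hgact, hform, h0, add_zero]
            exact ⟨hv0, _, hvi⟩
          · have hβ : β = 0 := by
              by_contra hβ
              rw [if_neg hα, if_neg hβ] at hv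
              exact hv h11
            have h0 : β • u₂ = 0 := by rw [hβ, zero_smul]
            rw [hgact, hform, h0, add_zero]
            have : α • u₁ + α • (u₁ + w₁) = α • w₁ := by
              rw [smul_add, ← add_assoc, ← add_smul]
              have : α + α = 0 := by linear_combination α * h2
              rw [this, zero_smul, zero_add]
            rw [this]
            refine ⟨?_, i1, (D i1).smul_mem _ hw₁D⟩
            rw [hf_smul_self, hw₁, mul_one, nm4 hF', if_neg hα]
            exact one_ne_zero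
        by_cases hi1' : i = i1
        · subst hi1'
          obtain ⟨α, β, rfl⟩ := hspan1 v hvi
          have hform : hermForm n F 2 (α • w₁ + β • w₂) (u₁ + w₁) = α := by
            rw [hf_add_left, hf_add_right hF', hf_add_right hF', hf_smul_left, hf_smul_left,
              hf_smul_left, hf_smul_left, hw₁, hw₂w₁,
              horth _ _ h01.symm w₁ hw₁D u₁ hu₁D, horth _ _ h01.symm w₂ hw₂D u₁ hu₁D]
            ring
          have hnorm : hermForm n F 2 (α • w₁ + β • w₂) (α • w₁ + β • w₂) =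
              α * α ^ 2 + β * β ^ 2 := by
            rw [hf_add_left, hf_add_right hF', hf_add_right hF', hf_smul_left, hf_smul_left,
              hf_smul_left, hf_smul_left, hf_smul_right, hf_smul_right, hf_smul_right,
              hf_smul_right, hw₁, hw₂, hw₁w₂, hw₂w₁]
            ring
          have hv0 := hv
          rw [hnorm, nm4 hF', nm4 hF'] at hv
          by_cases hα : α = 0
          · have h0 : α • (u₁ + w₁) = 0 := by rw [hα, zero_smul]
            rw [hgact, hform, h0, add_zero]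
            exact ⟨hv0, _, hvi⟩
          · have hβ : β = 0 := by
              by_contra hβ
              rw [if_neg hα, if_neg hβ] at hv
              exact hv h11
            have h0 : β • w₂ = 0 := by rw [hβ, zero_smul]
            rw [hgact, hform, h0, add_zero]
            have : α • w₁ + α • (u₁ + w₁) = α • u₁ := by
              rw [smul_add, add_comm (α • u₁), ← add_assoc, ← add_smul]
              have : α + α = 0 := by linear_combination α * h2
              rw [this, zero_smul, zero_add]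
            rw [this]
            refine ⟨?_, i0, (D i0).smul_mem _ hu₁D⟩
            rw [hf_smul_self, hu₁, mul_one, nm4 hF', if_neg hα]
            exact one_ne_zero
        · have : hermForm n F 2 v (u₁ + w₁) = 0 := by
            rw [hf_add_right hF', horth i i0 hi0' v hvi u₁ hu₁D, horth i i1 hi1' v hvi w₁ hw₁D,
              add_zero]
          rw [hgact, this, zero_smul, add_zero]
          exact ⟨hv, i, hvi⟩
      have hgK : g ∈ Cfsg.stabilizing (Cfsg.glToMat (Fin n) F) S ⊓
          (Cfsg.GU n F 2 ⊓ Cfsg.Geo.specialLinear (Fin n) F) := by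
        refine ⟨?_, hgS⟩
        intro v
        change v ∈ S ↔ gact g v ∈ S
        refine ⟨hstep v, fun h => ?_⟩
        have := hstep _ h
        rwa [hgg] at this
      rw [← heq] at hgK
      obtain ⟨σ, hσ⟩ := hgK.1
      have hgu₂ : gact g u₂ = u₂ := by
        rw [hgact, hf_add_right hF', hu₂u₁, horth _ _ h01 u₂ hu₂D w₁ hw₁D, add_zero, zero_smul,
          add_zero]
      have hgu₁ : gact g u₁ = w₁ := by
        rw [hgact, hf_add_right hF', hu₁, horth _ _ h01 u₁ hu₁D w₁ hw₁D, add_zero, one_smul,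
          ← add_assoc]
        have : u₁ + u₁ = 0 := by
          rw [← two_smul F u₁, h2, zero_smul]
        rw [this, zero_add]
      have h1 : u₂ ∈ D (σ i0) := by
        rw [← hσ i0]
        exact ⟨u₂, hu₂D, hgu₂⟩
      have h2' : w₁ ∈ D (σ i0) := by
        rw [← hσ i0]
        exact ⟨u₁, hu₁D, hgu₁⟩
      have hσ0 : σ i0 = i0 := by
        by_contra hne
        have := hdisj _ _ hne u₂ h1 hu₂D
        rw [this, hf_zero_left] at hu₂
        exact zero_ne_one hu₂
      rw [hσ0] at h2'
      have := hdisj _ _ h01 w₁ h2' hw₁D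
      rw [this, hf_zero_left] at hw₁
      exact zero_ne_one hw₁
  · -- second strict inclusion
    rw [lt_iff_le_and_ne]
    refine ⟨inf_le_right, ?_⟩
    intro heq
    set v := u₁ + u₂ + w₁ + w₂ with hv
    have hvu₁ : hermForm n F 2 u₁ v = 1 := by
      rw [hv, hf_add_right hF', hf_add_right hF', hf_add_right hF', hu₁, hu₁u₂,
        horth _ _ h01 u₁ hu₁D w₁ hw₁D, horth _ _ h01 u₁ hu₁D w₂ hw₂D]
      ring
    have hvu₂ : hermForm n F 2 u₂ v = 1 := by
      rw [hv, hf_add_right hF', hf_add_right hF', hf_add_right hF', hu₂, hu₂u₁,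
        horth _ _ h01 u₂ hu₂D w₁ hw₁D, horth _ _ h01 u₂ hu₂D w₂ hw₂D]
      ring
    have hvw₁ : hermForm n F 2 w₁ v = 1 := by
      rw [hv, hf_add_right hF', hf_add_right hF', hf_add_right hF', hw₁, hw₁w₂,
        horth _ _ h01.symm w₁ hw₁D u₁ hu₁D, horth _ _ h01.symm w₁ hw₁D u₂ hu₂D]
      ring
    have hvw₂ : hermForm n F 2 w₂ v = 1 := by
      rw [hv, hf_add_right hF', hf_add_right hF', hf_add_right hF', hw₂, hw₂w₁,
        horth _ _ h01.symm w₂ hw₂D u₁ hu₁D, horth _ _ h01.symm w₂ hw₂D u₂ hu₂D]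
      ring
    have hvv : hermForm n F 2 v v = 0 := by
      conv_lhs => rw [hv, hf_add_left, hf_add_left, hf_add_left]
      rw [← hv, hvu₁, hvu₂, hvw₁, hvw₂]
      linear_combination 2 * h11
    have hc1 : (1 : F) + 1 ^ 2 = 0 := by rw [one_pow]; exact h11
    have hg : tv 2 v (1 : F) ∈ Cfsg.GU n F 2 ⊓ Cfsg.Geo.specialLinear (Fin n) F :=
      tv_mem_SUg hF' _ hc1
    rw [← heq] at hg
    have hu₁S : u₁ ∈ S := ⟨by rw [hu₁]; exact one_ne_zero, i0, hu₁D⟩
    have := (hg.1 u₁).mp hu₁S
    change gact (tv 2 v (1 : F)) u₁ ∈ S at this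
    rw [tv_gact hvv, one_mul, hvu₁, one_smul] at this
    obtain ⟨-, i, hi⟩ := this
    set y := u₁ + v with hy
    have hyu₂ : hermForm n F 2 y u₂ = 1 := by
      rw [hy, hf_add_left, hu₁u₂, zero_add, hf_swap hF' u₂ v, hvu₂, one_pow]
    have hyw₁ : hermForm n F 2 y w₁ = 1 := by
      rw [hy, hf_add_left, horth _ _ h01 u₁ hu₁D w₁ hw₁D, zero_add, hf_swap hF' w₁ v, hvw₁,
        one_pow]
    by_cases hi0' : i = i0
    · rw [hi0'] at hi
      have := horth i0 i1 h01 y hi w₁ hw₁D
      rw [hyw₁] at this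
      exact one_ne_zero this
    · have := horth i i0 hi0' y hi u₂ hu₂D
      rw [hyu₂] at this
      exact one_ne_zero this

end Cfsg.Agent.S5656
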