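import Cfsg.Statements.S5674
import Mathlib
import Cfsg.Agent.Lib.Helper27.OrthParab3
import Cfsg.Agent.Lib.Helper19.QuadStd
import Cfsg.Agent.Lib.Helper19.OrthHyp

set_option autoImplicit false
open Cfsg

namespace Cfsg.Agent.S5674

/-- Let F be a finite field of odd order, m ≥ 6, Q the standard quadratic form x₀² + Σ x_i y_i on F^(2m+1) and Ω the commutator subgroup of its isometry group inside GL_(2m+1)(F). The elements of Ω stabilising a non-zero subspace on which Q vanishes form a maximal subgroup of Ω. -/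
theorem result {F : Type*} [Field F] [Fintype F] (hodd : Odd (Fintype.card F)) (m : ℕ) (hm : 6 ≤ m) (W : Submodule F (Unit ⊕ (Fin m ⊕ Fin m) → F)) (hW0 : W ≠ ⊥) (hW : Cfsg.Geo.IsTotallySingularQuad (Cfsg.quadFormOdd m F) W) : Cfsg.Geo.IsMaximalIn (Cfsg.Geo.omegaGL (Cfsg.quadFormOdd m F)) (Cfsg.Geo.subspaceStabilizer W ⊓ Cfsg.Geo.omegaGL (Cfsg.quadFormOdd m F)) := by
  classical
  have h20 : (2 : F) ≠ 0 := Cfsg.Agent.Lib.Helper19.OrthRefl.two_ne_zero_of_odd_card hodd
  have hcard : Fintype.card (Unit ⊕ (Fin m ⊕ Fin m)) = 2 * m + 1 := by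
    simp
    omega
  have hW' : ∀ u ∈ W, (Cfsg.Agent.Lib.Helper19.QuadStd.stdOdd m F) u = 0 := by
    intro u hu
    have := hW u hu
    rw [← Cfsg.Agent.Lib.Helper19.QuadStd.coe_stdOdd] at this
    exact this
  have h := Cfsg.Agent.Lib.Helper27.OrthParab.parabolic_maximal
    (Cfsg.Agent.Lib.Helper19.QuadStd.stdOdd m F)
    (Cfsg.Agent.Lib.Helper19.QuadStd.stdOdd_nondeg m h20) (by rw [hcard]; omega) hW0 hW'
    (fun h => by rw [hcard] at h; omega)
  rw [Cfsg.Agent.Lib.Helper19.QuadStd.coe_stdOdd] at h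
  exact h

end Cfsg.Agent.S5674
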