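import Cfsg.Statements.S5675
import Mathlib
import Cfsg.Agent.Lib.Helper27.OrthNdeg7
import Cfsg.Agent.Lib.Helper19.QuadStd
import Cfsg.Agent.Lib.Helper19.OrthHyp

set_option autoImplicit false
open Cfsg

namespace Cfsg.Agent.S5675

/-- Let F be a finite field of odd order q, m ≥ 6, Q the standard quadratic form on F^(2m+1) and Ω the commutator subgroup of its isometry group. Let W be a non-zero subspace of even dimension on which the polar form of Q is non-degenerate; exclude the case q = 3, dim W = 2 with Q vanishing on some line of W (a plus-type plane). Then the elements of Ω stabilising W (equivalently, stabilising its orthogonal complement, of odd dimension) form a maximal subgroup of Ω. -/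
theorem result {F : Type*} [Field F] [Fintype F] (hodd : Odd (Fintype.card F)) (m : ℕ) (hm : 6 ≤ m) (W : Submodule F (Unit ⊕ (Fin m ⊕ Fin m) → F)) (hW0 : W ≠ ⊥) (hev : Even (Module.finrank F W)) (hW : Cfsg.Geo.IsNondegenerateOn (QuadraticMap.polar (Cfsg.quadFormOdd m F)) W) (hex : ¬ (Fintype.card F = 3 ∧ Module.finrank F W = 2 ∧ Cfsg.Geo.IsPlusTypeOn (Cfsg.quadFormOdd m F) W)) : Cfsg.Geo.IsMaximalIn (Cfsg.Geo.omegaGL (Cfsg.quadFormOdd m F)) (Cfsg.Geo.subspaceStabilizer W ⊓ Cfsg.Geo.omegaGL (Cfsg.quadFormOdd m F)) := by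
  classical
  have h20 : (2 : F) ≠ 0 := Cfsg.Agent.Lib.Helper19.OrthRefl.two_ne_zero_of_odd_card hodd
  have hcard : Fintype.card (Unit ⊕ (Fin m ⊕ Fin m)) = 2 * m + 1 := by
    simp
    omega
  have hfr : Module.finrank F (Unit ⊕ (Fin m ⊕ Fin m) → F) = 2 * m + 1 := by
    rw [Module.finrank_fintype_fun_eq_card, hcard]
  have hco := Cfsg.Agent.Lib.Helper19.QuadStd.coe_stdOdd (m := m) (F := F)
  have hQn := Cfsg.Agent.Lib.Helper19.QuadStd.stdOdd_nondeg (F := F) m h20
  have hW' : Cfsg.Agent.Lib.Helper19.Parity.Nondeg (Cfsg.Agent.Lib.Helper19.QuadStd.stdOdd m F) W := by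
    apply Cfsg.Agent.Lib.Helper27.OrthNdeg.nondeg_of_isNondegenerateOn
    rw [hco]
    exact hW
  have hW1 : W ≠ ⊤ := by
    intro h
    rw [h, finrank_top, hfr] at hev
    rcases hev with ⟨r, hr⟩
    omega
  have h := Cfsg.Agent.Lib.Helper27.OrthNdeg.ndeg_maximal_of_dims
    (Cfsg.Agent.Lib.Helper19.QuadStd.stdOdd m F) hQn (by rw [hcard]; omega) hW' hW0 hW1
    (by
      rw [hcard]
      rcases hev with ⟨r, hr⟩
      omega)
    (by
      intro P hP hP2 hs
      have hq1 : 1 < Fintype.card F := Fintype.one_lt_card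
      have hq3 : Fintype.card F ≠ 3 := by
        intro hq
        rcases hP with rfl | rfl
        · apply hex
          obtain ⟨s, hsP, hs0, hQs⟩ := hs
          have := Cfsg.Agent.Lib.Helper27.OrthNdeg.isPlusTypeOn_plane
            (Cfsg.Agent.Lib.Helper19.QuadStd.stdOdd m F) hP2 hsP hs0 hQs
          rw [hco] at this
          exact ⟨hq, hP2, this⟩
        · have ho := Cfsg.Agent.Lib.Helper19.Parity.finrank_orth hQn W
          rw [hP2, hfr] at ho
          rcases hev with ⟨r, hr⟩
          omega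
      rcases hodd with ⟨r, hr⟩
      omega)
  rw [hco] at h
  exact h

end Cfsg.Agent.S5675
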