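import Cfsg.Statements.S5678
import Mathlib
import Cfsg.Agent.Lib.Helper27.OrthDecomp3
import Cfsg.Agent.Lib.Helper19.QuadStd

set_option autoImplicit false
open Cfsg

namespace Cfsg.Agent.S5678

/-- Let F be the field with 3 elements, m ≥ 6, Q the standard quadratic form on F^(2m+1) and Ω the commutator subgroup of its isometry group. Let D be a decomposition of F^(2m+1) into t pairwise orthogonal, pairwise Q-isometric 3-dimensional subspaces on which the polar form is non-degenerate. Then the elements of Ω permuting the members of D form a subgroup that is not maximal: some subgroup lies strictly between it and Ω. -/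
theorem result {F : Type*} [Field F] [Fintype F] (hq : Fintype.card F = 3) (m : ℕ) (hm : 6 ≤ m) {t : ℕ} (D : Fin t → Submodule F (Unit ⊕ (Fin m ⊕ Fin m) → F)) (hD : Cfsg.Geo.IsOrthogonalMDecomposition (Cfsg.quadFormOdd m F) 3 D) : ∃ K : Subgroup (Matrix.GeneralLinearGroup (Unit ⊕ (Fin m ⊕ Fin m)) F), Cfsg.Geo.decompositionStabilizer D ⊓ Cfsg.Geo.omegaGL (Cfsg.quadFormOdd m F) < K ∧ K < Cfsg.Geo.omegaGL (Cfsg.quadFormOdd m F) := by
  classical
  have h3 : (3 : F) = 0 := Cfsg.Agent.Lib.Helper27.SpTensor.three_eq_zero hq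
  have h20 : (2 : F) ≠ 0 := by
    intro h2
    have h1 : (1 : F) = 0 := by linear_combination h3 - h2
    exact one_ne_zero h1
  have hcard : Fintype.card (Unit ⊕ (Fin m ⊕ Fin m)) = 2 * m + 1 := by
    simp
    omega
  have hD' : Cfsg.Geo.IsOrthogonalMDecomposition
      (⇑(Cfsg.Agent.Lib.Helper19.QuadStd.stdOdd m F)) 3 D := by
    rw [Cfsg.Agent.Lib.Helper19.QuadStd.coe_stdOdd]
    exact hD
  have h := Cfsg.Agent.Lib.Helper27.OrthDecomp.decomp3_not_max hq
    (Cfsg.Agent.Lib.Helper19.QuadStd.stdOdd m F)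
    (Cfsg.Agent.Lib.Helper19.QuadStd.stdOdd_nondeg m h20) (by rw [hcard]; omega) D hD'
  rw [Cfsg.Agent.Lib.Helper19.QuadStd.coe_stdOdd] at h
  exact h

end Cfsg.Agent.S5678
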