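import Cfsg.Statements.S5682
import Mathlib
import Cfsg.Agent.Lib.Helper27.OrthTensor2
import Cfsg.Agent.Lib.Helper27.QuadBridge

set_option autoImplicit false
open Cfsg

namespace Cfsg.Agent.S5682

/-- Let F be the field with 3 elements, m ≥ 6, Q the standard quadratic form on F^(2m+1) and Ω the commutator subgroup of its isometry group. Suppose the polar form of Q is similar, through P and e, to the tensor product of non-degenerate symmetric bilinear forms f₁ on F^3 and f₂ on F^(n₂) with 3 < n₂. Then the elements of Ω in the stabiliser of this tensor decomposition form a subgroup that is not maximal: some subgroup lies strictly between it and Ω. -/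
theorem result {F : Type*} [Field F] [Fintype F] (hq : Fintype.card F = 3) (m : ℕ) (hm : 6 ≤ m) (n₂ : ℕ) (h2 : 3 < n₂) (e : (Unit ⊕ (Fin m ⊕ Fin m)) ≃ Fin 3 × Fin n₂) (P : Matrix.GeneralLinearGroup (Unit ⊕ (Fin m ⊕ Fin m)) F) (f₁ : (Fin 3 → F) → (Fin 3 → F) → F) (f₂ : (Fin n₂ → F) → (Fin n₂ → F) → F) (hf₁ : Cfsg.Geo.IsSymmetricForm f₁) (hf₂ : Cfsg.Geo.IsSymmetricForm f₂) (hT : Cfsg.Geo.IsTensorFormStructure id (QuadraticMap.polar (Cfsg.quadFormOdd m F)) f₁ f₂ e P) : ∃ K : Subgroup (Matrix.GeneralLinearGroup (Unit ⊕ (Fin m ⊕ Fin m)) F), Cfsg.Geo.tensorProductSubgroup 3 n₂ e P ⊓ Cfsg.Geo.omegaGL (Cfsg.quadFormOdd m F) < K ∧ K < Cfsg.Geo.omegaGL (Cfsg.quadFormOdd m F) := by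
  have h3 := Cfsg.Agent.Lib.Helper27.SpTensor.three_eq_zero hq
  have h20 : (2 : F) ≠ 0 := by
    intro h2'
    have h1 : (1 : F) = 0 := by linear_combination h3 - h2'
    exact one_ne_zero h1
  have hT' : Cfsg.Geo.IsTensorFormStructure id
      (QuadraticMap.polar ⇑(Cfsg.Agent.Lib.Helper19.QuadStd.stdOdd m F)) f₁ f₂ e P := by
    rw [Cfsg.Agent.Lib.Helper19.QuadStd.coe_stdOdd]
    exact hT
  have h := Cfsg.Agent.Lib.Helper27.OrthTensor.exists_between_orth3 hq
    (Cfsg.Agent.Lib.Helper19.QuadStd.stdOdd m F)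
    (Cfsg.Agent.Lib.Helper19.QuadStd.stdOdd_nondeg m h20) n₂ (by omega) e P f₁ f₂ hf₁ hf₂ hT'
  rw [Cfsg.Agent.Lib.Helper19.QuadStd.coe_stdOdd] at h
  exact h

end Cfsg.Agent.S5682
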