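import Cfsg.Statements.S5689
import Mathlib
import Cfsg.Agent.Lib.Helper27.OrthNdeg8
import Cfsg.Agent.Lib.Helper27.QuadBridge

set_option autoImplicit false
open Cfsg

namespace Cfsg.Agent.S5689

/-- Let F be a finite field with q elements, n ≥ 13 even, Q a non-degenerate quadratic form on F^n of minus type (no subspace of dimension n/2 is totally singular), and Ω the commutator subgroup of the isometry group of Q, viewed inside GL_n(F). Let W be a non-zero proper subspace on which the polar form of Q is non-degenerate, not of odd dimension n/2. Exclude the case q ≤ 3 in which W, or its orthogonal complement, is a plane containing a line on which Q vanishes. Then the elements of Ω stabilising W form a maximal subgroup of Ω. -/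
theorem result {F : Type*} [Field F] [Fintype F] {n : ℕ} (hn : 13 ≤ n) (heven : Even n) (Q : (Fin n → F) → F) (hQ : Cfsg.Geo.IsNondegenerateQuadraticForm Q) (hminus : ¬ Cfsg.Geo.IsPlusTypeOn Q ⊤) (W : Submodule F (Fin n → F)) (hW0 : W ≠ ⊥) (hW1 : W ≠ ⊤) (hdim : ¬ (2 * Module.finrank F W = n ∧ Odd (Module.finrank F W))) (hW : Cfsg.Geo.IsNondegenerateOn (QuadraticMap.polar Q) W) (hex : ¬ (Fintype.card F ≤ 3 ∧ (∃ U : Submodule F (Fin n → F), Module.finrank F U = 2 ∧ Cfsg.Geo.IsNondegenerateOn (QuadraticMap.polar Q) U ∧ Cfsg.Geo.IsPlusTypeOn Q U ∧ (U = W ∨ (Cfsg.Geo.AreOrthogonalFor (QuadraticMap.polar Q) U W ∧ Module.finrank F U + Module.finrank F W = n))))) : Cfsg.Geo.IsMaximalIn (Cfsg.Geo.omegaGL Q) (Cfsg.Geo.subspaceStabilizer W ⊓ Cfsg.Geo.omegaGL Q) := by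
  classical
  have hcard : Fintype.card (Fin n) = n := Fintype.card_fin n
  have hfr : Module.finrank F (Fin n → F) = n := by
    rw [Module.finrank_fintype_fun_eq_card, hcard]
  have hQn := Cfsg.Agent.Lib.Helper27.QuadBridge.toQF_nondeg Q hQ
  have hW' : Cfsg.Agent.Lib.Helper19.Parity.Nondeg (Cfsg.Agent.Lib.Helper27.QuadBridge.toQF Q hQ) W :=
    Cfsg.Agent.Lib.Helper27.OrthNdeg.nondeg_of_isNondegenerateOn _ hW
  by_cases hhalf : 2 * Module.finrank F W = n
  · have hev : ¬ Odd (Module.finrank F W) := fun h => hdim ⟨hhalf, h⟩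
    rw [Nat.not_odd_iff_even] at hev
    obtain ⟨k, hk⟩ := hev
    have ho := Cfsg.Agent.Lib.Helper19.Parity.finrank_orth hQn W
    rw [hfr] at ho
    apply Cfsg.Agent.Lib.Helper27.OrthNdeg.ndeg_maximal
      (Cfsg.Agent.Lib.Helper27.QuadBridge.toQF Q hQ) hQn hW' (by omega)
    · intro h
      rw [h, finrank_bot] at ho
      omega
    · intro g
      exact Cfsg.Agent.Lib.Helper27.OrthNdeg.not_maps_orth_of_minus
        (Cfsg.Agent.Lib.Helper27.QuadBridge.toQF Q hQ) hQn hW' (k := k) (by omega)
        (by rw [hcard]; omega) hminus g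
    · intro h
      omega
  · exact Cfsg.Agent.Lib.Helper27.OrthNdeg.ndeg_maximal_of_dims
      (Cfsg.Agent.Lib.Helper27.QuadBridge.toQF Q hQ) hQn (by rw [hcard]; exact hn) hW' hW0 hW1
      (by rw [hcard]; exact hhalf)
      (by
        intro P hP hP2 hs
        by_contra hq
        apply hex
        refine ⟨by omega, P, hP2, ?_, ?_, ?_⟩
        · rcases hP with rfl | rfl
          · exact hW
          · exact Cfsg.Agent.Lib.Helper27.OrthNdeg.isNondegenerateOn_of_nondeg _
              (Cfsg.Agent.Lib.Helper27.OrthNdeg.nondeg_orth _ hQn hW')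
        · obtain ⟨s, hsP, hs0, hQs⟩ := hs
          exact Cfsg.Agent.Lib.Helper27.OrthNdeg.isPlusTypeOn_plane
            (Cfsg.Agent.Lib.Helper27.QuadBridge.toQF Q hQ) hP2 hsP hs0 hQs
        · rcases hP with rfl | rfl
          · exact Or.inl rfl
          · right
            refine ⟨?_, ?_⟩
            · intro u hu v hv
              have := Cfsg.Agent.Lib.Helper19.Parity.mem_orth.mp hu v hv
              rw [QuadraticMap.polar_comm]
              exact this
            · have ho := Cfsg.Agent.Lib.Helper19.Parity.finrank_orth hQn W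
              rw [hfr] at ho
              have hle : Module.finrank F W ≤ n := by
                have := Submodule.finrank_le W
                rw [hfr] at this
                exact this
              omega)

end Cfsg.Agent.S5689
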