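import Cfsg.Statements.S5691
import Mathlib
import Cfsg.Agent.Lib.Helper27.OrthNonsing3
import Cfsg.Agent.Lib.Helper27.QuadBridge

set_option autoImplicit false
open Cfsg

namespace Cfsg.Agent.S5691

/-- Let F be a finite field with q elements, n ≥ 13 even, Q a non-degenerate quadratic form on F^n (of either type), and Ω the commutator subgroup of the isometry group of Q, viewed inside GL_n(F). Suppose q is even and v is a vector with Q(v) ≠ 0. Then the elements of Ω stabilising the line spanned by v form a maximal subgroup of Ω. -/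
theorem result {F : Type*} [Field F] [Fintype F] {n : ℕ} (hn : 13 ≤ n) (heven : Even n) (Q : (Fin n → F) → F) (hQ : Cfsg.Geo.IsNondegenerateQuadraticForm Q) (hchar : ¬ Odd (Fintype.card F)) (v : (Fin n → F)) (hv : Q v ≠ 0) : Cfsg.Geo.IsMaximalIn (Cfsg.Geo.omegaGL Q) (Cfsg.Geo.subspaceStabilizer (Submodule.span F {v}) ⊓ Cfsg.Geo.omegaGL Q) := by
  classical
  have hcard : Fintype.card (Fin n) = n := Fintype.card_fin n
  have h2 : (2 : F) = 0 := Cfsg.Agent.Lib.Helper27.OrthNonsing.two_eq_zero_of_not_odd hchar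
  obtain ⟨s, hs⟩ := Cfsg.Agent.Lib.Helper27.OrthNonsing.exists_sq_eq h2 (Q v)⁻¹
  have hs0 : s ≠ 0 := by
    rintro rfl
    rw [zero_pow (by norm_num)] at hs
    exact inv_ne_zero hv hs.symm
  have hQsv : (Cfsg.Agent.Lib.Helper27.QuadBridge.toQF Q hQ) (s • v) = 1 := by
    rw [QuadraticMap.map_smul, smul_eq_mul, ← sq, hs]
    exact inv_mul_cancel₀ hv
  have hspan : Submodule.span F {s • v} = Submodule.span F {v} :=
    Submodule.span_singleton_smul_eq (IsUnit.mk0 s hs0) v
  have key := Cfsg.Agent.Lib.Helper27.OrthNonsing.nonsing_stab_maximal h2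
    (Cfsg.Agent.Lib.Helper27.QuadBridge.toQF Q hQ)
    (Cfsg.Agent.Lib.Helper27.QuadBridge.toQF_nondeg Q hQ) (by rw [hcard]; omega) hQsv
  rw [hspan] at key
  exact key

end Cfsg.Agent.S5691
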