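import Cfsg.Statements.S5727
import Cfsg.Agent.Lib.Helper8.PrimeOrbits

set_option autoImplicit false
open Cfsg

namespace Cfsg.Agent.S5727

open MulAction Cfsg.Agent.Lib.Helper8

theorem result {G Ω : Type*} [Group G] [Finite G] [MulAction G Ω] [FaithfulSMul G Ω] [Fintype Ω] (htr : MulAction.IsPretransitive G Ω)
    (p m : ℕ) (hp : p.Prime) (hm : 1 ≤ m) (hmp : m ≤ p) (hΩ : Fintype.card Ω = m * p) :
    ∃ g : G, orderOf g = p ∧ ∀ ω : Ω, g • ω ≠ ω := by
  have : Fact p.Prime := ⟨hp⟩
  have hΩ' : Nat.card Ω = m * p := by rw [Nat.card_eq_fintype_card, hΩ]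
  rcases eq_or_lt_of_le hmp with rfl | hlt
  · apply exists_derangement_orderOf_eq_prime 2 (by norm_num)
    rw [hΩ', pow_two]
  · have hne : Nonempty Ω := by
      have h : 0 < Nat.card Ω := by rw [hΩ']; exact Nat.mul_pos hm hp.pos
      exact (Nat.card_pos_iff.mp h).1
    obtain ⟨ω₀⟩ := hne
    let P : Sylow p G := default
    have hQ : IsPGroup p (P : Subgroup G) := P.isPGroup'
    obtain ⟨a, ha⟩ := (IsPGroup.iff_card).mp hQ
    have horb : ∀ ω : Ω, (orbit (P : Subgroup G) ω).ncard = p := by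
      intro ω
      have h1 : p ∣ (orbit (P : Subgroup G) ω).ncard := by
        have := pow_dvd_card_sylow_orbit P ω 1 (by
          rw [orbit_eq_univ, Set.ncard_univ, hΩ', pow_one]; exact Dvd.intro_left m rfl)
        simpa using this
      have h2 : (orbit (P : Subgroup G) ω).ncard ∣ p ^ a := by
        rw [← index_stabilizer, ← ha]
        exact Subgroup.index_dvd_card _
      obtain ⟨j, _, hj⟩ := (Nat.dvd_prime_pow hp).mp h2
      have h3 : (orbit (P : Subgroup G) ω).ncard ≤ m * p := by
        rw [← hΩ', ← Set.ncard_univ]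
        exact Set.ncard_le_ncard (Set.subset_univ _)
      have h4 : p ^ j < p ^ 2 := by
        rw [← hj, pow_two]
        exact lt_of_le_of_lt h3 (Nat.mul_lt_mul_of_pos_right hlt hp.pos)
      have hj2 : j < 2 := (Nat.pow_lt_pow_iff_right hp.one_lt).mp h4
      have hj0 : j ≠ 0 := by
        rintro rfl
        rw [hj, pow_zero] at h1
        exact hp.one_lt.ne' (Nat.dvd_one.mp h1)
      have : j = 1 := by omega
      rw [hj, this, pow_one]
    obtain ⟨z, hz1, hz2⟩ := exists_fixedPointFree_of_orbits_prime hQ m hlt hΩ' horb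
    refine ⟨(z : G), ?_, fun ω => hz1 ω⟩
    apply orderOf_eq_prime
    · apply FaithfulSMul.eq_of_smul_eq_smul (α := Ω)
      intro ω
      rw [one_smul]
      exact hz2 ω
    · intro h1
      apply hz1 ω₀
      show (z : G) • ω₀ = ω₀
      rw [h1, one_smul]

end Cfsg.Agent.S5727
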