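import Mathlib
import Cfsg.Statements.S5728

set_option autoImplicit false
open Cfsg

namespace Cfsg.Agent.S5728

theorem prime_dvd_aux {p s l : ℕ} (hp : p.Prime) (hs : p = 2 ^ s - 1) (hl : l.Prime)
    (h : l ∣ p ^ 2 - 1) : l ∣ p - 1 := by
  have h2s : 2 ^ s = p + 1 := by have := Nat.one_le_two_pow (n := s); omega
  have hfac : p ^ 2 - 1 = (p - 1) * 2 ^ s := by
    rw [h2s]
    have : 1 ≤ p := hp.one_le
    obtain ⟨m, rfl⟩ : ∃ m, p = m + 1 := ⟨p - 1, by omega⟩
    have : (m + 1) ^ 2 - 1 = m * m + 2 * m := by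
      have : (m + 1) ^ 2 = m * m + 2 * m + 1 := by ring
      omega
    rw [this, Nat.add_sub_cancel]; ring
  rw [hfac] at h
  rcases (Nat.Prime.dvd_mul hl).1 h with h | h
  · exact h
  · have h2 : l = 2 := (Nat.prime_dvd_prime_iff_eq hl Nat.prime_two).1 (hl.dvd_of_dvd_pow h)
    subst h2
    have hs0 : s ≠ 0 := by
      rintro rfl
      simp at hs
      subst hs
      exact Nat.not_prime_zero hp
    obtain ⟨t, rfl⟩ : ∃ t, s = t + 1 := ⟨s - 1, by omega⟩
    rw [pow_succ] at h2s
    omega

theorem mem_primeField {p : ℕ} [Fact p.Prime] {K : Type*} [Field K] [Algebra (ZMod p) K]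
    (a : K) (ha : a ^ (p - 1) = 1) :
    ∃ a' : ZMod p, a' ≠ 0 ∧ algebraMap (ZMod p) K a' = a := by
  classical
  have hpp : p.Prime := Fact.out
  have hpos : 0 < p - 1 := by have := hpp.two_le; omega
  set S := (Finset.univ.filter (fun z : ZMod p => z ≠ 0)).image (algebraMap (ZMod p) K) with hS
  have hScard : S.card = p - 1 := by
    rw [hS, Finset.card_image_of_injective _ (algebraMap (ZMod p) K).injective,
      Finset.filter_ne', Finset.card_erase_of_mem (Finset.mem_univ _), Finset.card_univ, ZMod.card]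
  have hsub : S ⊆ (Polynomial.nthRoots (p - 1) (1 : K)).toFinset := by
    intro z hz
    rw [hS, Finset.mem_image] at hz
    obtain ⟨z', hz', rfl⟩ := hz
    rw [Finset.mem_filter] at hz'
    rw [Multiset.mem_toFinset, Polynomial.mem_nthRoots hpos, ← map_pow,
      ZMod.pow_card_sub_one_eq_one hz'.2, map_one]
  have hcard : (Polynomial.nthRoots (p - 1) (1 : K)).toFinset.card ≤ S.card := by
    rw [hScard]
    exact (Multiset.toFinset_card_le _).trans (Polynomial.card_nthRoots _ _)
  have := Finset.eq_of_subset_of_card_le hsub hcard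
  have ha' : a ∈ S := by
    rw [this, Multiset.mem_toFinset, Polynomial.mem_nthRoots hpos]; exact ha
  rw [hS, Finset.mem_image] at ha'
  obtain ⟨a', h1, h2⟩ := ha'
  exact ⟨a', (Finset.mem_filter.1 h1).2, h2⟩

/-- An elusive transitive action. Let p = 2^s − 1 be a prime and let F be the field with p² elements. Inside the group of affine maps x ↦ a·x + b of F (a ≠ 0), consider the subgroup of maps with both coefficients in the prime field. Then every element of prime order of the affine group is conjugate, within the affine group, to an element of that subgroup; equivalently, in the transitive action of the affine group on the cosets of that subgroup (of degree p(p + 1)) every element of prime order fixes a point. -/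
theorem result (p s : ℕ) [Fact p.Prime] (hs : p = 2 ^ s - 1)
    (g : Equiv.Perm (GaloisField p 2)) (hg : g ∈ Cfsg.affineGroup (GaloisField p 2)) (hord : (orderOf g).Prime) :
    ∃ x ∈ Cfsg.affineGroup (GaloisField p 2), ∃ a b : ZMod p, a ≠ 0 ∧
      ∀ y : GaloisField p 2, (x * g * x⁻¹) y = algebraMap (ZMod p) (GaloisField p 2) a * y + algebraMap (ZMod p) (GaloisField p 2) b := by
  classical
  obtain ⟨a, b, hab⟩ := hg
  have hpp : p.Prime := Fact.out
  by_cases ha1 : (a : GaloisField p 2) = 1
  · have hb : b ≠ 0 := by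
      rintro rfl
      have : g = 1 := by ext y; simp [hab, ha1]
      rw [this, orderOf_one] at hord
      exact Nat.not_prime_one hord
    refine ⟨Equiv.mulLeft₀ b⁻¹ (inv_ne_zero hb), ⟨Units.mk0 b⁻¹ (inv_ne_zero hb), 0, fun y => by simp⟩,
      1, 1, one_ne_zero, ?_⟩
    intro y
    obtain ⟨w, rfl⟩ : ∃ w, y = (Equiv.mulLeft₀ b⁻¹ (inv_ne_zero hb)) w :=
      ⟨(Equiv.mulLeft₀ b⁻¹ (inv_ne_zero hb)).symm y, (Equiv.apply_symm_apply _ _).symm⟩
    rw [Equiv.Perm.mul_apply, Equiv.Perm.mul_apply, ← Equiv.Perm.mul_apply _⁻¹, inv_mul_cancel,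
      Equiv.Perm.one_apply, hab, ha1]
    simp only [Equiv.mulLeft₀_apply, map_one, one_mul]
    field_simp
  · set y0 : GaloisField p 2 := b / (1 - a) with hy0
    have h1a : (1 : GaloisField p 2) - a ≠ 0 := sub_ne_zero.2 (Ne.symm ha1)
    have hfix : (a : GaloisField p 2) * y0 + b = y0 := by rw [hy0]; field_simp; ring
    have hpow : ∀ k : ℕ, ∀ y, (g ^ k) y = (a : GaloisField p 2) ^ k * (y - y0) + y0 := by
      intro k
      induction k with
      | zero => intro y; simp
      | succ k ih =>
        intro y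
        rw [pow_succ', Equiv.Perm.mul_apply, ih, hab, pow_succ']
        linear_combination hfix
    have hal : (a : GaloisField p 2) ^ (orderOf g) = 1 := by
      have := hpow (orderOf g) (y0 + 1)
      rw [pow_orderOf_eq_one, Equiv.Perm.one_apply] at this
      linear_combination -this
    have hal' : a ^ (orderOf g) = 1 := Units.ext (by simpa using hal)
    have hol : orderOf a = orderOf g := by
      rcases (Nat.dvd_prime hord).1 (orderOf_dvd_of_pow_eq_one hal') with h | h
      · exfalso; rw [orderOf_eq_one_iff] at h; exact ha1 (by rw [h]; rfl)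
      · exact h
    have hcardK : Nat.card (GaloisField p 2)ˣ = p ^ 2 - 1 := by
      rw [Nat.card_units, GaloisField.card p 2 (by norm_num)]
    have hdvd : orderOf g ∣ p ^ 2 - 1 := by
      rw [← hol, ← hcardK]; exact orderOf_dvd_natCard a
    have hdvd' : orderOf g ∣ p - 1 := prime_dvd_aux hpp hs hord hdvd
    have hap : (a : GaloisField p 2) ^ (p - 1) = 1 := by
      have : a ^ (p - 1) = 1 := by rw [← hol] at hdvd'; exact orderOf_dvd_iff_pow_eq_one.1 hdvd'
      have := congrArg Units.val this
      simpa using this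
    obtain ⟨a', ha'0, ha'⟩ := mem_primeField (p := p) (a : GaloisField p 2) hap
    refine ⟨Equiv.addRight (-y0), ⟨1, -y0, fun y => by simp⟩, a', 0, ha'0, ?_⟩
    intro y
    obtain ⟨w, rfl⟩ : ∃ w, y = (Equiv.addRight (-y0)) w :=
      ⟨(Equiv.addRight (-y0)).symm y, (Equiv.apply_symm_apply _ _).symm⟩
    rw [Equiv.Perm.mul_apply, Equiv.Perm.mul_apply, ← Equiv.Perm.mul_apply _⁻¹, inv_mul_cancel,
      Equiv.Perm.one_apply, hab, ha']
    simp only [Equiv.coe_addRight, map_zero, add_zero]
    linear_combination hfix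

end Cfsg.Agent.S5728
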