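import Cfsg.Statements.S5729
import Cfsg.Agent.Lib.Helper8.Burnside

set_option autoImplicit false
open Cfsg

namespace Cfsg.Agent.S5729

open MulAction Cfsg.Agent.Lib.Helper8


theorem result {G Ω : Type*} [Group G] [Finite G] [MulAction G Ω] [FaithfulSMul G Ω] [Fintype Ω] (htr : MulAction.IsPretransitive G Ω) (hn : 3 ≤ Fintype.card Ω) :
    ((MulAction.IsPretransitive G Ω ∧ (∃ g : G, g ≠ 1 ∧ ∃ ω : Ω, g • ω = ω) ∧ ∀ g : G, g ≠ 1 → Nat.card (MulAction.fixedBy Ω g) ≤ 1) ∧ Nat.card G = Fintype.card Ω * (Fintype.card Ω - 1) ∧ Fintype.card Ω * Nat.card {g : G // ∀ ω : Ω, g • ω ≠ ω} = Nat.card G) ∨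
    Nat.card G < Fintype.card Ω * Nat.card {g : G // ∀ ω : Ω, g • ω ≠ ω} := by
  classical
  have : Fintype G := Fintype.ofFinite G
  have hne : Nonempty Ω := Fintype.card_pos_iff.mp (by omega)
  set n := Fintype.card Ω with hn_def
  set D := (Finset.univ.filter fun g : G => ∀ ω : Ω, g • ω ≠ ω) with hD
  have hDcard : Nat.card {g : G // ∀ ω : Ω, g • ω ≠ ω} = D.card := by
    rw [Nat.card_eq_fintype_card, Fintype.card_subtype]
  have hGcard : Nat.card G = Fintype.card G := Nat.card_eq_fintype_card
  rw [hDcard, hGcard]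
  set r := Nat.card (orbitRel.Quotient G (Ω × Ω)) with hr
  have hr2 : 2 ≤ r := two_le_rank (G := G) (Ω := Ω) (by omega)
  have key := key_ineq (G := G) (Ω := Ω) r hr
  -- nonnegativity of the terms
  have hterm : ∀ g ∈ (Finset.univ.filter fun g : G => ¬ ∀ ω : Ω, g • ω ≠ ω),
      0 ≤ -(((fixN (Ω := Ω) g : ℤ) - 1) * ((fixN (Ω := Ω) g : ℤ) - Fintype.card Ω)) := by
    intro g hg
    have h1 : fixN (Ω := Ω) g ≠ 0 := fun h => (Finset.mem_filter.mp hg).2 ((fixN_eq_zero_iff g).mp h)
    have h2 : fixN (Ω := Ω) g ≤ Fintype.card Ω := fixN_le g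
    have h1' : (1 : ℤ) ≤ fixN (Ω := Ω) g := by exact_mod_cast Nat.one_le_iff_ne_zero.mpr h1
    have h2' : (fixN (Ω := Ω) g : ℤ) ≤ Fintype.card Ω := by exact_mod_cast h2
    nlinarith
  have hS := Finset.sum_nonneg hterm
  have hGpos : (0 : ℤ) < Fintype.card G := by exact_mod_cast Fintype.card_pos
  have hr2' : (2 : ℤ) ≤ r := by exact_mod_cast hr2
  have hle : (Fintype.card G : ℤ) ≤ (n : ℤ) * D.card := by
    rw [← key]; nlinarith
  by_cases hlt : Fintype.card G < n * D.card
  · right; exact hlt
  left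
  have heq : n * D.card = Fintype.card G := by
    apply le_antisymm (not_lt.mp hlt)
    exact_mod_cast hle
  have heq' : (n : ℤ) * D.card = Fintype.card G := by exact_mod_cast heq
  -- r = 2 and S = 0
  have key' : ((r : ℤ) - 1) * Fintype.card G +
      ∑ g ∈ (Finset.univ.filter fun g : G => ¬ ∀ ω : Ω, g • ω ≠ ω),
        -(((fixN (Ω := Ω) g : ℤ) - 1) * ((fixN (Ω := Ω) g : ℤ) - Fintype.card Ω)) =
      Fintype.card G := key.trans heq'
  have hr_eq : r = 2 := by
    have : ((r : ℤ) - 1) * Fintype.card G ≤ Fintype.card G := by linarith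
    have : (r : ℤ) - 1 ≤ 1 := by
      by_contra h
      push Not at h
      nlinarith
    have : (r : ℤ) ≤ 2 := by linarith
    have : r ≤ 2 := by exact_mod_cast this
    omega
  have hS0 : ∑ g ∈ (Finset.univ.filter fun g : G => ¬ ∀ ω : Ω, g • ω ≠ ω),
        -(((fixN (Ω := Ω) g : ℤ) - 1) * ((fixN (Ω := Ω) g : ℤ) - Fintype.card Ω)) = 0 := by
    have : (r : ℤ) = 2 := by exact_mod_cast hr_eq
    rw [this] at key'
    linarith
  have hzero := (Finset.sum_eq_zero_iff_of_nonneg hterm).mp hS0
  -- f g = 1 or n for non-derangements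
  have hfix : ∀ g : G, g ≠ 1 → fixN (Ω := Ω) g ≤ 1 := by
    intro g hg1
    by_cases hgD : ∀ ω : Ω, g • ω ≠ ω
    · rw [(fixN_eq_zero_iff g).mpr hgD]; exact Nat.zero_le _
    · have := hzero g (Finset.mem_filter.mpr ⟨Finset.mem_univ _, hgD⟩)
      rw [neg_eq_zero, mul_eq_zero] at this
      rcases this with h | h
      · have : (fixN (Ω := Ω) g : ℤ) = 1 := by linarith
        have : fixN (Ω := Ω) g = 1 := by exact_mod_cast this
        omega
      · exfalso
        have h' : (fixN (Ω := Ω) g : ℤ) = Fintype.card Ω := by linarith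
        have h'' : fixN (Ω := Ω) g = Fintype.card Ω := by exact_mod_cast h'
        unfold fixN at h''
        rw [Finset.card_eq_iff_eq_univ] at h''
        apply hg1
        apply FaithfulSMul.eq_of_smul_eq_smul (α := Ω)
        intro ω
        rw [one_smul]
        have : ω ∈ (Finset.univ.filter fun ω : Ω => g • ω = ω) := by rw [h'']; exact Finset.mem_univ _
        exact (Finset.mem_filter.mp this).2
  have hfix' : ∀ g : G, g ≠ 1 → Nat.card (MulAction.fixedBy Ω g) ≤ 1 := by
    intro g hg1
    have : Nat.card (MulAction.fixedBy Ω g) = fixN (Ω := Ω) g := by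
      rw [Nat.card_eq_fintype_card, Fintype.card_subtype]
      rfl
    rw [this]; exact hfix g hg1
  -- |G| = n (n - 1)
  obtain ⟨α, β, hαβ⟩ := Fintype.exists_pair_of_one_lt_card (by omega : 1 < Fintype.card Ω)
  have hstab : stabilizer G ((α, β) : Ω × Ω) = ⊥ := by
    rw [eq_bot_iff]
    intro g hg
    rw [mem_stabilizer_iff] at hg
    rw [Subgroup.mem_bot]
    by_contra hg1
    have h1 : g • α = α := by have := congrArg Prod.fst hg; simpa using this
    have h2 : g • β = β := by have := congrArg Prod.snd hg; simpa using this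
    have h3 := hfix g hg1
    unfold fixN at h3
    have h4 : ({α, β} : Finset Ω) ⊆ (Finset.univ.filter fun ω : Ω => g • ω = ω) := by
      intro x hx
      rw [Finset.mem_insert, Finset.mem_singleton] at hx
      rcases hx with rfl | rfl
      · exact Finset.mem_filter.mpr ⟨Finset.mem_univ _, h1⟩
      · exact Finset.mem_filter.mpr ⟨Finset.mem_univ _, h2⟩
    have h5 := Finset.card_le_card h4
    rw [Finset.card_pair hαβ] at h5
    omega
  have horbit : orbit G ((α, β) : Ω × Ω) = ((Finset.univ.offDiag : Finset (Ω × Ω)) : Set (Ω × Ω)) := by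
    ext ⟨γ, δ⟩
    simp only [Finset.coe_offDiag, Finset.coe_univ, Set.mem_offDiag, Set.mem_univ, true_and]
    constructor
    · rintro ⟨g, hg⟩
      have h1 : g • α = γ := by have := congrArg Prod.fst hg; simpa using this
      have h2 : g • β = δ := by have := congrArg Prod.snd hg; simpa using this
      rw [← h1, ← h2]
      exact fun h => hαβ (smul_left_cancel g h)
    · intro hγδ
      -- use r = 2
      have : Fintype (orbitRel.Quotient G (Ω × Ω)) := Fintype.ofFinite _
      have hcard2 : Fintype.card (orbitRel.Quotient G (Ω × Ω)) = 2 := by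
        rw [← Nat.card_eq_fintype_card, ← hr, hr_eq]
      have hdiag : ∀ (a b c : Ω), b ≠ c →
          (Quotient.mk'' (a, a) : orbitRel.Quotient G (Ω × Ω)) ≠ Quotient.mk'' (b, c) := by
        intro a b c hbc h
        have h' := Quotient.exact' h
        rw [orbitRel_apply] at h'
        obtain ⟨g, hg⟩ := h'
        have h1 : g • b = a := by have := congrArg Prod.fst hg; simpa using this
        have h2 : g • c = a := by have := congrArg Prod.snd hg; simpa using this
        exact hbc (smul_left_cancel g (h1.trans h2.symm))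
      have hq : (Quotient.mk'' (γ, δ) : orbitRel.Quotient G (Ω × Ω)) = Quotient.mk'' (α, β) := by
        by_contra hne'
        have h3 : 2 < Fintype.card (orbitRel.Quotient G (Ω × Ω)) := by
          rw [Fintype.two_lt_card_iff]
          exact ⟨Quotient.mk'' (α, α), Quotient.mk'' (γ, δ), Quotient.mk'' (α, β),
            hdiag α γ δ hγδ, hdiag α α β hαβ, hne'⟩
        omega
      have h' := Quotient.exact' hq
      rw [orbitRel_apply] at h'
      exact h'
  have hGn : Fintype.card G = n * (n - 1) := by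
    have h1 := Subgroup.card_mul_index (stabilizer G ((α, β) : Ω × Ω))
    rw [index_stabilizer, hstab, Subgroup.card_bot, one_mul, horbit, Set.ncard_coe_finset,
      Finset.offDiag_card, Finset.card_univ, Nat.card_eq_fintype_card] at h1
    rw [← h1, Nat.mul_sub_one]
  refine ⟨⟨htr, ?_, hfix'⟩, hGn, heq⟩
  -- a nontrivial element of a point stabilizer
  have h1 := Subgroup.card_mul_index (stabilizer G α)
  rw [index_stabilizer_of_transitive, Nat.card_eq_fintype_card (α := Ω),
    Nat.card_eq_fintype_card (α := G), hGn] at h1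
  have h2 : Nat.card (stabilizer G α) = n - 1 := by
    have hnpos : 0 < n := by omega
    have : Nat.card (stabilizer G α) * n = (n - 1) * n := by rw [mul_comm (n - 1) n]; exact h1
    exact Nat.eq_of_mul_eq_mul_right hnpos this
  have h3 : stabilizer G α ≠ ⊥ := by
    intro h
    rw [h, Subgroup.card_bot] at h2
    omega
  obtain ⟨g, hg1⟩ := (Subgroup.ne_bot_iff_exists_ne_one).mp h3
  exact ⟨(g : G), fun h => hg1 (Subtype.ext h), α, g.2⟩


end Cfsg.Agent.S5729
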