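import Cfsg.Statements.S5739
import Cfsg.Agent.Lib.Helper24.Singer

set_option autoImplicit false
open Cfsg
open Cfsg.Agent.Lib.Helper24

namespace Cfsg.Agent.S5739

/-- Let F ⊆ K be finite fields with |F| = q and [K : F] = n ≥ 2, and let M ≤ GL_F(K) be the Singer group of multiplications by non-zero elements of K. If g ∈ GL_F(K) does not normalise M, then the order of M ∩ gMg⁻¹ divides q^r − 1 for some proper divisor r of n. In particular, when n is prime, that order divides q − 1. -/
theorem result {F K : Type*} [Field F] [Fintype F] [Field K] [Fintype K] [Algebra F K] (n : ℕ) (hn : 2 ≤ n) (hdim : Module.finrank F K = n)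
    (g : (Module.End F K)ˣ) (hg : ((Units.map ((Algebra.lmul F K : K →ₐ[F] Module.End F K) : K →* Module.End F K)).range).map (MulAut.conj g).toMonoidHom ≠ (Units.map ((Algebra.lmul F K : K →ₐ[F] Module.End F K) : K →* Module.End F K)).range) :
    ∃ r : ℕ, 1 ≤ r ∧ r ∣ n ∧ r < n ∧ Nat.card ↥(((Units.map ((Algebra.lmul F K : K →ₐ[F] Module.End F K) : K →* Module.End F K)).range).map (MulAut.conj g).toMonoidHom ⊓ (Units.map ((Algebra.lmul F K : K →ₐ[F] Module.End F K) : K →* Module.End F K)).range) ∣ Fintype.card F ^ r - 1 := by
  classical
  have hmul := Module.finrank_mul_finrank F (singerConjField g) K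
  rw [hdim] at hmul
  have hrpos : 1 ≤ Module.finrank F (singerConjField g) := Module.finrank_pos
  have hrdvd : Module.finrank F (singerConjField g) ∣ n := Dvd.intro _ hmul
  have hrle : Module.finrank F (singerConjField g) ≤ n := Nat.le_of_dvd (by omega) hrdvd
  refine ⟨Module.finrank F (singerConjField g), hrpos, hrdvd, ?_, ?_⟩
  · rcases Nat.lt_or_ge (Module.finrank F (singerConjField g)) n with h | h
    · exact h
    · exfalso
      have hreq : Module.finrank F (singerConjField g) = n := Nat.le_antisymm hrle h
      rw [hreq] at hmul
      have h1 : Module.finrank (singerConjField g) K = 1 := by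
        have : n * Module.finrank (singerConjField g) K = n * 1 := by rw [hmul, mul_one]
        exact Nat.eq_of_mul_eq_mul_left (by omega) this
      rw [IntermediateField.finrank_eq_one_iff_eq_top] at h1
      apply hg
      symm
      haveI : Finite (Module.End F K) :=
        Finite.of_injective (fun f : Module.End F K => (f : K → K)) DFunLike.coe_injective
      apply Subgroup.eq_of_le_of_card_ge
      · rintro s ⟨a, rfl⟩
        have hmem : (a : K) ∈ singerConjField g := by rw [h1]; exact IntermediateField.mem_top
        obtain ⟨b, hb⟩ := hmem
        have hb0 : b ≠ 0 := by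
          intro h0
          rw [h0, map_zero, mul_zero, zero_mul] at hb
          have := congrArg (fun f : Module.End F K => f 1) hb
          simp at this
        refine ⟨Units.map ((Algebra.lmul F K : K →ₐ[F] Module.End F K) : K →* Module.End F K)
          (Units.mk0 b hb0), ⟨_, rfl⟩, ?_⟩
        apply Units.ext
        simp only [MulEquiv.coe_toMonoidHom, MulAut.conj_apply, Units.val_mul, Units.coe_map,
          Units.val_mk0]
        exact hb.symm
      · rw [Subgroup.card_map_of_injective (MulAut.conj g).injective]
  · rw [singer_inter_card, Nat.card_eq_fintype_card]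

end Cfsg.Agent.S5739
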