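import Cfsg.Statements.S5747
-- import your own Cfsg.Agent.* helpers here

set_option autoImplicit false
open Cfsg

namespace Cfsg.Agent.S5747

open MulAction

section

variable {G Ω : Type*} [Group G] [MulAction G Ω]

/-- `l` is an irredundant base for the subgroup `H`. -/
def IB (H : Subgroup G) : List Ω → Prop
  | [] => H = ⊥
  | (ω :: l) => (∃ h ∈ H, h • ω ≠ ω) ∧ IB (H ⊓ stabilizer G ω) l

/-- the Fin-indexed form of an irredundant base for the subgroup `H`. -/
def PH (H : Subgroup G) {t : ℕ} (f : Fin t → Ω) : Prop :=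
  (∀ g ∈ H, (∀ i : Fin t, g • f i = f i) → g = 1) ∧
    ∀ i : Fin t, ∃ g ∈ H, (∀ j : Fin t, j < i → g • f j = f j) ∧ g • f i ≠ f i

theorem IB_ofFn : ∀ (t : ℕ) (H : Subgroup G) (f : Fin t → Ω), IB H (List.ofFn f) ↔ PH H f := by
  intro t
  induction t with
  | zero =>
    intro H f
    rw [List.ofFn_zero]
    unfold IB PH
    constructor
    · intro h
      refine ⟨fun g hg _ => ?_, fun i => i.elim0⟩
      rw [h, Subgroup.mem_bot] at hg
      exact hg
    · rintro ⟨h, -⟩
      rw [eq_bot_iff]
      intro g hg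
      rw [Subgroup.mem_bot]
      exact h g hg (fun i => i.elim0)
  | succ t ih =>
    intro H f
    rw [List.ofFn_succ]
    unfold IB
    rw [ih]
    constructor
    · rintro ⟨⟨h, hh, hmove⟩, htriv, hirr⟩
      refine ⟨?_, ?_⟩
      · intro g hg hfix
        refine htriv g ⟨hg, hfix 0⟩ (fun i => hfix i.succ)
      · intro i
        refine Fin.cases ?_ ?_ i
        · exact ⟨h, hh, fun j hj => absurd hj (Fin.not_lt_zero j), hmove⟩
        · intro i'
          obtain ⟨g, hg, hgfix, hgmove⟩ := hirr i'
          refine ⟨g, hg.1, ?_, hgmove⟩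
          intro j
          refine Fin.cases ?_ ?_ j
          · intro _
            exact hg.2
          · intro j' hj'
            exact hgfix j' (Fin.succ_lt_succ_iff.mp hj')
    · rintro ⟨htriv, hirr⟩
      refine ⟨?_, ?_, ?_⟩
      · obtain ⟨g, hg, -, hmove⟩ := hirr 0
        exact ⟨g, hg, hmove⟩
      · intro g hg hfix
        refine htriv g hg.1 ?_
        intro i
        refine Fin.cases ?_ ?_ i
        · exact hg.2
        · exact hfix
      · intro i'
        obtain ⟨g, hg, hgfix, hgmove⟩ := hirr i'.succ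
        refine ⟨g, ⟨hg, hgfix 0 (Fin.succ_pos i')⟩, ?_, hgmove⟩
        intro j hj
        exact hgfix j.succ (Fin.succ_lt_succ_iff.mpr hj)

/-- trivial pointwise stabilizer in `H` -/
def Triv (H : Subgroup G) (l : List Ω) : Prop :=
  ∀ g ∈ H, (∀ ω ∈ l, g • ω = ω) → g = 1

theorem IB.triv : ∀ (l : List Ω) (H : Subgroup G), IB H l → Triv H l := by
  intro l
  induction l with
  | nil =>
    intro H h g hg _
    unfold IB at h
    rw [h, Subgroup.mem_bot] at hg
    exact hg
  | cons ω l ih =>
    intro H h g hg hfix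
    unfold IB at h
    refine ih _ h.2 g ⟨hg, hfix ω (List.mem_cons_self)⟩ ?_
    intro ω' hω'
    exact hfix ω' (List.mem_cons_of_mem _ hω')

/-- extraction of an irredundant base from any base -/
theorem exists_sublist : ∀ (l : List Ω) (H : Subgroup G), Triv H l →
    ∃ l' : List Ω, l'.Sublist l ∧ IB H l' := by
  intro l
  induction l with
  | nil =>
    intro H h
    refine ⟨[], List.Sublist.refl _, ?_⟩
    unfold IB
    rw [eq_bot_iff]
    intro g hg
    rw [Subgroup.mem_bot]
    exact h g hg (fun ω hω => absurd hω (List.not_mem_nil))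
  | cons ω l ih =>
    intro H h
    by_cases hm : ∃ g ∈ H, g • ω ≠ ω
    · have h' : Triv (H ⊓ stabilizer G ω) l := by
        intro g hg hfix
        refine h g hg.1 ?_
        intro ω' hω'
        rcases List.mem_cons.mp hω' with rfl | hω'
        · exact hg.2
        · exact hfix ω' hω'
      obtain ⟨l', hsub, hIB⟩ := ih _ h'
      exact ⟨ω :: l', hsub.cons₂ ω, hm, hIB⟩
    · push_neg at hm
      have h' : Triv H l := by
        intro g hg hfix
        refine h g hg ?_
        intro ω' hω'
        rcases List.mem_cons.mp hω' with rfl | hω'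
        · exact hm g hg
        · exact hfix ω' hω'
      obtain ⟨l', hsub, hIB⟩ := ih _ h'
      exact ⟨l', hsub.cons ω, hIB⟩

/-- (i) ⇒ (ii) at the level of lists -/
theorem perm_of_same_length (H : Subgroup G)
    (hA : ∀ l l' : List Ω, IB H l → IB H l' → l.length = l'.length)
    (l l' : List Ω) (hp : l'.Perm l) (hl : IB H l) : IB H l' := by
  have ht : Triv H l' := by
    intro g hg hfix
    refine IB.triv l H hl g hg ?_
    intro ω hω
    exact hfix ω (hp.mem_iff.mpr hω)
  obtain ⟨l'', hsub, hIB⟩ := exists_sublist l' H ht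
  have hlen : l''.length = l'.length := by
    rw [hA l'' l hIB hl, hp.length_eq]
  rw [← hsub.eq_of_length hlen]
  exact hIB

/-- adjacent swaps preserve irredundant bases -/
def Swp (Ω : Type*) [MulAction G Ω] (H : Subgroup G) : Prop :=
  ∀ (p : List Ω) (b c : Ω) (m : List Ω), IB H (p ++ b :: c :: m) → IB H (p ++ c :: b :: m)

theorem Swp.stab {H : Subgroup G} (hS : Swp Ω H) (a : Ω) (ha : ∃ h ∈ H, h • a ≠ a) :
    Swp Ω (H ⊓ stabilizer G a) := by
  intro p b c m h
  have h1 : IB H ((a :: p) ++ b :: c :: m) := ⟨ha, h⟩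
  exact (hS (a :: p) b c m h1).2

def Faithful (Ω : Type*) [MulAction G Ω] (H : Subgroup G) : Prop :=
  ∀ g ∈ H, (∀ ω : Ω, g • ω = ω) → g = 1

theorem IB.faithful {H : Subgroup G} {l : List Ω} (h : IB H l) : Faithful Ω H :=
  fun g hg hfix => IB.triv l H h g hg (fun ω _ => hfix ω)

theorem Faithful.mono {H K : Subgroup G} (h : Faithful Ω H) (hle : K ≤ H) : Faithful Ω K :=
  fun g hg hfix => h g (hle hg) hfix

theorem Faithful.exists_IB [Fintype Ω] {H : Subgroup G} (h : Faithful Ω H) :
    ∃ m : List Ω, IB H m := by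
  obtain ⟨l', -, hIB⟩ := exists_sublist (Finset.univ : Finset Ω).toList H
    (fun g hg hfix => h g hg (fun ω => hfix ω (Finset.mem_toList.mpr (Finset.mem_univ ω))))
  exact ⟨l', hIB⟩

theorem card_stab_lt [Finite G] (H : Subgroup G) (a : Ω) (ha : ∃ h ∈ H, h • a ≠ a) :
    Nat.card ↥(H ⊓ stabilizer G a) < Nat.card ↥H := by
  by_contra hcon
  push_neg at hcon
  have := Subgroup.eq_of_le_of_card_ge (inf_le_left : H ⊓ stabilizer G a ≤ H) hcon
  obtain ⟨h, hh, hmove⟩ := ha
  rw [← this] at hh
  exact hmove hh.2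

/-- (ii) ⇒ (i) at the level of lists -/
theorem same_length_of_swp [Finite G] [Fintype Ω] : ∀ (n : ℕ) (H : Subgroup G), Nat.card ↥H = n →
    Swp Ω H →
    ∀ l1 l2 : List Ω, IB H l1 → IB H l2 → l1.length = l2.length := by
  intro n
  induction n using Nat.strong_induction_on with
  | _ n ih =>
    intro H hn hS l1 l2 h1 h2
    have hbot : ∀ (b : Ω) (l : List Ω), IB H ([] : List Ω) → IB H (b :: l) → False := by
      intro b l h h'
      unfold IB at h
      obtain ⟨g, hg, hmove⟩ := h'.1
      rw [h, Subgroup.mem_bot] at hg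
      rw [hg, one_smul] at hmove
      exact hmove rfl
    cases l1 with
    | nil =>
      cases l2 with
      | nil => rfl
      | cons b l2' => exact (hbot b l2' h1 h2).elim
    | cons a l1' =>
      cases l2 with
      | nil => exact (hbot a l1' h2 h1).elim
      | cons b l2' =>
        have hfa := h1.faithful
        have hca := card_stab_lt H a h1.1
        have hcb := card_stab_lt H b h2.1
        have ihA := ih _ (hn ▸ hca) (H ⊓ stabilizer G a) rfl (hS.stab a h1.1)
        have ihB := ih _ (hn ▸ hcb) (H ⊓ stabilizer G b) rfl (hS.stab b h2.1)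
        simp only [List.length_cons, add_left_inj]
        by_cases hab : ∃ h ∈ H ⊓ stabilizer G a, h • b ≠ b
        · obtain ⟨m, hm⟩ := (hfa.mono (inf_le_left.trans inf_le_left :
            (H ⊓ stabilizer G a) ⊓ stabilizer G b ≤ H)).exists_IB
          have hbm : IB (H ⊓ stabilizer G a) (b :: m) := ⟨hab, hm⟩
          have e1 := ihA l1' (b :: m) h1.2 hbm
          have habm : IB H ([] ++ a :: b :: m) := ⟨h1.1, hbm⟩
          have hbam := hS [] a b m habm
          have e2 := ihB l2' (a :: m) h2.2 hbam.2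
          rw [e1, e2]
          simp
        · by_cases hba : ∃ h ∈ H ⊓ stabilizer G b, h • a ≠ a
          · obtain ⟨m, hm⟩ := (hfa.mono (inf_le_left.trans inf_le_left :
              (H ⊓ stabilizer G b) ⊓ stabilizer G a ≤ H)).exists_IB
            have ham : IB (H ⊓ stabilizer G b) (a :: m) := ⟨hba, hm⟩
            have e1 := ihB l2' (a :: m) h2.2 ham
            have hbam : IB H ([] ++ b :: a :: m) := ⟨h2.1, ham⟩
            have habm := hS [] b a m hbam
            have e2 := ihA l1' (b :: m) h1.2 habm.2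
            rw [e1, e2]
            simp
          · push_neg at hab hba
            have heq : H ⊓ stabilizer G a = H ⊓ stabilizer G b := by
              apply le_antisymm
              · intro g hg
                exact ⟨hg.1, hab g hg⟩
              · intro g hg
                exact ⟨hg.1, hba g hg⟩
            have h2' := h2.2
            rw [← heq] at h2'
            exact ihA l1' l2' h1.2 h2'

/-- an adjacent swap as a reindexing -/
theorem exists_perm_swap (p : List Ω) (b c : Ω) (m : List Ω) :
    ∃ σ : Equiv.Perm (Fin (p ++ b :: c :: m).length),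
      List.ofFn ((p ++ b :: c :: m).get ∘ σ) = p ++ c :: b :: m := by
  induction p with
  | nil =>
    change ∃ σ : Equiv.Perm (Fin (m.length + 2)),
      List.ofFn ((b :: c :: m).get ∘ σ) = c :: b :: m
    refine ⟨Equiv.swap (0 : Fin (m.length + 2)) 1, ?_⟩
    rw [List.ofFn_succ, List.ofFn_succ]
    have h0 : ((b :: c :: m).get ∘ (Equiv.swap (0 : Fin (m.length + 2)) 1)) 0 = c := by
      simp
    have h1 : ((b :: c :: m).get ∘ (Equiv.swap (0 : Fin (m.length + 2)) 1)) (Fin.succ 0) = b := by
      simp
    rw [h0, h1]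
    congr 2
    have : (fun i : Fin m.length =>
        ((b :: c :: m).get ∘ (Equiv.swap (0 : Fin (m.length + 2)) 1)) i.succ.succ) = m.get := by
      funext i
      have hne0 : i.succ.succ ≠ (0 : Fin (m.length + 2)) := Fin.succ_ne_zero _
      have hne1 : i.succ.succ ≠ (1 : Fin (m.length + 2)) := by
        intro h
        have := congrArg Fin.val h
        simp at this
      simp only [Function.comp_apply, Equiv.swap_apply_of_ne_of_ne hne0 hne1]
      rfl
    rw [this, List.ofFn_get]
  | cons a p ih =>
    obtain ⟨σ, hσ⟩ := ih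
    refine ⟨Equiv.Perm.decomposeFin.symm (0, σ), ?_⟩
    simp only [List.cons_append]
    rw [List.ofFn_succ]
    refine congrArg₂ List.cons ?_ ?_
    · simp
    · rw [← hσ]
      congr 1

end

/-- Let a finite group G act on a finite set Ω. An irredundant base is a sequence of points ω₁, …, ω_t whose pointwise stabiliser is trivial and in which each ω_i is moved by some element fixing ω₁, …, ω_{i−1}. Then all irredundant bases have the same length if and only if every reordering of an irredundant base is again an irredundant base. -/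
theorem result {G Ω : Type*} [Group G] [Finite G] [MulAction G Ω] [Fintype Ω] :
    (∀ (t t' : ℕ) (f : Fin t → Ω) (f' : Fin t' → Ω), ((∀ g : G, (∀ i : Fin t, g • f i = f i) → g = 1) ∧ ∀ i : Fin t, ∃ g : G, (∀ j : Fin t, j < i → g • f j = f j) ∧ g • f i ≠ f i) → ((∀ g : G, (∀ i : Fin t', g • f' i = f' i) → g = 1) ∧ ∀ i : Fin t', ∃ g : G, (∀ j : Fin t', j < i → g • f' j = f' j) ∧ g • f' i ≠ f' i) → t = t') ↔
    (∀ (t : ℕ) (f : Fin t → Ω) (σ : Equiv.Perm (Fin t)), ((∀ g : G, (∀ i : Fin t, g • f i = f i) → g = 1) ∧ ∀ i : Fin t, ∃ g : G, (∀ j : Fin t, j < i → g • f j = f j) ∧ g • f i ≠ f i) → ((∀ g : G, (∀ i : Fin t, g • (f ∘ σ) i = (f ∘ σ) i) → g = 1) ∧ ∀ i : Fin t, ∃ g : G, (∀ j : Fin t, j < i → g • (f ∘ σ) j = (f ∘ σ) j) ∧ g • (f ∘ σ) i ≠ (f ∘ σ) i)) := by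
  -- translate the statement's predicate
  have key : ∀ (t : ℕ) (f : Fin t → Ω),
      ((∀ g : G, (∀ i : Fin t, g • f i = f i) → g = 1) ∧ ∀ i : Fin t, ∃ g : G,
        (∀ j : Fin t, j < i → g • f j = f j) ∧ g • f i ≠ f i) ↔ IB (⊤ : Subgroup G) (List.ofFn f) := by
    intro t f
    rw [IB_ofFn]
    unfold PH
    simp only [Subgroup.mem_top, true_and, forall_true_left]
  constructor
  · intro hA t f σ hf
    rw [key] at hf ⊢
    have hAl : ∀ l l' : List Ω, IB (⊤ : Subgroup G) l → IB (⊤ : Subgroup G) l' →
        l.length = l'.length := by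
      intro l l' hl hl'
      rw [← List.ofFn_get l, ← key] at hl
      rw [← List.ofFn_get l', ← key] at hl'
      exact hA _ _ _ _ hl hl'
    exact perm_of_same_length ⊤ hAl _ _ (σ.ofFn_comp_perm f) hf
  · intro hB t t' f f' hf hf'
    rw [key] at hf hf'
    have hS : Swp Ω (⊤ : Subgroup G) := by
      intro p b c m h
      obtain ⟨σ, hσ⟩ := exists_perm_swap p b c m
      rw [← List.ofFn_get (p ++ b :: c :: m), ← key] at h
      have := hB _ _ σ h
      rw [key, hσ] at this
      exact this
    have := same_length_of_swp _ ⊤ rfl hS _ _ hf hf'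
    simpa using this

end Cfsg.Agent.S5747
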