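import Cfsg.Statements.S5754
import Mathlib

set_option autoImplicit false
open Cfsg

namespace Cfsg.Agent.S5754

open QuadraticMap

variable {F V : Type*} [Field F] [AddCommGroup V] [Module F V]

/-- The functional `y ↦ B(a, y) / Q(a)`. -/
noncomputable def reflFun (Q : QuadraticForm F V) (a : V) : Module.Dual F V :=
  (Q a)⁻¹ • (polarBilin Q a)

theorem reflFun_apply (Q : QuadraticForm F V) (a y : V) :
    reflFun Q a y = (Q a)⁻¹ * polar Q a y := by
  simp [reflFun]

theorem reflFun_self (Q : QuadraticForm F V) (a : V) (ha : Q a ≠ 0) : reflFun Q a a = 2 := by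
  rw [reflFun_apply, polar_self, two_smul]
  field_simp
  ring

/-- The reflection (or transvection in characteristic two) along a non-singular vector. -/
noncomputable def refl (Q : QuadraticForm F V) (a : V) (ha : Q a ≠ 0) : Q.IsometryEquiv Q :=
  { toLinearEquiv := Module.reflection (reflFun_self Q a ha)
    map_app' := by
      intro y
      change Q (Module.reflection (reflFun_self Q a ha) y) = Q y
      rw [Module.reflection_apply, reflFun_apply]
      have h1 : y - ((Q a)⁻¹ * polar Q a y) • a = y + (-((Q a)⁻¹ * polar Q a y)) • a := by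
        rw [neg_smul, sub_eq_add_neg]
      rw [h1, QuadraticMap.map_add Q, QuadraticMap.map_smul, polar_smul_right, polar_comm Q y a]
      simp only [smul_eq_mul]
      field_simp
      ring }

theorem refl_apply (Q : QuadraticForm F V) (a : V) (ha : Q a ≠ 0) (y : V) :
    refl Q a ha y = y - ((Q a)⁻¹ * polar Q a y) • a := by
  change Module.reflection (reflFun_self Q a ha) y = _
  rw [Module.reflection_apply, reflFun_apply]

theorem polar_isometry (Q : QuadraticForm F V) (φ : Q.IsometryEquiv Q) (x y : V) :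
    polar Q (φ x) (φ y) = polar Q x y := by
  simp only [polar, ← map_add, IsometryEquiv.map_app]

theorem polar_eq_sub (Q : QuadraticForm F V) (x y : V) :
    polar Q x y = Q x + Q y - Q (x - y) := by
  have h1 : x - y = x + (-y) := sub_eq_add_neg x y
  rw [h1, QuadraticMap.map_add Q, QuadraticMap.map_neg, polar_neg_right]
  ring

theorem exists_isometry (Q : QuadraticForm F V) (hQ : Q.Anisotropic) :
    ∀ (n : ℕ) (v v' : Fin n → V), (∀ i, Q (v i) = Q (v' i)) →
      (∀ i j, polar Q (v i) (v j) = polar Q (v' i) (v' j)) →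
      ∃ φ : Q.IsometryEquiv Q, ∀ i, φ (v i) = v' i := by
  intro n
  induction n with
  | zero =>
    intro v v' _ _
    exact ⟨QuadraticMap.IsometryEquiv.refl Q, fun i => i.elim0⟩
  | succ n ih =>
    intro v v' hq hp
    obtain ⟨φ₀, hφ₀⟩ := ih (fun i => v i.castSucc) (fun i => v' i.castSucc)
      (fun i => hq _) (fun i j => hp _ _)
    by_cases ha : v' (Fin.last n) - φ₀ (v (Fin.last n)) = 0
    · refine ⟨φ₀, ?_⟩
      refine Fin.lastCases ?_ ?_
      · exact (sub_eq_zero.mp ha).symm
      · exact hφ₀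
    · have hQa : Q (v' (Fin.last n) - φ₀ (v (Fin.last n))) ≠ 0 := fun h => ha (hQ _ h)
      refine ⟨φ₀.trans (refl Q _ hQa), ?_⟩
      refine Fin.lastCases ?_ ?_
      · change refl Q _ hQa (φ₀ (v (Fin.last n))) = _
        rw [refl_apply]
        have key : polar Q (v' (Fin.last n) - φ₀ (v (Fin.last n))) (φ₀ (v (Fin.last n))) =
            - Q (v' (Fin.last n) - φ₀ (v (Fin.last n))) := by
          rw [polar_sub_left, polar_self, polar_eq_sub Q (v' (Fin.last n)) (φ₀ (v (Fin.last n))),
            IsometryEquiv.map_app, hq (Fin.last n)]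
          ring
        rw [key]
        have : (Q (v' (Fin.last n) - φ₀ (v (Fin.last n))))⁻¹ *
            -(Q (v' (Fin.last n) - φ₀ (v (Fin.last n)))) = -1 := by
          field_simp
        rw [this]
        simp
      · intro i
        change refl Q _ hQa (φ₀ (v i.castSucc)) = _
        rw [refl_apply]
        have key : polar Q (v' (Fin.last n) - φ₀ (v (Fin.last n))) (φ₀ (v i.castSucc)) = 0 := by
          rw [polar_sub_left, polar_isometry, hφ₀ i, hp]
          simp
        rw [key, hφ₀ i]
        simp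

theorem result {F V : Type*} [Field F] [Finite F] [AddCommGroup V] [Module F V] [Module.Finite F V]
    (Q : QuadraticForm F V) (hQ : Q.Anisotropic) (n : ℕ) (hn : 2 ≤ n) (u u' : Fin n → V)
    (h2 : ∀ i j : Fin n, i ≠ j → ∃ (φ : Q.IsometryEquiv Q) (c : V), φ (u i) + c = u' i ∧ φ (u j) + c = u' j) :
    ∃ (φ : Q.IsometryEquiv Q) (c : V), ∀ i, φ (u i) + c = u' i := by
  have hn0 : 0 < n := by omega
  have hQd : ∀ i j, Q (u i - u j) = Q (u' i - u' j) := by
    intro i j
    by_cases hij : i = j
    · subst hij; simp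
    · obtain ⟨φ, c, h1, h2⟩ := h2 i j hij
      rw [← h1, ← h2]
      have : φ (u i) + c - (φ (u j) + c) = φ (u i - u j) := by rw [map_sub]; abel
      rw [this, IsometryEquiv.map_app]
  obtain ⟨φ, hφ⟩ := exists_isometry Q hQ n (fun i => u i - u ⟨0, hn0⟩)
    (fun i => u' i - u' ⟨0, hn0⟩) (fun i => hQd i _) (by
      intro i j
      rw [polar_eq_sub, polar_eq_sub, hQd i _, hQd j _]
      have e1 : u i - u ⟨0, hn0⟩ - (u j - u ⟨0, hn0⟩) = u i - u j := by abel
      have e2 : u' i - u' ⟨0, hn0⟩ - (u' j - u' ⟨0, hn0⟩) = u' i - u' j := by abel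
      rw [e1, e2, hQd i j])
  refine ⟨φ, u' ⟨0, hn0⟩ - φ (u ⟨0, hn0⟩), fun i => ?_⟩
  have := hφ i
  rw [map_sub] at this
  rw [← sub_eq_zero]
  have h3 : φ (u i) + (u' ⟨0, hn0⟩ - φ (u ⟨0, hn0⟩)) - u' i =
      (φ (u i) - φ (u ⟨0, hn0⟩)) - (u' i - u' ⟨0, hn0⟩) := by abel
  rw [h3, this, sub_self]

end Cfsg.Agent.S5754
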