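import Cfsg.Statements.S5763
import Mathlib

set_option autoImplicit false
open Cfsg

namespace Cfsg.Agent.S5763


/-- the base fixed-point-free involution as a function -/
def t0f : Fin 8 → Fin 8 := ![1,0,3,2,5,4,7,6]
/-- pair index -/
def prf : Fin 8 → Fin 4 := ![0,0,1,1,2,2,3,3]

/-- `z` lies in `O_2(C(t))` (function level) -/
def RsetF (t z : Fin 8 → Fin 8) : Prop :=
  (∀ i, z (t i) = t (z i)) ∧
  ((∀ i, z i = i ∨ z i = t i) ∨
   ((∀ i, z i ≠ i ∧ z i ≠ t i) ∧ ∀ i, z (z i) = i ∨ z (z i) = t i))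

instance (t z : Fin 8 → Fin 8) : Decidable (RsetF t z) := by
  unfold RsetF; infer_instance

/-- swap of `i` and `t i` as a function -/
def swapF (t : Fin 8 → Fin 8) (i : Fin 8) : Fin 8 → Fin 8 :=
  fun k => if k = i then t i else if k = t i then i else k

/-- candidate elements -/
def cands (f : Fin 8 → Fin 8) : List (Fin 8 → Fin 8) :=
  [swapF t0f 0, swapF t0f 2, swapF t0f 4, swapF t0f 6, fun i => t0f (f (t0f (f i))), t0f]

/-- conclusion of the brute force lemma -/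
def Concl (f : Fin 8 → Fin 8) : Prop :=
  ∃ z ∈ cands f, (∃ i, z i ≠ i) ∧ RsetF t0f z ∧ RsetF f z

instance (f : Fin 8 → Fin 8) : Decidable (Concl f) := by
  unfold Concl; infer_instance

/-- level constraint -/
def Ck (k wk : Fin 8) (prev : List (Fin 8 × Fin 8)) : Prop :=
  wk ≠ k ∧ ∀ p ∈ prev, wk ≠ p.2 ∧ (p.2 = k ↔ wk = p.1)

instance (k wk : Fin 8) (prev : List (Fin 8 × Fin 8)) : Decidable (Ck k wk prev) := by
  unfold Ck; infer_instance

/-- level 7 -/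
def L7 (w0 : Fin 8) (w1 : Fin 8) (w2 : Fin 8) (w3 : Fin 8) (w4 : Fin 8) (w5 : Fin 8) (w6 : Fin 8) : Prop :=
  ∀ w7 : Fin 8, Ck 7 w7 [(0,w0),(1,w1),(2,w2),(3,w3),(4,w4),(5,w5),(6,w6)] → Concl ![w0,w1,w2,w3,w4,w5,w6,w7]

instance (w0 : Fin 8) (w1 : Fin 8) (w2 : Fin 8) (w3 : Fin 8) (w4 : Fin 8) (w5 : Fin 8) (w6 : Fin 8) : Decidable (L7 w0 w1 w2 w3 w4 w5 w6) := by
  unfold L7; infer_instance

/-- level 6 -/
def L6 (w0 : Fin 8) (w1 : Fin 8) (w2 : Fin 8) (w3 : Fin 8) (w4 : Fin 8) (w5 : Fin 8) : Prop :=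
  ∀ w6 : Fin 8, Ck 6 w6 [(0,w0),(1,w1),(2,w2),(3,w3),(4,w4),(5,w5)] → L7 w0 w1 w2 w3 w4 w5 w6

instance (w0 : Fin 8) (w1 : Fin 8) (w2 : Fin 8) (w3 : Fin 8) (w4 : Fin 8) (w5 : Fin 8) : Decidable (L6 w0 w1 w2 w3 w4 w5) := by
  unfold L6; infer_instance

/-- level 5 -/
def L5 (w0 : Fin 8) (w1 : Fin 8) (w2 : Fin 8) (w3 : Fin 8) (w4 : Fin 8) : Prop :=
  ∀ w5 : Fin 8, Ck 5 w5 [(0,w0),(1,w1),(2,w2),(3,w3),(4,w4)] → L6 w0 w1 w2 w3 w4 w5

instance (w0 : Fin 8) (w1 : Fin 8) (w2 : Fin 8) (w3 : Fin 8) (w4 : Fin 8) : Decidable (L5 w0 w1 w2 w3 w4) := by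
  unfold L5; infer_instance

/-- level 4 -/
def L4 (w0 : Fin 8) (w1 : Fin 8) (w2 : Fin 8) (w3 : Fin 8) : Prop :=
  ∀ w4 : Fin 8, Ck 4 w4 [(0,w0),(1,w1),(2,w2),(3,w3)] → L5 w0 w1 w2 w3 w4

instance (w0 : Fin 8) (w1 : Fin 8) (w2 : Fin 8) (w3 : Fin 8) : Decidable (L4 w0 w1 w2 w3) := by
  unfold L4; infer_instance

/-- level 3 -/
def L3 (w0 : Fin 8) (w1 : Fin 8) (w2 : Fin 8) : Prop :=
  ∀ w3 : Fin 8, Ck 3 w3 [(0,w0),(1,w1),(2,w2)] → L4 w0 w1 w2 w3

instance (w0 : Fin 8) (w1 : Fin 8) (w2 : Fin 8) : Decidable (L3 w0 w1 w2) := by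
  unfold L3; infer_instance

/-- level 2 -/
def L2 (w0 : Fin 8) (w1 : Fin 8) : Prop :=
  ∀ w2 : Fin 8, Ck 2 w2 [(0,w0),(1,w1)] → L3 w0 w1 w2

instance (w0 : Fin 8) (w1 : Fin 8) : Decidable (L2 w0 w1) := by
  unfold L2; infer_instance

/-- level 1 -/
def L1 (w0 : Fin 8) : Prop :=
  ∀ w1 : Fin 8, Ck 1 w1 [(0,w0)] → L2 w0 w1

instance (w0 : Fin 8) : Decidable (L1 w0) := by
  unfold L1; infer_instance

/-- level 0 -/
def L0  : Prop :=
  ∀ w0 : Fin 8, Ck 0 w0 [] → L1 w0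

instance  : Decidable (L0 ) := by
  unfold L0; infer_instance

set_option maxRecDepth 1000000 in
set_option maxHeartbeats 4000000 in
theorem BF : L0 := by
  decide +kernel



open Equiv

/-- base involution as a permutation -/
def t0 : Perm (Fin 8) := ⟨t0f, t0f, by decide, by decide⟩

theorem t0_coe : ⇑t0 = t0f := rfl

/-- Klein four-group acting on pairs -/
def vf : Fin 4 → Fin 8 → Fin 8 :=
  ![![0,1,2,3,4,5,6,7], ![2,3,0,1,6,7,4,5], ![4,5,6,7,0,1,2,3], ![6,7,4,5,2,3,0,1]]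

set_option maxRecDepth 100000 in
theorem V0 : ∀ i : Fin 8, vf 0 i = i := by decide +kernel
set_option maxRecDepth 100000 in
theorem V1 : ∀ a : Fin 4, ∀ x y : Fin 8, prf x = prf y → prf (vf a x) = prf (vf a y) := by
  decide +kernel
set_option maxRecDepth 100000 in
theorem V2 : ∀ a : Fin 4, ∀ i : Fin 8, vf a (vf a i) = i := by decide +kernel
set_option maxRecDepth 100000 in
theorem V3 : ∀ a b : Fin 4, ∃ c : Fin 4, ∀ i : Fin 8, vf a (vf b i) = vf c i := by decide +kernel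
theorem D1 : ∀ a b : Fin 8, prf a = prf b → a = b ∨ a = t0f b := by decide +kernel
theorem D2 : ∀ i : Fin 8, t0f (t0f i) = i := by decide +kernel
theorem D3 : ∀ i : Fin 8, t0f i ≠ i := by decide +kernel
theorem D4 : ∀ i : Fin 8, prf (t0f i) = prf i := by decide +kernel

/-- representatives of pairs -/
def rep : Fin 4 → Fin 8 := ![0,2,4,6]
theorem D5 : ∀ i : Fin 8, i = rep (prf i) ∨ i = t0f (rep (prf i)) := by decide +kernel
theorem D6 : ∀ k : Fin 4, prf (rep k) = k := by decide +kernel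

set_option maxRecDepth 100000 in
theorem C4' : ∀ s0 s1 s2 s3 : Fin 4, (∀ k, ![s0,s1,s2,s3] k ≠ k) →
    (∀ k, ![s0,s1,s2,s3] (![s0,s1,s2,s3] k) = k) →
    ∃ a : Fin 4, ∀ i : Fin 8, ![s0,s1,s2,s3] (prf i) = prf (vf a i) := by decide +kernel

theorem C4 (σ : Fin 4 → Fin 4) (h1 : ∀ k, σ k ≠ k) (h2 : ∀ k, σ (σ k) = k) :
    ∃ a : Fin 4, ∀ i : Fin 8, σ (prf i) = prf (vf a i) := by
  have h : ![σ 0, σ 1, σ 2, σ 3] = σ := by
    funext k; fin_cases k <;> rfl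
  have := C4' (σ 0) (σ 1) (σ 2) (σ 3)
  rw [h] at this
  exact this h1 h2

/-- the 2-group `O_2(C(t0))` -/
def Q0 : Subgroup (Perm (Fin 8)) where
  carrier := {g | ∃ a : Fin 4, ∀ i, prf (g i) = prf (vf a i)}
  one_mem' := ⟨0, fun i => by rw [V0]; rfl⟩
  mul_mem' := by
    rintro g g' ⟨a, h⟩ ⟨b, h'⟩
    obtain ⟨c, h''⟩ := V3 a b
    refine ⟨c, fun i => ?_⟩
    rw [Perm.mul_apply, h, V1 a _ _ (h' i), h'']
  inv_mem' := by
    rintro g ⟨a, h⟩
    refine ⟨a, fun i => ?_⟩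
    have h1 : prf i = prf (vf a (g⁻¹ i)) := by
      rw [← h]; simp
    have h2 := V1 a _ _ h1
    rw [V2 a] at h2
    exact h2.symm

theorem mem_Q0 (g : Perm (Fin 8)) : g ∈ Q0 ↔ ∃ a : Fin 4, ∀ i, prf (g i) = prf (vf a i) := Iff.rfl

theorem sq_one_of_pr (h : Perm (Fin 8)) (hh : ∀ i, prf (h i) = prf i) : h * h = 1 := by
  ext i
  rw [Perm.mul_apply, Perm.one_apply]
  congr 1
  rcases D1 _ _ (hh i) with h1 | h1
  · rw [h1, h1]
  · rw [h1]
    rcases D1 _ _ (hh (t0f i)) with h2 | h2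
    · exfalso
      have : h (t0f i) = h i := by rw [h2, h1]
      exact D3 i (h.injective this)
    · rw [h2, D2]

theorem Q0_pgroup : IsPGroup 2 Q0 := by
  rintro ⟨g, a, h⟩
  refine ⟨2, ?_⟩
  apply Subtype.ext
  have h1 : ∀ i, prf ((g * g) i) = prf i := by
    intro i
    rw [Perm.mul_apply, h, V1 a _ _ (h i), V2 a]
  have h2 := sq_one_of_pr (g * g) h1
  show g ^ 2 ^ 2 = 1
  calc g ^ 2 ^ 2 = (g * g) * (g * g) := by
        norm_num [pow_succ, mul_assoc]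
    _ = 1 := h2

theorem R2Q (g : Perm (Fin 8)) (hg : RsetF t0f g) : g ∈ Q0 := by
  obtain ⟨hc, hA | ⟨hB1, hB2⟩⟩ := hg
  · refine ⟨0, fun i => ?_⟩
    rw [V0]
    rcases hA i with h | h
    · rw [h]
    · rw [h, D4]
  · set σ : Fin 4 → Fin 4 := fun k => prf (g (rep k)) with hσ
    have c1 : ∀ i, prf (g i) = σ (prf i) := by
      intro i
      rcases D5 i with h | h
      · rw [hσ]; simp only; rw [← h]
      · rw [hσ]; simp only
        conv_lhs => rw [h, hc, D4]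
    have c2 : ∀ k, σ k ≠ k := by
      intro k hk
      have h1 : prf (g (rep k)) = prf (rep k) := by rw [D6]; exact hk
      rcases D1 _ _ h1 with h2 | h2
      · exact (hB1 _).1 h2
      · exact (hB1 _).2 h2
    have c3 : ∀ k, σ (σ k) = k := by
      intro k
      have : σ (σ k) = prf (g (g (rep k))) := (c1 _).symm
      rw [this]
      rcases hB2 (rep k) with h | h
      · rw [h, D6]
      · rw [h, D4, D6]
    obtain ⟨a, h⟩ := C4 σ c2 c3
    exact ⟨a, fun i => by rw [c1, h]⟩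



open Equiv

theorem Ck_of_perm (t' : Perm (Fin 8)) (hinv : ∀ i, t' (t' i) = i) (hfpf : ∀ i, t' i ≠ i)
    (k : Fin 8) (js : List (Fin 8)) (hk : k ∉ js) :
    Ck k (t' k) (js.map fun j => (j, t' j)) := by
  refine ⟨hfpf k, ?_⟩
  intro p hp
  obtain ⟨j, hj, rfl⟩ := List.mem_map.1 hp
  have hjk : j ≠ k := fun h => hk (h ▸ hj)
  refine ⟨fun h => hjk (t'.injective h).symm, ?_⟩
  simp only
  constructor
  · intro h
    rw [← h, hinv]
  · intro h
    rw [← h, hinv]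

theorem nat_RsetF (y z : Perm (Fin 8)) (h : RsetF ⇑(y * t0 * y⁻¹) ⇑z) :
    RsetF t0f ⇑(y⁻¹ * z * y) := by
  have ht : ∀ j, (y * t0 * y⁻¹) (y j) = y (t0f j) := by
    intro j
    simp [Perm.mul_apply, t0_coe]
  have hy : ∀ a b : Fin 8, y⁻¹ a = b ↔ a = y b := by
    intro a b
    constructor
    · intro h; rw [← h]; simp
    · intro h; rw [h]; simp
  obtain ⟨hc, hAB⟩ := h
  refine ⟨?_, ?_⟩
  · intro i
    simp only [Perm.mul_apply]
    rw [hy]
    have e1 : z (y (t0f i)) = (y * t0 * y⁻¹) (z (y i)) := by rw [← ht i, hc]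
    rw [e1]
    simp [Perm.mul_apply, t0_coe]
  · rcases hAB with hA | ⟨hB1, hB2⟩
    · left
      intro i
      simp only [Perm.mul_apply]
      rcases hA (y i) with h | h
      · left; rw [hy]; exact h
      · right; rw [hy, ← ht]; exact h
    · right
      refine ⟨fun i => ⟨?_, ?_⟩, fun i => ?_⟩
      · simp only [Perm.mul_apply]
        rw [Ne, hy]
        exact (hB1 (y i)).1
      · simp only [Perm.mul_apply]
        rw [Ne, hy, ← ht]
        exact (hB1 (y i)).2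
      · simp only [Perm.mul_apply]
        have e : y (y⁻¹ (z (y i))) = z (y i) := by simp
        rw [e]
        rcases hB2 (y i) with h | h
        · left; rw [hy]; exact h
        · right; rw [hy, ← ht]; exact h

theorem cands_perm (t' : Perm (Fin 8)) (zf : Fin 8 → Fin 8) (hz : zf ∈ cands ⇑t') :
    ∃ z : Perm (Fin 8), ⇑z = zf := by
  have hs : ∀ a : Fin 8, ⇑(Equiv.swap a (t0f a)) = swapF t0f a := by
    intro a
    funext k
    rw [Equiv.swap_apply_def]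
    rfl
  simp only [cands, List.mem_cons, List.not_mem_nil, or_false] at hz
  rcases hz with rfl | rfl | rfl | rfl | rfl | rfl
  · exact ⟨_, hs 0⟩
  · exact ⟨_, hs 2⟩
  · exact ⟨_, hs 4⟩
  · exact ⟨_, hs 6⟩
  · exact ⟨t0 * t' * t0 * t', rfl⟩
  · exact ⟨t0, rfl⟩

theorem main_y (y : Perm (Fin 8)) :
    ∃ z : Perm (Fin 8), z ≠ 1 ∧ z ∈ Q0 ∧ y⁻¹ * z * y ∈ Q0 := by
  set t' : Perm (Fin 8) := y * t0 * y⁻¹ with ht'
  have hinv : ∀ i, t' (t' i) = i := by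
    intro i
    simp [ht', Perm.mul_apply, t0_coe, D2]
  have hfpf : ∀ i, t' i ≠ i := by
    intro i h
    simp only [ht', Perm.mul_apply, t0_coe] at h
    have h2 : t0f (y⁻¹ i) = y⁻¹ i := by
      apply y.injective
      rw [h]; simp
    exact D3 _ h2
  have hvec : ![t' 0, t' 1, t' 2, t' 3, t' 4, t' 5, t' 6, t' 7] = ⇑t' := by
    funext k; fin_cases k <;> rfl
  have hC : Concl ⇑t' := by
    rw [← hvec]
    exact BF (t' 0) (Ck_of_perm t' hinv hfpf 0 [] (by decide))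
      (t' 1) (Ck_of_perm t' hinv hfpf 1 [0] (by decide))
      (t' 2) (Ck_of_perm t' hinv hfpf 2 [0,1] (by decide))
      (t' 3) (Ck_of_perm t' hinv hfpf 3 [0,1,2] (by decide))
      (t' 4) (Ck_of_perm t' hinv hfpf 4 [0,1,2,3] (by decide))
      (t' 5) (Ck_of_perm t' hinv hfpf 5 [0,1,2,3,4] (by decide))
      (t' 6) (Ck_of_perm t' hinv hfpf 6 [0,1,2,3,4,5] (by decide))
      (t' 7) (Ck_of_perm t' hinv hfpf 7 [0,1,2,3,4,5,6] (by decide))
  obtain ⟨zf, hzf, ⟨i, hi⟩, hR0, hR'⟩ := hC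
  obtain ⟨z, rfl⟩ := cands_perm t' _ hzf
  refine ⟨z, ?_, R2Q z hR0, R2Q _ (nat_RsetF y z hR')⟩
  intro h
  apply hi
  rw [h]
  rfl



open Equiv


/-- In the symmetric group on 8 letters any two Sylow 2-subgroups have non-trivial intersection: for a Sylow 2-subgroup H and every element x, H ∩ xHx⁻¹ ≠ 1. -/
theorem result (H : Sylow 2 (Equiv.Perm (Fin 8))) (x : Equiv.Perm (Fin 8)) :
    (H : Subgroup (Equiv.Perm (Fin 8))) ⊓ (H : Subgroup (Equiv.Perm (Fin 8))).map (MulAut.conj x).toMonoidHom ≠ ⊥ := by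
  obtain ⟨H0, hH0⟩ := Q0_pgroup.exists_le_sylow
  obtain ⟨g, hg⟩ := MulAction.exists_smul_eq (Perm (Fin 8)) H0 H
  have hconj : ∀ q ∈ Q0, g * q * g⁻¹ ∈ (H : Subgroup (Perm (Fin 8))) := by
    intro q hq
    rw [← hg, Sylow.coe_subgroup_smul]
    have := Subgroup.smul_mem_pointwise_smul q (MulAut.conj g) (H0 : Subgroup (Perm (Fin 8)))
      (hH0 hq)
    simpa [MulAut.smul_def] using this
  obtain ⟨z, hz1, hzQ, hzQ'⟩ := main_y (g⁻¹ * x * g)
  intro hbot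
  have hmem : g * z * g⁻¹ ∈ (H : Subgroup (Perm (Fin 8))) ⊓
      (H : Subgroup (Perm (Fin 8))).map (MulAut.conj x).toMonoidHom := by
    refine ⟨hconj z hzQ, ?_⟩
    refine ⟨g * ((g⁻¹ * x * g)⁻¹ * z * (g⁻¹ * x * g)) * g⁻¹, hconj _ hzQ', ?_⟩
    simp only [MulEquiv.toMonoidHom_eq_coe, MonoidHom.coe_coe, MulAut.conj_apply]
    group
  rw [hbot, Subgroup.mem_bot] at hmem
  apply hz1
  have : z = g⁻¹ * (g * z * g⁻¹) * g := by group
  rw [this, hmem]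
  group

end Cfsg.Agent.S5763
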