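import Cfsg.Statements.S5893
import Cfsg.Agent.Lib.Helper12.DkW

set_option autoImplicit false
open Cfsg

namespace Cfsg.Agent.S5893

/-- Let F be a finite field of even order q ≥ 4 and let M be a maximal subgroup of PSL₂(F) (= SL₂(F) = PGL₂(F)). Then one of the following holds: |M| = q(q − 1) (the stabiliser of a point of the projective line, elementary abelian of order q extended by a cyclic group of order q − 1); M is dihedral of order 2(q − 1); M is dihedral of order 2(q + 1); or q = q₀^r for a prime r with q₀ ≠ 2 and M ≅ PSL₂(F₀) with |F₀| = q₀. -/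
theorem result {F : Type*} [Field F] [Fintype F]
    (heven : Even (Fintype.card F)) (h4 : 4 ≤ Fintype.card F) (M : Subgroup (Matrix.ProjectiveSpecialLinearGroup (Fin 2) F)) (hM : IsCoatom M) :
    Nat.card M = Fintype.card F * (Fintype.card F - 1) ∨
    Nonempty (M ≃* DihedralGroup (Fintype.card F - 1)) ∨
    Nonempty (M ≃* DihedralGroup (Fintype.card F + 1)) ∨
    (∃ (F₀ : Type) (_ : Field F₀) (_ : Fintype F₀) (r : ℕ), r.Prime ∧ Fintype.card F₀ ≠ 2 ∧
        Fintype.card F = Fintype.card F₀ ^ r ∧ Nonempty (M ≃* Matrix.ProjectiveSpecialLinearGroup (Fin 2) F₀)) := by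
  classical
  -- characteristic two
  have h2 : (2 : F) = 0 := by
    have hc : ringChar F = 2 := FiniteField.even_card_iff_char_two.mpr (Nat.even_iff.mp heven)
    haveI : CharP F 2 := hc ▸ ringChar.charP F
    exact_mod_cast CharP.cast_eq_zero F 2
  set π := QuotientGroup.mk' (Subgroup.center (Matrix.SpecialLinearGroup (Fin 2) F)) with hπ
  have hsurj : Function.Surjective π := QuotientGroup.mk'_surjective _
  have hinj : Function.Injective π := by
    rw [← MonoidHom.ker_eq_bot_iff, hπ, QuotientGroup.ker_mk']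
    exact Cfsg.Agent.Lib.Helper1.DkOrders.center_eq_bot_of_two h2
  have hcoat : IsCoatom (M.comap π) := Subgroup.isCoatom_comap_of_surjective hsurj hM
  have hmap : (M.comap π).map π = M := Subgroup.map_comap_eq_self_of_surjective hsurj M
  have hcard : Nat.card M = Nat.card (M.comap π) := by
    conv_lhs => rw [← hmap]
    exact Subgroup.card_map_of_injective hinj
  rcases Cfsg.Agent.Lib.Helper12.DkW.coatom_two heven h2 h4 hcoat with
    h | ⟨⟨f⟩⟩ | ⟨⟨f⟩⟩ | ⟨F₀, i1, i2, r, hr, hc, hq, ⟨f⟩⟩
  · left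
    rw [hcard, h, mul_comm]
  · exact Or.inr (Or.inl ⟨(MulEquiv.subgroupCongr hmap).symm.trans f⟩)
  · exact Or.inr (Or.inr (Or.inl ⟨(MulEquiv.subgroupCongr hmap).symm.trans f⟩))
  · exact Or.inr (Or.inr (Or.inr ⟨F₀, i1, i2, r, hr, hc, hq,
      ⟨(MulEquiv.subgroupCongr hmap).symm.trans f⟩⟩))

end Cfsg.Agent.S5893
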