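import Cfsg.Statements.S5905

set_option autoImplicit false
set_option linter.unusedSectionVars false
open Cfsg

namespace Cfsg.Agent.S5905

open Equiv MulAction
open scoped Pointwise

section

variable {Ω : Type*} [Fintype Ω] [DecidableEq Ω] {b : ℕ} (f : Ω → Fin b)

/-- The group of permutations preserving the partition into fibres of `f`. -/
def W : Subgroup (Perm Ω) where
  carrier := {g | ∀ x y : Ω, f x = f y ↔ f (g x) = f (g y)}
  one_mem' := by intro x y; rfl
  mul_mem' := by
    intro g h hg hh x y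
    rw [hh x y, hg (h x) (h y)]; rfl
  inv_mem' := by
    intro g hg x y
    have := hg (g⁻¹ x) (g⁻¹ y)
    have e1 : ∀ u, g (g⁻¹ u) = u := fun u => by
      rw [← Perm.mul_apply, mul_inv_cancel, Perm.one_apply]
    rw [e1, e1] at this
    exact this.symm

theorem mem_W {g : Perm Ω} : g ∈ W f ↔ ∀ x y : Ω, f x = f y ↔ f (g x) = f (g y) := Iff.rfl

theorem closure_eq_W :
    Subgroup.closure {g : Perm Ω | ∀ x y : Ω, f x = f y ↔ f (g x) = f (g y)} = W f :=
  Subgroup.closure_eq (W f)

theorem swap_mem_W (x y : Ω) (h : f x = f y) : swap x y ∈ W f := by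
  intro u v
  have key : ∀ u, f (swap x y u) = f u := by
    intro u
    by_cases hux : u = x
    · rw [hux, swap_apply_left, h]
    · by_cases huy : u = y
      · rw [huy, swap_apply_right, h]
      · rw [swap_apply_of_ne_of_ne hux huy]
  rw [key, key]

/-- Coordinates on `Ω`. -/
theorem exists_coords (a : ℕ) (hf : ∀ i : Fin b, Nat.card {x : Ω // f x = i} = a) :
    ∃ φ : Ω ≃ Fin b × Fin a, ∀ v, (φ v).1 = f v := by
  have he : ∀ i : Fin b, Nonempty ({x : Ω // f x = i} ≃ Fin a) := by
    intro i
    rw [← Finite.card_eq (α := {x : Ω // f x = i}) (β := Fin a), hf i, Nat.card_fin]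
  choose e _ using fun i => (he i).elim (fun e => (⟨e, trivial⟩ : ∃ _ : {x : Ω // f x = i} ≃ Fin a, True))
  refine ⟨(Equiv.sigmaFiberEquiv f).symm.trans ((Equiv.sigmaCongrRight e).trans
    (Equiv.sigmaEquivProd _ _)), ?_⟩
  intro v
  rfl

theorem exists_partner (a : ℕ) (ha : 2 ≤ a) (hf : ∀ i : Fin b, Nat.card {x : Ω // f x = i} = a)
    (x : Ω) : ∃ x', x' ≠ x ∧ f x' = f x := by
  have h1 : 1 < Fintype.card {v : Ω // f v = f x} := by
    rw [← Nat.card_eq_fintype_card, hf]; omega
  obtain ⟨⟨x', hx'⟩, hne⟩ := Fintype.exists_ne_of_one_lt_card h1 ⟨x, rfl⟩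
  exact ⟨x', fun h => hne (Subtype.ext h), hx'⟩

/-- `W` is transitive, with control on the support. -/
theorem exists_mem_W_apply_eq (a : ℕ) (hf : ∀ i : Fin b, Nat.card {x : Ω // f x = i} = a)
    (x y : Ω) : ∃ w ∈ W f, w x = y ∧ ∀ v, f v ≠ f x → f v ≠ f y → w v = v := by
  by_cases hxy : f x = f y
  · refine ⟨swap x y, swap_mem_W f x y hxy, swap_apply_left x y, ?_⟩
    intro v hvx hvy
    apply swap_apply_of_ne_of_ne
    · intro h; exact hvx (by rw [h])
    · intro h; exact hvy (by rw [h])
  · obtain ⟨φ, hφ⟩ := exists_coords f a hf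
    set σ : Perm Ω := φ.permCongr.symm (Equiv.prodCongr (swap (f x) (f y)) (Equiv.refl (Fin a)))
      with hσ
    have hσφ : ∀ v, φ (σ v) = (swap (f x) (f y) (f v), (φ v).2) := by
      intro v
      rw [hσ]
      simp only [Equiv.permCongr_symm_apply, Equiv.apply_symm_apply, Equiv.prodCongr_apply,
        Equiv.coe_refl]
      rw [← hφ v]
      rfl
    have hσf : ∀ v, f (σ v) = swap (f x) (f y) (f v) := by
      intro v
      rw [← hφ (σ v), hσφ]
    have hσW : σ ∈ W f := by
      intro u v
      rw [hσf, hσf]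
      exact ((swap (f x) (f y)).injective.eq_iff).symm
    have hσfix : ∀ v, f v ≠ f x → f v ≠ f y → σ v = v := by
      intro v hvx hvy
      apply φ.injective
      rw [hσφ, swap_apply_of_ne_of_ne hvx hvy]
      exact Prod.ext (hφ v).symm rfl
    have hσx : f (σ x) = f y := by rw [hσf, swap_apply_left]
    refine ⟨swap (σ x) y * σ, (W f).mul_mem (swap_mem_W f _ _ hσx) hσW, ?_, ?_⟩
    · rw [Perm.mul_apply, swap_apply_left]
    · intro v hvx hvy
      rw [Perm.mul_apply, hσfix v hvx hvy]
      apply swap_apply_of_ne_of_ne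
      · intro h; exact hvy (by rw [h, hσx])
      · intro h; exact hvy (by rw [h])

theorem eq_top_of_lt (a : ℕ) (ha : 2 ≤ a) (hb : 2 ≤ b)
    (hf : ∀ i : Fin b, Nat.card {x : Ω // f x = i} = a) (K : Subgroup (Perm Ω))
    (hWK : W f < K) : K = ⊤ := by
  classical
  have hWleK : W f ≤ K := hWK.le
  have hpartner := exists_partner f a ha hf
  have htransW := exists_mem_W_apply_eq f a hf
  -- a point
  obtain ⟨x0⟩ : Nonempty Ω := by
    have h1 : 0 < Fintype.card {v : Ω // f v = (⟨0, by omega⟩ : Fin b)} := by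
      rw [← Nat.card_eq_fintype_card, hf]; omega
    obtain ⟨⟨v, -⟩⟩ := Fintype.card_pos_iff.1 h1
    exact ⟨v⟩
  obtain ⟨x1, hx10, hfx1⟩ := hpartner x0
  have hswapK : swap x0 x1 ∈ K := hWleK (swap_mem_W f _ _ hfx1.symm)
  haveI : IsPretransitive K Ω := ⟨fun x y => by
    obtain ⟨w, hw, hwx, -⟩ := htransW x y
    exact ⟨⟨w, hWleK hw⟩, hwx⟩⟩
  have hprim : IsPreprimitive K Ω := by
    apply IsPreprimitive.of_isTrivialBlock_base x0
    intro B hx0B hB
    have hfix : ∀ k ∈ K, ∀ p ∈ B, k p = p → ∀ q ∈ B, k q ∈ B := by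
      intro k hk p hp hkp q hq
      have h1 : (⟨k, hk⟩ : K) • B = B := hB.smul_eq_of_mem (g := ⟨k, hk⟩) (a := p) hp
        (by change k p ∈ B; rw [hkp]; exact hp)
      have h2 : (⟨k, hk⟩ : K) • q ∈ (⟨k, hk⟩ : K) • B := Set.smul_mem_smul_set hq
      rw [h1] at h2
      exact h2
    by_cases hout : ∃ y ∈ B, f y ≠ f x0
    · right
      obtain ⟨y, hyB, hfy⟩ := hout
      have h1 : ∀ u, f u ≠ f x0 → u ∈ B := by
        intro u hfu
        obtain ⟨w, hw, hwy, hwfix⟩ := htransW y u
        have := hfix w (hWleK hw) x0 hx0B (hwfix x0 (Ne.symm hfy) (Ne.symm hfu)) y hyB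
        rwa [hwy] at this
      have h2 : ∀ u, f u = f x0 → u ∈ B := by
        intro u hfu
        have hsw : swap x0 u ∈ K := hWleK (swap_mem_W f _ _ hfu.symm)
        have hy' : swap x0 u y = y := by
          apply swap_apply_of_ne_of_ne
          · intro h; exact hfy (by rw [h])
          · intro h; exact hfy (by rw [h, hfu])
        have := hfix _ hsw y hyB hy' x0 hx0B
        rwa [swap_apply_left] at this
      apply Set.eq_univ_of_forall
      intro u
      by_cases h : f u = f x0
      · exact h2 u h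
      · exact h1 u h
    · push Not at hout
      by_cases hsub : B.Subsingleton
      · left; exact hsub
      · exfalso
        obtain ⟨y, hyB, hy0⟩ : ∃ y ∈ B, y ≠ x0 := by
          by_contra hcon
          push Not at hcon
          apply hsub
          intro p hp q hq
          rw [hcon p hp, hcon q hq]
        have hF : ∀ u, f u = f x0 → u ∈ B := by
          intro u hfu
          by_cases hu0 : u = x0
          · rw [hu0]; exact hx0B
          by_cases huy : u = y
          · rw [huy]; exact hyB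
          have hsw : swap y u ∈ K := hWleK (swap_mem_W f _ _ ((hout y hyB).trans hfu.symm))
          have h0 : swap y u x0 = x0 := swap_apply_of_ne_of_ne (Ne.symm hy0) (Ne.symm hu0)
          have := hfix _ hsw x0 hx0B h0 y hyB
          rwa [swap_apply_left] at this
        have hBF : ∀ u, u ∈ B ↔ f u = f x0 := fun u => ⟨hout u, hF u⟩
        apply not_le_of_gt hWK
        have key : ∀ k ∈ K, ∀ x y, f x = f y → f (k x) = f (k y) := by
          intro k hk x y hxy
          obtain ⟨w, hw, hwx, -⟩ := htransW x0 x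
          obtain ⟨w', hw', hw'x, -⟩ := htransW x0 (k x)
          have hgK : w'⁻¹ * k * w ∈ K :=
            K.mul_mem (K.mul_mem (K.inv_mem (hWleK hw')) hk) (hWleK hw)
          have hg0 : (w'⁻¹ * k * w) x0 = x0 := by
            rw [Perm.mul_apply, Perm.mul_apply, hwx, ← hw'x, ← Perm.mul_apply, inv_mul_cancel,
              Perm.one_apply]
          have hwinv : w⁻¹ x = x0 := by
            rw [← hwx, ← Perm.mul_apply, inv_mul_cancel, Perm.one_apply]
          have hy' : w⁻¹ y ∈ B := by
            rw [hBF]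
            have h1 := ((W f).inv_mem hw) x y
            rw [hwinv] at h1
            exact (h1.1 hxy).symm
          have h3 := hfix _ hgK x0 hx0B hg0 _ hy'
          have e1 : (w'⁻¹ * k * w) (w⁻¹ y) = w'⁻¹ (k y) := by
            rw [Perm.mul_apply, Perm.mul_apply, ← Perm.mul_apply w, mul_inv_cancel,
              Perm.one_apply]
          rw [e1, hBF] at h3
          have hw'inv : w'⁻¹ (k x) = x0 := by
            rw [← hw'x, ← Perm.mul_apply, inv_mul_cancel, Perm.one_apply]
          have h4 := ((W f).inv_mem hw') (k x) (k y)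
          rw [hw'inv, h3] at h4
          exact h4.2 rfl
        intro k hk
        rw [mem_W]
        intro x y
        constructor
        · exact key k hk x y
        · intro h
          have := key k⁻¹ (K.inv_mem hk) _ _ h
          rwa [← Perm.mul_apply, ← Perm.mul_apply, inv_mul_cancel, Perm.one_apply,
            Perm.one_apply] at this
  exact Equiv.Perm.subgroup_eq_top_of_isPreprimitive_of_isSwap_mem hprim (swap x0 x1)
    ⟨x0, x1, hx10.symm, rfl⟩ hswapK

theorem W_ne_top (a : ℕ) (ha : 2 ≤ a) (hb : 2 ≤ b)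
    (hf : ∀ i : Fin b, Nat.card {x : Ω // f x = i} = a) : W f ≠ ⊤ := by
  intro htop
  have hpt : ∀ i : Fin b, ∃ v, f v = i := by
    intro i
    have h1 : 0 < Fintype.card {v : Ω // f v = i} := by
      rw [← Nat.card_eq_fintype_card, hf]; omega
    obtain ⟨⟨v, hv⟩⟩ := Fintype.card_pos_iff.1 h1
    exact ⟨v, hv⟩
  obtain ⟨x, hx⟩ := hpt ⟨0, by omega⟩
  obtain ⟨y, hy⟩ := hpt ⟨1, by omega⟩
  obtain ⟨x', hx'x, hfx'⟩ := exists_partner f a ha hf x
  have hne : f x ≠ f y := by
    rw [hx, hy]
    intro h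
    have := congrArg Fin.val h
    simp at this
  have hmem : swap x y ∈ W f := by rw [htop]; exact Subgroup.mem_top _
  have h1 := (hmem x x').1 hfx'.symm
  rw [swap_apply_left] at h1
  have hx'y : x' ≠ y := by
    intro h
    apply hne
    rw [← hfx', h]
  rw [swap_apply_of_ne_of_ne hx'x hx'y] at h1
  exact hne (by rw [← hfx', h1])

end

theorem result {Ω : Type*} [Fintype Ω] [DecidableEq Ω] (a b : ℕ) (ha : 2 ≤ a) (hb : 2 ≤ b)
    (f : Ω → Fin b) (hf : ∀ i : Fin b, Nat.card {x : Ω // f x = i} = a) :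
    IsCoatom (Subgroup.closure {g : Equiv.Perm Ω | ∀ x y : Ω, f x = f y ↔ f (g x) = f (g y)}) := by
  rw [closure_eq_W]
  exact ⟨W_ne_top f a ha hb hf, fun K hK => eq_top_of_lt f a ha hb hf K hK⟩

end Cfsg.Agent.S5905
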