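import Cfsg.Statements.S5894
import Mathlib
import Cfsg.Agent.S5905

set_option autoImplicit false
set_option linter.unusedSectionVars false
open Cfsg

namespace Cfsg.Agent.S5894


open Equiv

section gen
variable {Ω : Type*} [Fintype Ω] [DecidableEq Ω] (f : Ω → Fin 2) (a₀ : Ω)

/-- colour-preserving permutations fixing `a₀` -/
def Hs : Subgroup (Perm Ω) where
  carrier := {g | g a₀ = a₀ ∧ ∀ x, f (g x) = f x}
  one_mem' := ⟨rfl, fun _ => rfl⟩
  mul_mem' := by
    rintro g h ⟨hg1, hg2⟩ ⟨hh1, hh2⟩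
    refine ⟨by rw [Perm.mul_apply, hh1, hg1], fun x => by rw [Perm.mul_apply, hg2, hh2]⟩
  inv_mem' := by
    rintro g ⟨hg1, hg2⟩
    refine ⟨by rw [Perm.inv_eq_iff_eq, hg1], fun x => ?_⟩
    have := hg2 (g⁻¹ x)
    simp at this
    exact this.symm

/-- colour-preserving permutations -/
def Ys : Subgroup (Perm Ω) where
  carrier := {g | ∀ x, f (g x) = f x}
  one_mem' := fun _ => rfl
  mul_mem' := by
    intro g h hg hh x
    rw [Perm.mul_apply, hg, hh]
  inv_mem' := by
    intro g hg x
    have := hg (g⁻¹ x)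
    simp at this
    exact this.symm

theorem swap_mem_Hs (u v : Ω) (hu : u ≠ a₀) (hv : v ≠ a₀) (huv : f u = f v) :
    swap u v ∈ Hs f a₀ := by
  refine ⟨swap_apply_of_ne_of_ne hu.symm hv.symm, fun x => ?_⟩
  by_cases hxu : x = u
  · rw [hxu, swap_apply_left, huv]
  · by_cases hxv : x = v
    · rw [hxv, swap_apply_right, huv]
    · rw [swap_apply_of_ne_of_ne hxu hxv]

theorem Hs_le_stab : Hs f a₀ ≤ MulAction.stabilizer (Perm Ω) a₀ := fun _ hg => hg.1

theorem conj_swap (g : Perm Ω) (u v : Ω) : g * swap u v * g⁻¹ = swap (g u) (g v) := by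
  rw [mul_inv_eq_iff_eq_mul]
  exact (Equiv.mul_swap_eq_swap_mul g u v).symm ▸ rfl

end gen



open Equiv

theorem fin2_eq : ∀ a b c : Fin 2, a ≠ c → b ≠ c → a = b := by decide

section gen
variable {Ω : Type*} [Fintype Ω] [DecidableEq Ω] (f : Ω → Fin 2) (a₀ : Ω)

theorem CF
    (hcard : (Finset.univ.filter (fun x => x ≠ a₀ ∧ f x = f a₀)).card
      < (Finset.univ.filter (fun x => f x ≠ f a₀)).card)
    (x : Perm Ω) (hx : x a₀ = a₀) : ∃ j, f j ≠ f a₀ ∧ f (x j) ≠ f a₀ := by
  by_contra hcon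
  push Not at hcon
  have : (Finset.univ.filter (fun x => f x ≠ f a₀)).card
      ≤ (Finset.univ.filter (fun x => x ≠ a₀ ∧ f x = f a₀)).card := by
    apply Finset.card_le_card_of_injOn x
    · intro j hj
      simp only [Finset.coe_filter, Finset.mem_univ, true_and, Set.mem_ofPred_eq] at hj ⊢
      refine ⟨?_, hcon j hj⟩
      intro h
      rw [← hx] at h
      have := x.injective h
      rw [this] at hj
      exact hj rfl
    · exact x.injective.injOn
  omega

theorem step1
    (hcard : (Finset.univ.filter (fun x => x ≠ a₀ ∧ f x = f a₀)).card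
      < (Finset.univ.filter (fun x => f x ≠ f a₀)).card)
    (x : Perm Ω) (hx : x a₀ = a₀) (hxH : x ∉ Hs f a₀) :
    ∃ u u', u ≠ a₀ ∧ u' ≠ a₀ ∧ f u = f u' ∧ f (x u) ≠ f (x u') := by
  have h1 : ∃ i, f (x i) ≠ f i := by
    by_contra hcon
    push Not at hcon
    exact hxH ⟨hx, hcon⟩
  obtain ⟨i, hi⟩ := h1
  have hia : i ≠ a₀ := by
    rintro rfl
    rw [hx] at hi
    exact hi rfl
  have hne : ∀ z : Ω, f z ≠ f a₀ → z ≠ a₀ := by
    rintro z hz rfl
    exact hz rfl
  by_cases hc : f i = f a₀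
  · have hxi : f (x i) ≠ f a₀ := by rw [← hc]; exact hi
    by_cases hex : ∃ j, j ≠ a₀ ∧ f j = f a₀ ∧ f (x j) = f a₀
    · obtain ⟨j, hj1, hj2, hj3⟩ := hex
      exact ⟨i, j, hia, hj1, by rw [hc, hj2], by rw [hj3]; exact hxi⟩
    · push Not at hex
      have hj0 : x⁻¹ i ≠ a₀ := by
        intro h
        apply hia
        have : x (x⁻¹ i) = x a₀ := by rw [h]
        simpa [hx] using this
      have hj1 : f (x⁻¹ i) ≠ f a₀ := by
        intro h
        have := hex _ hj0 h
        simp at this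
        exact this hc
      obtain ⟨j', hj'1, hj'2⟩ := CF f a₀ hcard x hx
      refine ⟨x⁻¹ i, j', hj0, hne _ hj'1, fin2_eq _ _ _ hj1 hj'1, ?_⟩
      have : x (x⁻¹ i) = i := by simp
      rw [this, hc]
      exact hj'2.symm
  · have hxi : f (x i) = f a₀ := by
      by_contra h
      exact hi (fin2_eq _ _ _ h hc)
    obtain ⟨j, hj1, hj2⟩ := CF f a₀ hcard x hx
    exact ⟨i, j, hia, hne _ hj1, fin2_eq _ _ _ hc hj1, by rw [hxi]; exact hj2.symm⟩

theorem all_swaps
    (hcard : (Finset.univ.filter (fun x => x ≠ a₀ ∧ f x = f a₀)).card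
      < (Finset.univ.filter (fun x => f x ≠ f a₀)).card)
    (X : Subgroup (Perm Ω)) (hHX : Hs f a₀ ≤ X) (x : Perm Ω) (hxX : x ∈ X) (hx : x a₀ = a₀)
    (hxH : x ∉ Hs f a₀) (c d : Ω) (hc : c ≠ a₀) (hd : d ≠ a₀) : swap c d ∈ X := by
  by_cases hcd : f c = f d
  · exact hHX (swap_mem_Hs f a₀ c d hc hd hcd)
  obtain ⟨u, u', hu, hu', huu, hxu⟩ := step1 f a₀ hcard x hx hxH
  have h1 : swap (x u) (x u') ∈ X := by
    rw [← conj_swap]
    exact X.mul_mem (X.mul_mem hxX (hHX (swap_mem_Hs f a₀ u u' hu hu' huu))) (X.inv_mem hxX)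
  have hxu0 : x u ≠ a₀ := by
    intro h; rw [← hx] at h; exact hu (x.injective h)
  have hxu'0 : x u' ≠ a₀ := by
    intro h; rw [← hx] at h; exact hu' (x.injective h)
  -- orient: p with f p = f c, q with f q = f d
  obtain ⟨p, q, hp0, hq0, hpc, hqd, hpq⟩ : ∃ p q, p ≠ a₀ ∧ q ≠ a₀ ∧ f p = f c ∧ f q = f d ∧
      swap p q ∈ X := by
    by_cases h : f (x u) = f c
    · refine ⟨x u, x u', hxu0, hxu'0, h, ?_, h1⟩
      exact fin2_eq _ _ _ (by rw [← h]; exact hxu.symm) (Ne.symm hcd)
    · refine ⟨x u', x u, hxu'0, hxu0, ?_, ?_, by rw [swap_comm]; exact h1⟩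
      · exact fin2_eq (f (x u')) (f c) (f (x u)) hxu.symm (Ne.symm h)
      · exact fin2_eq _ _ (f c) h (Ne.symm hcd)
  -- conjugate by swap p c * swap q d
  have hpq' : f p ≠ f q := by rw [hpc, hqd]; exact hcd
  have hh : swap p c * swap q d ∈ X :=
    X.mul_mem (hHX (swap_mem_Hs f a₀ p c hp0 hc hpc)) (hHX (swap_mem_Hs f a₀ q d hq0 hd hqd))
  have hpq_ne : p ≠ q := by rintro rfl; exact hpq' rfl
  have hpd : p ≠ d := by rintro rfl; exact hcd hpc.symm
  have hdc : d ≠ c := by rintro rfl; exact hcd rfl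
  have e1 : (swap p c * swap q d) p = c := by
    rw [Perm.mul_apply, swap_apply_of_ne_of_ne hpq_ne hpd, swap_apply_left]
  have e2 : (swap p c * swap q d) q = d := by
    rw [Perm.mul_apply, swap_apply_left, swap_apply_of_ne_of_ne hpd.symm hdc]
  have := X.mul_mem (X.mul_mem hh hpq) (X.inv_mem hh)
  rw [conj_swap, e1, e2] at this
  exact this

end gen



open Equiv

section gen
variable {Ω : Type*} [Fintype Ω] [DecidableEq Ω] (f : Ω → Fin 2) (a₀ : Ω)

theorem stab_le (X : Subgroup (Perm Ω))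
    (hX : ∀ c d, c ≠ a₀ → d ≠ a₀ → swap c d ∈ X) :
    MulAction.stabilizer (Perm Ω) a₀ ≤ X := by
  intro g hg
  have hg0 : g a₀ = a₀ := hg
  have h₁ : ∀ x, (g x ≠ a₀) ↔ (x ≠ a₀) := by
    intro x
    constructor
    · rintro h rfl; exact h hg0
    · intro h h2
      rw [← hg0] at h2
      exact h (g.injective h2)
  have h₂ : ∀ x, g x ≠ x → x ≠ a₀ := by
    rintro x h rfl
    exact h hg0
  have e := Equiv.Perm.ofSubtype_subtypePerm (p := fun x => x ≠ a₀) h₁ h₂
  rw [← e]
  have key : ∀ σ : Perm {x // x ≠ a₀}, Equiv.Perm.ofSubtype σ ∈ X := by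
    intro σ
    have hmem : σ ∈ Subgroup.closure {σ : Perm {x // x ≠ a₀} | σ.IsSwap} := by
      rw [Equiv.Perm.closure_isSwap]; trivial
    induction hmem using Subgroup.closure_induction with
    | mem σ hσ =>
      obtain ⟨u, v, _, rfl⟩ := hσ
      rw [Equiv.Perm.ofSubtype_swap_eq]
      exact hX _ _ u.2 v.2
    | one => rw [map_one]; exact X.one_mem
    | mul σ τ _ _ h1 h2 => rw [map_mul]; exact X.mul_mem h1 h2
    | inv σ _ h1 => rw [map_inv]; exact X.inv_mem h1
  exact key _

theorem Hs_coatom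
    (hcard : (Finset.univ.filter (fun x => x ≠ a₀ ∧ f x = f a₀)).card
      < (Finset.univ.filter (fun x => f x ≠ f a₀)).card)
    (a₁ b₀ : Ω) (ha₁ : a₁ ≠ a₀) (hfa₁ : f a₁ = f a₀) (hb₀ : f b₀ ≠ f a₀) :
    IsCoatom ((Hs f a₀).subgroupOf (MulAction.stabilizer (Perm Ω) a₀)) := by
  have hb₀' : b₀ ≠ a₀ := by rintro rfl; exact hb₀ rfl
  refine ⟨?_, ?_⟩
  · rw [Ne, Subgroup.subgroupOf_eq_top]
    intro h
    have h1 : swap a₁ b₀ ∈ MulAction.stabilizer (Perm Ω) a₀ :=
      swap_apply_of_ne_of_ne ha₁.symm hb₀'.symm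
    have h2 := (h h1).2 a₁
    rw [swap_apply_left, hfa₁] at h2
    exact hb₀ h2
  · intro X' hX'
    obtain ⟨x', hx'X, hx'H⟩ := SetLike.exists_of_lt hX'
    set X := X'.map (MulAction.stabilizer (Perm Ω) a₀).subtype with hXdef
    have hHX : Hs f a₀ ≤ X := by
      intro h hh
      have hM : h ∈ MulAction.stabilizer (Perm Ω) a₀ := hh.1
      refine ⟨⟨h, hM⟩, hX'.le ?_, rfl⟩
      rw [Subgroup.mem_subgroupOf]
      exact hh
    have hxX : (x' : Perm Ω) ∈ X := ⟨x', hx'X, rfl⟩
    have hx0 : (x' : Perm Ω) a₀ = a₀ := x'.2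
    have hxH : (x' : Perm Ω) ∉ Hs f a₀ := by
      intro h
      exact hx'H (Subgroup.mem_subgroupOf.2 h)
    have hle := stab_le a₀ X (fun c d hc hd => all_swaps f a₀ hcard X hHX x' hxX hx0 hxH c d hc hd)
    rw [eq_top_iff]
    intro m' _
    obtain ⟨y, hy, hym⟩ := hle m'.2
    have : y = m' := Subtype.ext hym
    rw [← this]
    exact hy

theorem Hs_not_coatom (a₁ : Ω) (ha₁ : a₁ ≠ a₀) (hfa₁ : f a₁ = f a₀)
    (ρ : Perm Ω) (hρ : ρ ∈ Cfsg.Agent.S5905.W f) (z : Ω) (hz : f (ρ z) ≠ f z) :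
    ¬ IsCoatom ((Hs f a₀).subgroupOf (Cfsg.Agent.S5905.W f)) := by
  intro hc
  have hHY : Hs f a₀ ≤ Ys f := fun g hg => hg.2
  have hYK : Ys f ≤ Cfsg.Agent.S5905.W f := by
    intro g hg u v
    rw [hg u, hg v]
  have h1 : (Hs f a₀).subgroupOf (Cfsg.Agent.S5905.W f) ≤ (Ys f).subgroupOf (Cfsg.Agent.S5905.W f) :=
    fun x hx => hHY hx
  rcases hc.le_iff.mp h1 with h2 | h2
  · rw [Subgroup.subgroupOf_eq_top] at h2
    exact hz (h2 hρ z)
  · have h3 : swap a₀ a₁ ∈ Ys f := by
      intro u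
      by_cases hu0 : u = a₀
      · rw [hu0, swap_apply_left, hfa₁]
      · by_cases hu1 : u = a₁
        · rw [hu1, swap_apply_right, hfa₁]
        · rw [swap_apply_of_ne_of_ne hu0 hu1]
    have h4 : (⟨swap a₀ a₁, hYK h3⟩ : Cfsg.Agent.S5905.W f) ∈
        (Ys f).subgroupOf (Cfsg.Agent.S5905.W f) := Subgroup.mem_subgroupOf.2 h3
    rw [h2, Subgroup.mem_subgroupOf] at h4
    have := h4.1
    simp only at this
    rw [swap_apply_left] at this
    exact ha₁ this

end gen



open Equiv

/-- the two-block colouring of `Fin (2m)` -/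
def col (m : ℕ) : Fin (2 * m) → Fin 2 := fun i => if i.val < m then 0 else 1

theorem col_zero (m : ℕ) (x : Fin (2 * m)) : col m x = 0 ↔ x.val < m := by
  unfold col; split_ifs with h <;> simp [h]

theorem col_one (m : ℕ) (x : Fin (2 * m)) : col m x = 1 ↔ ¬ x.val < m := by
  unfold col; split_ifs with h <;> simp [h]

theorem card_lt (m : ℕ) :
    (Finset.univ.filter (fun x : Fin (2 * m) => x.val < m)).card = m := by
  rw [Fin.card_filter_val_lt]; omega

theorem card_ge (m : ℕ) :
    (Finset.univ.filter (fun x : Fin (2 * m) => ¬ x.val < m)).card = m := by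
  have h := Finset.card_filter_add_card_filter_not (s := (Finset.univ : Finset (Fin (2 * m))))
    (fun x : Fin (2 * m) => x.val < m)
  rw [card_lt, Finset.card_univ, Fintype.card_fin] at h
  omega

theorem col_fibre (m : ℕ) (i : Fin 2) : Nat.card {x : Fin (2 * m) // col m x = i} = m := by
  rw [Nat.card_eq_fintype_card, Fintype.card_subtype]
  fin_cases i
  · simp only [Fin.zero_eta, col_zero]
    exact card_lt m
  · simp only [Fin.mk_one, col_one]
    exact card_ge m


/-- For every m ≥ 2 the symmetric group on 2m letters has a maximal subgroup M of index 2m together with a maximal subgroup H of M that is not second maximal: some maximal subgroup K of the symmetric group contains H without H being maximal in K. (One may take M the stabiliser of a letter, H ≅ S_m × S_{m−1} inside it, and K ≅ S_m ≀ S₂ the stabiliser of a partition into two m-sets, with H < S_m × S_m < K.) So the prime-index hypothesis in the second-maximality criterion cannot be relaxed to any even index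 ≥ 4. -/
theorem result (m : ℕ) (hm : 2 ≤ m) :
    ∃ M H K : Subgroup (Equiv.Perm (Fin (2 * m))), IsCoatom M ∧ M.index = 2 * m ∧ H ≤ M ∧ IsCoatom (H.subgroupOf M) ∧
      IsCoatom K ∧ H ≤ K ∧ ¬ IsCoatom (H.subgroupOf K) := by
  set f := col m with hfdef
  let a₀ : Fin (2 * m) := ⟨0, by omega⟩
  let a₁ : Fin (2 * m) := ⟨1, by omega⟩
  let b₀ : Fin (2 * m) := ⟨m, by omega⟩
  have hfa₀ : f a₀ = 0 := (col_zero m a₀).2 (by show 0 < m; omega)
  have hfa₁ : f a₁ = f a₀ := by
    rw [hfa₀]; exact (col_zero m a₁).2 (by show 1 < m; omega)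
  have hfb₀ : f b₀ ≠ f a₀ := by
    rw [hfa₀]
    intro h
    have := (col_zero m b₀).1 h
    simp [b₀] at this
  have ha₁ : a₁ ≠ a₀ := by
    intro h
    have := congrArg Fin.val h
    simp [a₀, a₁] at this
  have hcard : (Finset.univ.filter (fun x => x ≠ a₀ ∧ f x = f a₀)).card
      < (Finset.univ.filter (fun x => f x ≠ f a₀)).card := by
    have h1 : (Finset.univ.filter (fun x => f x ≠ f a₀)).card = m := by
      have e : (Finset.univ.filter (fun x => f x ≠ f a₀))
          = (Finset.univ.filter (fun x : Fin (2 * m) => ¬ x.val < m)) := by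
        ext x
        simp only [Finset.mem_filter, Finset.mem_univ, true_and, hfa₀]
        rw [← col_zero m x]
      rw [e]
      exact card_ge m
    have h2 : (Finset.univ.filter (fun x => x ≠ a₀ ∧ f x = f a₀)).card
        < (Finset.univ.filter (fun x : Fin (2 * m) => x.val < m)).card := by
      apply Finset.card_lt_card
      rw [Finset.ssubset_iff_of_subset]
      · refine ⟨a₀, ?_, ?_⟩
        · simp only [Finset.mem_filter, Finset.mem_univ, true_and]
          show 0 < m
          omega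
        · simp
      · intro x hx
        simp only [Finset.mem_filter, Finset.mem_univ, true_and, hfa₀] at hx ⊢
        exact (col_zero m x).1 hx.2
    rw [card_lt] at h2
    omega
  haveI : Nontrivial (Fin (2 * m)) := ⟨⟨a₁, a₀, ha₁⟩⟩
  refine ⟨MulAction.stabilizer (Perm (Fin (2 * m))) a₀, Hs f a₀, Cfsg.Agent.S5905.W f,
    MulAction.IsPreprimitive.isCoatom_stabilizer_of_isPreprimitive (Perm (Fin (2 * m))) a₀, ?_,
    Hs_le_stab f a₀, Hs_coatom f a₀ hcard a₁ b₀ ha₁ hfa₁ hfb₀, ?_, ?_, ?_⟩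
  · rw [MulAction.index_stabilizer_of_transitive, Nat.card_eq_fintype_card, Fintype.card_fin]
  · have := Cfsg.Agent.S5905.result m 2 hm le_rfl f (col_fibre m)
    rwa [Cfsg.Agent.S5905.closure_eq_W] at this
  · intro g hg u v
    rw [hg.2 u, hg.2 v]
  · refine Hs_not_coatom f a₀ a₁ ha₁ hfa₁ Fin.revPerm ?_ a₀ ?_
    · have key : ∀ u : Fin (2 * m), f (Fin.revPerm u) = 0 ↔ f u = 1 := by
        intro u
        rw [col_zero, col_one, Fin.revPerm_apply, Fin.val_rev]
        omega
      intro u v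
      have h2 : ∀ w : Fin 2, w = 0 ∨ w = 1 := by decide
      rcases h2 (f u) with hu | hu <;> rcases h2 (f v) with hv | hv
      · have hu' : f (Fin.revPerm u) = 1 := by
          rcases h2 (f (Fin.revPerm u)) with h | h
          · rw [key, hu] at h; exact absurd h (by decide)
          · exact h
        have hv' : f (Fin.revPerm v) = 1 := by
          rcases h2 (f (Fin.revPerm v)) with h | h
          · rw [key, hv] at h; exact absurd h (by decide)
          · exact h
        rw [hu, hv, hu', hv']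
        simp
      · have hu' : f (Fin.revPerm u) = 1 := by
          rcases h2 (f (Fin.revPerm u)) with h | h
          · rw [key, hu] at h; exact absurd h (by decide)
          · exact h
        have hv' : f (Fin.revPerm v) = 0 := (key v).2 hv
        rw [hu, hv, hu', hv']
        constructor <;> intro h <;> exact absurd h (by decide)
      · have hu' : f (Fin.revPerm u) = 0 := (key u).2 hu
        have hv' : f (Fin.revPerm v) = 1 := by
          rcases h2 (f (Fin.revPerm v)) with h | h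
          · rw [key, hv] at h; exact absurd h (by decide)
          · exact h
        rw [hu, hv, hu', hv']
        constructor <;> intro h <;> exact absurd h (by decide)
      · have hu' : f (Fin.revPerm u) = 0 := (key u).2 hu
        have hv' : f (Fin.revPerm v) = 0 := (key v).2 hv
        rw [hu, hv, hu', hv']
        simp
    · rw [hfa₀]
      intro h
      have := (col_zero m _).1 h
      rw [Fin.revPerm_apply, Fin.val_rev] at this
      simp [a₀] at this
      omega

end Cfsg.Agent.S5894
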