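import Cfsg.Statements.S5895
import Mathlib

set_option autoImplicit false
open Cfsg

namespace Cfsg.Agent.S5895


open scoped LinearAlgebra.Projectivization

section general
variable {K V : Type*} [Field K] [AddCommGroup V] [Module K V]

/-- the action hom of `GL(V)` on `Multiplicative V` -/
def phi (K V : Type*) [Field K] [AddCommGroup V] [Module K V] :
    (V ≃ₗ[K] V) →* MulAut (Multiplicative V) where
  toFun l := AddEquiv.toMultiplicative l.toAddEquiv
  map_one' := rfl
  map_mul' _ _ := rfl

/-- affine group -/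
abbrev AG (K V : Type*) [Field K] [AddCommGroup V] [Module K V] :=
  Multiplicative V ⋊[phi K V] (V ≃ₗ[K] V)

theorem phi_apply (l : V ≃ₗ[K] V) (n : Multiplicative V) :
    Multiplicative.toAdd (phi K V l n) = l (Multiplicative.toAdd n) := rfl

theorem trans_nonzero (v w : V) (hv : v ≠ 0) (hw : w ≠ 0) : ∃ l : V ≃ₗ[K] V, l v = w := by
  have : MulAction.IsPreprimitive (V ≃ₗ[K] V) (ℙ K V) :=
    MulAction.isPreprimitive_of_is_two_pretransitive
      (Projectivization.linearEquiv_is_two_pretransitive K V)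
  obtain ⟨l, hl⟩ := MulAction.exists_smul_eq (V ≃ₗ[K] V) (Projectivization.mk K v hv)
    (Projectivization.mk K w hw)
  rw [Projectivization.smul_mk, Projectivization.mk_eq_mk_iff] at hl
  obtain ⟨a, ha⟩ := hl
  refine ⟨l.trans (LinearEquiv.smulOfUnit a⁻¹), ?_⟩
  have h1 : l v = a • w := ha.symm
  have h2 : ∀ x : V, (LinearEquiv.smulOfUnit a⁻¹ : V ≃ₗ[K] V) x = a⁻¹ • x := fun _ => rfl
  rw [LinearEquiv.trans_apply, h1, h2, smul_smul]
  simp

end general



open scoped LinearAlgebra.Projectivization
open SemidirectProduct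

section general
variable {K V : Type*} [Field K] [AddCommGroup V] [Module K V]

theorem inr_range_ne_top (v : V) (hv : v ≠ 0) :
    (inr : (V ≃ₗ[K] V) →* AG K V).range ≠ ⊤ := by
  intro h
  have : (inl (Multiplicative.ofAdd v) : AG K V) ∈ (inr : (V ≃ₗ[K] V) →* AG K V).range := by
    rw [h]; trivial
  obtain ⟨l, hl⟩ := this
  have := congrArg SemidirectProduct.left hl
  simp only [left_inr, left_inl] at this
  exact hv (by simpa using this.symm)

theorem inr_range_coatom (v : V) (hv : v ≠ 0) :
    IsCoatom (inr : (V ≃ₗ[K] V) →* AG K V).range := by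
  refine ⟨inr_range_ne_top v hv, ?_⟩
  intro X hX
  obtain ⟨x, hxX, hxM⟩ := SetLike.exists_of_lt hX
  have hinr : ∀ l : V ≃ₗ[K] V, (inr l : AG K V) ∈ X := fun l => hX.le ⟨l, rfl⟩
  have hxl : (inl x.left : AG K V) ∈ X := by
    have h1 : (inl x.left : AG K V) = x * (inr x.right)⁻¹ := by
      rw [eq_mul_inv_iff_mul_eq, inl_left_mul_inr_right]
    rw [h1]
    exact X.mul_mem hxX (X.inv_mem (hinr _))
  have hx0 : Multiplicative.toAdd x.left ≠ 0 := by
    intro h0
    apply hxM
    refine ⟨x.right, ?_⟩
    have : x.left = 1 := by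
      apply Multiplicative.toAdd.injective
      simpa using h0
    calc (inr x.right : AG K V) = inl x.left * inr x.right := by rw [this, map_one, one_mul]
      _ = x := inl_left_mul_inr_right x
  have hall : ∀ w : V, (inl (Multiplicative.ofAdd w) : AG K V) ∈ X := by
    intro w
    by_cases hw : w = 0
    · subst hw
      simp only [ofAdd_zero, map_one]
      exact X.one_mem
    · obtain ⟨l, hl⟩ := trans_nonzero (K := K) _ w hx0 hw
      have h2 : (inl (Multiplicative.ofAdd w) : AG K V) = inr l * inl x.left * inr l⁻¹ := by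
        rw [← inl_aut]
        congr 1
        apply Multiplicative.toAdd.injective
        rw [phi_apply, hl]
        rfl
      rw [h2]
      exact X.mul_mem (X.mul_mem (hinr _) hxl) (hinr _)
  rw [eq_top_iff]
  intro g _
  rw [← inl_left_mul_inr_right g]
  exact X.mul_mem (hall (Multiplicative.toAdd g.left)) (hinr _)

theorem inr_range_index [Finite V] :
    (inr : (V ≃ₗ[K] V) →* AG K V).range.index = Nat.card V := by
  haveI : Finite (V ≃ₗ[K] V) := DFunLike.finite _
  have h1 := Subgroup.card_mul_index (inr : (V ≃ₗ[K] V) →* AG K V).range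
  rw [SemidirectProduct.card] at h1
  have h2 : Nat.card (inr : (V ≃ₗ[K] V) →* AG K V).range = Nat.card (V ≃ₗ[K] V) :=
    (Nat.card_congr (MonoidHom.ofInjective (inr_injective (φ := phi K V))).toEquiv).symm
  rw [h2, mul_comm] at h1
  have h3 : 0 < Nat.card (V ≃ₗ[K] V) := Nat.card_pos
  have h4 : Nat.card (Multiplicative V) = Nat.card V := rfl
  rw [h4] at h1
  exact Nat.eq_of_mul_eq_mul_right h3 h1

theorem coatom_transport {L G : Type*} [Group L] [Group G] (f : L →* G)
    (hf : Function.Injective f) (S : Subgroup L) (hS : IsCoatom S) :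
    IsCoatom ((S.map f).subgroupOf f.range) := by
  have h1 : (S.map f).subgroupOf f.range
      = S.map ((MonoidHom.ofInjective hf : L ≃* f.range) : L →* f.range) := by
    ext x
    rw [Subgroup.mem_subgroupOf, Subgroup.mem_map, Subgroup.mem_map]
    constructor
    · rintro ⟨s, hs, hsx⟩
      exact ⟨s, hs, Subtype.ext hsx⟩
    · rintro ⟨s, hs, hsx⟩
      exact ⟨s, hs, congrArg Subtype.val hsx⟩
  rw [h1]
  exact (OrderIso.isCoatom_iff (MulEquiv.mapSubgroup
    (MonoidHom.ofInjective hf : L ≃* f.range)) S).mpr hS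

end general



open scoped LinearAlgebra.Projectivization
open SemidirectProduct

section general
variable {K V : Type*} [Field K] [AddCommGroup V] [Module K V]

/-- line stabiliser -/
def S (e : V) (he : e ≠ 0) : Subgroup (V ≃ₗ[K] V) :=
  MulAction.stabilizer (V ≃ₗ[K] V) (Projectivization.mk K e he)

theorem S_span (e : V) (he : e ≠ 0) (l : V ≃ₗ[K] V) (hl : l ∈ S (K := K) e he) (w : V)
    (hw : w ∈ Submodule.span K {e}) : l w ∈ Submodule.span K {e} := by
  have h1 : l • Projectivization.mk K e he = Projectivization.mk K e he := hl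
  rw [Projectivization.smul_mk, Projectivization.mk_eq_mk_iff] at h1
  obtain ⟨a, ha⟩ := h1
  rw [Submodule.mem_span_singleton] at hw ⊢
  obtain ⟨c, rfl⟩ := hw
  refine ⟨c * a, ?_⟩
  rw [map_smul, mul_smul]
  congr 1

theorem S_coatom (e v : V) (he : e ≠ 0) (hv : v ∉ Submodule.span K {e}) :
    IsCoatom (S (K := K) e he) := by
  have hv0 : v ≠ 0 := by
    rintro rfl
    exact hv (Submodule.zero_mem _)
  have : MulAction.IsPreprimitive (V ≃ₗ[K] V) (ℙ K V) :=
    MulAction.isPreprimitive_of_is_two_pretransitive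
      (Projectivization.linearEquiv_is_two_pretransitive K V)
  have : Nontrivial (ℙ K V) := by
    refine ⟨Projectivization.mk K e he, Projectivization.mk K v hv0, ?_⟩
    intro h
    rw [Projectivization.mk_eq_mk_iff] at h
    obtain ⟨a, ha⟩ := h
    -- a • v = e
    apply hv
    rw [Submodule.mem_span_singleton]
    refine ⟨(a⁻¹ : Kˣ), ?_⟩
    rw [← ha, Units.smul_def, smul_smul]
    simp
  exact MulAction.IsPreprimitive.isCoatom_stabilizer_of_isPreprimitive (V ≃ₗ[K] V) _

/-- intermediate subgroup `W ⋊ S` -/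
def Y (e : V) (he : e ≠ 0) : Subgroup (AG K V) where
  carrier := {g | Multiplicative.toAdd g.left ∈ Submodule.span K {e} ∧ g.right ∈ S (K := K) e he}
  one_mem' := ⟨Submodule.zero_mem _, Subgroup.one_mem _⟩
  mul_mem' := by
    rintro a b ⟨ha1, ha2⟩ ⟨hb1, hb2⟩
    refine ⟨?_, Subgroup.mul_mem _ ha2 hb2⟩
    rw [mul_left, toAdd_mul, phi_apply]
    exact Submodule.add_mem _ ha1 (S_span e he _ ha2 _ hb1)
  inv_mem' := by
    rintro a ⟨ha1, ha2⟩
    refine ⟨?_, Subgroup.inv_mem _ ha2⟩
    rw [inv_left, phi_apply, toAdd_inv]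
    exact S_span e he _ (Subgroup.inv_mem _ ha2) _ (Submodule.neg_mem _ ha1)

theorem not_coatom (e v : V) (he : e ≠ 0) (hv : v ∉ Submodule.span K {e}) :
    ¬ IsCoatom (((S (K := K) e he).map (inr : (V ≃ₗ[K] V) →* AG K V)).subgroupOf
      ((S (K := K) e he).comap (rightHom : AG K V →* (V ≃ₗ[K] V)))) := by
  intro hc
  set H := (S (K := K) e he).map (inr : (V ≃ₗ[K] V) →* AG K V) with hH
  set Kk := (S (K := K) e he).comap (rightHom : AG K V →* (V ≃ₗ[K] V)) with hK
  have hHY : H ≤ Y (K := K) e he := by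
    rintro _ ⟨s, hs, rfl⟩
    refine ⟨?_, hs⟩
    rw [left_inr]
    exact Submodule.zero_mem _
  have hYK : Y (K := K) e he ≤ Kk := by
    rintro g ⟨_, hg⟩
    exact hg
  have h1 : H.subgroupOf Kk ≤ (Y (K := K) e he).subgroupOf Kk := by
    intro x hx
    exact hHY hx
  rcases hc.le_iff.mp h1 with h2 | h2
  · rw [Subgroup.subgroupOf_eq_top] at h2
    have h3 : (inl (Multiplicative.ofAdd v) : AG K V) ∈ Kk := by
      change rightHom (inl (Multiplicative.ofAdd v) : AG K V) ∈ S (K := K) e he
      rw [rightHom_inl]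
      exact Subgroup.one_mem _
    exact hv (h2 h3).1
  · have h3 : (inl (Multiplicative.ofAdd e) : AG K V) ∈ Kk := by
      change rightHom (inl (Multiplicative.ofAdd e) : AG K V) ∈ S (K := K) e he
      rw [rightHom_inl]
      exact Subgroup.one_mem _
    have h4 : (⟨inl (Multiplicative.ofAdd e), h3⟩ : Kk) ∈ (Y (K := K) e he).subgroupOf Kk := by
      rw [Subgroup.mem_subgroupOf]
      refine ⟨?_, ?_⟩
      · rw [left_inl]
        exact Submodule.mem_span_singleton_self e
      · rw [right_inl]
        exact Subgroup.one_mem _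
    rw [h2, Subgroup.mem_subgroupOf] at h4
    obtain ⟨s, _, hs⟩ := h4
    have := congrArg SemidirectProduct.left hs
    simp only [left_inr, left_inl] at this
    exact he (by simpa using this.symm)

theorem main_general [Finite V] (e v : V) (he : e ≠ 0) (hv : v ∉ Submodule.span K {e}) :
    ∃ (M H Kk : Subgroup (AG K V)), IsCoatom M ∧ M.index = Nat.card V ∧ H ≤ M ∧
      IsCoatom (H.subgroupOf M) ∧ IsCoatom Kk ∧ H ≤ Kk ∧ ¬ IsCoatom (H.subgroupOf Kk) := by
  refine ⟨(inr : (V ≃ₗ[K] V) →* AG K V).range,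
    (S (K := K) e he).map (inr : (V ≃ₗ[K] V) →* AG K V),
    (S (K := K) e he).comap (rightHom : AG K V →* (V ≃ₗ[K] V)),
    inr_range_coatom e he, inr_range_index, Subgroup.map_le_range _ _,
    coatom_transport _ inr_injective _ (S_coatom e v he hv),
    Subgroup.isCoatom_comap_of_surjective rightHom_surjective (S_coatom e v he hv), ?_,
    not_coatom e v he hv⟩
  rintro _ ⟨s, hs, rfl⟩
  change rightHom (inr s : AG K V) ∈ S (K := K) e he
  rw [rightHom_inr]
  exact hs

end general



open SemidirectProduct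


/-- For every prime p and every d ≥ 2 there is a finite group G with a maximal subgroup M of index p^d and a maximal subgroup H of M that is not second maximal in G: some maximal subgroup K of G contains H without H being maximal in K. (One may take G the affine group V ⋊ GL(V) of V = 𝔽_p^d, M = GL(V), H the stabiliser in M of a line W of V, and K = V ⋊ H, with H < W ⋊ H < K.) So the prime-index hypothesis in the second-maximality criterion cannot be relaxed to prime-power index. -/
theorem result (p d : ℕ) (hp : p.Prime)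
    (hd : 2 ≤ d) :
    ∃ (G : Type) (_ : Group G) (_ : Finite G) (M H K : Subgroup G), IsCoatom M ∧ M.index = p ^ d ∧ H ≤ M ∧
      IsCoatom (H.subgroupOf M) ∧ IsCoatom K ∧ H ≤ K ∧ ¬ IsCoatom (H.subgroupOf K) := by
  haveI : Fact p.Prime := ⟨hp⟩
  let i0 : Fin d := ⟨0, by omega⟩
  let i1 : Fin d := ⟨1, by omega⟩
  have h01 : i0 ≠ i1 := by
    intro h
    have := congrArg Fin.val h
    simp [i0, i1] at this
  have he : (Pi.single i0 1 : Fin d → ZMod p) ≠ 0 := by
    intro h
    have := congrFun h i0
    simp at this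
  have hv : (Pi.single i1 1 : Fin d → ZMod p) ∉
      Submodule.span (ZMod p) {(Pi.single i0 1 : Fin d → ZMod p)} := by
    intro h
    rw [Submodule.mem_span_singleton] at h
    obtain ⟨c, hc⟩ := h
    have := congrFun hc i1
    simp [Pi.single_apply, h01.symm] at this
  haveI : Finite ((Fin d → ZMod p) ≃ₗ[ZMod p] (Fin d → ZMod p)) := DFunLike.finite _
  haveI : Finite (AG (ZMod p) (Fin d → ZMod p)) :=
    Finite.of_equiv _ SemidirectProduct.equivProd.symm
  obtain ⟨M, H, Kk, h1, h2, h3, h4, h5, h6, h7⟩ :=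
    main_general (K := ZMod p) (Pi.single i0 1 : Fin d → ZMod p) (Pi.single i1 1) he hv
  refine ⟨AG (ZMod p) (Fin d → ZMod p), inferInstance, inferInstance, M, H, Kk, h1, ?_, h3, h4,
    h5, h6, h7⟩
  rw [h2]
  simp [Nat.card_eq_fintype_card]

end Cfsg.Agent.S5895
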