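-- Statement S5896: perfect groups with solvable maximal subgroups of unbounded derived length.
-- Proof (helper6): G = SL_2(Z/5^k), H = matrices that are upper triangular modulo 5.
import Cfsg.Statements.S5896
import Mathlib

set_option autoImplicit false
open Cfsg

namespace Cfsg.Agent.S5896

open Matrix
open scoped commutatorElement

section ring

variable {A : Type*} [CommRing A]

/-- `SL_2` -/
abbrev G2 (A : Type*) [CommRing A] := Matrix.SpecialLinearGroup (Fin 2) A

theorem ext2 {g g' : G2 A} (h00 : g 0 0 = g' 0 0) (h01 : g 0 1 = g' 0 1) (h10 : g 1 0 = g' 1 0)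
    (h11 : g 1 1 = g' 1 1) : g = g' := by
  apply Subtype.ext
  ext i j
  fin_cases i <;> fin_cases j <;> assumption

theorem mul_apply2 (g g' : G2 A) (i j : Fin 2) :
    (g * g') i j = g i 0 * g' 0 j + g i 1 * g' 1 j := by
  simp [Matrix.mul_apply, Fin.sum_univ_two]

theorem det2 (g : G2 A) : g 0 0 * g 1 1 - g 0 1 * g 1 0 = 1 := by
  have := g.2
  rwa [Matrix.det_fin_two] at this

theorem inv_00 (g : G2 A) : (g⁻¹) 0 0 = g 1 1 := by
  simp [Matrix.SpecialLinearGroup.coe_inv, Matrix.adjugate_fin_two]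

theorem inv_01 (g : G2 A) : (g⁻¹) 0 1 = - g 0 1 := by
  simp [Matrix.SpecialLinearGroup.coe_inv, Matrix.adjugate_fin_two]

theorem inv_10 (g : G2 A) : (g⁻¹) 1 0 = - g 1 0 := by
  simp [Matrix.SpecialLinearGroup.coe_inv, Matrix.adjugate_fin_two]

theorem inv_11 (g : G2 A) : (g⁻¹) 1 1 = g 0 0 := by
  simp [Matrix.SpecialLinearGroup.coe_inv, Matrix.adjugate_fin_two]

theorem one_00 : (1 : G2 A) 0 0 = 1 := by simp
theorem one_01 : (1 : G2 A) 0 1 = 0 := by simp
theorem one_10 : (1 : G2 A) 1 0 = 0 := by simp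
theorem one_11 : (1 : G2 A) 1 1 = 1 := by simp

/-- upper elementary matrices -/
def u (a : A) : G2 A := ⟨!![1, a; 0, 1], by simp [Matrix.det_fin_two]⟩

/-- lower elementary matrices -/
def l (a : A) : G2 A := ⟨!![1, 0; a, 1], by simp [Matrix.det_fin_two]⟩

/-- diagonal matrices -/
def h (t : Aˣ) : G2 A := ⟨!![(t : A), 0; 0, ((t⁻¹ : Aˣ) : A)], by simp [Matrix.det_fin_two]⟩

theorem u_00 (a : A) : u a 0 0 = 1 := rfl
theorem u_01 (a : A) : u a 0 1 = a := rfl
theorem u_10 (a : A) : u a 1 0 = 0 := rfl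
theorem u_11 (a : A) : u a 1 1 = 1 := rfl
theorem l_00 (a : A) : l a 0 0 = 1 := rfl
theorem l_01 (a : A) : l a 0 1 = 0 := rfl
theorem l_10 (a : A) : l a 1 0 = a := rfl
theorem l_11 (a : A) : l a 1 1 = 1 := rfl
theorem h_00 (t : Aˣ) : h t 0 0 = t := rfl
theorem h_01 (t : Aˣ) : h t 0 1 = 0 := rfl
theorem h_10 (t : Aˣ) : h t 1 0 = 0 := rfl
theorem h_11 (t : Aˣ) : h t 1 1 = ((t⁻¹ : Aˣ) : A) := rfl

theorem u_add (a b : A) : u (a + b) = u a * u b := by
  apply ext2 <;> simp only [mul_apply2, u_00, u_01, u_10, u_11] <;> ring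

theorem l_add (a b : A) : l (a + b) = l a * l b := by
  apply ext2 <;> simp only [mul_apply2, l_00, l_01, l_10, l_11] <;> ring

theorem u_zero : u (0 : A) = 1 := by
  apply ext2 <;> simp only [u_00, u_01, u_10, u_11, one_00, one_01, one_10, one_11]

theorem l_zero : l (0 : A) = 1 := by
  apply ext2 <;> simp only [l_00, l_01, l_10, l_11, one_00, one_01, one_10, one_11]

theorem u_inv (a : A) : (u a)⁻¹ = u (-a) := by
  apply ext2 <;> simp only [inv_00, inv_01, inv_10, inv_11, u_00, u_01, u_10, u_11] <;> ring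

theorem l_inv (a : A) : (l a)⁻¹ = l (-a) := by
  apply ext2 <;> simp only [inv_00, inv_01, inv_10, inv_11, l_00, l_01, l_10, l_11] <;> ring

theorem h_inv (t : Aˣ) : (h t)⁻¹ = h t⁻¹ := by
  apply ext2 <;> simp only [inv_00, inv_01, inv_10, inv_11, h_00, h_01, h_10, h_11, inv_inv] <;>
    ring

theorem l_pow (a : A) (n : ℕ) : (l a) ^ n = l (n * a) := by
  induction n with
  | zero => simp [l_zero]
  | succ n ih => rw [pow_succ, ih, ← l_add]; congr 1; push_cast; ring

theorem comm_h_u (t : Aˣ) (a : A) : ⁅h t, u a⁆ = u (((t : A) * t - 1) * a) := by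
  rw [commutatorElement_def, u_inv, h_inv]
  have := t.mul_inv
  apply ext2 <;>
    simp only [mul_apply2, h_00, h_01, h_10, h_11, u_00, u_01, u_10, u_11, inv_inv] <;>
    first
      | ring1
      | linear_combination this
      | linear_combination (-a) * this

theorem comm_h_l (t : Aˣ) (a : A) :
    ⁅h t, l a⁆ = l ((((t⁻¹ : Aˣ) : A) * ((t⁻¹ : Aˣ) : A) - 1) * a) := by
  rw [commutatorElement_def, l_inv, h_inv]
  have := t.mul_inv
  apply ext2 <;>
    simp only [mul_apply2, h_00, h_01, h_10, h_11, l_00, l_01, l_10, l_11, inv_inv] <;>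
    first
      | ring1
      | linear_combination this
      | linear_combination (-a) * this

/-- a diagonal matrix as a product of elementary matrices -/
theorem h_eq (x y : A) (t : Aˣ) (ht : (t : A) = 1 + x * y) :
    h t = l (-(y * ((t⁻¹ : Aˣ) : A))) * (u x * l y) * u (-(x * ((t⁻¹ : Aˣ) : A))) := by
  have := t.mul_inv
  apply ext2 <;>
    simp only [mul_apply2, h_00, h_01, h_10, h_11, l_00, l_01, l_10, l_11, u_00, u_01, u_10,
      u_11]
  · linear_combination ht
  · linear_combination x * this - (x * ((t⁻¹ : Aˣ) : A)) * ht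
  · linear_combination y * this - (y * ((t⁻¹ : Aˣ) : A)) * ht
  · linear_combination (1 - x * y * ((t⁻¹ : Aˣ) : A)) * this
      + (x * y * ((t⁻¹ : Aˣ) : A) * ((t⁻¹ : Aˣ) : A) - ((t⁻¹ : Aˣ) : A)) * ht

/-- the Bruhat-type decomposition of a matrix with invertible lower left entry -/
theorem decomp (g : G2 A) (c' : A) (hc : g 1 0 * c' = 1) :
    g = u ((g 0 0 - 1) * c') * l (g 1 0) * u ((g 1 1 - 1) * c') := by
  have hd := det2 g
  apply ext2 <;>
    simp only [mul_apply2, l_00, l_01, l_10, l_11, u_00, u_01, u_10, u_11]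
  · linear_combination (1 - g 0 0) * hc
  · linear_combination (-(g 0 1 + (g 0 0 - 1) * (g 1 1 - 1) * c')) * hc - c' * hd
  · ring1
  · linear_combination (1 - g 1 1) * hc

end ring

section series

variable {G : Type*} [Group G]

/-- the derived series of a subgroup, computed inside the ambient group -/
def dser (K : Subgroup G) : ℕ → Subgroup G
  | 0 => K
  | n + 1 => ⁅dser K n, dser K n⁆

theorem dser_zero (K : Subgroup G) : dser K 0 = K := rfl

theorem dser_succ (K : Subgroup G) (n : ℕ) : dser K (n + 1) = ⁅dser K n, dser K n⁆ := rfl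

theorem map_derivedSeries (K : Subgroup G) (n : ℕ) :
    (derivedSeries K n).map K.subtype = dser K n := by
  induction n with
  | zero =>
    rw [derivedSeries_zero, dser_zero, ← MonoidHom.range_eq_map, Subgroup.range_subtype]
  | succ n ih => rw [derivedSeries_succ, Subgroup.map_commutator, ih, dser_succ]

theorem comm_comap {G' : Type*} [Group G'] (f : G →* G') (K : Subgroup G') :
    ⁅K.comap f, K.comap f⁆ ≤ (⁅K, K⁆).comap f := by
  rw [Subgroup.commutator_le]
  intro a ha b hb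
  rw [Subgroup.mem_comap, map_commutatorElement]
  exact Subgroup.commutator_mem_commutator ha hb

end series

section borel

variable {R : Type*} [CommRing R]

/-- upper triangular matrices -/
def Bor : Subgroup (G2 R) where
  carrier := {g | g 1 0 = 0}
  one_mem' := one_10
  mul_mem' := by
    intro g g' hg hg'
    simp only [Set.mem_setOf_eq] at *
    rw [mul_apply2, hg, hg']; ring
  inv_mem' := by
    intro g hg
    simp only [Set.mem_setOf_eq] at *
    rw [inv_10, hg, neg_zero]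

theorem mem_Bor (g : G2 R) : g ∈ Bor ↔ g 1 0 = 0 := Iff.rfl

/-- upper unitriangular matrices -/
def Uni : Subgroup (G2 R) where
  carrier := {g | g 1 0 = 0 ∧ g 0 0 = 1}
  one_mem' := ⟨one_10, one_00⟩
  mul_mem' := by
    rintro g g' ⟨hg, hg1⟩ ⟨hg', hg1'⟩
    refine ⟨?_, ?_⟩
    · rw [mul_apply2, hg, hg']; ring
    · rw [mul_apply2, hg1, hg1', hg']; ring
  inv_mem' := by
    rintro g ⟨hg, hg1⟩
    refine ⟨by rw [inv_10, hg, neg_zero], ?_⟩
    rw [inv_00]
    have := det2 g
    rw [hg, hg1] at this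
    linear_combination this

theorem mem_Uni (g : G2 R) : g ∈ Uni ↔ g 1 0 = 0 ∧ g 0 0 = 1 := Iff.rfl

theorem comm_Bor : ⁅(Bor : Subgroup (G2 R)), Bor⁆ ≤ (Uni : Subgroup (G2 R)) := by
  rw [Subgroup.commutator_le]
  intro g hg g' hg'
  rw [mem_Bor] at hg hg'
  have hd := det2 g
  have hd' := det2 g'
  rw [hg] at hd
  rw [hg'] at hd'
  rw [mem_Uni, commutatorElement_def]
  constructor
  · simp only [mul_apply2, inv_00, inv_01, inv_10, inv_11, hg, hg']
    ring
  · simp only [mul_apply2, inv_00, inv_01, inv_10, inv_11, hg, hg']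
    linear_combination (g' 0 0 * g' 1 1) * hd + hd'

theorem eq_u_of_mem_Uni {g : G2 R} (hg : g ∈ Uni) : g = u (g 0 1) := by
  obtain ⟨h1, h2⟩ := hg
  have := det2 g
  rw [h1, h2] at this
  apply ext2
  · rw [h2, u_00]
  · rw [u_01]
  · rw [h1, u_10]
  · rw [u_11]; linear_combination this

theorem comm_Uni : ⁅(Uni : Subgroup (G2 R)), (Uni : Subgroup (G2 R))⁆ = ⊥ := by
  rw [eq_bot_iff, Subgroup.commutator_le]
  intro g hg g' hg'
  rw [Subgroup.mem_bot, eq_u_of_mem_Uni hg, eq_u_of_mem_Uni hg', commutatorElement_eq_one_iff_commute]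
  show u _ * u _ = u _ * u _
  rw [← u_add, ← u_add, add_comm]

/-- the underlying matrix -/
def mat (g : G2 R) : Matrix (Fin 2) (Fin 2) R := g.1

theorem mat_mul (g g' : G2 R) : mat (g * g') = mat g * mat g' :=
  Matrix.SpecialLinearGroup.coe_mul g g'

theorem mat_one : mat (1 : G2 R) = 1 := Matrix.SpecialLinearGroup.coe_one

theorem mat_mul_inv (g : G2 R) : mat g * mat g⁻¹ = 1 := by
  rw [← mat_mul, mul_inv_cancel, mat_one]

theorem mat_inj {g g' : G2 R} (h : mat g = mat g') : g = g' := Subtype.ext h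

theorem mat_apply (g : G2 R) (i j : Fin 2) : mat g i j = g i j := rfl

/-- principal congruence subgroups -/
def Gam (p : R) : Subgroup (G2 R) where
  carrier := {g | ∃ X : Matrix (Fin 2) (Fin 2) R, mat g = 1 + p • X}
  one_mem' := ⟨0, by rw [mat_one, smul_zero, add_zero]⟩
  mul_mem' := by
    rintro g g' ⟨X, hX⟩ ⟨Y, hY⟩
    refine ⟨X + Y + p • (X * Y), ?_⟩
    rw [mat_mul, hX, hY]
    simp only [mul_add, add_mul, one_mul, mul_one, smul_mul_assoc, mul_smul_comm, smul_add,
      smul_smul]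
    abel
  inv_mem' := by
    rintro g ⟨X, hX⟩
    refine ⟨-(X * mat g⁻¹), ?_⟩
    have h1 := mat_mul_inv g
    rw [hX, add_mul, one_mul, smul_mul_assoc] at h1
    rw [smul_neg]
    exact eq_add_neg_of_add_eq h1

theorem mem_Gam (p : R) (g : G2 R) : g ∈ Gam p ↔
    ∃ X : Matrix (Fin 2) (Fin 2) R, mat g = 1 + p • X := Iff.rfl

theorem Gam_mul_le (p q : R) : Gam (p * q) ≤ Gam p := by
  rintro g ⟨X, hX⟩
  exact ⟨q • X, by rw [hX, smul_smul]⟩

theorem Gam_zero : Gam (0 : R) = ⊥ := by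
  rw [eq_bot_iff]
  rintro g ⟨X, hX⟩
  rw [Subgroup.mem_bot]
  apply mat_inj
  rw [hX, zero_smul, add_zero, mat_one]

theorem comm_Gam (p : R) : ⁅Gam p, Gam p⁆ ≤ Gam (p * p) := by
  rw [Subgroup.commutator_le]
  rintro g ⟨X, hX⟩ g' ⟨Y, hY⟩
  have haa := mat_mul_inv g
  have hbb := mat_mul_inv g'
  have h1 : mat g * mat g' = mat g' * mat g + (p * p) • (X * Y - Y * X) := by
    rw [hX, hY]
    simp only [mul_add, add_mul, one_mul, mul_one, smul_mul_assoc, mul_smul_comm, smul_add,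
      smul_smul, smul_sub]
    abel
  have h2 : mat g' * mat g * mat g⁻¹ * mat g'⁻¹ = 1 := by
    rw [mul_assoc (mat g'), haa, mul_one, hbb]
  refine ⟨(X * Y - Y * X) * mat g⁻¹ * mat g'⁻¹, ?_⟩
  rw [commutatorElement_def, mat_mul, mat_mul, mat_mul, h1, add_mul, add_mul, h2,
    smul_mul_assoc, smul_mul_assoc]

end borel

section zmod

variable {k : ℕ}

instance fact_one_lt_five : Fact (1 < 5) := ⟨by norm_num⟩

/-- reduction modulo 5 -/
def red (hk : 1 ≤ k) : ZMod (5 ^ k) →+* ZMod 5 :=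
  ZMod.castHom (dvd_pow_self 5 (by omega)) (ZMod 5)

theorem red_five (hk : 1 ≤ k) : red hk 5 = 0 := by
  rw [map_ofNat]
  rfl

theorem eq_natCast_val (x : ZMod (5 ^ k)) : x = ((x.val : ℕ) : ZMod (5 ^ k)) :=
  (ZMod.natCast_zmod_val x).symm

theorem exists_of_red_zero (hk : 1 ≤ k) (x : ZMod (5 ^ k)) (h : red hk x = 0) : ∃ y, x = 5 * y := by
  have hx := eq_natCast_val x
  rw [hx, map_natCast, ZMod.natCast_eq_zero_iff] at h
  obtain ⟨m, hm⟩ := h
  refine ⟨(m : ZMod (5 ^ k)), ?_⟩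
  calc x = ((x.val : ℕ) : ZMod (5 ^ k)) := hx
    _ = ((5 * m : ℕ) : ZMod (5 ^ k)) := by rw [hm]
    _ = 5 * (m : ZMod (5 ^ k)) := by push_cast; ring

theorem unit_of_red_ne (hk : 1 ≤ k) (x : ZMod (5 ^ k)) (h : red hk x ≠ 0) : IsUnit x := by
  have hx := eq_natCast_val x
  rw [hx, map_natCast, Ne, ZMod.natCast_eq_zero_iff] at h
  rw [hx, ZMod.isUnit_iff_coprime]
  exact Nat.Coprime.pow_right k ((Nat.Prime.coprime_iff_not_dvd Nat.prime_five).mpr h).symm

theorem red_ne_of_unit (hk : 1 ≤ k) (x : ZMod (5 ^ k)) (h : IsUnit x) : red hk x ≠ 0 :=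
  (h.map (red hk)).ne_zero

theorem five_pow_eq_zero : (5 : ZMod (5 ^ k)) ^ k = 0 := by
  have := ZMod.natCast_self (5 ^ k)
  push_cast at this
  exact this

/-- the subgroup of matrices that are upper triangular modulo 5 -/
def Hk (hk : 1 ≤ k) : Subgroup (G2 (ZMod (5 ^ k))) :=
  (Bor : Subgroup (G2 (ZMod 5))).comap (Matrix.SpecialLinearGroup.map (red hk))

theorem map_apply2 (hk : 1 ≤ k) (g : G2 (ZMod (5 ^ k))) (i j : Fin 2) :
    (Matrix.SpecialLinearGroup.map (red hk) g) i j = red hk (g i j) := by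
  simp [Matrix.SpecialLinearGroup.map_apply_coe, RingHom.mapMatrix_apply]

theorem mem_Hk (hk : 1 ≤ k) (g : G2 (ZMod (5 ^ k))) : g ∈ Hk hk ↔ red hk (g 1 0) = 0 := by
  rw [Hk, Subgroup.mem_comap, mem_Bor, map_apply2]

theorem u_mem_Hk (hk : 1 ≤ k) (a : ZMod (5 ^ k)) : u a ∈ Hk hk := by
  rw [mem_Hk, u_10, map_zero]

theorem l_mem_Hk (hk : 1 ≤ k) (a : ZMod (5 ^ k)) : l (5 * a) ∈ Hk hk := by
  rw [mem_Hk, l_10, map_mul, red_five, zero_mul]

/-! ### Solvability -/

theorem ker_le_Gam (hk : 1 ≤ k) : (Matrix.SpecialLinearGroup.map (red hk)).ker ≤ Gam (5 : ZMod (5 ^ k)) := by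
  intro g hg
  rw [MonoidHom.mem_ker] at hg
  have h1 : ∀ i j : Fin 2, ∃ y, g i j - (1 : Matrix (Fin 2) (Fin 2) (ZMod (5 ^ k))) i j = 5 * y := by
    intro i j
    apply exists_of_red_zero hk
    have h2 := map_apply2 hk g i j
    rw [hg] at h2
    rw [map_sub, ← h2]
    by_cases hij : i = j
    · subst hij
      simp
    · simp [Matrix.one_apply_ne hij]
  choose y hy using h1
  refine ⟨Matrix.of y, ?_⟩
  ext i j
  rw [mat_apply, Matrix.add_apply, Matrix.smul_apply, Matrix.of_apply, smul_eq_mul, ← hy i j]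
  ring

theorem dser_one_le (hk : 1 ≤ k) : dser (Hk hk) 1 ≤
    (Uni : Subgroup (G2 (ZMod 5))).comap (Matrix.SpecialLinearGroup.map (red hk)) := by
  rw [dser_succ, dser_zero]
  exact (comm_comap _ _).trans (Subgroup.comap_mono comm_Bor)

theorem dser_two_le (hk : 1 ≤ k) : dser (Hk hk) 2 ≤ Gam (5 : ZMod (5 ^ k)) := by
  rw [dser_succ]
  refine (Subgroup.commutator_mono (dser_one_le hk) (dser_one_le hk)).trans ?_
  refine (comm_comap _ _).trans ?_
  rw [comm_Uni]
  exact ker_le_Gam hk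

theorem dser_le_Gam (hk : 1 ≤ k) (j : ℕ) : dser (Hk hk) (2 + j) ≤ Gam ((5 : ZMod (5 ^ k)) ^ (j + 1)) := by
  induction j with
  | zero => rw [add_zero, zero_add, pow_one]; exact dser_two_le hk
  | succ j ih =>
    rw [← add_assoc, dser_succ]
    refine (Subgroup.commutator_mono ih ih).trans ((comm_Gam _).trans ?_)
    have : (5 : ZMod (5 ^ k)) ^ (j + 1) * 5 ^ (j + 1) = 5 ^ (j + 1 + 1) * 5 ^ j := by ring
    rw [this]
    exact Gam_mul_le _ _

theorem solvable_Hk (hk : 1 ≤ k) : Group.IsSolvable (Hk hk) := by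
  rw [Group.isSolvable_def]
  refine ⟨2 + (k - 1), ?_⟩
  have h1 := dser_le_Gam hk (k - 1)
  have h2 : k - 1 + 1 = k := by omega
  rw [h2, five_pow_eq_zero, Gam_zero, ← map_derivedSeries] at h1
  exact (Subgroup.map_eq_bot_iff_of_injective _ (Hk hk).subtype_injective).mp (eq_bot_iff.mpr h1)

/-! ### Generation by elementary matrices, perfectness, maximality -/

theorem unit_or (hk : 1 ≤ k) (x : ZMod (5 ^ k)) : red hk x = 0 ∨ IsUnit x := by
  by_cases h : red hk x = 0
  · left; exact h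
  · right; exact unit_of_red_ne hk x h

theorem mem_elem_of_unit (g : G2 (ZMod (5 ^ k))) (hu : IsUnit (g 1 0)) :
    g ∈ Subgroup.closure (Set.range (u : ZMod (5 ^ k) → G2 (ZMod (5 ^ k))) ∪ Set.range l) := by
  obtain ⟨c', hc⟩ := hu.exists_right_inv
  rw [decomp g c' hc]
  exact mul_mem (mul_mem (Subgroup.subset_closure (Or.inl ⟨_, rfl⟩))
    (Subgroup.subset_closure (Or.inr ⟨_, rfl⟩))) (Subgroup.subset_closure (Or.inl ⟨_, rfl⟩))

theorem elem_top (hk : 1 ≤ k) :
    Subgroup.closure (Set.range (u : ZMod (5 ^ k) → G2 (ZMod (5 ^ k))) ∪ Set.range l) = ⊤ := by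
  rw [eq_top_iff]
  intro g _
  rcases unit_or hk (g 1 0) with h0 | hu
  · have hu' : IsUnit ((l (1 : ZMod (5 ^ k)) * g) 1 0) := by
      rw [mul_apply2, l_10, l_11, one_mul, one_mul]
      apply unit_of_red_ne hk
      rw [map_add, h0, add_zero]
      intro h00
      have hd := congrArg (red hk) (det2 g)
      rw [map_sub, map_mul, map_mul, h00, h0, map_one, zero_mul, mul_zero, sub_zero] at hd
      exact zero_ne_one hd
    have h1 := mem_elem_of_unit (l 1 * g) hu'
    have h2 : l (1 : ZMod (5 ^ k)) ∈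
        Subgroup.closure (Set.range (u : ZMod (5 ^ k) → G2 (ZMod (5 ^ k))) ∪ Set.range l) :=
      Subgroup.subset_closure (Or.inr ⟨1, rfl⟩)
    have h3 : g = (l 1)⁻¹ * (l 1 * g) := by group
    rw [h3]
    exact mul_mem (inv_mem h2) h1
  · exact mem_elem_of_unit g hu

theorem perfect (hk : 1 ≤ k) : commutator (G2 (ZMod (5 ^ k))) = ⊤ := by
  rw [eq_top_iff, ← elem_top hk, Subgroup.closure_le]
  have h2c : Nat.Coprime 2 (5 ^ k) := Nat.Coprime.pow_right k (by norm_num)
  have h3c : Nat.Coprime 3 (5 ^ k) := Nat.Coprime.pow_right k (by norm_num)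
  obtain ⟨two, htwo⟩ : ∃ t : (ZMod (5 ^ k))ˣ, (t : ZMod (5 ^ k)) = 2 :=
    ⟨ZMod.unitOfCoprime 2 h2c, by rw [ZMod.coe_unitOfCoprime]; norm_num⟩
  obtain ⟨three, hthree⟩ : ∃ t : (ZMod (5 ^ k))ˣ, (t : ZMod (5 ^ k)) = 3 :=
    ⟨ZMod.unitOfCoprime 3 h3c, by rw [ZMod.coe_unitOfCoprime]; norm_num⟩
  have h3 : (3 : ZMod (5 ^ k)) * ((three⁻¹ : (ZMod (5 ^ k))ˣ) : ZMod (5 ^ k)) = 1 := by
    rw [← hthree]; exact three.mul_inv
  rintro g (⟨a, rfl⟩ | ⟨a, rfl⟩)
  · have : u a = ⁅h two, u (((three⁻¹ : (ZMod (5 ^ k))ˣ) : ZMod (5 ^ k)) * a)⁆ := by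
      rw [comm_h_u, htwo]
      congr 1
      linear_combination (-a) * h3
    rw [this, commutator_def]
    exact Subgroup.commutator_mem_commutator (Subgroup.mem_top _) (Subgroup.mem_top _)
  · have : l a = ⁅h two⁻¹, l (((three⁻¹ : (ZMod (5 ^ k))ˣ) : ZMod (5 ^ k)) * a)⁆ := by
      rw [comm_h_l, inv_inv, htwo]
      congr 1
      linear_combination (-a) * h3
    rw [this, commutator_def]
    exact Subgroup.commutator_mem_commutator (Subgroup.mem_top _) (Subgroup.mem_top _)

theorem coatom_Hk (hk : 1 ≤ k) : IsCoatom (Hk hk) := by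
  constructor
  · intro htop
    have : l (1 : ZMod (5 ^ k)) ∈ Hk hk := by rw [htop]; exact Subgroup.mem_top _
    rw [mem_Hk, l_10, map_one] at this
    exact one_ne_zero this
  · intro K hK
    obtain ⟨g, hgK, hgH⟩ := SetLike.exists_of_lt hK
    rw [mem_Hk] at hgH
    have hu := unit_of_red_ne hk _ hgH
    obtain ⟨c', hc⟩ := hu.exists_right_inv
    obtain ⟨s, r, c, hc, hdec⟩ : ∃ s r c, c * c' = 1 ∧ g = u s * l c * u r :=
      ⟨_, _, _, hc, decomp g c' hc⟩
    have hlK : l c ∈ K := by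
      have h1 : u s ∈ K := hK.le (u_mem_Hk hk _)
      have h2 : u r ∈ K := hK.le (u_mem_Hk hk _)
      have h3 : l c = (u s)⁻¹ * g * (u r)⁻¹ := by rw [hdec]; group
      rw [h3]
      exact mul_mem (mul_mem (inv_mem h1) hgK) (inv_mem h2)
    have hall : ∀ a, l a ∈ K := by
      intro a
      have h1 : l a = (l c) ^ (a * c').val := by
        rw [l_pow, ZMod.natCast_zmod_val]
        congr 1
        linear_combination (-a) * hc
      rw [h1]
      exact pow_mem hlK _
    rw [eq_top_iff, ← elem_top hk, Subgroup.closure_le]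
    rintro g (⟨a, rfl⟩ | ⟨a, rfl⟩)
    · exact hK.le (u_mem_Hk hk _)
    · exact hall a

/-! ### The lower bound for the derived length -/

theorem lower (hk : 1 ≤ k) (j : ℕ) : ∀ a : ZMod (5 ^ k),
    u ((5 : ZMod (5 ^ k)) ^ (3 ^ j) * a) ∈ dser (Hk hk) j ∧
      l ((5 : ZMod (5 ^ k)) ^ (3 ^ j) * a) ∈ dser (Hk hk) j := by
  induction j with
  | zero =>
    intro a
    rw [pow_zero, pow_one, dser_zero]
    exact ⟨u_mem_Hk hk _, l_mem_Hk hk _⟩
  | succ j ih =>
    intro a
    have hpow : (5 : ZMod (5 ^ k)) ^ (3 ^ (j + 1))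
        = (5 : ZMod (5 ^ k)) ^ (3 ^ j) * 5 ^ (3 ^ j) * 5 ^ (3 ^ j) := by
      rw [pow_succ 3 j, pow_mul]; ring
    rw [hpow]
    generalize hx : (5 : ZMod (5 ^ k)) ^ (3 ^ j) = x at ih ⊢
    have hredx : red hk x = 0 := by
      rw [← hx, map_pow, red_five, zero_pow (by positivity)]
    have htu : IsUnit (1 + x * x) := by
      apply unit_of_red_ne hk
      rw [map_add, map_mul, hredx, map_one, mul_zero, add_zero]
      exact one_ne_zero
    obtain ⟨t, ht⟩ := htu
    have hvu : IsUnit (2 + x * x) := by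
      apply unit_of_red_ne hk
      rw [map_add, map_mul, hredx, mul_zero, add_zero, map_ofNat]
      decide
    obtain ⟨v, hv⟩ := hvu
    have hvv : (2 + x * x) * ((v⁻¹ : (ZMod (5 ^ k))ˣ) : ZMod (5 ^ k)) = 1 := by
      rw [← hv]; exact v.mul_inv
    have hux : u x ∈ dser (Hk hk) j := by
      have := (ih 1).1
      rwa [mul_one] at this
    have hlx : l x ∈ dser (Hk hk) j := by
      have := (ih 1).2
      rwa [mul_one] at this
    have hmem : h t ∈ dser (Hk hk) j := by
      rw [h_eq x x t ht, ← mul_neg]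
      exact mul_mem (mul_mem (ih _).2 (mul_mem hux hlx)) (ih _).1
    have hmem' : h t⁻¹ ∈ dser (Hk hk) j := by
      rw [← h_inv]; exact inv_mem hmem
    constructor
    · have h1 : u (x * x * x * a)
          = ⁅h t, u (x * (((v⁻¹ : (ZMod (5 ^ k))ˣ) : ZMod (5 ^ k)) * a))⁆ := by
        rw [comm_h_u, ht]
        congr 1
        linear_combination (-(x * x * x * a)) * hvv
      rw [h1, dser_succ]
      exact Subgroup.commutator_mem_commutator hmem (ih _).1
    · have h1 : l (x * x * x * a)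
          = ⁅h t⁻¹, l (x * (((v⁻¹ : (ZMod (5 ^ k))ˣ) : ZMod (5 ^ k)) * a))⁆ := by
        rw [comm_h_l, inv_inv, ht]
        congr 1
        linear_combination (-(x * x * x * a)) * hvv
      rw [h1, dser_succ]
      exact Subgroup.commutator_mem_commutator hmem' (ih _).2

end zmod

/-- Finite perfect groups have solvable maximal subgroups of unbounded derived length: for every d there is a finite perfect group G (equal to its commutator subgroup) with a solvable maximal subgroup H whose derived length exceeds d, i.e. the d-th term of the derived series of H is non-trivial. (Take the derived subgroup of a wreath product S ≀ A₅ with S solvable of large derived length, and H the preimage of a maximal subgroup of A₅.) -/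
theorem result (d : ℕ) :
    ∃ (G : Type) (_ : Group G) (_ : Finite G) (H : Subgroup G), commutator G = ⊤ ∧ IsCoatom H ∧ Group.IsSolvable H ∧
      derivedSeries H d ≠ ⊥ := by
  have hk : 1 ≤ 3 ^ d + 1 := Nat.le_add_left 1 _
  refine ⟨G2 (ZMod (5 ^ (3 ^ d + 1))), inferInstance,
    Finite.of_injective (fun g => mat g) (fun g g' hgg => mat_inj hgg), Hk hk, perfect hk,
    coatom_Hk hk, solvable_Hk hk, ?_⟩
  intro hbot
  have h1 := (lower hk d 1).1
  rw [← map_derivedSeries, hbot, Subgroup.map_bot, Subgroup.mem_bot] at h1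
  have h2 := congrArg (fun g : G2 (ZMod (5 ^ (3 ^ d + 1))) => g 0 1) h1
  simp only [u_01, one_01, mul_one] at h2
  have h3 : ((5 ^ (3 ^ d) : ℕ) : ZMod (5 ^ (3 ^ d + 1))) = 0 := by
    push_cast; exact h2
  rw [ZMod.natCast_eq_zero_iff] at h3
  have h4 := Nat.le_of_dvd (by positivity) h3
  have h5 : 5 ^ (3 ^ d) < 5 ^ (3 ^ d + 1) := Nat.pow_lt_pow_right (by norm_num) (Nat.lt_succ_self _)
  exact absurd h4 (not_le.mpr h5)

end Cfsg.Agent.S5896
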