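import Cfsg.Statements.S5902
import Cfsg.Agent.S5901
import Mathlib

set_option autoImplicit false
open Cfsg

namespace Cfsg.Agent.S5902

/-- If the subgroup lattice of `X` is complemented, then the interval `[⊥, X]` of the subgroup
lattice of `G` is complemented. -/
theorem interval_complemented {G : Type*} [Group G] (X : Subgroup G)
    (hK : ComplementedLattice (Subgroup X)) (Y : Subgroup G) (hYX : Y ≤ X) :
    ∃ C : Subgroup G, ⊥ ≤ C ∧ C ≤ X ∧ Y ⊔ C = X ∧ Y ⊓ C = ⊥ := by
  obtain ⟨D, hD⟩ := hK.exists_isCompl (Y.subgroupOf X)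
  refine ⟨D.map X.subtype, bot_le, ?_, ?_, ?_⟩
  · exact (Subgroup.map_subtype_le D)
  · have h1 : (Y.subgroupOf X).map X.subtype = Y := by
      rw [Subgroup.subgroupOf_map_subtype, inf_of_le_left hYX]
    calc Y ⊔ D.map X.subtype = (Y.subgroupOf X).map X.subtype ⊔ D.map X.subtype := by rw [h1]
      _ = (Y.subgroupOf X ⊔ D).map X.subtype := (Subgroup.map_sup _ _ _).symm
      _ = (⊤ : Subgroup X).map X.subtype := by rw [hD.sup_eq_top]
      _ = X := by rw [← MonoidHom.range_eq_map, Subgroup.range_subtype]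
  · have h1 : (Y.subgroupOf X).map X.subtype = Y := by
      rw [Subgroup.subgroupOf_map_subtype, inf_of_le_left hYX]
    calc Y ⊓ D.map X.subtype = (Y.subgroupOf X).map X.subtype ⊓ D.map X.subtype := by rw [h1]
      _ = (Y.subgroupOf X ⊓ D).map X.subtype :=
          (Subgroup.map_inf _ _ _ X.subtype_injective).symm
      _ = (⊥ : Subgroup X).map X.subtype := by rw [hD.inf_eq_bot]
      _ = ⊥ := Subgroup.map_bot _

/-- Let G be a finite group, X a subgroup whose own subgroup lattice is complemented, and suppose X lies in exactly one maximal subgroup M of G. Then every subgroup H of G not contained in the normal core of M has a complement in the subgroup lattice of G (some C with H ⊔ C = G and H ⊓ C = 1); in particular the subgroup lattice of G modulo the normal core of M is complemented. -/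
theorem result {G : Type*} [Group G] [Finite G] (X M : Subgroup G)
    (hK : ComplementedLattice (Subgroup X))
    (hM : IsCoatom M) (hXM : X ≤ M) (huniq : ∀ M' : Subgroup G, IsCoatom M' → X ≤ M' → M' = M) :
    (∀ H : Subgroup G, ¬ H ≤ M.normalCore → ∃ C : Subgroup G, H ⊔ C = ⊤ ∧ H ⊓ C = ⊥) ∧
    ComplementedLattice (Subgroup (G ⧸ M.normalCore)) := by
  have hXtop : X ≠ ⊤ := by
    intro h
    rw [h, top_le_iff] at hXM
    exact hM.1 hXM
  have part1 : ∀ H : Subgroup G, ¬ H ≤ M.normalCore → ∃ C : Subgroup G, H ⊔ C = ⊤ ∧ H ⊓ C = ⊥ := by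
    intro H hH
    -- find a conjugate of H not inside M
    have : ∃ b : G, ∃ h ∈ H, b * h * b⁻¹ ∉ M := by
      by_contra hcon
      push Not at hcon
      apply hH
      intro h hh b
      exact hcon b h hh
    obtain ⟨b, h, hh, hbh⟩ := this
    let φ : Subgroup G ≃o Subgroup G := (MulAut.conj b).mapSubgroup
    have hφH : ¬ φ H ≤ M := by
      intro hle
      apply hbh
      apply hle
      exact ⟨h, hh, rfl⟩
    obtain ⟨C', hsup, hinf⟩ := Cfsg.Agent.S5901.result ⊥ X M bot_le hXtop
      (fun Y _ hYX => interval_complemented X hK Y hYX) hM hXM huniq (φ H) hφH (inf_bot_eq _)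
    refine ⟨φ.symm C', ?_, ?_⟩
    · have : φ (H ⊔ φ.symm C') = ⊤ := by
        rw [OrderIso.map_sup, OrderIso.apply_symm_apply, hsup]
      rw [← φ.map_top] at this
      exact φ.injective this
    · have : φ (H ⊓ φ.symm C') = ⊥ := by
        rw [OrderIso.map_inf, OrderIso.apply_symm_apply, hinf]
      rw [← φ.map_bot] at this
      exact φ.injective this
  refine ⟨part1, ⟨fun Hbar => ?_⟩⟩
  by_cases hbot : Hbar = ⊥
  · exact ⟨⊤, hbot ▸ isCompl_bot_top⟩
  · set K := M.normalCore with hKdef
    have hsurj : Function.Surjective (QuotientGroup.mk' K) := QuotientGroup.mk'_surjective K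
    set H := Hbar.comap (QuotientGroup.mk' K) with hHdef
    have hHK : ¬ H ≤ K := by
      intro hle
      apply hbot
      rw [eq_bot_iff]
      intro x hx
      obtain ⟨g, rfl⟩ := hsurj x
      have hg : g ∈ H := hx
      rw [Subgroup.mem_bot]
      exact (QuotientGroup.eq_one_iff g).2 (hle hg)
    obtain ⟨C, hsup, hinf⟩ := part1 H hHK
    refine ⟨C.map (QuotientGroup.mk' K), IsCompl.of_eq ?_ ?_⟩
    · rw [eq_bot_iff]
      rintro x ⟨hxH, c, hc, rfl⟩
      have hcH : c ∈ H := hxH
      have : c ∈ H ⊓ C := ⟨hcH, hc⟩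
      rw [hinf, Subgroup.mem_bot] at this
      rw [this, map_one]
      exact Subgroup.one_mem _
    · have h1 : H.map (QuotientGroup.mk' K) = Hbar := Subgroup.map_comap_eq_self_of_surjective hsurj _
      rw [← h1, ← Subgroup.map_sup, hsup, ← MonoidHom.range_eq_map]
      exact MonoidHom.range_eq_top.mpr hsurj

end Cfsg.Agent.S5902
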