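import Cfsg.Statements.S5903
import Cfsg.Agent.S5901
import Mathlib

set_option autoImplicit false
open Cfsg

namespace Cfsg.Agent.S5903

/-- If the subgroup lattice of `X ⧸ N` is complemented then the interval `[N, X]` of the
subgroup lattice of `G` is complemented. -/
theorem interval_complemented {G : Type*} [Group G] (X N : Subgroup G) (hNX : N ≤ X)
    [(N.subgroupOf X).Normal] (hK : ComplementedLattice (Subgroup (X ⧸ N.subgroupOf X)))
    (Y : Subgroup G) (hNY : N ≤ Y) (hYX : Y ≤ X) :
    ∃ C : Subgroup G, N ≤ C ∧ C ≤ X ∧ Y ⊔ C = X ∧ Y ⊓ C = N := by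
  set N' := N.subgroupOf X with hN'
  set π := QuotientGroup.mk' N' with hπ
  have hsurj : Function.Surjective π := QuotientGroup.mk'_surjective N'
  have hker : π.ker = N' := QuotientGroup.ker_mk' N'
  set Y' := Y.subgroupOf X with hY'
  have hN'Y' : N' ≤ Y' := by
    intro x hx
    exact Subgroup.mem_subgroupOf.mpr (hNY (Subgroup.mem_subgroupOf.mp hx))
  obtain ⟨Dbar, hD⟩ := hK.exists_isCompl (Y'.map π)
  set D' := Dbar.comap π with hD'
  have hYcomap : (Y'.map π).comap π = Y' := Subgroup.comap_map_eq_self (by rw [hker]; exact hN'Y')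
  have hinf : Y' ⊓ D' = N' := by
    rw [← hYcomap, hD', ← Subgroup.comap_inf, hD.inf_eq_bot, MonoidHom.comap_bot, hker]
  have hsup : Y' ⊔ D' = ⊤ := by
    rw [← hYcomap, hD', Subgroup.comap_sup_eq π _ _ hsurj, hD.sup_eq_top, Subgroup.comap_top]
  have hYmap : Y'.map X.subtype = Y := by
    rw [hY', Subgroup.subgroupOf_map_subtype, inf_of_le_left hYX]
  have hNmap : N'.map X.subtype = N := by
    rw [hN', Subgroup.subgroupOf_map_subtype, inf_of_le_left hNX]
  refine ⟨D'.map X.subtype, ?_, Subgroup.map_subtype_le D', ?_, ?_⟩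
  · rw [← hNmap]
    apply Subgroup.map_mono
    rw [← hinf]; exact inf_le_right
  · rw [← hYmap, ← Subgroup.map_sup, hsup, ← MonoidHom.range_eq_map, Subgroup.range_subtype]
  · rw [← hYmap, ← Subgroup.map_inf _ _ _ X.subtype_injective, hinf, hNmap]

/-- Conjugation as an order automorphism of the subgroup lattice:
`x ∈ conjIso g H ↔ g * x * g⁻¹ ∈ H`. -/
noncomputable def conjIso {G : Type*} [Group G] (g : G) : Subgroup G ≃o Subgroup G :=
  (MulAut.conj g).comapSubgroup

theorem mem_conjIso {G : Type*} [Group G] (g : G) (H : Subgroup G) (x : G) :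
    x ∈ conjIso g H ↔ g * x * g⁻¹ ∈ H := Iff.rfl

/-- Let G be a finite simple group, X a subgroup lying in exactly one maximal subgroup M of G, and N a subgroup of prime order with N ≤ X that is central in M. If the subgroup lattice of X/N is complemented, then the subgroup lattice of G is complemented. -/
theorem result {G : Type*} [Group G] [Finite G] [IsSimpleGroup G] (X M N : Subgroup G)
    (hM : IsCoatom M) (hXM : X ≤ M) (huniq : ∀ M' : Subgroup G, IsCoatom M' → X ≤ M' → M' = M)
    (hNX : N ≤ X) (hN : (Nat.card N).Prime) (hcen : ∀ n ∈ N, ∀ m ∈ M, m * n = n * m)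
    [(N.subgroupOf X).Normal] (hK : ComplementedLattice (Subgroup (X ⧸ N.subgroupOf X))) :
    ComplementedLattice (Subgroup G) := by
  have hXtop : X ≠ ⊤ := by
    intro h
    rw [h, top_le_iff] at hXM
    exact hM.1 hXM
  have hNbot : N ≠ ⊥ := by
    intro h
    rw [h, Subgroup.card_bot] at hN
    exact Nat.not_prime_one hN
  refine ⟨fun H => ?_⟩
  by_cases hHbot : H = ⊥
  · exact ⟨⊤, hHbot ▸ isCompl_bot_top⟩
  by_cases hHtop : H = ⊤
  · exact ⟨⊥, hHtop ▸ isCompl_top_bot⟩
  -- key claim: some conjugate of H avoids M and meets N trivially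
  have key : ∃ g : G, ¬ conjIso g H ≤ M ∧ conjIso g H ⊓ N = ⊥ := by
    by_contra hcon
    push Not at hcon
    -- dichotomy for every g
    have hdich : ∀ g : G, (∀ h ∈ H, g⁻¹ * h * g ∈ M) ∨ (∀ n ∈ N, g * n * g⁻¹ ∈ H) := by
      intro g
      by_cases h1 : conjIso g H ≤ M
      · left
        intro h hh
        apply h1
        rw [mem_conjIso]
        have : g * (g⁻¹ * h * g) * g⁻¹ = h := by group
        rw [this]; exact hh
      · right
        have h2 := hcon g h1
        -- conjIso g H ⊓ N is a nontrivial subgroup of N, which has prime order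
        have h3 : Nat.card (conjIso g H ⊓ N : Subgroup G) ∣ Nat.card N :=
          Subgroup.card_dvd_of_le inf_le_right
        rcases (Nat.dvd_prime hN).mp h3 with h4 | h4
        · exact absurd (Subgroup.card_eq_one.mp h4) h2
        · have h5 : (conjIso g H ⊓ N : Subgroup G) = N :=
            Subgroup.eq_of_le_of_card_ge inf_le_right (by rw [h4])
          intro n hn
          have : n ∈ conjIso g H ⊓ N := by rw [h5]; exact hn
          exact (mem_conjIso g H n).mp this.1
    -- the subgroup generated by the conjugates of N inside H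
    set L := Subgroup.closure {y : G | ∃ g : G, ∃ n ∈ N, y = g * n * g⁻¹ ∧ ∀ n' ∈ N, g * n' * g⁻¹ ∈ H}
      with hL
    have hLH : L ≤ H := by
      rw [hL, Subgroup.closure_le]
      rintro y ⟨g, n, hn, rfl, hg⟩
      exact hg n hn
    -- L is normalized by every conjugate of an element of N
    have hnorm : Subgroup.normalClosure (N : Set G) ≤ Subgroup.normalizer (L : Set G) := by
      unfold Subgroup.normalClosure
      rw [Subgroup.closure_le]
      intro y hy
      rw [Group.mem_conjugatesOfSet_iff] at hy
      obtain ⟨n, hn, hny⟩ := hy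
      obtain ⟨g, hg⟩ := isConj_iff.mp hny
      rcases hdich g with h1 | h1
      · -- y centralizes H, hence L
        apply Subgroup.centralizer_le_normalizer
        rw [Subgroup.mem_centralizer_iff]
        intro h hh
        have hhH : h ∈ H := hLH hh
        have hm := hcen n hn _ (h1 h hhH)
        rw [← hg]
        calc h * (g * n * g⁻¹) = g * ((g⁻¹ * h * g) * n) * g⁻¹ := by group
          _ = g * (n * (g⁻¹ * h * g)) * g⁻¹ := by rw [hm]
          _ = g * n * g⁻¹ * h := by group
      · apply Subgroup.le_normalizer
        apply Subgroup.subset_closure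
        exact ⟨g, n, hn, hg.symm, h1⟩
    have hNC : Subgroup.normalClosure (N : Set G) = ⊤ := by
      rcases (IsSimpleGroup.eq_bot_or_eq_top_of_normal (Subgroup.normalClosure (N : Set G))
        inferInstance) with h | h
      · exfalso
        apply hNbot
        rw [eq_bot_iff, ← h]
        exact Subgroup.le_normalClosure
      · exact h
    have hLn : L.Normal := by
      rw [← Subgroup.normalizer_eq_top_iff, eq_top_iff, ← hNC]
      exact hnorm
    have hLbot : L = ⊥ := by
      rcases IsSimpleGroup.eq_bot_or_eq_top_of_normal L hLn with h | h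
      · exact h
      · exfalso
        apply hHtop
        rw [eq_top_iff, ← h]; exact hLH
    -- hence no conjugate of N lies in H
    have hA : ∀ g : G, ∀ h ∈ H, g⁻¹ * h * g ∈ M := by
      intro g
      rcases hdich g with h1 | h1
      · exact h1
      · exfalso
        apply hNbot
        rw [eq_bot_iff]
        intro n hn
        have : g * n * g⁻¹ ∈ L := Subgroup.subset_closure ⟨g, n, hn, rfl, h1⟩
        rw [hLbot, Subgroup.mem_bot] at this
        rw [Subgroup.mem_bot]
        have h2 : n = g⁻¹ * (g * n * g⁻¹) * g := by group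
        rw [h2, this]; group
    -- so H lies in the normal core of M, which is trivial
    have hcore : H ≤ M.normalCore := by
      intro h hh b
      have := hA b⁻¹ h hh
      rwa [inv_inv] at this
    have hcore_bot : M.normalCore = ⊥ := by
      rcases IsSimpleGroup.eq_bot_or_eq_top_of_normal M.normalCore inferInstance with h | h
      · exact h
      · exfalso
        apply hM.1
        rw [eq_top_iff, ← h]; exact Subgroup.normalCore_le M
    apply hHbot
    rw [eq_bot_iff, ← hcore_bot]; exact hcore
  obtain ⟨g, hgM, hgN⟩ := key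
  obtain ⟨C', hsup, hinf⟩ := Cfsg.Agent.S5901.result N X M hNX hXtop
    (fun Y hNY hYX => interval_complemented X N hNX hK Y hNY hYX) hM hXM huniq (conjIso g H) hgM hgN
  refine ⟨(conjIso g).symm C', IsCompl.of_eq ?_ ?_⟩
  · have : conjIso g (H ⊓ (conjIso g).symm C') = ⊥ := by
      rw [OrderIso.map_inf, OrderIso.apply_symm_apply, hinf]
    rw [← (conjIso g).map_bot] at this
    exact (conjIso g).injective this
  · have : conjIso g (H ⊔ (conjIso g).symm C') = ⊤ := by
      rw [OrderIso.map_sup, OrderIso.apply_symm_apply, hsup]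
    rw [← (conjIso g).map_top] at this
    exact (conjIso g).injective this

end Cfsg.Agent.S5903
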