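import Cfsg.Statements.S5904
import Mathlib

set_option autoImplicit false
open Cfsg
open scoped Pointwise

namespace Cfsg.Agent.S5904

/-- Let Ω be a finite set with more than two elements and O ⊆ Ω a subset with exactly as many elements as its complement. Then the setwise stabilizer of O in the symmetric group on Ω is not a maximal subgroup (it is properly contained in the stabilizer of the partition {O, Ω ∖ O}, which is proper). -/
theorem result {Ω : Type*} [Fintype Ω] [DecidableEq Ω] (hΩ : 2 < Fintype.card Ω)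
    (O : Set Ω) (hO : Nat.card O = Nat.card ↥Oᶜ) :
    ¬ IsCoatom (MulAction.stabilizer (Equiv.Perm Ω) O) := by
  classical
  intro hco
  -- cardinalities
  have hsum : Nat.card O + Nat.card ↥Oᶜ = Fintype.card Ω := by
    rw [← Nat.card_sum, Nat.card_congr (Equiv.Set.sumCompl O), Nat.card_eq_fintype_card]
  have hO2 : 2 ≤ Nat.card O := by omega
  -- two distinct elements of O and one element of the complement
  obtain ⟨⟨a, ha⟩, ⟨a', ha'⟩, hne⟩ : ∃ x y : O, x ≠ y := by
    have : 1 < Nat.card O := hO2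
    rw [Finite.one_lt_card_iff_nontrivial] at this
    exact exists_pair_ne O
  have haa' : a ≠ a' := fun h => hne (Subtype.ext h)
  obtain ⟨⟨b, hb⟩⟩ : Nonempty ↥Oᶜ := by
    have : 0 < Nat.card ↥Oᶜ := by omega
    exact (Nat.card_pos_iff.mp this).1
  -- the stabilizer of the partition
  set K := MulAction.stabilizer (Equiv.Perm Ω) ({O, Oᶜ} : Set (Set Ω)) with hK
  have hpair : ∀ g : Equiv.Perm Ω, g • ({O, Oᶜ} : Set (Set Ω)) = {g • O, (g • O)ᶜ} := by
    intro g
    rw [Set.smul_set_insert, Set.smul_set_singleton, Set.smul_set_compl]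
  have hSK : MulAction.stabilizer (Equiv.Perm Ω) O ≤ K := by
    intro g hg
    rw [MulAction.mem_stabilizer_iff] at hg
    rw [hK, MulAction.mem_stabilizer_iff, hpair, hg]
  -- a permutation swapping O and its complement
  obtain ⟨e⟩ : Nonempty (O ≃ ↥Oᶜ) := by
    have h1 : Finite O := inferInstance
    have h2 : Finite ↥Oᶜ := inferInstance
    exact Nonempty.intro ((Finite.equivFinOfCardEq rfl).trans (Finite.equivFinOfCardEq hO.symm).symm)
  let σ : Equiv.Perm Ω := (Equiv.Set.sumCompl O).symm.trans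
    ((Equiv.sumComm _ _).trans ((Equiv.sumCongr e.symm e).trans (Equiv.Set.sumCompl O)))
  have hσO : ∀ x ∈ O, σ x ∈ Oᶜ := by
    intro x hx
    have : σ x = (e ⟨x, hx⟩ : Ω) := by
      simp [σ, Equiv.Set.sumCompl_symm_apply_of_mem hx]
    rw [this]; exact (e ⟨x, hx⟩).2
  have hσOc : ∀ x ∈ Oᶜ, σ x ∈ O := by
    intro x hx
    have : σ x = (e.symm ⟨x, hx⟩ : Ω) := by
      simp [σ, Equiv.Set.sumCompl_symm_apply_of_notMem hx]
    rw [this]; exact (e.symm ⟨x, hx⟩).2
  have hσ : σ • O = Oᶜ := by
    apply Set.Subset.antisymm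
    · rintro y ⟨x, hx, rfl⟩
      exact hσO x hx
    · intro y hy
      by_contra hny
      -- y ∉ σ • O means σ⁻¹ y ∉ O, so σ (σ⁻¹ y) ∈ O
      have h1 : σ⁻¹ y ∈ Oᶜ := by
        intro h
        exact hny ⟨σ⁻¹ y, h, by simp⟩
      have h2 := hσOc _ h1
      simp at h2
      exact hy h2
  have hσK : σ ∈ K := by
    rw [hK, MulAction.mem_stabilizer_iff, hpair, hσ, compl_compl, Set.pair_comm]
  have hσS : σ ∉ MulAction.stabilizer (Equiv.Perm Ω) O := by
    rw [MulAction.mem_stabilizer_iff, hσ]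
    intro h
    have : a ∈ Oᶜ := by rw [h]; exact ha
    exact this ha
  have hlt : MulAction.stabilizer (Equiv.Perm Ω) O < K :=
    lt_of_le_of_ne hSK (fun h => hσS (h ▸ hσK))
  have hKtop : K = ⊤ := hco.2 K hlt
  -- the transposition (a b) is not in K
  have hτ : Equiv.swap a b ∈ K := by rw [hKtop]; trivial
  rw [hK, MulAction.mem_stabilizer_iff, hpair] at hτ
  have hmem : Equiv.swap a b • O ∈ ({O, Oᶜ} : Set (Set Ω)) := by
    rw [← hτ]; exact Set.mem_insert _ _
  have hbmem : b ∈ Equiv.swap a b • O := ⟨a, ha, by simp⟩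
  have ha'mem : a' ∈ Equiv.swap a b • O := by
    refine ⟨a', ha', ?_⟩
    have hab' : a' ≠ b := fun h => hb (h ▸ ha')
    simp [Equiv.swap_apply_of_ne_of_ne haa'.symm hab']
  rcases hmem with h | h
  · rw [h] at hbmem; exact hb hbmem
  · rw [Set.mem_singleton_iff] at h
    rw [h] at ha'mem; exact ha'mem ha'

end Cfsg.Agent.S5904
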