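import Mathlib
import Cfsg.Statements.S5909
import Cfsg.Agent.S5905

set_option autoImplicit false
open Cfsg

namespace Cfsg.Agent.S5909

open Equiv MulAction
open scoped Pointwise
open Cfsg.Agent.S5905 (W mem_W closure_eq_W swap_mem_W exists_coords exists_partner
  exists_mem_W_apply_eq)

set_option linter.unusedSectionVars false
set_option linter.unusedVariables false

section

variable {Ω : Type*} [Fintype Ω] [DecidableEq Ω] {b : ℕ} (f : Ω → Fin b)

theorem card_eq (a : ℕ) (hf : ∀ i : Fin b, Nat.card {x : Ω // f x = i} = a) :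
    Fintype.card Ω = b * a := by
  obtain ⟨φ, -⟩ := exists_coords f a hf
  rw [Fintype.card_congr φ, Fintype.card_prod, Fintype.card_fin, Fintype.card_fin]

theorem exists_point (a : ℕ) (ha : 2 ≤ a)
    (hf : ∀ i : Fin b, Nat.card {x : Ω // f x = i} = a) (i : Fin b) : ∃ v, f v = i := by
  have h1 : 0 < Fintype.card {v : Ω // f v = i} := by
    rw [← Nat.card_eq_fintype_card, hf]; omega
  obtain ⟨⟨v, hv⟩⟩ := Fintype.card_pos_iff.1 h1
  exact ⟨v, hv⟩

theorem exists_notMem_fin (s : Finset (Fin b)) (hs : s.card < b) : ∃ j, j ∉ s := by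
  by_contra h
  push Not at h
  have : s = Finset.univ := Finset.eq_univ_iff_forall.2 h
  rw [this, Finset.card_univ, Fintype.card_fin] at hs
  omega

/-- a pair of distinct points in a common fibre whose index avoids `s`. -/
theorem exists_pair_avoid (a : ℕ) (ha : 2 ≤ a)
    (hf : ∀ i : Fin b, Nat.card {x : Ω // f x = i} = a) (s : Finset (Fin b)) (hs : s.card < b) :
    ∃ z z', z ≠ z' ∧ f z = f z' ∧ f z ∉ s := by
  obtain ⟨j, hj⟩ := exists_notMem_fin s hs
  obtain ⟨z, hz⟩ := exists_point f a ha hf j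
  obtain ⟨z', hz'z, hfz'⟩ := exists_partner f a ha hf z
  exact ⟨z, z', hz'z.symm, hfz'.symm, by rw [hz]; exact hj⟩

theorem two_in_fibre_avoid (a : ℕ) (ha : 3 ≤ a)
    (hf : ∀ i : Fin b, Nat.card {x : Ω // f x = i} = a) (q : Ω) :
    ∃ z z', z ≠ z' ∧ f z = f q ∧ f z' = f q ∧ z ≠ q ∧ z' ≠ q := by
  have hcard : (Finset.univ.filter (fun v => f v = f q)).card = a := by
    rw [← Fintype.card_subtype, ← Nat.card_eq_fintype_card, hf]
  have hq : q ∈ Finset.univ.filter (fun v => f v = f q) := by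
    simp
  have h2 : 1 < ((Finset.univ.filter (fun v => f v = f q)).erase q).card := by
    rw [Finset.card_erase_of_mem hq, hcard]; omega
  obtain ⟨z, hz, z', hz', hzz⟩ := Finset.one_lt_card.1 h2
  rw [Finset.mem_erase, Finset.mem_filter] at hz hz'
  exact ⟨z, z', hzz, hz.2.2, hz'.2.2, hz.1, hz'.1⟩

theorem avoid3 (a : ℕ) (ha : 2 ≤ a) (hf : ∀ i : Fin b, Nat.card {x : Ω // f x = i} = a)
    (h3 : 3 ≤ a ∨ 3 ≤ b) (p q r : Ω) (hpq : f p ≠ f q) (hr : f r = f p ∨ f r = f q) :
    ∃ z z', z ≠ z' ∧ f z = f z' ∧ z ≠ p ∧ z ≠ q ∧ z ≠ r ∧ z' ≠ p ∧ z' ≠ q ∧ z' ≠ r := by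
  rcases h3 with h3 | h3
  · rcases hr with hr | hr
    · obtain ⟨z, z', hzz, hz, hz', hzq, hz'q⟩ := two_in_fibre_avoid f a h3 hf q
      refine ⟨z, z', hzz, hz.trans hz'.symm, ?_, hzq, ?_, ?_, hz'q, ?_⟩
      · intro h; exact hpq (by rw [← h, hz])
      · intro h; exact hpq (by rw [← hr, ← h, hz])
      · intro h; exact hpq (by rw [← h, hz'])
      · intro h; exact hpq (by rw [← hr, ← h, hz'])
    · obtain ⟨z, z', hzz, hz, hz', hzp, hz'p⟩ := two_in_fibre_avoid f a h3 hf p
      refine ⟨z, z', hzz, hz.trans hz'.symm, hzp, ?_, ?_, hz'p, ?_, ?_⟩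
      · intro h; exact hpq (by rw [← h, hz])
      · intro h; exact hpq (by rw [← hr, ← h, hz])
      · intro h; exact hpq (by rw [← h, hz'])
      · intro h; exact hpq (by rw [← hr, ← h, hz'])
  · obtain ⟨z, z', hzz, hfz, hzs⟩ := exists_pair_avoid f a ha hf {f p, f q}
      (lt_of_le_of_lt Finset.card_le_two (by omega))
    rw [Finset.mem_insert, Finset.mem_singleton, not_or] at hzs
    have hz's : f z' ≠ f p ∧ f z' ≠ f q := by rw [← hfz]; exact hzs
    refine ⟨z, z', hzz, hfz, ?_, ?_, ?_, ?_, ?_, ?_⟩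
    · intro h; exact hzs.1 (by rw [h])
    · intro h; exact hzs.2 (by rw [h])
    · intro h; rcases hr with hr | hr
      · exact hzs.1 (by rw [h, hr])
      · exact hzs.2 (by rw [h, hr])
    · intro h; exact hz's.1 (by rw [h])
    · intro h; exact hz's.2 (by rw [h])
    · intro h; rcases hr with hr | hr
      · exact hz's.1 (by rw [h, hr])
      · exact hz's.2 (by rw [h, hr])

theorem evenize {w : Perm Ω} (hw : w ∈ W f) (z z' : Ω) (hzz : z ≠ z') (hfz : f z = f z') :
    ∃ w' ∈ W f ⊓ alternatingGroup Ω, ∀ v, v ≠ z → v ≠ z' → w' v = w v := by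
  rcases Int.units_eq_one_or (Perm.sign w) with h | h
  · exact ⟨w, Subgroup.mem_inf.2 ⟨hw, Perm.mem_alternatingGroup.2 h⟩, fun _ _ _ => rfl⟩
  · refine ⟨w * swap z z', Subgroup.mem_inf.2 ⟨(W f).mul_mem hw (swap_mem_W f z z' hfz), ?_⟩, ?_⟩
    · rw [Perm.mem_alternatingGroup, Perm.sign_mul, Perm.sign_swap hzz, h]
      rfl
    · intro v hv hv'
      rw [Perm.mul_apply, swap_apply_of_ne_of_ne hv hv']

theorem two_swaps_mem (x y z z' : Ω) (hxy : x ≠ y) (hfxy : f x = f y) (hzz : z ≠ z')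
    (hfz : f z = f z') : swap x y * swap z z' ∈ W f ⊓ alternatingGroup Ω := by
  refine Subgroup.mem_inf.2 ⟨(W f).mul_mem (swap_mem_W f x y hfxy) (swap_mem_W f z z' hfz), ?_⟩
  rw [Perm.mem_alternatingGroup, Perm.sign_mul, Perm.sign_swap hxy, Perm.sign_swap hzz]
  rfl

/-- `W ∩ A` is transitive. -/
theorem exists_mem_Wp_apply_eq (a : ℕ) (ha : 2 ≤ a) (hb : 2 ≤ b)
    (hf : ∀ i : Fin b, Nat.card {x : Ω // f x = i} = a) (x y : Ω) :
    ∃ w ∈ W f ⊓ alternatingGroup Ω, w x = y := by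
  obtain ⟨w, hw, hwx, -⟩ := exists_mem_W_apply_eq f a hf x y
  obtain ⟨z, z', hzz, hfz, hzs⟩ := exists_pair_avoid f a ha hf {f x}
    (by rw [Finset.card_singleton]; omega)
  rw [Finset.mem_singleton] at hzs
  obtain ⟨w', hw', hw'eq⟩ := evenize f hw z z' hzz hfz
  refine ⟨w', hw', ?_⟩
  rw [hw'eq x, hwx]
  · intro h; exact hzs (by rw [h])
  · intro h; exact hzs (by rw [hfz, h])


theorem isPreprimitive_of_lt (a : ℕ) (ha : 2 ≤ a) (hb : 2 ≤ b)
    (hf : ∀ i : Fin b, Nat.card {x : Ω // f x = i} = a) (h3 : 3 ≤ a ∨ 3 ≤ b)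
    (K : Subgroup (Perm Ω)) (hWK : W f ⊓ alternatingGroup Ω < K)
    (hKA : K ≤ alternatingGroup Ω) : IsPreprimitive K Ω := by
  classical
  have hWleK : W f ⊓ alternatingGroup Ω ≤ K := hWK.le
  have htransWp := exists_mem_Wp_apply_eq f a ha hb hf
  obtain ⟨x0, -⟩ := exists_point f a ha hf (⟨0, by omega⟩ : Fin b)
  have hpt : IsPretransitive K Ω := ⟨fun x y => by
    obtain ⟨w, hw, hwx⟩ := htransWp x y
    exact ⟨⟨w, hWleK hw⟩, hwx⟩⟩
  apply IsPreprimitive.of_isTrivialBlock_base x0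
  intro B hx0B hB
  have hfix : ∀ k ∈ K, ∀ p ∈ B, k p = p → ∀ q ∈ B, k q ∈ B := by
    intro k hk p hp hkp q hq
    have h1 : (⟨k, hk⟩ : K) • B = B := hB.smul_eq_of_mem (g := ⟨k, hk⟩) (a := p) hp
      (by change k p ∈ B; rw [hkp]; exact hp)
    have h2 : (⟨k, hk⟩ : K) • q ∈ (⟨k, hk⟩ : K) • B := Set.smul_mem_smul_set hq
    rw [h1] at h2
    exact h2
  by_cases hout : ∃ y ∈ B, f y ≠ f x0
  · right
    obtain ⟨y, hyB, hfy⟩ := hout
    have h1 : ∀ u, f u ≠ f x0 → u ∈ B := by
      intro u hfu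
      obtain ⟨w, hw, hwy, hwfix⟩ := exists_mem_W_apply_eq f a hf y u
      obtain ⟨z, z', hzz, hfz, hzx0, hzy, -, hz'x0, hz'y, -⟩ :=
        avoid3 f a ha hf h3 x0 y x0 (Ne.symm hfy) (Or.inl rfl)
      obtain ⟨w', hw', hw'eq⟩ := evenize f hw z z' hzz hfz
      have h0 : w' x0 = x0 := by
        rw [hw'eq x0 (Ne.symm hzx0) (Ne.symm hz'x0)]
        exact hwfix x0 (Ne.symm hfy) (Ne.symm hfu)
      have := hfix w' (hWleK hw') x0 hx0B h0 y hyB
      rwa [hw'eq y (Ne.symm hzy) (Ne.symm hz'y), hwy] at this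
    have h2 : ∀ u, f u = f x0 → u ∈ B := by
      intro u hfu
      by_cases hu0 : u = x0
      · rw [hu0]; exact hx0B
      obtain ⟨z, z', hzz, hfz, hzx0, hzy, hzu, hz'x0, hz'y, hz'u⟩ :=
        avoid3 f a ha hf h3 x0 y u (Ne.symm hfy) (Or.inl hfu)
      obtain ⟨w', hw', hw'eq⟩ := evenize f (swap_mem_W f x0 u hfu.symm) z z' hzz hfz
      have hy' : w' y = y := by
        rw [hw'eq y (Ne.symm hzy) (Ne.symm hz'y)]
        apply swap_apply_of_ne_of_ne
        · intro h; exact hfy (by rw [h])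
        · intro h; exact hfy (by rw [h, hfu])
      have := hfix _ (hWleK hw') y hyB hy' x0 hx0B
      rwa [hw'eq x0 (Ne.symm hzx0) (Ne.symm hz'x0), swap_apply_left] at this
    apply Set.eq_univ_of_forall
    intro u
    by_cases h : f u = f x0
    · exact h2 u h
    · exact h1 u h
  · push Not at hout
    by_cases hsub : B.Subsingleton
    · left; exact hsub
    · exfalso
      obtain ⟨y, hyB, hy0⟩ : ∃ y ∈ B, y ≠ x0 := by
        by_contra hcon
        push Not at hcon
        apply hsub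
        intro p hp q hq
        rw [hcon p hp, hcon q hq]
      have hF : ∀ u, f u = f x0 → u ∈ B := by
        intro u hfu
        by_cases hu0 : u = x0
        · rw [hu0]; exact hx0B
        by_cases huy : u = y
        · rw [huy]; exact hyB
        obtain ⟨z, z', hzz, hfz, hzs⟩ := exists_pair_avoid f a ha hf {f x0}
          (by rw [Finset.card_singleton]; omega)
        rw [Finset.mem_singleton] at hzs
        have hz's : f z' ≠ f x0 := by rw [← hfz]; exact hzs
        obtain ⟨w', hw', hw'eq⟩ :=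
          evenize f (swap_mem_W f y u ((hout y hyB).trans hfu.symm)) z z' hzz hfz
        have h0 : w' x0 = x0 := by
          rw [hw'eq x0 (fun h => hzs (by rw [h])) (fun h => hz's (by rw [h]))]
          exact swap_apply_of_ne_of_ne (Ne.symm hy0) (Ne.symm hu0)
        have := hfix _ (hWleK hw') x0 hx0B h0 y hyB
        rwa [hw'eq y (fun h => hzs (by rw [← h, hout y hyB]))
          (fun h => hz's (by rw [← h, hout y hyB])), swap_apply_left] at this
      have hBF : ∀ u, u ∈ B ↔ f u = f x0 := fun u => ⟨hout u, hF u⟩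
      apply not_le_of_gt hWK
      have key : ∀ k ∈ K, ∀ x y, f x = f y → f (k x) = f (k y) := by
        intro k hk x y hxy
        obtain ⟨w, hw, hwx⟩ := htransWp x0 x
        obtain ⟨w', hw', hw'x⟩ := htransWp x0 (k x)
        have hwW : w ∈ W f := (Subgroup.mem_inf.1 hw).1
        have hw'W : w' ∈ W f := (Subgroup.mem_inf.1 hw').1
        have hgK : w'⁻¹ * k * w ∈ K :=
          K.mul_mem (K.mul_mem (K.inv_mem (hWleK hw')) hk) (hWleK hw)
        have hg0 : (w'⁻¹ * k * w) x0 = x0 := by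
          rw [Perm.mul_apply, Perm.mul_apply, hwx, ← hw'x, ← Perm.mul_apply, inv_mul_cancel,
            Perm.one_apply]
        have hwinv : w⁻¹ x = x0 := by
          rw [← hwx, ← Perm.mul_apply, inv_mul_cancel, Perm.one_apply]
        have hy' : w⁻¹ y ∈ B := by
          rw [hBF]
          have h1 := ((W f).inv_mem hwW) x y
          rw [hwinv] at h1
          exact (h1.1 hxy).symm
        have h3' := hfix _ hgK x0 hx0B hg0 _ hy'
        have e1 : (w'⁻¹ * k * w) (w⁻¹ y) = w'⁻¹ (k y) := by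
          rw [Perm.mul_apply, Perm.mul_apply, ← Perm.mul_apply w, mul_inv_cancel,
            Perm.one_apply]
        rw [e1, hBF] at h3'
        have hw'inv : w'⁻¹ (k x) = x0 := by
          rw [← hw'x, ← Perm.mul_apply, inv_mul_cancel, Perm.one_apply]
        have h4 := ((W f).inv_mem hw'W) (k x) (k y)
        rw [hw'inv, h3'] at h4
        exact h4.2 rfl
      intro k hk
      refine Subgroup.mem_inf.2 ⟨?_, hKA hk⟩
      rw [mem_W]
      intro x y
      constructor
      · exact key k hk x y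
      · intro h
        have := key k⁻¹ (K.inv_mem hk) _ _ h
        rwa [← Perm.mul_apply, ← Perm.mul_apply, inv_mul_cancel, Perm.one_apply,
          Perm.one_apply] at this


theorem exists_threeCycle_of_three_le (a : ℕ) (ha : 3 ≤ a) (hb : 2 ≤ b)
    (hf : ∀ i : Fin b, Nat.card {x : Ω // f x = i} = a) :
    ∃ g ∈ W f ⊓ alternatingGroup Ω, g.IsThreeCycle := by
  obtain ⟨x, -⟩ := exists_point f a (by omega) hf (⟨0, by omega⟩ : Fin b)
  obtain ⟨z, z', hzz, hz, hz', hzx, hz'x⟩ := two_in_fibre_avoid f a ha hf x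
  have h3 : (swap x z * swap x z').IsThreeCycle :=
    Perm.isThreeCycle_swap_mul_swap_same (Ne.symm hzx) (Ne.symm hz'x) hzz
  exact ⟨_, Subgroup.mem_inf.2 ⟨(W f).mul_mem (swap_mem_W f x z hz.symm)
    (swap_mem_W f x z' hz'.symm), h3.mem_alternatingGroup⟩, h3⟩

theorem exists_threeCycle_of_five_le (a : ℕ) (ha : 2 ≤ a) (hb : 5 ≤ b)
    (hf : ∀ i : Fin b, Nat.card {x : Ω // f x = i} = a)
    (K : Subgroup (Perm Ω)) (hWK : W f ⊓ alternatingGroup Ω < K)
    (hKA : K ≤ alternatingGroup Ω) : ∃ g ∈ K, g.IsThreeCycle := by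
  have hWleK := hWK.le
  have h1 : ∃ k ∈ K, ∃ x1 y1, f x1 = f y1 ∧ f (k x1) ≠ f (k y1) := by
    by_contra hcon
    push Not at hcon
    apply not_le_of_gt hWK
    intro k hk
    refine Subgroup.mem_inf.2 ⟨?_, hKA hk⟩
    rw [mem_W]
    intro x y
    constructor
    · exact hcon k hk x y
    · intro h
      have := hcon k⁻¹ (K.inv_mem hk) _ _ h
      rwa [← Perm.mul_apply, ← Perm.mul_apply, inv_mul_cancel, Perm.one_apply,
        Perm.one_apply] at this
  obtain ⟨k, hk, x1, y1, hf1, hne⟩ := h1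
  have hx1y1 : x1 ≠ y1 := by intro h; apply hne; rw [h]
  obtain ⟨u, hu⟩ : ∃ u, u = k x1 := ⟨_, rfl⟩
  obtain ⟨v, hv⟩ : ∃ v, v = k y1 := ⟨_, rfl⟩
  rw [← hu, ← hv] at hne
  obtain ⟨u', hu'u, hfu'⟩ := exists_partner f a ha hf u
  obtain ⟨x2, y2, hx2y2, hf2, hs2⟩ := exists_pair_avoid f a ha hf {f x1, f (k⁻¹ u')}
    (lt_of_le_of_lt Finset.card_le_two (by omega))
  rw [Finset.mem_insert, Finset.mem_singleton, not_or] at hs2
  obtain ⟨c, hc⟩ : ∃ c, c = k x2 := ⟨_, rfl⟩
  obtain ⟨d, hd⟩ : ∃ d, d = k y2 := ⟨_, rfl⟩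
  obtain ⟨β, β', hββ, hfβ, hsβ⟩ := exists_pair_avoid f a ha hf {f u, f v, f c, f d}
    (lt_of_le_of_lt Finset.card_le_four (by omega))
  simp only [Finset.mem_insert, Finset.mem_singleton, not_or] at hsβ
  obtain ⟨hβu, hβv, hβc, hβd⟩ := hsβ
  have ht : swap x1 y1 * swap x2 y2 ∈ W f ⊓ alternatingGroup Ω :=
    two_swaps_mem f x1 y1 x2 y2 hx1y1 hf1 hx2y2 hf2
  have hh : swap u u' * swap β β' ∈ W f ⊓ alternatingGroup Ω :=
    two_swaps_mem f u u' β β' (Ne.symm hu'u) hfu'.symm hββ hfβ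
  obtain ⟨g, hg⟩ : ∃ g, g = k * (swap x1 y1 * swap x2 y2) * k⁻¹ := ⟨_, rfl⟩
  have hgK : g ∈ K := by
    rw [hg]; exact K.mul_mem (K.mul_mem hk (hWleK ht)) (K.inv_mem hk)
  have hgeq : g = swap u v * swap c d := by
    rw [hu, hv, hc, hd, swap_apply_apply, swap_apply_apply, hg]; group
  have huc : u ≠ c := by
    intro h; rw [hu, hc] at h
    exact hs2.1 (congrArg f (k.injective h)).symm
  have hud : u ≠ d := by
    intro h; rw [hu, hd] at h
    exact hs2.1 (hf2.trans (congrArg f (k.injective h)).symm)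
  have hu'c : u' ≠ c := by
    intro h
    apply hs2.2
    rw [h, hc, ← Perm.mul_apply, inv_mul_cancel, Perm.one_apply]
  have hu'd : u' ≠ d := by
    intro h
    apply hs2.2
    rw [h, hd, ← Perm.mul_apply, inv_mul_cancel, Perm.one_apply, hf2]
  have hu'v : u' ≠ v := by
    intro h; apply hne; rw [← hfu', h]
  have hvu : v ≠ u := by
    intro h; apply hne; rw [h]
  have hfβ' : ∀ t, f β ≠ f t → β ≠ t ∧ β' ≠ t := by
    intro t ht
    constructor
    · intro h; exact ht (by rw [h])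
    · intro h; exact ht (by rw [hfβ, h])
  have hgu : g u = v := by
    rw [hgeq, Perm.mul_apply, swap_apply_of_ne_of_ne huc hud, swap_apply_left]
  have hgu' : g u' = u' := by
    rw [hgeq, Perm.mul_apply, swap_apply_of_ne_of_ne hu'c hu'd,
      swap_apply_of_ne_of_ne hu'u hu'v]
  have hgβ : g β = β := by
    rw [hgeq, Perm.mul_apply, swap_apply_of_ne_of_ne (hfβ' c hβc).1 (hfβ' d hβd).1,
      swap_apply_of_ne_of_ne (hfβ' u hβu).1 (hfβ' v hβv).1]
  have hgβ' : g β' = β' := by
    rw [hgeq, Perm.mul_apply, swap_apply_of_ne_of_ne (hfβ' c hβc).2 (hfβ' d hβd).2,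
      swap_apply_of_ne_of_ne (hfβ' u hβu).2 (hfβ' v hβv).2]
  have hconj : g * (swap u u' * swap β β') * g⁻¹ = swap v u' * swap β β' := by
    have : g * (swap u u' * swap β β') * g⁻¹
        = (g * swap u u' * g⁻¹) * (g * swap β β' * g⁻¹) := by group
    rw [this, ← swap_apply_apply, ← swap_apply_apply, hgu, hgu', hgβ, hgβ']
  have hcomm : g * (swap u u' * swap β β') * g⁻¹ * (swap u u' * swap β β')⁻¹
      = swap u' v * swap u' u := by
    rw [hconj, mul_inv_rev, swap_inv, swap_inv, mul_assoc, ← mul_assoc (swap β β'),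
      swap_mul_self, one_mul, swap_comm v u', swap_comm u u']
  refine ⟨_, K.mul_mem (K.mul_mem (K.mul_mem hgK (hWleK hh)) (K.inv_mem hgK))
    (K.inv_mem (hWleK hh)), ?_⟩
  rw [hcomm]
  exact Perm.isThreeCycle_swap_mul_swap_same hu'v hu'u hvu

theorem card_dvd_of_transitive (G : Subgroup (Perm Ω)) (hG : ∀ x y : Ω, ∃ g ∈ G, g x = y)
    (x0 : Ω) : Fintype.card Ω ∣ Nat.card G := by
  have hpt : IsPretransitive G Ω :=
    ⟨fun x y => by obtain ⟨g, hg, h⟩ := hG x y; exact ⟨⟨g, hg⟩, h⟩⟩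
  have := MulAction.index_stabilizer_of_transitive G x0
  rw [← Nat.card_eq_fintype_card, ← this]
  exact Subgroup.index_dvd_card _


theorem card_Wp_dvd (a : ℕ) (ha : 2 ≤ a) (hb : 2 ≤ b)
    (hf : ∀ i : Fin b, Nat.card {x : Ω // f x = i} = a) (h3 : 3 ≤ a ∨ 3 ≤ b) :
    (b * a) * (b * a - a) ∣ Nat.card (W f ⊓ alternatingGroup Ω : Subgroup (Perm Ω)) := by
  classical
  obtain ⟨x, hx⟩ := exists_point f a ha hf (⟨0, by omega⟩ : Fin b)
  obtain ⟨x2, hx2⟩ := exists_point f a ha hf (⟨1, by omega⟩ : Fin b)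
  have hxx2 : f x ≠ f x2 := by
    rw [hx, hx2]; intro h; have := congrArg Fin.val h; simp at this
  have hpt : IsPretransitive (W f ⊓ alternatingGroup Ω : Subgroup (Perm Ω)) Ω :=
    ⟨fun p q => by
      obtain ⟨g, hg, h⟩ := exists_mem_Wp_apply_eq f a ha hb hf p q
      exact ⟨⟨g, hg⟩, h⟩⟩
  have hidx := MulAction.index_stabilizer_of_transitive
    (W f ⊓ alternatingGroup Ω : Subgroup (Perm Ω)) x
  rw [Nat.card_eq_fintype_card, card_eq f a hf] at hidx
  have horb : orbit (stabilizer (W f ⊓ alternatingGroup Ω : Subgroup (Perm Ω)) x) x2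
      = {v | f v = f x}ᶜ := by
    ext v
    constructor
    · rintro ⟨s, rfl⟩
      have hs : ((s : (W f ⊓ alternatingGroup Ω : Subgroup (Perm Ω))) : Perm Ω) x = x := s.2
      have hsW : ((s : (W f ⊓ alternatingGroup Ω : Subgroup (Perm Ω))) : Perm Ω) ∈ W f :=
        (Subgroup.mem_inf.1 (s : (W f ⊓ alternatingGroup Ω : Subgroup (Perm Ω))).2).1
      change ¬ (f (((s : (W f ⊓ alternatingGroup Ω : Subgroup (Perm Ω))) : Perm Ω) x2) = f x)
      intro h
      have h1 := (hsW x2 x).2 (by rw [hs]; exact h)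
      exact hxx2 h1.symm
    · intro hv
      have hv' : f v ≠ f x := hv
      obtain ⟨w, hw, hwx2, hwfix⟩ := exists_mem_W_apply_eq f a hf x2 v
      obtain ⟨z, z', hzz, hfz, hzx, hzx2, -, hz'x, hz'x2, -⟩ :=
        avoid3 f a ha hf h3 x x2 x hxx2 (Or.inl rfl)
      obtain ⟨w', hw', hw'eq⟩ := evenize f hw z z' hzz hfz
      have h0 : w' x = x := by
        rw [hw'eq x (Ne.symm hzx) (Ne.symm hz'x)]
        exact hwfix x hxx2 (Ne.symm hv')
      have h2 : w' x2 = v := by
        rw [hw'eq x2 (Ne.symm hzx2) (Ne.symm hz'x2), hwx2]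
      exact ⟨⟨⟨w', hw'⟩, h0⟩, h2⟩
  have hncard : ({v | f v = f x}ᶜ : Set Ω).ncard = b * a - a := by
    rw [Set.ncard_compl, Nat.card_eq_fintype_card, card_eq f a hf,
      ← Nat.card_coe_set_eq]
    congr 1
    exact hf (f x)
  have hidx2 := MulAction.index_stabilizer
    (stabilizer (W f ⊓ alternatingGroup Ω : Subgroup (Perm Ω)) x) x2
  rw [horb, hncard] at hidx2
  have hd2 : (b * a - a) ∣
      Nat.card (stabilizer (W f ⊓ alternatingGroup Ω : Subgroup (Perm Ω)) x) := by
    rw [← hidx2]; exact Subgroup.index_dvd_card _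
  rw [← Subgroup.index_mul_card
    (stabilizer (W f ⊓ alternatingGroup Ω : Subgroup (Perm Ω)) x), hidx]
  exact Nat.mul_dvd_mul_left _ hd2

theorem alt_le_of_lt_four (hcard : Fintype.card Ω = 4) (a : ℕ) (ha : 2 ≤ a) (hb : 2 ≤ b)
    (hf : ∀ i : Fin b, Nat.card {x : Ω // f x = i} = a)
    (K : Subgroup (Perm Ω)) (hWK : W f ⊓ alternatingGroup Ω < K)
    (hKA : K ≤ alternatingGroup Ω) : alternatingGroup Ω ≤ K := by
  obtain ⟨x0, -⟩ := exists_point f a ha hf (⟨0, by omega⟩ : Fin b)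
  have h4 : 4 ∣ Nat.card (W f ⊓ alternatingGroup Ω : Subgroup (Perm Ω)) := by
    rw [← hcard]
    exact card_dvd_of_transitive _ (exists_mem_Wp_apply_eq f a ha hb hf) x0
  have h1 : Nat.card (W f ⊓ alternatingGroup Ω : Subgroup (Perm Ω)) ∣ Nat.card K :=
    Subgroup.card_dvd_of_le hWK.le
  have h2 : Nat.card K ∣ Nat.card (alternatingGroup Ω) := Subgroup.card_dvd_of_le hKA
  have hA : Nat.card (alternatingGroup Ω) = 12 := by
    haveI : Nontrivial Ω := Fintype.one_lt_card_iff_nontrivial.1 (by omega)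
    rw [nat_card_alternatingGroup, Nat.card_eq_fintype_card, hcard]
    rfl
  have hlt : Nat.card (W f ⊓ alternatingGroup Ω : Subgroup (Perm Ω)) < Nat.card K := by
    by_contra hcon
    push Not at hcon
    exact hWK.ne (Subgroup.eq_of_le_of_card_ge hWK.le hcon)
  have hK12 : Nat.card K = 12 := by
    rw [hA] at h2
    have hle : Nat.card K ≤ 12 := Nat.le_of_dvd (by norm_num) h2
    generalize Nat.card K = n at *
    generalize Nat.card (W f ⊓ alternatingGroup Ω : Subgroup (Perm Ω)) = w at *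
    interval_cases n <;> interval_cases w <;> omega
  exact (Subgroup.eq_of_le_of_card_ge hKA (by rw [hA, hK12])).ge

theorem alt_le_of_lt_six (hcard : Fintype.card Ω = 6) (hb : b = 3)
    (hf : ∀ i : Fin b, Nat.card {x : Ω // f x = i} = 2)
    (K : Subgroup (Perm Ω)) (hWK : W f ⊓ alternatingGroup Ω < K)
    (hKA : K ≤ alternatingGroup Ω) : alternatingGroup Ω ≤ K := by
  subst hb
  have h24 : 24 ∣ Nat.card (W f ⊓ alternatingGroup Ω : Subgroup (Perm Ω)) := by
    have := card_Wp_dvd f 2 le_rfl (by omega) hf (Or.inr (by omega))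
    exact this
  have h1 : Nat.card (W f ⊓ alternatingGroup Ω : Subgroup (Perm Ω)) ∣ Nat.card K :=
    Subgroup.card_dvd_of_le hWK.le
  have hA : Nat.card (alternatingGroup Ω) = 360 := by
    haveI : Nontrivial Ω := Fintype.one_lt_card_iff_nontrivial.1 (by omega)
    rw [nat_card_alternatingGroup, Nat.card_eq_fintype_card, hcard]
    rfl
  have hlt : Nat.card (W f ⊓ alternatingGroup Ω : Subgroup (Perm Ω)) < Nat.card K := by
    by_contra hcon
    push Not at hcon
    exact hWK.ne (Subgroup.eq_of_le_of_card_ge hWK.le hcon)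
  by_contra hnot
  have hK'top : K.subgroupOf (alternatingGroup Ω) ≠ ⊤ :=
    fun h => hnot (Subgroup.subgroupOf_eq_top.1 h)
  haveI : IsSimpleGroup (alternatingGroup Ω) :=
    alternatingGroup.isSimpleGroup (by rw [Nat.card_eq_fintype_card, hcard]; norm_num)
  have hcore : (K.subgroupOf (alternatingGroup Ω)).normalCore = ⊥ := by
    rcases (Subgroup.normalCore_normal (K.subgroupOf (alternatingGroup Ω))).eq_bot_or_eq_top
      with h | h
    · exact h
    · exfalso; apply hK'top; rw [eq_top_iff, ← h]; exact Subgroup.normalCore_le _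
  have hinj : Function.Injective (MulAction.toPermHom (alternatingGroup Ω)
      ((alternatingGroup Ω) ⧸ K.subgroupOf (alternatingGroup Ω))) := by
    rw [← MonoidHom.ker_eq_bot_iff, ← Subgroup.normalCore_eq_ker, hcore]
  have hdvd := Subgroup.card_dvd_of_injective _ hinj
  rw [Nat.card_perm, ← Subgroup.index_eq_card, hA] at hdvd
  have hidx : (K.subgroupOf (alternatingGroup Ω)).index
      * Nat.card (K.subgroupOf (alternatingGroup Ω)) = 360 := by
    rw [Subgroup.index_mul_card, hA]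
  have hK'K : Nat.card (K.subgroupOf (alternatingGroup Ω)) = Nat.card K :=
    Nat.card_congr (Subgroup.subgroupOfEquivOfLe hKA).toEquiv
  rw [hK'K] at hidx
  generalize (K.subgroupOf (alternatingGroup Ω)).index = m at *
  generalize Nat.card K = n at *
  generalize Nat.card (W f ⊓ alternatingGroup Ω : Subgroup (Perm Ω)) = w at *
  have hm6 : 6 ≤ m := by
    by_contra hcon
    push Not at hcon
    have h5 : m ≤ 5 := by omega
    have := hdvd.trans (Nat.factorial_dvd_factorial h5)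
    revert this
    decide
  have hn60 : n ≤ 60 := by nlinarith
  have h24n : 24 ∣ n := h24.trans h1
  have hn360 : n ∣ 360 := Dvd.intro_left m hidx
  have hn24 : n = 24 := by
    interval_cases n <;> omega
  rw [hn24] at h1 hlt
  have hwpos : 0 < w := by
    rcases Nat.eq_zero_or_pos w with h | h
    · rw [h] at h1; simp at h1
    · exact h
  have := Nat.le_of_dvd hwpos h24
  omega


theorem alt_le_of_lt (h8 : Fintype.card Ω ≠ 8) (a : ℕ) (ha : 2 ≤ a) (hb : 2 ≤ b)
    (hf : ∀ i : Fin b, Nat.card {x : Ω // f x = i} = a)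
    (K : Subgroup (Perm Ω)) (hWK : W f ⊓ alternatingGroup Ω < K)
    (hKA : K ≤ alternatingGroup Ω) : alternatingGroup Ω ≤ K := by
  have hcard := card_eq f a hf
  by_cases h3a : 3 ≤ a
  · have hprim := isPreprimitive_of_lt f a ha hb hf (Or.inl h3a) K hWK hKA
    obtain ⟨g, hg, hg3⟩ := exists_threeCycle_of_three_le f a h3a hb hf
    exact Perm.alternatingGroup_le_of_isPreprimitive_of_isThreeCycle_mem hprim hg3 (hWK.le hg)
  · have ha2 : a = 2 := by omega
    subst ha2
    by_cases h5 : 5 ≤ b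
    · have hprim := isPreprimitive_of_lt f 2 ha hb hf (Or.inr (by omega)) K hWK hKA
      obtain ⟨g, hg, hg3⟩ := exists_threeCycle_of_five_le f 2 ha h5 hf K hWK hKA
      exact Perm.alternatingGroup_le_of_isPreprimitive_of_isThreeCycle_mem hprim hg3 hg
    · have hb' : b = 2 ∨ b = 3 ∨ b = 4 := by omega
      rcases hb' with hb' | hb' | hb'
      · exact alt_le_of_lt_four f (by rw [hcard, hb']) 2 ha hb hf K hWK hKA
      · exact alt_le_of_lt_six f (by rw [hcard, hb']) hb' hf K hWK hKA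
      · exfalso; apply h8; rw [hcard, hb']

end

/-- Let Ω be a finite set whose size is not 8, and f : Ω → Fin b a labelling with b ≥ 2 whose fibres all have the same size a ≥ 2 (a partition into b blocks of size a). Then the even permutations preserving the partition — the intersection of the imprimitive wreath product S_a ≀ S_b with the alternating group — form a maximal subgroup of the alternating group on Ω. -/
theorem result {Ω : Type*} [Fintype Ω] [DecidableEq Ω] (h8 : Fintype.card Ω ≠ 8) (a b : ℕ) (ha : 2 ≤ a) (hb : 2 ≤ b)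
    (f : Ω → Fin b) (hf : ∀ i : Fin b, Nat.card {x : Ω // f x = i} = a) :
    IsCoatom ((Subgroup.closure {g : Equiv.Perm Ω | ∀ x y : Ω, f x = f y ↔ f (g x) = f (g y)} ⊓ alternatingGroup Ω).subgroupOf (alternatingGroup Ω)) := by
  rw [closure_eq_W]
  constructor
  · intro htop
    rw [Subgroup.subgroupOf_eq_top] at htop
    obtain ⟨x, hx⟩ := exists_point f a ha hf (⟨0, by omega⟩ : Fin b)
    obtain ⟨y, hy⟩ := exists_point f a ha hf (⟨1, by omega⟩ : Fin b)
    have hne : f x ≠ f y := by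
      rw [hx, hy]; intro h; have := congrArg Fin.val h; simp at this
    obtain ⟨x', hx'x, hfx'⟩ := exists_partner f a ha hf x
    have hx'y : x' ≠ y := fun h => hne (by rw [← hfx', h])
    have hxy : x ≠ y := fun h => hne (by rw [h])
    have h3 : (Equiv.swap x y * Equiv.swap x x').IsThreeCycle :=
      Equiv.Perm.isThreeCycle_swap_mul_swap_same hxy (Ne.symm hx'x) (Ne.symm hx'y)
    have hmem : Equiv.swap x y * Equiv.swap x x' ∈ W f :=
      (Subgroup.mem_inf.1 (htop h3.mem_alternatingGroup)).1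
    have h1 := (hmem x x').1 hfx'.symm
    rw [Equiv.Perm.mul_apply, Equiv.Perm.mul_apply, Equiv.swap_apply_left,
      Equiv.swap_apply_right, Equiv.swap_apply_of_ne_of_ne hx'x hx'y,
      Equiv.swap_apply_left] at h1
    exact hne (by rw [← hfx', h1])
  · intro K' hK'
    have hKA : K'.map (alternatingGroup Ω).subtype ≤ alternatingGroup Ω :=
      Subgroup.map_subtype_le K'
    have hlt : W f ⊓ alternatingGroup Ω < K'.map (alternatingGroup Ω).subtype := by
      have h1 := (Subgroup.map_lt_map_iff_of_injective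
        (Subgroup.subtype_injective (alternatingGroup Ω))).2 hK'
      rwa [Subgroup.map_subgroupOf_eq_of_le inf_le_right] at h1
    have hAK := alt_le_of_lt f h8 a ha hb hf _ hlt hKA
    rw [eq_top_iff]
    rintro ⟨g, hg⟩ -
    obtain ⟨y, hy, hyg⟩ := Subgroup.mem_map.1 (hAK hg)
    have : y = ⟨g, hg⟩ := Subtype.ext hyg
    rw [← this]
    exact hy

end Cfsg.Agent.S5909
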