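import Mathlib
import Cfsg.Statements.S5910
import Cfsg.Agent.S5905

set_option autoImplicit false
open Cfsg

namespace Cfsg.Agent.S5910

open Equiv
open Cfsg.Agent.S5905 (W mem_W closure_eq_W exists_coords)

set_option linter.unusedSectionVars false
set_option linter.unusedVariables false

abbrev B := Fin 2 × Fin 2
abbrev V := B × Fin 2

theorem add_self_V : ∀ v : V, v + v = 0 := by decide

set_option maxRecDepth 100000 in
theorem shear_affine2 : ∀ (π : Perm B) (c : B → Perm (Fin 2)),
    Perm.sign (Equiv.prodShear π c) = 1 → ∀ x y : V,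
      prodShear π c (x + y) + prodShear π c 0 = prodShear π c x + prodShear π c y := by
  decide +kernel

/-- affine permutations of `𝔽₂³`. -/
def AGL : Subgroup (Perm V) where
  carrier := {g | ∀ x y z : V, g (x + y + z) = g x + g y + g z}
  one_mem' := by intro x y z; rfl
  mul_mem' := by
    intro g h hg hh x y z
    change g (h (x + y + z)) = g (h x) + g (h y) + g (h z)
    rw [hh, hg]
  inv_mem' := by
    intro g hg x y z
    apply g.injective
    have e1 : ∀ u, g (g⁻¹ u) = u := fun u => by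
      rw [← Perm.mul_apply, mul_inv_cancel, Perm.one_apply]
    rw [hg, e1, e1, e1, e1]

theorem mem_AGL {g : Perm V} : g ∈ AGL ↔ ∀ x y z : V, g (x + y + z) = g x + g y + g z :=
  Iff.rfl

theorem exists_shear (g : Perm V) (hg : ∀ x y : V, x.1 = y.1 ↔ (g x).1 = (g y).1) :
    ∃ (π : Perm B) (c : B → Perm (Fin 2)), g = prodShear π c := by
  classical
  have hp : Function.Injective (fun i : B => (g (i, 0)).1) := by
    intro i i' h
    exact (hg (i, 0) (i', 0)).2 h
  have hfst : ∀ (i : B) (j : Fin 2), (g (i, j)).1 = (g (i, 0)).1 :=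
    fun i j => (hg (i, j) (i, 0)).1 rfl
  have hc : ∀ i : B, Function.Injective (fun j : Fin 2 => (g (i, j)).2) := by
    intro i j j' h
    have : g (i, j) = g (i, j') := Prod.ext ((hfst i j).trans (hfst i j').symm) h
    exact (Prod.mk.inj (g.injective this)).2
  refine ⟨Equiv.ofBijective _ (Finite.injective_iff_bijective.1 hp),
    fun i => Equiv.ofBijective _ (Finite.injective_iff_bijective.1 (hc i)), ?_⟩
  apply Equiv.ext
  rintro ⟨i, j⟩
  apply Prod.ext
  · exact hfst i j
  · rfl

theorem mem_AGL_of_W (g : Perm V) (hg : ∀ x y : V, x.1 = y.1 ↔ (g x).1 = (g y).1)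
    (hs : Perm.sign g = 1) : g ∈ AGL := by
  obtain ⟨π, c, rfl⟩ := exists_shear g hg
  have h2 := shear_affine2 π c hs
  intro x y z
  have e1 := h2 (x + y) z
  have e2 := h2 x y
  have e0 := add_self_V (prodShear π c 0)
  calc prodShear π c (x + y + z)
      = prodShear π c (x + y + z) + (prodShear π c 0 + prodShear π c 0) := by
        rw [e0, add_zero]
    _ = (prodShear π c (x + y + z) + prodShear π c 0) + prodShear π c 0 :=
        (add_assoc _ _ _).symm
    _ = (prodShear π c (x + y) + prodShear π c 0) + prodShear π c z := by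
        rw [e1]; abel
    _ = prodShear π c x + prodShear π c y + prodShear π c z := by rw [e2]

/-- swap of the last two coordinates. -/
def tV : Perm V where
  toFun v := ((v.1.1, v.2), v.1.2)
  invFun v := ((v.1.1, v.2), v.1.2)
  left_inv := by rintro ⟨⟨a, b⟩, c⟩; rfl
  right_inv := by rintro ⟨⟨a, b⟩, c⟩; rfl

theorem tV_mem : tV ∈ AGL := by
  intro x y z; rfl

theorem tV_sign : Perm.sign tV = 1 := by decide

def sV : Perm V := swap 0 ((1, 0), 0) * swap 0 ((0, 1), 0)

theorem sV_sign : Perm.sign sV = 1 := by decide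

theorem sV_not_mem : sV ∉ AGL := by
  intro h
  exact absurd (h 0 ((1, 0), 0) ((0, 0), 1)) (by decide)

section

variable {Ω : Type*} [Fintype Ω] [DecidableEq Ω] (f : Ω → Fin 4)

theorem W_transport (e4 : Fin 4 ≃ B) (ψ : Ω ≃ V) (hψ : ∀ v, (ψ v).1 = e4 (f v)) (g : Perm Ω)
    (hg : g ∈ W f) (x y : V) : x.1 = y.1 ↔ (ψ.permCongr g x).1 = (ψ.permCongr g y).1 := by
  rw [Equiv.permCongr_apply, Equiv.permCongr_apply, hψ, hψ, e4.injective.eq_iff,
    ← hg (ψ.symm x) (ψ.symm y), ← e4.injective.eq_iff, ← hψ, ← hψ, Equiv.apply_symm_apply,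
    Equiv.apply_symm_apply]

theorem not_coatom (hf : ∀ i : Fin 4, Nat.card {x : Ω // f x = i} = 2) :
    ¬ IsCoatom ((W f ⊓ alternatingGroup Ω).subgroupOf (alternatingGroup Ω)) := by
  obtain ⟨φ, hφ⟩ := exists_coords f 2 hf
  obtain ⟨e4⟩ : Nonempty (Fin 4 ≃ B) := ⟨(finProdFinEquiv (m := 2) (n := 2)).symm⟩
  obtain ⟨ψ, hψ⟩ : ∃ ψ : Ω ≃ V, ∀ v, (ψ v).1 = e4 (f v) :=
    ⟨φ.trans (Equiv.prodCongr e4 (Equiv.refl (Fin 2))), fun v => by
      rw [← hφ v]; rfl⟩
  -- the overgroup
  obtain ⟨K, hK⟩ : ∃ K : Subgroup (Perm Ω),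
      K = (AGL.comap ψ.permCongrHom.toMonoidHom) ⊓ alternatingGroup Ω := ⟨_, rfl⟩
  have hmemK : ∀ g : Perm Ω, g ∈ K ↔ ψ.permCongr g ∈ AGL ∧ Perm.sign g = 1 := by
    intro g
    rw [hK, Subgroup.mem_inf, Subgroup.mem_comap, Perm.mem_alternatingGroup]
    rfl
  have hle : W f ⊓ alternatingGroup Ω ≤ K := by
    intro g hg
    rw [Subgroup.mem_inf, Perm.mem_alternatingGroup] at hg
    rw [hmemK]
    refine ⟨mem_AGL_of_W _ (W_transport f e4 ψ hψ g hg.1) ?_, hg.2⟩
    rw [Perm.sign_permCongr]; exact hg.2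
  -- t
  have hpc : ∀ p : Perm V, ψ.permCongr (ψ.symm.permCongr p) = p := by
    intro p
    have := ψ.permCongr.apply_symm_apply p
    rwa [Equiv.permCongr_symm] at this
  have htK : ψ.symm.permCongr tV ∈ K := by
    rw [hmemK, hpc]
    refine ⟨tV_mem, ?_⟩
    rw [Perm.sign_permCongr]; exact tV_sign
  have htW : ψ.symm.permCongr tV ∉ W f := by
    intro h
    have := W_transport f e4 ψ hψ _ h ((0, 0), 0) ((0, 0), 1)
    rw [hpc] at this
    revert this
    decide
  have hsA : ψ.symm.permCongr sV ∈ alternatingGroup Ω := by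
    rw [Perm.mem_alternatingGroup, Perm.sign_permCongr]; exact sV_sign
  have hsK : ψ.symm.permCongr sV ∉ K := by
    rw [hmemK, hpc]
    exact fun h => sV_not_mem h.1
  intro hco
  have hlt : (W f ⊓ alternatingGroup Ω).subgroupOf (alternatingGroup Ω)
      < K.subgroupOf (alternatingGroup Ω) := by
    rw [lt_iff_le_not_ge]
    constructor
    · intro x hx
      rw [Subgroup.mem_subgroupOf] at hx ⊢
      exact hle hx
    · intro hge
      have htA : ψ.symm.permCongr tV ∈ alternatingGroup Ω := by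
        rw [Perm.mem_alternatingGroup]; exact ((hmemK _).1 htK).2
      have h1 : (⟨_, htA⟩ : alternatingGroup Ω) ∈ K.subgroupOf (alternatingGroup Ω) := by
        rw [Subgroup.mem_subgroupOf]; exact htK
      have h2 := hge h1
      rw [Subgroup.mem_subgroupOf] at h2
      exact htW (Subgroup.mem_inf.1 h2).1
  have h := hco.2 _ hlt
  rw [Subgroup.subgroupOf_eq_top] at h
  exact hsK (h hsA)

end

/-- Let Ω be a set with 8 elements and f : Ω → Fin 4 a labelling whose four fibres all have size 2 (a partition of the 8 points into 4 pairs). Then the group of even permutations preserving this partition, (S₂ ≀ S₄) ∩ A₈, is not a maximal subgroup of the alternating group A₈ (it lies in a subgroup isomorphic to the affine group AGL₃(2)). -/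
theorem result {Ω : Type*} [Fintype Ω] [DecidableEq Ω] (h8 : Fintype.card Ω = 8)
    (f : Ω → Fin 4) (hf : ∀ i : Fin 4, Nat.card {x : Ω // f x = i} = 2) :
    ¬ IsCoatom ((Subgroup.closure {g : Equiv.Perm Ω | ∀ x y : Ω, f x = f y ↔ f (g x) = f (g y)} ⊓ alternatingGroup Ω).subgroupOf (alternatingGroup Ω)) := by
  rw [closure_eq_W]
  exact not_coatom f hf

end Cfsg.Agent.S5910
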