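import Cfsg.Statements.S5911
import Mathlib

set_option autoImplicit false
open Cfsg

namespace Cfsg.Agent.S5911


open Equiv Equiv.Perm

lemma fact_big (k : ℕ) (hk : 3 ≤ k) : 2 ^ k * (k + 1).factorial < (2 * k).factorial := by
  induction k, hk using Nat.le_induction with
  | base => decide
  | succ k hk ih =>
    have e1 : (2 * (k + 1)).factorial = (2 * k + 2) * ((2 * k + 1) * (2 * k).factorial) := by
      have : 2 * (k + 1) = (2 * k + 1) + 1 := by ring
      rw [this, Nat.factorial_succ, Nat.factorial_succ]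
    have e2 : (k + 1 + 1).factorial = (k + 2) * (k + 1).factorial := by
      rw [Nat.factorial_succ]
    rw [e1, e2, pow_succ]
    have h3 : 2 * (k + 2) ≤ (2 * k + 2) * (2 * k + 1) := by nlinarith
    have hpos : 0 < (2 * k).factorial := Nat.factorial_pos _
    calc 2 ^ k * 2 * ((k + 2) * (k + 1).factorial)
        = (2 * (k + 2)) * (2 ^ k * (k + 1).factorial) := by ring
      _ ≤ ((2 * k + 2) * (2 * k + 1)) * (2 ^ k * (k + 1).factorial) :=
          Nat.mul_le_mul_right _ h3
      _ < ((2 * k + 2) * (2 * k + 1)) * (2 * k).factorial := by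
          apply Nat.mul_lt_mul_of_pos_left ih
          positivity
      _ = (2 * k + 2) * ((2 * k + 1) * (2 * k).factorial) := by ring

lemma arith (m k : ℕ) (h6 : m + 2 * (k + 1) ≠ 6)
    (h : (m + 2 * k).factorial = m.factorial * 2 ^ k * (k + 1).factorial) : k = 0 := by
  by_contra hk0
  have hmpos : 0 < m.factorial := Nat.factorial_pos _
  rcases Nat.lt_or_ge k 3 with hk | hk
  · interval_cases k
    · exact hk0 rfl
    · -- k = 1
      have e : (m + 2 * 1).factorial = (m + 2) * ((m + 1) * m.factorial) := by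
        show (m + 1 + 1).factorial = _
        rw [Nat.factorial_succ, Nat.factorial_succ]
      rw [e] at h
      have : (m + 2) * (m + 1) = 4 := by
        have h' : ((m + 2) * (m + 1)) * m.factorial = 4 * m.factorial := by
          rw [show (2:ℕ).factorial = 2 from rfl] at h
          linarith
        exact Nat.eq_of_mul_eq_mul_right hmpos h'
      rcases m with _ | _ | m
      · omega
      · omega
      · nlinarith
    · -- k = 2
      have e : (m + 2 * 2).factorial =
          (m + 4) * ((m + 3) * ((m + 2) * ((m + 1) * m.factorial))) := by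
        show (m + 1 + 1 + 1 + 1).factorial = _
        rw [Nat.factorial_succ, Nat.factorial_succ, Nat.factorial_succ, Nat.factorial_succ]
      rw [e] at h
      have : (m + 4) * (m + 3) * (m + 2) * (m + 1) = 24 := by
        have h' : ((m + 4) * (m + 3) * (m + 2) * (m + 1)) * m.factorial = 24 * m.factorial := by
          rw [show (3:ℕ).factorial = 6 from rfl] at h
          linarith
        exact Nat.eq_of_mul_eq_mul_right hmpos h'
      rcases m with _ | m
      · omega
      · have h1 : 5 ≤ m + 1 + 4 := by omega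
        have h2 : 4 ≤ m + 1 + 3 := by omega
        have h3 : 3 ≤ m + 1 + 2 := by omega
        have h4 : 2 ≤ m + 1 + 1 := by omega
        have : 5 * 4 * 3 * 2 ≤ (m + 1 + 4) * (m + 1 + 3) * (m + 1 + 2) * (m + 1 + 1) := by
          gcongr
        omega
  · have hb := fact_big k hk
    have hdvd : m.factorial * (2 * k).factorial ∣ (m + 2 * k).factorial :=
      Nat.factorial_mul_factorial_dvd_factorial_add m (2 * k)
    have hle := Nat.le_of_dvd (Nat.factorial_pos _) hdvd
    rw [h] at hle
    have : m.factorial * (2 ^ k * (k + 1).factorial) < m.factorial * (2 * k).factorial :=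
      Nat.mul_lt_mul_of_pos_left hb hmpos
    nlinarith



open Equiv Equiv.Perm

lemma card_centralizer_equiv {A B : Type*} [Group A] [Group B] (e : A ≃* B) (s : A) :
    Nat.card (Subgroup.centralizer {s}) = Nat.card (Subgroup.centralizer {e s}) := by
  apply Nat.card_congr
  refine e.toEquiv.subtypeEquiv ?_
  intro g
  simp only [Subgroup.mem_centralizer_singleton_iff, MulEquiv.toEquiv_eq_coe, EquivLike.coe_coe]
  rw [← map_mul, ← map_mul, e.injective.eq_iff]

lemma swap_of_equiv {A B : Type*} [Fintype A] [DecidableEq A] [Fintype B] [DecidableEq B]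
    (hAB : Fintype.card A = Fintype.card B) (h6 : Fintype.card A ≠ 6)
    (e : Perm A ≃* Perm B) (s : Perm A) (hs : s.IsSwap) : (e s).IsSwap := by
  have hc := card_centralizer_equiv e s
  rw [nat_card_centralizer, nat_card_centralizer] at hc
  have hs2 : s.cycleType = {2} := isSwap_iff_cycleType.mp hs
  have ho : orderOf (e s) = 2 := by
    rw [MulEquiv.orderOf_eq]; exact hs.orderOf
  obtain ⟨k, hk⟩ := cycleType_prime_order (σ := e s) (by rw [ho]; exact Nat.prime_two)
  rw [ho] at hk
  have hle := sum_cycleType_le (e s)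
  rw [hk, Multiset.sum_replicate, smul_eq_mul] at hle
  rw [hs2, hk] at hc
  have htf : (Multiset.replicate (k + 1) 2).toFinset = {2} := by
    ext x
    rw [Multiset.mem_toFinset, Multiset.mem_replicate, Finset.mem_singleton]
    constructor
    · rintro ⟨-, h⟩; exact h
    · intro h; exact ⟨Nat.succ_ne_zero k, h⟩
  rw [htf] at hc
  simp only [Multiset.sum_singleton, Multiset.prod_singleton, Multiset.toFinset_singleton,
    Finset.prod_singleton, Multiset.count_singleton_self, Nat.factorial_one, mul_one,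
    Multiset.sum_replicate, smul_eq_mul, Multiset.prod_replicate,
    Multiset.count_replicate_self] at hc
  -- hc : (card A - 2)! * 2 = (card B - (k+1)*2)! * 2^(k+1) * (k+1)!
  obtain ⟨m, hm⟩ : ∃ m, Fintype.card B = m + 2 * (k + 1) := ⟨Fintype.card B - 2 * (k + 1), by omega⟩
  have hk0 : k = 0 := by
    apply arith m k
    · rw [← hm, ← hAB]; exact h6
    · rw [hAB, hm] at hc
      have e1 : m + 2 * (k + 1) - 2 = m + 2 * k := by omega
      have e2 : m + 2 * (k + 1) - (k + 1) * 2 = m := by omega
      rw [e1, e2, pow_succ] at hc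
      have : (m + 2 * k).factorial * 2 = (m.factorial * 2 ^ k * (k + 1).factorial) * 2 := by
        rw [hc]; ring
      exact Nat.eq_of_mul_eq_mul_right (by norm_num) this
  subst hk0
  rw [isSwap_iff_cycleType, hk]
  rfl



open Equiv Equiv.Perm

/-- A swap moving `q0` is `swap q0 (u q0)`. -/
lemma swap_eq_of_moves {B : Type*} [DecidableEq B] (u : Perm B) (hu : u.IsSwap) (q0 : B)
    (h : u q0 ≠ q0) : u = swap q0 (u q0) := by
  obtain ⟨a, b, hab, rfl⟩ := hu
  by_cases h1 : q0 = a
  · subst h1
    rw [swap_apply_left]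
  · by_cases h2 : q0 = b
    · subst h2
      rw [swap_apply_right, swap_comm]
    · exact absurd (swap_apply_of_ne_of_ne h1 h2) h

lemma conj_swap {B : Type*} [DecidableEq B] (g : Perm B) (a b : B) :
    g * swap a b * g⁻¹ = swap (g a) (g b) := (swap_apply_apply g a b).symm

/-- P3: a swap commuting with `swap q0 q1` and moving `q0` equals it. -/
lemma swap_commute_moves {B : Type*} [DecidableEq B] (u : Perm B) (hu : u.IsSwap) (q0 q1 : B)
    (hq : q0 ≠ q1) (hc : u * swap q0 q1 * u⁻¹ = swap q0 q1) (h : u q0 ≠ q0) :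
    u = swap q0 q1 := by
  rw [conj_swap] at hc
  have h1 : swap (u q0) (u q1) q0 = q1 := by rw [hc, swap_apply_left]
  have h2 : u q0 = q1 := by
    by_cases h3 : u q1 = q0
    · rw [h3, swap_apply_right] at h1; exact h1
    · rw [swap_apply_of_ne_of_ne (Ne.symm h) (Ne.symm h3)] at h1
      exact absurd h1 hq
  have := swap_eq_of_moves u hu q0 h
  rw [h2] at this
  exact this

lemma swap_conj_three {A : Type*} [DecidableEq A] (x y c : A) (hxc : x ≠ c) (hyc : y ≠ c)
    (hxy : x ≠ y) : swap x c * swap y c * (swap x c)⁻¹ = swap x y := by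
  rw [conj_swap, swap_apply_of_ne_of_ne hxy.symm hyc, swap_apply_right, swap_comm]

section comb

variable {A B : Type*} [Fintype A] [DecidableEq A] [Fintype B] [DecidableEq B]
  (e : Perm A ≃* Perm B) (hsw : ∀ s : Perm A, s.IsSwap → (e s).IsSwap)
  (q0 : B) (H : Subgroup (Perm A)) (hH : ∀ g, g ∈ H ↔ e g q0 = q0)

include hsw hH in
lemma F1 (x y : A) (hxy : x ≠ y) (hxyH : swap x y ∉ H) (a b : A) (hab : a ≠ b)
    (hax : a ≠ x) (hay : a ≠ y) (hbx : b ≠ x) (hby : b ≠ y) : swap a b ∈ H := by
  rw [hH]
  by_contra hmove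
  have hs' : (e (swap x y)).IsSwap := hsw _ ⟨x, y, hxy, rfl⟩
  have hmove' : e (swap x y) q0 ≠ q0 := fun h => hxyH ((hH _).mpr h)
  have hs'eq := swap_eq_of_moves _ hs' q0 hmove'
  set q1 := e (swap x y) q0 with hq1
  have hu : (e (swap a b)).IsSwap := hsw _ ⟨a, b, hab, rfl⟩
  have hcomm : swap a b * swap x y * (swap a b)⁻¹ = swap x y := by
    rw [conj_swap, swap_apply_of_ne_of_ne hax.symm hbx.symm,
      swap_apply_of_ne_of_ne hay.symm hby.symm]
  have hcomm' : e (swap a b) * swap q0 q1 * (e (swap a b))⁻¹ = swap q0 q1 := by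
    rw [← hs'eq, ← map_inv, ← map_mul, ← map_mul, hcomm]
  have := swap_commute_moves _ hu q0 q1 (Ne.symm hmove') hcomm' hmove
  rw [← hs'eq] at this
  have h2 := e.injective this
  have h3 : swap a b a = swap x y a := by rw [h2]
  rw [swap_apply_left, swap_apply_of_ne_of_ne hax hay] at h3
  exact hab h3.symm

include hsw hH in
lemma F2 (x y : A) (hxy : x ≠ y) (hxyH : swap x y ∉ H) (c : A) (hcx : c ≠ x) (hcy : c ≠ y) :
    swap x c ∈ H ∨ swap y c ∈ H := by
  by_contra hcon
  push Not at hcon
  obtain ⟨h1, h2⟩ := hcon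
  rw [hH] at h1 h2
  have hu : (e (swap x c)).IsSwap := hsw _ ⟨x, c, hcx.symm, rfl⟩
  have hv : (e (swap y c)).IsSwap := hsw _ ⟨y, c, hcy.symm, rfl⟩
  have hueq := swap_eq_of_moves _ hu q0 h1
  have hveq := swap_eq_of_moves _ hv q0 h2
  set u := e (swap x c) with hudef
  set v := e (swap y c) with hvdef
  have hconj : u * v * u⁻¹ = e (swap x y) := by
    rw [hudef, hvdef, ← map_inv, ← map_mul, ← map_mul, swap_conj_three x y c hcx.symm hcy.symm hxy]
  have hmove' : e (swap x y) q0 ≠ q0 := fun h => hxyH ((hH _).mpr h)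
  have hne : u ≠ v := by
    intro huv
    have := e.injective huv
    have h3 : swap x c x = swap y c x := by rw [this]
    rw [swap_apply_left, swap_apply_of_ne_of_ne hxy hcx.symm] at h3
    exact hcx h3
  -- u = swap q0 r, v = swap q0 r'
  have hr : u q0 ≠ v q0 := by
    intro h
    apply hne
    rw [hueq, hveq, h]
  rw [← hconj] at hmove'
  apply hmove'
  rw [hveq, conj_swap]
  apply swap_apply_of_ne_of_ne
  · exact Ne.symm h1
  · intro h
    -- q0 = u (v q0)
    have h4 : u q0 = v q0 := by
      have : u (u (v q0)) = u q0 := by rw [← h]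
      have huu : u (u (v q0)) = v q0 := by
        rw [hueq]
        simp
      rw [huu] at this
      exact this.symm
    exact hr h4

include hsw hH in
lemma sub_main (x y : A) (hxy : x ≠ y) (hxyH : swap x y ∉ H)
    (hall : ∀ c, c ≠ x → c ≠ y → swap x c ∈ H) :
    ∀ a b, a ≠ y → b ≠ y → a ≠ b → swap a b ∈ H := by
  intro a b hay hby hab
  by_cases hax : a = x
  · subst hax
    exact hall b (Ne.symm hab) hby
  · by_cases hbx : b = x
    · subst hbx
      rw [swap_comm]
      exact hall a hab hay
    · exact F1 e hsw q0 H hH x y hxy hxyH a b hab hax hay hbx hby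

include hsw hH in
lemma main_comb (hHtop : H ≠ ⊤) :
    ∃ z : A, ∀ a b, a ≠ z → b ≠ z → a ≠ b → swap a b ∈ H := by
  have hex : ∃ x y : A, x ≠ y ∧ swap x y ∉ H := by
    by_contra hcon
    push Not at hcon
    apply hHtop
    rw [eq_top_iff, ← closure_isSwap, Subgroup.closure_le]
    rintro g ⟨a, b, hab, rfl⟩
    exact hcon a b hab
  obtain ⟨x, y, hxy, hxyH⟩ := hex
  by_cases hcase : ∃ c, c ≠ x ∧ c ≠ y ∧ swap x c ∈ H
  · obtain ⟨c, hcx, hcy, hc⟩ := hcase
    refine ⟨y, sub_main e hsw q0 H hH x y hxy hxyH ?_⟩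
    intro c' hc'x hc'y
    by_cases hcc : c' = c
    · rw [hcc]; exact hc
    · have h1 : swap c c' ∈ H :=
        F1 e hsw q0 H hH x y hxy hxyH c c' (Ne.symm hcc) hcx hcy hc'x hc'y
      have h2 : swap c c' * swap x c * (swap c c')⁻¹ = swap x c' := by
        rw [conj_swap, swap_apply_of_ne_of_ne hcx.symm hc'x.symm, swap_apply_left]
      rw [← h2]
      exact H.mul_mem (H.mul_mem h1 hc) (H.inv_mem h1)
  · push Not at hcase
    have hyx : swap y x ∉ H := by rw [swap_comm]; exact hxyH
    refine ⟨x, sub_main e hsw q0 H hH y x hxy.symm hyx ?_⟩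
    intro c hcy hcx
    rcases F2 e hsw q0 H hH x y hxy hxyH c hcx hcy with h | h
    · exact absurd h (hcase c hcx hcy)
    · exact h

end comb

/-- If `H ≠ ⊤` contains all swaps avoiding `z` then `H` fixes `z`. -/
lemma le_stab {A : Type*} [Fintype A] [DecidableEq A] (H : Subgroup (Perm A)) (z : A)
    (hcard : 3 ≤ Fintype.card A) (hHtop : H ≠ ⊤)
    (hz : ∀ a b, a ≠ z → b ≠ z → a ≠ b → swap a b ∈ H) :
    H ≤ MulAction.stabilizer (Perm A) z := by
  intro h hh
  rw [MulAction.mem_stabilizer_iff, Perm.smul_def]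
  by_contra hne
  set w := h z with hw
  -- all swaps avoiding w are in H
  have hwz : ∀ a b, a ≠ w → b ≠ w → a ≠ b → swap a b ∈ H := by
    intro a b ha hb hab
    have h1 : swap (h⁻¹ a) (h⁻¹ b) ∈ H := by
      apply hz
      · intro h2; apply ha; rw [hw, ← h2]; simp
      · intro h2; apply hb; rw [hw, ← h2]; simp
      · intro h2; exact hab (h⁻¹.injective h2)
    have h2 : h * swap (h⁻¹ a) (h⁻¹ b) * h⁻¹ = swap a b := by
      rw [conj_swap]; simp
    rw [← h2]
    exact H.mul_mem (H.mul_mem hh h1) (H.inv_mem hh)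
  apply hHtop
  rw [eq_top_iff, ← closure_isSwap, Subgroup.closure_le]
  rintro g ⟨a, b, hab, rfl⟩
  -- third point
  obtain ⟨c, hcz, hcw⟩ : ∃ c, c ≠ z ∧ c ≠ w := by
    by_contra hcon
    push Not at hcon
    have : (Finset.univ : Finset A) ⊆ {z, w} := by
      intro c _
      by_cases hc : c = z
      · simp [hc]
      · simp [hcon c hc]
    have := Finset.card_le_card this
    rw [Finset.card_univ] at this
    have h2 : ({z, w} : Finset A).card ≤ 2 := Finset.card_le_two
    omega
  have hzw : swap z w ∈ H := by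
    have h1 : swap z c ∈ H := hwz z c (Ne.symm hne) hcw hcz.symm
    have h2 : swap c w ∈ H := hz c w hcz hne (by exact hcw)
    have h3 : swap z c * swap c w * (swap z c)⁻¹ = swap z w := by
      rw [conj_swap, swap_apply_right, swap_apply_of_ne_of_ne hne hcw.symm]
    rw [← h3]
    exact H.mul_mem (H.mul_mem h1 h2) (H.inv_mem h1)
  show swap a b ∈ H
  by_cases haz : a = z
  · by_cases hbw : b = w
    · rw [haz, hbw]; exact hzw
    · apply hwz a b _ hbw hab
      rw [haz]; exact Ne.symm hne
  · by_cases hbz : b = z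
    · by_cases haw : a = w
      · rw [haw, hbz, swap_comm]; exact hzw
      · apply hwz a b haw _ hab
        rw [hbz]; exact Ne.symm hne
    · exact hz a b haz hbz hab



open Equiv Equiv.Perm

lemma index_stab {Ω : Type*} [Fintype Ω] [DecidableEq Ω] (x : Ω) :
    (MulAction.stabilizer (Equiv.Perm Ω) x).index = Fintype.card Ω := by
  rw [MulAction.index_stabilizer_of_transitive, Nat.card_eq_fintype_card]

lemma eq_of_le_index {G : Type*} [Group G] [Finite G] (H K : Subgroup G) (hle : H ≤ K)
    (hidx : H.index = K.index) : H = K := by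
  have h1 := Subgroup.relIndex_mul_index hle
  rw [hidx] at h1
  have hK : K.index ≠ 0 := Subgroup.index_ne_zero_of_finite
  have h2 : H.relIndex K = 1 := by
    have : H.relIndex K * K.index = 1 * K.index := by rw [h1, one_mul]
    exact Nat.eq_of_mul_eq_mul_right (Nat.pos_of_ne_zero hK) this
  exact le_antisymm hle (Subgroup.relIndex_eq_one.mp h2)

lemma general {Ω : Type*} [Fintype Ω] [DecidableEq Ω] (h6 : Fintype.card Ω ≠ 6)
    (h5 : 5 ≤ Fintype.card Ω)
    (H : Subgroup (Equiv.Perm Ω)) (hH : H.index = Fintype.card Ω) :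
    ∃ x : Ω, H = MulAction.stabilizer (Equiv.Perm Ω) x := by
  classical
  have hHtop : H ≠ ⊤ := by
    intro h
    rw [h, Subgroup.index_top] at hH
    omega
  let Q := Equiv.Perm Ω ⧸ H
  haveI : Fintype Q := Fintype.ofFinite _
  have hQ : Fintype.card Q = Fintype.card Ω := by
    rw [← hH, Subgroup.index_eq_card, Nat.card_eq_fintype_card]
  let ρ : Equiv.Perm Ω →* Equiv.Perm Q := MulAction.toPermHom (Equiv.Perm Ω) Q
  have hker : ρ.ker = ⊥ := by
    rw [← Subgroup.normalCore_eq_ker]
    by_contra hne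
    have hnt : Nontrivial H.normalCore := (Subgroup.nontrivial_iff_ne_bot _).mpr hne
    have hA : alternatingGroup Ω ≤ H.normalCore :=
      Equiv.Perm.alternatingGroup_le_of_normal (by rw [Nat.card_eq_fintype_card]; exact h5) hnt
    have hAH : alternatingGroup Ω ≤ H := hA.trans (Subgroup.normalCore_le H)
    have hdvd := Subgroup.index_dvd_of_le hAH
    have : Nontrivial Ω := Fintype.one_lt_card_iff_nontrivial.mp (by omega)
    rw [alternatingGroup.index_eq_two, hH] at hdvd
    have := Nat.le_of_dvd (by norm_num) hdvd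
    omega
  have hinj : Function.Injective ρ := (MonoidHom.ker_eq_bot_iff ρ).mp hker
  have hbij : Function.Bijective ρ := by
    rw [Fintype.bijective_iff_injective_and_card]
    refine ⟨hinj, ?_⟩
    rw [Fintype.card_perm, Fintype.card_perm, hQ]
  let e : Equiv.Perm Ω ≃* Equiv.Perm Q := MulEquiv.ofBijective ρ hbij
  let q0 : Q := ((1 : Equiv.Perm Ω) : Q)
  have hHe : ∀ g, g ∈ H ↔ e g q0 = q0 := by
    intro g
    have : e g q0 = g • q0 := rfl
    rw [this, ← MulAction.mem_stabilizer_iff, MulAction.stabilizer_quotient]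
  have hsw : ∀ s : Perm Ω, s.IsSwap → (e s).IsSwap :=
    fun s hs => swap_of_equiv hQ.symm h6 e s hs
  obtain ⟨z, hz⟩ := main_comb e hsw q0 H hHe hHtop
  refine ⟨z, ?_⟩
  apply eq_of_le_index
  · exact le_stab H z (by omega) hHtop hz
  · rw [hH, index_stab]



open Equiv Equiv.Perm

/-- generic small lemma -/
lemma small {Ω : Type*} [Fintype Ω] [DecidableEq Ω] (p : ℕ) (hp : p.Prime)
    (hcard : Fintype.card Ω = p + 1) (H : Subgroup (Equiv.Perm Ω)) (c : Equiv.Perm Ω)
    (hc : orderOf c = p)
    (hnorm : ∀ h ∈ H, h * c * h⁻¹ ∈ Subgroup.zpowers c) :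
    ∃ x : Ω, H ≤ MulAction.stabilizer (Equiv.Perm Ω) x := by
  have hp2 := hp.two_le
  obtain ⟨k, hk⟩ := cycleType_prime_order (σ := c) (by rw [hc]; exact hp)
  rw [hc] at hk
  have hsum := sum_cycleType c
  have hle := sum_cycleType_le c
  rw [hk, Multiset.sum_replicate, smul_eq_mul] at hsum hle
  have hk0 : k = 0 := by
    by_contra hk0
    have : 2 * p ≤ (k + 1) * p := Nat.mul_le_mul_right p (by omega)
    omega
  subst hk0
  rw [zero_add, one_mul] at hsum
  -- complement of support is a singleton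
  have hcompl : (c.supportᶜ).card = 1 := by
    rw [Finset.card_compl, ← hsum, hcard]; omega
  obtain ⟨x, hx⟩ := Finset.card_eq_one.mp hcompl
  refine ⟨x, ?_⟩
  intro h hh
  rw [MulAction.mem_stabilizer_iff, Perm.smul_def]
  have hcx : c x = x := by
    have : x ∈ c.supportᶜ := by rw [hx]; simp
    rw [Finset.mem_compl, mem_support, not_not] at this
    exact this
  set c' := h * c * h⁻¹ with hc'
  have hc'o : orderOf c' = p := by
    rw [hc']
    have : h * c * h⁻¹ = MulAut.conj h c := by simp [MulAut.conj_apply]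
    rw [this, MulEquiv.orderOf_eq, hc]
  have hzle : Subgroup.zpowers c' ≤ Subgroup.zpowers c := by
    rw [Subgroup.zpowers_le]; exact hnorm h hh
  have hzeq : Subgroup.zpowers c' = Subgroup.zpowers c := by
    apply Subgroup.eq_of_le_of_card_ge hzle
    rw [Nat.card_zpowers, Nat.card_zpowers, hc, hc'o]
  have hcmem : c ∈ Subgroup.zpowers c' := by
    rw [hzeq]; exact Subgroup.mem_zpowers c
  have hc'fix : c' ∈ MulAction.stabilizer (Equiv.Perm Ω) (h x) := by
    rw [MulAction.mem_stabilizer_iff, Perm.smul_def, hc']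
    simp [hcx]
  have hcfix : c ∈ MulAction.stabilizer (Equiv.Perm Ω) (h x) := by
    have : Subgroup.zpowers c' ≤ MulAction.stabilizer (Equiv.Perm Ω) (h x) := by
      rw [Subgroup.zpowers_le]; exact hc'fix
    exact this hcmem
  rw [MulAction.mem_stabilizer_iff, Perm.smul_def] at hcfix
  have : h x ∈ c.supportᶜ := by
    rw [Finset.mem_compl, mem_support, not_not]; exact hcfix
  rw [hx, Finset.mem_singleton] at this
  exact this

lemma case3 {Ω : Type*} [Fintype Ω] [DecidableEq Ω] (h3 : Fintype.card Ω = 3)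
    (H : Subgroup (Equiv.Perm Ω)) (hH : H.index = Fintype.card Ω) :
    ∃ x : Ω, H ≤ MulAction.stabilizer (Equiv.Perm Ω) x := by
  have hcardH : Nat.card H = 2 := by
    have := H.card_mul_index
    rw [hH, h3, Nat.card_eq_fintype_card (α := Perm Ω), Fintype.card_perm, h3] at this
    have h6 : (3 : ℕ).factorial = 6 := rfl
    omega
  haveI : Fact (Nat.Prime 2) := ⟨Nat.prime_two⟩
  obtain ⟨c, hc⟩ := exists_prime_orderOf_dvd_card' (G := H) 2 (by rw [hcardH])
  have hc' : orderOf (c : Equiv.Perm Ω) = 2 := by rw [Subgroup.orderOf_coe]; exact hc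
  have hzH : Subgroup.zpowers (c : Equiv.Perm Ω) = H := by
    apply Subgroup.eq_of_le_of_card_ge
    · rw [Subgroup.zpowers_le]; exact c.2
    · rw [Nat.card_zpowers, hc', hcardH]
  apply small 2 Nat.prime_two (by rw [h3]) H c hc'
  intro h hh
  rw [hzH]
  exact H.mul_mem (H.mul_mem hh c.2) (H.inv_mem hh)

lemma case4 {Ω : Type*} [Fintype Ω] [DecidableEq Ω] (h4 : Fintype.card Ω = 4)
    (H : Subgroup (Equiv.Perm Ω)) (hH : H.index = Fintype.card Ω) :
    ∃ x : Ω, H ≤ MulAction.stabilizer (Equiv.Perm Ω) x := by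
  have hcardH : Nat.card H = 6 := by
    have := H.card_mul_index
    rw [hH, h4, Nat.card_eq_fintype_card (α := Perm Ω), Fintype.card_perm, h4] at this
    have h24 : (4 : ℕ).factorial = 24 := rfl
    omega
  haveI : Fact (Nat.Prime 3) := ⟨Nat.prime_three⟩
  obtain ⟨c, hc⟩ := exists_prime_orderOf_dvd_card' (G := H) 3 (by rw [hcardH]; norm_num)
  have hc' : orderOf (c : Equiv.Perm Ω) = 3 := by rw [Subgroup.orderOf_coe]; exact hc
  apply small 3 Nat.prime_three (by rw [h4]) H c hc'
  -- zpowers c (inside H) has index 2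
  have hidx : (Subgroup.zpowers c).index = 2 := by
    have := (Subgroup.zpowers c).card_mul_index
    rw [Nat.card_zpowers, hc, hcardH] at this
    omega
  have hn : (Subgroup.zpowers c).Normal := Subgroup.normal_of_index_eq_two hidx
  intro h hh
  have h1 : (⟨h, hh⟩ : H) * c * (⟨h, hh⟩ : H)⁻¹ ∈ Subgroup.zpowers c :=
    hn.conj_mem c (Subgroup.mem_zpowers c) ⟨h, hh⟩
  obtain ⟨j, hj⟩ := Subgroup.mem_zpowers_iff.mp h1
  rw [Subgroup.mem_zpowers_iff]
  refine ⟨j, ?_⟩
  have := congrArg (Subtype.val) hj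
  simpa using this



open Equiv Equiv.Perm


/-- Let Ω be a finite set whose size n is not 6. Then every subgroup of the symmetric group on Ω of index n is the stabilizer of a point. -/
theorem result {Ω : Type*} [Fintype Ω] [DecidableEq Ω] (h6 : Fintype.card Ω ≠ 6)
    (H : Subgroup (Equiv.Perm Ω)) (hH : H.index = Fintype.card Ω) :
    ∃ x : Ω, H = MulAction.stabilizer (Equiv.Perm Ω) x := by
  rcases Nat.lt_or_ge (Fintype.card Ω) 5 with hlt | h5
  · -- small cases: it suffices to find a fixed point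
    suffices hsuff : ∃ x : Ω, H ≤ MulAction.stabilizer (Equiv.Perm Ω) x by
      obtain ⟨x, hx⟩ := hsuff
      refine ⟨x, eq_of_le_index _ _ hx ?_⟩
      rw [hH, index_stab]
    have h0 : Fintype.card Ω ≠ 0 := by
      rw [← hH]; exact Subgroup.index_ne_zero_of_finite
    have hcases : Fintype.card Ω = 1 ∨ Fintype.card Ω = 2 ∨ Fintype.card Ω = 3 ∨
        Fintype.card Ω = 4 := by omega
    rcases hcases with h1 | h2 | h3 | h4
    · have hne : Nonempty Ω := Fintype.card_pos_iff.mp (by omega)
      obtain ⟨x⟩ := hne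
      have hss : Subsingleton Ω := Fintype.card_le_one_iff_subsingleton.mp (by omega)
      refine ⟨x, fun h _ => ?_⟩
      rw [MulAction.mem_stabilizer_iff]
      exact Subsingleton.elim _ _
    · have hne : Nonempty Ω := Fintype.card_pos_iff.mp (by omega)
      obtain ⟨x⟩ := hne
      have hcardH : Nat.card H = 1 := by
        have := H.card_mul_index
        rw [hH, h2, Nat.card_eq_fintype_card (α := Perm Ω), Fintype.card_perm, h2] at this
        have h22 : (2 : ℕ).factorial = 2 := rfl
        omega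
      have : H = ⊥ := Subgroup.eq_bot_of_card_eq H hcardH
      refine ⟨x, ?_⟩
      rw [this]
      exact bot_le
    · exact case3 h3 H hH
    · exact case4 h4 H hH
  · exact general h6 h5 H hH

end Cfsg.Agent.S5911
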