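import Mathlib
import Cfsg.Statements.S5912
import Cfsg.Agent.Lib.Helper10.SymSix

set_option autoImplicit false
open Cfsg

namespace Cfsg.Agent.S5912

open Equiv Cfsg.Agent.Lib.Helper10.SymSix

/-- The symmetric group on a 6-element set Ω has exactly two conjugacy classes of subgroups of index 6: there are two non-conjugate subgroups of index 6 (a point stabilizer and a transitive subgroup isomorphic to S₅), and every subgroup of index 6 is conjugate to one of them. -/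
theorem result {Ω : Type*} [Fintype Ω] [DecidableEq Ω] (h6 : Fintype.card Ω = 6) :
    ∃ H₁ H₂ : Subgroup (Equiv.Perm Ω), H₁.index = 6 ∧ H₂.index = 6 ∧
      (¬ ∃ g : Equiv.Perm Ω, Subgroup.map (MulAut.conj g).toMonoidHom H₁ = H₂) ∧
      ∀ H : Subgroup (Equiv.Perm Ω), H.index = 6 →
        ∃ g : Equiv.Perm Ω, Subgroup.map (MulAut.conj g).toMonoidHom H₁ = H ∨ Subgroup.map (MulAut.conj g).toMonoidHom H₂ = H := by
  obtain ⟨a₀⟩ : Nonempty Ω := by
    rw [← Fintype.card_pos_iff, h6]; norm_num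
  obtain ⟨H₂, hH₂, htr, _⟩ := exists_exotic h6
  have hmove : ∀ c : Ω, ∃ g ∈ H₂, g c ≠ c := by
    intro c
    obtain ⟨d, hd⟩ : ∃ d : Ω, d ≠ c := by
      by_contra h; push Not at h
      have : Fintype.card Ω ≤ 1 := Fintype.card_le_one_iff.2 (fun a b => by rw [h a, h b])
      omega
    obtain ⟨g, hg, hgc⟩ := htr c d
    exact ⟨g, hg, by rw [hgc]; exact hd⟩
  have hno₂ : ∀ a b : Ω, a ≠ b → swap a b ∉ H₂ := by
    intro a b hab hmem
    obtain ⟨c, hc⟩ := eq_stabilizer_of_swap h6 H₂ hH₂ ⟨a, b, hab, hmem⟩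
    obtain ⟨g, hg, hgc⟩ := hmove c
    rw [hc, MulAction.mem_stabilizer_iff, Perm.smul_def] at hg
    exact hgc hg
  refine ⟨MulAction.stabilizer (Perm Ω) a₀, H₂, index_stabilizer_six h6 a₀, hH₂, ?_, ?_⟩
  · rintro ⟨g, hg⟩
    rw [← MulAction.stabilizer_smul_eq_stabilizer_map_conj] at hg
    obtain ⟨h, hh, hhc⟩ := hmove (g • a₀)
    rw [← hg, MulAction.mem_stabilizer_iff, Perm.smul_def] at hh
    exact hhc hh
  · intro H hH
    by_cases hsw : ∃ a b : Ω, a ≠ b ∧ swap a b ∈ H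
    · obtain ⟨c, hc⟩ := eq_stabilizer_of_swap h6 H hH hsw
      refine ⟨swap a₀ c, Or.inl ?_⟩
      rw [← MulAction.stabilizer_smul_eq_stabilizer_map_conj, Perm.smul_def, swap_apply_left, hc]
    · push Not at hsw
      obtain ⟨g, hg⟩ := conj_of_no_swap h6 H H₂ hH hH₂ hsw hno₂
      exact ⟨g, Or.inr hg⟩

end Cfsg.Agent.S5912
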