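import Cfsg.Statements.S5913
-- import your own Cfsg.Agent.* helpers here

set_option autoImplicit false
open Cfsg

namespace Cfsg.Agent.S5913

/-- Let S be a non-abelian simple group and n a natural number. Every normal subgroup N of the direct power S^n (functions Fin n → S) is a subproduct: there is a set T of coordinates such that N consists exactly of the elements whose coordinates outside T are trivial. In particular the minimal normal subgroups of S^n are its n factors. -/
theorem result {S : Type*} [Group S] [IsSimpleGroup S] (hS : ¬ IsMulCommutative S) (n : ℕ)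
    (N : Subgroup (Fin n → S)) [N.Normal] :
    ∃ T : Finset (Fin n), ∀ x : Fin n → S, x ∈ N ↔ ∀ i, i ∉ T → x i = 1 := by
  classical
  -- every coordinate subgroup on which `N` is not trivial is contained in `N`
  have key : ∀ i : Fin n, (∃ y ∈ N, y i ≠ 1) → ∀ s : S, Pi.mulSingle i s ∈ N := by
    rintro i ⟨y, hyN, hyi⟩
    let A : Subgroup S := N.comap (MonoidHom.mulSingle (fun _ : Fin n => S) i)
    have hAn : A.Normal := inferInstance
    -- `y i` is not central
    have hnc : ∃ t : S, t * y i ≠ y i * t := by
      by_contra hall
      push_neg at hall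
      have hc : y i ∈ Subgroup.center S := by
        rw [Subgroup.mem_center_iff]
        exact hall
      rcases (Subgroup.Normal.eq_bot_or_eq_top (inferInstance : (Subgroup.center S).Normal)) with h0 | h0
      · rw [h0, Subgroup.mem_bot] at hc
        exact hyi hc
      · apply hS
        refine ⟨⟨fun a b => ?_⟩⟩
        have : b ∈ Subgroup.center S := by rw [h0]; exact Subgroup.mem_top b
        exact (Subgroup.mem_center_iff.1 this) a
    obtain ⟨t, ht⟩ := hnc
    have hc : Pi.mulSingle i t * y * (Pi.mulSingle i t)⁻¹ * y⁻¹ ∈ N :=
      N.mul_mem (‹N.Normal›.conj_mem y hyN _) (N.inv_mem hyN)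
    have hceq : Pi.mulSingle i t * y * (Pi.mulSingle i t)⁻¹ * y⁻¹ =
        Pi.mulSingle i (t * y i * t⁻¹ * (y i)⁻¹) := by
      funext j
      by_cases hj : j = i
      · subst hj
        simp
      · simp [hj]
    rw [hceq] at hc
    have hne : t * y i * t⁻¹ * (y i)⁻¹ ≠ 1 := by
      intro h1
      apply ht
      have h2 : t * y i * t⁻¹ = y i := mul_inv_eq_one.1 h1
      calc t * y i = t * y i * t⁻¹ * t := by group
        _ = y i * t := by rw [h2]
    have hA : A ≠ ⊥ := by
      intro hb
      have : t * y i * t⁻¹ * (y i)⁻¹ ∈ A := hc
      rw [hb, Subgroup.mem_bot] at this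
      exact hne this
    have hAtop : A = ⊤ := (Subgroup.Normal.eq_bot_or_eq_top hAn).resolve_left hA
    intro s
    have : s ∈ A := by rw [hAtop]; exact Subgroup.mem_top s
    exact this
  refine ⟨Finset.univ.filter (fun i => ∃ y ∈ N, y i ≠ 1), fun x => ⟨?_, ?_⟩⟩
  · intro hx i hi
    by_contra hxi
    apply hi
    rw [Finset.mem_filter]
    exact ⟨Finset.mem_univ _, x, hx, hxi⟩
  · intro hx
    rw [← Finset.noncommProd_mulSingle x]
    apply Subgroup.noncommProd_mem
    intro i _
    by_cases hi : ∃ y ∈ N, y i ≠ 1
    · exact key i hi (x i)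
    · have : x i = 1 := by
        apply hx
        rw [Finset.mem_filter]
        exact fun h => hi h.2
      rw [this, Pi.mulSingle_one]
      exact N.one_mem

end Cfsg.Agent.S5913
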