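import Cfsg.Statements.S5914
import Cfsg.Agent.Lib.Helper10.MinimalNormal
import Cfsg.Agent.Lib.Helper10.CharSimple

set_option autoImplicit false
open Cfsg

namespace Cfsg.Agent.S5914

/-- A non-trivial finite group G is characteristically simple (its only characteristic subgroups are 1 and G) if and only if G is isomorphic to a direct power S^n (n ≥ 1) of some simple group S (possibly cyclic of prime order). -/
theorem result {G : Type*} [Group G] [Finite G] [Nontrivial G] :
    (∀ H : Subgroup G, H.Characteristic → H = ⊥ ∨ H = ⊤) ↔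
    ∃ (S : Type) (_ : Group S) (_ : IsSimpleGroup S) (n : ℕ), 1 ≤ n ∧ Nonempty (G ≃* (Fin n → S)) := by
  classical
  constructor
  · intro hchar
    -- the holomorph of `G`
    let Hol := G ⋊[MonoidHom.id (MulAut G)] MulAut G
    haveI : Finite Hol := by
      have : Nat.card Hol ≠ 0 := by
        rw [SemidirectProduct.card]
        exact Nat.mul_ne_zero Nat.card_pos.ne' Nat.card_pos.ne'
      exact Nat.finite_of_card_ne_zero this
    let N : Subgroup Hol := (SemidirectProduct.inl : G →* Hol).range
    haveI hNn : N.Normal := by
      show (SemidirectProduct.inl : G →* Hol).range.Normal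
      rw [SemidirectProduct.range_inl_eq_ker_rightHom]
      infer_instance
    have hN : N ≠ ⊥ := by
      intro h
      obtain ⟨g, hg⟩ := exists_ne (1 : G)
      have : (SemidirectProduct.inl g : Hol) ∈ N := ⟨g, rfl⟩
      rw [h, Subgroup.mem_bot] at this
      exact hg (SemidirectProduct.inl_injective (by rw [this, map_one]))
    have hmin : ∀ M : Subgroup Hol, M.Normal → M ≤ N → M = ⊥ ∨ M = N := by
      intro M hMn hMN
      let M₀ : Subgroup G := M.comap (SemidirectProduct.inl : G →* Hol)
      have hM₀ : M₀.Characteristic := by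
        rw [Subgroup.characteristic_iff_le_comap]
        intro φ x hx
        show (SemidirectProduct.inl (φ x) : Hol) ∈ M
        have h1 : (SemidirectProduct.inl (φ x) : Hol) =
            SemidirectProduct.inr φ * SemidirectProduct.inl x * SemidirectProduct.inr φ⁻¹ :=
          SemidirectProduct.inl_aut (φ := MonoidHom.id (MulAut G)) φ x
        rw [h1, map_inv]
        exact hMn.conj_mem _ hx _
      rcases hchar M₀ hM₀ with h0 | h0
      · left
        rw [Subgroup.eq_bot_iff_forall]
        intro m hm
        obtain ⟨g, rfl⟩ := hMN hm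
        have : g ∈ M₀ := hm
        rw [h0, Subgroup.mem_bot] at this
        rw [this, map_one]
      · right
        apply le_antisymm hMN
        rintro _ ⟨g, rfl⟩
        have : g ∈ M₀ := by rw [h0]; exact Subgroup.mem_top g
        exact this
    obtain ⟨T, hTg, m, hTs, hm, ⟨e⟩⟩ := Cfsg.Agent.Lib.Helper10.minimal_normal_iso_pow N hN hmin
    have e0 : G ≃* N := MonoidHom.ofInjective SemidirectProduct.inl_injective
    exact ⟨T, hTg, hTs, m, hm, ⟨e0.trans e⟩⟩
  · rintro ⟨S, hSg, hSs, n, hn, ⟨e⟩⟩ H hH
    let K : Subgroup (Fin n → S) := H.comap e.symm.toMonoidHom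
    have hinv : ∀ ψ : (Fin n → S) ≃* (Fin n → S), ∀ y ∈ K, ψ y ∈ K := by
      intro ψ y hy
      let φ : G ≃* G := (e.trans ψ).trans e.symm
      have h1 := hH.fixed φ
      have h2 : e.symm y ∈ H.comap φ.toMonoidHom := by rw [h1]; exact hy
      have h3 : φ (e.symm y) ∈ H := h2
      have h4 : φ (e.symm y) = e.symm (ψ y) := by
        show e.symm (ψ (e (e.symm y))) = _
        rw [MulEquiv.apply_symm_apply]
      rw [h4] at h3
      exact h3
    rcases Cfsg.Agent.Lib.Helper10.char_subgroup_pow n K hinv with h0 | h0
    · left
      rw [Subgroup.eq_bot_iff_forall]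
      intro x hx
      have : e x ∈ K := by
        show e.symm (e x) ∈ H
        rw [MulEquiv.symm_apply_apply]; exact hx
      rw [h0, Subgroup.mem_bot] at this
      exact (MulEquiv.map_eq_one_iff e).1 this
    · right
      rw [eq_top_iff]
      intro x _
      have : e x ∈ K := by rw [h0]; exact Subgroup.mem_top _
      have h5 : e.symm (e x) ∈ H := this
      rwa [MulEquiv.symm_apply_apply] at h5

end Cfsg.Agent.S5914
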