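import Mathlib
import Cfsg.Statements.S5939
import Cfsg.Agent.Lib.Helper16.DkMax2
import Cfsg.Agent.S0802
import Cfsg.Agent.S0803
import Cfsg.Agent.S0804
import Cfsg.Agent.S0799

set_option autoImplicit false
set_option maxHeartbeats 1000000
open Cfsg

namespace Cfsg.Agent.S5939

open Cfsg.Agent.Lib.Helper16.DkMax

local notation "PSL2" => Matrix.ProjectiveSpecialLinearGroup (Fin 2)

theorem not_five_dvd (p : ℕ) (h5 : p % 5 = 2 ∨ p % 5 = 3) : ¬ 5 ∣ p * (p ^ 2 - 1) := by
  intro h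
  have hsq : p ^ 2 % 5 = 4 := by
    rw [Nat.pow_mod]; rcases h5 with h' | h' <;> rw [h']
  rcases (Nat.Prime.dvd_mul Nat.prime_five).mp h with h' | h'
  · omega
  · have hpos : 1 ≤ p ^ 2 := Nat.one_le_pow _ _ (by omega)
    omega

theorem result {F : Type*} [Field F] [Fintype F] (p : ℕ) [Fact p.Prime] [CharP F p] (h : (Fintype.card F = p ∧ (p % 10 = 1 ∨ p % 10 = 9)) ∨ (Fintype.card F = p ^ 2 ∧ (p % 10 = 3 ∨ p % 10 = 7))) : ∃ H : Subgroup (Matrix.ProjectiveSpecialLinearGroup (Fin 2) F), IsCoatom H ∧ Nonempty (H ≃* alternatingGroup (Fin 5)) := by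
  classical
  have hpp : p.Prime := Fact.out
  rcases h with ⟨hF, hmod⟩ | ⟨hF, hmod⟩
  · have hp9 : 9 ≤ p := by
      have := hpp.two_le
      rcases hmod with h | h <;> omega
    have hp2 : p ≠ 2 := by omega
    have hodd : Odd (Fintype.card F) := by rw [hF]; exact hpp.odd_of_ne_two hp2
    have hsq5 : p ^ 2 % 5 = 1 := by
      have h5 : p % 5 = 1 ∨ p % 5 = 4 := by omega
      rw [Nat.pow_mod]; rcases h5 with h | h <;> rw [h]
    have hdvd : 5 ∣ p * (p ^ 2 - 1) := by
      apply Dvd.dvd.mul_left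
      have hpos : 1 ≤ p ^ 2 := Nat.one_le_pow _ _ hpp.pos
      omega
    obtain ⟨H, ⟨e⟩⟩ := (Cfsg.Agent.S0804.result hF).mpr hdvd
    refine ⟨H, ?_, ⟨e⟩⟩
    have hHpair : HasPair H :=
      HasPair.of_injective e.symm.toMonoidHom e.symm.injective hasPair_A5
    have hHcard : Nat.card H = 60 := by rw [Nat.card_congr e.toEquiv, card_A5]
    have hG := two_mul_card_PSL2 (K := F) hodd
    rw [hF] at hG
    have hGbig : 720 ≤ p * (p ^ 2 - 1) := by
      have : 9 * (9 ^ 2 - 1) ≤ p * (p ^ 2 - 1) :=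
        Nat.mul_le_mul hp9 (Nat.sub_le_sub_right (Nat.pow_le_pow_left hp9 2) 1)
      simpa using this
    refine ⟨?_, fun M hlt => ?_⟩
    · intro h
      have := (Subgroup.card_eq_iff_eq_top H).mpr h
      omega
    · obtain ⟨hcl, hcd⟩ := card_lt_of_lt hlt
      rcases reduce p hp2 H M hlt.le hHpair (Cfsg.Agent.S0799.result hF p M) with
        ⟨⟨e'⟩⟩ | ⟨⟨e'⟩⟩ | ⟨⟨e'⟩⟩ | ⟨K, _, _, m, hKm, hiso⟩
      · rw [Nat.card_congr e'.toEquiv, card_A4] at hcl; omega
      · rw [Nat.card_congr e'.toEquiv, card_S4] at hcl; omega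
      · rw [Nat.card_congr e'.toEquiv, card_A5] at hcl; omega
      · have hK : Fintype.card K = Fintype.card F := by
          rw [hF]; exact (hpp.pow_eq_iff.mp hKm).1
        rcases hiso with ⟨⟨e'⟩⟩ | ⟨⟨e'⟩⟩
        · exact eq_top_of_iso_PSL2 hodd hK M e'
        · exact (false_of_iso_PGL2 hodd hK M e').elim
  · have hp3 : 3 ≤ p := by
      rcases hmod with h | h <;> omega
    have hp2 : p ≠ 2 := by omega
    have hoddp : Odd p := hpp.odd_of_ne_two hp2
    have hodd : Odd (Fintype.card F) := by rw [hF]; exact hoddp.pow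
    have h5 : p % 5 = 2 ∨ p % 5 = 3 := by omega
    have hn5 := not_five_dvd p h5
    have hsq5 : p ^ 2 % 5 = 4 := by
      rw [Nat.pow_mod]; rcases h5 with h | h <;> rw [h]
    have hq5 : (p ^ 2) ^ 2 % 5 = 1 := by
      rw [Nat.pow_mod, hsq5]
    have hdvd : 5 ∣ p ^ 2 * ((p ^ 2) ^ 2 - 1) := by
      apply Dvd.dvd.mul_left
      have hpos : 1 ≤ (p ^ 2) ^ 2 := Nat.one_le_pow _ _ (pow_pos hpp.pos 2)
      omega
    obtain ⟨H, ⟨e⟩⟩ := (Cfsg.Agent.S0804.result hF).mpr hdvd
    refine ⟨H, ?_, ⟨e⟩⟩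
    have hHpair : HasPair H :=
      HasPair.of_injective e.symm.toMonoidHom e.symm.injective hasPair_A5
    have hHcard : Nat.card H = 60 := by rw [Nat.card_congr e.toEquiv, card_A5]
    have hG := two_mul_card_PSL2 (K := F) hodd
    rw [hF] at hG
    have hp29 : 9 ≤ p ^ 2 := by
      have := Nat.pow_le_pow_left hp3 2
      simpa using this
    have hGbig : 720 ≤ p ^ 2 * ((p ^ 2) ^ 2 - 1) := by
      have : 9 * (9 ^ 2 - 1) ≤ p ^ 2 * ((p ^ 2) ^ 2 - 1) :=
        Nat.mul_le_mul hp29 (Nat.sub_le_sub_right (Nat.pow_le_pow_left hp29 2) 1)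
      simpa using this
    refine ⟨?_, fun M hlt => ?_⟩
    · intro h
      have := (Subgroup.card_eq_iff_eq_top H).mpr h
      omega
    · obtain ⟨hcl, hcd⟩ := card_lt_of_lt hlt
      rcases reduce p hp2 H M hlt.le hHpair (Cfsg.Agent.S0799.result hF p M) with
        ⟨⟨e'⟩⟩ | ⟨⟨e'⟩⟩ | ⟨⟨e'⟩⟩ | ⟨K, _, _, m, hKm, hiso⟩
      · rw [Nat.card_congr e'.toEquiv, card_A4] at hcl; omega
      · rw [Nat.card_congr e'.toEquiv, card_S4] at hcl; omega
      · rw [Nat.card_congr e'.toEquiv, card_A5] at hcl; omega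
      · have hm0 : m ≠ 0 := by
          rintro rfl
          rw [pow_zero] at hKm
          omega
        have hdiv : Fintype.card K ∣ p ^ 2 := by
          rw [← hKm]; exact dvd_pow_self _ hm0
        obtain ⟨j, hj, hKj⟩ := (Nat.dvd_prime_pow hpp).mp hdiv
        have hK1 : 1 < Fintype.card K := Fintype.one_lt_card
        interval_cases j
        · rw [pow_zero] at hKj; omega
        · rw [pow_one] at hKj
          exfalso
          have hKodd : Odd (Fintype.card K) := by rw [hKj]; exact hoddp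
          have h60 : 5 ∣ Nat.card M := by
            rw [hHcard] at hcd
            exact Dvd.dvd.trans (by norm_num) hcd
          rcases hiso with ⟨⟨e'⟩⟩ | ⟨⟨e'⟩⟩
          · have h1 := two_mul_card_PSL2 (K := K) hKodd
            rw [hKj, ← Nat.card_congr e'.toEquiv] at h1
            apply hn5
            rw [← h1]
            exact Dvd.dvd.mul_left h60 2
          · have h1 := card_PGL2_eq (K := K)
            rw [hKj, ← Nat.card_congr e'.toEquiv] at h1
            apply hn5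
            rw [← h1]
            exact h60
        · have hK : Fintype.card K = Fintype.card F := by rw [hF]; exact hKj
          rcases hiso with ⟨⟨e'⟩⟩ | ⟨⟨e'⟩⟩
          · exact eq_top_of_iso_PSL2 hodd hK M e'
          · exact (false_of_iso_PGL2 hodd hK M e').elim

end Cfsg.Agent.S5939
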