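import Cfsg.Statements.S5941
import Mathlib
import Cfsg.Agent.S0799
import Cfsg.Agent.Lib.Helper14.DkSub5

set_option autoImplicit false
open Cfsg

namespace Cfsg.Agent.S5941

/-- Let K and F be finite fields of odd characteristic with #F = (#K)². Then PSL_2(F) has a maximal subgroup isomorphic to PGL_2(K). -/
theorem result {F K : Type*} [Field F] [Fintype F] [Field K] [Fintype K] (q : ℕ) (hK : Fintype.card K = q) (hF : Fintype.card F = q ^ 2) (hq : Odd q) : ∃ H : Subgroup (Matrix.ProjectiveSpecialLinearGroup (Fin 2) F), IsCoatom H ∧ Nonempty (H ≃* Matrix.ProjGenLinGroup (Fin 2) K) := by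
  classical
  have hFK : Fintype.card F = Fintype.card K ^ 2 := by rw [hF, hK]
  have hq1 : 2 ≤ q := by rw [← hK]; exact Fintype.one_lt_card
  have hq3 : 3 ≤ q := by
    obtain ⟨c, hc⟩ := hq
    omega
  obtain ⟨p, hp⟩ := CharP.exists F
  haveI := hp
  haveI : Fact p.Prime := ⟨CharP.char_is_prime F p⟩
  have hoddF : Odd (q ^ 2) := hq.pow
  obtain ⟨H, ⟨e⟩⟩ := (Cfsg.Agent.S0805.result (F := F) (K := K) (q := q ^ 2) hF hoddF 2
    (by norm_num) (by rw [hK])).2.mpr (by decide)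
  have hH : Nat.card H = Cfsg.Agent.Lib.Helper14.DkSub.NN q := by
    rw [Nat.card_congr e.toEquiv, Cfsg.Agent.Lib.Helper14.DkSub.card_PGL2_eq, hK]
  have hD : ∀ M : Subgroup (Matrix.ProjectiveSpecialLinearGroup (Fin 2) F),
      Cfsg.Agent.Lib.Helper1.DkMinIndex.Concl (Fintype.card F) p M :=
    fun M => Cfsg.Agent.S0799.result rfl p M
  exact ⟨H, Cfsg.Agent.Lib.Helper14.DkSub.coatom_of_card_eq_NN p q hq hq3 hF hD H hH, ⟨e⟩⟩

end Cfsg.Agent.S5941
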