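import Cfsg.Statements.S5942
import Mathlib
import Cfsg.Agent.S0799
import Cfsg.Agent.Lib.Helper14.DkSub4

set_option autoImplicit false
open Cfsg

namespace Cfsg.Agent.S5942

/-- Let K and F be finite fields of odd characteristic with #F = (#K)^r for an odd prime r. Then PSL_2(F) has a maximal subgroup isomorphic to PSL_2(K). -/
theorem result {F K : Type*} [Field F] [Fintype F] [Field K] [Fintype K] (q r : ℕ) (hK : Fintype.card K = q) (hF : Fintype.card F = q ^ r) (hq : Odd q) (hr : r.Prime) (hr2 : r ≠ 2) : ∃ H : Subgroup (Matrix.ProjectiveSpecialLinearGroup (Fin 2) F), IsCoatom H ∧ Nonempty (H ≃* Matrix.ProjectiveSpecialLinearGroup (Fin 2) K) := by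
  classical
  have hFK : Fintype.card F = Fintype.card K ^ r := by rw [hF, hK]
  obtain ⟨ι⟩ := Cfsg.Agent.S0805.exists_ringHom (F := F) (K := K) r hFK.symm
  have hq1 : 2 ≤ q := by rw [← hK]; exact Fintype.one_lt_card
  by_cases h4 : 4 ≤ Fintype.card K
  · obtain ⟨p, hp⟩ := CharP.exists K
    haveI := hp
    haveI : Fact p.Prime := ⟨CharP.char_is_prime K p⟩
    haveI : CharP F p := charP_of_injective_ringHom ι.injective p
    have hD : ∀ M : Subgroup (Matrix.ProjectiveSpecialLinearGroup (Fin 2) F),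
        Cfsg.Agent.Lib.Helper1.DkMinIndex.Concl (Fintype.card F) p M :=
      fun M => Cfsg.Agent.S0799.result rfl p M
    exact ⟨(Cfsg.Agent.S0805.pslMap ι).range,
      Cfsg.Agent.Lib.Helper14.DkSub.subfield_coatom ι p r hr hFK h4 (fun _ => hr2) hD,
      ⟨(MonoidHom.ofInjective (Cfsg.Agent.S0805.pslMap_injective ι)).symm⟩⟩
  · have hK3 : Fintype.card K = 3 := by
      rw [hK] at h4 ⊢
      obtain ⟨c, hc⟩ := hq
      omega
    haveI : Fact (Nat.Prime 3) := ⟨Nat.prime_three⟩
    haveI : CharP K 3 := charP_of_card_eq_prime hK3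
    haveI : CharP F 3 := charP_of_injective_ringHom ι.injective 3
    have hD : ∀ M : Subgroup (Matrix.ProjectiveSpecialLinearGroup (Fin 2) F),
        Cfsg.Agent.Lib.Helper1.DkMinIndex.Concl (Fintype.card F) 3 M :=
      fun M => Cfsg.Agent.S0799.result rfl 3 M
    exact ⟨(Cfsg.Agent.S0805.pslMap ι).range,
      Cfsg.Agent.Lib.Helper14.DkSub.subfield_coatom_three ι r hr hr2 hK3 hFK hD,
      ⟨(MonoidHom.ofInjective (Cfsg.Agent.S0805.pslMap_injective ι)).symm⟩⟩

end Cfsg.Agent.S5942
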