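import Cfsg.Statements.S5943
import Mathlib
import Cfsg.Agent.S0799
import Cfsg.Agent.Lib.Helper14.DkSub3

set_option autoImplicit false
open Cfsg

namespace Cfsg.Agent.S5943

/-- Let K and F be finite fields of characteristic 2 with #K = q > 2 and #F = q^r for a prime r. Then PSL_2(F) has a maximal subgroup isomorphic to PSL_2(K) (which equals PGL_2(K) in characteristic 2). -/
theorem result {F K : Type*} [Field F] [Fintype F] [Field K] [Fintype K] (q r : ℕ) (hK : Fintype.card K = q) (hF : Fintype.card F = q ^ r) (hq : Even q) (hq2 : q ≠ 2) (hr : r.Prime) : ∃ H : Subgroup (Matrix.ProjectiveSpecialLinearGroup (Fin 2) F), IsCoatom H ∧ Nonempty (H ≃* Matrix.ProjectiveSpecialLinearGroup (Fin 2) K) := by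
  classical
  have hFK : Fintype.card F = Fintype.card K ^ r := by rw [hF, hK]
  obtain ⟨ι⟩ := Cfsg.Agent.S0805.exists_ringHom (F := F) (K := K) r hFK.symm
  obtain ⟨p, hp⟩ := CharP.exists K
  haveI := hp
  haveI : Fact p.Prime := ⟨CharP.char_is_prime K p⟩
  haveI : CharP F p := charP_of_injective_ringHom ι.injective p
  have hq1 : 2 ≤ q := by rw [← hK]; exact Fintype.one_lt_card
  have h4 : 4 ≤ Fintype.card K := by
    rw [hK]
    obtain ⟨c, hc⟩ := hq
    omega
  have hr2 : Odd (Fintype.card K) → r ≠ 2 := by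
    intro ho
    rw [hK] at ho
    exact absurd hq (Nat.not_even_iff_odd.mpr ho)
  have hD : ∀ M : Subgroup (Matrix.ProjectiveSpecialLinearGroup (Fin 2) F),
      Cfsg.Agent.Lib.Helper1.DkMinIndex.Concl (Fintype.card F) p M :=
    fun M => Cfsg.Agent.S0799.result rfl p M
  exact ⟨(Cfsg.Agent.S0805.pslMap ι).range,
    Cfsg.Agent.Lib.Helper14.DkSub.subfield_coatom ι p r hr hFK h4 hr2 hD,
    ⟨(MonoidHom.ofInjective (Cfsg.Agent.S0805.pslMap_injective ι)).symm⟩⟩

end Cfsg.Agent.S5943
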