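import Cfsg.Statements.S5946

set_option autoImplicit false
open Cfsg

namespace Cfsg.Agent.S5946

theorem result {F K : Type*} [Field F] [Fintype F] [Field K] [Fintype K] [Algebra F K] (n : ℕ) (hn : 2 ≤ n) (hdim : Module.finrank F K = n) :
    Subgroup.centralizer (((Units.map ((Algebra.lmul F K : K →ₐ[F] Module.End F K) : K →* Module.End F K)).range : Subgroup (Module.End F K)ˣ) : Set (Module.End F K)ˣ) = (Units.map ((Algebra.lmul F K : K →ₐ[F] Module.End F K) : K →* Module.End F K)).range := by
  apply le_antisymm
  · intro g hg
    rw [Subgroup.mem_centralizer_iff] at hg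
    -- g a = a * g 1
    have key : ∀ a : K, (g : Module.End F K) a = a * (g : Module.End F K) 1 := by
      intro a
      by_cases ha : a = 0
      · subst ha; simp
      · have h := hg (Units.map ((Algebra.lmul F K : K →ₐ[F] Module.End F K) : K →* Module.End F K) (Units.mk0 a ha)) ⟨_, rfl⟩
        have h2 := congrArg (fun u : (Module.End F K)ˣ => (u : Module.End F K) 1) h
        simp only [Units.val_mul, Units.coe_map, Module.End.mul_apply] at h2
        simpa using h2.symm
    have hne : (g : Module.End F K) 1 ≠ 0 := by
      intro h0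
      have h1 : ((g⁻¹ * g : (Module.End F K)ˣ) : Module.End F K) 1 = 1 := by simp
      rw [Units.val_mul, Module.End.mul_apply, h0, map_zero] at h1
      exact zero_ne_one h1
    refine ⟨Units.mk0 _ hne, ?_⟩
    ext a
    simp only [Units.coe_map]
    rw [key a]
    simp [mul_comm]
  · intro g hg
    rw [Subgroup.mem_centralizer_iff]
    rintro h ⟨b, rfl⟩
    obtain ⟨a, rfl⟩ := hg
    rw [← map_mul, ← map_mul, mul_comm]

end Cfsg.Agent.S5946
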