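import Mathlib
import Cfsg.Statements.S5952

set_option autoImplicit false
open Cfsg

namespace Cfsg.Agent.S5952

open Module

section
variable {F V : Type*} [Field F] [AddCommGroup V] [Module F V] [FiniteDimensional F V]

theorem finrank_biSup_of_indep {ι : Type*} [DecidableEq ι] (T : ι → Submodule F V)
    (hT : iSupIndep T) (s : Finset ι) :
    finrank F ↥(⨆ i ∈ s, T i) = ∑ i ∈ s, finrank F ↥(T i) := by
  induction s using Finset.induction_on with
  | empty => simp
  | insert i s hi ih =>
    rw [Finset.iSup_insert, Finset.sum_insert hi, ← ih]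
    have hd : Disjoint (T i) (⨆ j ∈ s, T j) :=
      hT.disjoint_biSup (y := (s : Set ι)) (by simpa using hi)
    have := Submodule.finrank_sup_add_finrank_inf_eq (T i) (⨆ j ∈ s, T j)
    rw [hd.eq_bot, finrank_bot, add_zero] at this
    exact this

theorem finrank_iSup_of_indep {ι : Type*} [Fintype ι] [DecidableEq ι] (T : ι → Submodule F V)
    (hT : iSupIndep T) :
    finrank F ↥(⨆ i, T i) = ∑ i, finrank F ↥(T i) := by
  have := finrank_biSup_of_indep T hT Finset.univ
  have h : (⨆ i ∈ (Finset.univ : Finset ι), T i) = ⨆ i, T i := by simp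
  rw [h] at this
  exact this

theorem exists_le_finrank_eq (S : Submodule F V) (t : ℕ) (ht : t ≤ finrank F ↥S) :
    ∃ W0 : Submodule F V, W0 ≤ S ∧ finrank F ↥W0 = t := by
  let b := Module.finBasis F ↥S
  let v : Fin t → V := fun i => ((b (Fin.castLE ht i) : ↥S) : V)
  have hli : LinearIndependent F v := by
    have h1 : LinearIndependent F (fun i : Fin t => b (Fin.castLE ht i)) :=
      b.linearIndependent.comp _ (Fin.castLE_injective ht)
    exact h1.map' S.subtype (Submodule.ker_subtype S)
  refine ⟨Submodule.span F (Set.range v), ?_, ?_⟩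
  · rw [Submodule.span_le]
    rintro _ ⟨i, rfl⟩
    exact (b (Fin.castLE ht i)).2
  · rw [finrank_span_eq_card hli, Fintype.card_fin]

variable (f : V →ₗ[F] V) {s a : ℕ} (U : Fin s → Submodule F V)

theorem key_dvd (ha : 1 ≤ a) (hUinv : ∀ j, (U j).map f ≤ U j)
    (hUdim : ∀ j, finrank F ↥(U j) = a)
    (hUirr : ∀ j, ∀ W : Submodule F V, W ≤ U j → W.map f ≤ W → W = ⊥ ∨ W = U j) :
    ∀ d : ℕ, ∀ W' : Submodule F V, W' ≤ ⨆ j, U j → W'.map f ≤ W' →
      finrank F ↥(⨆ j, U j) - finrank F ↥W' = d → a ∣ d := by
  intro d
  induction d using Nat.strong_induction_on with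
  | _ d ih =>
    intro W' hW' hinv hd
    by_cases hall : ∀ j, U j ≤ W'
    · have : W' = ⨆ j, U j := le_antisymm hW' (iSup_le hall)
      rw [this, Nat.sub_self] at hd
      rw [← hd]; exact dvd_zero a
    · push Not at hall
      obtain ⟨j, hj⟩ := hall
      have hinf : W' ⊓ U j = ⊥ := by
        rcases hUirr j (W' ⊓ U j) inf_le_right (by
          refine (Submodule.map_inf_le f).trans ?_
          exact inf_le_inf hinv (hUinv j)) with h | h
        · exact h
        · exact absurd (h ▸ inf_le_left : U j ≤ W') hj
      have hfr := Submodule.finrank_sup_add_finrank_inf_eq W' (U j)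
      rw [hinf, finrank_bot, add_zero, hUdim j] at hfr
      have hle : W' ⊔ U j ≤ ⨆ j, U j := sup_le hW' (le_iSup U j)
      have hmono := Submodule.finrank_mono hle
      have hinv' : (W' ⊔ U j).map f ≤ W' ⊔ U j := by
        rw [Submodule.map_sup]
        exact sup_le_sup hinv (hUinv j)
      have h1 := ih (finrank F ↥(⨆ j, U j) - finrank F ↥(W' ⊔ U j)) (by omega)
        (W' ⊔ U j) hle hinv' rfl
      have : d = (finrank F ↥(⨆ j, U j) - finrank F ↥(W' ⊔ U j)) + a := by omega
      rw [this]
      exact (Nat.dvd_add_right h1).2 (dvd_refl a)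

theorem dvd_finrank_of_invariant (ha : 1 ≤ a) (hUinv : ∀ j, (U j).map f ≤ U j)
    (hUdim : ∀ j, finrank F ↥(U j) = a)
    (hUirr : ∀ j, ∀ W : Submodule F V, W ≤ U j → W.map f ≤ W → W = ⊥ ∨ W = U j)
    (W' : Submodule F V) (hW' : W' ≤ ⨆ j, U j) (hinv : W'.map f ≤ W') :
    a ∣ finrank F ↥W' := by
  have h1 := key_dvd f U ha hUinv hUdim hUirr _ W' hW' hinv rfl
  have h2 := key_dvd f U ha hUinv hUdim hUirr _ ⊥ bot_le (by simp) rfl
  rw [finrank_bot, Nat.sub_zero] at h2
  have hmono := Submodule.finrank_mono hW'
  have := (Nat.dvd_sub_iff_right hmono h2).1 h1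
  exact this

end

/-- Which dimensions of invariant subspaces a semisimple linear map has. Let `V` be a finite-dimensional vector space over a field `F` and `f` an invertible semisimple linear map of `V`. Suppose `V` is the internal direct sum of the fixed space `C_V(f)` (the eigenspace for 1) and subspaces `U_1, …, U_s`, each `f`-invariant of dimension `a ≥ 1` on which `f` acts irreducibly (no `f`-invariant subspaces other than 0 and `U_j`). Let `0 < m < dim V` and `ℓ = m mod a`. Then `f` leaves some `m`-dimensional subspace invariant if and only if `dim C_V(f) ≥ m`, or `a ≤ m` and `dim C_V(f) ≥ ℓ`. -/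
theorem result {F V : Type*} [Field F] [AddCommGroup V] [Module F V]
    [FiniteDimensional F V] (f : V →ₗ[F] V) (hf : Function.Bijective f) (hss : Module.End.IsSemisimple f)
    {s a : ℕ} (ha : 1 ≤ a) (U : Fin s → Submodule F V)
    (hUinv : ∀ j, (U j).map f ≤ U j) (hUdim : ∀ j, Module.finrank F ↥(U j) = a)
    (hUirr : ∀ j, ∀ W : Submodule F V, W ≤ U j → W.map f ≤ W → W = ⊥ ∨ W = U j)
    (hdec : DirectSum.IsInternal (fun o : Option (Fin s) => o.elim (Module.End.eigenspace f 1) U))
    (m : ℕ) (hm : 0 < m) (hmV : m < Module.finrank F V) :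
    (∃ W : Submodule F V, Module.finrank F ↥W = m ∧ W.map f ≤ W) ↔
    (m ≤ Module.finrank F ↥(Module.End.eigenspace f 1) ∨
      (a ≤ m ∧ m % a ≤ Module.finrank F ↥(Module.End.eigenspace f 1))) := by
  classical
  set C := Module.End.eigenspace f 1 with hC
  have hCmem : ∀ x, x ∈ C ↔ f x = x := by
    intro x; rw [hC, Module.End.mem_eigenspace_iff, one_smul]
  set A : Option (Fin s) → Submodule F V := fun o => o.elim C U with hA
  have hind : iSupIndep A := hdec.submodule_iSupIndep
  have htop : iSup A = ⊤ := hdec.submodule_iSup_eq_top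
  have htop' : C ⊔ ⨆ j, U j = ⊤ := by rw [← htop, iSup_option]; rfl
  have hdimV : Module.finrank F V = Module.finrank F ↥C + s * a := by
    have h1 := finrank_iSup_of_indep A hind
    rw [htop, finrank_top, Fintype.sum_option] at h1
    have h1' : Module.finrank F V = Module.finrank F ↥C + ∑ j, Module.finrank F ↥(U j) := h1
    rw [h1', Finset.sum_congr rfl (fun j _ => hUdim j), Finset.sum_const, Finset.card_univ,
      Fintype.card_fin, smul_eq_mul]
  constructor
  · rintro ⟨W, hWm, hWinv⟩
    set g : V →ₗ[F] V := f - LinearMap.id with hg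
    have hgC : ∀ x, g x = 0 ↔ x ∈ C := by
      intro x; rw [hCmem, hg]; simp [sub_eq_zero]
    set W' := W.map g with hW'
    have hW'inv : W'.map f ≤ W' := by
      rintro _ ⟨_, ⟨w, hw, rfl⟩, rfl⟩
      refine ⟨f w, hWinv ⟨w, hw, rfl⟩, ?_⟩
      simp [hg]
    have hUsinv : (⨆ j, U j).map f ≤ ⨆ j, U j := by
      rw [Submodule.map_iSup]; exact iSup_mono hUinv
    have hW'U : W' ≤ ⨆ j, U j := by
      rintro _ ⟨w, hw, rfl⟩
      have hw' : w ∈ C ⊔ ⨆ j, U j := by rw [htop']; trivial
      obtain ⟨c, hc, u, hu, rfl⟩ := Submodule.mem_sup.1 hw'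
      rw [map_add, (hgC c).2 hc, zero_add, hg]
      simp only [LinearMap.sub_apply, LinearMap.id_apply]
      exact Submodule.sub_mem _ (hUsinv ⟨u, hu, rfl⟩) hu
    have hdvd := dvd_finrank_of_invariant f U ha hUinv hUdim hUirr W' hW'U hW'inv
    have hrn := LinearMap.finrank_range_add_finrank_ker (g.domRestrict W)
    rw [LinearMap.range_domRestrict, ← hW', hWm] at hrn
    have hker : Module.finrank F ↥(LinearMap.ker (g.domRestrict W)) ≤ Module.finrank F ↥C := by
      let φ : ↥(LinearMap.ker (g.domRestrict W)) →ₗ[F] ↥C :=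
        { toFun := fun x => ⟨x.1.1, (hgC _).1 (show g x.1.1 = 0 from LinearMap.mem_ker.1 x.2)⟩
          map_add' := fun x y => rfl
          map_smul' := fun c x => rfl }
      apply LinearMap.finrank_le_finrank_of_injective (f := φ)
      intro x y hxy
      apply Subtype.ext; apply Subtype.ext
      have h5 := congrArg Subtype.val hxy
      exact h5
    obtain ⟨y, hy⟩ := hdvd
    rcases Nat.eq_zero_or_pos y with rfl | hypos
    · left; omega
    · right
      have hay : a ≤ a * y := Nat.le_mul_of_pos_right a hypos
      refine ⟨by omega, ?_⟩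
      have : m % a = Module.finrank F ↥(LinearMap.ker (g.domRestrict W)) % a := by
        rw [← hrn, hy, Nat.mul_add_mod]
      rw [this]
      exact (Nat.mod_le _ _).trans hker
  · intro h
    have hCinv : ∀ W0 : Submodule F V, W0 ≤ C → W0.map f ≤ W0 := by
      rintro W0 hW0 _ ⟨w, hw, rfl⟩
      rw [(hCmem w).1 (hW0 hw)]; exact hw
    rcases h with h | ⟨ham, hmod⟩
    · obtain ⟨W0, hW0, hW0d⟩ := exists_le_finrank_eq C m h
      exact ⟨W0, hW0d, hCinv W0 hW0⟩
    · set j := min s (m / a) with hj
      have hjs : j ≤ s := min_le_left _ _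
      have hja : j * a ≤ m :=
        le_trans (Nat.mul_le_mul_right a (min_le_right _ _)) (Nat.div_mul_le_self m a)
      have hr : m - j * a ≤ Module.finrank F ↥C := by
        rcases le_total s (m / a) with hsm | hsm
        · rw [hj, min_eq_left hsm]; omega
        · rw [hj, min_eq_right hsm]
          have h3 := Nat.mod_add_div m a
          rw [mul_comm] at h3
          omega
      obtain ⟨W0, hW0, hW0d⟩ := exists_le_finrank_eq C (m - j * a) hr
      set T : Option (Fin s) → Submodule F V :=
        fun o => o.elim W0 (fun i => if i.val < j then U i else ⊥) with hT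
      have hTA : T ≤ A := by
        intro o
        cases o with
        | none => exact hW0
        | some i =>
          show (if i.val < j then U i else ⊥) ≤ U i
          split_ifs
          · exact le_rfl
          · exact bot_le
      have hTind : iSupIndep T := hind.mono hTA
      refine ⟨⨆ o, T o, ?_, ?_⟩
      · rw [finrank_iSup_of_indep T hTind, Fintype.sum_option]
        show Module.finrank F ↥W0 + ∑ i : Fin s, Module.finrank F ↥(if i.val < j then U i else ⊥) = m
        rw [hW0d]
        have hsum : ∑ i : Fin s, Module.finrank F ↥(if i.val < j then U i else ⊥) = j * a := by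
          have h1 : ∀ i : Fin s, Module.finrank F ↥(if i.val < j then U i else (⊥ : Submodule F V))
              = if i.val < j then a else 0 := by
            intro i
            by_cases hij : i.val < j
            · have h7 : (if i.val < j then U i else (⊥ : Submodule F V)) = U i := if_pos hij
              rw [h7, if_pos hij]; exact hUdim i
            · have h7 : (if i.val < j then U i else (⊥ : Submodule F V)) = ⊥ := if_neg hij
              rw [h7, if_neg hij]; exact finrank_bot F V
          rw [Finset.sum_congr rfl (fun i _ => h1 i), Finset.sum_ite, Finset.sum_const,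
            Finset.sum_const_zero, add_zero, smul_eq_mul, Fin.card_filter_val_lt, min_eq_right hjs]
        rw [hsum]; omega
      · rw [Submodule.map_iSup]
        apply iSup_mono
        intro o
        cases o with
        | none => exact hCinv W0 hW0
        | some i =>
          show Submodule.map f (if i.val < j then U i else ⊥) ≤ (if i.val < j then U i else ⊥)
          split_ifs
          · exact hUinv i
          · simp

end Cfsg.Agent.S5952
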