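import Mathlib
import Cfsg.Statements.S5959
import Cfsg.Agent.Lib.Helper10.DecA
import Cfsg.Agent.Lib.Helper10.DecB
import Cfsg.Agent.Lib.Helper10.DecC

set_option autoImplicit false
open scoped MatrixGroups
open Cfsg

namespace Cfsg.Agent.S5959


/-- Elements of order `p` of PSL_n(q) and imprimitive subgroups: a necessary condition. Here `T = PSL_n(F)` for a field `F` with `q = p^f` elements (`n ≥ 2`, `(n, q) ≠ (2, 2), (2, 3)`), `n = a·t` with `t ≥ 2`, and Ω is the set of direct-sum decompositions of `F^n` into `t` subspaces of dimension `a` (unordered; their number is the number of ordered ones divided by `t!`), whose stabilizers are the imprimitive subgroups of type GL_a(q) ≀ S_t (maximal except in some small cases; maximality is not assumed); an element of `T` of prime order `r` (a matrix `x` of determinant 1 with `x^r` scalar, `x` not scalar) fixes a point of Ω when it permutes the summands of some such decomposition. Suppose `p > 2` divides the number of such decompositions. If every element of `T` of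 order `p` stabilizes such a decomposition, then every partition of `n` into parts of size at most `p` in which the part `p` occurs fewer than `a` times contains (as a sub-multiset) a partition of `a`. -/
theorem result {F : Type*} [Field F] [Fintype F] {p : ℕ} [Fact p.Prime] [CharP F p] {q : ℕ} (hq : Fintype.card F = q)
    (n a t : ℕ) (hn : 2 ≤ n) (hT : (n, q) ≠ (2, 2) ∧ (n, q) ≠ (2, 3)) (hat : n = a * t) (ha : 1 ≤ a) (ht : 2 ≤ t)
    (hp : 2 < p) (hΩ : p ∣ Nat.card {D : Fin t → Submodule F (Fin n → F) // Cfsg.Geo.IsMDecomposition a D} / Nat.factorial t)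
    (h : ∀ x : Matrix.SpecialLinearGroup (Fin n) F,
      (∃ z : F, ((x ^ p : Matrix.SpecialLinearGroup (Fin n) F) : Matrix (Fin n) (Fin n) F) = z • (1 : Matrix (Fin n) (Fin n) F)) →
      (∀ z : F, (x : Matrix (Fin n) (Fin n) F) ≠ z • (1 : Matrix (Fin n) (Fin n) F)) →
      ∃ D : Fin t → Submodule F (Fin n → F), Cfsg.Geo.IsMDecomposition a D ∧
        ∃ σ : Equiv.Perm (Fin t), ∀ j, (D j).map (Matrix.toLin' (x : Matrix (Fin n) (Fin n) F)) = D (σ j)) :
    (∀ μ : Multiset ℕ, (∀ b ∈ μ, 0 < b ∧ b ≤ p) → μ.sum = n → μ.count p < a → ∃ ν : Multiset ℕ, ν ≤ μ ∧ ν.sum = a) := by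
  intro μ hμ hsum hcount
  classical
  have hp : p.Prime := Fact.out
  by_cases hone : ∀ b ∈ μ, b ≤ 1
  · refine ⟨Multiset.replicate a 1, ?_, by simp⟩
    have hall : ∀ b ∈ μ, b = 1 := fun b hb => by
      have h1 := hμ b hb
      have h2 := hone b hb
      omega
    have hμ1 : μ = Multiset.replicate (Multiset.card μ) 1 := Multiset.eq_replicate_card.2 hall
    have hcard : Multiset.card μ = n := by
      rw [hμ1] at hsum
      simpa using hsum
    rw [hμ1, hcard, Multiset.replicate_le_replicate, hat]
    exact Nat.le_mul_of_pos_right a (by omega)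
  · push Not at hone
    obtain ⟨b0, hb0, hb0'⟩ := hone
    obtain ⟨N, hN⟩ := Cfsg.Agent.Lib.Helper5.Nil.exists_of_type (F := F) (n := n) μ
      (fun b hb => (hμ b hb).1) hsum
    have hNp : N ^ p = 0 := (hN.pow_eq_zero_iff p).2 (fun b hb => (hμ b hb).2)
    set xm : Matrix (Fin n) (Fin n) F := 1 + N with hxm
    have hn0 : 0 < n := by omega
    have : Nonempty (Fin n) := ⟨⟨0, hn0⟩⟩
    have hxp : xm ^ p = 1 := by
      rw [hxm, add_pow_char_of_commute p (Commute.one_left N), one_pow, hNp, add_zero]
    have hdet : xm.det = 1 := by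
      have h1 : xm.det ^ p = 1 := by rw [← Matrix.det_pow, hxp, Matrix.det_one]
      have h2 : (xm.det - 1) ^ p = 0 := by rw [sub_pow_char, h1, one_pow, sub_self]
      exact sub_eq_zero.1 ((pow_eq_zero_iff hp.ne_zero).1 h2)
    let x : Matrix.SpecialLinearGroup (Fin n) F := ⟨xm, hdet⟩
    have hx1 : ∃ z : F, ((x ^ p : Matrix.SpecialLinearGroup (Fin n) F) : Matrix (Fin n) (Fin n) F)
        = z • (1 : Matrix (Fin n) (Fin n) F) := by
      refine ⟨1, ?_⟩
      rw [Matrix.SpecialLinearGroup.coe_pow, one_smul]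
      exact hxp
    have hx2 : ∀ z : F, (x : Matrix (Fin n) (Fin n) F) ≠ z • (1 : Matrix (Fin n) (Fin n) F) := by
      intro z hz
      have hz' : N = (z - 1) • (1 : Matrix (Fin n) (Fin n) F) := by
        have h0 : xm = z • (1 : Matrix (Fin n) (Fin n) F) := hz
        rw [sub_smul, one_smul, ← h0, hxm, add_sub_cancel_left]
      have h3 : (z - 1) ^ p = 0 := by
        have h4 := hNp
        rw [hz', smul_pow, one_pow] at h4
        have h5 := congrFun (congrFun h4 ⟨0, hn0⟩) ⟨0, hn0⟩
        simpa using h5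
      have h5 : z - 1 = 0 := (pow_eq_zero_iff hp.ne_zero).1 h3
      have hN0 : N ^ 1 = 0 := by rw [pow_one, hz', h5, zero_smul]
      have := (hN.pow_eq_zero_iff 1).1 hN0 b0 hb0
      omega
    obtain ⟨D, hD, σ, hσ⟩ := h x hx1 hx2
    have hσ' : ∀ j, (D j).map (Matrix.toLin' (1 + N)) = D (σ j) := hσ
    have hne : ∀ i, D i ≠ ⊥ := by
      intro i hi
      have := hD.finrank_eq i
      rw [hi, finrank_bot] at this
      omega
    have hfix : ∀ j, σ j = j := by
      intro j
      by_contra hj
      have hdisj := Cfsg.Agent.Lib.Helper10.Dec.disjoint_ker_of_moved N hNp D hD.indep hne σ hσ' j hj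
      have := Cfsg.Agent.Lib.Helper10.Dec.le_count_of_disjoint hN p hp.one_le
        (fun b hb => (hμ b hb).2) (D j) hdisj
      rw [hD.finrank_eq j] at this
      omega
    have hinv : ∀ j, ∀ v ∈ D j, N.mulVec v ∈ D j := by
      intro j v hv
      have h1 : (Matrix.toLin' (1 + N)) v ∈ D j := by
        have : (Matrix.toLin' (1 + N)) v ∈ (D j).map (Matrix.toLin' (1 + N)) := ⟨v, hv, rfl⟩
        rwa [hσ', hfix] at this
      rw [Matrix.toLin'_apply, Matrix.add_mulVec, Matrix.one_mulVec] at h1
      have := (D j).sub_mem h1 hv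
      rwa [add_sub_cancel_left] at this
    let j0 : Fin t := ⟨0, by omega⟩
    let D' : Submodule F (Fin n → F) := ⨆ k, ⨆ (_ : k ≠ j0), D k
    have hc : IsCompl (D j0) D' := by
      refine ⟨hD.indep j0, ?_⟩
      rw [codisjoint_iff, eq_top_iff, ← hD.iSup_eq_top]
      apply iSup_le
      intro k
      by_cases hk : k = j0
      · rw [hk]
        exact le_sup_left
      · exact le_sup_of_le_right (le_iSup₂ (f := fun k (_ : k ≠ j0) => D k) k hk)
    have hinv' : ∀ v ∈ D', N.mulVec v ∈ D' := by
      intro v hv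
      have hle : D' ≤ D'.comap N.mulVecLin := by
        apply iSup₂_le
        intro k hk v hv
        rw [Submodule.mem_comap]
        exact (le_iSup₂ (f := fun k (_ : k ≠ j0) => D k) k hk) (hinv k v hv)
      exact hle hv
    obtain ⟨ν, hν1, hν2⟩ := Cfsg.Agent.Lib.Helper10.Dec.exists_sub_type hN ⟨p, hNp⟩ (D j0) D' hc
      (hinv j0) hinv'
    exact ⟨ν, hν1, by rw [hν2, hD.finrank_eq]⟩

end Cfsg.Agent.S5959
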