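import Mathlib
import Cfsg.Statements.S5964
import Cfsg.Agent.Lib.Helper10.SfA
import Cfsg.Agent.Lib.Helper10.SfB
import Cfsg.Agent.Lib.Helper10.SfC
import Cfsg.Agent.Lib.Helper10.SfD

set_option autoImplicit false
open scoped MatrixGroups
open Cfsg

namespace Cfsg.Agent.S5964


/-- Involutions of PSL_n(q) and subfield subgroups. Here `T = PSL_n(F)` for a field `F` with `q = p^f` elements (`n ≥ 2`, `(n, q) ≠ (2, 2), (2, 3)`), `F₀` is the subfield with `q₀` elements where `q = q₀^k` for a prime `k`, and `H` is the subgroup of matrices of determinant 1 lying in the subfield group of `F₀` (invertible matrices over `F₀` times scalars) — a maximal subgroup of type GL_n(q₀) (the case `n = 2`, `q₀ = 2` is excluded); Ω is the set of `T`-conjugates of `H` (cosets of `H`), so an element of `T` of prime order `r` (a matrix `x` of determinant 1 with `x^r` scalar, `x` not scalar) fixes a point of Ω when some conjugate of `x` by a matrix of determinant 1 lies in `H`. Suppose the index of `H` is even. Then every involution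 of `T` is conjugate in `T` into `H` if and only if either `q` is even, or `k = 2` and `(n)_2 ≤ (q − 1)_2`. (For `q` odd and `k` odd the index of `H` is odd, so that case does not arise.) -/
theorem result {F : Type*} [Field F] [Fintype F] {p : ℕ} [Fact p.Prime] [CharP F p] {q : ℕ} (hq : Fintype.card F = q)
    (n : ℕ) (hn : 2 ≤ n) (hT : (n, q) ≠ (2, 2) ∧ (n, q) ≠ (2, 3))
    (F₀ : Subfield F) (k q₀ : ℕ) (hk : k.Prime) (hF₀ : Nat.card ↥F₀ = q₀) (hqk : q = q₀ ^ k) (hC5 : ¬ (n = 2 ∧ q₀ = 2)) (hΩ : 2 ∣ ((Cfsg.Geo.subfieldSubgroup F₀ 1).comap (Matrix.SpecialLinearGroup.toGL : Matrix.SpecialLinearGroup (Fin n) F →* GL (Fin n) F)).index) :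
    (∀ x : Matrix.SpecialLinearGroup (Fin n) F,
      (∃ z : F, ((x ^ 2 : Matrix.SpecialLinearGroup (Fin n) F) : Matrix (Fin n) (Fin n) F) = z • (1 : Matrix (Fin n) (Fin n) F)) →
      (∀ z : F, (x : Matrix (Fin n) (Fin n) F) ≠ z • (1 : Matrix (Fin n) (Fin n) F)) →
      ∃ P : Matrix.SpecialLinearGroup (Fin n) F, P⁻¹ * x * P ∈ ((Cfsg.Geo.subfieldSubgroup F₀ 1).comap (Matrix.SpecialLinearGroup.toGL : Matrix.SpecialLinearGroup (Fin n) F →* GL (Fin n) F))) ↔
    (Odd q → (k = 2 ∧ padicValNat 2 n ≤ padicValNat 2 (q - 1))) := by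
  subst hq
  have hn1 : 1 ≤ n := by omega
  constructor
  · intro h hoddq
    have hrc : ringChar F ≠ 2 := by
      intro hrc
      have := FiniteField.even_card_of_char_two hrc
      have h3 := Nat.odd_iff.1 hoddq
      omega
    have h2 : (2 : F) ≠ 0 := Ring.two_ne_zero hrc
    by_cases hk2 : k = 2
    · refine ⟨hk2, ?_⟩
      by_contra hlt
      push Not at hlt
      subst hk2
      have hq₀odd : Odd q₀ := by
        rw [hqk] at hoddq
        exact (Nat.odd_pow_iff (by norm_num)).1 hoddq
      have hnev : 2 ∣ n := by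
        by_contra hnd
        rw [padicValNat.eq_zero_of_not_dvd hnd] at hlt
        omega
      obtain ⟨m, hm⟩ := hnev
      have hmm : n = m + m := by omega
      subst hmm
      have hm0 : m ≠ 0 := by omega
      have hlt' : padicValNat 2 (Fintype.card F - 1) < padicValNat 2 (2 * m) := by
        rw [two_mul]
        exact hlt
      obtain ⟨y, hy1, hy2⟩ := Cfsg.Agent.Lib.Helper10.Sf.exists_y h2 m hm0 hlt'
      have hhalf : Even (Fintype.card F / 2) := by
        rw [hqk]
        exact Cfsg.Agent.Lib.Helper10.Sf.even_half q₀ hq₀odd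
      have hy0 : y ≠ 0 := by
        rintro rfl
        rw [zero_pow hm0] at hy1
        exact zero_ne_one hy1
      have hz : ¬ IsSquare (-y) := by
        rw [FiniteField.isSquare_iff hrc (neg_ne_zero.2 hy0), neg_pow, hhalf.neg_one_pow, one_mul,
          hy2]
        intro h5
        apply h2
        linear_combination -h5
      obtain ⟨x, hx⟩ := Cfsg.Agent.Lib.Helper10.Sf.exists_bad m (-y) (by rw [neg_neg]; exact hy1)
      have hns : ∀ c : F, (x : Matrix (Fin (m + m)) (Fin (m + m)) F) ≠
          c • (1 : Matrix (Fin (m + m)) (Fin (m + m)) F) := by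
        intro c hc
        rw [hc, Matrix.smul_mul, Matrix.mul_smul, Matrix.mul_one, smul_smul] at hx
        have e0 := congrFun (congrFun hx ⟨0, by omega⟩) ⟨0, by omega⟩
        rw [Matrix.smul_apply, Matrix.smul_apply, Matrix.one_apply_eq, smul_eq_mul, smul_eq_mul,
          mul_one, mul_one] at e0
        exact hz ⟨c, e0.symm⟩
      obtain ⟨P, hP⟩ := h x ⟨-y, by rw [sq, Matrix.SpecialLinearGroup.coe_mul]; exact hx⟩ hns
      exact Cfsg.Agent.Lib.Helper10.Sf.not_conj_nonsq hn1 F₀
        (Cfsg.Agent.Lib.Helper10.Sf.sq_of_mem h2 F₀ q₀ hF₀ hqk) x (-y) hz hx P hP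
    · exfalso
      have hkodd : Odd k := hk.odd_of_ne_two hk2
      exact Cfsg.Agent.Lib.Helper10.Sf.index_odd hoddq n hn1 F₀ k q₀ hkodd hF₀ hqk hΩ
  · intro hR x hx hns
    obtain ⟨z, hz⟩ := hx
    rw [sq, Matrix.SpecialLinearGroup.coe_mul] at hz
    by_cases hp2 : p = 2
    · subst hp2
      exact Cfsg.Agent.Lib.Helper10.Sf.conj_all_two hn F₀ x z hz
    · have hrc : ringChar F ≠ 2 := by
        rw [ringChar.eq F p]
        exact hp2
      have hodd : Fintype.card F % 2 = 1 := FiniteField.odd_card_of_char_ne_two hrc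
      have h2 : (2 : F) ≠ 0 := Ring.two_ne_zero hrc
      obtain ⟨hk2, hv⟩ := hR (Nat.odd_iff.2 hodd)
      subst hk2
      have hz0 : z ≠ 0 := by
        rintro rfl
        have hdet := congrArg Matrix.det hz
        rw [Matrix.det_mul, x.2, zero_smul] at hdet
        have : Nonempty (Fin n) := ⟨⟨0, by omega⟩⟩
        rw [Matrix.det_zero, mul_one] at hdet
        exact one_ne_zero hdet
      by_cases hsq : IsSquare z
      · obtain ⟨l, hl⟩ := hsq
        have hl0 : l ≠ 0 := by
          rintro rfl
          apply hz0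
          rw [hl, mul_zero]
        rw [hl] at hz
        exact Cfsg.Agent.Lib.Helper10.Sf.conj_square h2 hn1 F₀ x l hl0 hz
      · exfalso
        obtain ⟨m, E, E', hm, h1, h2', h3⟩ :=
          Cfsg.Agent.Lib.Helper10.Ext.plane_frame (x : Matrix (Fin n) (Fin n) F) z hsq hz z 1
            (mul_one z)
        have hdet := Cfsg.Agent.Lib.Helper10.Ext.frame_det x m E E' h1 h2' _ h3
        rw [Cfsg.Agent.Lib.Helper10.Alt.FB_det] at hdet
        simp only [Pi.zero_apply, mul_zero, mul_one, zero_sub, Finset.prod_const,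
          Finset.card_univ, Fintype.card_fin] at hdet
        have hm0 : m ≠ 0 := by omega
        have hq₀odd : Odd q₀ := by
          have : Odd (q₀ ^ 2) := by rw [← hqk]; exact Nat.odd_iff.2 hodd
          exact (Nat.odd_pow_iff (by norm_num)).1 this
        have hhalf : Even (Fintype.card F / 2) := by
          rw [hqk]
          exact Cfsg.Agent.Lib.Helper10.Sf.even_half q₀ hq₀odd
        have hy2 : (-z) ^ (Fintype.card F / 2) = -1 := by
          rw [neg_pow, hhalf.neg_one_pow, one_mul]
          rcases FiniteField.pow_dichotomy hrc hz0 with h5 | h5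
          · exact absurd ((FiniteField.isSquare_iff hrc hz0).2 h5) hsq
          · exact h5
        have hkey := Cfsg.Agent.Lib.Helper10.Sf.nt_key h2 m hm0 (-z) hdet hy2
        rw [two_mul, hm] at hkey
        omega

end Cfsg.Agent.S5964
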