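import Mathlib
import Cfsg.Statements.S5969
import Cfsg.Agent.Lib.Helper10.ExtD
import Cfsg.Agent.Lib.Helper10.ExtH
import Cfsg.Agent.Lib.Helper10.AltJ

set_option autoImplicit false
open scoped MatrixGroups
open Cfsg

namespace Cfsg.Agent.S5969


/-- Involutions of PSL_n(q) and extension-field subgroups of degree 2. Here `T = PSL_n(F)` for a field `F` with `q = p^f` elements (`n ≥ 2`, `(n, q) ≠ (2, 2), (2, 3)`), `k` is a prime dividing `n`, `K` is a subalgebra of the `n × n` matrices that is a field of degree `k` over `F` (an extension-field structure F_{q^k} on `F^n`), and `H` is the subgroup of matrices of determinant 1 normalizing `K` — a subgroup of type GL_{n/k}(q^k) (maximal except in some small cases; maximality is not assumed); Ω is the set of cosets of `H` in `T`, so an element of `T` of prime order `r` (a matrix `x` of determinant 1 with `x^r` scalar, `x` not scalar) fixes a point of Ω when some conjugate of `x` by a matrix of determinant 1 normalizes `K`. Take `k = 2` and suppose the index of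 `H` is even. Then every involution of `T` is conjugate in `T` into `H` if and only if `n = 2`, or `q` is odd and `(q − 1)_2 ≤ (n)_2`. -/
theorem result {F : Type*} [Field F] [Fintype F] {p : ℕ} [Fact p.Prime] [CharP F p] {q : ℕ} (hq : Fintype.card F = q)
    (n : ℕ) (hn : 2 ≤ n) (hT : (n, q) ≠ (2, 2) ∧ (n, q) ≠ (2, 3))
    (k : ℕ) (hk : k.Prime) (hkn : k ∣ n) (K : Subalgebra F (Matrix (Fin n) (Fin n) F)) (hK : Cfsg.Geo.IsFieldSubalgebra k K) (hk2 : k = 2) (hΩ : 2 ∣ ((Cfsg.Geo.subalgebraNormalizer K).comap (Matrix.SpecialLinearGroup.toGL : Matrix.SpecialLinearGroup (Fin n) F →* GL (Fin n) F)).index) :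
    (∀ x : Matrix.SpecialLinearGroup (Fin n) F,
      (∃ z : F, ((x ^ 2 : Matrix.SpecialLinearGroup (Fin n) F) : Matrix (Fin n) (Fin n) F) = z • (1 : Matrix (Fin n) (Fin n) F)) →
      (∀ z : F, (x : Matrix (Fin n) (Fin n) F) ≠ z • (1 : Matrix (Fin n) (Fin n) F)) →
      ∃ P : Matrix.SpecialLinearGroup (Fin n) F, P⁻¹ * x * P ∈ ((Cfsg.Geo.subalgebraNormalizer K).comap (Matrix.SpecialLinearGroup.toGL : Matrix.SpecialLinearGroup (Fin n) F →* GL (Fin n) F))) ↔
    (n = 2 ∨ (Odd q ∧ padicValNat 2 (q - 1) ≤ padicValNat 2 n)) := by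
  subst hk2
  subst hq
  have hev : Even n := even_iff_two_dvd.2 hkn
  constructor
  · intro h
    by_contra hne
    push Not at hne
    obtain ⟨hn2, hodd⟩ := hne
    have hn3 : 3 ≤ n := by
      obtain ⟨r, hr⟩ := hev
      omega
    by_cases hp2 : p = 2
    · subst hp2
      obtain ⟨x, hx1, hx2, hx3⟩ := Cfsg.Agent.Lib.Helper10.Ext.nec_even hn3 K hK
      exact hx3 (h x hx1 hx2)
    · have hrc : ringChar F ≠ 2 := by
        rw [ringChar.eq F p]
        exact hp2
      have hoddq : Odd (Fintype.card F) := Nat.odd_iff.2 (FiniteField.odd_card_of_char_ne_two hrc)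
      have hlt := hodd hoddq
      obtain ⟨x, hx1, hx2, hx3⟩ := Cfsg.Agent.Lib.Helper10.Ext.nec_odd hn3 K hK hlt
      exact hx3 (h x hx1 hx2)
  · intro hcase x hx hns
    obtain ⟨z, hz⟩ := hx
    rw [sq, Matrix.SpecialLinearGroup.coe_mul] at hz
    by_cases hp2 : p = 2
    · subst hp2
      rcases hcase with h2' | ⟨hoddq, _⟩
      · exact Cfsg.Agent.Lib.Helper10.Ext.suff_even h2' K hK x z hz hns
      · exfalso
        have hrc : ringChar F = 2 := ringChar.eq F 2
        have := FiniteField.even_card_of_char_two hrc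
        have h3 := Nat.odd_iff.1 hoddq
        omega
    · have hrc : ringChar F ≠ 2 := by
        rw [ringChar.eq F p]
        exact hp2
      have hodd : Fintype.card F % 2 = 1 := FiniteField.odd_card_of_char_ne_two hrc
      have h2 : (2 : F) ≠ 0 := Ring.two_ne_zero hrc
      refine Cfsg.Agent.Lib.Helper10.Ext.suff_odd h2 hodd hn hev K hK ?_ x z hz hns
      rcases hcase with h2' | ⟨_, hv⟩
      · exact Or.inl h2'
      · exact Or.inr (Cfsg.Agent.Lib.Helper10.Alt.no_root_neg_one h2 n (by omega) hv)

end Cfsg.Agent.S5969
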