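import Cfsg.Statements.S5983
import Cfsg.Agent.Lib.Helper24.SpOF
import Cfsg.Agent.Lib.Helper27.QuadBridge

set_option autoImplicit false
open scoped MatrixGroups
open Cfsg
open Cfsg.Agent.Lib.Helper24.SpO
open Cfsg.Agent.Lib.Helper24.OInv
open Cfsg.Agent.Lib.Helper19.QuadStd

namespace Cfsg.Agent.S5983

/-- Elements of prime order of PSp_n(q), q even, and the subgroups of orthogonal type. Here `T = Sp_{2d}(F)` for a field `F` of characteristic 2 with `q` elements (`d ≥ 2`, `(d, q) ≠ (2, 2)`), realised as the invertible matrices preserving the standard alternating form; `Q` is a non-degenerate quadratic form on `F^{2d}` whose polar form is that alternating form, and `H` is the subgroup of `T` preserving `Q` up to a scalar (equivalently preserving `Q`) — a subgroup of type O^±_{2d}(q) (maximality is not assumed); `Q` is of plus type when `F^{2d}` contains a `d`-dimensional subspace on which `Q` vanishes, of minus type otherwise. Ω is the set of cosets of `H` in `T`, so an element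 of `T` of prime order `r` (`x ∈ T` with `x^r` scalar, `x` not scalar) fixes a point of Ω exactly when some `T`-conjugate of `x` preserves `Q`. Let `r` be a prime dividing the index of `H`. Then every element of `T` of order `r` fixes a point of Ω if and only if `r = 2` and either `Q` is of plus type or `d` is odd. -/
theorem result {F : Type*} [Field F] [Fintype F] {p : ℕ} [Fact p.Prime] [CharP F p] {q : ℕ} (hq : Fintype.card F = q)
    (hp : p = 2) (d : ℕ) (hd : 2 ≤ d) (hT : (d, q) ≠ (2, 2)) (Q : (Fin d ⊕ Fin d → F) → F) (hQ : Cfsg.Geo.IsNondegenerateQuadraticForm Q)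
    (hQf : ∀ u v, QuadraticMap.polar Q u v = Cfsg.sympForm d F u v)
    (r : ℕ) [Fact r.Prime]
    (hΩ : r ∣ (Cfsg.Geo.quadSimilarityGroup Q).relIndex (Cfsg.spGL d F)) :
    (∀ x ∈ Cfsg.spGL d F, (∃ z : F, ((x ^ r : GL (Fin d ⊕ Fin d) F) : Matrix (Fin d ⊕ Fin d) (Fin d ⊕ Fin d) F) = z • (1 : Matrix (Fin d ⊕ Fin d) (Fin d ⊕ Fin d) F)) →
      (∀ z : F, (x : Matrix (Fin d ⊕ Fin d) (Fin d ⊕ Fin d) F) ≠ z • (1 : Matrix (Fin d ⊕ Fin d) (Fin d ⊕ Fin d) F)) →
      ∃ g ∈ Cfsg.spGL d F, g⁻¹ * x * g ∈ Cfsg.Geo.quadSimilarityGroup Q) ↔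
    (r = 2 ∧ (Cfsg.Geo.IsPlusTypeOn Q ⊤ ∨ Odd d)) := by
  classical
  subst hp
  have h2 : (2 : F) = 0 := by
    have := CharP.cast_eq_zero F 2
    exact_mod_cast this
  have hd1 : 1 ≤ d := by omega
  have hcard : Fintype.card (Fin d ⊕ Fin d) = 2 * d := by
    simp only [Fintype.card_sum, Fintype.card_fin]
    ring
  have hnd := Cfsg.Agent.Lib.Helper27.QuadBridge.toQF_nondeg Q hQ
  have hstruct := exists_std_equiv (q := Fintype.card F) rfl
    (Cfsg.Agent.Lib.Helper27.QuadBridge.toQF Q hQ) hnd hcard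
  constructor
  · intro hall
    by_cases hr2 : r = 2
    · refine ⟨hr2, ?_⟩
      subst hr2
      apply plus_or_odd_of_conj hd1 hQf
      intro x hx hxx hx1
      apply hall x hx ⟨1, by rw [one_smul, Units.val_pow_eq_pow_val, pow_two]; exact hxx⟩
      intro z hz
      exact hx1 (scalar_eq_one_of_sp h2 hd1 x.1 ((mem_spGL_iff x).mp hx) z hz)
    · exfalso
      rcases hstruct with ⟨T, hT⟩ | ⟨k, hk, a, c, hac, T, hT⟩
      · have hT' : ∀ w, Q (T w) = stdPlus d F w := hT
        obtain ⟨x, hx, hxr, hxns, hno⟩ := no_conj_plus hd1 hQf T hT' r hr2 hΩ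
        exact hno (hall x hx ⟨1, by rw [one_smul, Units.val_pow_eq_pow_val]; exact hxr⟩ hxns)
      · have hT' : ∀ w, Q (T w) = stdMinus k F a c w := hT
        obtain ⟨x, hx, hxr, hxns, hno⟩ := no_conj_minus hk hQ.smul hQf a c hac T hT' r hr2 hΩ
        exact hno (hall x hx ⟨1, by rw [one_smul, Units.val_pow_eq_pow_val]; exact hxr⟩ hxns)
  · rintro ⟨hr2, htype⟩
    subst hr2
    intro x hx hz hns
    obtain ⟨z, hz⟩ := hz
    rw [Units.val_pow_eq_pow_val, pow_two] at hz
    have hxx : x.1 * x.1 = 1 := by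
      apply scalar_eq_one_of_sp h2 hd1 (x.1 * x.1) ?_ z hz
      intro u v
      have hsp := (mem_spGL_iff x).mp hx
      rw [← Matrix.mulVec_mulVec, ← Matrix.mulVec_mulVec, hsp, hsp]
    have hx1 : x.1 ≠ 1 := by
      intro h
      exact hns 1 (by rw [one_smul]; exact h)
    rcases hstruct with ⟨T, hT⟩ | ⟨k, hk, a, c, hac, T, hT⟩
    · have hT' : ∀ w, Q (T w) = stdPlus d F w := hT
      apply invol_conj_into hd1 hQf ?_ ?_ x hx hxx hx1
      · intro s hs1 hsd
        obtain ⟨t', h1, h3, h4⟩ := plus_repO (F := F) h2 d s hs1 hsd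
        obtain ⟨t, ht, htt, hrk, halt⟩ := rep_transport T hT' t' h1
        exact ⟨t, ht, htt, by rw [hrk, h3], fun h => h4 (halt.mp h)⟩
      · intro k hk1 hkd
        obtain ⟨t', h1, h3, h4⟩ := plus_repA (F := F) h2 d k hk1 hkd
        obtain ⟨t, ht, htt, hrk, halt⟩ := rep_transport T hT' t' h1
        exact ⟨t, ht, htt, by rw [hrk, h3], halt.mpr h4⟩
    · have hT' : ∀ w, Q (T w) = stdMinus k F a c w := hT
      subst hk
      have hodd : Odd (k + 1) := by
        rcases htype with h | h
        · exact absurd h (not_plusType_of_equiv (by rw [hcard]) Q a c hac T hT')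
        · exact h
      have ha := a_ne_zero hac
      apply invol_conj_into hd1 hQf ?_ ?_ x hx hxx hx1
      · intro s hs1 hsd
        obtain ⟨t', h1, h3, h4⟩ := minus_repO (F := F) h2 k a c ha s hs1 hsd
        obtain ⟨t, ht, htt, hrk, halt⟩ := rep_transport T hT' t' h1
        exact ⟨t, ht, htt, by rw [hrk, h3], fun h => h4 (halt.mp h)⟩
      · intro k' hk1 hkd
        have hk'k : 2 * k' ≤ k := by
          obtain ⟨j, hj⟩ := hodd
          omega
        obtain ⟨t', h1, h3, h4⟩ := minus_repA (F := F) h2 k a c ha k' hk1 hk'k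
        obtain ⟨t, ht, htt, hrk, halt⟩ := rep_transport T hT' t' h1
        exact ⟨t, ht, htt, by rw [hrk, h3], halt.mpr h4⟩

end Cfsg.Agent.S5983
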