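import Cfsg.Statements.S5997
import Cfsg.Agent.Lib.Helper1.QuatNorm5

set_option autoImplicit false
open scoped MatrixGroups
open Cfsg

namespace Cfsg.Agent.S5997

/-- Elements of prime order of PSL_2(p) and the normalizer of a quaternion subgroup. Here `T = PSL_2(F)` for the field `F` with `p` elements, `p ≥ 5` prime; `R` is a subgroup of GL_2(F) isomorphic to the quaternion group of order 8 (an absolutely irreducible 2-group of symplectic type), and `H` is the subgroup of matrices of determinant 1 normalizing `R` — a subgroup of type 2^{1+2}.O₂⁻(2), isomorphic modulo scalars to A₄ or S₄ (maximality is not assumed). Ω is the set of cosets of `H` in `T`, so an element of `T` of prime order `r` (a matrix `x` of determinant 1 with `x^r` scalar, `x` not scalar) fixes a point of Ω exactly when some conjugate of `x` by a matrix of determinant 1 normalizes `R`. Let `r` be a prime dividing the index of `H`. Then every element of `T` of order `r` fixes a point of Ω if and only if `r = 2` or `r = 3`. -/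
theorem result {F : Type*} [Field F] [Fintype F] {p : ℕ} [Fact p.Prime] [CharP F p] (hF : Fintype.card F = p) (hp : 5 ≤ p)
    (R : Subgroup (GL (Fin 2) F)) (hR : Nonempty (↥R ≃* QuaternionGroup 2))
    (r : ℕ) [Fact r.Prime]
    (hΩ : r ∣ (Cfsg.Geo.subgroupNormalizer R).relIndex (Cfsg.Geo.specialLinear (Fin 2) F)) :
    (∀ x ∈ Cfsg.Geo.specialLinear (Fin 2) F, (∃ z : F, ((x ^ r : GL (Fin 2) F) : Matrix (Fin 2) (Fin 2) F) = z • (1 : Matrix (Fin 2) (Fin 2) F)) →
      (∀ z : F, (x : Matrix (Fin 2) (Fin 2) F) ≠ z • (1 : Matrix (Fin 2) (Fin 2) F)) →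
      ∃ g ∈ Cfsg.Geo.specialLinear (Fin 2) F, g⁻¹ * x * g ∈ Cfsg.Geo.subgroupNormalizer R) ↔ (r = 2 ∨ r = 3) := by
  classical
  open Cfsg.Agent.Lib.Helper1.QuatNorm in
  obtain ⟨e⟩ := hR
  obtain ⟨d⟩ := exists_qdata R e
  have hpp : p.Prime := Fact.out
  have hnat : ∀ n : ℕ, 0 < n → n < p → ((n : ℕ) : F) ≠ 0 := by
    intro n hn0 hnp h
    have := (CharP.cast_eq_zero_iff F p n).mp h
    exact absurd (Nat.le_of_dvd hn0 this) (by omega)
  have h2 : (2 : F) ≠ 0 := by exact_mod_cast hnat 2 (by norm_num) (by omega)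
  have h3 : (3 : F) ≠ 0 := by exact_mod_cast hnat 3 (by norm_num) (by omega)
  have h4 : (4 : F) ≠ 0 := by exact_mod_cast hnat 4 (by norm_num) (by omega)
  have hRN : R ≤ Cfsg.Geo.subgroupNormalizer R := Subgroup.le_normalizer
  constructor
  · -- `⇒`
    intro hP
    by_contra hne
    push_neg at hne
    obtain ⟨hr2, hr3⟩ := hne
    have hrp : r.Prime := Fact.out
    have hr5 : 5 ≤ r := by
      have := hrp.two_le
      rcases (by omega : r = 4 ∨ 5 ≤ r) with h | h
      · exfalso; rw [h] at hrp; norm_num at hrp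
      · exact h
    have hdvd : r ∣ Nat.card (Cfsg.Geo.specialLinear (Fin 2) F) :=
      hΩ.trans (Subgroup.relIndex_dvd_card _ _)
    obtain ⟨x, hx⟩ := exists_prime_orderOf_dvd_card' (G := Cfsg.Geo.specialLinear (Fin 2) F) r hdvd
    have hx0 : orderOf (x : GL (Fin 2) F) = r := by rw [Subgroup.orderOf_coe, hx]
    -- scalars of determinant one square to one
    have hsc : ∀ y : GL (Fin 2) F, y ∈ Cfsg.Geo.specialLinear (Fin 2) F →
        IsScalar (y : Matrix (Fin 2) (Fin 2) F) → orderOf y = r → False := by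
      rintro y hy ⟨z, hz⟩ hyr
      have hdet := (mem_specialLinear_iff y).mp hy
      rw [hz, Matrix.det_smul, Matrix.det_one, mul_one, Fintype.card_fin] at hdet
      have hyy : y * y = 1 := by
        apply Units.ext
        rw [Units.val_mul, hz, Matrix.smul_mul, Matrix.mul_smul, mul_one, smul_smul, ← pow_two,
          hdet, one_smul]
        rfl
      have : orderOf y ∣ 2 := orderOf_dvd_of_pow_eq_one (by rw [pow_two, hyy])
      rw [hyr] at this
      have := Nat.le_of_dvd (by norm_num) this
      omega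
    obtain ⟨g, hg, hgx⟩ := hP (x : GL (Fin 2) F) x.2
      ⟨1, by rw [← hx0, pow_orderOf_eq_one]; simp⟩
      (fun z hz => hsc _ x.2 ⟨z, hz⟩ hx0)
    obtain ⟨y, hy⟩ : ∃ y : GL (Fin 2) F, y = g⁻¹ * (x : GL (Fin 2) F) * g := ⟨_, rfl⟩
    rw [← hy] at hgx
    have hyr : orderOf y = r := by
      have : y = MulAut.conj g⁻¹ (x : GL (Fin 2) F) := by
        rw [MulAut.conj_apply, inv_inv, hy]
      rw [this, MulEquiv.orderOf_eq, hx0]
    have hySL : y ∈ Cfsg.Geo.specialLinear (Fin 2) F := by
      rw [hy]
      exact Subgroup.mul_mem _ (Subgroup.mul_mem _ (Subgroup.inv_mem _ hg) x.2) hg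
    haveI : Finite R := Finite.of_equiv _ e.symm.toEquiv
    have hR8 : Nat.card R = 8 := by
      rw [Nat.card_congr e.toEquiv, Nat.card_eq_fintype_card, QuaternionGroup.card]
    have hcy : y * d.c = d.c * y := by
      apply Units.ext
      rw [Units.val_mul, Units.val_mul]
      have : (d.c : Matrix (Fin 2) (Fin 2) F) = -1 := d.C_eq
      rw [this, mul_neg, neg_mul, mul_one, one_mul]
    have hcent := centralizes_of_prime_order R y hgx r hyr hR8 d.c d.hc d.c1 hcy hr5
    exact hsc y hySL (d.scalar_of_centralizes h2 y hcent) hyr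
  · -- `⇐`
    rintro (rfl | rfl)
    · -- `r = 2`
      intro x hx ⟨z, hz⟩ hns
      have hX : ¬ IsScalar (x : Matrix (Fin 2) (Fin 2) F) := fun ⟨z, hz⟩ => hns z hz
      have hdet := (mem_specialLinear_iff x).mp hx
      have hch := ch2 (x : Matrix (Fin 2) (Fin 2) F)
      rw [Units.val_pow_eq_pow_val, pow_two] at hz
      rw [hz, hdet] at hch
      have h' : (x : Matrix (Fin 2) (Fin 2) F).trace • (x : Matrix (Fin 2) (Fin 2) F) =
          (z + 1) • (1 : Matrix (Fin 2) (Fin 2) F) := by
        rw [add_smul, hch]; abel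
      have htr := (smul_eq_smul_one _ hX _ _ h').1
      obtain ⟨g, hg, hgx⟩ := exists_conj_of_trace_eq h2 x d.u hx (d.u_mem_SL h2)
        (by rw [htr, d.trace_u h2]) (by rw [htr]; simpa using h4.symm)
      exact ⟨g, hg, by rw [hgx]; exact hRN d.hu⟩
    · -- `r = 3`
      intro x hx ⟨z, hz⟩ hns
      have hX : ¬ IsScalar (x : Matrix (Fin 2) (Fin 2) F) := fun ⟨z, hz⟩ => hns z hz
      have hdet := (mem_specialLinear_iff x).mp hx
      have hch := ch2 (x : Matrix (Fin 2) (Fin 2) F)
      rw [hdet] at hch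
      rw [Units.val_pow_eq_pow_val, pow_succ, pow_two] at hz
      set X := (x : Matrix (Fin 2) (Fin 2) F) with hXdef
      set t := X.trace with ht
      have h' : (t ^ 2 - 1) • X = (z + t) • (1 : Matrix (Fin 2) (Fin 2) F) := by
        rw [hch, sub_mul, Matrix.smul_mul, hch, one_smul, one_mul] at hz
        rw [sub_smul, add_smul, one_smul, ← hz, pow_two, mul_smul, smul_sub]
        abel
      have ht1 : t ^ 2 = 1 := sub_eq_zero.mp (smul_eq_smul_one _ hX _ _ h').1
      have hΔ : t ^ 2 ≠ 4 := by
        rw [ht1]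
        intro h
        apply h3
        linear_combination -h
      have hwN : d.w h2 ∈ Cfsg.Geo.subgroupNormalizer R := d.w_mem_normalizer h2
      have ht' : t = -1 ∨ t = 1 := by
        have : (t - 1) * (t + 1) = 0 := by linear_combination ht1
        rcases mul_eq_zero.mp this with h | h
        · right; linear_combination h
        · left; linear_combination h
      rcases ht' with htm | htp
      · obtain ⟨g, hg, hgx⟩ := exists_conj_of_trace_eq h2 x (d.w h2) hx (d.w_mem_SL h2)
          (by rw [d.trace_w h2]; exact htm) hΔ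
        exact ⟨g, hg, by rw [hgx]; exact hwN⟩
      · have hnegSL : -(d.w h2) ∈ Cfsg.Geo.specialLinear (Fin 2) F := by
          rw [mem_specialLinear_iff, Units.val_neg, Matrix.det_neg, Fintype.card_fin]
          rw [(mem_specialLinear_iff _).mp (d.w_mem_SL h2)]
          norm_num
        have hnegN : -(d.w h2) ∈ Cfsg.Geo.subgroupNormalizer R := by
          unfold Cfsg.Geo.subgroupNormalizer at hwN ⊢
          rw [Subgroup.mem_normalizer_iff] at hwN ⊢
          intro h
          rw [hwN h]
          simp [neg_mul, mul_neg]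
        obtain ⟨g, hg, hgx⟩ := exists_conj_of_trace_eq h2 x (-(d.w h2)) hx hnegSL
          (by rw [Units.val_neg, Matrix.trace_neg, d.trace_w h2, neg_neg]; exact htp) hΔ
        exact ⟨g, hg, by rw [hgx]; exact hnegN⟩

end Cfsg.Agent.S5997
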